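import Cfsg.Agent.Helper28.FicB7

/-! # The Fi₂₃ presentation, cosets of the subgroup generated by a, …, i: the coset enumeration, part 8 (helper28; generated) -/

set_option autoImplicit false

noncomputable section

namespace Cfsg.Agent.Helper28.FicA

open Cfsg.Agent.Helper28.CosetTable

def N64043 : Q := sm gh N63668
def N64044 : Q := sm gi N63669
def N64045 : Q := sm gi N63670
def N64046 : Q := sm gf N63672
def N64047 : Q := sm gh N63672
def N64048 : Q := sm ge N63673
def N64049 : Q := sm gi N63674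
def N64050 : Q := sm gb N63681
def N64051 : Q := sm gb N63682
def N64052 : Q := sm gb N63683
def N64053 : Q := sm gh N63683
def N64054 : Q := sm gi N63684
def N64055 : Q := sm gi N63685
def N64056 : Q := sm gc N63687
def N64057 : Q := sm gb N63690
def N64058 : Q := sm gb N63691
def N64059 : Q := sm gc N63692
def N64060 : Q := sm gc N63695
def N64061 : Q := sm gc N63697
def N64062 : Q := sm gb N63699
def N64063 : Q := sm gb N63700
def N64064 : Q := sm gb N63701
def N64065 : Q := sm gb N63703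
def N64066 : Q := sm gh N63704
def N64067 : Q := sm gi N63705
def N64068 : Q := sm gc N63708
def N64069 : Q := sm gb N63710
def N64070 : Q := sm gb N63712
def N64071 : Q := sm gb N63713
def N64072 : Q := sm gb N63714
def N64073 : Q := sm gc N63716
def N64074 : Q := sm gb N63719
def N64075 : Q := sm gc N63720
def N64076 : Q := sm gb N63723
def N64077 : Q := sm gb N63724
def N64078 : Q := sm gb N63725
def N64079 : Q := sm gb N63727
def N64080 : Q := sm gb N63728
def N64081 : Q := sm gb N63730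
def N64082 : Q := sm gb N63731
def N64083 : Q := sm gb N63734
def N64084 : Q := sm gb N63736
def N64085 : Q := sm gh N63736
def N64086 : Q := sm gi N63737
def N64087 : Q := sm gi N63738
def N64088 : Q := sm gc N63741
def N64089 : Q := sm gb N63743
def N64090 : Q := sm gb N63744
def N64091 : Q := sm gd N63748
def N64092 : Q := sm gc N63751
def N64093 : Q := sm gh N63751
def N64094 : Q := sm gh N63752
def N64095 : Q := sm gf N63754
def N64096 : Q := sm gg N63755
def N64097 : Q := sm gc N63758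
def N64098 : Q := sm gf N63758
def N64099 : Q := sm gg N63759
def N64100 : Q := sm gf N63760
def N64101 : Q := sm ge N63761
def N64102 : Q := sm gg N63761
def N64103 : Q := sm gc N63765
def N64104 : Q := sm gf N63765
def N64105 : Q := sm gh N63765
def N64106 : Q := sm gg N63766
def N64107 : Q := sm gf N63767
def N64108 : Q := sm gh N63767
def N64109 : Q := sm gg N63768
def N64110 : Q := sm gh N63768
def N64111 : Q := sm gb N63774
def N64112 : Q := sm gh N63774
def N64113 : Q := sm gi N63775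
def N64114 : Q := sm gi N63776
def N64115 : Q := sm gc N63778
def N64116 : Q := sm gg N63779
def N64117 : Q := sm gh N63783
def N64118 : Q := sm gc N63787
def N64119 : Q := sm gf N63787
def N64120 : Q := sm gf N63789
def N64121 : Q := sm ge N63790
def N64122 : Q := sm gb N63792
def N64123 : Q := sm gf N63792
def N64124 : Q := sm ge N63793
def N64125 : Q := sm ge N63794
def N64126 : Q := sm gc N63798
def N64127 : Q := sm gf N63798
def N64128 : Q := sm gh N63798
def N64129 : Q := sm gf N63800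
def N64130 : Q := sm gh N63800
def N64131 : Q := sm gh N63801
def N64132 : Q := sm gb N63804
def N64133 : Q := sm gf N63804
def N64134 : Q := sm gh N63804
def N64135 : Q := sm gi N63806
def N64136 : Q := sm gi N63808
def N64137 : Q := sm gc N63812
def N64138 : Q := sm gb N63814
def N64139 : Q := sm gb N63815
def N64140 : Q := sm gb N63816
def N64141 : Q := sm gb N63817
def N64142 : Q := sm gh N63817
def N64143 : Q := sm gi N63818
def N64144 : Q := sm gi N63819
def N64145 : Q := sm gc N63822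
def N64146 : Q := sm gf N63822
def N64147 : Q := sm gg N63823
def N64148 : Q := sm gf N63824
def N64149 : Q := sm gc N63827
def N64150 : Q := sm gf N63827
def N64151 : Q := sm gg N63828
def N64152 : Q := sm gf N63829
def N64153 : Q := sm gc N63833
def N64154 : Q := sm gf N63833
def N64155 : Q := sm gf N63835
def N64156 : Q := sm gb N63837
def N64157 : Q := sm gh N63837
def N64158 : Q := sm gb N63841
def N64159 : Q := sm gf N63841
def N64160 : Q := sm ge N63842
def N64161 : Q := sm ge N63843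
def N64162 : Q := sm gb N63845
def N64163 : Q := sm gf N63845
def N64164 : Q := sm gh N63845
def N64165 : Q := sm gh N63846
def N64166 : Q := sm gh N63848
def N64167 : Q := sm gh N63851
def N64168 : Q := sm gi N63852
def N64169 : Q := sm gc N63855
def N64170 : Q := sm gf N63855
def N64171 : Q := sm gh N63855
def N64172 : Q := sm gf N63857
def N64173 : Q := sm gh N63857
def N64174 : Q := sm gb N63860
def N64175 : Q := sm gh N63860
def N64176 : Q := sm gi N63861
def N64177 : Q := sm gi N63862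
def N64178 : Q := sm gb N63864
def N64179 : Q := sm gb N63865
def N64180 : Q := sm gb N63866
def N64181 : Q := sm gf N63867
def N64182 : Q := sm ge N63868
def N64183 : Q := sm gc N63871
def N64184 : Q := sm gb N63873
def N64185 : Q := sm gf N63873
def N64186 : Q := sm gh N63873
def N64187 : Q := sm gh N63878
def N64188 : Q := sm gd N63879
def N64189 : Q := sm gi N63879
def N64190 : Q := sm ge N63881
def N64191 : Q := sm gc N63883
def N64192 : Q := sm gc N63886
def N64193 : Q := sm gb N63889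
def N64194 : Q := sm gb N63890
def N64195 : Q := sm gc N63892
def N64196 : Q := sm gg N63893
def N64197 : Q := sm gc N63896
def N64198 : Q := sm gf N63896
def N64199 : Q := sm gh N63896
def N64200 : Q := sm gg N63897
def N64201 : Q := sm gf N63898
def N64202 : Q := sm gb N63903
def N64203 : Q := sm gb N63905
def N64204 : Q := sm gf N63905
def N64205 : Q := sm ge N63906
def N64206 : Q := sm ge N63907
def N64207 : Q := sm gc N63911
def N64208 : Q := sm gb N63913
def N64209 : Q := sm gb N63917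
def N64210 : Q := sm gf N63917
def N64211 : Q := sm ge N63918
def N64212 : Q := sm gg N63918
def N64213 : Q := sm ge N63920
def N64214 : Q := sm gg N63920
def N64215 : Q := sm gb N63923
def N64216 : Q := sm gf N63923
def N64217 : Q := sm gh N63923
def N64218 : Q := sm gg N63924
def N64219 : Q := sm gh N63924
def N64220 : Q := sm gg N63927
def N64221 : Q := sm gh N63927
def N64222 : Q := sm gh N63932
def N64223 : Q := sm gi N63933
def N64224 : Q := sm gb N63936
def N64225 : Q := sm gb N63937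
def N64226 : Q := sm gb N63938
def N64227 : Q := sm gf N63938
def N64228 : Q := sm ge N63939
def N64229 : Q := sm ge N63940
def N64230 : Q := sm gf N63942
def N64231 : Q := sm ge N63943
def N64232 : Q := sm gb N63946
def N64233 : Q := sm gb N63947
def N64234 : Q := sm gb N63948
def N64235 : Q := sm gf N63948
def N64236 : Q := sm gh N63948
def N64237 : Q := sm gh N63949
def N64238 : Q := sm gh N63951
def N64239 : Q := sm gf N63954
def N64240 : Q := sm gh N63954
def N64241 : Q := sm ge N63955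
def N64242 : Q := sm gi N63956
def N64243 : Q := sm gb N63962
def N64244 : Q := sm gb N63964
def N64245 : Q := sm gb N63967
def N64246 : Q := sm gh N63967
def N64247 : Q := sm gb N63970
def N64248 : Q := sm gf N63970
def N64249 : Q := sm gh N63970
def N64250 : Q := sm gh N63976
def N64251 : Q := sm gb N63978
def N64252 : Q := sm gb N63980
def N64253 : Q := sm gb N63982
def N64254 : Q := sm gb N63983
def N64255 : Q := sm gh N63983
def N64256 : Q := sm gh N63986
def N64257 : Q := sm gb N63988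
def N64258 : Q := sm gb N63989
def N64259 : Q := sm gh N63989
def N64260 : Q := sm gh N63992
def N64261 : Q := sm gi N63993
def N64262 : Q := sm gb N63998
def N64263 : Q := sm gb N64000
def N64264 : Q := sm gf N64000
def N64265 : Q := sm gh N64000
def N64266 : Q := sm gf N64006
def N64267 : Q := sm gh N64006
def N64268 : Q := sm gh N64009
def N64269 : Q := sm gi N64010
def N64270 : Q := sm gd N64013
def N64271 : Q := sm gi N64013
def N64272 : Q := sm gi N64014
def N64273 : Q := sm gb N64017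
def N64274 : Q := sm gh N64018
def N64275 : Q := sm gb N64022
def N64276 : Q := sm gb N64026
def N64277 : Q := sm gh N64027
def N64278 : Q := sm gi N64028
def N64279 : Q := sm gb N64034
def N64280 : Q := sm gb N64035
def N64281 : Q := sm gf N64035
def N64282 : Q := sm gh N64035
def N64283 : Q := sm gf N64040
def N64284 : Q := sm gh N64042
def N64285 : Q := sm gi N64043
def N64286 : Q := sm ge N64046
def N64287 : Q := sm gi N64047
def N64288 : Q := sm gh N64052
def N64289 : Q := sm gi N64053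
def N64290 : Q := sm gb N64056
def N64291 : Q := sm gb N64059
def N64292 : Q := sm gb N64060
def N64293 : Q := sm gb N64061
def N64294 : Q := sm gi N64066
def N64295 : Q := sm gb N64068
def N64296 : Q := sm gb N64073
def N64297 : Q := sm gb N64075
def N64298 : Q := sm gh N64084
def N64299 : Q := sm gi N64085
def N64300 : Q := sm gb N64088
def N64301 : Q := sm gb N64092
def N64302 : Q := sm gh N64092
def N64303 : Q := sm gb N64097
def N64304 : Q := sm gf N64097
def N64305 : Q := sm ge N64098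
def N64306 : Q := sm gg N64098
def N64307 : Q := sm ge N64100
def N64308 : Q := sm gg N64100
def N64309 : Q := sm gb N64103
def N64310 : Q := sm gf N64103
def N64311 : Q := sm gh N64103
def N64312 : Q := sm gg N64104
def N64313 : Q := sm gh N64104
def N64314 : Q := sm gg N64107
def N64315 : Q := sm gh N64107
def N64316 : Q := sm gh N64111
def N64317 : Q := sm gi N64112
def N64318 : Q := sm gb N64115
def N64319 : Q := sm gb N64118
def N64320 : Q := sm gf N64118
def N64321 : Q := sm ge N64119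
def N64322 : Q := sm ge N64120
def N64323 : Q := sm gf N64122
def N64324 : Q := sm ge N64123
def N64325 : Q := sm gb N64126
def N64326 : Q := sm gf N64126
def N64327 : Q := sm gh N64126
def N64328 : Q := sm gh N64127
def N64329 : Q := sm gh N64129
def N64330 : Q := sm gf N64132
def N64331 : Q := sm gh N64132
def N64332 : Q := sm gi N64134
def N64333 : Q := sm gb N64137
def N64334 : Q := sm gh N64141
def N64335 : Q := sm gi N64142
def N64336 : Q := sm gb N64145
def N64337 : Q := sm gf N64145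
def N64338 : Q := sm gb N64149
def N64339 : Q := sm gf N64149
def N64340 : Q := sm gb N64153
def N64341 : Q := sm gf N64153
def N64342 : Q := sm gh N64156
def N64343 : Q := sm gf N64158
def N64344 : Q := sm ge N64159
def N64345 : Q := sm gf N64162
def N64346 : Q := sm gh N64162
def N64347 : Q := sm gh N64163
def N64348 : Q := sm gi N64167
def N64349 : Q := sm gb N64169
def N64350 : Q := sm gf N64169
def N64351 : Q := sm gh N64169
def N64352 : Q := sm gh N64174
def N64353 : Q := sm gi N64175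
def N64354 : Q := sm ge N64181
def N64355 : Q := sm gb N64183
def N64356 : Q := sm gf N64184
def N64357 : Q := sm gh N64184
def N64358 : Q := sm gd N64187
def N64359 : Q := sm gi N64187
def N64360 : Q := sm ge N64188
def N64361 : Q := sm gb N64191
def N64362 : Q := sm gb N64192
def N64363 : Q := sm gb N64195
def N64364 : Q := sm gb N64197
def N64365 : Q := sm gf N64197
def N64366 : Q := sm gf N64203
def N64367 : Q := sm ge N64204
def N64368 : Q := sm gb N64207
def N64369 : Q := sm gf N64209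
def N64370 : Q := sm ge N64210
def N64371 : Q := sm gg N64210
def N64372 : Q := sm gf N64215
def N64373 : Q := sm gh N64215
def N64374 : Q := sm gg N64216
def N64375 : Q := sm gh N64216
def N64376 : Q := sm gi N64222
def N64377 : Q := sm gf N64226
def N64378 : Q := sm ge N64227
def N64379 : Q := sm ge N64230
def N64380 : Q := sm gf N64234
def N64381 : Q := sm gh N64234
def N64382 : Q := sm gh N64235
def N64383 : Q := sm ge N64239
def N64384 : Q := sm gi N64240
def N64385 : Q := sm gh N64245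
def N64386 : Q := sm gf N64247
def N64387 : Q := sm gh N64247
def N64388 : Q := sm gh N64254
def N64389 : Q := sm gh N64258
def N64390 : Q := sm gi N64260
def N64391 : Q := sm gf N64263
def N64392 : Q := sm gh N64263
def N64393 : Q := sm gi N64268
def N64394 : Q := sm gi N64270
def N64395 : Q := sm gi N64277
def N64396 : Q := sm gf N64280
def N64397 : Q := sm gh N64280
def N64398 : Q := sm gi N64284
def N64399 : Q := sm gi N64288
def N64400 : Q := sm gi N64298
def N64401 : Q := sm gh N64301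
def N64402 : Q := sm gf N64303
def N64403 : Q := sm ge N64304
def N64404 : Q := sm gg N64304
def N64405 : Q := sm gf N64309
def N64406 : Q := sm gh N64309
def N64407 : Q := sm gg N64310
def N64408 : Q := sm gh N64310
def N64409 : Q := sm gi N64316
def N64410 : Q := sm gf N64319
def N64411 : Q := sm ge N64320
def N64412 : Q := sm ge N64323
def N64413 : Q := sm gf N64325
def N64414 : Q := sm gh N64325
def N64415 : Q := sm gh N64326
def N64416 : Q := sm gi N64331
def N64417 : Q := sm gi N64334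
def N64418 : Q := sm gf N64336
def N64419 : Q := sm gf N64338
def N64420 : Q := sm gf N64340
def N64421 : Q := sm ge N64343
def N64422 : Q := sm gh N64345
def N64423 : Q := sm gf N64349
def N64424 : Q := sm gh N64349
def N64425 : Q := sm gi N64352
def N64426 : Q := sm ge N64358
def N64427 : Q := sm gf N64364
def N64428 : Q := sm ge N64366
def N64429 : Q := sm ge N64369
def N64430 : Q := sm gg N64369
def N64431 : Q := sm gg N64372
def N64432 : Q := sm gh N64372
def N64433 : Q := sm ge N64377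
def N64434 : Q := sm gh N64380
def N64435 : Q := sm ge N64402
def N64436 : Q := sm gg N64402
def N64437 : Q := sm gg N64405
def N64438 : Q := sm gh N64405
def N64439 : Q := sm ge N64410
def N64440 : Q := sm gh N64413
theorem L0 : sm ga N0 = N0 := sded_0_0
theorem L1 : sm gb N0 = N0 := sded_1_0
theorem L2 : sm gc N0 = N0 := sded_2_0
theorem L3 : sm gd N0 = N0 := sded_3_0
theorem L4 : sm ge N0 = N0 := sded_4_0
theorem L5 : sm gf N0 = N0 := sded_5_0
theorem L6 : sm gg N0 = N0 := sded_6_0
theorem L7 : sm gh N0 = N0 := sded_7_0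
theorem L8 : sm gi N0 = N0 := sded_8_0
theorem L9 : sm gj N0 = N1 := rfl
theorem L11 : sm ga N1 = N1 := ded_16_1 (flp_j L9) L0 L9
theorem L12 : sm gb N1 = N1 := ded_24_1 (flp_j L9) L1 L9
theorem L13 : sm gc N1 = N1 := ded_31_1 (flp_j L9) L2 L9
theorem L14 : sm gd N1 = N1 := ded_37_1 (flp_j L9) L3 L9
theorem L15 : sm ge N1 = N1 := ded_42_1 (flp_j L9) L4 L9
theorem L16 : sm gf N1 = N1 := ded_46_1 (flp_j L9) L5 L9
theorem L17 : sm gh N1 = N1 := ded_52_2 (flp_j L9) L7 L9
theorem L18 : sm gi N1 = N1 := ded_53_2 (flp_j L9) L8 L9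
theorem L19 : sm gg N1 = N2 := rfl
theorem L21 : sm ga N2 = N2 := ded_15_1 (flp_g L19) L11 L19
theorem L22 : sm gb N2 = N2 := ded_23_1 (flp_g L19) L12 L19
theorem L23 : sm gc N2 = N2 := ded_30_1 (flp_g L19) L13 L19
theorem L24 : sm gd N2 = N2 := ded_36_1 (flp_g L19) L14 L19
theorem L25 : sm ge N2 = N2 := ded_41_1 (flp_g L19) L15 L19
theorem L26 : sm gh N2 = N2 := ded_50_2 (flp_g L19) L17 L19
theorem L27 : sm gi N2 = N2 := ded_51_2 (flp_g L19) L18 L19
theorem L28 : sm gj N2 = N2 := ded_49_2 (flp_g L19) (flp_j L9) L6 L9 L19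
theorem L29 : sm gf N2 = N3 := rfl
theorem L31 : sm ga N3 = N3 := ded_14_1 (flp_f L29) L21 L29
theorem L32 : sm gb N3 = N3 := ded_22_1 (flp_f L29) L22 L29
theorem L33 : sm gc N3 = N3 := ded_29_1 (flp_f L29) L23 L29
theorem L34 : sm gd N3 = N3 := ded_35_1 (flp_f L29) L24 L29
theorem L35 : sm gj N3 = N3 := ded_46_2 (flp_f L29) L28 L29
theorem L36 : sm gh N3 = N3 := ded_47_2 (flp_f L29) L26 L29
theorem L37 : sm gi N3 = N3 := ded_48_2 (flp_f L29) L27 L29
theorem L38 : sm gg N3 = N3 := ded_45_2 (flp_f L29) (flp_g L19) L16 L19 L29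
theorem L39 : sm ge N3 = N4 := rfl
theorem L41 : sm ga N4 = N4 := ded_13_1 (flp_e L39) L31 L39
theorem L42 : sm gb N4 = N4 := ded_21_1 (flp_e L39) L32 L39
theorem L43 : sm gc N4 = N4 := ded_28_1 (flp_e L39) L33 L39
theorem L44 : sm gg N4 = N4 := ded_41_2 (flp_e L39) L38 L39
theorem L45 : sm gj N4 = N4 := ded_42_2 (flp_e L39) L35 L39
theorem L46 : sm gh N4 = N4 := ded_43_2 (flp_e L39) L36 L39
theorem L47 : sm gi N4 = N4 := ded_44_2 (flp_e L39) L37 L39
theorem L48 : sm gf N4 = N4 := ded_40_2 (flp_e L39) (flp_f L29) L25 L29 L39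
theorem L49 : sm gd N4 = N5 := rfl
theorem L51 : sm ga N5 = N5 := ded_12_1 (flp_d L49) L41 L49
theorem L52 : sm gb N5 = N5 := ded_20_1 (flp_d L49) L42 L49
theorem L53 : sm gf N5 = N5 := ded_35_2 (flp_d L49) L48 L49
theorem L54 : sm gg N5 = N5 := ded_36_2 (flp_d L49) L44 L49
theorem L55 : sm gj N5 = N5 := ded_37_2 (flp_d L49) L45 L49
theorem L56 : sm gi N5 = N5 := ded_39_2 (flp_d L49) L47 L49
theorem L57 : sm ge N5 = N5 := ded_34_2 (flp_d L49) (flp_e L39) L34 L39 L49
theorem L58 : sm gc N5 = N6 := rfl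
theorem L60 : sm ga N6 = N6 := ded_11_1 (flp_c L58) L51 L58
theorem L61 : sm ge N6 = N6 := ded_28_2 (flp_c L58) L57 L58
theorem L62 : sm gf N6 = N6 := ded_29_2 (flp_c L58) L53 L58
theorem L63 : sm gg N6 = N6 := ded_30_2 (flp_c L58) L54 L58
theorem L64 : sm gj N6 = N6 := ded_31_2 (flp_c L58) L55 L58
theorem L65 : sm gi N6 = N6 := ded_33_2 (flp_c L58) L56 L58
theorem L66 : sm gd N6 = N6 := ded_27_2 (flp_c L58) (flp_d L49) L43 L49 L58
theorem L67 : sm gh N5 = N7 := rfl
theorem L69 : sm ga N7 = N7 := ded_17_1 (flp_h L67) L51 L67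
theorem L70 : sm gb N7 = N7 := ded_25_1 (flp_h L67) L52 L67
theorem L71 : sm ge N7 = N7 := ded_43_1 (flp_h L67) L57 L67
theorem L72 : sm gf N7 = N7 := ded_47_1 (flp_h L67) L53 L67
theorem L73 : sm gg N7 = N7 := ded_50_1 (flp_h L67) L54 L67
theorem L74 : sm gj N7 = N7 := ded_52_1 (flp_h L67) L55 L67
theorem L75 : sm gd N7 = N7 := ded_38_1 (flp_h L67) (flp_d L49) L46 L49 L67
theorem L76 : sm gb N6 = N8 := rfl
theorem L78 : sm gd N8 = N8 := ded_20_2 (flp_b L76) L66 L76
theorem L79 : sm ge N8 = N8 := ded_21_2 (flp_b L76) L61 L76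
theorem L80 : sm gf N8 = N8 := ded_22_2 (flp_b L76) L62 L76
theorem L81 : sm gg N8 = N8 := ded_23_2 (flp_b L76) L63 L76
theorem L82 : sm gj N8 = N8 := ded_24_2 (flp_b L76) L64 L76
theorem L83 : sm gi N8 = N8 := ded_26_2 (flp_b L76) L65 L76
theorem L84 : sm gc N8 = N8 := ded_19_2 (flp_b L76) (flp_c L58) L52 L58 L76
theorem L85 : sm gh N6 = N9 := rfl
theorem L87 : sm ga N9 = N9 := ded_17_1 (flp_h L85) L60 L85
theorem L88 : sm gc N9 = N7 := ded_32_1 (flp_h L67) L58 L85
theorem L90 : sm ge N9 = N9 := ded_43_1 (flp_h L85) L61 L85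
theorem L91 : sm gf N9 = N9 := ded_47_1 (flp_h L85) L62 L85
theorem L92 : sm gg N9 = N9 := ded_50_1 (flp_h L85) L63 L85
theorem L93 : sm gj N9 = N9 := ded_52_1 (flp_h L85) L64 L85
theorem L94 : sm gi N7 = N10 := rfl
theorem L96 : sm ga N10 = N10 := ded_18_1 (flp_i L94) L69 L94
theorem L97 : sm gb N10 = N10 := ded_26_1 (flp_i L94) L70 L94
theorem L98 : sm gd N10 = N10 := ded_39_1 (flp_i L94) L75 L94
theorem L99 : sm ge N10 = N10 := ded_44_1 (flp_i L94) L71 L94
theorem L100 : sm gf N10 = N10 := ded_48_1 (flp_i L94) L72 L94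
theorem L101 : sm gg N10 = N10 := ded_51_1 (flp_i L94) L73 L94
theorem L102 : sm gj N10 = N10 := ded_53_1 (flp_i L94) L74 L94
theorem L103 : sm gh N10 = N10 := ded_54_1 (flp_i L94) (flp_h L67) L56 L67 L94
theorem L104 : sm ga N8 = N11 := rfl
theorem L106 : sm gc N11 = N11 := ded_11_2 (flp_a L104) L84 L104
theorem L107 : sm gd N11 = N11 := ded_12_2 (flp_a L104) L78 L104
theorem L108 : sm ge N11 = N11 := ded_13_2 (flp_a L104) L79 L104
theorem L109 : sm gf N11 = N11 := ded_14_2 (flp_a L104) L80 L104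
theorem L110 : sm gg N11 = N11 := ded_15_2 (flp_a L104) L81 L104
theorem L111 : sm gj N11 = N11 := ded_16_2 (flp_a L104) L82 L104
theorem L112 : sm gi N11 = N11 := ded_18_2 (flp_a L104) L83 L104
theorem L113 : sm gb N11 = N11 := ded_10_2 (flp_a L104) (flp_b L76) L60 L76 L104
theorem L114 : sm gh N8 = N12 := rfl
theorem L116 : sm gb N12 = N9 := ded_25_1 (flp_h L85) L76 L114
theorem L118 : sm gc N12 = N12 := ded_32_1 (flp_h L114) L84 L114
theorem L119 : sm ge N12 = N12 := ded_43_1 (flp_h L114) L79 L114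
theorem L120 : sm gf N12 = N12 := ded_47_1 (flp_h L114) L80 L114
theorem L121 : sm gg N12 = N12 := ded_50_1 (flp_h L114) L81 L114
theorem L122 : sm gj N12 = N12 := ded_52_1 (flp_h L114) L82 L114
theorem L123 : sm gd N9 = N13 := rfl
theorem L125 : sm ga N13 = N13 := ded_12_1 (flp_d L123) L87 L123
theorem L126 : sm gf N13 = N13 := ded_35_2 (flp_d L123) L91 L123
theorem L127 : sm gg N13 = N13 := ded_36_2 (flp_d L123) L92 L123
theorem L128 : sm gj N13 = N13 := ded_37_2 (flp_d L123) L93 L123
theorem L129 : sm gc N13 = N13 := ded_27_1 (flp_d L123) L88 L75 (flp_c L88) L123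
theorem L130 : sm gh N13 = N13 := ded_38_2 (flp_d L123) (flp_h L85) L66 L85 L123
theorem L131 : sm gi N9 = N14 := rfl
theorem L133 : sm ga N14 = N14 := ded_18_1 (flp_i L131) L87 L131
theorem L134 : sm gc N14 = N10 := ded_33_1 (flp_i L94) (flp_c L88) L131
theorem L136 : sm ge N14 = N14 := ded_44_1 (flp_i L131) L90 L131
theorem L137 : sm gf N14 = N14 := ded_48_1 (flp_i L131) L91 L131
theorem L138 : sm gg N14 = N14 := ded_51_1 (flp_i L131) L92 L131
theorem L139 : sm gj N14 = N14 := ded_53_1 (flp_i L131) L93 L131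
theorem L140 : sm gh N14 = N14 := ded_54_1 (flp_i L131) (flp_h L85) L65 L85 L131
theorem L141 : sm gh N11 = N15 := rfl
theorem L143 : sm ga N15 = N12 := ded_17_1 (flp_h L114) L104 L141
theorem L145 : sm gb N15 = N15 := ded_25_1 (flp_h L141) L113 L141
theorem L146 : sm gc N15 = N15 := ded_32_1 (flp_h L141) L106 L141
theorem L147 : sm ge N15 = N15 := ded_43_1 (flp_h L141) L108 L141
theorem L148 : sm gf N15 = N15 := ded_47_1 (flp_h L141) L109 L141
theorem L149 : sm gg N15 = N15 := ded_50_1 (flp_h L141) L110 L141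
theorem L150 : sm gj N15 = N15 := ded_52_1 (flp_h L141) L111 L141
theorem L151 : sm gd N12 = N16 := rfl
theorem L153 : sm gb N16 = N13 := ded_20_1 (flp_d L123) (flp_b L116) L151
theorem L155 : sm gf N16 = N16 := ded_35_2 (flp_d L151) L120 L151
theorem L156 : sm gg N16 = N16 := ded_36_2 (flp_d L151) L121 L151
theorem L157 : sm gj N16 = N16 := ded_37_2 (flp_d L151) L122 L151
theorem L158 : sm gh N16 = N16 := ded_38_2 (flp_d L151) (flp_h L114) L78 L114 L151
theorem L159 : sm gi N12 = N17 := rfl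
theorem L161 : sm gb N17 = N14 := ded_26_1 (flp_i L131) (flp_b L116) L159
theorem L163 : sm gc N17 = N17 := ded_33_1 (flp_i L159) L118 L159
theorem L164 : sm ge N17 = N17 := ded_44_1 (flp_i L159) L119 L159
theorem L165 : sm gf N17 = N17 := ded_48_1 (flp_i L159) L120 L159
theorem L166 : sm gg N17 = N17 := ded_51_1 (flp_i L159) L121 L159
theorem L167 : sm gj N17 = N17 := ded_53_1 (flp_i L159) L122 L159
theorem L168 : sm gh N17 = N17 := ded_54_1 (flp_i L159) (flp_h L114) L83 L114 L159
theorem L169 : sm ge N13 = N18 := rfl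
theorem L171 : sm ga N18 = N18 := ded_13_1 (flp_e L169) L125 L169
theorem L172 : sm gc N18 = N18 := ded_28_1 (flp_e L169) L129 L169
theorem L173 : sm gg N18 = N18 := ded_41_2 (flp_e L169) L127 L169
theorem L174 : sm gj N18 = N18 := ded_42_2 (flp_e L169) L128 L169
theorem L175 : sm gh N18 = N18 := ded_43_2 (flp_e L169) L130 L169
theorem L176 : sm gd N18 = N18 := ded_34_1 (flp_e L169) (flp_d L123) L90 L123 L169
theorem L177 : sm gi N13 = N19 := rfl
theorem L179 : sm ga N19 = N19 := ded_18_1 (flp_i L177) L125 L177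
theorem L180 : sm gc N19 = N19 := ded_33_1 (flp_i L177) L129 L177
theorem L181 : sm gd N19 = N14 := ded_39_1 (flp_i L131) L123 L177
theorem L183 : sm gf N19 = N19 := ded_48_1 (flp_i L177) L126 L177
theorem L184 : sm gg N19 = N19 := ded_51_1 (flp_i L177) L127 L177
theorem L185 : sm gj N19 = N19 := ded_53_1 (flp_i L177) L128 L177
theorem L186 : sm gd N15 = N20 := rfl
theorem L188 : sm ga N20 = N16 := ded_12_1 (flp_d L151) (flp_a L143) L186
theorem L190 : sm gb N20 = N20 := ded_20_1 (flp_d L186) L145 L186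
theorem L191 : sm gf N20 = N20 := ded_35_2 (flp_d L186) L148 L186
theorem L192 : sm gg N20 = N20 := ded_36_2 (flp_d L186) L149 L186
theorem L193 : sm gj N20 = N20 := ded_37_2 (flp_d L186) L150 L186
theorem L194 : sm gh N20 = N20 := ded_38_2 (flp_d L186) (flp_h L141) L107 L141 L186
theorem L195 : sm gi N15 = N21 := rfl
theorem L197 : sm ga N21 = N17 := ded_18_1 (flp_i L159) (flp_a L143) L195
theorem L199 : sm gb N21 = N21 := ded_26_1 (flp_i L195) L145 L195
theorem L200 : sm gc N21 = N21 := ded_33_1 (flp_i L195) L146 L195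
theorem L201 : sm ge N21 = N21 := ded_44_1 (flp_i L195) L147 L195
theorem L202 : sm gf N21 = N21 := ded_48_1 (flp_i L195) L148 L195
theorem L203 : sm gg N21 = N21 := ded_51_1 (flp_i L195) L149 L195
theorem L204 : sm gj N21 = N21 := ded_53_1 (flp_i L195) L150 L195
theorem L205 : sm gh N21 = N21 := ded_54_1 (flp_i L195) (flp_h L141) L112 L141 L195
theorem L206 : sm gc N16 = N22 := rfl
theorem L208 : sm gf N22 = N22 := ded_29_2 (flp_c L206) L155 L206
theorem L209 : sm gg N22 = N22 := ded_30_2 (flp_c L206) L156 L206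
theorem L210 : sm gj N22 = N22 := ded_31_2 (flp_c L206) L157 L206
theorem L211 : sm gh N22 = N22 := ded_32_2 (flp_c L206) L158 L206
theorem L212 : sm gb N22 = N22 := ded_19_1 (flp_c L206) L153 L129 (flp_b L153) L206
theorem L213 : sm gd N22 = N22 := ded_27_2 (flp_c L206) (flp_d L151) L118 L151 L206
theorem L214 : sm ge N16 = N23 := rfl
theorem L216 : sm gb N23 = N18 := ded_21_1 (flp_e L169) (flp_b L153) L214
theorem L218 : sm gg N23 = N23 := ded_41_2 (flp_e L214) L156 L214
theorem L219 : sm gj N23 = N23 := ded_42_2 (flp_e L214) L157 L214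
theorem L220 : sm gh N23 = N23 := ded_43_2 (flp_e L214) L158 L214
theorem L221 : sm gd N23 = N23 := ded_34_1 (flp_e L214) (flp_d L151) L119 L151 L214
theorem L222 : sm gi N16 = N24 := rfl
theorem L224 : sm gb N24 = N19 := ded_26_1 (flp_i L177) (flp_b L153) L222
theorem L226 : sm gd N24 = N17 := ded_39_1 (flp_i L159) L151 L222
theorem L228 : sm gf N24 = N24 := ded_48_1 (flp_i L222) L155 L222
theorem L229 : sm gg N24 = N24 := ded_51_1 (flp_i L222) L156 L222
theorem L230 : sm gj N24 = N24 := ded_53_1 (flp_i L222) L157 L222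
theorem L231 : sm gf N18 = N25 := rfl
theorem L233 : sm ga N25 = N25 := ded_14_1 (flp_f L231) L171 L231
theorem L234 : sm gc N25 = N25 := ded_29_1 (flp_f L231) L172 L231
theorem L235 : sm gd N25 = N25 := ded_35_1 (flp_f L231) L176 L231
theorem L236 : sm gj N25 = N25 := ded_46_2 (flp_f L231) L174 L231
theorem L237 : sm gh N25 = N25 := ded_47_2 (flp_f L231) L175 L231
theorem L238 : sm ge N25 = N25 := ded_40_1 (flp_f L231) (flp_e L169) L126 L169 L231
theorem L239 : sm gi N18 = N26 := rfl
theorem L241 : sm ga N26 = N26 := ded_18_1 (flp_i L239) L171 L239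
theorem L242 : sm gc N26 = N26 := ded_33_1 (flp_i L239) L172 L239
theorem L243 : sm gd N26 = N26 := ded_39_1 (flp_i L239) L176 L239
theorem L244 : sm ge N26 = N19 := ded_44_1 (flp_i L177) L169 L239
theorem L246 : sm gg N26 = N26 := ded_51_1 (flp_i L239) L173 L239
theorem L247 : sm gj N26 = N26 := ded_53_1 (flp_i L239) L174 L239
theorem L248 : sm gh N19 = N27 := rfl
theorem L250 : sm ga N27 = N27 := ded_17_1 (flp_h L248) L179 L248
theorem L251 : sm gc N27 = N27 := ded_32_1 (flp_h L248) L180 L248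
theorem L252 : sm gf N27 = N27 := ded_47_1 (flp_h L248) L183 L248
theorem L253 : sm gg N27 = N27 := ded_50_1 (flp_h L248) L184 L248
theorem L254 : sm gj N27 = N27 := ded_52_1 (flp_h L248) L185 L248
theorem L255 : sm gd N27 = N27 := ded_38_1 (flp_h L248) L181 L140 (flp_d L181) L248
theorem L256 : sm gi N27 = N27 := ded_54_2 (flp_h L248) (flp_i L177) L130 L177 L248
theorem L257 : sm gc N20 = N28 := rfl
theorem L259 : sm ga N28 = N22 := ded_11_1 (flp_c L206) (flp_a L188) L257
theorem L261 : sm gf N28 = N28 := ded_29_2 (flp_c L257) L191 L257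
theorem L262 : sm gg N28 = N28 := ded_30_2 (flp_c L257) L192 L257
theorem L263 : sm gj N28 = N28 := ded_31_2 (flp_c L257) L193 L257
theorem L264 : sm gh N28 = N28 := ded_32_2 (flp_c L257) L194 L257
theorem L265 : sm gd N28 = N28 := ded_27_2 (flp_c L257) (flp_d L186) L146 L186 L257
theorem L266 : sm ge N20 = N29 := rfl
theorem L268 : sm ga N29 = N23 := ded_13_1 (flp_e L214) (flp_a L188) L266
theorem L270 : sm gb N29 = N29 := ded_21_1 (flp_e L266) L190 L266
theorem L271 : sm gg N29 = N29 := ded_41_2 (flp_e L266) L192 L266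
theorem L272 : sm gj N29 = N29 := ded_42_2 (flp_e L266) L193 L266
theorem L273 : sm gh N29 = N29 := ded_43_2 (flp_e L266) L194 L266
theorem L274 : sm gd N29 = N29 := ded_34_1 (flp_e L266) (flp_d L186) L147 L186 L266
theorem L275 : sm gi N20 = N30 := rfl
theorem L277 : sm ga N30 = N24 := ded_18_1 (flp_i L222) (flp_a L188) L275
theorem L279 : sm gb N30 = N30 := ded_26_1 (flp_i L275) L190 L275
theorem L280 : sm gd N30 = N21 := ded_39_1 (flp_i L195) L186 L275
theorem L282 : sm gf N30 = N30 := ded_48_1 (flp_i L275) L191 L275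
theorem L283 : sm gg N30 = N30 := ded_51_1 (flp_i L275) L192 L275
theorem L284 : sm gj N30 = N30 := ded_53_1 (flp_i L275) L193 L275
theorem L285 : sm ge N22 = N31 := rfl
theorem L287 : sm gb N31 = N31 := ded_21_1 (flp_e L285) L212 L285
theorem L288 : sm gc N31 = N23 := ded_28_1 (flp_e L214) L206 L285
theorem L290 : sm gg N31 = N31 := ded_41_2 (flp_e L285) L209 L285
theorem L291 : sm gj N31 = N31 := ded_42_2 (flp_e L285) L210 L285
theorem L292 : sm gh N31 = N31 := ded_43_2 (flp_e L285) L211 L285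
theorem L293 : sm gi N22 = N32 := rfl
theorem L295 : sm gb N32 = N32 := ded_26_1 (flp_i L293) L212 L293
theorem L296 : sm gc N32 = N24 := ded_33_1 (flp_i L222) L206 L293
theorem L298 : sm gd N32 = N32 := ded_39_1 (flp_i L293) L213 L293
theorem L299 : sm gf N32 = N32 := ded_48_1 (flp_i L293) L208 L293
theorem L300 : sm gg N32 = N32 := ded_51_1 (flp_i L293) L209 L293
theorem L301 : sm gj N32 = N32 := ded_53_1 (flp_i L293) L210 L293
theorem L302 : sm gf N23 = N33 := rfl
theorem L304 : sm gb N33 = N25 := ded_22_1 (flp_f L231) (flp_b L216) L302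
theorem L306 : sm gd N33 = N33 := ded_35_1 (flp_f L302) L221 L302
theorem L307 : sm gj N33 = N33 := ded_46_2 (flp_f L302) L219 L302
theorem L308 : sm gh N33 = N33 := ded_47_2 (flp_f L302) L220 L302
theorem L309 : sm ge N33 = N33 := ded_40_1 (flp_f L302) (flp_e L214) L155 L214 L302
theorem L310 : sm gi N23 = N34 := rfl
theorem L312 : sm gb N34 = N26 := ded_26_1 (flp_i L239) (flp_b L216) L310
theorem L314 : sm gd N34 = N34 := ded_39_1 (flp_i L310) L221 L310
theorem L315 : sm ge N34 = N24 := ded_44_1 (flp_i L222) L214 L310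
theorem L317 : sm gg N34 = N34 := ded_51_1 (flp_i L310) L218 L310
theorem L318 : sm gj N34 = N34 := ded_53_1 (flp_i L310) L219 L310
theorem L319 : sm gh N24 = N35 := rfl
theorem L321 : sm gb N35 = N27 := ded_25_1 (flp_h L248) (flp_b L224) L319
theorem L323 : sm gf N35 = N35 := ded_47_1 (flp_h L319) L228 L319
theorem L324 : sm gg N35 = N35 := ded_50_1 (flp_h L319) L229 L319
theorem L325 : sm gj N35 = N35 := ded_52_1 (flp_h L319) L230 L319
theorem L326 : sm gd N35 = N35 := ded_38_1 (flp_h L319) L226 L168 (flp_d L226) L319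
theorem L327 : sm gi N35 = N35 := ded_54_2 (flp_h L319) (flp_i L222) L158 L222 L319
theorem L328 : sm gg N25 = N36 := rfl
theorem L330 : sm ga N36 = N36 := ded_15_1 (flp_g L328) L233 L328
theorem L331 : sm gc N36 = N36 := ded_30_1 (flp_g L328) L234 L328
theorem L332 : sm gd N36 = N36 := ded_36_1 (flp_g L328) L235 L328
theorem L333 : sm ge N36 = N36 := ded_41_1 (flp_g L328) L238 L328
theorem L334 : sm gh N36 = N36 := ded_50_2 (flp_g L328) L237 L328
theorem L335 : sm gf N36 = N36 := ded_45_1 (flp_g L328) (flp_f L231) L173 L231 L328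
theorem L336 : sm gi N25 = N37 := rfl
theorem L338 : sm ga N37 = N37 := ded_18_1 (flp_i L336) L233 L336
theorem L339 : sm gc N37 = N37 := ded_33_1 (flp_i L336) L234 L336
theorem L340 : sm gd N37 = N37 := ded_39_1 (flp_i L336) L235 L336
theorem L341 : sm ge N37 = N37 := ded_44_1 (flp_i L336) L238 L336
theorem L342 : sm gf N37 = N26 := ded_48_1 (flp_i L239) L231 L336
theorem L344 : sm gj N37 = N37 := ded_53_1 (flp_i L336) L236 L336
theorem L345 : sm gh N26 = N38 := rfl
theorem L347 : sm ga N38 = N38 := ded_17_1 (flp_h L345) L241 L345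
theorem L348 : sm gc N38 = N38 := ded_32_1 (flp_h L345) L242 L345
theorem L349 : sm ge N38 = N27 := ded_43_1 (flp_h L248) (flp_e L244) L345
theorem L351 : sm gg N38 = N38 := ded_50_1 (flp_h L345) L246 L345
theorem L352 : sm gj N38 = N38 := ded_52_1 (flp_h L345) L247 L345
theorem L353 : sm gi N38 = N38 := ded_54_2 (flp_h L345) (flp_i L239) L175 L239 L345
theorem L354 : sm gb N28 = N39 := rfl
theorem L356 : sm gd N39 = N39 := ded_20_2 (flp_b L354) L265 L354
theorem L357 : sm gf N39 = N39 := ded_22_2 (flp_b L354) L261 L354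
theorem L358 : sm gg N39 = N39 := ded_23_2 (flp_b L354) L262 L354
theorem L359 : sm gj N39 = N39 := ded_24_2 (flp_b L354) L263 L354
theorem L360 : sm gh N39 = N39 := ded_25_2 (flp_b L354) L264 L354
theorem L361 : sm ga N39 = N39 := ded_10_1 (flp_b L354) L259 L212 (flp_a L259) L354
theorem L362 : sm gc N39 = N39 := ded_19_2 (flp_b L354) (flp_c L257) L190 L257 L354
theorem L363 : sm ge N28 = N40 := rfl
theorem L365 : sm ga N40 = N31 := ded_13_1 (flp_e L285) (flp_a L259) L363
theorem L367 : sm gc N40 = N29 := ded_28_1 (flp_e L266) L257 L363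
theorem L369 : sm gg N40 = N40 := ded_41_2 (flp_e L363) L262 L363
theorem L370 : sm gj N40 = N40 := ded_42_2 (flp_e L363) L263 L363
theorem L371 : sm gh N40 = N40 := ded_43_2 (flp_e L363) L264 L363
theorem L372 : sm gi N28 = N41 := rfl
theorem L374 : sm ga N41 = N32 := ded_18_1 (flp_i L293) (flp_a L259) L372
theorem L376 : sm gc N41 = N30 := ded_33_1 (flp_i L275) L257 L372
theorem L378 : sm gd N41 = N41 := ded_39_1 (flp_i L372) L265 L372
theorem L379 : sm gf N41 = N41 := ded_48_1 (flp_i L372) L261 L372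
theorem L380 : sm gg N41 = N41 := ded_51_1 (flp_i L372) L262 L372
theorem L381 : sm gj N41 = N41 := ded_53_1 (flp_i L372) L263 L372
theorem L382 : sm gf N29 = N42 := rfl
theorem L384 : sm ga N42 = N33 := ded_14_1 (flp_f L302) (flp_a L268) L382
theorem L386 : sm gb N42 = N42 := ded_22_1 (flp_f L382) L270 L382
theorem L387 : sm gd N42 = N42 := ded_35_1 (flp_f L382) L274 L382
theorem L388 : sm gj N42 = N42 := ded_46_2 (flp_f L382) L272 L382
theorem L389 : sm gh N42 = N42 := ded_47_2 (flp_f L382) L273 L382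
theorem L390 : sm ge N42 = N42 := ded_40_1 (flp_f L382) (flp_e L266) L191 L266 L382
theorem L391 : sm gi N29 = N43 := rfl
theorem L393 : sm ga N43 = N34 := ded_18_1 (flp_i L310) (flp_a L268) L391
theorem L395 : sm gb N43 = N43 := ded_26_1 (flp_i L391) L270 L391
theorem L396 : sm gd N43 = N43 := ded_39_1 (flp_i L391) L274 L391
theorem L397 : sm ge N43 = N30 := ded_44_1 (flp_i L275) L266 L391
theorem L399 : sm gg N43 = N43 := ded_51_1 (flp_i L391) L271 L391
theorem L400 : sm gj N43 = N43 := ded_53_1 (flp_i L391) L272 L391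
theorem L401 : sm gh N30 = N44 := rfl
theorem L403 : sm ga N44 = N35 := ded_17_1 (flp_h L319) (flp_a L277) L401
theorem L405 : sm gb N44 = N44 := ded_25_1 (flp_h L401) L279 L401
theorem L406 : sm gf N44 = N44 := ded_47_1 (flp_h L401) L282 L401
theorem L407 : sm gg N44 = N44 := ded_50_1 (flp_h L401) L283 L401
theorem L408 : sm gj N44 = N44 := ded_52_1 (flp_h L401) L284 L401
theorem L409 : sm gd N44 = N44 := ded_38_1 (flp_h L401) L280 L205 (flp_d L280) L401
theorem L410 : sm gi N44 = N44 := ded_54_2 (flp_h L401) (flp_i L275) L194 L275 L401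
theorem L411 : sm gd N31 = N45 := rfl
theorem L413 : sm gb N45 = N45 := ded_20_1 (flp_d L411) L287 L411
theorem L414 : sm gg N45 = N45 := ded_36_2 (flp_d L411) L290 L411
theorem L415 : sm gj N45 = N45 := ded_37_2 (flp_d L411) L291 L411
theorem L416 : sm gc N45 = N45 := ded_27_1 (flp_d L411) L288 L221 (flp_c L288) L411
theorem L417 : sm ge N45 = N45 := ded_34_2 (flp_d L411) (flp_e L285) L213 L285 L411
theorem L418 : sm gf N31 = N46 := rfl
theorem L420 : sm gb N46 = N46 := ded_22_1 (flp_f L418) L287 L418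
theorem L421 : sm gc N46 = N33 := ded_29_1 (flp_f L302) (flp_c L288) L418
theorem L423 : sm gj N46 = N46 := ded_46_2 (flp_f L418) L291 L418
theorem L424 : sm gh N46 = N46 := ded_47_2 (flp_f L418) L292 L418
theorem L425 : sm ge N46 = N46 := ded_40_1 (flp_f L418) (flp_e L285) L208 L285 L418
theorem L426 : sm gi N31 = N47 := rfl
theorem L428 : sm gb N47 = N47 := ded_26_1 (flp_i L426) L287 L426
theorem L429 : sm gc N47 = N34 := ded_33_1 (flp_i L310) (flp_c L288) L426
theorem L431 : sm ge N47 = N32 := ded_44_1 (flp_i L293) L285 L426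
theorem L433 : sm gg N47 = N47 := ded_51_1 (flp_i L426) L290 L426
theorem L434 : sm gj N47 = N47 := ded_53_1 (flp_i L426) L291 L426
theorem L435 : sm gh N32 = N48 := rfl
theorem L437 : sm gb N48 = N48 := ded_25_1 (flp_h L435) L295 L435
theorem L438 : sm gc N48 = N35 := ded_32_1 (flp_h L319) (flp_c L296) L435
theorem L440 : sm gf N48 = N48 := ded_47_1 (flp_h L435) L299 L435
theorem L441 : sm gg N48 = N48 := ded_50_1 (flp_h L435) L300 L435
theorem L442 : sm gj N48 = N48 := ded_52_1 (flp_h L435) L301 L435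
theorem L443 : sm gi N48 = N48 := ded_54_2 (flp_h L435) (flp_i L293) L211 L293 L435
theorem L444 : sm gg N33 = N49 := rfl
theorem L446 : sm gb N49 = N36 := ded_23_1 (flp_g L328) (flp_b L304) L444
theorem L448 : sm gd N49 = N49 := ded_36_1 (flp_g L444) L306 L444
theorem L449 : sm ge N49 = N49 := ded_41_1 (flp_g L444) L309 L444
theorem L450 : sm gh N49 = N49 := ded_50_2 (flp_g L444) L308 L444
theorem L451 : sm gf N49 = N49 := ded_45_1 (flp_g L444) (flp_f L302) L218 L302 L444
theorem L452 : sm gi N33 = N50 := rfl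
theorem L454 : sm gb N50 = N37 := ded_26_1 (flp_i L336) (flp_b L304) L452
theorem L456 : sm gd N50 = N50 := ded_39_1 (flp_i L452) L306 L452
theorem L457 : sm ge N50 = N50 := ded_44_1 (flp_i L452) L309 L452
theorem L458 : sm gf N50 = N34 := ded_48_1 (flp_i L310) L302 L452
theorem L460 : sm gj N50 = N50 := ded_53_1 (flp_i L452) L307 L452
theorem L461 : sm gh N34 = N51 := rfl
theorem L463 : sm gb N51 = N38 := ded_25_1 (flp_h L345) (flp_b L312) L461
theorem L465 : sm ge N51 = N35 := ded_43_1 (flp_h L319) (flp_e L315) L461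
theorem L467 : sm gg N51 = N51 := ded_50_1 (flp_h L461) L317 L461
theorem L468 : sm gj N51 = N51 := ded_52_1 (flp_h L461) L318 L461
theorem L469 : sm gi N51 = N51 := ded_54_2 (flp_h L461) (flp_i L310) L220 L310 L461
theorem L470 : sm gj N36 = N52 := rfl
theorem L472 : sm ga N52 = N52 := ded_16_1 (flp_j L470) L330 L470
theorem L473 : sm gc N52 = N52 := ded_31_1 (flp_j L470) L331 L470
theorem L474 : sm gd N52 = N52 := ded_37_1 (flp_j L470) L332 L470
theorem L475 : sm ge N52 = N52 := ded_42_1 (flp_j L470) L333 L470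
theorem L476 : sm gf N52 = N52 := ded_46_1 (flp_j L470) L335 L470
theorem L477 : sm gh N52 = N52 := ded_52_2 (flp_j L470) L334 L470
theorem L478 : sm gg N52 = N52 := ded_49_1 (flp_j L470) (flp_g L328) L236 L328 L470
theorem L479 : sm gi N36 = N53 := rfl
theorem L481 : sm ga N53 = N53 := ded_18_1 (flp_i L479) L330 L479
theorem L482 : sm gc N53 = N53 := ded_33_1 (flp_i L479) L331 L479
theorem L483 : sm gd N53 = N53 := ded_39_1 (flp_i L479) L332 L479
theorem L484 : sm ge N53 = N53 := ded_44_1 (flp_i L479) L333 L479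
theorem L485 : sm gf N53 = N53 := ded_48_1 (flp_i L479) L335 L479
theorem L486 : sm gg N53 = N37 := ded_51_1 (flp_i L336) L328 L479
theorem L488 : sm gh N37 = N54 := rfl
theorem L490 : sm ga N54 = N54 := ded_17_1 (flp_h L488) L338 L488
theorem L491 : sm gc N54 = N54 := ded_32_1 (flp_h L488) L339 L488
theorem L492 : sm ge N54 = N54 := ded_43_1 (flp_h L488) L341 L488
theorem L493 : sm gf N54 = N38 := ded_47_1 (flp_h L345) (flp_f L342) L488
theorem L495 : sm gj N54 = N54 := ded_52_1 (flp_h L488) L344 L488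
theorem L496 : sm gi N54 = N54 := ded_54_2 (flp_h L488) (flp_i L336) L237 L336 L488
theorem L497 : sm gd N38 = N55 := rfl
theorem L499 : sm ga N55 = N55 := ded_12_1 (flp_d L497) L347 L497
theorem L500 : sm gg N55 = N55 := ded_36_2 (flp_d L497) L351 L497
theorem L501 : sm gj N55 = N55 := ded_37_2 (flp_d L497) L352 L497
theorem L502 : sm gi N55 = N55 := ded_39_2 (flp_d L497) L353 L497
theorem L503 : sm ge N55 = N55 := ded_34_2 (flp_d L497) L349 L255 (flp_e L349) L497
theorem L504 : sm gh N55 = N55 := ded_38_2 (flp_d L497) (flp_h L345) L243 L345 L497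
theorem L505 : sm ge N39 = N56 := rfl
theorem L507 : sm ga N56 = N56 := ded_13_1 (flp_e L505) L361 L505
theorem L508 : sm gb N56 = N40 := ded_21_1 (flp_e L363) L354 L505
theorem L510 : sm gc N56 = N56 := ded_28_1 (flp_e L505) L362 L505
theorem L511 : sm gg N56 = N56 := ded_41_2 (flp_e L505) L358 L505
theorem L512 : sm gj N56 = N56 := ded_42_2 (flp_e L505) L359 L505
theorem L513 : sm gh N56 = N56 := ded_43_2 (flp_e L505) L360 L505
theorem L514 : sm gi N39 = N57 := rfl
theorem L516 : sm ga N57 = N57 := ded_18_1 (flp_i L514) L361 L514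
theorem L517 : sm gb N57 = N41 := ded_26_1 (flp_i L372) L354 L514
theorem L519 : sm gc N57 = N57 := ded_33_1 (flp_i L514) L362 L514
theorem L520 : sm gd N57 = N57 := ded_39_1 (flp_i L514) L356 L514
theorem L521 : sm gf N57 = N57 := ded_48_1 (flp_i L514) L357 L514
theorem L522 : sm gg N57 = N57 := ded_51_1 (flp_i L514) L358 L514
theorem L523 : sm gj N57 = N57 := ded_53_1 (flp_i L514) L359 L514
theorem L524 : sm gd N40 = N58 := rfl
theorem L526 : sm ga N58 = N45 := ded_12_1 (flp_d L411) (flp_a L365) L524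
theorem L528 : sm gg N58 = N58 := ded_36_2 (flp_d L524) L369 L524
theorem L529 : sm gj N58 = N58 := ded_37_2 (flp_d L524) L370 L524
theorem L530 : sm gc N58 = N58 := ded_27_1 (flp_d L524) L367 L274 (flp_c L367) L524
theorem L531 : sm ge N58 = N58 := ded_34_2 (flp_d L524) (flp_e L363) L265 L363 L524
theorem L532 : sm gf N40 = N59 := rfl
theorem L534 : sm ga N59 = N46 := ded_14_1 (flp_f L418) (flp_a L365) L532
theorem L536 : sm gc N59 = N42 := ded_29_1 (flp_f L382) (flp_c L367) L532
theorem L538 : sm gj N59 = N59 := ded_46_2 (flp_f L532) L370 L532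
theorem L539 : sm gh N59 = N59 := ded_47_2 (flp_f L532) L371 L532
theorem L540 : sm ge N59 = N59 := ded_40_1 (flp_f L532) (flp_e L363) L261 L363 L532
theorem L541 : sm gi N40 = N60 := rfl
theorem L543 : sm ga N60 = N47 := ded_18_1 (flp_i L426) (flp_a L365) L541
theorem L545 : sm gc N60 = N43 := ded_33_1 (flp_i L391) (flp_c L367) L541
theorem L547 : sm ge N60 = N41 := ded_44_1 (flp_i L372) L363 L541
theorem L549 : sm gg N60 = N60 := ded_51_1 (flp_i L541) L369 L541
theorem L550 : sm gj N60 = N60 := ded_53_1 (flp_i L541) L370 L541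
theorem L551 : sm gh N41 = N61 := rfl
theorem L553 : sm ga N61 = N48 := ded_17_1 (flp_h L435) (flp_a L374) L551
theorem L555 : sm gc N61 = N44 := ded_32_1 (flp_h L401) (flp_c L376) L551
theorem L557 : sm gf N61 = N61 := ded_47_1 (flp_h L551) L379 L551
theorem L558 : sm gg N61 = N61 := ded_50_1 (flp_h L551) L380 L551
theorem L559 : sm gj N61 = N61 := ded_52_1 (flp_h L551) L381 L551
theorem L560 : sm gi N61 = N61 := ded_54_2 (flp_h L551) (flp_i L372) L264 L372 L551
theorem L561 : sm gg N42 = N62 := rfl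
theorem L563 : sm ga N62 = N49 := ded_15_1 (flp_g L444) (flp_a L384) L561
theorem L565 : sm gb N62 = N62 := ded_23_1 (flp_g L561) L386 L561
theorem L566 : sm gd N62 = N62 := ded_36_1 (flp_g L561) L387 L561
theorem L567 : sm ge N62 = N62 := ded_41_1 (flp_g L561) L390 L561
theorem L568 : sm gh N62 = N62 := ded_50_2 (flp_g L561) L389 L561
theorem L569 : sm gf N62 = N62 := ded_45_1 (flp_g L561) (flp_f L382) L271 L382 L561
theorem L570 : sm gi N42 = N63 := rfl
theorem L572 : sm ga N63 = N50 := ded_18_1 (flp_i L452) (flp_a L384) L570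
theorem L574 : sm gb N63 = N63 := ded_26_1 (flp_i L570) L386 L570
theorem L575 : sm gd N63 = N63 := ded_39_1 (flp_i L570) L387 L570
theorem L576 : sm ge N63 = N63 := ded_44_1 (flp_i L570) L390 L570
theorem L577 : sm gf N63 = N43 := ded_48_1 (flp_i L391) L382 L570
theorem L579 : sm gj N63 = N63 := ded_53_1 (flp_i L570) L388 L570
theorem L580 : sm gh N43 = N64 := rfl
theorem L582 : sm ga N64 = N51 := ded_17_1 (flp_h L461) (flp_a L393) L580
theorem L584 : sm gb N64 = N64 := ded_25_1 (flp_h L580) L395 L580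
theorem L585 : sm ge N64 = N44 := ded_43_1 (flp_h L401) (flp_e L397) L580
theorem L587 : sm gg N64 = N64 := ded_50_1 (flp_h L580) L399 L580
theorem L588 : sm gj N64 = N64 := ded_52_1 (flp_h L580) L400 L580
theorem L589 : sm gi N64 = N64 := ded_54_2 (flp_h L580) (flp_i L391) L273 L391 L580
theorem L590 : sm gf N45 = N65 := rfl
theorem L592 : sm gb N65 = N65 := ded_22_1 (flp_f L590) L413 L590
theorem L593 : sm gc N65 = N65 := ded_29_1 (flp_f L590) L416 L590
theorem L594 : sm gd N65 = N46 := ded_35_1 (flp_f L418) L411 L590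
theorem L596 : sm gj N65 = N65 := ded_46_2 (flp_f L590) L415 L590
theorem L597 : sm gh N45 = N66 := rfl
theorem L599 : sm gb N66 = N66 := ded_25_1 (flp_h L597) L413 L597
theorem L600 : sm gc N66 = N66 := ded_32_1 (flp_h L597) L416 L597
theorem L601 : sm ge N66 = N66 := ded_43_1 (flp_h L597) L417 L597
theorem L602 : sm gg N66 = N66 := ded_50_1 (flp_h L597) L414 L597
theorem L603 : sm gj N66 = N66 := ded_52_1 (flp_h L597) L415 L597
theorem L604 : sm gd N66 = N66 := ded_38_1 (flp_h L597) (flp_d L411) L292 L411 L597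
theorem L605 : sm gi N45 = N67 := rfl
theorem L607 : sm gb N67 = N67 := ded_26_1 (flp_i L605) L413 L605
theorem L608 : sm gc N67 = N67 := ded_33_1 (flp_i L605) L416 L605
theorem L609 : sm gd N67 = N47 := ded_39_1 (flp_i L426) L411 L605
theorem L611 : sm ge N67 = N67 := ded_44_1 (flp_i L605) L417 L605
theorem L612 : sm gg N67 = N67 := ded_51_1 (flp_i L605) L414 L605
theorem L613 : sm gj N67 = N67 := ded_53_1 (flp_i L605) L415 L605
theorem L614 : sm gg N46 = N68 := rfl
theorem L616 : sm gb N68 = N68 := ded_23_1 (flp_g L614) L420 L614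
theorem L617 : sm gc N68 = N49 := ded_30_1 (flp_g L444) (flp_c L421) L614
theorem L619 : sm ge N68 = N68 := ded_41_1 (flp_g L614) L425 L614
theorem L620 : sm gh N68 = N68 := ded_50_2 (flp_g L614) L424 L614
theorem L621 : sm gf N68 = N68 := ded_45_1 (flp_g L614) (flp_f L418) L290 L418 L614
theorem L622 : sm gi N46 = N69 := rfl
theorem L624 : sm gb N69 = N69 := ded_26_1 (flp_i L622) L420 L622
theorem L625 : sm gc N69 = N50 := ded_33_1 (flp_i L452) (flp_c L421) L622
theorem L627 : sm ge N69 = N69 := ded_44_1 (flp_i L622) L425 L622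
theorem L628 : sm gf N69 = N47 := ded_48_1 (flp_i L426) L418 L622
theorem L630 : sm gj N69 = N69 := ded_53_1 (flp_i L622) L423 L622
theorem L631 : sm gh N47 = N70 := rfl
theorem L633 : sm gb N70 = N70 := ded_25_1 (flp_h L631) L428 L631
theorem L634 : sm gc N70 = N51 := ded_32_1 (flp_h L461) (flp_c L429) L631
theorem L636 : sm ge N70 = N48 := ded_43_1 (flp_h L435) (flp_e L431) L631
theorem L638 : sm gg N70 = N70 := ded_50_1 (flp_h L631) L433 L631
theorem L639 : sm gj N70 = N70 := ded_52_1 (flp_h L631) L434 L631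
theorem L640 : sm gi N70 = N70 := ded_54_2 (flp_h L631) (flp_i L426) L292 L426 L631
theorem L641 : sm gd N48 = N71 := rfl
theorem L643 : sm gb N71 = N71 := ded_20_1 (flp_d L641) L437 L641
theorem L644 : sm gf N71 = N71 := ded_35_2 (flp_d L641) L440 L641
theorem L645 : sm gg N71 = N71 := ded_36_2 (flp_d L641) L441 L641
theorem L646 : sm gj N71 = N71 := ded_37_2 (flp_d L641) L442 L641
theorem L647 : sm gi N71 = N71 := ded_39_2 (flp_d L641) L443 L641
theorem L648 : sm gc N71 = N71 := ded_27_1 (flp_d L641) L438 L326 (flp_c L438) L641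
theorem L649 : sm gh N71 = N71 := ded_38_2 (flp_d L641) (flp_h L435) L298 L435 L641
theorem L650 : sm gj N49 = N72 := rfl
theorem L652 : sm gb N72 = N52 := ded_24_1 (flp_j L470) (flp_b L446) L650
theorem L654 : sm gd N72 = N72 := ded_37_1 (flp_j L650) L448 L650
theorem L655 : sm ge N72 = N72 := ded_42_1 (flp_j L650) L449 L650
theorem L656 : sm gf N72 = N72 := ded_46_1 (flp_j L650) L451 L650
theorem L657 : sm gh N72 = N72 := ded_52_2 (flp_j L650) L450 L650
theorem L658 : sm gg N72 = N72 := ded_49_1 (flp_j L650) (flp_g L444) L307 L444 L650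
theorem L659 : sm gi N49 = N73 := rfl
theorem L661 : sm gb N73 = N53 := ded_26_1 (flp_i L479) (flp_b L446) L659
theorem L663 : sm gd N73 = N73 := ded_39_1 (flp_i L659) L448 L659
theorem L664 : sm ge N73 = N73 := ded_44_1 (flp_i L659) L449 L659
theorem L665 : sm gf N73 = N73 := ded_48_1 (flp_i L659) L451 L659
theorem L666 : sm gg N73 = N50 := ded_51_1 (flp_i L452) L444 L659
theorem L668 : sm gh N50 = N74 := rfl
theorem L670 : sm gb N74 = N54 := ded_25_1 (flp_h L488) (flp_b L454) L668
theorem L672 : sm ge N74 = N74 := ded_43_1 (flp_h L668) L457 L668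
theorem L673 : sm gf N74 = N51 := ded_47_1 (flp_h L461) (flp_f L458) L668
theorem L675 : sm gj N74 = N74 := ded_52_1 (flp_h L668) L460 L668
theorem L676 : sm gi N74 = N74 := ded_54_2 (flp_h L668) (flp_i L452) L308 L452 L668
theorem L677 : sm gd N51 = N75 := rfl
theorem L679 : sm gb N75 = N55 := ded_20_1 (flp_d L497) (flp_b L463) L677
theorem L681 : sm gg N75 = N75 := ded_36_2 (flp_d L677) L467 L677
theorem L682 : sm gj N75 = N75 := ded_37_2 (flp_d L677) L468 L677
theorem L683 : sm gi N75 = N75 := ded_39_2 (flp_d L677) L469 L677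
theorem L684 : sm ge N75 = N75 := ded_34_2 (flp_d L677) L465 L326 (flp_e L465) L677
theorem L685 : sm gh N75 = N75 := ded_38_2 (flp_d L677) (flp_h L461) L314 L461 L677
theorem L686 : sm gi N52 = N76 := rfl
theorem L688 : sm ga N76 = N76 := ded_18_1 (flp_i L686) L472 L686
theorem L689 : sm gc N76 = N76 := ded_33_1 (flp_i L686) L473 L686
theorem L690 : sm gd N76 = N76 := ded_39_1 (flp_i L686) L474 L686
theorem L691 : sm ge N76 = N76 := ded_44_1 (flp_i L686) L475 L686
theorem L692 : sm gf N76 = N76 := ded_48_1 (flp_i L686) L476 L686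
theorem L693 : sm gg N76 = N76 := ded_51_1 (flp_i L686) L478 L686
theorem L694 : sm gj N76 = N53 := ded_53_1 (flp_i L479) L470 L686
theorem L696 : sm gh N53 = N77 := rfl
theorem L698 : sm ga N77 = N77 := ded_17_1 (flp_h L696) L481 L696
theorem L699 : sm gc N77 = N77 := ded_32_1 (flp_h L696) L482 L696
theorem L700 : sm ge N77 = N77 := ded_43_1 (flp_h L696) L484 L696
theorem L701 : sm gf N77 = N77 := ded_47_1 (flp_h L696) L485 L696
theorem L702 : sm gg N77 = N54 := ded_50_1 (flp_h L488) (flp_g L486) L696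
theorem L704 : sm gi N77 = N77 := ded_54_2 (flp_h L696) (flp_i L479) L334 L479 L696
theorem L705 : sm gd N54 = N78 := rfl
theorem L707 : sm ga N78 = N78 := ded_12_1 (flp_d L705) L490 L705
theorem L708 : sm gf N78 = N55 := ded_35_2 (flp_d L497) (flp_f L493) L705
theorem L710 : sm gj N78 = N78 := ded_37_2 (flp_d L705) L495 L705
theorem L711 : sm gi N78 = N78 := ded_39_2 (flp_d L705) L496 L705
theorem L712 : sm gh N78 = N78 := ded_38_2 (flp_d L705) (flp_h L488) L340 L488 L705
theorem L713 : sm gc N55 = N79 := rfl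
theorem L715 : sm ga N79 = N79 := ded_11_1 (flp_c L713) L499 L713
theorem L716 : sm ge N79 = N79 := ded_28_2 (flp_c L713) L503 L713
theorem L717 : sm gg N79 = N79 := ded_30_2 (flp_c L713) L500 L713
theorem L718 : sm gj N79 = N79 := ded_31_2 (flp_c L713) L501 L713
theorem L719 : sm gh N79 = N79 := ded_32_2 (flp_c L713) L504 L713
theorem L720 : sm gi N79 = N79 := ded_33_2 (flp_c L713) L502 L713
theorem L721 : sm gd N79 = N79 := ded_27_2 (flp_c L713) (flp_d L497) L348 L497 L713
theorem L722 : sm gd N56 = N80 := rfl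
theorem L724 : sm ga N80 = N80 := ded_12_1 (flp_d L722) L507 L722
theorem L725 : sm gb N80 = N58 := ded_20_1 (flp_d L524) (flp_b L508) L722
theorem L727 : sm gg N80 = N80 := ded_36_2 (flp_d L722) L511 L722
theorem L728 : sm gj N80 = N80 := ded_37_2 (flp_d L722) L512 L722
theorem L729 : sm ge N80 = N80 := ded_34_2 (flp_d L722) (flp_e L505) L356 L505 L722
theorem L730 : sm gf N56 = N81 := rfl
theorem L732 : sm ga N81 = N81 := ded_14_1 (flp_f L730) L507 L730
theorem L733 : sm gb N81 = N59 := ded_22_1 (flp_f L532) (flp_b L508) L730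
theorem L735 : sm gc N81 = N81 := ded_29_1 (flp_f L730) L510 L730
theorem L736 : sm gj N81 = N81 := ded_46_2 (flp_f L730) L512 L730
theorem L737 : sm gh N81 = N81 := ded_47_2 (flp_f L730) L513 L730
theorem L738 : sm ge N81 = N81 := ded_40_1 (flp_f L730) (flp_e L505) L357 L505 L730
theorem L739 : sm gi N56 = N82 := rfl
theorem L741 : sm ga N82 = N82 := ded_18_1 (flp_i L739) L507 L739
theorem L742 : sm gb N82 = N60 := ded_26_1 (flp_i L541) (flp_b L508) L739
theorem L744 : sm gc N82 = N82 := ded_33_1 (flp_i L739) L510 L739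
theorem L745 : sm ge N82 = N57 := ded_44_1 (flp_i L514) L505 L739
theorem L747 : sm gg N82 = N82 := ded_51_1 (flp_i L739) L511 L739
theorem L748 : sm gj N82 = N82 := ded_53_1 (flp_i L739) L512 L739
theorem L749 : sm gh N57 = N83 := rfl
theorem L751 : sm ga N83 = N83 := ded_17_1 (flp_h L749) L516 L749
theorem L752 : sm gb N83 = N61 := ded_25_1 (flp_h L551) (flp_b L517) L749
theorem L754 : sm gc N83 = N83 := ded_32_1 (flp_h L749) L519 L749
theorem L755 : sm gf N83 = N83 := ded_47_1 (flp_h L749) L521 L749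
theorem L756 : sm gg N83 = N83 := ded_50_1 (flp_h L749) L522 L749
theorem L757 : sm gj N83 = N83 := ded_52_1 (flp_h L749) L523 L749
theorem L758 : sm gi N83 = N83 := ded_54_2 (flp_h L749) (flp_i L514) L360 L514 L749
theorem L759 : sm gf N58 = N84 := rfl
theorem L761 : sm ga N84 = N65 := ded_14_1 (flp_f L590) (flp_a L526) L759
theorem L763 : sm gc N84 = N84 := ded_29_1 (flp_f L759) L530 L759
theorem L764 : sm gd N84 = N59 := ded_35_1 (flp_f L532) L524 L759
theorem L766 : sm gj N84 = N84 := ded_46_2 (flp_f L759) L529 L759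
theorem L767 : sm gh N58 = N85 := rfl
theorem L769 : sm ga N85 = N66 := ded_17_1 (flp_h L597) (flp_a L526) L767
theorem L771 : sm gc N85 = N85 := ded_32_1 (flp_h L767) L530 L767
theorem L772 : sm ge N85 = N85 := ded_43_1 (flp_h L767) L531 L767
theorem L773 : sm gg N85 = N85 := ded_50_1 (flp_h L767) L528 L767
theorem L774 : sm gj N85 = N85 := ded_52_1 (flp_h L767) L529 L767
theorem L775 : sm gd N85 = N85 := ded_38_1 (flp_h L767) (flp_d L524) L371 L524 L767
theorem L776 : sm gi N58 = N86 := rfl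
theorem L778 : sm ga N86 = N67 := ded_18_1 (flp_i L605) (flp_a L526) L776
theorem L780 : sm gc N86 = N86 := ded_33_1 (flp_i L776) L530 L776
theorem L781 : sm gd N86 = N60 := ded_39_1 (flp_i L541) L524 L776
theorem L783 : sm ge N86 = N86 := ded_44_1 (flp_i L776) L531 L776
theorem L784 : sm gg N86 = N86 := ded_51_1 (flp_i L776) L528 L776
theorem L785 : sm gj N86 = N86 := ded_53_1 (flp_i L776) L529 L776
theorem L786 : sm gg N59 = N87 := rfl
theorem L788 : sm ga N87 = N68 := ded_15_1 (flp_g L614) (flp_a L534) L786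
theorem L790 : sm gc N87 = N62 := ded_30_1 (flp_g L561) (flp_c L536) L786
theorem L792 : sm ge N87 = N87 := ded_41_1 (flp_g L786) L540 L786
theorem L793 : sm gh N87 = N87 := ded_50_2 (flp_g L786) L539 L786
theorem L794 : sm gf N87 = N87 := ded_45_1 (flp_g L786) (flp_f L532) L369 L532 L786
theorem L795 : sm gi N59 = N88 := rfl
theorem L797 : sm ga N88 = N69 := ded_18_1 (flp_i L622) (flp_a L534) L795
theorem L799 : sm gc N88 = N63 := ded_33_1 (flp_i L570) (flp_c L536) L795
theorem L801 : sm ge N88 = N88 := ded_44_1 (flp_i L795) L540 L795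
theorem L802 : sm gf N88 = N60 := ded_48_1 (flp_i L541) L532 L795
theorem L804 : sm gj N88 = N88 := ded_53_1 (flp_i L795) L538 L795
theorem L805 : sm gh N60 = N89 := rfl
theorem L807 : sm ga N89 = N70 := ded_17_1 (flp_h L631) (flp_a L543) L805
theorem L809 : sm gc N89 = N64 := ded_32_1 (flp_h L580) (flp_c L545) L805
theorem L811 : sm ge N89 = N61 := ded_43_1 (flp_h L551) (flp_e L547) L805
theorem L813 : sm gg N89 = N89 := ded_50_1 (flp_h L805) L549 L805
theorem L814 : sm gj N89 = N89 := ded_52_1 (flp_h L805) L550 L805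
theorem L815 : sm gi N89 = N89 := ded_54_2 (flp_h L805) (flp_i L541) L371 L541 L805
theorem L816 : sm gd N61 = N90 := rfl
theorem L818 : sm ga N90 = N71 := ded_12_1 (flp_d L641) (flp_a L553) L816
theorem L820 : sm gf N90 = N90 := ded_35_2 (flp_d L816) L557 L816
theorem L821 : sm gg N90 = N90 := ded_36_2 (flp_d L816) L558 L816
theorem L822 : sm gj N90 = N90 := ded_37_2 (flp_d L816) L559 L816
theorem L823 : sm gi N90 = N90 := ded_39_2 (flp_d L816) L560 L816
theorem L824 : sm gc N90 = N90 := ded_27_1 (flp_d L816) L555 L409 (flp_c L555) L816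
theorem L825 : sm gh N90 = N90 := ded_38_2 (flp_d L816) (flp_h L551) L378 L551 L816
theorem L826 : sm gj N62 = N91 := rfl
theorem L828 : sm ga N91 = N72 := ded_16_1 (flp_j L650) (flp_a L563) L826
theorem L830 : sm gb N91 = N91 := ded_24_1 (flp_j L826) L565 L826
theorem L831 : sm gd N91 = N91 := ded_37_1 (flp_j L826) L566 L826
theorem L832 : sm ge N91 = N91 := ded_42_1 (flp_j L826) L567 L826
theorem L833 : sm gf N91 = N91 := ded_46_1 (flp_j L826) L569 L826
theorem L834 : sm gh N91 = N91 := ded_52_2 (flp_j L826) L568 L826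
theorem L835 : sm gg N91 = N91 := ded_49_1 (flp_j L826) (flp_g L561) L388 L561 L826
theorem L836 : sm gi N62 = N92 := rfl
theorem L838 : sm ga N92 = N73 := ded_18_1 (flp_i L659) (flp_a L563) L836
theorem L840 : sm gb N92 = N92 := ded_26_1 (flp_i L836) L565 L836
theorem L841 : sm gd N92 = N92 := ded_39_1 (flp_i L836) L566 L836
theorem L842 : sm ge N92 = N92 := ded_44_1 (flp_i L836) L567 L836
theorem L843 : sm gf N92 = N92 := ded_48_1 (flp_i L836) L569 L836
theorem L844 : sm gg N92 = N63 := ded_51_1 (flp_i L570) L561 L836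
theorem L846 : sm gh N63 = N93 := rfl
theorem L848 : sm ga N93 = N74 := ded_17_1 (flp_h L668) (flp_a L572) L846
theorem L850 : sm gb N93 = N93 := ded_25_1 (flp_h L846) L574 L846
theorem L851 : sm ge N93 = N93 := ded_43_1 (flp_h L846) L576 L846
theorem L852 : sm gf N93 = N64 := ded_47_1 (flp_h L580) (flp_f L577) L846
theorem L854 : sm gj N93 = N93 := ded_52_1 (flp_h L846) L579 L846
theorem L855 : sm gi N93 = N93 := ded_54_2 (flp_h L846) (flp_i L570) L389 L570 L846
theorem L856 : sm gd N64 = N94 := rfl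
theorem L858 : sm ga N94 = N75 := ded_12_1 (flp_d L677) (flp_a L582) L856
theorem L860 : sm gb N94 = N94 := ded_20_1 (flp_d L856) L584 L856
theorem L861 : sm gg N94 = N94 := ded_36_2 (flp_d L856) L587 L856
theorem L862 : sm gj N94 = N94 := ded_37_2 (flp_d L856) L588 L856
theorem L863 : sm gi N94 = N94 := ded_39_2 (flp_d L856) L589 L856
theorem L864 : sm ge N94 = N94 := ded_34_2 (flp_d L856) L585 L409 (flp_e L585) L856
theorem L865 : sm gh N94 = N94 := ded_38_2 (flp_d L856) (flp_h L580) L396 L580 L856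
theorem L866 : sm ge N65 = N95 := rfl
theorem L868 : sm gb N95 = N95 := ded_21_1 (flp_e L866) L592 L866
theorem L869 : sm gc N95 = N95 := ded_28_1 (flp_e L866) L593 L866
theorem L870 : sm gj N95 = N95 := ded_42_2 (flp_e L866) L596 L866
theorem L871 : sm gd N95 = N95 := ded_34_1 (flp_e L866) L594 L425 (flp_d L594) L866
theorem L872 : sm gf N95 = N95 := ded_40_2 (flp_e L866) (flp_f L590) L417 L590 L866
theorem L873 : sm gg N65 = N96 := rfl
theorem L875 : sm gb N96 = N96 := ded_23_1 (flp_g L873) L592 L873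
theorem L876 : sm gc N96 = N96 := ded_30_1 (flp_g L873) L593 L873
theorem L877 : sm gd N96 = N68 := ded_36_1 (flp_g L614) (flp_d L594) L873
theorem L879 : sm gf N96 = N96 := ded_45_1 (flp_g L873) (flp_f L590) L414 L590 L873
theorem L880 : sm gh N65 = N97 := rfl
theorem L882 : sm gb N97 = N97 := ded_25_1 (flp_h L880) L592 L880
theorem L883 : sm gc N97 = N97 := ded_32_1 (flp_h L880) L593 L880
theorem L884 : sm gf N97 = N66 := ded_47_1 (flp_h L597) L590 L880
theorem L886 : sm gj N97 = N97 := ded_52_1 (flp_h L880) L596 L880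
theorem L887 : sm gd N97 = N97 := ded_38_1 (flp_h L880) L594 L424 (flp_d L594) L880
theorem L888 : sm gi N65 = N98 := rfl
theorem L890 : sm gb N98 = N98 := ded_26_1 (flp_i L888) L592 L888
theorem L891 : sm gc N98 = N98 := ded_33_1 (flp_i L888) L593 L888
theorem L892 : sm gd N98 = N69 := ded_39_1 (flp_i L622) (flp_d L594) L888
theorem L894 : sm gf N98 = N67 := ded_48_1 (flp_i L605) L590 L888
theorem L896 : sm gj N98 = N98 := ded_53_1 (flp_i L888) L596 L888
theorem L897 : sm gi N66 = N99 := rfl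
theorem L899 : sm gb N99 = N99 := ded_26_1 (flp_i L897) L599 L897
theorem L900 : sm gc N99 = N99 := ded_33_1 (flp_i L897) L600 L897
theorem L901 : sm gd N99 = N99 := ded_39_1 (flp_i L897) L604 L897
theorem L902 : sm ge N99 = N99 := ded_44_1 (flp_i L897) L601 L897
theorem L903 : sm gg N99 = N99 := ded_51_1 (flp_i L897) L602 L897
theorem L904 : sm gj N99 = N99 := ded_53_1 (flp_i L897) L603 L897
theorem L905 : sm gh N67 = N100 := rfl
theorem L907 : sm gb N100 = N100 := ded_25_1 (flp_h L905) L607 L905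
theorem L908 : sm gc N100 = N100 := ded_32_1 (flp_h L905) L608 L905
theorem L909 : sm ge N100 = N100 := ded_43_1 (flp_h L905) L611 L905
theorem L910 : sm gg N100 = N100 := ded_50_1 (flp_h L905) L612 L905
theorem L911 : sm gj N100 = N100 := ded_52_1 (flp_h L905) L613 L905
theorem L912 : sm gj N68 = N101 := rfl
theorem L914 : sm gb N101 = N101 := ded_24_1 (flp_j L912) L616 L912
theorem L915 : sm gc N101 = N72 := ded_31_1 (flp_j L650) (flp_c L617) L912
theorem L917 : sm ge N101 = N101 := ded_42_1 (flp_j L912) L619 L912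
theorem L918 : sm gf N101 = N101 := ded_46_1 (flp_j L912) L621 L912
theorem L919 : sm gh N101 = N101 := ded_52_2 (flp_j L912) L620 L912
theorem L920 : sm gg N101 = N101 := ded_49_1 (flp_j L912) (flp_g L614) L423 L614 L912
theorem L921 : sm gi N68 = N102 := rfl
theorem L923 : sm gb N102 = N102 := ded_26_1 (flp_i L921) L616 L921
theorem L924 : sm gc N102 = N73 := ded_33_1 (flp_i L659) (flp_c L617) L921
theorem L926 : sm ge N102 = N102 := ded_44_1 (flp_i L921) L619 L921
theorem L927 : sm gf N102 = N102 := ded_48_1 (flp_i L921) L621 L921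
theorem L928 : sm gg N102 = N69 := ded_51_1 (flp_i L622) L614 L921
theorem L930 : sm gh N69 = N103 := rfl
theorem L932 : sm gb N103 = N103 := ded_25_1 (flp_h L930) L624 L930
theorem L933 : sm gc N103 = N74 := ded_32_1 (flp_h L668) (flp_c L625) L930
theorem L935 : sm ge N103 = N103 := ded_43_1 (flp_h L930) L627 L930
theorem L936 : sm gf N103 = N70 := ded_47_1 (flp_h L631) (flp_f L628) L930
theorem L938 : sm gj N103 = N103 := ded_52_1 (flp_h L930) L630 L930
theorem L939 : sm gi N103 = N103 := ded_54_2 (flp_h L930) (flp_i L622) L424 L622 L930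
theorem L940 : sm gd N70 = N104 := rfl
theorem L942 : sm gb N104 = N104 := ded_20_1 (flp_d L940) L633 L940
theorem L943 : sm gg N104 = N104 := ded_36_2 (flp_d L940) L638 L940
theorem L944 : sm gj N104 = N104 := ded_37_2 (flp_d L940) L639 L940
theorem L945 : sm gi N104 = N104 := ded_39_2 (flp_d L940) L640 L940
theorem L946 : sm ge N71 = N105 := rfl
theorem L948 : sm gb N105 = N105 := ded_21_1 (flp_e L946) L643 L946
theorem L949 : sm gc N105 = N105 := ded_28_1 (flp_e L946) L648 L946
theorem L950 : sm gg N105 = N105 := ded_41_2 (flp_e L946) L645 L946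
theorem L951 : sm gj N105 = N105 := ded_42_2 (flp_e L946) L646 L946
theorem L952 : sm gh N105 = N105 := ded_43_2 (flp_e L946) L649 L946
theorem L953 : sm gi N105 = N105 := ded_44_2 (flp_e L946) L647 L946
theorem L954 : sm gi N72 = N106 := rfl
theorem L956 : sm gb N106 = N76 := ded_26_1 (flp_i L686) (flp_b L652) L954
theorem L958 : sm gd N106 = N106 := ded_39_1 (flp_i L954) L654 L954
theorem L959 : sm ge N106 = N106 := ded_44_1 (flp_i L954) L655 L954
theorem L960 : sm gf N106 = N106 := ded_48_1 (flp_i L954) L656 L954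
theorem L961 : sm gg N106 = N106 := ded_51_1 (flp_i L954) L658 L954
theorem L962 : sm gj N106 = N73 := ded_53_1 (flp_i L659) L650 L954
theorem L964 : sm gh N73 = N107 := rfl
theorem L966 : sm gb N107 = N77 := ded_25_1 (flp_h L696) (flp_b L661) L964
theorem L968 : sm ge N107 = N107 := ded_43_1 (flp_h L964) L664 L964
theorem L969 : sm gf N107 = N107 := ded_47_1 (flp_h L964) L665 L964
theorem L970 : sm gg N107 = N74 := ded_50_1 (flp_h L668) (flp_g L666) L964
theorem L972 : sm gi N107 = N107 := ded_54_2 (flp_h L964) (flp_i L659) L450 L659 L964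
theorem L973 : sm gd N74 = N108 := rfl
theorem L975 : sm gb N108 = N78 := ded_20_1 (flp_d L705) (flp_b L670) L973
theorem L977 : sm gf N108 = N75 := ded_35_2 (flp_d L677) (flp_f L673) L973
theorem L979 : sm gj N108 = N108 := ded_37_2 (flp_d L973) L675 L973
theorem L980 : sm gi N108 = N108 := ded_39_2 (flp_d L973) L676 L973
theorem L981 : sm gh N108 = N108 := ded_38_2 (flp_d L973) (flp_h L668) L456 L668 L973
theorem L982 : sm gc N75 = N109 := rfl
theorem L984 : sm ge N109 = N109 := ded_28_2 (flp_c L982) L684 L982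
theorem L985 : sm gg N109 = N109 := ded_30_2 (flp_c L982) L681 L982
theorem L986 : sm gj N109 = N109 := ded_31_2 (flp_c L982) L682 L982
theorem L987 : sm gh N109 = N109 := ded_32_2 (flp_c L982) L685 L982
theorem L988 : sm gi N109 = N109 := ded_33_2 (flp_c L982) L683 L982
theorem L989 : sm gh N76 = N110 := rfl
theorem L991 : sm ga N110 = N110 := ded_17_1 (flp_h L989) L688 L989
theorem L992 : sm gc N110 = N110 := ded_32_1 (flp_h L989) L689 L989
theorem L993 : sm ge N110 = N110 := ded_43_1 (flp_h L989) L691 L989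
theorem L994 : sm gf N110 = N110 := ded_47_1 (flp_h L989) L692 L989
theorem L995 : sm gg N110 = N110 := ded_50_1 (flp_h L989) L693 L989
theorem L996 : sm gj N110 = N77 := ded_52_1 (flp_h L696) (flp_j L694) L989
theorem L998 : sm gi N110 = N110 := ded_54_2 (flp_h L989) (flp_i L686) L477 L686 L989
theorem L999 : sm gd N77 = N111 := rfl
theorem L1001 : sm ga N111 = N111 := ded_12_1 (flp_d L999) L698 L999
theorem L1002 : sm gf N111 = N111 := ded_35_2 (flp_d L999) L701 L999
theorem L1003 : sm gg N111 = N78 := ded_36_2 (flp_d L705) (flp_g L702) L999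
theorem L1005 : sm gi N111 = N111 := ded_39_2 (flp_d L999) L704 L999
theorem L1006 : sm gh N111 = N111 := ded_38_2 (flp_d L999) (flp_h L696) L483 L696 L999
theorem L1007 : sm gc N78 = N112 := rfl
theorem L1009 : sm ga N112 = N112 := ded_11_1 (flp_c L1007) L707 L1007
theorem L1010 : sm gf N112 = N79 := ded_29_2 (flp_c L713) (flp_f L708) L1007
theorem L1012 : sm gj N112 = N112 := ded_31_2 (flp_c L1007) L710 L1007
theorem L1013 : sm gh N112 = N112 := ded_32_2 (flp_c L1007) L712 L1007
theorem L1014 : sm gi N112 = N112 := ded_33_2 (flp_c L1007) L711 L1007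
theorem L1015 : sm gd N112 = N112 := ded_27_2 (flp_c L1007) (flp_d L705) L491 L705 L1007
theorem L1016 : sm ge N78 = N113 := rfl
theorem L1018 : sm ga N113 = N113 := ded_13_1 (flp_e L1016) L707 L1016
theorem L1019 : sm gj N113 = N113 := ded_42_2 (flp_e L1016) L710 L1016
theorem L1020 : sm gh N113 = N113 := ded_43_2 (flp_e L1016) L712 L1016
theorem L1021 : sm gi N113 = N113 := ded_44_2 (flp_e L1016) L711 L1016
theorem L1022 : sm gd N113 = N113 := ded_34_1 (flp_e L1016) (flp_d L705) L492 L705 L1016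
theorem L1023 : sm gf N113 = N113 := ded_40_2 (flp_e L1016) L708 L503 (flp_f L708) L1016
theorem L1024 : sm gb N79 = N114 := rfl
theorem L1026 : sm gd N114 = N114 := ded_20_2 (flp_b L1024) L721 L1024
theorem L1027 : sm ge N114 = N114 := ded_21_2 (flp_b L1024) L716 L1024
theorem L1028 : sm gg N114 = N114 := ded_23_2 (flp_b L1024) L717 L1024
theorem L1029 : sm gj N114 = N114 := ded_24_2 (flp_b L1024) L718 L1024
theorem L1030 : sm gh N114 = N114 := ded_25_2 (flp_b L1024) L719 L1024
theorem L1031 : sm gi N114 = N114 := ded_26_2 (flp_b L1024) L720 L1024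
theorem L1032 : sm gc N80 = N115 := rfl
theorem L1034 : sm ga N115 = N115 := ded_11_1 (flp_c L1032) L724 L1032
theorem L1035 : sm ge N115 = N115 := ded_28_2 (flp_c L1032) L729 L1032
theorem L1036 : sm gg N115 = N115 := ded_30_2 (flp_c L1032) L727 L1032
theorem L1037 : sm gj N115 = N115 := ded_31_2 (flp_c L1032) L728 L1032
theorem L1038 : sm gb N115 = N115 := ded_19_1 (flp_c L1032) L725 L530 (flp_b L725) L1032
theorem L1039 : sm gd N115 = N115 := ded_27_2 (flp_c L1032) (flp_d L722) L510 L722 L1032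
theorem L1040 : sm gf N80 = N116 := rfl
theorem L1042 : sm ga N116 = N116 := ded_14_1 (flp_f L1040) L724 L1040
theorem L1043 : sm gb N116 = N84 := ded_22_1 (flp_f L759) (flp_b L725) L1040
theorem L1045 : sm gd N116 = N81 := ded_35_1 (flp_f L730) L722 L1040
theorem L1047 : sm gj N116 = N116 := ded_46_2 (flp_f L1040) L728 L1040
theorem L1048 : sm gh N80 = N117 := rfl
theorem L1050 : sm ga N117 = N117 := ded_17_1 (flp_h L1048) L724 L1048
theorem L1051 : sm gb N117 = N85 := ded_25_1 (flp_h L767) (flp_b L725) L1048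
theorem L1053 : sm ge N117 = N117 := ded_43_1 (flp_h L1048) L729 L1048
theorem L1054 : sm gg N117 = N117 := ded_50_1 (flp_h L1048) L727 L1048
theorem L1055 : sm gj N117 = N117 := ded_52_1 (flp_h L1048) L728 L1048
theorem L1056 : sm gd N117 = N117 := ded_38_1 (flp_h L1048) (flp_d L722) L513 L722 L1048
theorem L1057 : sm gi N80 = N118 := rfl
theorem L1059 : sm ga N118 = N118 := ded_18_1 (flp_i L1057) L724 L1057
theorem L1060 : sm gb N118 = N86 := ded_26_1 (flp_i L776) (flp_b L725) L1057
theorem L1062 : sm gd N118 = N82 := ded_39_1 (flp_i L739) L722 L1057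
theorem L1064 : sm ge N118 = N118 := ded_44_1 (flp_i L1057) L729 L1057
theorem L1065 : sm gg N118 = N118 := ded_51_1 (flp_i L1057) L727 L1057
theorem L1066 : sm gj N118 = N118 := ded_53_1 (flp_i L1057) L728 L1057
theorem L1067 : sm gg N81 = N119 := rfl
theorem L1069 : sm ga N119 = N119 := ded_15_1 (flp_g L1067) L732 L1067
theorem L1070 : sm gb N119 = N87 := ded_23_1 (flp_g L786) (flp_b L733) L1067
theorem L1072 : sm gc N119 = N119 := ded_30_1 (flp_g L1067) L735 L1067
theorem L1073 : sm ge N119 = N119 := ded_41_1 (flp_g L1067) L738 L1067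
theorem L1074 : sm gh N119 = N119 := ded_50_2 (flp_g L1067) L737 L1067
theorem L1075 : sm gf N119 = N119 := ded_45_1 (flp_g L1067) (flp_f L730) L511 L730 L1067
theorem L1076 : sm gi N81 = N120 := rfl
theorem L1078 : sm ga N120 = N120 := ded_18_1 (flp_i L1076) L732 L1076
theorem L1079 : sm gb N120 = N88 := ded_26_1 (flp_i L795) (flp_b L733) L1076
theorem L1081 : sm gc N120 = N120 := ded_33_1 (flp_i L1076) L735 L1076
theorem L1082 : sm ge N120 = N120 := ded_44_1 (flp_i L1076) L738 L1076
theorem L1083 : sm gf N120 = N82 := ded_48_1 (flp_i L739) L730 L1076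
theorem L1085 : sm gj N120 = N120 := ded_53_1 (flp_i L1076) L736 L1076
theorem L1086 : sm gh N82 = N121 := rfl
theorem L1088 : sm ga N121 = N121 := ded_17_1 (flp_h L1086) L741 L1086
theorem L1089 : sm gb N121 = N89 := ded_25_1 (flp_h L805) (flp_b L742) L1086
theorem L1091 : sm gc N121 = N121 := ded_32_1 (flp_h L1086) L744 L1086
theorem L1092 : sm ge N121 = N83 := ded_43_1 (flp_h L749) (flp_e L745) L1086
theorem L1094 : sm gg N121 = N121 := ded_50_1 (flp_h L1086) L747 L1086
theorem L1095 : sm gj N121 = N121 := ded_52_1 (flp_h L1086) L748 L1086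
theorem L1096 : sm gi N121 = N121 := ded_54_2 (flp_h L1086) (flp_i L739) L513 L739 L1086
theorem L1097 : sm gd N83 = N122 := rfl
theorem L1099 : sm ga N122 = N122 := ded_12_1 (flp_d L1097) L751 L1097
theorem L1100 : sm gb N122 = N90 := ded_20_1 (flp_d L816) (flp_b L752) L1097
theorem L1102 : sm gf N122 = N122 := ded_35_2 (flp_d L1097) L755 L1097
theorem L1103 : sm gg N122 = N122 := ded_36_2 (flp_d L1097) L756 L1097
theorem L1104 : sm gj N122 = N122 := ded_37_2 (flp_d L1097) L757 L1097
theorem L1105 : sm gi N122 = N122 := ded_39_2 (flp_d L1097) L758 L1097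
theorem L1106 : sm gh N122 = N122 := ded_38_2 (flp_d L1097) (flp_h L749) L520 L749 L1097
theorem L1107 : sm ge N84 = N123 := rfl
theorem L1109 : sm ga N123 = N95 := ded_13_1 (flp_e L866) (flp_a L761) L1107
theorem L1111 : sm gc N123 = N123 := ded_28_1 (flp_e L1107) L763 L1107
theorem L1112 : sm gj N123 = N123 := ded_42_2 (flp_e L1107) L766 L1107
theorem L1113 : sm gd N123 = N123 := ded_34_1 (flp_e L1107) L764 L540 (flp_d L764) L1107
theorem L1114 : sm gf N123 = N123 := ded_40_2 (flp_e L1107) (flp_f L759) L531 L759 L1107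
theorem L1115 : sm gg N84 = N124 := rfl
theorem L1117 : sm ga N124 = N96 := ded_15_1 (flp_g L873) (flp_a L761) L1115
theorem L1119 : sm gc N124 = N124 := ded_30_1 (flp_g L1115) L763 L1115
theorem L1120 : sm gd N124 = N87 := ded_36_1 (flp_g L786) (flp_d L764) L1115
theorem L1122 : sm gf N124 = N124 := ded_45_1 (flp_g L1115) (flp_f L759) L528 L759 L1115
theorem L1123 : sm gh N84 = N125 := rfl
theorem L1125 : sm ga N125 = N97 := ded_17_1 (flp_h L880) (flp_a L761) L1123
theorem L1127 : sm gc N125 = N125 := ded_32_1 (flp_h L1123) L763 L1123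
theorem L1128 : sm gf N125 = N85 := ded_47_1 (flp_h L767) L759 L1123
theorem L1130 : sm gj N125 = N125 := ded_52_1 (flp_h L1123) L766 L1123
theorem L1131 : sm gd N125 = N125 := ded_38_1 (flp_h L1123) L764 L539 (flp_d L764) L1123
theorem L1132 : sm gi N84 = N126 := rfl
theorem L1134 : sm ga N126 = N98 := ded_18_1 (flp_i L888) (flp_a L761) L1132
theorem L1136 : sm gc N126 = N126 := ded_33_1 (flp_i L1132) L763 L1132
theorem L1137 : sm gd N126 = N88 := ded_39_1 (flp_i L795) (flp_d L764) L1132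
theorem L1139 : sm gf N126 = N86 := ded_48_1 (flp_i L776) L759 L1132
theorem L1141 : sm gj N126 = N126 := ded_53_1 (flp_i L1132) L766 L1132
theorem L1142 : sm gi N85 = N127 := rfl
theorem L1144 : sm ga N127 = N99 := ded_18_1 (flp_i L897) (flp_a L769) L1142
theorem L1146 : sm gc N127 = N127 := ded_33_1 (flp_i L1142) L771 L1142
theorem L1147 : sm gd N127 = N127 := ded_39_1 (flp_i L1142) L775 L1142
theorem L1148 : sm ge N127 = N127 := ded_44_1 (flp_i L1142) L772 L1142
theorem L1149 : sm gg N127 = N127 := ded_51_1 (flp_i L1142) L773 L1142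
theorem L1150 : sm gj N127 = N127 := ded_53_1 (flp_i L1142) L774 L1142
theorem L1151 : sm gh N86 = N128 := rfl
theorem L1153 : sm ga N128 = N100 := ded_17_1 (flp_h L905) (flp_a L778) L1151
theorem L1155 : sm gc N128 = N128 := ded_32_1 (flp_h L1151) L780 L1151
theorem L1156 : sm ge N128 = N128 := ded_43_1 (flp_h L1151) L783 L1151
theorem L1157 : sm gg N128 = N128 := ded_50_1 (flp_h L1151) L784 L1151
theorem L1158 : sm gj N128 = N128 := ded_52_1 (flp_h L1151) L785 L1151
theorem L1159 : sm gj N87 = N129 := rfl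
theorem L1161 : sm ga N129 = N101 := ded_16_1 (flp_j L912) (flp_a L788) L1159
theorem L1163 : sm gc N129 = N91 := ded_31_1 (flp_j L826) (flp_c L790) L1159
theorem L1165 : sm ge N129 = N129 := ded_42_1 (flp_j L1159) L792 L1159
theorem L1166 : sm gf N129 = N129 := ded_46_1 (flp_j L1159) L794 L1159
theorem L1167 : sm gh N129 = N129 := ded_52_2 (flp_j L1159) L793 L1159
theorem L1168 : sm gg N129 = N129 := ded_49_1 (flp_j L1159) (flp_g L786) L538 L786 L1159
theorem L1169 : sm gi N87 = N130 := rfl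
theorem L1171 : sm ga N130 = N102 := ded_18_1 (flp_i L921) (flp_a L788) L1169
theorem L1173 : sm gc N130 = N92 := ded_33_1 (flp_i L836) (flp_c L790) L1169
theorem L1175 : sm ge N130 = N130 := ded_44_1 (flp_i L1169) L792 L1169
theorem L1176 : sm gf N130 = N130 := ded_48_1 (flp_i L1169) L794 L1169
theorem L1177 : sm gg N130 = N88 := ded_51_1 (flp_i L795) L786 L1169
theorem L1179 : sm gh N88 = N131 := rfl
theorem L1181 : sm ga N131 = N103 := ded_17_1 (flp_h L930) (flp_a L797) L1179
theorem L1183 : sm gc N131 = N93 := ded_32_1 (flp_h L846) (flp_c L799) L1179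
theorem L1185 : sm ge N131 = N131 := ded_43_1 (flp_h L1179) L801 L1179
theorem L1186 : sm gf N131 = N89 := ded_47_1 (flp_h L805) (flp_f L802) L1179
theorem L1188 : sm gj N131 = N131 := ded_52_1 (flp_h L1179) L804 L1179
theorem L1189 : sm gi N131 = N131 := ded_54_2 (flp_h L1179) (flp_i L795) L539 L795 L1179
theorem L1190 : sm gd N89 = N132 := rfl
theorem L1192 : sm ga N132 = N104 := ded_12_1 (flp_d L940) (flp_a L807) L1190
theorem L1194 : sm gg N132 = N132 := ded_36_2 (flp_d L1190) L813 L1190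
theorem L1195 : sm gj N132 = N132 := ded_37_2 (flp_d L1190) L814 L1190
theorem L1196 : sm gi N132 = N132 := ded_39_2 (flp_d L1190) L815 L1190
theorem L1197 : sm ge N90 = N133 := rfl
theorem L1199 : sm ga N133 = N105 := ded_13_1 (flp_e L946) (flp_a L818) L1197
theorem L1201 : sm gc N133 = N133 := ded_28_1 (flp_e L1197) L824 L1197
theorem L1202 : sm gg N133 = N133 := ded_41_2 (flp_e L1197) L821 L1197
theorem L1203 : sm gj N133 = N133 := ded_42_2 (flp_e L1197) L822 L1197
theorem L1204 : sm gh N133 = N133 := ded_43_2 (flp_e L1197) L825 L1197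
theorem L1205 : sm gi N133 = N133 := ded_44_2 (flp_e L1197) L823 L1197
theorem L1206 : sm gi N91 = N134 := rfl
theorem L1208 : sm ga N134 = N106 := ded_18_1 (flp_i L954) (flp_a L828) L1206
theorem L1210 : sm gb N134 = N134 := ded_26_1 (flp_i L1206) L830 L1206
theorem L1211 : sm gd N134 = N134 := ded_39_1 (flp_i L1206) L831 L1206
theorem L1212 : sm ge N134 = N134 := ded_44_1 (flp_i L1206) L832 L1206
theorem L1213 : sm gf N134 = N134 := ded_48_1 (flp_i L1206) L833 L1206
theorem L1214 : sm gg N134 = N134 := ded_51_1 (flp_i L1206) L835 L1206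
theorem L1215 : sm gj N134 = N92 := ded_53_1 (flp_i L836) L826 L1206
theorem L1217 : sm gh N92 = N135 := rfl
theorem L1219 : sm ga N135 = N107 := ded_17_1 (flp_h L964) (flp_a L838) L1217
theorem L1221 : sm gb N135 = N135 := ded_25_1 (flp_h L1217) L840 L1217
theorem L1222 : sm ge N135 = N135 := ded_43_1 (flp_h L1217) L842 L1217
theorem L1223 : sm gf N135 = N135 := ded_47_1 (flp_h L1217) L843 L1217
theorem L1224 : sm gg N135 = N93 := ded_50_1 (flp_h L846) (flp_g L844) L1217
theorem L1226 : sm gi N135 = N135 := ded_54_2 (flp_h L1217) (flp_i L836) L568 L836 L1217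
theorem L1227 : sm gd N93 = N136 := rfl
theorem L1229 : sm ga N136 = N108 := ded_12_1 (flp_d L973) (flp_a L848) L1227
theorem L1231 : sm gb N136 = N136 := ded_20_1 (flp_d L1227) L850 L1227
theorem L1232 : sm gf N136 = N94 := ded_35_2 (flp_d L856) (flp_f L852) L1227
theorem L1234 : sm gj N136 = N136 := ded_37_2 (flp_d L1227) L854 L1227
theorem L1235 : sm gi N136 = N136 := ded_39_2 (flp_d L1227) L855 L1227
theorem L1236 : sm gh N136 = N136 := ded_38_2 (flp_d L1227) (flp_h L846) L575 L846 L1227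
theorem L1237 : sm gc N94 = N137 := rfl
theorem L1239 : sm ga N137 = N109 := ded_11_1 (flp_c L982) (flp_a L858) L1237
theorem L1241 : sm ge N137 = N137 := ded_28_2 (flp_c L1237) L864 L1237
theorem L1242 : sm gg N137 = N137 := ded_30_2 (flp_c L1237) L861 L1237
theorem L1243 : sm gj N137 = N137 := ded_31_2 (flp_c L1237) L862 L1237
theorem L1244 : sm gh N137 = N137 := ded_32_2 (flp_c L1237) L865 L1237
theorem L1245 : sm gi N137 = N137 := ded_33_2 (flp_c L1237) L863 L1237
theorem L1246 : sm gg N95 = N138 := rfl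
theorem L1248 : sm gb N138 = N138 := ded_23_1 (flp_g L1246) L868 L1246
theorem L1249 : sm gc N138 = N138 := ded_30_1 (flp_g L1246) L869 L1246
theorem L1250 : sm gd N138 = N138 := ded_36_1 (flp_g L1246) L871 L1246
theorem L1251 : sm ge N138 = N96 := ded_41_1 (flp_g L873) L866 L1246
theorem L1253 : sm gh N95 = N139 := rfl
theorem L1255 : sm gb N139 = N139 := ded_25_1 (flp_h L1253) L868 L1253
theorem L1256 : sm gc N139 = N139 := ded_32_1 (flp_h L1253) L869 L1253
theorem L1257 : sm ge N139 = N97 := ded_43_1 (flp_h L880) L866 L1253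
theorem L1259 : sm gf N139 = N139 := ded_47_1 (flp_h L1253) L872 L1253
theorem L1260 : sm gj N139 = N139 := ded_52_1 (flp_h L1253) L870 L1253
theorem L1261 : sm gi N95 = N140 := rfl
theorem L1263 : sm gb N140 = N140 := ded_26_1 (flp_i L1261) L868 L1261
theorem L1264 : sm gc N140 = N140 := ded_33_1 (flp_i L1261) L869 L1261
theorem L1265 : sm gd N140 = N140 := ded_39_1 (flp_i L1261) L871 L1261
theorem L1266 : sm ge N140 = N98 := ded_44_1 (flp_i L888) L866 L1261
theorem L1268 : sm gf N140 = N140 := ded_48_1 (flp_i L1261) L872 L1261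
theorem L1269 : sm gj N140 = N140 := ded_53_1 (flp_i L1261) L870 L1261
theorem L1270 : sm gj N96 = N141 := rfl
theorem L1272 : sm gb N141 = N141 := ded_24_1 (flp_j L1270) L875 L1270
theorem L1273 : sm gc N141 = N141 := ded_31_1 (flp_j L1270) L876 L1270
theorem L1274 : sm gd N141 = N101 := ded_37_1 (flp_j L912) (flp_d L877) L1270
theorem L1276 : sm gf N141 = N141 := ded_46_1 (flp_j L1270) L879 L1270
theorem L1277 : sm gg N141 = N141 := ded_49_1 (flp_j L1270) (flp_g L873) L596 L873 L1270
theorem L1278 : sm gh N96 = N142 := rfl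
theorem L1280 : sm gb N142 = N142 := ded_25_1 (flp_h L1278) L875 L1278
theorem L1281 : sm gc N142 = N142 := ded_32_1 (flp_h L1278) L876 L1278
theorem L1282 : sm gf N142 = N142 := ded_47_1 (flp_h L1278) L879 L1278
theorem L1283 : sm gg N142 = N97 := ded_50_1 (flp_h L880) L873 L1278
theorem L1285 : sm gd N142 = N142 := ded_38_1 (flp_h L1278) L877 L620 (flp_d L877) L1278
theorem L1286 : sm gi N96 = N143 := rfl
theorem L1288 : sm gb N143 = N143 := ded_26_1 (flp_i L1286) L875 L1286
theorem L1289 : sm gc N143 = N143 := ded_33_1 (flp_i L1286) L876 L1286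
theorem L1290 : sm gd N143 = N102 := ded_39_1 (flp_i L921) (flp_d L877) L1286
theorem L1292 : sm gf N143 = N143 := ded_48_1 (flp_i L1286) L879 L1286
theorem L1293 : sm gg N143 = N98 := ded_51_1 (flp_i L888) L873 L1286
theorem L1295 : sm gi N97 = N144 := rfl
theorem L1297 : sm gb N144 = N144 := ded_26_1 (flp_i L1295) L882 L1295
theorem L1298 : sm gc N144 = N144 := ded_33_1 (flp_i L1295) L883 L1295
theorem L1299 : sm gd N144 = N144 := ded_39_1 (flp_i L1295) L887 L1295
theorem L1300 : sm gf N144 = N99 := ded_48_1 (flp_i L897) (flp_f L884) L1295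
theorem L1302 : sm gj N144 = N144 := ded_53_1 (flp_i L1295) L886 L1295
theorem L1303 : sm gh N98 = N145 := rfl
theorem L1305 : sm gb N145 = N145 := ded_25_1 (flp_h L1303) L890 L1303
theorem L1306 : sm gc N145 = N145 := ded_32_1 (flp_h L1303) L891 L1303
theorem L1307 : sm gf N145 = N100 := ded_47_1 (flp_h L905) (flp_f L894) L1303
theorem L1309 : sm gj N145 = N145 := ded_52_1 (flp_h L1303) L896 L1303
theorem L1310 : sm gh N99 = N146 := rfl
theorem L1312 : sm gb N146 = N146 := ded_25_1 (flp_h L1310) L899 L1310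
theorem L1313 : sm gc N146 = N146 := ded_32_1 (flp_h L1310) L900 L1310
theorem L1314 : sm ge N146 = N146 := ded_43_1 (flp_h L1310) L902 L1310
theorem L1315 : sm gg N146 = N146 := ded_50_1 (flp_h L1310) L903 L1310
theorem L1316 : sm gj N146 = N146 := ded_52_1 (flp_h L1310) L904 L1310
theorem L1317 : sm gi N146 = N100 := ded_54_2 (flp_h L905) (flp_i L605) L597 L897 L1310
theorem L1319 : sm gd N100 = N147 := rfl
theorem L1321 : sm gb N147 = N147 := ded_20_1 (flp_d L1319) L907 L1319
theorem L1322 : sm gg N147 = N147 := ded_36_2 (flp_d L1319) L910 L1319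
theorem L1323 : sm gj N147 = N147 := ded_37_2 (flp_d L1319) L911 L1319
theorem L1324 : sm gh N147 = N104 := ded_38_2 (flp_d L940) (flp_h L631) (flp_d L609) L905 L1319
theorem L1326 : sm gi N101 = N148 := rfl
theorem L1328 : sm gb N148 = N148 := ded_26_1 (flp_i L1326) L914 L1326
theorem L1329 : sm gc N148 = N106 := ded_33_1 (flp_i L954) (flp_c L915) L1326
theorem L1331 : sm ge N148 = N148 := ded_44_1 (flp_i L1326) L917 L1326
theorem L1332 : sm gf N148 = N148 := ded_48_1 (flp_i L1326) L918 L1326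
theorem L1333 : sm gg N148 = N148 := ded_51_1 (flp_i L1326) L920 L1326
theorem L1334 : sm gj N148 = N102 := ded_53_1 (flp_i L921) L912 L1326
theorem L1336 : sm gh N102 = N149 := rfl
theorem L1338 : sm gb N149 = N149 := ded_25_1 (flp_h L1336) L923 L1336
theorem L1339 : sm gc N149 = N107 := ded_32_1 (flp_h L964) (flp_c L924) L1336
theorem L1341 : sm ge N149 = N149 := ded_43_1 (flp_h L1336) L926 L1336
theorem L1342 : sm gf N149 = N149 := ded_47_1 (flp_h L1336) L927 L1336
theorem L1343 : sm gg N149 = N103 := ded_50_1 (flp_h L930) (flp_g L928) L1336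
theorem L1345 : sm gi N149 = N149 := ded_54_2 (flp_h L1336) (flp_i L921) L620 L921 L1336
theorem L1346 : sm gd N103 = N150 := rfl
theorem L1348 : sm gb N150 = N150 := ded_20_1 (flp_d L1346) L932 L1346
theorem L1349 : sm gf N150 = N104 := ded_35_2 (flp_d L940) (flp_f L936) L1346
theorem L1351 : sm gj N150 = N150 := ded_37_2 (flp_d L1346) L938 L1346
theorem L1352 : sm gi N150 = N150 := ded_39_2 (flp_d L1346) L939 L1346
theorem L1353 : sm gc N104 = N151 := rfl
theorem L1355 : sm gg N151 = N151 := ded_30_2 (flp_c L1353) L943 L1353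
theorem L1356 : sm gj N151 = N151 := ded_31_2 (flp_c L1353) L944 L1353
theorem L1357 : sm gi N151 = N151 := ded_33_2 (flp_c L1353) L945 L1353
theorem L1358 : sm gd N151 = N109 := ded_27_2 (flp_c L982) (flp_d L677) (flp_c L634) L940 L1353
theorem L1360 : sm ge N104 = N152 := rfl
theorem L1362 : sm gb N152 = N152 := ded_21_1 (flp_e L1360) L942 L1360
theorem L1363 : sm gg N152 = N152 := ded_41_2 (flp_e L1360) L943 L1360
theorem L1364 : sm gj N152 = N152 := ded_42_2 (flp_e L1360) L944 L1360
theorem L1365 : sm gi N152 = N152 := ded_44_2 (flp_e L1360) L945 L1360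
theorem L1366 : sm gd N152 = N105 := ded_34_1 (flp_e L946) (flp_d L641) (flp_e L636) L940 L1360
theorem L1368 : sm gf N105 = N153 := rfl
theorem L1370 : sm gb N153 = N153 := ded_22_1 (flp_f L1368) L948 L1368
theorem L1371 : sm gc N153 = N153 := ded_29_1 (flp_f L1368) L949 L1368
theorem L1372 : sm gj N153 = N153 := ded_46_2 (flp_f L1368) L951 L1368
theorem L1373 : sm gh N153 = N153 := ded_47_2 (flp_f L1368) L952 L1368
theorem L1374 : sm gi N153 = N153 := ded_48_2 (flp_f L1368) L953 L1368
theorem L1375 : sm ge N153 = N153 := ded_40_1 (flp_f L1368) (flp_e L946) L644 L946 L1368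
theorem L1376 : sm gh N106 = N154 := rfl
theorem L1378 : sm gb N154 = N110 := ded_25_1 (flp_h L989) (flp_b L956) L1376
theorem L1380 : sm ge N154 = N154 := ded_43_1 (flp_h L1376) L959 L1376
theorem L1381 : sm gf N154 = N154 := ded_47_1 (flp_h L1376) L960 L1376
theorem L1382 : sm gg N154 = N154 := ded_50_1 (flp_h L1376) L961 L1376
theorem L1383 : sm gj N154 = N107 := ded_52_1 (flp_h L964) (flp_j L962) L1376
theorem L1385 : sm gi N154 = N154 := ded_54_2 (flp_h L1376) (flp_i L954) L657 L954 L1376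
theorem L1386 : sm gd N107 = N155 := rfl
theorem L1388 : sm gb N155 = N111 := ded_20_1 (flp_d L999) (flp_b L966) L1386
theorem L1390 : sm gf N155 = N155 := ded_35_2 (flp_d L1386) L969 L1386
theorem L1391 : sm gg N155 = N108 := ded_36_2 (flp_d L973) (flp_g L970) L1386
theorem L1393 : sm gi N155 = N155 := ded_39_2 (flp_d L1386) L972 L1386
theorem L1394 : sm gh N155 = N155 := ded_38_2 (flp_d L1386) (flp_h L964) L663 L964 L1386
theorem L1395 : sm gc N108 = N156 := rfl
theorem L1397 : sm gf N156 = N109 := ded_29_2 (flp_c L982) (flp_f L977) L1395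
theorem L1399 : sm gj N156 = N156 := ded_31_2 (flp_c L1395) L979 L1395
theorem L1400 : sm gh N156 = N156 := ded_32_2 (flp_c L1395) L981 L1395
theorem L1401 : sm gi N156 = N156 := ded_33_2 (flp_c L1395) L980 L1395
theorem L1402 : sm ge N108 = N157 := rfl
theorem L1404 : sm gb N157 = N113 := ded_21_1 (flp_e L1016) (flp_b L975) L1402
theorem L1406 : sm gj N157 = N157 := ded_42_2 (flp_e L1402) L979 L1402
theorem L1407 : sm gh N157 = N157 := ded_43_2 (flp_e L1402) L981 L1402
theorem L1408 : sm gi N157 = N157 := ded_44_2 (flp_e L1402) L980 L1402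
theorem L1409 : sm gd N157 = N157 := ded_34_1 (flp_e L1402) (flp_d L973) L672 L973 L1402
theorem L1410 : sm gf N157 = N157 := ded_40_2 (flp_e L1402) L977 L684 (flp_f L977) L1402
theorem L1411 : sm gb N109 = N158 := rfl
theorem L1413 : sm ge N158 = N158 := ded_21_2 (flp_b L1411) L984 L1411
theorem L1414 : sm gg N158 = N158 := ded_23_2 (flp_b L1411) L985 L1411
theorem L1415 : sm gj N158 = N158 := ded_24_2 (flp_b L1411) L986 L1411
theorem L1416 : sm gh N158 = N158 := ded_25_2 (flp_b L1411) L987 L1411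
theorem L1417 : sm gi N158 = N158 := ded_26_2 (flp_b L1411) L988 L1411
theorem L1418 : sm gc N158 = N114 := ded_19_2 (flp_b L1024) (flp_c L713) (flp_b L679) L982 L1411
theorem L1420 : sm gd N110 = N159 := rfl
theorem L1422 : sm ga N159 = N159 := ded_12_1 (flp_d L1420) L991 L1420
theorem L1423 : sm gf N159 = N159 := ded_35_2 (flp_d L1420) L994 L1420
theorem L1424 : sm gg N159 = N159 := ded_36_2 (flp_d L1420) L995 L1420
theorem L1425 : sm gj N159 = N111 := ded_37_2 (flp_d L999) (flp_j L996) L1420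
theorem L1427 : sm gi N159 = N159 := ded_39_2 (flp_d L1420) L998 L1420
theorem L1428 : sm gh N159 = N159 := ded_38_2 (flp_d L1420) (flp_h L989) L690 L989 L1420
theorem L1429 : sm gc N111 = N160 := rfl
theorem L1431 : sm ga N160 = N160 := ded_11_1 (flp_c L1429) L1001 L1429
theorem L1432 : sm gf N160 = N160 := ded_29_2 (flp_c L1429) L1002 L1429
theorem L1433 : sm gg N160 = N112 := ded_30_2 (flp_c L1007) (flp_g L1003) L1429
theorem L1435 : sm gh N160 = N160 := ded_32_2 (flp_c L1429) L1006 L1429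
theorem L1436 : sm gi N160 = N160 := ded_33_2 (flp_c L1429) L1005 L1429
theorem L1437 : sm gd N160 = N160 := ded_27_2 (flp_c L1429) (flp_d L999) L699 L999 L1429
theorem L1438 : sm ge N111 = N161 := rfl
theorem L1440 : sm ga N161 = N161 := ded_13_1 (flp_e L1438) L1001 L1438
theorem L1441 : sm gg N161 = N113 := ded_41_2 (flp_e L1016) (flp_g L1003) L1438
theorem L1443 : sm gh N161 = N161 := ded_43_2 (flp_e L1438) L1006 L1438
theorem L1444 : sm gi N161 = N161 := ded_44_2 (flp_e L1438) L1005 L1438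
theorem L1445 : sm gd N161 = N161 := ded_34_1 (flp_e L1438) (flp_d L999) L700 L999 L1438
theorem L1446 : sm gb N112 = N162 := rfl
theorem L1448 : sm gd N162 = N162 := ded_20_2 (flp_b L1446) L1015 L1446
theorem L1449 : sm gf N162 = N114 := ded_22_2 (flp_b L1024) (flp_f L1010) L1446
theorem L1451 : sm gj N162 = N162 := ded_24_2 (flp_b L1446) L1012 L1446
theorem L1452 : sm gh N162 = N162 := ded_25_2 (flp_b L1446) L1013 L1446
theorem L1453 : sm gi N162 = N162 := ded_26_2 (flp_b L1446) L1014 L1446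
theorem L1454 : sm ge N112 = N163 := rfl
theorem L1456 : sm ga N163 = N163 := ded_13_1 (flp_e L1454) L1009 L1454
theorem L1457 : sm gc N163 = N113 := ded_28_1 (flp_e L1016) L1007 L1454
theorem L1459 : sm gj N163 = N163 := ded_42_2 (flp_e L1454) L1012 L1454
theorem L1460 : sm gh N163 = N163 := ded_43_2 (flp_e L1454) L1013 L1454
theorem L1461 : sm gi N163 = N163 := ded_44_2 (flp_e L1454) L1014 L1454
theorem L1462 : sm gf N163 = N163 := ded_40_2 (flp_e L1454) L1010 L716 (flp_f L1010) L1454
theorem L1463 : sm ga N114 = N164 := rfl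
theorem L1465 : sm gd N164 = N164 := ded_12_2 (flp_a L1463) L1026 L1463
theorem L1466 : sm ge N164 = N164 := ded_13_2 (flp_a L1463) L1027 L1463
theorem L1467 : sm gg N164 = N164 := ded_15_2 (flp_a L1463) L1028 L1463
theorem L1468 : sm gj N164 = N164 := ded_16_2 (flp_a L1463) L1029 L1463
theorem L1469 : sm gh N164 = N164 := ded_17_2 (flp_a L1463) L1030 L1463
theorem L1470 : sm gi N164 = N164 := ded_18_2 (flp_a L1463) L1031 L1463
theorem L1471 : sm gb N164 = N164 := ded_10_2 (flp_a L1463) (flp_b L1024) L715 L1024 L1463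
theorem L1472 : sm gf N115 = N165 := rfl
theorem L1474 : sm ga N165 = N165 := ded_14_1 (flp_f L1472) L1034 L1472
theorem L1475 : sm gb N165 = N165 := ded_22_1 (flp_f L1472) L1038 L1472
theorem L1476 : sm gc N165 = N116 := ded_29_1 (flp_f L1040) L1032 L1472
theorem L1478 : sm gd N165 = N165 := ded_35_1 (flp_f L1472) L1039 L1472
theorem L1479 : sm gj N165 = N165 := ded_46_2 (flp_f L1472) L1037 L1472
theorem L1480 : sm gh N115 = N166 := rfl
theorem L1482 : sm ga N166 = N166 := ded_17_1 (flp_h L1480) L1034 L1480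
theorem L1483 : sm gb N166 = N166 := ded_25_1 (flp_h L1480) L1038 L1480
theorem L1484 : sm gc N166 = N117 := ded_32_1 (flp_h L1048) L1032 L1480
theorem L1486 : sm ge N166 = N166 := ded_43_1 (flp_h L1480) L1035 L1480
theorem L1487 : sm gg N166 = N166 := ded_50_1 (flp_h L1480) L1036 L1480
theorem L1488 : sm gj N166 = N166 := ded_52_1 (flp_h L1480) L1037 L1480
theorem L1489 : sm gi N115 = N167 := rfl
theorem L1491 : sm ga N167 = N167 := ded_18_1 (flp_i L1489) L1034 L1489
theorem L1492 : sm gb N167 = N167 := ded_26_1 (flp_i L1489) L1038 L1489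
theorem L1493 : sm gc N167 = N118 := ded_33_1 (flp_i L1057) L1032 L1489
theorem L1495 : sm gd N167 = N167 := ded_39_1 (flp_i L1489) L1039 L1489
theorem L1496 : sm ge N167 = N167 := ded_44_1 (flp_i L1489) L1035 L1489
theorem L1497 : sm gg N167 = N167 := ded_51_1 (flp_i L1489) L1036 L1489
theorem L1498 : sm gj N167 = N167 := ded_53_1 (flp_i L1489) L1037 L1489
theorem L1499 : sm ge N116 = N168 := rfl
theorem L1501 : sm ga N168 = N168 := ded_13_1 (flp_e L1499) L1042 L1499
theorem L1502 : sm gb N168 = N123 := ded_21_1 (flp_e L1107) (flp_b L1043) L1499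
theorem L1504 : sm gj N168 = N168 := ded_42_2 (flp_e L1499) L1047 L1499
theorem L1505 : sm gd N168 = N168 := ded_34_1 (flp_e L1499) L1045 L738 (flp_d L1045) L1499
theorem L1506 : sm gf N168 = N168 := ded_40_2 (flp_e L1499) (flp_f L1040) L729 L1040 L1499
theorem L1507 : sm gg N116 = N169 := rfl
theorem L1509 : sm ga N169 = N169 := ded_15_1 (flp_g L1507) L1042 L1507
theorem L1510 : sm gb N169 = N124 := ded_23_1 (flp_g L1115) (flp_b L1043) L1507
theorem L1512 : sm gd N169 = N119 := ded_36_1 (flp_g L1067) (flp_d L1045) L1507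
theorem L1514 : sm gf N169 = N169 := ded_45_1 (flp_g L1507) (flp_f L1040) L727 L1040 L1507
theorem L1515 : sm gh N116 = N170 := rfl
theorem L1517 : sm ga N170 = N170 := ded_17_1 (flp_h L1515) L1042 L1515
theorem L1518 : sm gb N170 = N125 := ded_25_1 (flp_h L1123) (flp_b L1043) L1515
theorem L1520 : sm gf N170 = N117 := ded_47_1 (flp_h L1048) L1040 L1515
theorem L1522 : sm gj N170 = N170 := ded_52_1 (flp_h L1515) L1047 L1515
theorem L1523 : sm gd N170 = N170 := ded_38_1 (flp_h L1515) L1045 L737 (flp_d L1045) L1515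
theorem L1524 : sm gi N116 = N171 := rfl
theorem L1526 : sm ga N171 = N171 := ded_18_1 (flp_i L1524) L1042 L1524
theorem L1527 : sm gb N171 = N126 := ded_26_1 (flp_i L1132) (flp_b L1043) L1524
theorem L1529 : sm gd N171 = N120 := ded_39_1 (flp_i L1076) (flp_d L1045) L1524
theorem L1531 : sm gf N171 = N118 := ded_48_1 (flp_i L1057) L1040 L1524
theorem L1533 : sm gj N171 = N171 := ded_53_1 (flp_i L1524) L1047 L1524
theorem L1534 : sm gi N117 = N172 := rfl
theorem L1536 : sm ga N172 = N172 := ded_18_1 (flp_i L1534) L1050 L1534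
theorem L1537 : sm gb N172 = N127 := ded_26_1 (flp_i L1142) (flp_b L1051) L1534
theorem L1539 : sm gd N172 = N172 := ded_39_1 (flp_i L1534) L1056 L1534
theorem L1540 : sm ge N172 = N172 := ded_44_1 (flp_i L1534) L1053 L1534
theorem L1541 : sm gg N172 = N172 := ded_51_1 (flp_i L1534) L1054 L1534
theorem L1542 : sm gj N172 = N172 := ded_53_1 (flp_i L1534) L1055 L1534
theorem L1543 : sm gh N118 = N173 := rfl
theorem L1545 : sm ga N173 = N173 := ded_17_1 (flp_h L1543) L1059 L1543
theorem L1546 : sm gb N173 = N128 := ded_25_1 (flp_h L1151) (flp_b L1060) L1543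
theorem L1548 : sm ge N173 = N173 := ded_43_1 (flp_h L1543) L1064 L1543
theorem L1549 : sm gg N173 = N173 := ded_50_1 (flp_h L1543) L1065 L1543
theorem L1550 : sm gj N173 = N173 := ded_52_1 (flp_h L1543) L1066 L1543
theorem L1551 : sm gj N119 = N174 := rfl
theorem L1553 : sm ga N174 = N174 := ded_16_1 (flp_j L1551) L1069 L1551
theorem L1554 : sm gb N174 = N129 := ded_24_1 (flp_j L1159) (flp_b L1070) L1551
theorem L1556 : sm gc N174 = N174 := ded_31_1 (flp_j L1551) L1072 L1551
theorem L1557 : sm ge N174 = N174 := ded_42_1 (flp_j L1551) L1073 L1551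
theorem L1558 : sm gf N174 = N174 := ded_46_1 (flp_j L1551) L1075 L1551
theorem L1559 : sm gh N174 = N174 := ded_52_2 (flp_j L1551) L1074 L1551
theorem L1560 : sm gg N174 = N174 := ded_49_1 (flp_j L1551) (flp_g L1067) L736 L1067 L1551
theorem L1561 : sm gi N119 = N175 := rfl
theorem L1563 : sm ga N175 = N175 := ded_18_1 (flp_i L1561) L1069 L1561
theorem L1564 : sm gb N175 = N130 := ded_26_1 (flp_i L1169) (flp_b L1070) L1561
theorem L1566 : sm gc N175 = N175 := ded_33_1 (flp_i L1561) L1072 L1561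
theorem L1567 : sm ge N175 = N175 := ded_44_1 (flp_i L1561) L1073 L1561
theorem L1568 : sm gf N175 = N175 := ded_48_1 (flp_i L1561) L1075 L1561
theorem L1569 : sm gg N175 = N120 := ded_51_1 (flp_i L1076) L1067 L1561
theorem L1571 : sm gh N120 = N176 := rfl
theorem L1573 : sm ga N176 = N176 := ded_17_1 (flp_h L1571) L1078 L1571
theorem L1574 : sm gb N176 = N131 := ded_25_1 (flp_h L1179) (flp_b L1079) L1571
theorem L1576 : sm gc N176 = N176 := ded_32_1 (flp_h L1571) L1081 L1571
theorem L1577 : sm ge N176 = N176 := ded_43_1 (flp_h L1571) L1082 L1571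
theorem L1578 : sm gf N176 = N121 := ded_47_1 (flp_h L1086) (flp_f L1083) L1571
theorem L1580 : sm gj N176 = N176 := ded_52_1 (flp_h L1571) L1085 L1571
theorem L1581 : sm gi N176 = N176 := ded_54_2 (flp_h L1571) (flp_i L1076) L737 L1076 L1571
theorem L1582 : sm gd N121 = N177 := rfl
theorem L1584 : sm ga N177 = N177 := ded_12_1 (flp_d L1582) L1088 L1582
theorem L1585 : sm gb N177 = N132 := ded_20_1 (flp_d L1190) (flp_b L1089) L1582
theorem L1587 : sm gg N177 = N177 := ded_36_2 (flp_d L1582) L1094 L1582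
theorem L1588 : sm gj N177 = N177 := ded_37_2 (flp_d L1582) L1095 L1582
theorem L1589 : sm gi N177 = N177 := ded_39_2 (flp_d L1582) L1096 L1582
theorem L1590 : sm gc N122 = N178 := rfl
theorem L1592 : sm ga N178 = N178 := ded_11_1 (flp_c L1590) L1099 L1590
theorem L1593 : sm gf N178 = N178 := ded_29_2 (flp_c L1590) L1102 L1590
theorem L1594 : sm gg N178 = N178 := ded_30_2 (flp_c L1590) L1103 L1590
theorem L1595 : sm gj N178 = N178 := ded_31_2 (flp_c L1590) L1104 L1590
theorem L1596 : sm gh N178 = N178 := ded_32_2 (flp_c L1590) L1106 L1590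
theorem L1597 : sm gi N178 = N178 := ded_33_2 (flp_c L1590) L1105 L1590
theorem L1598 : sm gb N178 = N178 := ded_19_1 (flp_c L1590) L1100 L824 (flp_b L1100) L1590
theorem L1599 : sm gd N178 = N178 := ded_27_2 (flp_c L1590) (flp_d L1097) L754 L1097 L1590
theorem L1600 : sm ge N122 = N179 := rfl
theorem L1602 : sm ga N179 = N179 := ded_13_1 (flp_e L1600) L1099 L1600
theorem L1603 : sm gb N179 = N133 := ded_21_1 (flp_e L1197) (flp_b L1100) L1600
theorem L1605 : sm gg N179 = N179 := ded_41_2 (flp_e L1600) L1103 L1600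
theorem L1606 : sm gj N179 = N179 := ded_42_2 (flp_e L1600) L1104 L1600
theorem L1607 : sm gh N179 = N179 := ded_43_2 (flp_e L1600) L1106 L1600
theorem L1608 : sm gi N179 = N179 := ded_44_2 (flp_e L1600) L1105 L1600
theorem L1609 : sm gg N123 = N180 := rfl
theorem L1611 : sm ga N180 = N138 := ded_15_1 (flp_g L1246) (flp_a L1109) L1609
theorem L1613 : sm gc N180 = N180 := ded_30_1 (flp_g L1609) L1111 L1609
theorem L1614 : sm gd N180 = N180 := ded_36_1 (flp_g L1609) L1113 L1609
theorem L1615 : sm ge N180 = N124 := ded_41_1 (flp_g L1115) L1107 L1609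
theorem L1617 : sm gh N123 = N181 := rfl
theorem L1619 : sm ga N181 = N139 := ded_17_1 (flp_h L1253) (flp_a L1109) L1617
theorem L1621 : sm gc N181 = N181 := ded_32_1 (flp_h L1617) L1111 L1617
theorem L1622 : sm ge N181 = N125 := ded_43_1 (flp_h L1123) L1107 L1617
theorem L1624 : sm gf N181 = N181 := ded_47_1 (flp_h L1617) L1114 L1617
theorem L1625 : sm gj N181 = N181 := ded_52_1 (flp_h L1617) L1112 L1617
theorem L1626 : sm gi N123 = N182 := rfl
theorem L1628 : sm ga N182 = N140 := ded_18_1 (flp_i L1261) (flp_a L1109) L1626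
theorem L1630 : sm gc N182 = N182 := ded_33_1 (flp_i L1626) L1111 L1626
theorem L1631 : sm gd N182 = N182 := ded_39_1 (flp_i L1626) L1113 L1626
theorem L1632 : sm ge N182 = N126 := ded_44_1 (flp_i L1132) L1107 L1626
theorem L1634 : sm gf N182 = N182 := ded_48_1 (flp_i L1626) L1114 L1626
theorem L1635 : sm gj N182 = N182 := ded_53_1 (flp_i L1626) L1112 L1626
theorem L1636 : sm gj N124 = N183 := rfl
theorem L1638 : sm ga N183 = N141 := ded_16_1 (flp_j L1270) (flp_a L1117) L1636
theorem L1640 : sm gc N183 = N183 := ded_31_1 (flp_j L1636) L1119 L1636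
theorem L1641 : sm gd N183 = N129 := ded_37_1 (flp_j L1159) (flp_d L1120) L1636
theorem L1643 : sm gf N183 = N183 := ded_46_1 (flp_j L1636) L1122 L1636
theorem L1644 : sm gg N183 = N183 := ded_49_1 (flp_j L1636) (flp_g L1115) L766 L1115 L1636
theorem L1645 : sm gh N124 = N184 := rfl
theorem L1647 : sm ga N184 = N142 := ded_17_1 (flp_h L1278) (flp_a L1117) L1645
theorem L1649 : sm gc N184 = N184 := ded_32_1 (flp_h L1645) L1119 L1645
theorem L1650 : sm gf N184 = N184 := ded_47_1 (flp_h L1645) L1122 L1645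
theorem L1651 : sm gg N184 = N125 := ded_50_1 (flp_h L1123) L1115 L1645
theorem L1653 : sm gd N184 = N184 := ded_38_1 (flp_h L1645) L1120 L793 (flp_d L1120) L1645
theorem L1654 : sm gi N124 = N185 := rfl
theorem L1656 : sm ga N185 = N143 := ded_18_1 (flp_i L1286) (flp_a L1117) L1654
theorem L1658 : sm gc N185 = N185 := ded_33_1 (flp_i L1654) L1119 L1654
theorem L1659 : sm gd N185 = N130 := ded_39_1 (flp_i L1169) (flp_d L1120) L1654
theorem L1661 : sm gf N185 = N185 := ded_48_1 (flp_i L1654) L1122 L1654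
theorem L1662 : sm gg N185 = N126 := ded_51_1 (flp_i L1132) L1115 L1654
theorem L1664 : sm gi N125 = N186 := rfl
theorem L1666 : sm ga N186 = N144 := ded_18_1 (flp_i L1295) (flp_a L1125) L1664
theorem L1668 : sm gc N186 = N186 := ded_33_1 (flp_i L1664) L1127 L1664
theorem L1669 : sm gd N186 = N186 := ded_39_1 (flp_i L1664) L1131 L1664
theorem L1670 : sm gf N186 = N127 := ded_48_1 (flp_i L1142) (flp_f L1128) L1664
theorem L1672 : sm gj N186 = N186 := ded_53_1 (flp_i L1664) L1130 L1664
theorem L1673 : sm gh N126 = N187 := rfl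
theorem L1675 : sm ga N187 = N145 := ded_17_1 (flp_h L1303) (flp_a L1134) L1673
theorem L1677 : sm gc N187 = N187 := ded_32_1 (flp_h L1673) L1136 L1673
theorem L1678 : sm gf N187 = N128 := ded_47_1 (flp_h L1151) (flp_f L1139) L1673
theorem L1680 : sm gj N187 = N187 := ded_52_1 (flp_h L1673) L1141 L1673
theorem L1681 : sm gh N127 = N188 := rfl
theorem L1683 : sm ga N188 = N146 := ded_17_1 (flp_h L1310) (flp_a L1144) L1681
theorem L1685 : sm gc N188 = N188 := ded_32_1 (flp_h L1681) L1146 L1681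
theorem L1686 : sm ge N188 = N188 := ded_43_1 (flp_h L1681) L1148 L1681
theorem L1687 : sm gg N188 = N188 := ded_50_1 (flp_h L1681) L1149 L1681
theorem L1688 : sm gj N188 = N188 := ded_52_1 (flp_h L1681) L1150 L1681
theorem L1689 : sm gi N188 = N128 := ded_54_2 (flp_h L1151) (flp_i L776) L767 L1142 L1681
theorem L1691 : sm gd N128 = N189 := rfl
theorem L1693 : sm ga N189 = N147 := ded_12_1 (flp_d L1319) (flp_a L1153) L1691
theorem L1695 : sm gg N189 = N189 := ded_36_2 (flp_d L1691) L1157 L1691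
theorem L1696 : sm gj N189 = N189 := ded_37_2 (flp_d L1691) L1158 L1691
theorem L1697 : sm gh N189 = N132 := ded_38_2 (flp_d L1190) (flp_h L805) (flp_d L781) L1151 L1691
theorem L1699 : sm gi N129 = N190 := rfl
theorem L1701 : sm ga N190 = N148 := ded_18_1 (flp_i L1326) (flp_a L1161) L1699
theorem L1703 : sm gc N190 = N134 := ded_33_1 (flp_i L1206) (flp_c L1163) L1699
theorem L1705 : sm ge N190 = N190 := ded_44_1 (flp_i L1699) L1165 L1699
theorem L1706 : sm gf N190 = N190 := ded_48_1 (flp_i L1699) L1166 L1699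
theorem L1707 : sm gg N190 = N190 := ded_51_1 (flp_i L1699) L1168 L1699
theorem L1708 : sm gj N190 = N130 := ded_53_1 (flp_i L1169) L1159 L1699
theorem L1710 : sm gh N130 = N191 := rfl
theorem L1712 : sm ga N191 = N149 := ded_17_1 (flp_h L1336) (flp_a L1171) L1710
theorem L1714 : sm gc N191 = N135 := ded_32_1 (flp_h L1217) (flp_c L1173) L1710
theorem L1716 : sm ge N191 = N191 := ded_43_1 (flp_h L1710) L1175 L1710
theorem L1717 : sm gf N191 = N191 := ded_47_1 (flp_h L1710) L1176 L1710
theorem L1718 : sm gg N191 = N131 := ded_50_1 (flp_h L1179) (flp_g L1177) L1710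
theorem L1720 : sm gi N191 = N191 := ded_54_2 (flp_h L1710) (flp_i L1169) L793 L1169 L1710
theorem L1721 : sm gd N131 = N192 := rfl
theorem L1723 : sm ga N192 = N150 := ded_12_1 (flp_d L1346) (flp_a L1181) L1721
theorem L1725 : sm gf N192 = N132 := ded_35_2 (flp_d L1190) (flp_f L1186) L1721
theorem L1727 : sm gj N192 = N192 := ded_37_2 (flp_d L1721) L1188 L1721
theorem L1728 : sm gi N192 = N192 := ded_39_2 (flp_d L1721) L1189 L1721
theorem L1729 : sm gc N132 = N193 := rfl
theorem L1731 : sm ga N193 = N151 := ded_11_1 (flp_c L1353) (flp_a L1192) L1729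
theorem L1733 : sm gg N193 = N193 := ded_30_2 (flp_c L1729) L1194 L1729
theorem L1734 : sm gj N193 = N193 := ded_31_2 (flp_c L1729) L1195 L1729
theorem L1735 : sm gi N193 = N193 := ded_33_2 (flp_c L1729) L1196 L1729
theorem L1736 : sm gd N193 = N137 := ded_27_2 (flp_c L1237) (flp_d L856) (flp_c L809) L1190 L1729
theorem L1738 : sm ge N132 = N194 := rfl
theorem L1740 : sm ga N194 = N152 := ded_13_1 (flp_e L1360) (flp_a L1192) L1738
theorem L1742 : sm gg N194 = N194 := ded_41_2 (flp_e L1738) L1194 L1738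
theorem L1743 : sm gj N194 = N194 := ded_42_2 (flp_e L1738) L1195 L1738
theorem L1744 : sm gi N194 = N194 := ded_44_2 (flp_e L1738) L1196 L1738
theorem L1745 : sm gd N194 = N133 := ded_34_1 (flp_e L1197) (flp_d L816) (flp_e L811) L1190 L1738
theorem L1747 : sm gf N133 = N195 := rfl
theorem L1749 : sm ga N195 = N153 := ded_14_1 (flp_f L1368) (flp_a L1199) L1747
theorem L1751 : sm gc N195 = N195 := ded_29_1 (flp_f L1747) L1201 L1747
theorem L1752 : sm gj N195 = N195 := ded_46_2 (flp_f L1747) L1203 L1747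
theorem L1753 : sm gh N195 = N195 := ded_47_2 (flp_f L1747) L1204 L1747
theorem L1754 : sm gi N195 = N195 := ded_48_2 (flp_f L1747) L1205 L1747
theorem L1755 : sm ge N195 = N195 := ded_40_1 (flp_f L1747) (flp_e L1197) L820 L1197 L1747
theorem L1756 : sm gh N134 = N196 := rfl
theorem L1758 : sm ga N196 = N154 := ded_17_1 (flp_h L1376) (flp_a L1208) L1756
theorem L1760 : sm gb N196 = N196 := ded_25_1 (flp_h L1756) L1210 L1756
theorem L1761 : sm ge N196 = N196 := ded_43_1 (flp_h L1756) L1212 L1756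
theorem L1762 : sm gf N196 = N196 := ded_47_1 (flp_h L1756) L1213 L1756
theorem L1763 : sm gg N196 = N196 := ded_50_1 (flp_h L1756) L1214 L1756
theorem L1764 : sm gj N196 = N135 := ded_52_1 (flp_h L1217) (flp_j L1215) L1756
theorem L1766 : sm gi N196 = N196 := ded_54_2 (flp_h L1756) (flp_i L1206) L834 L1206 L1756
theorem L1767 : sm gd N135 = N197 := rfl
theorem L1769 : sm ga N197 = N155 := ded_12_1 (flp_d L1386) (flp_a L1219) L1767
theorem L1771 : sm gb N197 = N197 := ded_20_1 (flp_d L1767) L1221 L1767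
theorem L1772 : sm gf N197 = N197 := ded_35_2 (flp_d L1767) L1223 L1767
theorem L1773 : sm gg N197 = N136 := ded_36_2 (flp_d L1227) (flp_g L1224) L1767
theorem L1775 : sm gi N197 = N197 := ded_39_2 (flp_d L1767) L1226 L1767
theorem L1776 : sm gh N197 = N197 := ded_38_2 (flp_d L1767) (flp_h L1217) L841 L1217 L1767
theorem L1777 : sm gc N136 = N198 := rfl
theorem L1779 : sm ga N198 = N156 := ded_11_1 (flp_c L1395) (flp_a L1229) L1777
theorem L1781 : sm gf N198 = N137 := ded_29_2 (flp_c L1237) (flp_f L1232) L1777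
theorem L1783 : sm gj N198 = N198 := ded_31_2 (flp_c L1777) L1234 L1777
theorem L1784 : sm gh N198 = N198 := ded_32_2 (flp_c L1777) L1236 L1777
theorem L1785 : sm gi N198 = N198 := ded_33_2 (flp_c L1777) L1235 L1777
theorem L1786 : sm ge N136 = N199 := rfl
theorem L1788 : sm ga N199 = N157 := ded_13_1 (flp_e L1402) (flp_a L1229) L1786
theorem L1790 : sm gb N199 = N199 := ded_21_1 (flp_e L1786) L1231 L1786
theorem L1791 : sm gj N199 = N199 := ded_42_2 (flp_e L1786) L1234 L1786
theorem L1792 : sm gh N199 = N199 := ded_43_2 (flp_e L1786) L1236 L1786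
theorem L1793 : sm gi N199 = N199 := ded_44_2 (flp_e L1786) L1235 L1786
theorem L1794 : sm gd N199 = N199 := ded_34_1 (flp_e L1786) (flp_d L1227) L851 L1227 L1786
theorem L1795 : sm gf N199 = N199 := ded_40_2 (flp_e L1786) L1232 L864 (flp_f L1232) L1786
theorem L1796 : sm gb N137 = N200 := rfl
theorem L1798 : sm ge N200 = N200 := ded_21_2 (flp_b L1796) L1241 L1796
theorem L1799 : sm gg N200 = N200 := ded_23_2 (flp_b L1796) L1242 L1796
theorem L1800 : sm gj N200 = N200 := ded_24_2 (flp_b L1796) L1243 L1796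
theorem L1801 : sm gh N200 = N200 := ded_25_2 (flp_b L1796) L1244 L1796
theorem L1802 : sm gi N200 = N200 := ded_26_2 (flp_b L1796) L1245 L1796
theorem L1803 : sm gc N200 = N200 := ded_19_2 (flp_b L1796) (flp_c L1237) L860 L1237 L1796
theorem L1804 : sm gf N138 = N201 := rfl
theorem L1806 : sm gb N201 = N201 := ded_22_1 (flp_f L1804) L1248 L1804
theorem L1807 : sm gc N201 = N201 := ded_29_1 (flp_f L1804) L1249 L1804
theorem L1808 : sm gd N201 = N201 := ded_35_1 (flp_f L1804) L1250 L1804
theorem L1809 : sm ge N201 = N201 := ded_40_1 (flp_f L1804) L1251 L879 (flp_e L1251) L1804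
theorem L1810 : sm gg N201 = N201 := ded_45_2 (flp_f L1804) (flp_g L1246) L872 L1246 L1804
theorem L1811 : sm gj N138 = N202 := rfl
theorem L1813 : sm gb N202 = N202 := ded_24_1 (flp_j L1811) L1248 L1811
theorem L1814 : sm gc N202 = N202 := ded_31_1 (flp_j L1811) L1249 L1811
theorem L1815 : sm gd N202 = N202 := ded_37_1 (flp_j L1811) L1250 L1811
theorem L1816 : sm ge N202 = N141 := ded_42_1 (flp_j L1270) (flp_e L1251) L1811
theorem L1818 : sm gg N202 = N202 := ded_49_1 (flp_j L1811) (flp_g L1246) L870 L1246 L1811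
theorem L1819 : sm gh N138 = N203 := rfl
theorem L1821 : sm gb N203 = N203 := ded_25_1 (flp_h L1819) L1248 L1819
theorem L1822 : sm gc N203 = N203 := ded_32_1 (flp_h L1819) L1249 L1819
theorem L1823 : sm ge N203 = N142 := ded_43_1 (flp_h L1278) (flp_e L1251) L1819
theorem L1825 : sm gg N203 = N139 := ded_50_1 (flp_h L1253) L1246 L1819
theorem L1827 : sm gi N138 = N204 := rfl
theorem L1829 : sm gb N204 = N204 := ded_26_1 (flp_i L1827) L1248 L1827
theorem L1830 : sm gc N204 = N204 := ded_33_1 (flp_i L1827) L1249 L1827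
theorem L1831 : sm gd N204 = N204 := ded_39_1 (flp_i L1827) L1250 L1827
theorem L1832 : sm ge N204 = N143 := ded_44_1 (flp_i L1286) (flp_e L1251) L1827
theorem L1834 : sm gg N204 = N140 := ded_51_1 (flp_i L1261) L1246 L1827
theorem L1836 : sm gd N139 = N205 := rfl
theorem L1838 : sm gb N205 = N205 := ded_20_1 (flp_d L1836) L1255 L1836
theorem L1839 : sm gf N205 = N205 := ded_35_2 (flp_d L1836) L1259 L1836
theorem L1840 : sm gj N205 = N205 := ded_37_2 (flp_d L1836) L1260 L1836
theorem L1841 : sm ge N205 = N205 := ded_34_2 (flp_d L1836) L1257 L887 (flp_e L1257) L1836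
theorem L1842 : sm gh N205 = N205 := ded_38_2 (flp_d L1836) (flp_h L1253) L871 L1253 L1836
theorem L1843 : sm gi N139 = N206 := rfl
theorem L1845 : sm gb N206 = N206 := ded_26_1 (flp_i L1843) L1255 L1843
theorem L1846 : sm gc N206 = N206 := ded_33_1 (flp_i L1843) L1256 L1843
theorem L1847 : sm ge N206 = N144 := ded_44_1 (flp_i L1295) (flp_e L1257) L1843
theorem L1849 : sm gf N206 = N206 := ded_48_1 (flp_i L1843) L1259 L1843
theorem L1850 : sm gj N206 = N206 := ded_53_1 (flp_i L1843) L1260 L1843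
theorem L1851 : sm gh N140 = N207 := rfl
theorem L1853 : sm gb N207 = N207 := ded_25_1 (flp_h L1851) L1263 L1851
theorem L1854 : sm gc N207 = N207 := ded_32_1 (flp_h L1851) L1264 L1851
theorem L1855 : sm ge N207 = N145 := ded_43_1 (flp_h L1303) (flp_e L1266) L1851
theorem L1857 : sm gf N207 = N207 := ded_47_1 (flp_h L1851) L1268 L1851
theorem L1858 : sm gj N207 = N207 := ded_52_1 (flp_h L1851) L1269 L1851
theorem L1859 : sm gh N141 = N208 := rfl
theorem L1861 : sm gb N208 = N208 := ded_25_1 (flp_h L1859) L1272 L1859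
theorem L1862 : sm gc N208 = N208 := ded_32_1 (flp_h L1859) L1273 L1859
theorem L1863 : sm gf N208 = N208 := ded_47_1 (flp_h L1859) L1276 L1859
theorem L1864 : sm gg N208 = N208 := ded_50_1 (flp_h L1859) L1277 L1859
theorem L1865 : sm gj N208 = N142 := ded_52_1 (flp_h L1278) L1270 L1859
theorem L1867 : sm gd N208 = N208 := ded_38_1 (flp_h L1859) L1274 L919 (flp_d L1274) L1859
theorem L1868 : sm gi N141 = N209 := rfl
theorem L1870 : sm gb N209 = N209 := ded_26_1 (flp_i L1868) L1272 L1868
theorem L1871 : sm gc N209 = N209 := ded_33_1 (flp_i L1868) L1273 L1868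
theorem L1872 : sm gd N209 = N148 := ded_39_1 (flp_i L1326) (flp_d L1274) L1868
theorem L1874 : sm gf N209 = N209 := ded_48_1 (flp_i L1868) L1276 L1868
theorem L1875 : sm gg N209 = N209 := ded_51_1 (flp_i L1868) L1277 L1868
theorem L1876 : sm gj N209 = N143 := ded_53_1 (flp_i L1286) L1270 L1868
theorem L1878 : sm gi N142 = N210 := rfl
theorem L1880 : sm gb N210 = N210 := ded_26_1 (flp_i L1878) L1280 L1878
theorem L1881 : sm gc N210 = N210 := ded_33_1 (flp_i L1878) L1281 L1878
theorem L1882 : sm gd N210 = N210 := ded_39_1 (flp_i L1878) L1285 L1878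
theorem L1883 : sm gf N210 = N210 := ded_48_1 (flp_i L1878) L1282 L1878
theorem L1884 : sm gg N210 = N144 := ded_51_1 (flp_i L1295) (flp_g L1283) L1878
theorem L1886 : sm gh N143 = N211 := rfl
theorem L1888 : sm gb N211 = N211 := ded_25_1 (flp_h L1886) L1288 L1886
theorem L1889 : sm gc N211 = N211 := ded_32_1 (flp_h L1886) L1289 L1886
theorem L1890 : sm gf N211 = N211 := ded_47_1 (flp_h L1886) L1292 L1886
theorem L1891 : sm gg N211 = N145 := ded_50_1 (flp_h L1303) (flp_g L1293) L1886
theorem L1893 : sm gh N144 = N212 := rfl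
theorem L1895 : sm gb N212 = N212 := ded_25_1 (flp_h L1893) L1297 L1893
theorem L1896 : sm gc N212 = N212 := ded_32_1 (flp_h L1893) L1298 L1893
theorem L1897 : sm gf N212 = N146 := ded_47_1 (flp_h L1310) (flp_f L1300) L1893
theorem L1899 : sm gj N212 = N212 := ded_52_1 (flp_h L1893) L1302 L1893
theorem L1900 : sm gi N212 = N145 := ded_54_2 (flp_h L1303) (flp_i L888) L880 L1295 L1893
theorem L1902 : sm gd N145 = N213 := rfl
theorem L1904 : sm gb N213 = N213 := ded_20_1 (flp_d L1902) L1305 L1902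
theorem L1905 : sm gf N213 = N147 := ded_35_2 (flp_d L1319) (flp_f L1307) L1902
theorem L1907 : sm gj N213 = N213 := ded_37_2 (flp_d L1902) L1309 L1902
theorem L1908 : sm gh N213 = N150 := ded_38_2 (flp_d L1346) (flp_h L930) (flp_d L892) L1303 L1902
theorem L1910 : sm gd N146 = N214 := rfl
theorem L1912 : sm gb N214 = N214 := ded_20_1 (flp_d L1910) L1312 L1910
theorem L1913 : sm gg N214 = N214 := ded_36_2 (flp_d L1910) L1315 L1910
theorem L1914 : sm gj N214 = N214 := ded_37_2 (flp_d L1910) L1316 L1910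
theorem L1915 : sm gi N214 = N147 := ded_39_2 (flp_d L1319) (flp_i L1317) L1910
theorem L1917 : sm gh N214 = N214 := ded_38_2 (flp_d L1910) (flp_h L1310) L901 L1310 L1910
theorem L1918 : sm gc N147 = N215 := rfl
theorem L1920 : sm gg N215 = N215 := ded_30_2 (flp_c L1918) L1322 L1918
theorem L1921 : sm gj N215 = N215 := ded_31_2 (flp_c L1918) L1323 L1918
theorem L1922 : sm gh N215 = N151 := ded_32_2 (flp_c L1353) (flp_h L1324) L1918
theorem L1924 : sm gd N215 = N215 := ded_27_2 (flp_c L1918) (flp_d L1319) L908 L1319 L1918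
theorem L1925 : sm ge N147 = N216 := rfl
theorem L1927 : sm gb N216 = N216 := ded_21_1 (flp_e L1925) L1321 L1925
theorem L1928 : sm gg N216 = N216 := ded_41_2 (flp_e L1925) L1322 L1925
theorem L1929 : sm gj N216 = N216 := ded_42_2 (flp_e L1925) L1323 L1925
theorem L1930 : sm gh N216 = N152 := ded_43_2 (flp_e L1360) (flp_h L1324) L1925
theorem L1932 : sm gd N216 = N216 := ded_34_1 (flp_e L1925) (flp_d L1319) L909 L1319 L1925
theorem L1933 : sm gh N148 = N217 := rfl
theorem L1935 : sm gb N217 = N217 := ded_25_1 (flp_h L1933) L1328 L1933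
theorem L1936 : sm gc N217 = N154 := ded_32_1 (flp_h L1376) (flp_c L1329) L1933
theorem L1938 : sm ge N217 = N217 := ded_43_1 (flp_h L1933) L1331 L1933
theorem L1939 : sm gf N217 = N217 := ded_47_1 (flp_h L1933) L1332 L1933
theorem L1940 : sm gg N217 = N217 := ded_50_1 (flp_h L1933) L1333 L1933
theorem L1941 : sm gj N217 = N149 := ded_52_1 (flp_h L1336) (flp_j L1334) L1933
theorem L1943 : sm gi N217 = N217 := ded_54_2 (flp_h L1933) (flp_i L1326) L919 L1326 L1933
theorem L1944 : sm gd N149 = N218 := rfl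
theorem L1946 : sm gb N218 = N218 := ded_20_1 (flp_d L1944) L1338 L1944
theorem L1947 : sm gf N218 = N218 := ded_35_2 (flp_d L1944) L1342 L1944
theorem L1948 : sm gg N218 = N150 := ded_36_2 (flp_d L1346) (flp_g L1343) L1944
theorem L1950 : sm gi N218 = N218 := ded_39_2 (flp_d L1944) L1345 L1944
theorem L1951 : sm gc N150 = N219 := rfl
theorem L1953 : sm gf N219 = N151 := ded_29_2 (flp_c L1353) (flp_f L1349) L1951
theorem L1955 : sm gj N219 = N219 := ded_31_2 (flp_c L1951) L1351 L1951
theorem L1956 : sm gi N219 = N219 := ded_33_2 (flp_c L1951) L1352 L1951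
theorem L1957 : sm gd N219 = N156 := ded_27_2 (flp_c L1395) (flp_d L973) (flp_c L933) L1346 L1951
theorem L1959 : sm ge N150 = N220 := rfl
theorem L1961 : sm gb N220 = N220 := ded_21_1 (flp_e L1959) L1348 L1959
theorem L1962 : sm gj N220 = N220 := ded_42_2 (flp_e L1959) L1351 L1959
theorem L1963 : sm gi N220 = N220 := ded_44_2 (flp_e L1959) L1352 L1959
theorem L1964 : sm gd N220 = N220 := ded_34_1 (flp_e L1959) (flp_d L1346) L935 L1346 L1959
theorem L1965 : sm gb N151 = N221 := rfl
theorem L1967 : sm gd N221 = N158 := ded_20_2 (flp_b L1411) (flp_d L1358) L1965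
theorem L1969 : sm gg N221 = N221 := ded_23_2 (flp_b L1965) L1355 L1965
theorem L1970 : sm gj N221 = N221 := ded_24_2 (flp_b L1965) L1356 L1965
theorem L1971 : sm gi N221 = N221 := ded_26_2 (flp_b L1965) L1357 L1965
theorem L1972 : sm gc N221 = N221 := ded_19_2 (flp_b L1965) (flp_c L1353) L942 L1353 L1965
theorem L1973 : sm ge N151 = N222 := rfl
theorem L1975 : sm gc N222 = N152 := ded_28_1 (flp_e L1360) L1353 L1973
theorem L1977 : sm gg N222 = N222 := ded_41_2 (flp_e L1973) L1355 L1973
theorem L1978 : sm gj N222 = N222 := ded_42_2 (flp_e L1973) L1356 L1973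
theorem L1979 : sm gi N222 = N222 := ded_44_2 (flp_e L1973) L1357 L1973
theorem L1980 : sm gd N222 = N222 := ded_34_1 (flp_e L1973) L1358 L984 (flp_d L1358) L1973
theorem L1981 : sm gf N152 = N223 := rfl
theorem L1983 : sm gb N223 = N223 := ded_22_1 (flp_f L1981) L1362 L1981
theorem L1984 : sm gd N223 = N153 := ded_35_1 (flp_f L1368) (flp_d L1366) L1981
theorem L1986 : sm gj N223 = N223 := ded_46_2 (flp_f L1981) L1364 L1981
theorem L1987 : sm gi N223 = N223 := ded_48_2 (flp_f L1981) L1365 L1981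
theorem L1988 : sm gg N153 = N224 := rfl
theorem L1990 : sm gb N224 = N224 := ded_23_1 (flp_g L1988) L1370 L1988
theorem L1991 : sm gc N224 = N224 := ded_30_1 (flp_g L1988) L1371 L1988
theorem L1992 : sm ge N224 = N224 := ded_41_1 (flp_g L1988) L1375 L1988
theorem L1993 : sm gh N224 = N224 := ded_50_2 (flp_g L1988) L1373 L1988
theorem L1994 : sm gi N224 = N224 := ded_51_2 (flp_g L1988) L1374 L1988
theorem L1995 : sm gf N224 = N224 := ded_45_1 (flp_g L1988) (flp_f L1368) L950 L1368 L1988
theorem L1996 : sm gd N154 = N225 := rfl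
theorem L1998 : sm gb N225 = N159 := ded_20_1 (flp_d L1420) (flp_b L1378) L1996
theorem L2000 : sm gf N225 = N225 := ded_35_2 (flp_d L1996) L1381 L1996
theorem L2001 : sm gg N225 = N225 := ded_36_2 (flp_d L1996) L1382 L1996
theorem L2002 : sm gj N225 = N155 := ded_37_2 (flp_d L1386) (flp_j L1383) L1996
theorem L2004 : sm gi N225 = N225 := ded_39_2 (flp_d L1996) L1385 L1996
theorem L2005 : sm gh N225 = N225 := ded_38_2 (flp_d L1996) (flp_h L1376) L958 L1376 L1996
theorem L2006 : sm gc N155 = N226 := rfl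
theorem L2008 : sm gf N226 = N226 := ded_29_2 (flp_c L2006) L1390 L2006
theorem L2009 : sm gg N226 = N156 := ded_30_2 (flp_c L1395) (flp_g L1391) L2006
theorem L2011 : sm gh N226 = N226 := ded_32_2 (flp_c L2006) L1394 L2006
theorem L2012 : sm gi N226 = N226 := ded_33_2 (flp_c L2006) L1393 L2006
theorem L2013 : sm ge N155 = N227 := rfl
theorem L2015 : sm gb N227 = N161 := ded_21_1 (flp_e L1438) (flp_b L1388) L2013
theorem L2017 : sm gg N227 = N157 := ded_41_2 (flp_e L1402) (flp_g L1391) L2013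
theorem L2019 : sm gh N227 = N227 := ded_43_2 (flp_e L2013) L1394 L2013
theorem L2020 : sm gi N227 = N227 := ded_44_2 (flp_e L2013) L1393 L2013
theorem L2021 : sm gd N227 = N227 := ded_34_1 (flp_e L2013) (flp_d L1386) L968 L1386 L2013
theorem L2022 : sm gb N156 = N228 := rfl
theorem L2024 : sm gf N228 = N158 := ded_22_2 (flp_b L1411) (flp_f L1397) L2022
theorem L2026 : sm gj N228 = N228 := ded_24_2 (flp_b L2022) L1399 L2022
theorem L2027 : sm gh N228 = N228 := ded_25_2 (flp_b L2022) L1400 L2022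
theorem L2028 : sm gi N228 = N228 := ded_26_2 (flp_b L2022) L1401 L2022
theorem L2029 : sm gc N228 = N162 := ded_19_2 (flp_b L1446) (flp_c L1007) (flp_b L975) L1395 L2022
theorem L2031 : sm ge N156 = N229 := rfl
theorem L2033 : sm gc N229 = N157 := ded_28_1 (flp_e L1402) L1395 L2031
theorem L2035 : sm gj N229 = N229 := ded_42_2 (flp_e L2031) L1399 L2031
theorem L2036 : sm gh N229 = N229 := ded_43_2 (flp_e L2031) L1400 L2031
theorem L2037 : sm gi N229 = N229 := ded_44_2 (flp_e L2031) L1401 L2031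
theorem L2038 : sm gf N229 = N229 := ded_40_2 (flp_e L2031) L1397 L984 (flp_f L1397) L2031
theorem L2039 : sm ga N158 = N230 := rfl
theorem L2041 : sm gc N230 = N164 := ded_11_2 (flp_a L1463) (flp_c L1418) L2039
theorem L2043 : sm ge N230 = N230 := ded_13_2 (flp_a L2039) L1413 L2039
theorem L2044 : sm gg N230 = N230 := ded_15_2 (flp_a L2039) L1414 L2039
theorem L2045 : sm gj N230 = N230 := ded_16_2 (flp_a L2039) L1415 L2039
theorem L2046 : sm gh N230 = N230 := ded_17_2 (flp_a L2039) L1416 L2039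
theorem L2047 : sm gi N230 = N230 := ded_18_2 (flp_a L2039) L1417 L2039
theorem L2048 : sm gc N159 = N231 := rfl
theorem L2050 : sm ga N231 = N231 := ded_11_1 (flp_c L2048) L1422 L2048
theorem L2051 : sm gf N231 = N231 := ded_29_2 (flp_c L2048) L1423 L2048
theorem L2052 : sm gg N231 = N231 := ded_30_2 (flp_c L2048) L1424 L2048
theorem L2053 : sm gj N231 = N160 := ded_31_2 (flp_c L1429) (flp_j L1425) L2048
theorem L2055 : sm gh N231 = N231 := ded_32_2 (flp_c L2048) L1428 L2048
theorem L2056 : sm gi N231 = N231 := ded_33_2 (flp_c L2048) L1427 L2048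
theorem L2057 : sm gd N231 = N231 := ded_27_2 (flp_c L2048) (flp_d L1420) L992 L1420 L2048
theorem L2058 : sm ge N159 = N232 := rfl
theorem L2060 : sm ga N232 = N232 := ded_13_1 (flp_e L2058) L1422 L2058
theorem L2061 : sm gg N232 = N232 := ded_41_2 (flp_e L2058) L1424 L2058
theorem L2062 : sm gj N232 = N161 := ded_42_2 (flp_e L1438) (flp_j L1425) L2058
theorem L2064 : sm gh N232 = N232 := ded_43_2 (flp_e L2058) L1428 L2058
theorem L2065 : sm gi N232 = N232 := ded_44_2 (flp_e L2058) L1427 L2058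
theorem L2066 : sm gd N232 = N232 := ded_34_1 (flp_e L2058) (flp_d L1420) L993 L1420 L2058
theorem L2067 : sm gb N160 = N233 := rfl
theorem L2069 : sm gd N233 = N233 := ded_20_2 (flp_b L2067) L1437 L2067
theorem L2070 : sm gf N233 = N233 := ded_22_2 (flp_b L2067) L1432 L2067
theorem L2071 : sm gg N233 = N162 := ded_23_2 (flp_b L1446) (flp_g L1433) L2067
theorem L2073 : sm gh N233 = N233 := ded_25_2 (flp_b L2067) L1435 L2067
theorem L2074 : sm gi N233 = N233 := ded_26_2 (flp_b L2067) L1436 L2067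
theorem L2075 : sm ge N160 = N234 := rfl
theorem L2077 : sm ga N234 = N234 := ded_13_1 (flp_e L2075) L1431 L2075
theorem L2078 : sm gc N234 = N161 := ded_28_1 (flp_e L1438) L1429 L2075
theorem L2080 : sm gg N234 = N163 := ded_41_2 (flp_e L1454) (flp_g L1433) L2075
theorem L2082 : sm gh N234 = N234 := ded_43_2 (flp_e L2075) L1435 L2075
theorem L2083 : sm gi N234 = N234 := ded_44_2 (flp_e L2075) L1436 L2075
theorem L2084 : sm gf N161 = N235 := rfl
theorem L2086 : sm ga N235 = N235 := ded_14_1 (flp_f L2084) L1440 L2084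
theorem L2087 : sm gd N235 = N235 := ded_35_1 (flp_f L2084) L1445 L2084
theorem L2088 : sm gh N235 = N235 := ded_47_2 (flp_f L2084) L1443 L2084
theorem L2089 : sm gi N235 = N235 := ded_48_2 (flp_f L2084) L1444 L2084
theorem L2090 : sm ge N235 = N235 := ded_40_1 (flp_f L2084) (flp_e L1438) L1002 L1438 L2084
theorem L2091 : sm gg N235 = N235 := ded_45_2 (flp_f L2084) L1441 L1023 (flp_g L1441) L2084
theorem L2092 : sm ga N162 = N236 := rfl
theorem L2094 : sm gd N236 = N236 := ded_12_2 (flp_a L2092) L1448 L2092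
theorem L2095 : sm gf N236 = N164 := ded_14_2 (flp_a L1463) (flp_f L1449) L2092
theorem L2097 : sm gj N236 = N236 := ded_16_2 (flp_a L2092) L1451 L2092
theorem L2098 : sm gh N236 = N236 := ded_17_2 (flp_a L2092) L1452 L2092
theorem L2099 : sm gi N236 = N236 := ded_18_2 (flp_a L2092) L1453 L2092
theorem L2100 : sm gb N236 = N236 := ded_10_2 (flp_a L2092) (flp_b L1446) L1009 L1446 L2092
theorem L2101 : sm ge N162 = N237 := rfl
theorem L2103 : sm gb N237 = N163 := ded_21_1 (flp_e L1454) L1446 L2101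
theorem L2105 : sm gj N237 = N237 := ded_42_2 (flp_e L2101) L1451 L2101
theorem L2106 : sm gh N237 = N237 := ded_43_2 (flp_e L2101) L1452 L2101
theorem L2107 : sm gi N237 = N237 := ded_44_2 (flp_e L2101) L1453 L2101
theorem L2108 : sm gf N237 = N237 := ded_40_2 (flp_e L2101) L1449 L1027 (flp_f L1449) L2101
theorem L2109 : sm gd N163 = N238 := rfl
theorem L2111 : sm ga N238 = N238 := ded_12_1 (flp_d L2109) L1456 L2109
theorem L2112 : sm gf N238 = N238 := ded_35_2 (flp_d L2109) L1462 L2109
theorem L2113 : sm gj N238 = N238 := ded_37_2 (flp_d L2109) L1459 L2109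
theorem L2114 : sm gi N238 = N238 := ded_39_2 (flp_d L2109) L1461 L2109
theorem L2115 : sm gc N238 = N238 := ded_27_1 (flp_d L2109) L1457 L1022 (flp_c L1457) L2109
theorem L2116 : sm ge N238 = N238 := ded_34_2 (flp_d L2109) (flp_e L1454) L1015 L1454 L2109
theorem L2117 : sm ge N165 = N239 := rfl
theorem L2119 : sm ga N239 = N239 := ded_13_1 (flp_e L2117) L1474 L2117
theorem L2120 : sm gb N239 = N239 := ded_21_1 (flp_e L2117) L1475 L2117
theorem L2121 : sm gc N239 = N168 := ded_28_1 (flp_e L1499) (flp_c L1476) L2117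
theorem L2123 : sm gj N239 = N239 := ded_42_2 (flp_e L2117) L1479 L2117
theorem L2124 : sm gf N239 = N239 := ded_40_2 (flp_e L2117) (flp_f L1472) L1035 L1472 L2117
theorem L2125 : sm gg N165 = N240 := rfl
theorem L2127 : sm ga N240 = N240 := ded_15_1 (flp_g L2125) L1474 L2125
theorem L2128 : sm gb N240 = N240 := ded_23_1 (flp_g L2125) L1475 L2125
theorem L2129 : sm gc N240 = N169 := ded_30_1 (flp_g L1507) (flp_c L1476) L2125
theorem L2131 : sm gd N240 = N240 := ded_36_1 (flp_g L2125) L1478 L2125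
theorem L2132 : sm gf N240 = N240 := ded_45_1 (flp_g L2125) (flp_f L1472) L1036 L1472 L2125
theorem L2133 : sm gh N165 = N241 := rfl
theorem L2135 : sm ga N241 = N241 := ded_17_1 (flp_h L2133) L1474 L2133
theorem L2136 : sm gb N241 = N241 := ded_25_1 (flp_h L2133) L1475 L2133
theorem L2137 : sm gc N241 = N170 := ded_32_1 (flp_h L1515) (flp_c L1476) L2133
theorem L2139 : sm gf N241 = N166 := ded_47_1 (flp_h L1480) L1472 L2133
theorem L2141 : sm gj N241 = N241 := ded_52_1 (flp_h L2133) L1479 L2133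
theorem L2142 : sm gi N165 = N242 := rfl
theorem L2144 : sm ga N242 = N242 := ded_18_1 (flp_i L2142) L1474 L2142
theorem L2145 : sm gb N242 = N242 := ded_26_1 (flp_i L2142) L1475 L2142
theorem L2146 : sm gc N242 = N171 := ded_33_1 (flp_i L1524) (flp_c L1476) L2142
theorem L2148 : sm gd N242 = N242 := ded_39_1 (flp_i L2142) L1478 L2142
theorem L2149 : sm gf N242 = N167 := ded_48_1 (flp_i L1489) L1472 L2142
theorem L2151 : sm gj N242 = N242 := ded_53_1 (flp_i L2142) L1479 L2142
theorem L2152 : sm gd N166 = N243 := rfl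
theorem L2154 : sm ga N243 = N243 := ded_12_1 (flp_d L2152) L1482 L2152
theorem L2155 : sm gb N243 = N243 := ded_20_1 (flp_d L2152) L1483 L2152
theorem L2156 : sm gg N243 = N243 := ded_36_2 (flp_d L2152) L1487 L2152
theorem L2157 : sm gj N243 = N243 := ded_37_2 (flp_d L2152) L1488 L2152
theorem L2158 : sm gc N243 = N243 := ded_27_1 (flp_d L2152) L1484 L1056 (flp_c L1484) L2152
theorem L2159 : sm gh N243 = N243 := ded_38_2 (flp_d L2152) (flp_h L1480) L1039 L1480 L2152
theorem L2160 : sm gi N166 = N244 := rfl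
theorem L2162 : sm ga N244 = N244 := ded_18_1 (flp_i L2160) L1482 L2160
theorem L2163 : sm gb N244 = N244 := ded_26_1 (flp_i L2160) L1483 L2160
theorem L2164 : sm gc N244 = N172 := ded_33_1 (flp_i L1534) (flp_c L1484) L2160
theorem L2166 : sm ge N244 = N244 := ded_44_1 (flp_i L2160) L1486 L2160
theorem L2167 : sm gg N244 = N244 := ded_51_1 (flp_i L2160) L1487 L2160
theorem L2168 : sm gj N244 = N244 := ded_53_1 (flp_i L2160) L1488 L2160
theorem L2169 : sm gh N167 = N245 := rfl
theorem L2171 : sm ga N245 = N245 := ded_17_1 (flp_h L2169) L1491 L2169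
theorem L2172 : sm gb N245 = N245 := ded_25_1 (flp_h L2169) L1492 L2169
theorem L2173 : sm gc N245 = N173 := ded_32_1 (flp_h L1543) (flp_c L1493) L2169
theorem L2175 : sm ge N245 = N245 := ded_43_1 (flp_h L2169) L1496 L2169
theorem L2176 : sm gg N245 = N245 := ded_50_1 (flp_h L2169) L1497 L2169
theorem L2177 : sm gj N245 = N245 := ded_52_1 (flp_h L2169) L1498 L2169
theorem L2178 : sm gg N168 = N246 := rfl
theorem L2180 : sm ga N246 = N246 := ded_15_1 (flp_g L2178) L1501 L2178
theorem L2181 : sm gb N246 = N180 := ded_23_1 (flp_g L1609) (flp_b L1502) L2178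
theorem L2183 : sm gd N246 = N246 := ded_36_1 (flp_g L2178) L1505 L2178
theorem L2184 : sm ge N246 = N169 := ded_41_1 (flp_g L1507) L1499 L2178
theorem L2186 : sm gh N168 = N247 := rfl
theorem L2188 : sm ga N247 = N247 := ded_17_1 (flp_h L2186) L1501 L2186
theorem L2189 : sm gb N247 = N181 := ded_25_1 (flp_h L1617) (flp_b L1502) L2186
theorem L2191 : sm ge N247 = N170 := ded_43_1 (flp_h L1515) L1499 L2186
theorem L2193 : sm gf N247 = N247 := ded_47_1 (flp_h L2186) L1506 L2186
theorem L2194 : sm gj N247 = N247 := ded_52_1 (flp_h L2186) L1504 L2186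
theorem L2195 : sm gi N168 = N248 := rfl
theorem L2197 : sm ga N248 = N248 := ded_18_1 (flp_i L2195) L1501 L2195
theorem L2198 : sm gb N248 = N182 := ded_26_1 (flp_i L1626) (flp_b L1502) L2195
theorem L2200 : sm gd N248 = N248 := ded_39_1 (flp_i L2195) L1505 L2195
theorem L2201 : sm ge N248 = N171 := ded_44_1 (flp_i L1524) L1499 L2195
theorem L2203 : sm gf N248 = N248 := ded_48_1 (flp_i L2195) L1506 L2195
theorem L2204 : sm gj N248 = N248 := ded_53_1 (flp_i L2195) L1504 L2195
theorem L2205 : sm gj N169 = N249 := rfl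
theorem L2207 : sm ga N249 = N249 := ded_16_1 (flp_j L2205) L1509 L2205
theorem L2208 : sm gb N249 = N183 := ded_24_1 (flp_j L1636) (flp_b L1510) L2205
theorem L2210 : sm gd N249 = N174 := ded_37_1 (flp_j L1551) (flp_d L1512) L2205
theorem L2212 : sm gf N249 = N249 := ded_46_1 (flp_j L2205) L1514 L2205
theorem L2213 : sm gg N249 = N249 := ded_49_1 (flp_j L2205) (flp_g L1507) L1047 L1507 L2205
theorem L2214 : sm gh N169 = N250 := rfl
theorem L2216 : sm ga N250 = N250 := ded_17_1 (flp_h L2214) L1509 L2214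
theorem L2217 : sm gb N250 = N184 := ded_25_1 (flp_h L1645) (flp_b L1510) L2214
theorem L2219 : sm gf N250 = N250 := ded_47_1 (flp_h L2214) L1514 L2214
theorem L2220 : sm gg N250 = N170 := ded_50_1 (flp_h L1515) L1507 L2214
theorem L2222 : sm gd N250 = N250 := ded_38_1 (flp_h L2214) L1512 L1074 (flp_d L1512) L2214
theorem L2223 : sm gi N169 = N251 := rfl
theorem L2225 : sm ga N251 = N251 := ded_18_1 (flp_i L2223) L1509 L2223
theorem L2226 : sm gb N251 = N185 := ded_26_1 (flp_i L1654) (flp_b L1510) L2223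
theorem L2228 : sm gd N251 = N175 := ded_39_1 (flp_i L1561) (flp_d L1512) L2223
theorem L2230 : sm gf N251 = N251 := ded_48_1 (flp_i L2223) L1514 L2223
theorem L2231 : sm gg N251 = N171 := ded_51_1 (flp_i L1524) L1507 L2223
theorem L2233 : sm gi N170 = N252 := rfl
theorem L2235 : sm ga N252 = N252 := ded_18_1 (flp_i L2233) L1517 L2233
theorem L2236 : sm gb N252 = N186 := ded_26_1 (flp_i L1664) (flp_b L1518) L2233
theorem L2238 : sm gd N252 = N252 := ded_39_1 (flp_i L2233) L1523 L2233
theorem L2239 : sm gf N252 = N172 := ded_48_1 (flp_i L1534) (flp_f L1520) L2233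
theorem L2241 : sm gj N252 = N252 := ded_53_1 (flp_i L2233) L1522 L2233
theorem L2242 : sm gh N171 = N253 := rfl
theorem L2244 : sm ga N253 = N253 := ded_17_1 (flp_h L2242) L1526 L2242
theorem L2245 : sm gb N253 = N187 := ded_25_1 (flp_h L1673) (flp_b L1527) L2242
theorem L2247 : sm gf N253 = N173 := ded_47_1 (flp_h L1543) (flp_f L1531) L2242
theorem L2249 : sm gj N253 = N253 := ded_52_1 (flp_h L2242) L1533 L2242
theorem L2250 : sm gh N172 = N254 := rfl
theorem L2252 : sm ga N254 = N254 := ded_17_1 (flp_h L2250) L1536 L2250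
theorem L2253 : sm gb N254 = N188 := ded_25_1 (flp_h L1681) (flp_b L1537) L2250
theorem L2255 : sm ge N254 = N254 := ded_43_1 (flp_h L2250) L1540 L2250
theorem L2256 : sm gg N254 = N254 := ded_50_1 (flp_h L2250) L1541 L2250
theorem L2257 : sm gj N254 = N254 := ded_52_1 (flp_h L2250) L1542 L2250
theorem L2258 : sm gi N254 = N173 := ded_54_2 (flp_h L1543) (flp_i L1057) L1048 L1534 L2250
theorem L2260 : sm gd N173 = N255 := rfl
theorem L2262 : sm ga N255 = N255 := ded_12_1 (flp_d L2260) L1545 L2260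
theorem L2263 : sm gb N255 = N189 := ded_20_1 (flp_d L1691) (flp_b L1546) L2260
theorem L2265 : sm gg N255 = N255 := ded_36_2 (flp_d L2260) L1549 L2260
theorem L2266 : sm gj N255 = N255 := ded_37_2 (flp_d L2260) L1550 L2260
theorem L2267 : sm gh N255 = N177 := ded_38_2 (flp_d L1582) (flp_h L1086) (flp_d L1062) L1543 L2260
theorem L2269 : sm gi N174 = N256 := rfl
theorem L2271 : sm ga N256 = N256 := ded_18_1 (flp_i L2269) L1553 L2269
theorem L2272 : sm gb N256 = N190 := ded_26_1 (flp_i L1699) (flp_b L1554) L2269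
theorem L2274 : sm gc N256 = N256 := ded_33_1 (flp_i L2269) L1556 L2269
theorem L2275 : sm ge N256 = N256 := ded_44_1 (flp_i L2269) L1557 L2269
theorem L2276 : sm gf N256 = N256 := ded_48_1 (flp_i L2269) L1558 L2269
theorem L2277 : sm gg N256 = N256 := ded_51_1 (flp_i L2269) L1560 L2269
theorem L2278 : sm gj N256 = N175 := ded_53_1 (flp_i L1561) L1551 L2269
theorem L2280 : sm gh N175 = N257 := rfl
theorem L2282 : sm ga N257 = N257 := ded_17_1 (flp_h L2280) L1563 L2280
theorem L2283 : sm gb N257 = N191 := ded_25_1 (flp_h L1710) (flp_b L1564) L2280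
theorem L2285 : sm gc N257 = N257 := ded_32_1 (flp_h L2280) L1566 L2280
theorem L2286 : sm ge N257 = N257 := ded_43_1 (flp_h L2280) L1567 L2280
theorem L2287 : sm gf N257 = N257 := ded_47_1 (flp_h L2280) L1568 L2280
theorem L2288 : sm gg N257 = N176 := ded_50_1 (flp_h L1571) (flp_g L1569) L2280
theorem L2290 : sm gi N257 = N257 := ded_54_2 (flp_h L2280) (flp_i L1561) L1074 L1561 L2280
theorem L2291 : sm gd N176 = N258 := rfl
theorem L2293 : sm ga N258 = N258 := ded_12_1 (flp_d L2291) L1573 L2291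
theorem L2294 : sm gb N258 = N192 := ded_20_1 (flp_d L1721) (flp_b L1574) L2291
theorem L2296 : sm gf N258 = N177 := ded_35_2 (flp_d L1582) (flp_f L1578) L2291
theorem L2298 : sm gj N258 = N258 := ded_37_2 (flp_d L2291) L1580 L2291
theorem L2299 : sm gi N258 = N258 := ded_39_2 (flp_d L2291) L1581 L2291
theorem L2300 : sm gc N177 = N259 := rfl
theorem L2302 : sm ga N259 = N259 := ded_11_1 (flp_c L2300) L1584 L2300
theorem L2303 : sm gg N259 = N259 := ded_30_2 (flp_c L2300) L1587 L2300
theorem L2304 : sm gj N259 = N259 := ded_31_2 (flp_c L2300) L1588 L2300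
theorem L2305 : sm gi N259 = N259 := ded_33_2 (flp_c L2300) L1589 L2300
theorem L2306 : sm gd N259 = N259 := ded_27_2 (flp_c L2300) (flp_d L1582) L1091 L1582 L2300
theorem L2307 : sm ge N177 = N260 := rfl
theorem L2309 : sm ga N260 = N260 := ded_13_1 (flp_e L2307) L1584 L2307
theorem L2310 : sm gb N260 = N194 := ded_21_1 (flp_e L1738) (flp_b L1585) L2307
theorem L2312 : sm gg N260 = N260 := ded_41_2 (flp_e L2307) L1587 L2307
theorem L2313 : sm gj N260 = N260 := ded_42_2 (flp_e L2307) L1588 L2307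
theorem L2314 : sm gi N260 = N260 := ded_44_2 (flp_e L2307) L1589 L2307
theorem L2315 : sm gd N260 = N179 := ded_34_1 (flp_e L1600) (flp_d L1097) (flp_e L1092) L1582 L2307
theorem L2317 : sm ge N178 = N261 := rfl
theorem L2319 : sm ga N261 = N261 := ded_13_1 (flp_e L2317) L1592 L2317
theorem L2320 : sm gb N261 = N261 := ded_21_1 (flp_e L2317) L1598 L2317
theorem L2321 : sm gc N261 = N179 := ded_28_1 (flp_e L1600) L1590 L2317
theorem L2323 : sm gg N261 = N261 := ded_41_2 (flp_e L2317) L1594 L2317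
theorem L2324 : sm gj N261 = N261 := ded_42_2 (flp_e L2317) L1595 L2317
theorem L2325 : sm gh N261 = N261 := ded_43_2 (flp_e L2317) L1596 L2317
theorem L2326 : sm gi N261 = N261 := ded_44_2 (flp_e L2317) L1597 L2317
theorem L2327 : sm gf N179 = N262 := rfl
theorem L2329 : sm ga N262 = N262 := ded_14_1 (flp_f L2327) L1602 L2327
theorem L2330 : sm gb N262 = N195 := ded_22_1 (flp_f L1747) (flp_b L1603) L2327
theorem L2332 : sm gj N262 = N262 := ded_46_2 (flp_f L2327) L1606 L2327
theorem L2333 : sm gh N262 = N262 := ded_47_2 (flp_f L2327) L1607 L2327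
theorem L2334 : sm gi N262 = N262 := ded_48_2 (flp_f L2327) L1608 L2327
theorem L2335 : sm ge N262 = N262 := ded_40_1 (flp_f L2327) (flp_e L1600) L1102 L1600 L2327
theorem L2336 : sm gf N180 = N263 := rfl
theorem L2338 : sm ga N263 = N201 := ded_14_1 (flp_f L1804) (flp_a L1611) L2336
theorem L2340 : sm gc N263 = N263 := ded_29_1 (flp_f L2336) L1613 L2336
theorem L2341 : sm gd N263 = N263 := ded_35_1 (flp_f L2336) L1614 L2336
theorem L2342 : sm ge N263 = N263 := ded_40_1 (flp_f L2336) L1615 L1122 (flp_e L1615) L2336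
theorem L2343 : sm gg N263 = N263 := ded_45_2 (flp_f L2336) (flp_g L1609) L1114 L1609 L2336
theorem L2344 : sm gj N180 = N264 := rfl
theorem L2346 : sm ga N264 = N202 := ded_16_1 (flp_j L1811) (flp_a L1611) L2344
theorem L2348 : sm gc N264 = N264 := ded_31_1 (flp_j L2344) L1613 L2344
theorem L2349 : sm gd N264 = N264 := ded_37_1 (flp_j L2344) L1614 L2344
theorem L2350 : sm ge N264 = N183 := ded_42_1 (flp_j L1636) (flp_e L1615) L2344
theorem L2352 : sm gg N264 = N264 := ded_49_1 (flp_j L2344) (flp_g L1609) L1112 L1609 L2344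
theorem L2353 : sm gh N180 = N265 := rfl
theorem L2355 : sm ga N265 = N203 := ded_17_1 (flp_h L1819) (flp_a L1611) L2353
theorem L2357 : sm gc N265 = N265 := ded_32_1 (flp_h L2353) L1613 L2353
theorem L2358 : sm ge N265 = N184 := ded_43_1 (flp_h L1645) (flp_e L1615) L2353
theorem L2360 : sm gg N265 = N181 := ded_50_1 (flp_h L1617) L1609 L2353
theorem L2362 : sm gi N180 = N266 := rfl
theorem L2364 : sm ga N266 = N204 := ded_18_1 (flp_i L1827) (flp_a L1611) L2362
theorem L2366 : sm gc N266 = N266 := ded_33_1 (flp_i L2362) L1613 L2362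
theorem L2367 : sm gd N266 = N266 := ded_39_1 (flp_i L2362) L1614 L2362
theorem L2368 : sm ge N266 = N185 := ded_44_1 (flp_i L1654) (flp_e L1615) L2362
theorem L2370 : sm gg N266 = N182 := ded_51_1 (flp_i L1626) L1609 L2362
theorem L2372 : sm gd N181 = N267 := rfl
theorem L2374 : sm ga N267 = N205 := ded_12_1 (flp_d L1836) (flp_a L1619) L2372
theorem L2376 : sm gf N267 = N267 := ded_35_2 (flp_d L2372) L1624 L2372
theorem L2377 : sm gj N267 = N267 := ded_37_2 (flp_d L2372) L1625 L2372
theorem L2378 : sm ge N267 = N267 := ded_34_2 (flp_d L2372) L1622 L1131 (flp_e L1622) L2372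
theorem L2379 : sm gh N267 = N267 := ded_38_2 (flp_d L2372) (flp_h L1617) L1113 L1617 L2372
theorem L2380 : sm gi N181 = N268 := rfl
theorem L2382 : sm ga N268 = N206 := ded_18_1 (flp_i L1843) (flp_a L1619) L2380
theorem L2384 : sm gc N268 = N268 := ded_33_1 (flp_i L2380) L1621 L2380
theorem L2385 : sm ge N268 = N186 := ded_44_1 (flp_i L1664) (flp_e L1622) L2380
theorem L2387 : sm gf N268 = N268 := ded_48_1 (flp_i L2380) L1624 L2380
theorem L2388 : sm gj N268 = N268 := ded_53_1 (flp_i L2380) L1625 L2380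
theorem L2389 : sm gh N182 = N269 := rfl
theorem L2391 : sm ga N269 = N207 := ded_17_1 (flp_h L1851) (flp_a L1628) L2389
theorem L2393 : sm gc N269 = N269 := ded_32_1 (flp_h L2389) L1630 L2389
theorem L2394 : sm ge N269 = N187 := ded_43_1 (flp_h L1673) (flp_e L1632) L2389
theorem L2396 : sm gf N269 = N269 := ded_47_1 (flp_h L2389) L1634 L2389
theorem L2397 : sm gj N269 = N269 := ded_52_1 (flp_h L2389) L1635 L2389
theorem L2398 : sm gh N183 = N270 := rfl
theorem L2400 : sm ga N270 = N208 := ded_17_1 (flp_h L1859) (flp_a L1638) L2398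
theorem L2402 : sm gc N270 = N270 := ded_32_1 (flp_h L2398) L1640 L2398
theorem L2403 : sm gf N270 = N270 := ded_47_1 (flp_h L2398) L1643 L2398
theorem L2404 : sm gg N270 = N270 := ded_50_1 (flp_h L2398) L1644 L2398
theorem L2405 : sm gj N270 = N184 := ded_52_1 (flp_h L1645) L1636 L2398
theorem L2407 : sm gd N270 = N270 := ded_38_1 (flp_h L2398) L1641 L1167 (flp_d L1641) L2398
theorem L2408 : sm gi N183 = N271 := rfl
theorem L2410 : sm ga N271 = N209 := ded_18_1 (flp_i L1868) (flp_a L1638) L2408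
theorem L2412 : sm gc N271 = N271 := ded_33_1 (flp_i L2408) L1640 L2408
theorem L2413 : sm gd N271 = N190 := ded_39_1 (flp_i L1699) (flp_d L1641) L2408
theorem L2415 : sm gf N271 = N271 := ded_48_1 (flp_i L2408) L1643 L2408
theorem L2416 : sm gg N271 = N271 := ded_51_1 (flp_i L2408) L1644 L2408
theorem L2417 : sm gj N271 = N185 := ded_53_1 (flp_i L1654) L1636 L2408
theorem L2419 : sm gi N184 = N272 := rfl
theorem L2421 : sm ga N272 = N210 := ded_18_1 (flp_i L1878) (flp_a L1647) L2419
theorem L2423 : sm gc N272 = N272 := ded_33_1 (flp_i L2419) L1649 L2419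
theorem L2424 : sm gd N272 = N272 := ded_39_1 (flp_i L2419) L1653 L2419
theorem L2425 : sm gf N272 = N272 := ded_48_1 (flp_i L2419) L1650 L2419
theorem L2426 : sm gg N272 = N186 := ded_51_1 (flp_i L1664) (flp_g L1651) L2419
theorem L2428 : sm gh N185 = N273 := rfl
theorem L2430 : sm ga N273 = N211 := ded_17_1 (flp_h L1886) (flp_a L1656) L2428
theorem L2432 : sm gc N273 = N273 := ded_32_1 (flp_h L2428) L1658 L2428
theorem L2433 : sm gf N273 = N273 := ded_47_1 (flp_h L2428) L1661 L2428
theorem L2434 : sm gg N273 = N187 := ded_50_1 (flp_h L1673) (flp_g L1662) L2428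
theorem L2436 : sm gh N186 = N274 := rfl
theorem L2438 : sm ga N274 = N212 := ded_17_1 (flp_h L1893) (flp_a L1666) L2436
theorem L2440 : sm gc N274 = N274 := ded_32_1 (flp_h L2436) L1668 L2436
theorem L2441 : sm gf N274 = N188 := ded_47_1 (flp_h L1681) (flp_f L1670) L2436
theorem L2443 : sm gj N274 = N274 := ded_52_1 (flp_h L2436) L1672 L2436
theorem L2444 : sm gi N274 = N187 := ded_54_2 (flp_h L1673) (flp_i L1132) L1123 L1664 L2436
theorem L2446 : sm gd N187 = N275 := rfl
theorem L2448 : sm ga N275 = N213 := ded_12_1 (flp_d L1902) (flp_a L1675) L2446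
theorem L2450 : sm gf N275 = N189 := ded_35_2 (flp_d L1691) (flp_f L1678) L2446
theorem L2452 : sm gj N275 = N275 := ded_37_2 (flp_d L2446) L1680 L2446
theorem L2453 : sm gh N275 = N192 := ded_38_2 (flp_d L1721) (flp_h L1179) (flp_d L1137) L1673 L2446
theorem L2455 : sm gd N188 = N276 := rfl
theorem L2457 : sm ga N276 = N214 := ded_12_1 (flp_d L1910) (flp_a L1683) L2455
theorem L2459 : sm gg N276 = N276 := ded_36_2 (flp_d L2455) L1687 L2455
theorem L2460 : sm gj N276 = N276 := ded_37_2 (flp_d L2455) L1688 L2455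
theorem L2461 : sm gi N276 = N189 := ded_39_2 (flp_d L1691) (flp_i L1689) L2455
theorem L2463 : sm gh N276 = N276 := ded_38_2 (flp_d L2455) (flp_h L1681) L1147 L1681 L2455
theorem L2464 : sm gc N189 = N277 := rfl
theorem L2466 : sm ga N277 = N215 := ded_11_1 (flp_c L1918) (flp_a L1693) L2464
theorem L2468 : sm gg N277 = N277 := ded_30_2 (flp_c L2464) L1695 L2464
theorem L2469 : sm gj N277 = N277 := ded_31_2 (flp_c L2464) L1696 L2464
theorem L2470 : sm gh N277 = N193 := ded_32_2 (flp_c L1729) (flp_h L1697) L2464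
theorem L2472 : sm gd N277 = N277 := ded_27_2 (flp_c L2464) (flp_d L1691) L1155 L1691 L2464
theorem L2473 : sm ge N189 = N278 := rfl
theorem L2475 : sm ga N278 = N216 := ded_13_1 (flp_e L1925) (flp_a L1693) L2473
theorem L2477 : sm gg N278 = N278 := ded_41_2 (flp_e L2473) L1695 L2473
theorem L2478 : sm gj N278 = N278 := ded_42_2 (flp_e L2473) L1696 L2473
theorem L2479 : sm gh N278 = N194 := ded_43_2 (flp_e L1738) (flp_h L1697) L2473
theorem L2481 : sm gd N278 = N278 := ded_34_1 (flp_e L2473) (flp_d L1691) L1156 L1691 L2473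
theorem L2482 : sm gh N190 = N279 := rfl
theorem L2484 : sm ga N279 = N217 := ded_17_1 (flp_h L1933) (flp_a L1701) L2482
theorem L2486 : sm gc N279 = N196 := ded_32_1 (flp_h L1756) (flp_c L1703) L2482
theorem L2488 : sm ge N279 = N279 := ded_43_1 (flp_h L2482) L1705 L2482
theorem L2489 : sm gf N279 = N279 := ded_47_1 (flp_h L2482) L1706 L2482
theorem L2490 : sm gg N279 = N279 := ded_50_1 (flp_h L2482) L1707 L2482
theorem L2491 : sm gj N279 = N191 := ded_52_1 (flp_h L1710) (flp_j L1708) L2482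
theorem L2493 : sm gi N279 = N279 := ded_54_2 (flp_h L2482) (flp_i L1699) L1167 L1699 L2482
theorem L2494 : sm gd N191 = N280 := rfl
theorem L2496 : sm ga N280 = N218 := ded_12_1 (flp_d L1944) (flp_a L1712) L2494
theorem L2498 : sm gf N280 = N280 := ded_35_2 (flp_d L2494) L1717 L2494
theorem L2499 : sm gg N280 = N192 := ded_36_2 (flp_d L1721) (flp_g L1718) L2494
theorem L2501 : sm gi N280 = N280 := ded_39_2 (flp_d L2494) L1720 L2494
theorem L2502 : sm gc N192 = N281 := rfl
theorem L2504 : sm ga N281 = N219 := ded_11_1 (flp_c L1951) (flp_a L1723) L2502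
theorem L2506 : sm gf N281 = N193 := ded_29_2 (flp_c L1729) (flp_f L1725) L2502
theorem L2508 : sm gj N281 = N281 := ded_31_2 (flp_c L2502) L1727 L2502
theorem L2509 : sm gi N281 = N281 := ded_33_2 (flp_c L2502) L1728 L2502
theorem L2510 : sm gd N281 = N198 := ded_27_2 (flp_c L1777) (flp_d L1227) (flp_c L1183) L1721 L2502
theorem L2512 : sm ge N192 = N282 := rfl
theorem L2514 : sm ga N282 = N220 := ded_13_1 (flp_e L1959) (flp_a L1723) L2512
theorem L2516 : sm gj N282 = N282 := ded_42_2 (flp_e L2512) L1727 L2512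
theorem L2517 : sm gi N282 = N282 := ded_44_2 (flp_e L2512) L1728 L2512
theorem L2518 : sm gd N282 = N282 := ded_34_1 (flp_e L2512) (flp_d L1721) L1185 L1721 L2512
theorem L2519 : sm gb N193 = N283 := rfl
theorem L2521 : sm gd N283 = N200 := ded_20_2 (flp_b L1796) (flp_d L1736) L2519
theorem L2523 : sm gg N283 = N283 := ded_23_2 (flp_b L2519) L1733 L2519
theorem L2524 : sm gj N283 = N283 := ded_24_2 (flp_b L2519) L1734 L2519
theorem L2525 : sm gi N283 = N283 := ded_26_2 (flp_b L2519) L1735 L2519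
theorem L2526 : sm ge N193 = N284 := rfl
theorem L2528 : sm ga N284 = N222 := ded_13_1 (flp_e L1973) (flp_a L1731) L2526
theorem L2530 : sm gc N284 = N194 := ded_28_1 (flp_e L1738) L1729 L2526
theorem L2532 : sm gg N284 = N284 := ded_41_2 (flp_e L2526) L1733 L2526
theorem L2533 : sm gj N284 = N284 := ded_42_2 (flp_e L2526) L1734 L2526
theorem L2534 : sm gi N284 = N284 := ded_44_2 (flp_e L2526) L1735 L2526
theorem L2535 : sm gd N284 = N284 := ded_34_1 (flp_e L2526) L1736 L1241 (flp_d L1736) L2526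
theorem L2536 : sm gf N194 = N285 := rfl
theorem L2538 : sm ga N285 = N223 := ded_14_1 (flp_f L1981) (flp_a L1740) L2536
theorem L2540 : sm gd N285 = N195 := ded_35_1 (flp_f L1747) (flp_d L1745) L2536
theorem L2542 : sm gj N285 = N285 := ded_46_2 (flp_f L2536) L1743 L2536
theorem L2543 : sm gi N285 = N285 := ded_48_2 (flp_f L2536) L1744 L2536
theorem L2544 : sm gg N195 = N286 := rfl
theorem L2546 : sm ga N286 = N224 := ded_15_1 (flp_g L1988) (flp_a L1749) L2544
theorem L2548 : sm gc N286 = N286 := ded_30_1 (flp_g L2544) L1751 L2544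
theorem L2549 : sm ge N286 = N286 := ded_41_1 (flp_g L2544) L1755 L2544
theorem L2550 : sm gh N286 = N286 := ded_50_2 (flp_g L2544) L1753 L2544
theorem L2551 : sm gi N286 = N286 := ded_51_2 (flp_g L2544) L1754 L2544
theorem L2552 : sm gf N286 = N286 := ded_45_1 (flp_g L2544) (flp_f L1747) L1202 L1747 L2544
theorem L2553 : sm gd N196 = N287 := rfl
theorem L2555 : sm ga N287 = N225 := ded_12_1 (flp_d L1996) (flp_a L1758) L2553
theorem L2557 : sm gb N287 = N287 := ded_20_1 (flp_d L2553) L1760 L2553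
theorem L2558 : sm gf N287 = N287 := ded_35_2 (flp_d L2553) L1762 L2553
theorem L2559 : sm gg N287 = N287 := ded_36_2 (flp_d L2553) L1763 L2553
theorem L2560 : sm gj N287 = N197 := ded_37_2 (flp_d L1767) (flp_j L1764) L2553
theorem L2562 : sm gi N287 = N287 := ded_39_2 (flp_d L2553) L1766 L2553
theorem L2563 : sm gh N287 = N287 := ded_38_2 (flp_d L2553) (flp_h L1756) L1211 L1756 L2553
theorem L2564 : sm gc N197 = N288 := rfl
theorem L2566 : sm ga N288 = N226 := ded_11_1 (flp_c L2006) (flp_a L1769) L2564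
theorem L2568 : sm gf N288 = N288 := ded_29_2 (flp_c L2564) L1772 L2564
theorem L2569 : sm gg N288 = N198 := ded_30_2 (flp_c L1777) (flp_g L1773) L2564
theorem L2571 : sm gh N288 = N288 := ded_32_2 (flp_c L2564) L1776 L2564
theorem L2572 : sm gi N288 = N288 := ded_33_2 (flp_c L2564) L1775 L2564
theorem L2573 : sm ge N197 = N289 := rfl
theorem L2575 : sm ga N289 = N227 := ded_13_1 (flp_e L2013) (flp_a L1769) L2573
theorem L2577 : sm gb N289 = N289 := ded_21_1 (flp_e L2573) L1771 L2573
theorem L2578 : sm gg N289 = N199 := ded_41_2 (flp_e L1786) (flp_g L1773) L2573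
theorem L2580 : sm gh N289 = N289 := ded_43_2 (flp_e L2573) L1776 L2573
theorem L2581 : sm gi N289 = N289 := ded_44_2 (flp_e L2573) L1775 L2573
theorem L2582 : sm gd N289 = N289 := ded_34_1 (flp_e L2573) (flp_d L1767) L1222 L1767 L2573
theorem L2583 : sm gb N198 = N290 := rfl
theorem L2585 : sm gf N290 = N200 := ded_22_2 (flp_b L1796) (flp_f L1781) L2583
theorem L2587 : sm gj N290 = N290 := ded_24_2 (flp_b L2583) L1783 L2583
theorem L2588 : sm gh N290 = N290 := ded_25_2 (flp_b L2583) L1784 L2583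
theorem L2589 : sm gi N290 = N290 := ded_26_2 (flp_b L2583) L1785 L2583
theorem L2590 : sm gc N290 = N290 := ded_19_2 (flp_b L2583) (flp_c L1777) L1231 L1777 L2583
theorem L2591 : sm ge N198 = N291 := rfl
theorem L2593 : sm ga N291 = N229 := ded_13_1 (flp_e L2031) (flp_a L1779) L2591
theorem L2595 : sm gc N291 = N199 := ded_28_1 (flp_e L1786) L1777 L2591
theorem L2597 : sm gj N291 = N291 := ded_42_2 (flp_e L2591) L1783 L2591
theorem L2598 : sm gh N291 = N291 := ded_43_2 (flp_e L2591) L1784 L2591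
theorem L2599 : sm gi N291 = N291 := ded_44_2 (flp_e L2591) L1785 L2591
theorem L2600 : sm gf N291 = N291 := ded_40_2 (flp_e L2591) L1781 L1241 (flp_f L1781) L2591
theorem L2601 : sm ga N200 = N292 := rfl
theorem L2603 : sm gc N292 = N292 := ded_11_2 (flp_a L2601) L1803 L2601
theorem L2604 : sm ge N292 = N292 := ded_13_2 (flp_a L2601) L1798 L2601
theorem L2605 : sm gg N292 = N292 := ded_15_2 (flp_a L2601) L1799 L2601
theorem L2606 : sm gj N292 = N292 := ded_16_2 (flp_a L2601) L1800 L2601
theorem L2607 : sm gh N292 = N292 := ded_17_2 (flp_a L2601) L1801 L2601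
theorem L2608 : sm gi N292 = N292 := ded_18_2 (flp_a L2601) L1802 L2601
theorem L2609 : sm gb N292 = N230 := ded_10_2 (flp_a L2039) (flp_b L1411) (flp_a L1239) L1796 L2601
theorem L2611 : sm gj N201 = N293 := rfl
theorem L2613 : sm gb N293 = N293 := ded_24_1 (flp_j L2611) L1806 L2611
theorem L2614 : sm gc N293 = N293 := ded_31_1 (flp_j L2611) L1807 L2611
theorem L2615 : sm gd N293 = N293 := ded_37_1 (flp_j L2611) L1808 L2611
theorem L2616 : sm ge N293 = N293 := ded_42_1 (flp_j L2611) L1809 L2611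
theorem L2617 : sm gf N293 = N202 := ded_46_1 (flp_j L1811) L1804 L2611
theorem L2619 : sm gh N201 = N294 := rfl
theorem L2621 : sm gb N294 = N294 := ded_25_1 (flp_h L2619) L1806 L2619
theorem L2622 : sm gc N294 = N294 := ded_32_1 (flp_h L2619) L1807 L2619
theorem L2623 : sm ge N294 = N294 := ded_43_1 (flp_h L2619) L1809 L2619
theorem L2624 : sm gf N294 = N203 := ded_47_1 (flp_h L1819) L1804 L2619
theorem L2626 : sm gg N294 = N294 := ded_50_1 (flp_h L2619) L1810 L2619
theorem L2627 : sm gi N201 = N295 := rfl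
theorem L2629 : sm gb N295 = N295 := ded_26_1 (flp_i L2627) L1806 L2627
theorem L2630 : sm gc N295 = N295 := ded_33_1 (flp_i L2627) L1807 L2627
theorem L2631 : sm gd N295 = N295 := ded_39_1 (flp_i L2627) L1808 L2627
theorem L2632 : sm ge N295 = N295 := ded_44_1 (flp_i L2627) L1809 L2627
theorem L2633 : sm gf N295 = N204 := ded_48_1 (flp_i L1827) L1804 L2627
theorem L2635 : sm gg N295 = N295 := ded_51_1 (flp_i L2627) L1810 L2627
theorem L2636 : sm gh N202 = N296 := rfl
theorem L2638 : sm gb N296 = N296 := ded_25_1 (flp_h L2636) L1813 L2636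
theorem L2639 : sm gc N296 = N296 := ded_32_1 (flp_h L2636) L1814 L2636
theorem L2640 : sm ge N296 = N208 := ded_43_1 (flp_h L1859) (flp_e L1816) L2636
theorem L2642 : sm gg N296 = N296 := ded_50_1 (flp_h L2636) L1818 L2636
theorem L2643 : sm gj N296 = N203 := ded_52_1 (flp_h L1819) L1811 L2636
theorem L2645 : sm gi N202 = N297 := rfl
theorem L2647 : sm gb N297 = N297 := ded_26_1 (flp_i L2645) L1813 L2645
theorem L2648 : sm gc N297 = N297 := ded_33_1 (flp_i L2645) L1814 L2645
theorem L2649 : sm gd N297 = N297 := ded_39_1 (flp_i L2645) L1815 L2645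
theorem L2650 : sm ge N297 = N209 := ded_44_1 (flp_i L1868) (flp_e L1816) L2645
theorem L2652 : sm gg N297 = N297 := ded_51_1 (flp_i L2645) L1818 L2645
theorem L2653 : sm gj N297 = N204 := ded_53_1 (flp_i L1827) L1811 L2645
theorem L2655 : sm gd N203 = N298 := rfl
theorem L2657 : sm gb N298 = N298 := ded_20_1 (flp_d L2655) L1821 L2655
theorem L2658 : sm gg N298 = N205 := ded_36_2 (flp_d L1836) (flp_g L1825) L2655
theorem L2660 : sm ge N298 = N298 := ded_34_2 (flp_d L2655) L1823 L1285 (flp_e L1823) L2655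
theorem L2661 : sm gh N298 = N298 := ded_38_2 (flp_d L2655) (flp_h L1819) L1250 L1819 L2655
theorem L2662 : sm gi N203 = N299 := rfl
theorem L2664 : sm gb N299 = N299 := ded_26_1 (flp_i L2662) L1821 L2662
theorem L2665 : sm gc N299 = N299 := ded_33_1 (flp_i L2662) L1822 L2662
theorem L2666 : sm ge N299 = N210 := ded_44_1 (flp_i L1878) (flp_e L1823) L2662
theorem L2668 : sm gg N299 = N206 := ded_51_1 (flp_i L1843) (flp_g L1825) L2662
theorem L2670 : sm gh N204 = N300 := rfl
theorem L2672 : sm gb N300 = N300 := ded_25_1 (flp_h L2670) L1829 L2670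
theorem L2673 : sm gc N300 = N300 := ded_32_1 (flp_h L2670) L1830 L2670
theorem L2674 : sm ge N300 = N211 := ded_43_1 (flp_h L1886) (flp_e L1832) L2670
theorem L2676 : sm gg N300 = N207 := ded_50_1 (flp_h L1851) (flp_g L1834) L2670
theorem L2678 : sm gc N205 = N301 := rfl
theorem L2680 : sm ge N301 = N301 := ded_28_2 (flp_c L2678) L1841 L2678
theorem L2681 : sm gf N301 = N301 := ded_29_2 (flp_c L2678) L1839 L2678
theorem L2682 : sm gj N301 = N301 := ded_31_2 (flp_c L2678) L1840 L2678
theorem L2683 : sm gh N301 = N301 := ded_32_2 (flp_c L2678) L1842 L2678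
theorem L2684 : sm gd N301 = N301 := ded_27_2 (flp_c L2678) (flp_d L1836) L1256 L1836 L2678
theorem L2685 : sm gi N205 = N302 := rfl
theorem L2687 : sm gb N302 = N302 := ded_26_1 (flp_i L2685) L1838 L2685
theorem L2688 : sm gd N302 = N206 := ded_39_1 (flp_i L1843) L1836 L2685
theorem L2690 : sm ge N302 = N302 := ded_44_1 (flp_i L2685) L1841 L2685
theorem L2691 : sm gf N302 = N302 := ded_48_1 (flp_i L2685) L1839 L2685
theorem L2692 : sm gj N302 = N302 := ded_53_1 (flp_i L2685) L1840 L2685
theorem L2693 : sm gh N206 = N303 := rfl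
theorem L2695 : sm gb N303 = N303 := ded_25_1 (flp_h L2693) L1845 L2693
theorem L2696 : sm gc N303 = N303 := ded_32_1 (flp_h L2693) L1846 L2693
theorem L2697 : sm ge N303 = N212 := ded_43_1 (flp_h L1893) (flp_e L1847) L2693
theorem L2699 : sm gf N303 = N303 := ded_47_1 (flp_h L2693) L1849 L2693
theorem L2700 : sm gj N303 = N303 := ded_52_1 (flp_h L2693) L1850 L2693
theorem L2701 : sm gi N303 = N207 := ded_54_2 (flp_h L1851) (flp_i L1261) L1253 L1843 L2693
theorem L2703 : sm gd N207 = N304 := rfl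
theorem L2705 : sm gb N304 = N304 := ded_20_1 (flp_d L2703) L1853 L2703
theorem L2706 : sm gf N304 = N304 := ded_35_2 (flp_d L2703) L1857 L2703
theorem L2707 : sm gj N304 = N304 := ded_37_2 (flp_d L2703) L1858 L2703
theorem L2708 : sm gh N304 = N304 := ded_38_2 (flp_d L2703) (flp_h L1851) L1265 L1851 L2703
theorem L2709 : sm gi N208 = N305 := rfl
theorem L2711 : sm gb N305 = N305 := ded_26_1 (flp_i L2709) L1861 L2709
theorem L2712 : sm gc N305 = N305 := ded_33_1 (flp_i L2709) L1862 L2709
theorem L2713 : sm gd N305 = N305 := ded_39_1 (flp_i L2709) L1867 L2709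
theorem L2714 : sm gf N305 = N305 := ded_48_1 (flp_i L2709) L1863 L2709
theorem L2715 : sm gg N305 = N305 := ded_51_1 (flp_i L2709) L1864 L2709
theorem L2716 : sm gj N305 = N210 := ded_53_1 (flp_i L1878) (flp_j L1865) L2709
theorem L2718 : sm gh N209 = N306 := rfl
theorem L2720 : sm gb N306 = N306 := ded_25_1 (flp_h L2718) L1870 L2718
theorem L2721 : sm gc N306 = N306 := ded_32_1 (flp_h L2718) L1871 L2718
theorem L2722 : sm gf N306 = N306 := ded_47_1 (flp_h L2718) L1874 L2718
theorem L2723 : sm gg N306 = N306 := ded_50_1 (flp_h L2718) L1875 L2718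
theorem L2724 : sm gj N306 = N211 := ded_52_1 (flp_h L1886) (flp_j L1876) L2718
theorem L2726 : sm gh N210 = N307 := rfl
theorem L2728 : sm gb N307 = N307 := ded_25_1 (flp_h L2726) L1880 L2726
theorem L2729 : sm gc N307 = N307 := ded_32_1 (flp_h L2726) L1881 L2726
theorem L2730 : sm gf N307 = N307 := ded_47_1 (flp_h L2726) L1883 L2726
theorem L2731 : sm gg N307 = N212 := ded_50_1 (flp_h L1893) (flp_g L1884) L2726
theorem L2733 : sm gi N307 = N211 := ded_54_2 (flp_h L1886) (flp_i L1286) L1278 L1878 L2726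
theorem L2735 : sm gd N211 = N308 := rfl
theorem L2737 : sm gb N308 = N308 := ded_20_1 (flp_d L2735) L1888 L2735
theorem L2738 : sm gf N308 = N308 := ded_35_2 (flp_d L2735) L1890 L2735
theorem L2739 : sm gg N308 = N213 := ded_36_2 (flp_d L1902) (flp_g L1891) L2735
theorem L2741 : sm gh N308 = N218 := ded_38_2 (flp_d L1944) (flp_h L1336) (flp_d L1290) L1886 L2735
theorem L2743 : sm gd N212 = N309 := rfl
theorem L2745 : sm gb N309 = N309 := ded_20_1 (flp_d L2743) L1895 L2743
theorem L2746 : sm gf N309 = N214 := ded_35_2 (flp_d L1910) (flp_f L1897) L2743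
theorem L2748 : sm gj N309 = N309 := ded_37_2 (flp_d L2743) L1899 L2743
theorem L2749 : sm gi N309 = N213 := ded_39_2 (flp_d L1902) (flp_i L1900) L2743
theorem L2751 : sm gh N309 = N309 := ded_38_2 (flp_d L2743) (flp_h L1893) L1299 L1893 L2743
theorem L2752 : sm gc N213 = N310 := rfl
theorem L2754 : sm gf N310 = N215 := ded_29_2 (flp_c L1918) (flp_f L1905) L2752
theorem L2756 : sm gj N310 = N310 := ded_31_2 (flp_c L2752) L1907 L2752
theorem L2757 : sm gh N310 = N219 := ded_32_2 (flp_c L1951) (flp_h L1908) L2752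
theorem L2759 : sm gd N310 = N310 := ded_27_2 (flp_c L2752) (flp_d L1902) L1306 L1902 L2752
theorem L2760 : sm ge N213 = N311 := rfl
theorem L2762 : sm gb N311 = N311 := ded_21_1 (flp_e L2760) L1904 L2760
theorem L2763 : sm gj N311 = N311 := ded_42_2 (flp_e L2760) L1907 L2760
theorem L2764 : sm gh N311 = N220 := ded_43_2 (flp_e L1959) (flp_h L1908) L2760
theorem L2766 : sm gc N214 = N312 := rfl
theorem L2768 : sm gg N312 = N312 := ded_30_2 (flp_c L2766) L1913 L2766
theorem L2769 : sm gj N312 = N312 := ded_31_2 (flp_c L2766) L1914 L2766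
theorem L2770 : sm gh N312 = N312 := ded_32_2 (flp_c L2766) L1917 L2766
theorem L2771 : sm gi N312 = N215 := ded_33_2 (flp_c L1918) (flp_i L1915) L2766
theorem L2773 : sm gd N312 = N312 := ded_27_2 (flp_c L2766) (flp_d L1910) L1313 L1910 L2766
theorem L2774 : sm ge N214 = N313 := rfl
theorem L2776 : sm gb N313 = N313 := ded_21_1 (flp_e L2774) L1912 L2774
theorem L2777 : sm gg N313 = N313 := ded_41_2 (flp_e L2774) L1913 L2774
theorem L2778 : sm gj N313 = N313 := ded_42_2 (flp_e L2774) L1914 L2774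
theorem L2779 : sm gh N313 = N313 := ded_43_2 (flp_e L2774) L1917 L2774
theorem L2780 : sm gi N313 = N216 := ded_44_2 (flp_e L1925) (flp_i L1915) L2774
theorem L2782 : sm gd N313 = N313 := ded_34_1 (flp_e L2774) (flp_d L1910) L1314 L1910 L2774
theorem L2783 : sm gb N215 = N314 := rfl
theorem L2785 : sm gd N314 = N314 := ded_20_2 (flp_b L2783) L1924 L2783
theorem L2786 : sm gg N314 = N314 := ded_23_2 (flp_b L2783) L1920 L2783
theorem L2787 : sm gj N314 = N314 := ded_24_2 (flp_b L2783) L1921 L2783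
theorem L2788 : sm gh N314 = N221 := ded_25_2 (flp_b L1965) (flp_h L1922) L2783
theorem L2790 : sm gc N314 = N314 := ded_19_2 (flp_b L2783) (flp_c L1918) L1321 L1918 L2783
theorem L2791 : sm ge N215 = N315 := rfl
theorem L2793 : sm gc N315 = N216 := ded_28_1 (flp_e L1925) L1918 L2791
theorem L2795 : sm gg N315 = N315 := ded_41_2 (flp_e L2791) L1920 L2791
theorem L2796 : sm gj N315 = N315 := ded_42_2 (flp_e L2791) L1921 L2791
theorem L2797 : sm gh N315 = N222 := ded_43_2 (flp_e L1973) (flp_h L1922) L2791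
theorem L2799 : sm gf N216 = N316 := rfl
theorem L2801 : sm gb N316 = N316 := ded_22_1 (flp_f L2799) L1927 L2799
theorem L2802 : sm gd N316 = N316 := ded_35_1 (flp_f L2799) L1932 L2799
theorem L2803 : sm gj N316 = N316 := ded_46_2 (flp_f L2799) L1929 L2799
theorem L2804 : sm gh N316 = N223 := ded_47_2 (flp_f L1981) (flp_h L1930) L2799
theorem L2806 : sm gd N217 = N317 := rfl
theorem L2808 : sm gb N317 = N317 := ded_20_1 (flp_d L2806) L1935 L2806
theorem L2809 : sm gf N317 = N317 := ded_35_2 (flp_d L2806) L1939 L2806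
theorem L2810 : sm gg N317 = N317 := ded_36_2 (flp_d L2806) L1940 L2806
theorem L2811 : sm gj N317 = N218 := ded_37_2 (flp_d L1944) (flp_j L1941) L2806
theorem L2813 : sm gi N317 = N317 := ded_39_2 (flp_d L2806) L1943 L2806
theorem L2814 : sm gc N218 = N318 := rfl
theorem L2816 : sm gf N318 = N318 := ded_29_2 (flp_c L2814) L1947 L2814
theorem L2817 : sm gg N318 = N219 := ded_30_2 (flp_c L1951) (flp_g L1948) L2814
theorem L2819 : sm gi N318 = N318 := ded_33_2 (flp_c L2814) L1950 L2814
theorem L2820 : sm gd N318 = N226 := ded_27_2 (flp_c L2006) (flp_d L1386) (flp_c L1339) L1944 L2814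
theorem L2822 : sm ge N218 = N319 := rfl
theorem L2824 : sm gb N319 = N319 := ded_21_1 (flp_e L2822) L1946 L2822
theorem L2825 : sm gg N319 = N220 := ded_41_2 (flp_e L1959) (flp_g L1948) L2822
theorem L2827 : sm gi N319 = N319 := ded_44_2 (flp_e L2822) L1950 L2822
theorem L2828 : sm gd N319 = N319 := ded_34_1 (flp_e L2822) (flp_d L1944) L1341 L1944 L2822
theorem L2829 : sm gb N219 = N320 := rfl
theorem L2831 : sm gd N320 = N228 := ded_20_2 (flp_b L2022) (flp_d L1957) L2829
theorem L2833 : sm gf N320 = N221 := ded_22_2 (flp_b L1965) (flp_f L1953) L2829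
theorem L2835 : sm gj N320 = N320 := ded_24_2 (flp_b L2829) L1955 L2829
theorem L2836 : sm gi N320 = N320 := ded_26_2 (flp_b L2829) L1956 L2829
theorem L2837 : sm gc N320 = N320 := ded_19_2 (flp_b L2829) (flp_c L1951) L1348 L1951 L2829
theorem L2838 : sm ge N219 = N321 := rfl
theorem L2840 : sm gc N321 = N220 := ded_28_1 (flp_e L1959) L1951 L2838
theorem L2842 : sm gj N321 = N321 := ded_42_2 (flp_e L2838) L1955 L2838
theorem L2843 : sm gi N321 = N321 := ded_44_2 (flp_e L2838) L1956 L2838
theorem L2844 : sm gf N220 = N322 := rfl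
theorem L2846 : sm gb N322 = N322 := ded_22_1 (flp_f L2844) L1961 L2844
theorem L2847 : sm gd N322 = N322 := ded_35_1 (flp_f L2844) L1964 L2844
theorem L2848 : sm gj N322 = N322 := ded_46_2 (flp_f L2844) L1962 L2844
theorem L2849 : sm gi N322 = N322 := ded_48_2 (flp_f L2844) L1963 L2844
theorem L2850 : sm ge N322 = N223 := ded_40_1 (flp_f L1981) (flp_e L1360) (flp_f L1349) L1959 L2844
theorem L2852 : sm ga N221 = N323 := rfl
theorem L2854 : sm gc N323 = N323 := ded_11_2 (flp_a L2852) L1972 L2852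
theorem L2855 : sm gd N323 = N230 := ded_12_2 (flp_a L2039) (flp_d L1967) L2852
theorem L2857 : sm gg N323 = N323 := ded_15_2 (flp_a L2852) L1969 L2852
theorem L2858 : sm gj N323 = N323 := ded_16_2 (flp_a L2852) L1970 L2852
theorem L2859 : sm gi N323 = N323 := ded_18_2 (flp_a L2852) L1971 L2852
theorem L2860 : sm ge N221 = N324 := rfl
theorem L2862 : sm gb N324 = N222 := ded_21_1 (flp_e L1973) L1965 L2860
theorem L2864 : sm gc N324 = N324 := ded_28_1 (flp_e L2860) L1972 L2860
theorem L2865 : sm gg N324 = N324 := ded_41_2 (flp_e L2860) L1969 L2860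
theorem L2866 : sm gj N324 = N324 := ded_42_2 (flp_e L2860) L1970 L2860
theorem L2867 : sm gi N324 = N324 := ded_44_2 (flp_e L2860) L1971 L2860
theorem L2868 : sm gd N324 = N324 := ded_34_1 (flp_e L2860) L1967 L1413 (flp_d L1967) L2860
theorem L2869 : sm gf N222 = N325 := rfl
theorem L2871 : sm gc N325 = N223 := ded_29_1 (flp_f L1981) (flp_c L1975) L2869
theorem L2873 : sm gd N325 = N325 := ded_35_1 (flp_f L2869) L1980 L2869
theorem L2874 : sm gj N325 = N325 := ded_46_2 (flp_f L2869) L1978 L2869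
theorem L2875 : sm gi N325 = N325 := ded_48_2 (flp_f L2869) L1979 L2869
theorem L2876 : sm gg N223 = N326 := rfl
theorem L2878 : sm gb N326 = N326 := ded_23_1 (flp_g L2876) L1983 L2876
theorem L2879 : sm gd N326 = N224 := ded_36_1 (flp_g L1988) (flp_d L1984) L2876
theorem L2881 : sm gi N326 = N326 := ded_51_2 (flp_g L2876) L1987 L2876
theorem L2882 : sm gf N326 = N326 := ded_45_1 (flp_g L2876) (flp_f L1981) L1363 L1981 L2876
theorem L2883 : sm gj N224 = N327 := rfl
theorem L2885 : sm gb N327 = N327 := ded_24_1 (flp_j L2883) L1990 L2883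
theorem L2886 : sm gc N327 = N327 := ded_31_1 (flp_j L2883) L1991 L2883
theorem L2887 : sm ge N327 = N327 := ded_42_1 (flp_j L2883) L1992 L2883
theorem L2888 : sm gf N327 = N327 := ded_46_1 (flp_j L2883) L1995 L2883
theorem L2889 : sm gh N327 = N327 := ded_52_2 (flp_j L2883) L1993 L2883
theorem L2890 : sm gi N327 = N327 := ded_53_2 (flp_j L2883) L1994 L2883
theorem L2891 : sm gg N327 = N327 := ded_49_1 (flp_j L2883) (flp_g L1988) L1372 L1988 L2883
theorem L2892 : sm gc N225 = N328 := rfl
theorem L2894 : sm gf N328 = N328 := ded_29_2 (flp_c L2892) L2000 L2892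
theorem L2895 : sm gg N328 = N328 := ded_30_2 (flp_c L2892) L2001 L2892
theorem L2896 : sm gj N328 = N226 := ded_31_2 (flp_c L2006) (flp_j L2002) L2892
theorem L2898 : sm gh N328 = N328 := ded_32_2 (flp_c L2892) L2005 L2892
theorem L2899 : sm gi N328 = N328 := ded_33_2 (flp_c L2892) L2004 L2892
theorem L2900 : sm ge N225 = N329 := rfl
theorem L2902 : sm gb N329 = N232 := ded_21_1 (flp_e L2058) (flp_b L1998) L2900
theorem L2904 : sm gg N329 = N329 := ded_41_2 (flp_e L2900) L2001 L2900
theorem L2905 : sm gj N329 = N227 := ded_42_2 (flp_e L2013) (flp_j L2002) L2900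
theorem L2907 : sm gh N329 = N329 := ded_43_2 (flp_e L2900) L2005 L2900
theorem L2908 : sm gi N329 = N329 := ded_44_2 (flp_e L2900) L2004 L2900
theorem L2909 : sm gd N329 = N329 := ded_34_1 (flp_e L2900) (flp_d L1996) L1380 L1996 L2900
theorem L2910 : sm gb N226 = N330 := rfl
theorem L2912 : sm gf N330 = N330 := ded_22_2 (flp_b L2910) L2008 L2910
theorem L2913 : sm gg N330 = N228 := ded_23_2 (flp_b L2022) (flp_g L2009) L2910
theorem L2915 : sm gh N330 = N330 := ded_25_2 (flp_b L2910) L2011 L2910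
theorem L2916 : sm gi N330 = N330 := ded_26_2 (flp_b L2910) L2012 L2910
theorem L2917 : sm gc N330 = N233 := ded_19_2 (flp_b L2067) (flp_c L1429) (flp_b L1388) L2006 L2910
theorem L2919 : sm ge N226 = N331 := rfl
theorem L2921 : sm gc N331 = N227 := ded_28_1 (flp_e L2013) L2006 L2919
theorem L2923 : sm gg N331 = N229 := ded_41_2 (flp_e L2031) (flp_g L2009) L2919
theorem L2925 : sm gh N331 = N331 := ded_43_2 (flp_e L2919) L2011 L2919
theorem L2926 : sm gi N331 = N331 := ded_44_2 (flp_e L2919) L2012 L2919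
theorem L2927 : sm gf N227 = N332 := rfl
theorem L2929 : sm gb N332 = N235 := ded_22_1 (flp_f L2084) (flp_b L2015) L2927
theorem L2931 : sm gd N332 = N332 := ded_35_1 (flp_f L2927) L2021 L2927
theorem L2932 : sm gh N332 = N332 := ded_47_2 (flp_f L2927) L2019 L2927
theorem L2933 : sm gi N332 = N332 := ded_48_2 (flp_f L2927) L2020 L2927
theorem L2934 : sm ge N332 = N332 := ded_40_1 (flp_f L2927) (flp_e L2013) L1390 L2013 L2927
theorem L2935 : sm gg N332 = N332 := ded_45_2 (flp_f L2927) L2017 L1410 (flp_g L2017) L2927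
theorem L2936 : sm ga N228 = N333 := rfl
theorem L2938 : sm gc N333 = N236 := ded_11_2 (flp_a L2092) (flp_c L2029) L2936
theorem L2940 : sm gf N333 = N230 := ded_14_2 (flp_a L2039) (flp_f L2024) L2936
theorem L2942 : sm gj N333 = N333 := ded_16_2 (flp_a L2936) L2026 L2936
theorem L2943 : sm gh N333 = N333 := ded_17_2 (flp_a L2936) L2027 L2936
theorem L2944 : sm gi N333 = N333 := ded_18_2 (flp_a L2936) L2028 L2936
theorem L2945 : sm ge N228 = N334 := rfl
theorem L2947 : sm gb N334 = N229 := ded_21_1 (flp_e L2031) L2022 L2945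
theorem L2949 : sm gc N334 = N237 := ded_28_1 (flp_e L2101) (flp_c L2029) L2945
theorem L2951 : sm gj N334 = N334 := ded_42_2 (flp_e L2945) L2026 L2945
theorem L2952 : sm gh N334 = N334 := ded_43_2 (flp_e L2945) L2027 L2945
theorem L2953 : sm gi N334 = N334 := ded_44_2 (flp_e L2945) L2028 L2945
theorem L2954 : sm gf N334 = N334 := ded_40_2 (flp_e L2945) L2024 L1413 (flp_f L2024) L2945
theorem L2955 : sm gd N229 = N335 := rfl
theorem L2957 : sm gf N335 = N335 := ded_35_2 (flp_d L2955) L2038 L2955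
theorem L2958 : sm gj N335 = N335 := ded_37_2 (flp_d L2955) L2035 L2955
theorem L2959 : sm gi N335 = N335 := ded_39_2 (flp_d L2955) L2037 L2955
theorem L2960 : sm gc N335 = N335 := ded_27_1 (flp_d L2955) L2033 L1409 (flp_c L2033) L2955
theorem L2961 : sm gb N231 = N336 := rfl
theorem L2963 : sm gd N336 = N336 := ded_20_2 (flp_b L2961) L2057 L2961
theorem L2964 : sm gf N336 = N336 := ded_22_2 (flp_b L2961) L2051 L2961
theorem L2965 : sm gg N336 = N336 := ded_23_2 (flp_b L2961) L2052 L2961
theorem L2966 : sm gj N336 = N233 := ded_24_2 (flp_b L2067) (flp_j L2053) L2961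
theorem L2968 : sm gh N336 = N336 := ded_25_2 (flp_b L2961) L2055 L2961
theorem L2969 : sm gi N336 = N336 := ded_26_2 (flp_b L2961) L2056 L2961
theorem L2970 : sm ge N231 = N337 := rfl
theorem L2972 : sm ga N337 = N337 := ded_13_1 (flp_e L2970) L2050 L2970
theorem L2973 : sm gc N337 = N232 := ded_28_1 (flp_e L2058) L2048 L2970
theorem L2975 : sm gg N337 = N337 := ded_41_2 (flp_e L2970) L2052 L2970
theorem L2976 : sm gj N337 = N234 := ded_42_2 (flp_e L2075) (flp_j L2053) L2970
theorem L2978 : sm gh N337 = N337 := ded_43_2 (flp_e L2970) L2055 L2970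
theorem L2979 : sm gi N337 = N337 := ded_44_2 (flp_e L2970) L2056 L2970
theorem L2980 : sm gf N232 = N338 := rfl
theorem L2982 : sm ga N338 = N338 := ded_14_1 (flp_f L2980) L2060 L2980
theorem L2983 : sm gd N338 = N338 := ded_35_1 (flp_f L2980) L2066 L2980
theorem L2984 : sm gj N338 = N235 := ded_46_2 (flp_f L2084) (flp_j L2062) L2980
theorem L2986 : sm gh N338 = N338 := ded_47_2 (flp_f L2980) L2064 L2980
theorem L2987 : sm gi N338 = N338 := ded_48_2 (flp_f L2980) L2065 L2980
theorem L2988 : sm ge N338 = N338 := ded_40_1 (flp_f L2980) (flp_e L2058) L1423 L2058 L2980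
theorem L2989 : sm ga N233 = N339 := rfl
theorem L2991 : sm gd N339 = N339 := ded_12_2 (flp_a L2989) L2069 L2989
theorem L2992 : sm gf N339 = N339 := ded_14_2 (flp_a L2989) L2070 L2989
theorem L2993 : sm gg N339 = N236 := ded_15_2 (flp_a L2092) (flp_g L2071) L2989
theorem L2995 : sm gh N339 = N339 := ded_17_2 (flp_a L2989) L2073 L2989
theorem L2996 : sm gi N339 = N339 := ded_18_2 (flp_a L2989) L2074 L2989
theorem L2997 : sm gb N339 = N339 := ded_10_2 (flp_a L2989) (flp_b L2067) L1431 L2067 L2989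
theorem L2998 : sm ge N233 = N340 := rfl
theorem L3000 : sm gb N340 = N234 := ded_21_1 (flp_e L2075) L2067 L2998
theorem L3002 : sm gg N340 = N237 := ded_41_2 (flp_e L2101) (flp_g L2071) L2998
theorem L3004 : sm gh N340 = N340 := ded_43_2 (flp_e L2998) L2073 L2998
theorem L3005 : sm gi N340 = N340 := ded_44_2 (flp_e L2998) L2074 L2998
theorem L3006 : sm gd N234 = N341 := rfl
theorem L3008 : sm ga N341 = N341 := ded_12_1 (flp_d L3006) L2077 L3006
theorem L3009 : sm gg N341 = N238 := ded_36_2 (flp_d L2109) (flp_g L2080) L3006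
theorem L3011 : sm gi N341 = N341 := ded_39_2 (flp_d L3006) L2083 L3006
theorem L3012 : sm gc N341 = N341 := ded_27_1 (flp_d L3006) L2078 L1445 (flp_c L2078) L3006
theorem L3013 : sm ge N341 = N341 := ded_34_2 (flp_d L3006) (flp_e L2075) L1437 L2075 L3006
theorem L3014 : sm gf N234 = N342 := rfl
theorem L3016 : sm ga N342 = N342 := ded_14_1 (flp_f L3014) L2077 L3014
theorem L3017 : sm gc N342 = N235 := ded_29_1 (flp_f L2084) (flp_c L2078) L3014
theorem L3019 : sm gh N342 = N342 := ded_47_2 (flp_f L3014) L2082 L3014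
theorem L3020 : sm gi N342 = N342 := ded_48_2 (flp_f L3014) L2083 L3014
theorem L3021 : sm ge N342 = N342 := ded_40_1 (flp_f L3014) (flp_e L2075) L1432 L2075 L3014
theorem L3022 : sm gg N342 = N342 := ded_45_2 (flp_f L3014) L2080 L1462 (flp_g L2080) L3014
theorem L3023 : sm ge N236 = N343 := rfl
theorem L3025 : sm ga N343 = N237 := ded_13_1 (flp_e L2101) L2092 L3023
theorem L3027 : sm gb N343 = N343 := ded_21_1 (flp_e L3023) L2100 L3023
theorem L3028 : sm gj N343 = N343 := ded_42_2 (flp_e L3023) L2097 L3023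
theorem L3029 : sm gh N343 = N343 := ded_43_2 (flp_e L3023) L2098 L3023
theorem L3030 : sm gi N343 = N343 := ded_44_2 (flp_e L3023) L2099 L3023
theorem L3031 : sm gf N343 = N343 := ded_40_2 (flp_e L3023) L2095 L1466 (flp_f L2095) L3023
theorem L3032 : sm gd N237 = N344 := rfl
theorem L3034 : sm gb N344 = N238 := ded_20_1 (flp_d L2109) (flp_b L2103) L3032
theorem L3036 : sm gf N344 = N344 := ded_35_2 (flp_d L3032) L2108 L3032
theorem L3037 : sm gj N344 = N344 := ded_37_2 (flp_d L3032) L2105 L3032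
theorem L3038 : sm gi N344 = N344 := ded_39_2 (flp_d L3032) L2107 L3032
theorem L3039 : sm ge N344 = N344 := ded_34_2 (flp_d L3032) (flp_e L2101) L1448 L2101 L3032
theorem L3040 : sm gh N238 = N345 := rfl
theorem L3042 : sm ga N345 = N345 := ded_17_1 (flp_h L3040) L2111 L3040
theorem L3043 : sm gc N345 = N345 := ded_32_1 (flp_h L3040) L2115 L3040
theorem L3044 : sm ge N345 = N345 := ded_43_1 (flp_h L3040) L2116 L3040
theorem L3045 : sm gf N345 = N345 := ded_47_1 (flp_h L3040) L2112 L3040
theorem L3046 : sm gj N345 = N345 := ded_52_1 (flp_h L3040) L2113 L3040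
theorem L3047 : sm gd N345 = N345 := ded_38_1 (flp_h L3040) (flp_d L2109) L1460 L2109 L3040
theorem L3048 : sm gd N239 = N346 := rfl
theorem L3050 : sm ga N346 = N346 := ded_12_1 (flp_d L3048) L2119 L3048
theorem L3051 : sm gb N346 = N346 := ded_20_1 (flp_d L3048) L2120 L3048
theorem L3052 : sm gf N346 = N346 := ded_35_2 (flp_d L3048) L2124 L3048
theorem L3053 : sm gj N346 = N346 := ded_37_2 (flp_d L3048) L2123 L3048
theorem L3054 : sm gc N346 = N346 := ded_27_1 (flp_d L3048) L2121 L1505 (flp_c L2121) L3048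
theorem L3055 : sm ge N346 = N346 := ded_34_2 (flp_d L3048) (flp_e L2117) L1478 L2117 L3048
theorem L3056 : sm gh N346 = N346 := ded_56_7 L3052 L3055 (flp_d L3048) L2121 L1502 L1109 L1253 L1259 L1257 L887 L883 L882 (flp_a L1125) (flp_h L1123) (flp_f L759) L531 (flp_d L524) L367 L270 L268 L220 L302 L309 L306 (flp_c L421) L420 (flp_a L534) L539 (flp_f L532) (flp_e L363) L265 (flp_c L257) L190 L188 L158 L155 L214 L221 (flp_c L288) L287 (flp_a L365) L371 L532 L540 (flp_d L764) L763 (flp_b L1043) L1042 L1515 L1520 L1053 L1056 (flp_c L1484) L1483 L1482 (flp_h L1480) L1472 L2117 L3048 L3054 L3051 L3050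
theorem L3057 : sm gg N239 = N347 := rfl
theorem L3059 : sm ga N347 = N347 := ded_15_1 (flp_g L3057) L2119 L3057
theorem L3060 : sm gb N347 = N347 := ded_23_1 (flp_g L3057) L2120 L3057
theorem L3061 : sm gc N347 = N246 := ded_30_1 (flp_g L2178) (flp_c L2121) L3057
theorem L3063 : sm ge N347 = N240 := ded_41_1 (flp_g L2125) L2117 L3057
theorem L3065 : sm gh N239 = N348 := rfl
theorem L3067 : sm ga N348 = N348 := ded_17_1 (flp_h L3065) L2119 L3065
theorem L3068 : sm gb N348 = N348 := ded_25_1 (flp_h L3065) L2120 L3065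
theorem L3069 : sm gc N348 = N247 := ded_32_1 (flp_h L2186) (flp_c L2121) L3065
theorem L3071 : sm ge N348 = N241 := ded_43_1 (flp_h L2133) L2117 L3065
theorem L3073 : sm gf N348 = N348 := ded_47_1 (flp_h L3065) L2124 L3065
theorem L3074 : sm gj N348 = N348 := ded_52_1 (flp_h L3065) L2123 L3065
theorem L3075 : sm gd N348 = N348 := ded_38_1 (flp_h L3065) L3048 L3056 (flp_d L3048) L3065
theorem L3076 : sm gi N239 = N349 := rfl
theorem L3078 : sm ga N349 = N349 := ded_18_1 (flp_i L3076) L2119 L3076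
theorem L3079 : sm gb N349 = N349 := ded_26_1 (flp_i L3076) L2120 L3076
theorem L3080 : sm gc N349 = N248 := ded_33_1 (flp_i L2195) (flp_c L2121) L3076
theorem L3082 : sm ge N349 = N242 := ded_44_1 (flp_i L2142) L2117 L3076
theorem L3084 : sm gf N349 = N349 := ded_48_1 (flp_i L3076) L2124 L3076
theorem L3085 : sm gj N349 = N349 := ded_53_1 (flp_i L3076) L2123 L3076
theorem L3086 : sm gj N240 = N350 := rfl
theorem L3088 : sm ga N350 = N350 := ded_16_1 (flp_j L3086) L2127 L3086
theorem L3089 : sm gb N350 = N350 := ded_24_1 (flp_j L3086) L2128 L3086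
theorem L3090 : sm gc N350 = N249 := ded_31_1 (flp_j L2205) (flp_c L2129) L3086
theorem L3092 : sm gd N350 = N350 := ded_37_1 (flp_j L3086) L2131 L3086
theorem L3093 : sm gf N350 = N350 := ded_46_1 (flp_j L3086) L2132 L3086
theorem L3094 : sm gg N350 = N350 := ded_49_1 (flp_j L3086) (flp_g L2125) L1479 L2125 L3086
theorem L3095 : sm gh N240 = N351 := rfl
theorem L3097 : sm ga N351 = N351 := ded_17_1 (flp_h L3095) L2127 L3095
theorem L3098 : sm gb N351 = N351 := ded_25_1 (flp_h L3095) L2128 L3095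
theorem L3099 : sm gc N351 = N250 := ded_32_1 (flp_h L2214) (flp_c L2129) L3095
theorem L3101 : sm gf N351 = N351 := ded_47_1 (flp_h L3095) L2132 L3095
theorem L3102 : sm gg N351 = N241 := ded_50_1 (flp_h L2133) L2125 L3095
theorem L3104 : sm gi N240 = N352 := rfl
theorem L3106 : sm ga N352 = N352 := ded_18_1 (flp_i L3104) L2127 L3104
theorem L3107 : sm gb N352 = N352 := ded_26_1 (flp_i L3104) L2128 L3104
theorem L3108 : sm gc N352 = N251 := ded_33_1 (flp_i L2223) (flp_c L2129) L3104
theorem L3110 : sm gd N352 = N352 := ded_39_1 (flp_i L3104) L2131 L3104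
theorem L3111 : sm gf N352 = N352 := ded_48_1 (flp_i L3104) L2132 L3104
theorem L3112 : sm gg N352 = N242 := ded_51_1 (flp_i L2142) L2125 L3104
theorem L3114 : sm gd N241 = N353 := rfl
theorem L3116 : sm ga N353 = N353 := ded_12_1 (flp_d L3114) L2135 L3114
theorem L3117 : sm gb N353 = N353 := ded_20_1 (flp_d L3114) L2136 L3114
theorem L3118 : sm gf N353 = N243 := ded_35_2 (flp_d L2152) (flp_f L2139) L3114
theorem L3120 : sm gj N353 = N353 := ded_37_2 (flp_d L3114) L2141 L3114
theorem L3121 : sm gc N353 = N353 := ded_27_1 (flp_d L3114) L2137 L1523 (flp_c L2137) L3114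
theorem L3122 : sm ge N353 = N353 := ded_34_2 (flp_d L3114) (flp_e L3071) L3075 L3071 L3114
theorem L3123 : sm gh N353 = N353 := ded_38_2 (flp_d L3114) (flp_h L2133) L1478 L2133 L3114
theorem L3124 : sm gi N241 = N354 := rfl
theorem L3126 : sm ga N354 = N354 := ded_18_1 (flp_i L3124) L2135 L3124
theorem L3127 : sm gb N354 = N354 := ded_26_1 (flp_i L3124) L2136 L3124
theorem L3128 : sm gc N354 = N252 := ded_33_1 (flp_i L2233) (flp_c L2137) L3124
theorem L3130 : sm gf N354 = N244 := ded_48_1 (flp_i L2160) (flp_f L2139) L3124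
theorem L3132 : sm gj N354 = N354 := ded_53_1 (flp_i L3124) L2141 L3124
theorem L3133 : sm gh N242 = N355 := rfl
theorem L3135 : sm ga N355 = N355 := ded_17_1 (flp_h L3133) L2144 L3133
theorem L3136 : sm gb N355 = N355 := ded_25_1 (flp_h L3133) L2145 L3133
theorem L3137 : sm gc N355 = N253 := ded_32_1 (flp_h L2242) (flp_c L2146) L3133
theorem L3139 : sm gf N355 = N245 := ded_47_1 (flp_h L2169) (flp_f L2149) L3133
theorem L3141 : sm gj N355 = N355 := ded_52_1 (flp_h L3133) L2151 L3133
theorem L3142 : sm ge N243 = N356 := rfl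
theorem L3144 : sm ga N356 = N356 := ded_13_1 (flp_e L3142) L2154 L3142
theorem L3145 : sm gb N356 = N356 := ded_21_1 (flp_e L3142) L2155 L3142
theorem L3146 : sm gc N356 = N356 := ded_28_1 (flp_e L3142) L2158 L3142
theorem L3147 : sm gg N356 = N356 := ded_41_2 (flp_e L3142) L2156 L3142
theorem L3148 : sm gj N356 = N356 := ded_42_2 (flp_e L3142) L2157 L3142
theorem L3149 : sm gh N356 = N356 := ded_43_2 (flp_e L3142) L2159 L3142
theorem L3150 : sm gd N356 = N356 := ded_34_1 (flp_e L3142) (flp_d L2152) L1486 L2152 L3142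
theorem L3151 : sm gf N356 = N356 := ded_40_2 (flp_e L3142) (flp_f L3118) L3122 L3118 L3142
theorem L3152 : sm gi N243 = N357 := rfl
theorem L3154 : sm ga N357 = N357 := ded_18_1 (flp_i L3152) L2154 L3152
theorem L3155 : sm gb N357 = N357 := ded_26_1 (flp_i L3152) L2155 L3152
theorem L3156 : sm gc N357 = N357 := ded_33_1 (flp_i L3152) L2158 L3152
theorem L3157 : sm gd N357 = N244 := ded_39_1 (flp_i L2160) L2152 L3152
theorem L3159 : sm gg N357 = N357 := ded_51_1 (flp_i L3152) L2156 L3152
theorem L3160 : sm gj N357 = N357 := ded_53_1 (flp_i L3152) L2157 L3152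
theorem L3161 : sm gh N244 = N358 := rfl
theorem L3163 : sm ga N358 = N358 := ded_17_1 (flp_h L3161) L2162 L3161
theorem L3164 : sm gb N358 = N358 := ded_25_1 (flp_h L3161) L2163 L3161
theorem L3165 : sm gc N358 = N254 := ded_32_1 (flp_h L2250) (flp_c L2164) L3161
theorem L3167 : sm ge N358 = N358 := ded_43_1 (flp_h L3161) L2166 L3161
theorem L3168 : sm gg N358 = N358 := ded_50_1 (flp_h L3161) L2167 L3161
theorem L3169 : sm gj N358 = N358 := ded_52_1 (flp_h L3161) L2168 L3161
theorem L3170 : sm gi N358 = N245 := ded_54_2 (flp_h L2169) (flp_i L1489) L1480 L2160 L3161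
theorem L3172 : sm gd N245 = N359 := rfl
theorem L3174 : sm ga N359 = N359 := ded_12_1 (flp_d L3172) L2171 L3172
theorem L3175 : sm gb N359 = N359 := ded_20_1 (flp_d L3172) L2172 L3172
theorem L3176 : sm gg N359 = N359 := ded_36_2 (flp_d L3172) L2176 L3172
theorem L3177 : sm gj N359 = N359 := ded_37_2 (flp_d L3172) L2177 L3172
theorem L3178 : sm gh N359 = N359 := ded_38_2 (flp_d L3172) (flp_h L2169) L1495 L2169 L3172
theorem L3179 : sm gf N246 = N360 := rfl
theorem L3181 : sm ga N360 = N360 := ded_14_1 (flp_f L3179) L2180 L3179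
theorem L3182 : sm gb N360 = N263 := ded_22_1 (flp_f L2336) (flp_b L2181) L3179
theorem L3184 : sm gd N360 = N360 := ded_35_1 (flp_f L3179) L2183 L3179
theorem L3185 : sm ge N360 = N360 := ded_40_1 (flp_f L3179) L2184 L1514 (flp_e L2184) L3179
theorem L3186 : sm gg N360 = N360 := ded_45_2 (flp_f L3179) (flp_g L2178) L1506 L2178 L3179
theorem L3187 : sm gj N246 = N361 := rfl
theorem L3189 : sm ga N361 = N361 := ded_16_1 (flp_j L3187) L2180 L3187
theorem L3190 : sm gb N361 = N264 := ded_24_1 (flp_j L2344) (flp_b L2181) L3187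
theorem L3192 : sm gd N361 = N361 := ded_37_1 (flp_j L3187) L2183 L3187
theorem L3193 : sm ge N361 = N249 := ded_42_1 (flp_j L2205) (flp_e L2184) L3187
theorem L3195 : sm gg N361 = N361 := ded_49_1 (flp_j L3187) (flp_g L2178) L1504 L2178 L3187
theorem L3196 : sm gh N246 = N362 := rfl
theorem L3198 : sm ga N362 = N362 := ded_17_1 (flp_h L3196) L2180 L3196
theorem L3199 : sm gb N362 = N265 := ded_25_1 (flp_h L2353) (flp_b L2181) L3196
theorem L3201 : sm ge N362 = N250 := ded_43_1 (flp_h L2214) (flp_e L2184) L3196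
theorem L3203 : sm gg N362 = N247 := ded_50_1 (flp_h L2186) L2178 L3196
theorem L3205 : sm gi N246 = N363 := rfl
theorem L3207 : sm ga N363 = N363 := ded_18_1 (flp_i L3205) L2180 L3205
theorem L3208 : sm gb N363 = N266 := ded_26_1 (flp_i L2362) (flp_b L2181) L3205
theorem L3210 : sm gd N363 = N363 := ded_39_1 (flp_i L3205) L2183 L3205
theorem L3211 : sm ge N363 = N251 := ded_44_1 (flp_i L2223) (flp_e L2184) L3205
theorem L3213 : sm gg N363 = N248 := ded_51_1 (flp_i L2195) L2178 L3205
theorem L3215 : sm gd N247 = N364 := rfl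
theorem L3217 : sm ga N364 = N364 := ded_12_1 (flp_d L3215) L2188 L3215
theorem L3218 : sm gb N364 = N267 := ded_20_1 (flp_d L2372) (flp_b L2189) L3215
theorem L3220 : sm gf N364 = N364 := ded_35_2 (flp_d L3215) L2193 L3215
theorem L3221 : sm gj N364 = N364 := ded_37_2 (flp_d L3215) L2194 L3215
theorem L3222 : sm gc N364 = N364 := ded_27_1 (flp_d L3215) (flp_c L3069) L3075 L3069 L3215
theorem L3223 : sm ge N364 = N364 := ded_34_2 (flp_d L3215) L2191 L1523 (flp_e L2191) L3215
theorem L3224 : sm gh N364 = N364 := ded_38_2 (flp_d L3215) (flp_h L2186) L1505 L2186 L3215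
theorem L3225 : sm gi N247 = N365 := rfl
theorem L3227 : sm ga N365 = N365 := ded_18_1 (flp_i L3225) L2188 L3225
theorem L3228 : sm gb N365 = N268 := ded_26_1 (flp_i L2380) (flp_b L2189) L3225
theorem L3230 : sm ge N365 = N252 := ded_44_1 (flp_i L2233) (flp_e L2191) L3225
theorem L3232 : sm gf N365 = N365 := ded_48_1 (flp_i L3225) L2193 L3225
theorem L3233 : sm gj N365 = N365 := ded_53_1 (flp_i L3225) L2194 L3225
theorem L3234 : sm gh N248 = N366 := rfl
theorem L3236 : sm ga N366 = N366 := ded_17_1 (flp_h L3234) L2197 L3234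
theorem L3237 : sm gb N366 = N269 := ded_25_1 (flp_h L2389) (flp_b L2198) L3234
theorem L3239 : sm ge N366 = N253 := ded_43_1 (flp_h L2242) (flp_e L2201) L3234
theorem L3241 : sm gf N366 = N366 := ded_47_1 (flp_h L3234) L2203 L3234
theorem L3242 : sm gj N366 = N366 := ded_52_1 (flp_h L3234) L2204 L3234
theorem L3243 : sm gh N249 = N367 := rfl
theorem L3245 : sm ga N367 = N367 := ded_17_1 (flp_h L3243) L2207 L3243
theorem L3246 : sm gb N367 = N270 := ded_25_1 (flp_h L2398) (flp_b L2208) L3243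
theorem L3248 : sm gf N367 = N367 := ded_47_1 (flp_h L3243) L2212 L3243
theorem L3249 : sm gg N367 = N367 := ded_50_1 (flp_h L3243) L2213 L3243
theorem L3250 : sm gj N367 = N250 := ded_52_1 (flp_h L2214) L2205 L3243
theorem L3252 : sm gd N367 = N367 := ded_38_1 (flp_h L3243) L2210 L1559 (flp_d L2210) L3243
theorem L3253 : sm gi N249 = N368 := rfl
theorem L3255 : sm ga N368 = N368 := ded_18_1 (flp_i L3253) L2207 L3253
theorem L3256 : sm gb N368 = N271 := ded_26_1 (flp_i L2408) (flp_b L2208) L3253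
theorem L3258 : sm gd N368 = N256 := ded_39_1 (flp_i L2269) (flp_d L2210) L3253
theorem L3260 : sm gf N368 = N368 := ded_48_1 (flp_i L3253) L2212 L3253
theorem L3261 : sm gg N368 = N368 := ded_51_1 (flp_i L3253) L2213 L3253
theorem L3262 : sm gj N368 = N251 := ded_53_1 (flp_i L2223) L2205 L3253
theorem L3264 : sm gi N250 = N369 := rfl
theorem L3266 : sm ga N369 = N369 := ded_18_1 (flp_i L3264) L2216 L3264
theorem L3267 : sm gb N369 = N272 := ded_26_1 (flp_i L2419) (flp_b L2217) L3264
theorem L3269 : sm gd N369 = N369 := ded_39_1 (flp_i L3264) L2222 L3264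
theorem L3270 : sm gf N369 = N369 := ded_48_1 (flp_i L3264) L2219 L3264
theorem L3271 : sm gg N369 = N252 := ded_51_1 (flp_i L2233) (flp_g L2220) L3264
theorem L3273 : sm gh N251 = N370 := rfl
theorem L3275 : sm ga N370 = N370 := ded_17_1 (flp_h L3273) L2225 L3273
theorem L3276 : sm gb N370 = N273 := ded_25_1 (flp_h L2428) (flp_b L2226) L3273
theorem L3278 : sm gf N370 = N370 := ded_47_1 (flp_h L3273) L2230 L3273
theorem L3279 : sm gg N370 = N253 := ded_50_1 (flp_h L2242) (flp_g L2231) L3273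
theorem L3281 : sm gh N252 = N371 := rfl
theorem L3283 : sm ga N371 = N371 := ded_17_1 (flp_h L3281) L2235 L3281
theorem L3284 : sm gb N371 = N274 := ded_25_1 (flp_h L2436) (flp_b L2236) L3281
theorem L3286 : sm gf N371 = N254 := ded_47_1 (flp_h L2250) (flp_f L2239) L3281
theorem L3288 : sm gj N371 = N371 := ded_52_1 (flp_h L3281) L2241 L3281
theorem L3289 : sm gi N371 = N253 := ded_54_2 (flp_h L2242) (flp_i L1524) L1515 L2233 L3281
theorem L3291 : sm gd N253 = N372 := rfl
theorem L3293 : sm ga N372 = N372 := ded_12_1 (flp_d L3291) L2244 L3291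
theorem L3294 : sm gb N372 = N275 := ded_20_1 (flp_d L2446) (flp_b L2245) L3291
theorem L3296 : sm gf N372 = N255 := ded_35_2 (flp_d L2260) (flp_f L2247) L3291
theorem L3298 : sm gj N372 = N372 := ded_37_2 (flp_d L3291) L2249 L3291
theorem L3299 : sm gh N372 = N258 := ded_38_2 (flp_d L2291) (flp_h L1571) (flp_d L1529) L2242 L3291
theorem L3301 : sm gd N254 = N373 := rfl
theorem L3303 : sm ga N373 = N373 := ded_12_1 (flp_d L3301) L2252 L3301
theorem L3304 : sm gb N373 = N276 := ded_20_1 (flp_d L2455) (flp_b L2253) L3301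
theorem L3306 : sm gg N373 = N373 := ded_36_2 (flp_d L3301) L2256 L3301
theorem L3307 : sm gj N373 = N373 := ded_37_2 (flp_d L3301) L2257 L3301
theorem L3308 : sm gi N373 = N255 := ded_39_2 (flp_d L2260) (flp_i L2258) L3301
theorem L3310 : sm gh N373 = N373 := ded_38_2 (flp_d L3301) (flp_h L2250) L1539 L2250 L3301
theorem L3311 : sm gc N255 = N374 := rfl
theorem L3313 : sm ga N374 = N374 := ded_11_1 (flp_c L3311) L2262 L3311
theorem L3314 : sm gg N374 = N374 := ded_30_2 (flp_c L3311) L2265 L3311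
theorem L3315 : sm gj N374 = N374 := ded_31_2 (flp_c L3311) L2266 L3311
theorem L3316 : sm gh N374 = N259 := ded_32_2 (flp_c L2300) (flp_h L2267) L3311
theorem L3318 : sm ge N255 = N375 := rfl
theorem L3320 : sm ga N375 = N375 := ded_13_1 (flp_e L3318) L2262 L3318
theorem L3321 : sm gb N375 = N278 := ded_21_1 (flp_e L2473) (flp_b L2263) L3318
theorem L3323 : sm gg N375 = N375 := ded_41_2 (flp_e L3318) L2265 L3318
theorem L3324 : sm gj N375 = N375 := ded_42_2 (flp_e L3318) L2266 L3318
theorem L3325 : sm gh N375 = N260 := ded_43_2 (flp_e L2307) (flp_h L2267) L3318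
theorem L3327 : sm gd N375 = N375 := ded_34_1 (flp_e L3318) (flp_d L2260) L1548 L2260 L3318
theorem L3328 : sm gh N256 = N376 := rfl
theorem L3330 : sm ga N376 = N376 := ded_17_1 (flp_h L3328) L2271 L3328
theorem L3331 : sm gb N376 = N279 := ded_25_1 (flp_h L2482) (flp_b L2272) L3328
theorem L3333 : sm gc N376 = N376 := ded_32_1 (flp_h L3328) L2274 L3328
theorem L3334 : sm ge N376 = N376 := ded_43_1 (flp_h L3328) L2275 L3328
theorem L3335 : sm gf N376 = N376 := ded_47_1 (flp_h L3328) L2276 L3328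
theorem L3336 : sm gg N376 = N376 := ded_50_1 (flp_h L3328) L2277 L3328
theorem L3337 : sm gj N376 = N257 := ded_52_1 (flp_h L2280) (flp_j L2278) L3328
theorem L3339 : sm gi N376 = N376 := ded_54_2 (flp_h L3328) (flp_i L2269) L1559 L2269 L3328
theorem L3340 : sm gd N257 = N377 := rfl
theorem L3342 : sm ga N377 = N377 := ded_12_1 (flp_d L3340) L2282 L3340
theorem L3343 : sm gb N377 = N280 := ded_20_1 (flp_d L2494) (flp_b L2283) L3340
theorem L3345 : sm gf N377 = N377 := ded_35_2 (flp_d L3340) L2287 L3340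
theorem L3346 : sm gg N377 = N258 := ded_36_2 (flp_d L2291) (flp_g L2288) L3340
theorem L3348 : sm gi N377 = N377 := ded_39_2 (flp_d L3340) L2290 L3340
theorem L3349 : sm gc N258 = N378 := rfl
theorem L3351 : sm ga N378 = N378 := ded_11_1 (flp_c L3349) L2293 L3349
theorem L3352 : sm gf N378 = N259 := ded_29_2 (flp_c L2300) (flp_f L2296) L3349
theorem L3354 : sm gj N378 = N378 := ded_31_2 (flp_c L3349) L2298 L3349
theorem L3355 : sm gi N378 = N378 := ded_33_2 (flp_c L3349) L2299 L3349
theorem L3356 : sm gd N378 = N378 := ded_27_2 (flp_c L3349) (flp_d L2291) L1576 L2291 L3349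
theorem L3357 : sm ge N258 = N379 := rfl
theorem L3359 : sm ga N379 = N379 := ded_13_1 (flp_e L3357) L2293 L3357
theorem L3360 : sm gb N379 = N282 := ded_21_1 (flp_e L2512) (flp_b L2294) L3357
theorem L3362 : sm gj N379 = N379 := ded_42_2 (flp_e L3357) L2298 L3357
theorem L3363 : sm gi N379 = N379 := ded_44_2 (flp_e L3357) L2299 L3357
theorem L3364 : sm gd N379 = N379 := ded_34_1 (flp_e L3357) (flp_d L2291) L1577 L2291 L3357
theorem L3365 : sm gb N259 = N380 := rfl
theorem L3367 : sm gd N380 = N380 := ded_20_2 (flp_b L3365) L2306 L3365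
theorem L3368 : sm gg N380 = N380 := ded_23_2 (flp_b L3365) L2303 L3365
theorem L3369 : sm gj N380 = N380 := ded_24_2 (flp_b L3365) L2304 L3365
theorem L3370 : sm gi N380 = N380 := ded_26_2 (flp_b L3365) L2305 L3365
theorem L3371 : sm gc N380 = N283 := ded_19_2 (flp_b L2519) (flp_c L1729) (flp_b L1585) L2300 L3365
theorem L3373 : sm ge N259 = N381 := rfl
theorem L3375 : sm ga N381 = N381 := ded_13_1 (flp_e L3373) L2302 L3373
theorem L3376 : sm gc N381 = N260 := ded_28_1 (flp_e L2307) L2300 L3373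
theorem L3378 : sm gg N381 = N381 := ded_41_2 (flp_e L3373) L2303 L3373
theorem L3379 : sm gj N381 = N381 := ded_42_2 (flp_e L3373) L2304 L3373
theorem L3380 : sm gi N381 = N381 := ded_44_2 (flp_e L3373) L2305 L3373
theorem L3381 : sm gf N260 = N382 := rfl
theorem L3383 : sm ga N382 = N382 := ded_14_1 (flp_f L3381) L2309 L3381
theorem L3384 : sm gb N382 = N285 := ded_22_1 (flp_f L2536) (flp_b L2310) L3381
theorem L3386 : sm gd N382 = N262 := ded_35_1 (flp_f L2327) (flp_d L2315) L3381
theorem L3388 : sm gj N382 = N382 := ded_46_2 (flp_f L3381) L2313 L3381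
theorem L3389 : sm gi N382 = N382 := ded_48_2 (flp_f L3381) L2314 L3381
theorem L3390 : sm gd N261 = N383 := rfl
theorem L3392 : sm ga N383 = N383 := ded_12_1 (flp_d L3390) L2319 L3390
theorem L3393 : sm gb N383 = N383 := ded_20_1 (flp_d L3390) L2320 L3390
theorem L3394 : sm gg N383 = N383 := ded_36_2 (flp_d L3390) L2323 L3390
theorem L3395 : sm gj N383 = N383 := ded_37_2 (flp_d L3390) L2324 L3390
theorem L3396 : sm gi N383 = N383 := ded_39_2 (flp_d L3390) L2326 L3390
theorem L3397 : sm ge N383 = N383 := ded_34_2 (flp_d L3390) (flp_e L2317) L1599 L2317 L3390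
theorem L3398 : sm gf N261 = N384 := rfl
theorem L3400 : sm ga N384 = N384 := ded_14_1 (flp_f L3398) L2319 L3398
theorem L3401 : sm gb N384 = N384 := ded_22_1 (flp_f L3398) L2320 L3398
theorem L3402 : sm gc N384 = N262 := ded_29_1 (flp_f L2327) (flp_c L2321) L3398
theorem L3404 : sm gj N384 = N384 := ded_46_2 (flp_f L3398) L2324 L3398
theorem L3405 : sm gh N384 = N384 := ded_47_2 (flp_f L3398) L2325 L3398
theorem L3406 : sm gi N384 = N384 := ded_48_2 (flp_f L3398) L2326 L3398
theorem L3407 : sm ge N384 = N384 := ded_40_1 (flp_f L3398) (flp_e L2317) L1593 L2317 L3398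
theorem L3408 : sm gg N262 = N385 := rfl
theorem L3410 : sm ga N385 = N385 := ded_15_1 (flp_g L3408) L2329 L3408
theorem L3411 : sm gb N385 = N286 := ded_23_1 (flp_g L2544) (flp_b L2330) L3408
theorem L3413 : sm ge N385 = N385 := ded_41_1 (flp_g L3408) L2335 L3408
theorem L3414 : sm gh N385 = N385 := ded_50_2 (flp_g L3408) L2333 L3408
theorem L3415 : sm gi N385 = N385 := ded_51_2 (flp_g L3408) L2334 L3408
theorem L3416 : sm gf N385 = N385 := ded_45_1 (flp_g L3408) (flp_f L2327) L1605 L2327 L3408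
theorem L3417 : sm gj N263 = N386 := rfl
theorem L3419 : sm ga N386 = N293 := ded_16_1 (flp_j L2611) (flp_a L2338) L3417
theorem L3421 : sm gc N386 = N386 := ded_31_1 (flp_j L3417) L2340 L3417
theorem L3422 : sm gd N386 = N386 := ded_37_1 (flp_j L3417) L2341 L3417
theorem L3423 : sm ge N386 = N386 := ded_42_1 (flp_j L3417) L2342 L3417
theorem L3424 : sm gf N386 = N264 := ded_46_1 (flp_j L2344) L2336 L3417
theorem L3426 : sm gh N263 = N387 := rfl
theorem L3428 : sm ga N387 = N294 := ded_17_1 (flp_h L2619) (flp_a L2338) L3426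
theorem L3430 : sm gc N387 = N387 := ded_32_1 (flp_h L3426) L2340 L3426
theorem L3431 : sm ge N387 = N387 := ded_43_1 (flp_h L3426) L2342 L3426
theorem L3432 : sm gf N387 = N265 := ded_47_1 (flp_h L2353) L2336 L3426
theorem L3434 : sm gg N387 = N387 := ded_50_1 (flp_h L3426) L2343 L3426
theorem L3435 : sm gi N263 = N388 := rfl
theorem L3437 : sm ga N388 = N295 := ded_18_1 (flp_i L2627) (flp_a L2338) L3435
theorem L3439 : sm gc N388 = N388 := ded_33_1 (flp_i L3435) L2340 L3435
theorem L3440 : sm gd N388 = N388 := ded_39_1 (flp_i L3435) L2341 L3435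
theorem L3441 : sm ge N388 = N388 := ded_44_1 (flp_i L3435) L2342 L3435
theorem L3442 : sm gf N388 = N266 := ded_48_1 (flp_i L2362) L2336 L3435
theorem L3444 : sm gg N388 = N388 := ded_51_1 (flp_i L3435) L2343 L3435
theorem L3445 : sm gh N264 = N389 := rfl
theorem L3447 : sm ga N389 = N296 := ded_17_1 (flp_h L2636) (flp_a L2346) L3445
theorem L3449 : sm gc N389 = N389 := ded_32_1 (flp_h L3445) L2348 L3445
theorem L3450 : sm ge N389 = N270 := ded_43_1 (flp_h L2398) (flp_e L2350) L3445
theorem L3452 : sm gg N389 = N389 := ded_50_1 (flp_h L3445) L2352 L3445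
theorem L3453 : sm gj N389 = N265 := ded_52_1 (flp_h L2353) L2344 L3445
theorem L3455 : sm gi N264 = N390 := rfl
theorem L3457 : sm ga N390 = N297 := ded_18_1 (flp_i L2645) (flp_a L2346) L3455
theorem L3459 : sm gc N390 = N390 := ded_33_1 (flp_i L3455) L2348 L3455
theorem L3460 : sm gd N390 = N390 := ded_39_1 (flp_i L3455) L2349 L3455
theorem L3461 : sm ge N390 = N271 := ded_44_1 (flp_i L2408) (flp_e L2350) L3455
theorem L3463 : sm gg N390 = N390 := ded_51_1 (flp_i L3455) L2352 L3455
theorem L3464 : sm gj N390 = N266 := ded_53_1 (flp_i L2362) L2344 L3455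
theorem L3466 : sm gd N265 = N391 := rfl
theorem L3468 : sm ga N391 = N298 := ded_12_1 (flp_d L2655) (flp_a L2355) L3466
theorem L3470 : sm gg N391 = N267 := ded_36_2 (flp_d L2372) (flp_g L2360) L3466
theorem L3472 : sm ge N391 = N391 := ded_34_2 (flp_d L3466) L2358 L1653 (flp_e L2358) L3466
theorem L3473 : sm gh N391 = N391 := ded_38_2 (flp_d L3466) (flp_h L2353) L1614 L2353 L3466
theorem L3474 : sm gi N265 = N392 := rfl
theorem L3476 : sm ga N392 = N299 := ded_18_1 (flp_i L2662) (flp_a L2355) L3474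
theorem L3478 : sm gc N392 = N392 := ded_33_1 (flp_i L3474) L2357 L3474
theorem L3479 : sm ge N392 = N272 := ded_44_1 (flp_i L2419) (flp_e L2358) L3474
theorem L3481 : sm gg N392 = N268 := ded_51_1 (flp_i L2380) (flp_g L2360) L3474
theorem L3483 : sm gh N266 = N393 := rfl
theorem L3485 : sm ga N393 = N300 := ded_17_1 (flp_h L2670) (flp_a L2364) L3483
theorem L3487 : sm gc N393 = N393 := ded_32_1 (flp_h L3483) L2366 L3483
theorem L3488 : sm ge N393 = N273 := ded_43_1 (flp_h L2428) (flp_e L2368) L3483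
theorem L3490 : sm gg N393 = N269 := ded_50_1 (flp_h L2389) (flp_g L2370) L3483
theorem L3492 : sm gc N267 = N394 := rfl
theorem L3494 : sm ga N394 = N301 := ded_11_1 (flp_c L2678) (flp_a L2374) L3492
theorem L3496 : sm ge N394 = N394 := ded_28_2 (flp_c L3492) L2378 L3492
theorem L3497 : sm gf N394 = N394 := ded_29_2 (flp_c L3492) L2376 L3492
theorem L3498 : sm gj N394 = N394 := ded_31_2 (flp_c L3492) L2377 L3492
theorem L3499 : sm gh N394 = N394 := ded_32_2 (flp_c L3492) L2379 L3492
theorem L3500 : sm gb N394 = N394 := ded_19_1 (flp_c L3492) (flp_b L3218) L3222 L3218 L3492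
theorem L3501 : sm gd N394 = N394 := ded_27_2 (flp_c L3492) (flp_d L2372) L1621 L2372 L3492
theorem L3502 : sm gi N267 = N395 := rfl
theorem L3504 : sm ga N395 = N302 := ded_18_1 (flp_i L2685) (flp_a L2374) L3502
theorem L3506 : sm gd N395 = N268 := ded_39_1 (flp_i L2380) L2372 L3502
theorem L3508 : sm ge N395 = N395 := ded_44_1 (flp_i L3502) L2378 L3502
theorem L3509 : sm gf N395 = N395 := ded_48_1 (flp_i L3502) L2376 L3502
theorem L3510 : sm gj N395 = N395 := ded_53_1 (flp_i L3502) L2377 L3502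
theorem L3511 : sm gh N268 = N396 := rfl
theorem L3513 : sm ga N396 = N303 := ded_17_1 (flp_h L2693) (flp_a L2382) L3511
theorem L3515 : sm gc N396 = N396 := ded_32_1 (flp_h L3511) L2384 L3511
theorem L3516 : sm ge N396 = N274 := ded_43_1 (flp_h L2436) (flp_e L2385) L3511
theorem L3518 : sm gf N396 = N396 := ded_47_1 (flp_h L3511) L2387 L3511
theorem L3519 : sm gj N396 = N396 := ded_52_1 (flp_h L3511) L2388 L3511
theorem L3520 : sm gi N396 = N269 := ded_54_2 (flp_h L2389) (flp_i L1626) L1617 L2380 L3511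
theorem L3522 : sm gd N269 = N397 := rfl
theorem L3524 : sm ga N397 = N304 := ded_12_1 (flp_d L2703) (flp_a L2391) L3522
theorem L3526 : sm gf N397 = N397 := ded_35_2 (flp_d L3522) L2396 L3522
theorem L3527 : sm gj N397 = N397 := ded_37_2 (flp_d L3522) L2397 L3522
theorem L3528 : sm gh N397 = N397 := ded_38_2 (flp_d L3522) (flp_h L2389) L1631 L2389 L3522
theorem L3529 : sm gi N270 = N398 := rfl
theorem L3531 : sm ga N398 = N305 := ded_18_1 (flp_i L2709) (flp_a L2400) L3529
theorem L3533 : sm gc N398 = N398 := ded_33_1 (flp_i L3529) L2402 L3529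
theorem L3534 : sm gd N398 = N398 := ded_39_1 (flp_i L3529) L2407 L3529
theorem L3535 : sm gf N398 = N398 := ded_48_1 (flp_i L3529) L2403 L3529
theorem L3536 : sm gg N398 = N398 := ded_51_1 (flp_i L3529) L2404 L3529
theorem L3537 : sm gj N398 = N272 := ded_53_1 (flp_i L2419) (flp_j L2405) L3529
theorem L3539 : sm gh N271 = N399 := rfl
theorem L3541 : sm ga N399 = N306 := ded_17_1 (flp_h L2718) (flp_a L2410) L3539
theorem L3543 : sm gc N399 = N399 := ded_32_1 (flp_h L3539) L2412 L3539
theorem L3544 : sm gf N399 = N399 := ded_47_1 (flp_h L3539) L2415 L3539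
theorem L3545 : sm gg N399 = N399 := ded_50_1 (flp_h L3539) L2416 L3539
theorem L3546 : sm gj N399 = N273 := ded_52_1 (flp_h L2428) (flp_j L2417) L3539
theorem L3548 : sm gh N272 = N400 := rfl
theorem L3550 : sm ga N400 = N307 := ded_17_1 (flp_h L2726) (flp_a L2421) L3548
theorem L3552 : sm gc N400 = N400 := ded_32_1 (flp_h L3548) L2423 L3548
theorem L3553 : sm gf N400 = N400 := ded_47_1 (flp_h L3548) L2425 L3548
theorem L3554 : sm gg N400 = N274 := ded_50_1 (flp_h L2436) (flp_g L2426) L3548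
theorem L3556 : sm gi N400 = N273 := ded_54_2 (flp_h L2428) (flp_i L1654) L1645 L2419 L3548
theorem L3558 : sm gd N273 = N401 := rfl
theorem L3560 : sm ga N401 = N308 := ded_12_1 (flp_d L2735) (flp_a L2430) L3558
theorem L3562 : sm gf N401 = N401 := ded_35_2 (flp_d L3558) L2433 L3558
theorem L3563 : sm gg N401 = N275 := ded_36_2 (flp_d L2446) (flp_g L2434) L3558
theorem L3565 : sm gh N401 = N280 := ded_38_2 (flp_d L2494) (flp_h L1710) (flp_d L1659) L2428 L3558
theorem L3567 : sm gd N274 = N402 := rfl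
theorem L3569 : sm ga N402 = N309 := ded_12_1 (flp_d L2743) (flp_a L2438) L3567
theorem L3571 : sm gf N402 = N276 := ded_35_2 (flp_d L2455) (flp_f L2441) L3567
theorem L3573 : sm gj N402 = N402 := ded_37_2 (flp_d L3567) L2443 L3567
theorem L3574 : sm gi N402 = N275 := ded_39_2 (flp_d L2446) (flp_i L2444) L3567
theorem L3576 : sm gh N402 = N402 := ded_38_2 (flp_d L3567) (flp_h L2436) L1669 L2436 L3567
theorem L3577 : sm gc N275 = N403 := rfl
theorem L3579 : sm ga N403 = N310 := ded_11_1 (flp_c L2752) (flp_a L2448) L3577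
theorem L3581 : sm gf N403 = N277 := ded_29_2 (flp_c L2464) (flp_f L2450) L3577
theorem L3583 : sm gj N403 = N403 := ded_31_2 (flp_c L3577) L2452 L3577
theorem L3584 : sm gh N403 = N281 := ded_32_2 (flp_c L2502) (flp_h L2453) L3577
theorem L3586 : sm gd N403 = N403 := ded_27_2 (flp_c L3577) (flp_d L2446) L1677 L2446 L3577
theorem L3587 : sm ge N275 = N404 := rfl
theorem L3589 : sm ga N404 = N311 := ded_13_1 (flp_e L2760) (flp_a L2448) L3587
theorem L3591 : sm gj N404 = N404 := ded_42_2 (flp_e L3587) L2452 L3587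
theorem L3592 : sm gh N404 = N282 := ded_43_2 (flp_e L2512) (flp_h L2453) L3587
theorem L3594 : sm gc N276 = N405 := rfl
theorem L3596 : sm ga N405 = N312 := ded_11_1 (flp_c L2766) (flp_a L2457) L3594
theorem L3598 : sm gg N405 = N405 := ded_30_2 (flp_c L3594) L2459 L3594
theorem L3599 : sm gj N405 = N405 := ded_31_2 (flp_c L3594) L2460 L3594
theorem L3600 : sm gh N405 = N405 := ded_32_2 (flp_c L3594) L2463 L3594
theorem L3601 : sm gi N405 = N277 := ded_33_2 (flp_c L2464) (flp_i L2461) L3594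
theorem L3603 : sm gd N405 = N405 := ded_27_2 (flp_c L3594) (flp_d L2455) L1685 L2455 L3594
theorem L3604 : sm ge N276 = N406 := rfl
theorem L3606 : sm ga N406 = N313 := ded_13_1 (flp_e L2774) (flp_a L2457) L3604
theorem L3608 : sm gg N406 = N406 := ded_41_2 (flp_e L3604) L2459 L3604
theorem L3609 : sm gj N406 = N406 := ded_42_2 (flp_e L3604) L2460 L3604
theorem L3610 : sm gh N406 = N406 := ded_43_2 (flp_e L3604) L2463 L3604
theorem L3611 : sm gi N406 = N278 := ded_44_2 (flp_e L2473) (flp_i L2461) L3604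
theorem L3613 : sm gd N406 = N406 := ded_34_1 (flp_e L3604) (flp_d L2455) L1686 L2455 L3604
theorem L3614 : sm gb N277 = N407 := rfl
theorem L3616 : sm gd N407 = N407 := ded_20_2 (flp_b L3614) L2472 L3614
theorem L3617 : sm gg N407 = N407 := ded_23_2 (flp_b L3614) L2468 L3614
theorem L3618 : sm gj N407 = N407 := ded_24_2 (flp_b L3614) L2469 L3614
theorem L3619 : sm gh N407 = N283 := ded_25_2 (flp_b L2519) (flp_h L2470) L3614
theorem L3621 : sm ge N277 = N408 := rfl
theorem L3623 : sm ga N408 = N315 := ded_13_1 (flp_e L2791) (flp_a L2466) L3621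
theorem L3625 : sm gc N408 = N278 := ded_28_1 (flp_e L2473) L2464 L3621
theorem L3627 : sm gg N408 = N408 := ded_41_2 (flp_e L3621) L2468 L3621
theorem L3628 : sm gj N408 = N408 := ded_42_2 (flp_e L3621) L2469 L3621
theorem L3629 : sm gh N408 = N284 := ded_43_2 (flp_e L2526) (flp_h L2470) L3621
theorem L3631 : sm gf N278 = N409 := rfl
theorem L3633 : sm ga N409 = N316 := ded_14_1 (flp_f L2799) (flp_a L2475) L3631
theorem L3635 : sm gd N409 = N409 := ded_35_1 (flp_f L3631) L2481 L3631
theorem L3636 : sm gj N409 = N409 := ded_46_2 (flp_f L3631) L2478 L3631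
theorem L3637 : sm gh N409 = N285 := ded_47_2 (flp_f L2536) (flp_h L2479) L3631
theorem L3639 : sm gd N279 = N410 := rfl
theorem L3641 : sm ga N410 = N317 := ded_12_1 (flp_d L2806) (flp_a L2484) L3639
theorem L3643 : sm gf N410 = N410 := ded_35_2 (flp_d L3639) L2489 L3639
theorem L3644 : sm gg N410 = N410 := ded_36_2 (flp_d L3639) L2490 L3639
theorem L3645 : sm gj N410 = N280 := ded_37_2 (flp_d L2494) (flp_j L2491) L3639
theorem L3647 : sm gi N410 = N410 := ded_39_2 (flp_d L3639) L2493 L3639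
theorem L3648 : sm gc N280 = N411 := rfl
theorem L3650 : sm ga N411 = N318 := ded_11_1 (flp_c L2814) (flp_a L2496) L3648
theorem L3652 : sm gf N411 = N411 := ded_29_2 (flp_c L3648) L2498 L3648
theorem L3653 : sm gg N411 = N281 := ded_30_2 (flp_c L2502) (flp_g L2499) L3648
theorem L3655 : sm gi N411 = N411 := ded_33_2 (flp_c L3648) L2501 L3648
theorem L3656 : sm gd N411 = N288 := ded_27_2 (flp_c L2564) (flp_d L1767) (flp_c L1714) L2494 L3648
theorem L3658 : sm ge N280 = N412 := rfl
theorem L3660 : sm ga N412 = N319 := ded_13_1 (flp_e L2822) (flp_a L2496) L3658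
theorem L3662 : sm gg N412 = N282 := ded_41_2 (flp_e L2512) (flp_g L2499) L3658
theorem L3664 : sm gi N412 = N412 := ded_44_2 (flp_e L3658) L2501 L3658
theorem L3665 : sm gd N412 = N412 := ded_34_1 (flp_e L3658) (flp_d L2494) L1716 L2494 L3658
theorem L3666 : sm gb N281 = N413 := rfl
theorem L3668 : sm gd N413 = N290 := ded_20_2 (flp_b L2583) (flp_d L2510) L3666
theorem L3670 : sm gf N413 = N283 := ded_22_2 (flp_b L2519) (flp_f L2506) L3666
theorem L3672 : sm gj N413 = N413 := ded_24_2 (flp_b L3666) L2508 L3666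
theorem L3673 : sm gi N413 = N413 := ded_26_2 (flp_b L3666) L2509 L3666
theorem L3674 : sm ge N281 = N414 := rfl
theorem L3676 : sm ga N414 = N321 := ded_13_1 (flp_e L2838) (flp_a L2504) L3674
theorem L3678 : sm gc N414 = N282 := ded_28_1 (flp_e L2512) L2502 L3674
theorem L3680 : sm gj N414 = N414 := ded_42_2 (flp_e L3674) L2508 L3674
theorem L3681 : sm gi N414 = N414 := ded_44_2 (flp_e L3674) L2509 L3674
theorem L3682 : sm gf N282 = N415 := rfl
theorem L3684 : sm ga N415 = N322 := ded_14_1 (flp_f L2844) (flp_a L2514) L3682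
theorem L3686 : sm gd N415 = N415 := ded_35_1 (flp_f L3682) L2518 L3682
theorem L3687 : sm gj N415 = N415 := ded_46_2 (flp_f L3682) L2516 L3682
theorem L3688 : sm gi N415 = N415 := ded_48_2 (flp_f L3682) L2517 L3682
theorem L3689 : sm ge N415 = N285 := ded_40_1 (flp_f L2536) (flp_e L1738) (flp_f L1725) L2512 L3682
theorem L3691 : sm ga N283 = N416 := rfl
theorem L3693 : sm gd N416 = N292 := ded_12_2 (flp_a L2601) (flp_d L2521) L3691
theorem L3695 : sm gg N416 = N416 := ded_15_2 (flp_a L3691) L2523 L3691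
theorem L3696 : sm gj N416 = N416 := ded_16_2 (flp_a L3691) L2524 L3691
theorem L3697 : sm gi N416 = N416 := ded_18_2 (flp_a L3691) L2525 L3691
theorem L3698 : sm gb N416 = N323 := ded_10_2 (flp_a L2852) (flp_b L1965) (flp_a L1731) L2519 L3691
theorem L3700 : sm ge N283 = N417 := rfl
theorem L3702 : sm gb N417 = N284 := ded_21_1 (flp_e L2526) L2519 L3700
theorem L3704 : sm gg N417 = N417 := ded_41_2 (flp_e L3700) L2523 L3700
theorem L3705 : sm gj N417 = N417 := ded_42_2 (flp_e L3700) L2524 L3700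
theorem L3706 : sm gi N417 = N417 := ded_44_2 (flp_e L3700) L2525 L3700
theorem L3707 : sm gd N417 = N417 := ded_34_1 (flp_e L3700) L2521 L1798 (flp_d L2521) L3700
theorem L3708 : sm gf N284 = N418 := rfl
theorem L3710 : sm ga N418 = N325 := ded_14_1 (flp_f L2869) (flp_a L2528) L3708
theorem L3712 : sm gc N418 = N285 := ded_29_1 (flp_f L2536) (flp_c L2530) L3708
theorem L3714 : sm gd N418 = N418 := ded_35_1 (flp_f L3708) L2535 L3708
theorem L3715 : sm gj N418 = N418 := ded_46_2 (flp_f L3708) L2533 L3708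
theorem L3716 : sm gi N418 = N418 := ded_48_2 (flp_f L3708) L2534 L3708
theorem L3717 : sm gg N285 = N419 := rfl
theorem L3719 : sm ga N419 = N326 := ded_15_1 (flp_g L2876) (flp_a L2538) L3717
theorem L3721 : sm gd N419 = N286 := ded_36_1 (flp_g L2544) (flp_d L2540) L3717
theorem L3723 : sm gi N419 = N419 := ded_51_2 (flp_g L3717) L2543 L3717
theorem L3724 : sm gf N419 = N419 := ded_45_1 (flp_g L3717) (flp_f L2536) L1742 L2536 L3717
theorem L3725 : sm gj N286 = N420 := rfl
theorem L3727 : sm ga N420 = N327 := ded_16_1 (flp_j L2883) (flp_a L2546) L3725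
theorem L3729 : sm gc N420 = N420 := ded_31_1 (flp_j L3725) L2548 L3725
theorem L3730 : sm ge N420 = N420 := ded_42_1 (flp_j L3725) L2549 L3725
theorem L3731 : sm gf N420 = N420 := ded_46_1 (flp_j L3725) L2552 L3725
theorem L3732 : sm gh N420 = N420 := ded_52_2 (flp_j L3725) L2550 L3725
theorem L3733 : sm gi N420 = N420 := ded_53_2 (flp_j L3725) L2551 L3725
theorem L3734 : sm gg N420 = N420 := ded_49_1 (flp_j L3725) (flp_g L2544) L1752 L2544 L3725
theorem L3735 : sm gc N287 = N421 := rfl
theorem L3737 : sm ga N421 = N328 := ded_11_1 (flp_c L2892) (flp_a L2555) L3735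
theorem L3739 : sm gf N421 = N421 := ded_29_2 (flp_c L3735) L2558 L3735
theorem L3740 : sm gg N421 = N421 := ded_30_2 (flp_c L3735) L2559 L3735
theorem L3741 : sm gj N421 = N288 := ded_31_2 (flp_c L2564) (flp_j L2560) L3735
theorem L3743 : sm gh N421 = N421 := ded_32_2 (flp_c L3735) L2563 L3735
theorem L3744 : sm gi N421 = N421 := ded_33_2 (flp_c L3735) L2562 L3735
theorem L3745 : sm ge N287 = N422 := rfl
theorem L3747 : sm ga N422 = N329 := ded_13_1 (flp_e L2900) (flp_a L2555) L3745
theorem L3749 : sm gb N422 = N422 := ded_21_1 (flp_e L3745) L2557 L3745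
theorem L3750 : sm gg N422 = N422 := ded_41_2 (flp_e L3745) L2559 L3745
theorem L3751 : sm gj N422 = N289 := ded_42_2 (flp_e L2573) (flp_j L2560) L3745
theorem L3753 : sm gh N422 = N422 := ded_43_2 (flp_e L3745) L2563 L3745
theorem L3754 : sm gi N422 = N422 := ded_44_2 (flp_e L3745) L2562 L3745
theorem L3755 : sm gd N422 = N422 := ded_34_1 (flp_e L3745) (flp_d L2553) L1761 L2553 L3745
theorem L3756 : sm gb N288 = N423 := rfl
theorem L3758 : sm gf N423 = N423 := ded_22_2 (flp_b L3756) L2568 L3756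
theorem L3759 : sm gg N423 = N290 := ded_23_2 (flp_b L2583) (flp_g L2569) L3756
theorem L3761 : sm gh N423 = N423 := ded_25_2 (flp_b L3756) L2571 L3756
theorem L3762 : sm gi N423 = N423 := ded_26_2 (flp_b L3756) L2572 L3756
theorem L3763 : sm gc N423 = N423 := ded_19_2 (flp_b L3756) (flp_c L2564) L1771 L2564 L3756
theorem L3764 : sm ge N288 = N424 := rfl
theorem L3766 : sm ga N424 = N331 := ded_13_1 (flp_e L2919) (flp_a L2566) L3764
theorem L3768 : sm gc N424 = N289 := ded_28_1 (flp_e L2573) L2564 L3764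
theorem L3770 : sm gg N424 = N291 := ded_41_2 (flp_e L2591) (flp_g L2569) L3764
theorem L3772 : sm gh N424 = N424 := ded_43_2 (flp_e L3764) L2571 L3764
theorem L3773 : sm gi N424 = N424 := ded_44_2 (flp_e L3764) L2572 L3764
theorem L3774 : sm gf N289 = N425 := rfl
theorem L3776 : sm ga N425 = N332 := ded_14_1 (flp_f L2927) (flp_a L2575) L3774
theorem L3778 : sm gb N425 = N425 := ded_22_1 (flp_f L3774) L2577 L3774
theorem L3779 : sm gd N425 = N425 := ded_35_1 (flp_f L3774) L2582 L3774
theorem L3780 : sm gh N425 = N425 := ded_47_2 (flp_f L3774) L2580 L3774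
theorem L3781 : sm gi N425 = N425 := ded_48_2 (flp_f L3774) L2581 L3774
theorem L3782 : sm ge N425 = N425 := ded_40_1 (flp_f L3774) (flp_e L2573) L1772 L2573 L3774
theorem L3783 : sm gg N425 = N425 := ded_45_2 (flp_f L3774) L2578 L1795 (flp_g L2578) L3774
theorem L3784 : sm ga N290 = N426 := rfl
theorem L3786 : sm gc N426 = N426 := ded_11_2 (flp_a L3784) L2590 L3784
theorem L3787 : sm gf N426 = N292 := ded_14_2 (flp_a L2601) (flp_f L2585) L3784
theorem L3789 : sm gj N426 = N426 := ded_16_2 (flp_a L3784) L2587 L3784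
theorem L3790 : sm gh N426 = N426 := ded_17_2 (flp_a L3784) L2588 L3784
theorem L3791 : sm gi N426 = N426 := ded_18_2 (flp_a L3784) L2589 L3784
theorem L3792 : sm gb N426 = N333 := ded_10_2 (flp_a L2936) (flp_b L2022) (flp_a L1779) L2583 L3784
theorem L3794 : sm ge N290 = N427 := rfl
theorem L3796 : sm gb N427 = N291 := ded_21_1 (flp_e L2591) L2583 L3794
theorem L3798 : sm gc N427 = N427 := ded_28_1 (flp_e L3794) L2590 L3794
theorem L3799 : sm gj N427 = N427 := ded_42_2 (flp_e L3794) L2587 L3794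
theorem L3800 : sm gh N427 = N427 := ded_43_2 (flp_e L3794) L2588 L3794
theorem L3801 : sm gi N427 = N427 := ded_44_2 (flp_e L3794) L2589 L3794
theorem L3802 : sm gf N427 = N427 := ded_40_2 (flp_e L3794) L2585 L1798 (flp_f L2585) L3794
theorem L3803 : sm gd N291 = N428 := rfl
theorem L3805 : sm ga N428 = N335 := ded_12_1 (flp_d L2955) (flp_a L2593) L3803
theorem L3807 : sm gf N428 = N428 := ded_35_2 (flp_d L3803) L2600 L3803
theorem L3808 : sm gj N428 = N428 := ded_37_2 (flp_d L3803) L2597 L3803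
theorem L3809 : sm gi N428 = N428 := ded_39_2 (flp_d L3803) L2599 L3803
theorem L3810 : sm gc N428 = N428 := ded_27_1 (flp_d L3803) L2595 L1794 (flp_c L2595) L3803
theorem L3811 : sm gg N293 = N429 := rfl
theorem L3813 : sm gb N429 = N429 := ded_23_1 (flp_g L3811) L2613 L3811
theorem L3814 : sm gc N429 = N429 := ded_30_1 (flp_g L3811) L2614 L3811
theorem L3815 : sm gd N429 = N429 := ded_36_1 (flp_g L3811) L2615 L3811
theorem L3816 : sm ge N429 = N429 := ded_41_1 (flp_g L3811) L2616 L3811
theorem L3817 : sm gf N429 = N429 := ded_45_1 (flp_g L3811) L2617 L1818 (flp_f L2617) L3811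
theorem L3818 : sm gj N429 = N429 := ded_49_2 (flp_g L3811) (flp_j L2611) L1810 L2611 L3811
theorem L3819 : sm gh N293 = N430 := rfl
theorem L3821 : sm gb N430 = N430 := ded_25_1 (flp_h L3819) L2613 L3819
theorem L3822 : sm gc N430 = N430 := ded_32_1 (flp_h L3819) L2614 L3819
theorem L3823 : sm ge N430 = N430 := ded_43_1 (flp_h L3819) L2616 L3819
theorem L3824 : sm gf N430 = N296 := ded_47_1 (flp_h L2636) (flp_f L2617) L3819
theorem L3826 : sm gj N430 = N294 := ded_52_1 (flp_h L2619) L2611 L3819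
theorem L3828 : sm gi N293 = N431 := rfl
theorem L3830 : sm gb N431 = N431 := ded_26_1 (flp_i L3828) L2613 L3828
theorem L3831 : sm gc N431 = N431 := ded_33_1 (flp_i L3828) L2614 L3828
theorem L3832 : sm gd N431 = N431 := ded_39_1 (flp_i L3828) L2615 L3828
theorem L3833 : sm ge N431 = N431 := ded_44_1 (flp_i L3828) L2616 L3828
theorem L3834 : sm gf N431 = N297 := ded_48_1 (flp_i L2645) (flp_f L2617) L3828
theorem L3836 : sm gj N431 = N295 := ded_53_1 (flp_i L2627) L2611 L3828
theorem L3838 : sm gd N294 = N432 := rfl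
theorem L3840 : sm gb N432 = N432 := ded_20_1 (flp_d L3838) L2621 L3838
theorem L3841 : sm gf N432 = N298 := ded_35_2 (flp_d L2655) (flp_f L2624) L3838
theorem L3843 : sm gg N432 = N432 := ded_36_2 (flp_d L3838) L2626 L3838
theorem L3844 : sm gh N432 = N432 := ded_38_2 (flp_d L3838) (flp_h L2619) L1808 L2619 L3838
theorem L3845 : sm gi N294 = N433 := rfl
theorem L3847 : sm gb N433 = N433 := ded_26_1 (flp_i L3845) L2621 L3845
theorem L3848 : sm gc N433 = N433 := ded_33_1 (flp_i L3845) L2622 L3845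
theorem L3849 : sm ge N433 = N433 := ded_44_1 (flp_i L3845) L2623 L3845
theorem L3850 : sm gf N433 = N299 := ded_48_1 (flp_i L2662) (flp_f L2624) L3845
theorem L3852 : sm gg N433 = N433 := ded_51_1 (flp_i L3845) L2626 L3845
theorem L3853 : sm gh N295 = N434 := rfl
theorem L3855 : sm gb N434 = N434 := ded_25_1 (flp_h L3853) L2629 L3853
theorem L3856 : sm gc N434 = N434 := ded_32_1 (flp_h L3853) L2630 L3853
theorem L3857 : sm ge N434 = N434 := ded_43_1 (flp_h L3853) L2632 L3853
theorem L3858 : sm gf N434 = N300 := ded_47_1 (flp_h L2670) (flp_f L2633) L3853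
theorem L3860 : sm gg N434 = N434 := ded_50_1 (flp_h L3853) L2635 L3853
theorem L3861 : sm gd N296 = N435 := rfl
theorem L3863 : sm gb N435 = N435 := ded_20_1 (flp_d L3861) L2638 L3861
theorem L3864 : sm gg N435 = N435 := ded_36_2 (flp_d L3861) L2642 L3861
theorem L3865 : sm gj N435 = N298 := ded_37_2 (flp_d L2655) (flp_j L2643) L3861
theorem L3867 : sm ge N435 = N435 := ded_34_2 (flp_d L3861) L2640 L1867 (flp_e L2640) L3861
theorem L3868 : sm gh N435 = N435 := ded_38_2 (flp_d L3861) (flp_h L2636) L1815 L2636 L3861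
theorem L3869 : sm gi N296 = N436 := rfl
theorem L3871 : sm gb N436 = N436 := ded_26_1 (flp_i L3869) L2638 L3869
theorem L3872 : sm gc N436 = N436 := ded_33_1 (flp_i L3869) L2639 L3869
theorem L3873 : sm ge N436 = N305 := ded_44_1 (flp_i L2709) (flp_e L2640) L3869
theorem L3875 : sm gg N436 = N436 := ded_51_1 (flp_i L3869) L2642 L3869
theorem L3876 : sm gj N436 = N299 := ded_53_1 (flp_i L2662) (flp_j L2643) L3869
theorem L3878 : sm gh N297 = N437 := rfl
theorem L3880 : sm gb N437 = N437 := ded_25_1 (flp_h L3878) L2647 L3878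
theorem L3881 : sm gc N437 = N437 := ded_32_1 (flp_h L3878) L2648 L3878
theorem L3882 : sm ge N437 = N306 := ded_43_1 (flp_h L2718) (flp_e L2650) L3878
theorem L3884 : sm gg N437 = N437 := ded_50_1 (flp_h L3878) L2652 L3878
theorem L3885 : sm gj N437 = N300 := ded_52_1 (flp_h L2670) (flp_j L2653) L3878
theorem L3887 : sm gc N298 = N438 := rfl
theorem L3889 : sm ge N438 = N438 := ded_28_2 (flp_c L3887) L2660 L3887
theorem L3890 : sm gg N438 = N301 := ded_30_2 (flp_c L2678) (flp_g L2658) L3887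
theorem L3892 : sm gh N438 = N438 := ded_32_2 (flp_c L3887) L2661 L3887
theorem L3893 : sm gd N438 = N438 := ded_27_2 (flp_c L3887) (flp_d L2655) L1822 L2655 L3887
theorem L3894 : sm gi N298 = N439 := rfl
theorem L3896 : sm gb N439 = N439 := ded_26_1 (flp_i L3894) L2657 L3894
theorem L3897 : sm gd N439 = N299 := ded_39_1 (flp_i L2662) L2655 L3894
theorem L3899 : sm ge N439 = N439 := ded_44_1 (flp_i L3894) L2660 L3894
theorem L3900 : sm gg N439 = N302 := ded_51_1 (flp_i L2685) (flp_g L2658) L3894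
theorem L3902 : sm gh N299 = N440 := rfl
theorem L3904 : sm gb N440 = N440 := ded_25_1 (flp_h L3902) L2664 L3902
theorem L3905 : sm gc N440 = N440 := ded_32_1 (flp_h L3902) L2665 L3902
theorem L3906 : sm ge N440 = N307 := ded_43_1 (flp_h L2726) (flp_e L2666) L3902
theorem L3908 : sm gg N440 = N303 := ded_50_1 (flp_h L2693) (flp_g L2668) L3902
theorem L3910 : sm gi N440 = N300 := ded_54_2 (flp_h L2670) (flp_i L1827) L1819 L2662 L3902
theorem L3912 : sm gd N300 = N441 := rfl
theorem L3914 : sm gb N441 = N441 := ded_20_1 (flp_d L3912) L2672 L3912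
theorem L3915 : sm gg N441 = N304 := ded_36_2 (flp_d L2703) (flp_g L2676) L3912
theorem L3917 : sm gh N441 = N441 := ded_38_2 (flp_d L3912) (flp_h L2670) L1831 L2670 L3912
theorem L3918 : sm gb N301 = N442 := rfl
theorem L3920 : sm gd N442 = N442 := ded_20_2 (flp_b L3918) L2684 L3918
theorem L3921 : sm ge N442 = N442 := ded_21_2 (flp_b L3918) L2680 L3918
theorem L3922 : sm gf N442 = N442 := ded_22_2 (flp_b L3918) L2681 L3918
theorem L3923 : sm gj N442 = N442 := ded_24_2 (flp_b L3918) L2682 L3918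
theorem L3924 : sm gh N442 = N442 := ded_25_2 (flp_b L3918) L2683 L3918
theorem L3925 : sm ga N442 = N442 := ded_10_1 (flp_b L3918) (flp_a L3494) L3500 L3494 L3918
theorem L3926 : sm gc N442 = N442 := ded_19_2 (flp_b L3918) (flp_c L2678) L1838 L2678 L3918
theorem L3927 : sm gi N301 = N443 := rfl
theorem L3929 : sm gc N443 = N302 := ded_33_1 (flp_i L2685) L2678 L3927
theorem L3931 : sm gd N443 = N443 := ded_39_1 (flp_i L3927) L2684 L3927
theorem L3932 : sm ge N443 = N443 := ded_44_1 (flp_i L3927) L2680 L3927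
theorem L3933 : sm gf N443 = N443 := ded_48_1 (flp_i L3927) L2681 L3927
theorem L3934 : sm gj N443 = N443 := ded_53_1 (flp_i L3927) L2682 L3927
theorem L3935 : sm gh N302 = N444 := rfl
theorem L3937 : sm gb N444 = N444 := ded_25_1 (flp_h L3935) L2687 L3935
theorem L3938 : sm ge N444 = N444 := ded_43_1 (flp_h L3935) L2690 L3935
theorem L3939 : sm gf N444 = N444 := ded_47_1 (flp_h L3935) L2691 L3935
theorem L3940 : sm gj N444 = N444 := ded_52_1 (flp_h L3935) L2692 L3935
theorem L3941 : sm gi N444 = N444 := ded_54_2 (flp_h L3935) (flp_i L2685) L1842 L2685 L3935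
theorem L3942 : sm gd N303 = N445 := rfl
theorem L3944 : sm gb N445 = N445 := ded_20_1 (flp_d L3942) L2695 L3942
theorem L3945 : sm gf N445 = N445 := ded_35_2 (flp_d L3942) L2699 L3942
theorem L3946 : sm gj N445 = N445 := ded_37_2 (flp_d L3942) L2700 L3942
theorem L3947 : sm gi N445 = N304 := ded_39_2 (flp_d L2703) (flp_i L2701) L3942
theorem L3949 : sm gc N304 = N446 := rfl
theorem L3951 : sm gf N446 = N446 := ded_29_2 (flp_c L3949) L2706 L3949
theorem L3952 : sm gj N446 = N446 := ded_31_2 (flp_c L3949) L2707 L3949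
theorem L3953 : sm gh N446 = N446 := ded_32_2 (flp_c L3949) L2708 L3949
theorem L3954 : sm gd N446 = N446 := ded_27_2 (flp_c L3949) (flp_d L2703) L1854 L2703 L3949
theorem L3955 : sm ge N304 = N447 := rfl
theorem L3957 : sm gb N447 = N447 := ded_21_1 (flp_e L3955) L2705 L3955
theorem L3958 : sm gj N447 = N447 := ded_42_2 (flp_e L3955) L2707 L3955
theorem L3959 : sm gh N447 = N447 := ded_43_2 (flp_e L3955) L2708 L3955
theorem L3960 : sm gd N447 = N311 := ded_34_1 (flp_e L2760) (flp_d L1902) (flp_e L1855) L2703 L3955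
theorem L3962 : sm gh N305 = N448 := rfl
theorem L3964 : sm gb N448 = N448 := ded_25_1 (flp_h L3962) L2711 L3962
theorem L3965 : sm gc N448 = N448 := ded_32_1 (flp_h L3962) L2712 L3962
theorem L3966 : sm gf N448 = N448 := ded_47_1 (flp_h L3962) L2714 L3962
theorem L3967 : sm gg N448 = N448 := ded_50_1 (flp_h L3962) L2715 L3962
theorem L3968 : sm gj N448 = N307 := ded_52_1 (flp_h L2726) (flp_j L2716) L3962
theorem L3970 : sm gi N448 = N306 := ded_54_2 (flp_h L2718) (flp_i L1868) L1859 L2709 L3962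
theorem L3972 : sm gd N306 = N449 := rfl
theorem L3974 : sm gb N449 = N449 := ded_20_1 (flp_d L3972) L2720 L3972
theorem L3975 : sm gf N449 = N449 := ded_35_2 (flp_d L3972) L2722 L3972
theorem L3976 : sm gg N449 = N449 := ded_36_2 (flp_d L3972) L2723 L3972
theorem L3977 : sm gj N449 = N308 := ded_37_2 (flp_d L2735) (flp_j L2724) L3972
theorem L3979 : sm gh N449 = N317 := ded_38_2 (flp_d L2806) (flp_h L1933) (flp_d L1872) L2718 L3972
theorem L3981 : sm gd N307 = N450 := rfl
theorem L3983 : sm gb N450 = N450 := ded_20_1 (flp_d L3981) L2728 L3981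
theorem L3984 : sm gf N450 = N450 := ded_35_2 (flp_d L3981) L2730 L3981
theorem L3985 : sm gg N450 = N309 := ded_36_2 (flp_d L2743) (flp_g L2731) L3981
theorem L3987 : sm gi N450 = N308 := ded_39_2 (flp_d L2735) (flp_i L2733) L3981
theorem L3989 : sm gh N450 = N450 := ded_38_2 (flp_d L3981) (flp_h L2726) L1882 L2726 L3981
theorem L3990 : sm gc N308 = N451 := rfl
theorem L3992 : sm gf N451 = N451 := ded_29_2 (flp_c L3990) L2738 L3990
theorem L3993 : sm gg N451 = N310 := ded_30_2 (flp_c L2752) (flp_g L2739) L3990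
theorem L3995 : sm gh N451 = N318 := ded_32_2 (flp_c L2814) (flp_h L2741) L3990
theorem L3997 : sm gd N451 = N451 := ded_27_2 (flp_c L3990) (flp_d L2735) L1889 L2735 L3990
theorem L3998 : sm ge N308 = N452 := rfl
theorem L4000 : sm gb N452 = N452 := ded_21_1 (flp_e L3998) L2737 L3998
theorem L4001 : sm gg N452 = N311 := ded_41_2 (flp_e L2760) (flp_g L2739) L3998
theorem L4003 : sm gh N452 = N319 := ded_43_2 (flp_e L2822) (flp_h L2741) L3998
theorem L4005 : sm gc N309 = N453 := rfl
theorem L4007 : sm gf N453 = N312 := ded_29_2 (flp_c L2766) (flp_f L2746) L4005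
theorem L4009 : sm gj N453 = N453 := ded_31_2 (flp_c L4005) L2748 L4005
theorem L4010 : sm gh N453 = N453 := ded_32_2 (flp_c L4005) L2751 L4005
theorem L4011 : sm gi N453 = N310 := ded_33_2 (flp_c L2752) (flp_i L2749) L4005
theorem L4013 : sm gd N453 = N453 := ded_27_2 (flp_c L4005) (flp_d L2743) L1896 L2743 L4005
theorem L4014 : sm ge N309 = N454 := rfl
theorem L4016 : sm gb N454 = N454 := ded_21_1 (flp_e L4014) L2745 L4014
theorem L4017 : sm gj N454 = N454 := ded_42_2 (flp_e L4014) L2748 L4014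
theorem L4018 : sm gh N454 = N454 := ded_43_2 (flp_e L4014) L2751 L4014
theorem L4019 : sm gi N454 = N311 := ded_44_2 (flp_e L2760) (flp_i L2749) L4014
theorem L4021 : sm gb N310 = N455 := rfl
theorem L4023 : sm gd N455 = N455 := ded_20_2 (flp_b L4021) L2759 L4021
theorem L4024 : sm gf N455 = N314 := ded_22_2 (flp_b L2783) (flp_f L2754) L4021
theorem L4026 : sm gj N455 = N455 := ded_24_2 (flp_b L4021) L2756 L4021
theorem L4027 : sm gh N455 = N320 := ded_25_2 (flp_b L2829) (flp_h L2757) L4021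
theorem L4029 : sm gc N455 = N455 := ded_19_2 (flp_b L4021) (flp_c L2752) L1904 L2752 L4021
theorem L4030 : sm ge N310 = N456 := rfl
theorem L4032 : sm gc N456 = N311 := ded_28_1 (flp_e L2760) L2752 L4030
theorem L4034 : sm gj N456 = N456 := ded_42_2 (flp_e L4030) L2756 L4030
theorem L4035 : sm gh N456 = N321 := ded_43_2 (flp_e L2838) (flp_h L2757) L4030
theorem L4037 : sm gf N311 = N457 := rfl
theorem L4039 : sm gb N457 = N457 := ded_22_1 (flp_f L4037) L2762 L4037
theorem L4040 : sm gj N457 = N457 := ded_46_2 (flp_f L4037) L2763 L4037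
theorem L4041 : sm gh N457 = N322 := ded_47_2 (flp_f L2844) (flp_h L2764) L4037
theorem L4043 : sm ge N457 = N316 := ded_40_1 (flp_f L2799) (flp_e L1925) (flp_f L1905) L2760 L4037
theorem L4045 : sm gb N312 = N458 := rfl
theorem L4047 : sm gd N458 = N458 := ded_20_2 (flp_b L4045) L2773 L4045
theorem L4048 : sm gg N458 = N458 := ded_23_2 (flp_b L4045) L2768 L4045
theorem L4049 : sm gj N458 = N458 := ded_24_2 (flp_b L4045) L2769 L4045
theorem L4050 : sm gh N458 = N458 := ded_25_2 (flp_b L4045) L2770 L4045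
theorem L4051 : sm gi N458 = N314 := ded_26_2 (flp_b L2783) (flp_i L2771) L4045
theorem L4053 : sm gc N458 = N458 := ded_19_2 (flp_b L4045) (flp_c L2766) L1912 L2766 L4045
theorem L4054 : sm ge N312 = N459 := rfl
theorem L4056 : sm gc N459 = N313 := ded_28_1 (flp_e L2774) L2766 L4054
theorem L4058 : sm gg N459 = N459 := ded_41_2 (flp_e L4054) L2768 L4054
theorem L4059 : sm gj N459 = N459 := ded_42_2 (flp_e L4054) L2769 L4054
theorem L4060 : sm gh N459 = N459 := ded_43_2 (flp_e L4054) L2770 L4054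
theorem L4061 : sm gi N459 = N315 := ded_44_2 (flp_e L2791) (flp_i L2771) L4054
theorem L4063 : sm gf N313 = N460 := rfl
theorem L4065 : sm gb N460 = N460 := ded_22_1 (flp_f L4063) L2776 L4063
theorem L4066 : sm gd N460 = N460 := ded_35_1 (flp_f L4063) L2782 L4063
theorem L4067 : sm gj N460 = N460 := ded_46_2 (flp_f L4063) L2778 L4063
theorem L4068 : sm gh N460 = N460 := ded_47_2 (flp_f L4063) L2779 L4063
theorem L4069 : sm gi N460 = N316 := ded_48_2 (flp_f L2799) (flp_i L2780) L4063
theorem L4071 : sm ga N314 = N461 := rfl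
theorem L4073 : sm gc N461 = N461 := ded_11_2 (flp_a L4071) L2790 L4071
theorem L4074 : sm gd N461 = N461 := ded_12_2 (flp_a L4071) L2785 L4071
theorem L4075 : sm gg N461 = N461 := ded_15_2 (flp_a L4071) L2786 L4071
theorem L4076 : sm gj N461 = N461 := ded_16_2 (flp_a L4071) L2787 L4071
theorem L4077 : sm gh N461 = N323 := ded_17_2 (flp_a L2852) (flp_h L2788) L4071
theorem L4079 : sm ge N314 = N462 := rfl
theorem L4081 : sm gb N462 = N315 := ded_21_1 (flp_e L2791) L2783 L4079
theorem L4083 : sm gc N462 = N462 := ded_28_1 (flp_e L4079) L2790 L4079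
theorem L4084 : sm gg N462 = N462 := ded_41_2 (flp_e L4079) L2786 L4079
theorem L4085 : sm gj N462 = N462 := ded_42_2 (flp_e L4079) L2787 L4079
theorem L4086 : sm gh N462 = N324 := ded_43_2 (flp_e L2860) (flp_h L2788) L4079
theorem L4088 : sm gd N315 = N463 := rfl
theorem L4090 : sm gg N463 = N463 := ded_36_2 (flp_d L4088) L2795 L4088
theorem L4091 : sm gj N463 = N463 := ded_37_2 (flp_d L4088) L2796 L4088
theorem L4092 : sm gc N463 = N463 := ded_27_1 (flp_d L4088) L2793 L1932 (flp_c L2793) L4088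
theorem L4093 : sm ge N463 = N463 := ded_34_2 (flp_d L4088) (flp_e L2791) L1924 L2791 L4088
theorem L4094 : sm gh N463 = N463 := ded_38_2 (flp_d L4088) L2797 L1980 (flp_h L2797) L4088
theorem L4095 : sm gf N315 = N464 := rfl
theorem L4097 : sm gc N464 = N316 := ded_29_1 (flp_f L2799) (flp_c L2793) L4095
theorem L4099 : sm gj N464 = N464 := ded_46_2 (flp_f L4095) L2796 L4095
theorem L4100 : sm gh N464 = N325 := ded_47_2 (flp_f L2869) (flp_h L2797) L4095
theorem L4102 : sm gg N316 = N465 := rfl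
theorem L4104 : sm gb N465 = N465 := ded_23_1 (flp_g L4102) L2801 L4102
theorem L4105 : sm gd N465 = N465 := ded_36_1 (flp_g L4102) L2802 L4102
theorem L4106 : sm gh N465 = N326 := ded_50_2 (flp_g L2876) (flp_h L2804) L4102
theorem L4108 : sm gf N465 = N465 := ded_45_1 (flp_g L4102) (flp_f L2799) L1928 L2799 L4102
theorem L4109 : sm gc N317 = N466 := rfl
theorem L4111 : sm gf N466 = N466 := ded_29_2 (flp_c L4109) L2809 L4109
theorem L4112 : sm gg N466 = N466 := ded_30_2 (flp_c L4109) L2810 L4109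
theorem L4113 : sm gj N466 = N318 := ded_31_2 (flp_c L2814) (flp_j L2811) L4109
theorem L4115 : sm gi N466 = N466 := ded_33_2 (flp_c L4109) L2813 L4109
theorem L4116 : sm gd N466 = N328 := ded_27_2 (flp_c L2892) (flp_d L1996) (flp_c L1936) L2806 L4109
theorem L4118 : sm ge N317 = N467 := rfl
theorem L4120 : sm gb N467 = N467 := ded_21_1 (flp_e L4118) L2808 L4118
theorem L4121 : sm gg N467 = N467 := ded_41_2 (flp_e L4118) L2810 L4118
theorem L4122 : sm gj N467 = N319 := ded_42_2 (flp_e L2822) (flp_j L2811) L4118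
theorem L4124 : sm gi N467 = N467 := ded_44_2 (flp_e L4118) L2813 L4118
theorem L4125 : sm gd N467 = N467 := ded_34_1 (flp_e L4118) (flp_d L2806) L1938 L2806 L4118
theorem L4126 : sm gb N318 = N468 := rfl
theorem L4128 : sm gd N468 = N330 := ded_20_2 (flp_b L2910) (flp_d L2820) L4126
theorem L4130 : sm gf N468 = N468 := ded_22_2 (flp_b L4126) L2816 L4126
theorem L4131 : sm gg N468 = N320 := ded_23_2 (flp_b L2829) (flp_g L2817) L4126
theorem L4133 : sm gi N468 = N468 := ded_26_2 (flp_b L4126) L2819 L4126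
theorem L4134 : sm gc N468 = N468 := ded_19_2 (flp_b L4126) (flp_c L2814) L1946 L2814 L4126
theorem L4135 : sm ge N318 = N469 := rfl
theorem L4137 : sm gc N469 = N319 := ded_28_1 (flp_e L2822) L2814 L4135
theorem L4139 : sm gg N469 = N321 := ded_41_2 (flp_e L2838) (flp_g L2817) L4135
theorem L4141 : sm gi N469 = N469 := ded_44_2 (flp_e L4135) L2819 L4135
theorem L4142 : sm gf N319 = N470 := rfl
theorem L4144 : sm gb N470 = N470 := ded_22_1 (flp_f L4142) L2824 L4142
theorem L4145 : sm gd N470 = N470 := ded_35_1 (flp_f L4142) L2828 L4142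
theorem L4146 : sm gi N470 = N470 := ded_48_2 (flp_f L4142) L2827 L4142
theorem L4147 : sm ge N470 = N470 := ded_40_1 (flp_f L4142) (flp_e L2822) L1947 L2822 L4142
theorem L4148 : sm ga N320 = N471 := rfl
theorem L4150 : sm gc N471 = N471 := ded_11_2 (flp_a L4148) L2837 L4148
theorem L4151 : sm gd N471 = N333 := ded_12_2 (flp_a L2936) (flp_d L2831) L4148
theorem L4153 : sm gf N471 = N323 := ded_14_2 (flp_a L2852) (flp_f L2833) L4148
theorem L4155 : sm gj N471 = N471 := ded_16_2 (flp_a L4148) L2835 L4148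
theorem L4156 : sm gi N471 = N471 := ded_18_2 (flp_a L4148) L2836 L4148
theorem L4157 : sm ge N320 = N472 := rfl
theorem L4159 : sm gb N472 = N321 := ded_21_1 (flp_e L2838) L2829 L4157
theorem L4161 : sm gc N472 = N472 := ded_28_1 (flp_e L4157) L2837 L4157
theorem L4162 : sm gj N472 = N472 := ded_42_2 (flp_e L4157) L2835 L4157
theorem L4163 : sm gi N472 = N472 := ded_44_2 (flp_e L4157) L2836 L4157
theorem L4164 : sm gd N321 = N473 := rfl
theorem L4166 : sm gj N473 = N473 := ded_37_2 (flp_d L4164) L2842 L4164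
theorem L4167 : sm gi N473 = N473 := ded_39_2 (flp_d L4164) L2843 L4164
theorem L4168 : sm gc N473 = N473 := ded_27_1 (flp_d L4164) L2840 L1964 (flp_c L2840) L4164
theorem L4169 : sm ge N473 = N335 := ded_34_2 (flp_d L2955) (flp_e L2031) (flp_d L1957) L2838 L4164
theorem L4171 : sm gf N321 = N474 := rfl
theorem L4173 : sm gc N474 = N322 := ded_29_1 (flp_f L2844) (flp_c L2840) L4171
theorem L4175 : sm gj N474 = N474 := ded_46_2 (flp_f L4171) L2842 L4171
theorem L4176 : sm gi N474 = N474 := ded_48_2 (flp_f L4171) L2843 L4171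
theorem L4177 : sm ge N474 = N325 := ded_40_1 (flp_f L2869) (flp_e L1973) (flp_f L1953) L2838 L4171
theorem L4179 : sm gg N322 = N475 := rfl
theorem L4181 : sm gb N475 = N475 := ded_23_1 (flp_g L4179) L2846 L4179
theorem L4182 : sm gd N475 = N475 := ded_36_1 (flp_g L4179) L2847 L4179
theorem L4183 : sm ge N475 = N326 := ded_41_1 (flp_g L2876) (flp_e L2850) L4179
theorem L4185 : sm gi N475 = N475 := ded_51_2 (flp_g L4179) L2849 L4179
theorem L4186 : sm ge N323 = N476 := rfl
theorem L4188 : sm ga N476 = N324 := ded_13_1 (flp_e L2860) L2852 L4186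
theorem L4190 : sm gc N476 = N476 := ded_28_1 (flp_e L4186) L2854 L4186
theorem L4191 : sm gg N476 = N476 := ded_41_2 (flp_e L4186) L2857 L4186
theorem L4192 : sm gj N476 = N476 := ded_42_2 (flp_e L4186) L2858 L4186
theorem L4193 : sm gi N476 = N476 := ded_44_2 (flp_e L4186) L2859 L4186
theorem L4194 : sm gd N476 = N476 := ded_34_1 (flp_e L4186) L2855 L2043 (flp_d L2855) L4186
theorem L4195 : sm gf N324 = N477 := rfl
theorem L4197 : sm gb N477 = N325 := ded_22_1 (flp_f L2869) (flp_b L2862) L4195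
theorem L4199 : sm gc N477 = N477 := ded_29_1 (flp_f L4195) L2864 L4195
theorem L4200 : sm gd N477 = N477 := ded_35_1 (flp_f L4195) L2868 L4195
theorem L4201 : sm gj N477 = N477 := ded_46_2 (flp_f L4195) L2866 L4195
theorem L4202 : sm gi N477 = N477 := ded_48_2 (flp_f L4195) L2867 L4195
theorem L4203 : sm gg N325 = N478 := rfl
theorem L4205 : sm gc N478 = N326 := ded_30_1 (flp_g L2876) (flp_c L2871) L4203
theorem L4207 : sm gd N478 = N478 := ded_36_1 (flp_g L4203) L2873 L4203
theorem L4208 : sm gi N478 = N478 := ded_51_2 (flp_g L4203) L2875 L4203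
theorem L4209 : sm gf N478 = N478 := ded_45_1 (flp_g L4203) (flp_f L2869) L1977 L2869 L4203
theorem L4210 : sm gj N326 = N479 := rfl
theorem L4212 : sm gb N479 = N479 := ded_24_1 (flp_j L4210) L2878 L4210
theorem L4213 : sm gd N479 = N327 := ded_37_1 (flp_j L2883) (flp_d L2879) L4210
theorem L4215 : sm gf N479 = N479 := ded_46_1 (flp_j L4210) L2882 L4210
theorem L4216 : sm gi N479 = N479 := ded_53_2 (flp_j L4210) L2881 L4210
theorem L4217 : sm gg N479 = N479 := ded_49_1 (flp_j L4210) (flp_g L2876) L1986 L2876 L4210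
theorem L4218 : sm gb N328 = N480 := rfl
theorem L4220 : sm gf N480 = N480 := ded_22_2 (flp_b L4218) L2894 L4218
theorem L4221 : sm gg N480 = N480 := ded_23_2 (flp_b L4218) L2895 L4218
theorem L4222 : sm gj N480 = N330 := ded_24_2 (flp_b L2910) (flp_j L2896) L4218
theorem L4224 : sm gh N480 = N480 := ded_25_2 (flp_b L4218) L2898 L4218
theorem L4225 : sm gi N480 = N480 := ded_26_2 (flp_b L4218) L2899 L4218
theorem L4226 : sm gc N480 = N336 := ded_19_2 (flp_b L2961) (flp_c L2048) (flp_b L1998) L2892 L4218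
theorem L4228 : sm ge N328 = N481 := rfl
theorem L4230 : sm gc N481 = N329 := ded_28_1 (flp_e L2900) L2892 L4228
theorem L4232 : sm gg N481 = N481 := ded_41_2 (flp_e L4228) L2895 L4228
theorem L4233 : sm gj N481 = N331 := ded_42_2 (flp_e L2919) (flp_j L2896) L4228
theorem L4235 : sm gh N481 = N481 := ded_43_2 (flp_e L4228) L2898 L4228
theorem L4236 : sm gi N481 = N481 := ded_44_2 (flp_e L4228) L2899 L4228
theorem L4237 : sm gf N329 = N482 := rfl
theorem L4239 : sm gb N482 = N338 := ded_22_1 (flp_f L2980) (flp_b L2902) L4237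
theorem L4241 : sm gd N482 = N482 := ded_35_1 (flp_f L4237) L2909 L4237
theorem L4242 : sm gj N482 = N332 := ded_46_2 (flp_f L2927) (flp_j L2905) L4237
theorem L4244 : sm gh N482 = N482 := ded_47_2 (flp_f L4237) L2907 L4237
theorem L4245 : sm gi N482 = N482 := ded_48_2 (flp_f L4237) L2908 L4237
theorem L4246 : sm ge N482 = N482 := ded_40_1 (flp_f L4237) (flp_e L2900) L2000 L2900 L4237
theorem L4247 : sm ga N330 = N483 := rfl
theorem L4249 : sm gc N483 = N339 := ded_11_2 (flp_a L2989) (flp_c L2917) L4247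
theorem L4251 : sm gf N483 = N483 := ded_14_2 (flp_a L4247) L2912 L4247
theorem L4252 : sm gg N483 = N333 := ded_15_2 (flp_a L2936) (flp_g L2913) L4247
theorem L4254 : sm gh N483 = N483 := ded_17_2 (flp_a L4247) L2915 L4247
theorem L4255 : sm gi N483 = N483 := ded_18_2 (flp_a L4247) L2916 L4247
theorem L4256 : sm ge N330 = N484 := rfl
theorem L4258 : sm gb N484 = N331 := ded_21_1 (flp_e L2919) L2910 L4256
theorem L4260 : sm gc N484 = N340 := ded_28_1 (flp_e L2998) (flp_c L2917) L4256
theorem L4262 : sm gg N484 = N334 := ded_41_2 (flp_e L2945) (flp_g L2913) L4256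
theorem L4264 : sm gh N484 = N484 := ded_43_2 (flp_e L4256) L2915 L4256
theorem L4265 : sm gi N484 = N484 := ded_44_2 (flp_e L4256) L2916 L4256
theorem L4266 : sm gd N331 = N485 := rfl
theorem L4268 : sm gg N485 = N335 := ded_36_2 (flp_d L2955) (flp_g L2923) L4266
theorem L4270 : sm gi N485 = N485 := ded_39_2 (flp_d L4266) L2926 L4266
theorem L4271 : sm gc N485 = N485 := ded_27_1 (flp_d L4266) L2921 L2021 (flp_c L2921) L4266
theorem L4272 : sm gf N331 = N486 := rfl
theorem L4274 : sm gc N486 = N332 := ded_29_1 (flp_f L2927) (flp_c L2921) L4272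
theorem L4276 : sm gh N486 = N486 := ded_47_2 (flp_f L4272) L2925 L4272
theorem L4277 : sm gi N486 = N486 := ded_48_2 (flp_f L4272) L2926 L4272
theorem L4278 : sm ge N486 = N486 := ded_40_1 (flp_f L4272) (flp_e L2919) L2008 L2919 L4272
theorem L4279 : sm gg N486 = N486 := ded_45_2 (flp_f L4272) L2923 L2038 (flp_g L2923) L4272
theorem L4280 : sm ge N333 = N487 := rfl
theorem L4282 : sm ga N487 = N334 := ded_13_1 (flp_e L2945) L2936 L4280
theorem L4284 : sm gc N487 = N343 := ded_28_1 (flp_e L3023) (flp_c L2938) L4280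
theorem L4286 : sm gj N487 = N487 := ded_42_2 (flp_e L4280) L2942 L4280
theorem L4287 : sm gh N487 = N487 := ded_43_2 (flp_e L4280) L2943 L4280
theorem L4288 : sm gi N487 = N487 := ded_44_2 (flp_e L4280) L2944 L4280
theorem L4289 : sm gf N487 = N487 := ded_40_2 (flp_e L4280) L2940 L2043 (flp_f L2940) L4280
theorem L4290 : sm gd N334 = N488 := rfl
theorem L4292 : sm gb N488 = N335 := ded_20_1 (flp_d L2955) (flp_b L2947) L4290
theorem L4294 : sm gf N488 = N488 := ded_35_2 (flp_d L4290) L2954 L4290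
theorem L4295 : sm gj N488 = N488 := ded_37_2 (flp_d L4290) L2951 L4290
theorem L4296 : sm gi N488 = N488 := ded_39_2 (flp_d L4290) L2953 L4290
theorem L4297 : sm gh N335 = N489 := rfl
theorem L4299 : sm gc N489 = N489 := ded_32_1 (flp_h L4297) L2960 L4297
theorem L4300 : sm gf N489 = N489 := ded_47_1 (flp_h L4297) L2957 L4297
theorem L4301 : sm gj N489 = N489 := ded_52_1 (flp_h L4297) L2958 L4297
theorem L4302 : sm gd N489 = N489 := ded_38_1 (flp_h L4297) (flp_d L2955) L2036 L2955 L4297
theorem L4303 : sm ga N336 = N490 := rfl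
theorem L4305 : sm gd N490 = N490 := ded_12_2 (flp_a L4303) L2963 L4303
theorem L4306 : sm gf N490 = N490 := ded_14_2 (flp_a L4303) L2964 L4303
theorem L4307 : sm gg N490 = N490 := ded_15_2 (flp_a L4303) L2965 L4303
theorem L4308 : sm gj N490 = N339 := ded_16_2 (flp_a L2989) (flp_j L2966) L4303
theorem L4310 : sm gh N490 = N490 := ded_17_2 (flp_a L4303) L2968 L4303
theorem L4311 : sm gi N490 = N490 := ded_18_2 (flp_a L4303) L2969 L4303
theorem L4312 : sm gb N490 = N490 := ded_10_2 (flp_a L4303) (flp_b L2961) L2050 L2961 L4303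
theorem L4313 : sm ge N336 = N491 := rfl
theorem L4315 : sm gb N491 = N337 := ded_21_1 (flp_e L2970) L2961 L4313
theorem L4317 : sm gg N491 = N491 := ded_41_2 (flp_e L4313) L2965 L4313
theorem L4318 : sm gj N491 = N340 := ded_42_2 (flp_e L2998) (flp_j L2966) L4313
theorem L4320 : sm gh N491 = N491 := ded_43_2 (flp_e L4313) L2968 L4313
theorem L4321 : sm gi N491 = N491 := ded_44_2 (flp_e L4313) L2969 L4313
theorem L4322 : sm gd N337 = N492 := rfl
theorem L4324 : sm ga N492 = N492 := ded_12_1 (flp_d L4322) L2972 L4322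
theorem L4325 : sm gg N492 = N492 := ded_36_2 (flp_d L4322) L2975 L4322
theorem L4326 : sm gj N492 = N341 := ded_37_2 (flp_d L3006) (flp_j L2976) L4322
theorem L4328 : sm gi N492 = N492 := ded_39_2 (flp_d L4322) L2979 L4322
theorem L4329 : sm gc N492 = N492 := ded_27_1 (flp_d L4322) L2973 L2066 (flp_c L2973) L4322
theorem L4330 : sm ge N492 = N492 := ded_34_2 (flp_d L4322) (flp_e L2970) L2057 L2970 L4322
theorem L4331 : sm gf N337 = N493 := rfl
theorem L4333 : sm ga N493 = N493 := ded_14_1 (flp_f L4331) L2972 L4331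
theorem L4334 : sm gc N493 = N338 := ded_29_1 (flp_f L2980) (flp_c L2973) L4331
theorem L4336 : sm gj N493 = N342 := ded_46_2 (flp_f L3014) (flp_j L2976) L4331
theorem L4338 : sm gh N493 = N493 := ded_47_2 (flp_f L4331) L2978 L4331
theorem L4339 : sm gi N493 = N493 := ded_48_2 (flp_f L4331) L2979 L4331
theorem L4340 : sm ge N493 = N493 := ded_40_1 (flp_f L4331) (flp_e L2970) L2051 L2970 L4331
theorem L4341 : sm gg N338 = N494 := rfl
theorem L4343 : sm ga N494 = N494 := ded_15_1 (flp_g L4341) L2982 L4341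
theorem L4344 : sm gd N494 = N494 := ded_36_1 (flp_g L4341) L2983 L4341
theorem L4345 : sm ge N494 = N494 := ded_41_1 (flp_g L4341) L2988 L4341
theorem L4346 : sm gh N494 = N494 := ded_50_2 (flp_g L4341) L2986 L4341
theorem L4347 : sm gi N494 = N494 := ded_51_2 (flp_g L4341) L2987 L4341
theorem L4348 : sm gf N494 = N494 := ded_45_1 (flp_g L4341) (flp_f L2980) L2061 L2980 L4341
theorem L4349 : sm gj N494 = N494 := ded_49_2 (flp_g L4341) L2984 L2091 (flp_j L2984) L4341
theorem L4350 : sm ge N339 = N495 := rfl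
theorem L4352 : sm ga N495 = N340 := ded_13_1 (flp_e L2998) L2989 L4350
theorem L4354 : sm gb N495 = N495 := ded_21_1 (flp_e L4350) L2997 L4350
theorem L4355 : sm gg N495 = N343 := ded_41_2 (flp_e L3023) (flp_g L2993) L4350
theorem L4357 : sm gh N495 = N495 := ded_43_2 (flp_e L4350) L2995 L4350
theorem L4358 : sm gi N495 = N495 := ded_44_2 (flp_e L4350) L2996 L4350
theorem L4359 : sm gd N340 = N496 := rfl
theorem L4361 : sm gb N496 = N341 := ded_20_1 (flp_d L3006) (flp_b L3000) L4359
theorem L4363 : sm gg N496 = N344 := ded_36_2 (flp_d L3032) (flp_g L3002) L4359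
theorem L4365 : sm gi N496 = N496 := ded_39_2 (flp_d L4359) L3005 L4359
theorem L4366 : sm ge N496 = N496 := ded_34_2 (flp_d L4359) (flp_e L2998) L2069 L2998 L4359
theorem L4367 : sm gf N340 = N497 := rfl
theorem L4369 : sm gb N497 = N342 := ded_22_1 (flp_f L3014) (flp_b L3000) L4367
theorem L4371 : sm gh N497 = N497 := ded_47_2 (flp_f L4367) L3004 L4367
theorem L4372 : sm gi N497 = N497 := ded_48_2 (flp_f L4367) L3005 L4367
theorem L4373 : sm ge N497 = N497 := ded_40_1 (flp_f L4367) (flp_e L2998) L2070 L2998 L4367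
theorem L4374 : sm gg N497 = N497 := ded_45_2 (flp_f L4367) L3002 L2108 (flp_g L3002) L4367
theorem L4375 : sm gf N341 = N498 := rfl
theorem L4377 : sm ga N498 = N498 := ded_14_1 (flp_f L4375) L3008 L4375
theorem L4378 : sm gc N498 = N498 := ded_29_1 (flp_f L4375) L3012 L4375
theorem L4379 : sm gd N498 = N342 := ded_35_1 (flp_f L3014) L3006 L4375
theorem L4381 : sm gi N498 = N498 := ded_48_2 (flp_f L4375) L3011 L4375
theorem L4382 : sm gg N498 = N498 := ded_45_2 (flp_f L4375) L3009 L2112 (flp_g L3009) L4375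
theorem L4383 : sm gh N341 = N499 := rfl
theorem L4385 : sm ga N499 = N499 := ded_17_1 (flp_h L4383) L3008 L4383
theorem L4386 : sm gc N499 = N499 := ded_32_1 (flp_h L4383) L3012 L4383
theorem L4387 : sm ge N499 = N499 := ded_43_1 (flp_h L4383) L3013 L4383
theorem L4388 : sm gg N499 = N345 := ded_50_1 (flp_h L3040) (flp_g L3009) L4383
theorem L4390 : sm gd N499 = N499 := ded_38_1 (flp_h L4383) (flp_d L3006) L2082 L3006 L4383
theorem L4391 : sm gd N343 = N500 := rfl
theorem L4393 : sm ga N500 = N344 := ded_12_1 (flp_d L3032) (flp_a L3025) L4391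
theorem L4395 : sm gb N500 = N500 := ded_20_1 (flp_d L4391) L3027 L4391
theorem L4396 : sm gf N500 = N500 := ded_35_2 (flp_d L4391) L3031 L4391
theorem L4397 : sm gj N500 = N500 := ded_37_2 (flp_d L4391) L3028 L4391
theorem L4398 : sm gi N500 = N500 := ded_39_2 (flp_d L4391) L3030 L4391
theorem L4399 : sm ge N500 = N500 := ded_34_2 (flp_d L4391) (flp_e L3023) L2094 L3023 L4391
theorem L4400 : sm gc N344 = N501 := rfl
theorem L4407 : sm gh N344 = N502 := rfl
theorem L4409 : sm gb N502 = N345 := ded_25_1 (flp_h L3040) (flp_b L3034) L4407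
theorem L4424 : sm gg N346 = N504 := rfl
theorem L4426 : sm ga N504 = N504 := ded_15_1 (flp_g L4424) L3050 L4424
theorem L4427 : sm gb N504 = N504 := ded_23_1 (flp_g L4424) L3051 L4424
theorem L4428 : sm gc N504 = N504 := ded_30_1 (flp_g L4424) L3054 L4424
theorem L4429 : sm gd N504 = N347 := ded_36_1 (flp_g L3057) L3048 L4424
theorem L4431 : sm ge N504 = N504 := ded_41_1 (flp_g L4424) L3055 L4424
theorem L4432 : sm gh N504 = N504 := ded_50_2 (flp_g L4424) L3056 L4424
theorem L4433 : sm gi N346 = N505 := rfl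
theorem L4435 : sm ga N505 = N505 := ded_18_1 (flp_i L4433) L3050 L4433
theorem L4436 : sm gb N505 = N505 := ded_26_1 (flp_i L4433) L3051 L4433
theorem L4437 : sm gc N505 = N505 := ded_33_1 (flp_i L4433) L3054 L4433
theorem L4438 : sm gd N505 = N349 := ded_39_1 (flp_i L3076) L3048 L4433
theorem L4440 : sm ge N505 = N505 := ded_44_1 (flp_i L4433) L3055 L4433
theorem L4441 : sm gf N505 = N505 := ded_48_1 (flp_i L4433) L3052 L4433
theorem L4442 : sm gj N505 = N505 := ded_53_1 (flp_i L4433) L3053 L4433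
theorem L4443 : sm gf N347 = N506 := rfl
theorem L4445 : sm ga N506 = N506 := ded_14_1 (flp_f L4443) L3059 L4443
theorem L4446 : sm gb N506 = N506 := ded_22_1 (flp_f L4443) L3060 L4443
theorem L4447 : sm gc N506 = N360 := ded_29_1 (flp_f L3179) (flp_c L3061) L4443
theorem L4449 : sm ge N506 = N506 := ded_40_1 (flp_f L4443) L3063 L2132 (flp_e L3063) L4443
theorem L4450 : sm gg N506 = N506 := ded_45_2 (flp_f L4443) (flp_g L3057) L2124 L3057 L4443
theorem L4451 : sm gj N347 = N507 := rfl
theorem L4453 : sm ga N507 = N507 := ded_16_1 (flp_j L4451) L3059 L4451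
theorem L4454 : sm gb N507 = N507 := ded_24_1 (flp_j L4451) L3060 L4451
theorem L4455 : sm gc N507 = N361 := ded_31_1 (flp_j L3187) (flp_c L3061) L4451
theorem L4457 : sm ge N507 = N350 := ded_42_1 (flp_j L3086) (flp_e L3063) L4451
theorem L4459 : sm gg N507 = N507 := ded_49_1 (flp_j L4451) (flp_g L3057) L2123 L3057 L4451
theorem L4460 : sm gh N347 = N508 := rfl
theorem L4462 : sm ga N508 = N508 := ded_17_1 (flp_h L4460) L3059 L4460
theorem L4463 : sm gb N508 = N508 := ded_25_1 (flp_h L4460) L3060 L4460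
theorem L4464 : sm gc N508 = N362 := ded_32_1 (flp_h L3196) (flp_c L3061) L4460
theorem L4466 : sm ge N508 = N351 := ded_43_1 (flp_h L3095) (flp_e L3063) L4460
theorem L4468 : sm gg N508 = N348 := ded_50_1 (flp_h L3065) L3057 L4460
theorem L4470 : sm gd N508 = N508 := ded_38_1 (flp_h L4460) (flp_d L4429) L4432 L4429 L4460
theorem L4471 : sm gi N347 = N509 := rfl
theorem L4473 : sm ga N509 = N509 := ded_18_1 (flp_i L4471) L3059 L4471
theorem L4474 : sm gb N509 = N509 := ded_26_1 (flp_i L4471) L3060 L4471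
theorem L4475 : sm gc N509 = N363 := ded_33_1 (flp_i L3205) (flp_c L3061) L4471
theorem L4477 : sm ge N509 = N352 := ded_44_1 (flp_i L3104) (flp_e L3063) L4471
theorem L4479 : sm gg N509 = N349 := ded_51_1 (flp_i L3076) L3057 L4471
theorem L4481 : sm gi N348 = N510 := rfl
theorem L4483 : sm ga N510 = N510 := ded_18_1 (flp_i L4481) L3067 L4481
theorem L4484 : sm gb N510 = N510 := ded_26_1 (flp_i L4481) L3068 L4481
theorem L4485 : sm gc N510 = N365 := ded_33_1 (flp_i L3225) (flp_c L3069) L4481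
theorem L4487 : sm gd N510 = N510 := ded_39_1 (flp_i L4481) L3075 L4481
theorem L4488 : sm ge N510 = N354 := ded_44_1 (flp_i L3124) (flp_e L3071) L4481
theorem L4490 : sm gf N510 = N510 := ded_48_1 (flp_i L4481) L3073 L4481
theorem L4491 : sm gj N510 = N510 := ded_53_1 (flp_i L4481) L3074 L4481
theorem L4492 : sm gh N349 = N511 := rfl
theorem L4494 : sm ga N511 = N511 := ded_17_1 (flp_h L4492) L3078 L4492
theorem L4495 : sm gb N511 = N511 := ded_25_1 (flp_h L4492) L3079 L4492
theorem L4496 : sm gc N511 = N366 := ded_32_1 (flp_h L3234) (flp_c L3080) L4492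
theorem L4498 : sm ge N511 = N355 := ded_43_1 (flp_h L3133) (flp_e L3082) L4492
theorem L4500 : sm gf N511 = N511 := ded_47_1 (flp_h L4492) L3084 L4492
theorem L4501 : sm gj N511 = N511 := ded_52_1 (flp_h L4492) L3085 L4492
theorem L4502 : sm gh N350 = N512 := rfl
theorem L4504 : sm ga N512 = N512 := ded_17_1 (flp_h L4502) L3088 L4502
theorem L4505 : sm gb N512 = N512 := ded_25_1 (flp_h L4502) L3089 L4502
theorem L4506 : sm gc N512 = N367 := ded_32_1 (flp_h L3243) (flp_c L3090) L4502
theorem L4508 : sm gf N512 = N512 := ded_47_1 (flp_h L4502) L3093 L4502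
theorem L4509 : sm gg N512 = N512 := ded_50_1 (flp_h L4502) L3094 L4502
theorem L4510 : sm gj N512 = N351 := ded_52_1 (flp_h L3095) L3086 L4502
theorem L4512 : sm gi N350 = N513 := rfl
theorem L4514 : sm ga N513 = N513 := ded_18_1 (flp_i L4512) L3088 L4512
theorem L4515 : sm gb N513 = N513 := ded_26_1 (flp_i L4512) L3089 L4512
theorem L4516 : sm gc N513 = N368 := ded_33_1 (flp_i L3253) (flp_c L3090) L4512
theorem L4518 : sm gd N513 = N513 := ded_39_1 (flp_i L4512) L3092 L4512
theorem L4519 : sm gf N513 = N513 := ded_48_1 (flp_i L4512) L3093 L4512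
theorem L4520 : sm gg N513 = N513 := ded_51_1 (flp_i L4512) L3094 L4512
theorem L4521 : sm gj N513 = N352 := ded_53_1 (flp_i L3104) L3086 L4512
theorem L4523 : sm gd N351 = N514 := rfl
theorem L4525 : sm ga N514 = N514 := ded_12_1 (flp_d L4523) L3097 L4523
theorem L4526 : sm gb N514 = N514 := ded_20_1 (flp_d L4523) L3098 L4523
theorem L4527 : sm gf N514 = N514 := ded_35_2 (flp_d L4523) L3101 L4523
theorem L4528 : sm gg N514 = N353 := ded_36_2 (flp_d L3114) (flp_g L3102) L4523
theorem L4530 : sm gc N514 = N514 := ded_27_1 (flp_d L4523) L3099 L2222 (flp_c L3099) L4523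
theorem L4531 : sm ge N514 = N514 := ded_34_2 (flp_d L4523) (flp_e L4466) L4470 L4466 L4523
theorem L4532 : sm gh N514 = N514 := ded_38_2 (flp_d L4523) (flp_h L3095) L2131 L3095 L4523
theorem L4533 : sm gi N351 = N515 := rfl
theorem L4535 : sm ga N515 = N515 := ded_18_1 (flp_i L4533) L3097 L4533
theorem L4536 : sm gb N515 = N515 := ded_26_1 (flp_i L4533) L3098 L4533
theorem L4537 : sm gc N515 = N369 := ded_33_1 (flp_i L3264) (flp_c L3099) L4533
theorem L4539 : sm gf N515 = N515 := ded_48_1 (flp_i L4533) L3101 L4533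
theorem L4540 : sm gg N515 = N354 := ded_51_1 (flp_i L3124) (flp_g L3102) L4533
theorem L4542 : sm gh N352 = N516 := rfl
theorem L4544 : sm ga N516 = N516 := ded_17_1 (flp_h L4542) L3106 L4542
theorem L4545 : sm gb N516 = N516 := ded_25_1 (flp_h L4542) L3107 L4542
theorem L4546 : sm gc N516 = N370 := ded_32_1 (flp_h L3273) (flp_c L3108) L4542
theorem L4548 : sm gf N516 = N516 := ded_47_1 (flp_h L4542) L3111 L4542
theorem L4549 : sm gg N516 = N355 := ded_50_1 (flp_h L3133) (flp_g L3112) L4542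
theorem L4551 : sm gi N353 = N517 := rfl
theorem L4553 : sm ga N517 = N517 := ded_18_1 (flp_i L4551) L3116 L4551
theorem L4554 : sm gb N517 = N517 := ded_26_1 (flp_i L4551) L3117 L4551
theorem L4555 : sm gc N517 = N517 := ded_33_1 (flp_i L4551) L3121 L4551
theorem L4556 : sm gd N517 = N354 := ded_39_1 (flp_i L3124) L3114 L4551
theorem L4558 : sm ge N517 = N517 := ded_44_1 (flp_i L4551) L3122 L4551
theorem L4559 : sm gf N517 = N357 := ded_48_1 (flp_i L3152) (flp_f L3118) L4551
theorem L4561 : sm gj N517 = N517 := ded_53_1 (flp_i L4551) L3120 L4551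
theorem L4562 : sm gh N354 = N518 := rfl
theorem L4564 : sm ga N518 = N518 := ded_17_1 (flp_h L4562) L3126 L4562
theorem L4565 : sm gb N518 = N518 := ded_25_1 (flp_h L4562) L3127 L4562
theorem L4566 : sm gc N518 = N371 := ded_32_1 (flp_h L3281) (flp_c L3128) L4562
theorem L4568 : sm gf N518 = N358 := ded_47_1 (flp_h L3161) (flp_f L3130) L4562
theorem L4570 : sm gj N518 = N518 := ded_52_1 (flp_h L4562) L3132 L4562
theorem L4571 : sm gi N518 = N355 := ded_54_2 (flp_h L3133) (flp_i L2142) L2133 L3124 L4562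
theorem L4573 : sm gd N355 = N519 := rfl
theorem L4575 : sm ga N519 = N519 := ded_12_1 (flp_d L4573) L3135 L4573
theorem L4576 : sm gb N519 = N519 := ded_20_1 (flp_d L4573) L3136 L4573
theorem L4577 : sm gf N519 = N359 := ded_35_2 (flp_d L3172) (flp_f L3139) L4573
theorem L4579 : sm gj N519 = N519 := ded_37_2 (flp_d L4573) L3141 L4573
theorem L4580 : sm gh N519 = N519 := ded_38_2 (flp_d L4573) (flp_h L3133) L2148 L3133 L4573
theorem L4581 : sm gi N356 = N520 := rfl
theorem L4583 : sm ga N520 = N520 := ded_18_1 (flp_i L4581) L3144 L4581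
theorem L4584 : sm gb N520 = N520 := ded_26_1 (flp_i L4581) L3145 L4581
theorem L4585 : sm gc N520 = N520 := ded_33_1 (flp_i L4581) L3146 L4581
theorem L4586 : sm gd N520 = N520 := ded_39_1 (flp_i L4581) L3150 L4581
theorem L4587 : sm ge N520 = N357 := ded_44_1 (flp_i L3152) L3142 L4581
theorem L4589 : sm gf N520 = N520 := ded_48_1 (flp_i L4581) L3151 L4581
theorem L4590 : sm gg N520 = N520 := ded_51_1 (flp_i L4581) L3147 L4581
theorem L4591 : sm gj N520 = N520 := ded_53_1 (flp_i L4581) L3148 L4581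
theorem L4592 : sm gh N357 = N521 := rfl
theorem L4594 : sm ga N521 = N521 := ded_17_1 (flp_h L4592) L3154 L4592
theorem L4595 : sm gb N521 = N521 := ded_25_1 (flp_h L4592) L3155 L4592
theorem L4596 : sm gc N521 = N521 := ded_32_1 (flp_h L4592) L3156 L4592
theorem L4597 : sm gg N521 = N521 := ded_50_1 (flp_h L4592) L3159 L4592
theorem L4598 : sm gj N521 = N521 := ded_52_1 (flp_h L4592) L3160 L4592
theorem L4599 : sm gi N521 = N521 := ded_54_2 (flp_h L4592) (flp_i L3152) L2159 L3152 L4592
theorem L4600 : sm gd N358 = N522 := rfl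
theorem L4602 : sm ga N522 = N522 := ded_12_1 (flp_d L4600) L3163 L4600
theorem L4603 : sm gb N522 = N522 := ded_20_1 (flp_d L4600) L3164 L4600
theorem L4604 : sm gg N522 = N522 := ded_36_2 (flp_d L4600) L3168 L4600
theorem L4605 : sm gj N522 = N522 := ded_37_2 (flp_d L4600) L3169 L4600
theorem L4606 : sm gi N522 = N359 := ded_39_2 (flp_d L3172) (flp_i L3170) L4600
theorem L4608 : sm gc N359 = N523 := rfl
theorem L4610 : sm ga N523 = N523 := ded_11_1 (flp_c L4608) L3174 L4608
theorem L4611 : sm gg N523 = N523 := ded_30_2 (flp_c L4608) L3176 L4608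
theorem L4612 : sm gj N523 = N523 := ded_31_2 (flp_c L4608) L3177 L4608
theorem L4613 : sm gh N523 = N523 := ded_32_2 (flp_c L4608) L3178 L4608
theorem L4614 : sm gd N523 = N374 := ded_27_2 (flp_c L3311) (flp_d L2260) (flp_c L2173) L3172 L4608
theorem L4616 : sm ge N359 = N524 := rfl
theorem L4618 : sm ga N524 = N524 := ded_13_1 (flp_e L4616) L3174 L4616
theorem L4619 : sm gb N524 = N524 := ded_21_1 (flp_e L4616) L3175 L4616
theorem L4620 : sm gg N524 = N524 := ded_41_2 (flp_e L4616) L3176 L4616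
theorem L4621 : sm gj N524 = N524 := ded_42_2 (flp_e L4616) L3177 L4616
theorem L4622 : sm gh N524 = N524 := ded_43_2 (flp_e L4616) L3178 L4616
theorem L4623 : sm gd N524 = N524 := ded_34_1 (flp_e L4616) (flp_d L3172) L2175 L3172 L4616
theorem L4624 : sm gj N360 = N525 := rfl
theorem L4626 : sm ga N525 = N525 := ded_16_1 (flp_j L4624) L3181 L4624
theorem L4627 : sm gb N525 = N386 := ded_24_1 (flp_j L3417) (flp_b L3182) L4624
theorem L4629 : sm gd N525 = N525 := ded_37_1 (flp_j L4624) L3184 L4624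
theorem L4630 : sm ge N525 = N525 := ded_42_1 (flp_j L4624) L3185 L4624
theorem L4631 : sm gf N525 = N361 := ded_46_1 (flp_j L3187) L3179 L4624
theorem L4633 : sm gh N360 = N526 := rfl
theorem L4635 : sm ga N526 = N526 := ded_17_1 (flp_h L4633) L3181 L4633
theorem L4636 : sm gb N526 = N387 := ded_25_1 (flp_h L3426) (flp_b L3182) L4633
theorem L4638 : sm ge N526 = N526 := ded_43_1 (flp_h L4633) L3185 L4633
theorem L4639 : sm gf N526 = N362 := ded_47_1 (flp_h L3196) L3179 L4633
theorem L4641 : sm gg N526 = N526 := ded_50_1 (flp_h L4633) L3186 L4633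
theorem L4642 : sm gi N360 = N527 := rfl
theorem L4644 : sm ga N527 = N527 := ded_18_1 (flp_i L4642) L3181 L4642
theorem L4645 : sm gb N527 = N388 := ded_26_1 (flp_i L3435) (flp_b L3182) L4642
theorem L4647 : sm gd N527 = N527 := ded_39_1 (flp_i L4642) L3184 L4642
theorem L4648 : sm ge N527 = N527 := ded_44_1 (flp_i L4642) L3185 L4642
theorem L4649 : sm gf N527 = N363 := ded_48_1 (flp_i L3205) L3179 L4642
theorem L4651 : sm gg N527 = N527 := ded_51_1 (flp_i L4642) L3186 L4642
theorem L4652 : sm gh N361 = N528 := rfl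
theorem L4654 : sm ga N528 = N528 := ded_17_1 (flp_h L4652) L3189 L4652
theorem L4655 : sm gb N528 = N389 := ded_25_1 (flp_h L3445) (flp_b L3190) L4652
theorem L4657 : sm ge N528 = N367 := ded_43_1 (flp_h L3243) (flp_e L3193) L4652
theorem L4659 : sm gg N528 = N528 := ded_50_1 (flp_h L4652) L3195 L4652
theorem L4660 : sm gj N528 = N362 := ded_52_1 (flp_h L3196) L3187 L4652
theorem L4662 : sm gi N361 = N529 := rfl
theorem L4664 : sm ga N529 = N529 := ded_18_1 (flp_i L4662) L3189 L4662
theorem L4665 : sm gb N529 = N390 := ded_26_1 (flp_i L3455) (flp_b L3190) L4662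
theorem L4667 : sm gd N529 = N529 := ded_39_1 (flp_i L4662) L3192 L4662
theorem L4668 : sm ge N529 = N368 := ded_44_1 (flp_i L3253) (flp_e L3193) L4662
theorem L4670 : sm gg N529 = N529 := ded_51_1 (flp_i L4662) L3195 L4662
theorem L4671 : sm gj N529 = N363 := ded_53_1 (flp_i L3205) L3187 L4662
theorem L4673 : sm gd N362 = N530 := rfl
theorem L4675 : sm ga N530 = N530 := ded_12_1 (flp_d L4673) L3198 L4673
theorem L4676 : sm gb N530 = N391 := ded_20_1 (flp_d L3466) (flp_b L3199) L4673
theorem L4678 : sm gg N530 = N364 := ded_36_2 (flp_d L3215) (flp_g L3203) L4673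
theorem L4680 : sm gc N530 = N530 := ded_27_1 (flp_d L4673) (flp_c L4464) L4470 L4464 L4673
theorem L4681 : sm ge N530 = N530 := ded_34_2 (flp_d L4673) L3201 L2222 (flp_e L3201) L4673
theorem L4682 : sm gh N530 = N530 := ded_38_2 (flp_d L4673) (flp_h L3196) L2183 L3196 L4673
theorem L4683 : sm gi N362 = N531 := rfl
theorem L4685 : sm ga N531 = N531 := ded_18_1 (flp_i L4683) L3198 L4683
theorem L4686 : sm gb N531 = N392 := ded_26_1 (flp_i L3474) (flp_b L3199) L4683
theorem L4688 : sm ge N531 = N369 := ded_44_1 (flp_i L3264) (flp_e L3201) L4683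
theorem L4690 : sm gg N531 = N365 := ded_51_1 (flp_i L3225) (flp_g L3203) L4683
theorem L4692 : sm gh N363 = N532 := rfl
theorem L4694 : sm ga N532 = N532 := ded_17_1 (flp_h L4692) L3207 L4692
theorem L4695 : sm gb N532 = N393 := ded_25_1 (flp_h L3483) (flp_b L3208) L4692
theorem L4697 : sm ge N532 = N370 := ded_43_1 (flp_h L3273) (flp_e L3211) L4692
theorem L4699 : sm gg N532 = N366 := ded_50_1 (flp_h L3234) (flp_g L3213) L4692
theorem L4701 : sm gi N364 = N533 := rfl
theorem L4703 : sm ga N533 = N533 := ded_18_1 (flp_i L4701) L3217 L4701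
theorem L4704 : sm gb N533 = N395 := ded_26_1 (flp_i L3502) (flp_b L3218) L4701
theorem L4706 : sm gc N533 = N533 := ded_33_1 (flp_i L4701) L3222 L4701
theorem L4707 : sm gd N533 = N365 := ded_39_1 (flp_i L3225) L3215 L4701
theorem L4709 : sm ge N533 = N533 := ded_44_1 (flp_i L4701) L3223 L4701
theorem L4710 : sm gf N533 = N533 := ded_48_1 (flp_i L4701) L3220 L4701
theorem L4711 : sm gj N533 = N533 := ded_53_1 (flp_i L4701) L3221 L4701
theorem L4712 : sm gh N365 = N534 := rfl
theorem L4714 : sm ga N534 = N534 := ded_17_1 (flp_h L4712) L3227 L4712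
theorem L4715 : sm gb N534 = N396 := ded_25_1 (flp_h L3511) (flp_b L3228) L4712
theorem L4717 : sm ge N534 = N371 := ded_43_1 (flp_h L3281) (flp_e L3230) L4712
theorem L4719 : sm gf N534 = N534 := ded_47_1 (flp_h L4712) L3232 L4712
theorem L4720 : sm gj N534 = N534 := ded_52_1 (flp_h L4712) L3233 L4712
theorem L4721 : sm gi N534 = N366 := ded_54_2 (flp_h L3234) (flp_i L2195) L2186 L3225 L4712
theorem L4723 : sm gd N366 = N535 := rfl
theorem L4725 : sm ga N535 = N535 := ded_12_1 (flp_d L4723) L3236 L4723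
theorem L4726 : sm gb N535 = N397 := ded_20_1 (flp_d L3522) (flp_b L3237) L4723
theorem L4728 : sm gf N535 = N535 := ded_35_2 (flp_d L4723) L3241 L4723
theorem L4729 : sm gj N535 = N535 := ded_37_2 (flp_d L4723) L3242 L4723
theorem L4730 : sm gh N535 = N535 := ded_38_2 (flp_d L4723) (flp_h L3234) L2200 L3234 L4723
theorem L4731 : sm gi N367 = N536 := rfl
theorem L4733 : sm ga N536 = N536 := ded_18_1 (flp_i L4731) L3245 L4731
theorem L4734 : sm gb N536 = N398 := ded_26_1 (flp_i L3529) (flp_b L3246) L4731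
theorem L4736 : sm gd N536 = N536 := ded_39_1 (flp_i L4731) L3252 L4731
theorem L4737 : sm gf N536 = N536 := ded_48_1 (flp_i L4731) L3248 L4731
theorem L4738 : sm gg N536 = N536 := ded_51_1 (flp_i L4731) L3249 L4731
theorem L4739 : sm gj N536 = N369 := ded_53_1 (flp_i L3264) (flp_j L3250) L4731
theorem L4741 : sm gh N368 = N537 := rfl
theorem L4743 : sm ga N537 = N537 := ded_17_1 (flp_h L4741) L3255 L4741
theorem L4744 : sm gb N537 = N399 := ded_25_1 (flp_h L3539) (flp_b L3256) L4741
theorem L4746 : sm gf N537 = N537 := ded_47_1 (flp_h L4741) L3260 L4741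
theorem L4747 : sm gg N537 = N537 := ded_50_1 (flp_h L4741) L3261 L4741
theorem L4748 : sm gj N537 = N370 := ded_52_1 (flp_h L3273) (flp_j L3262) L4741
theorem L4750 : sm gh N369 = N538 := rfl
theorem L4752 : sm ga N538 = N538 := ded_17_1 (flp_h L4750) L3266 L4750
theorem L4753 : sm gb N538 = N400 := ded_25_1 (flp_h L3548) (flp_b L3267) L4750
theorem L4755 : sm gf N538 = N538 := ded_47_1 (flp_h L4750) L3270 L4750
theorem L4756 : sm gg N538 = N371 := ded_50_1 (flp_h L3281) (flp_g L3271) L4750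
theorem L4758 : sm gi N538 = N370 := ded_54_2 (flp_h L3273) (flp_i L2223) L2214 L3264 L4750
theorem L4760 : sm gd N370 = N539 := rfl
theorem L4762 : sm ga N539 = N539 := ded_12_1 (flp_d L4760) L3275 L4760
theorem L4763 : sm gb N539 = N401 := ded_20_1 (flp_d L3558) (flp_b L3276) L4760
theorem L4765 : sm gf N539 = N539 := ded_35_2 (flp_d L4760) L3278 L4760
theorem L4766 : sm gg N539 = N372 := ded_36_2 (flp_d L3291) (flp_g L3279) L4760
theorem L4768 : sm gh N539 = N377 := ded_38_2 (flp_d L3340) (flp_h L2280) (flp_d L2228) L3273 L4760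
theorem L4770 : sm gd N371 = N540 := rfl
theorem L4772 : sm ga N540 = N540 := ded_12_1 (flp_d L4770) L3283 L4770
theorem L4773 : sm gb N540 = N402 := ded_20_1 (flp_d L3567) (flp_b L3284) L4770
theorem L4775 : sm gf N540 = N373 := ded_35_2 (flp_d L3301) (flp_f L3286) L4770
theorem L4777 : sm gj N540 = N540 := ded_37_2 (flp_d L4770) L3288 L4770
theorem L4778 : sm gi N540 = N372 := ded_39_2 (flp_d L3291) (flp_i L3289) L4770
theorem L4780 : sm gh N540 = N540 := ded_38_2 (flp_d L4770) (flp_h L3281) L2238 L3281 L4770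
theorem L4781 : sm gc N372 = N541 := rfl
theorem L4783 : sm ga N541 = N541 := ded_11_1 (flp_c L4781) L3293 L4781
theorem L4784 : sm gf N541 = N374 := ded_29_2 (flp_c L3311) (flp_f L3296) L4781
theorem L4786 : sm gj N541 = N541 := ded_31_2 (flp_c L4781) L3298 L4781
theorem L4787 : sm gh N541 = N378 := ded_32_2 (flp_c L3349) (flp_h L3299) L4781
theorem L4789 : sm ge N372 = N542 := rfl
theorem L4791 : sm ga N542 = N542 := ded_13_1 (flp_e L4789) L3293 L4789
theorem L4792 : sm gb N542 = N404 := ded_21_1 (flp_e L3587) (flp_b L3294) L4789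
theorem L4794 : sm gj N542 = N542 := ded_42_2 (flp_e L4789) L3298 L4789
theorem L4795 : sm gh N542 = N379 := ded_43_2 (flp_e L3357) (flp_h L3299) L4789
theorem L4797 : sm gc N373 = N543 := rfl
theorem L4799 : sm ga N543 = N543 := ded_11_1 (flp_c L4797) L3303 L4797
theorem L4800 : sm gg N543 = N543 := ded_30_2 (flp_c L4797) L3306 L4797
theorem L4801 : sm gj N543 = N543 := ded_31_2 (flp_c L4797) L3307 L4797
theorem L4802 : sm gh N543 = N543 := ded_32_2 (flp_c L4797) L3310 L4797
theorem L4803 : sm gi N543 = N374 := ded_33_2 (flp_c L3311) (flp_i L3308) L4797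
theorem L4805 : sm ge N373 = N544 := rfl
theorem L4807 : sm ga N544 = N544 := ded_13_1 (flp_e L4805) L3303 L4805
theorem L4808 : sm gb N544 = N406 := ded_21_1 (flp_e L3604) (flp_b L3304) L4805
theorem L4810 : sm gg N544 = N544 := ded_41_2 (flp_e L4805) L3306 L4805
theorem L4811 : sm gj N544 = N544 := ded_42_2 (flp_e L4805) L3307 L4805
theorem L4812 : sm gh N544 = N544 := ded_43_2 (flp_e L4805) L3310 L4805
theorem L4813 : sm gi N544 = N375 := ded_44_2 (flp_e L3318) (flp_i L3308) L4805
theorem L4815 : sm gd N544 = N544 := ded_34_1 (flp_e L4805) (flp_d L3301) L2255 L3301 L4805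
theorem L4816 : sm gb N374 = N545 := rfl
theorem L4818 : sm gg N545 = N545 := ded_23_2 (flp_b L4816) L3314 L4816
theorem L4819 : sm gj N545 = N545 := ded_24_2 (flp_b L4816) L3315 L4816
theorem L4820 : sm gh N545 = N380 := ded_25_2 (flp_b L3365) (flp_h L3316) L4816
theorem L4822 : sm gc N545 = N407 := ded_19_2 (flp_b L3614) (flp_c L2464) (flp_b L2263) L3311 L4816
theorem L4824 : sm ge N374 = N546 := rfl
theorem L4826 : sm ga N546 = N546 := ded_13_1 (flp_e L4824) L3313 L4824
theorem L4827 : sm gc N546 = N375 := ded_28_1 (flp_e L3318) L3311 L4824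
theorem L4829 : sm gg N546 = N546 := ded_41_2 (flp_e L4824) L3314 L4824
theorem L4830 : sm gj N546 = N546 := ded_42_2 (flp_e L4824) L3315 L4824
theorem L4831 : sm gh N546 = N381 := ded_43_2 (flp_e L3373) (flp_h L3316) L4824
theorem L4833 : sm gf N375 = N547 := rfl
theorem L4835 : sm ga N547 = N547 := ded_14_1 (flp_f L4833) L3320 L4833
theorem L4836 : sm gb N547 = N409 := ded_22_1 (flp_f L3631) (flp_b L3321) L4833
theorem L4838 : sm gd N547 = N547 := ded_35_1 (flp_f L4833) L3327 L4833
theorem L4839 : sm gj N547 = N547 := ded_46_2 (flp_f L4833) L3324 L4833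
theorem L4840 : sm gh N547 = N382 := ded_47_2 (flp_f L3381) (flp_h L3325) L4833
theorem L4842 : sm gd N376 = N548 := rfl
theorem L4844 : sm ga N548 = N548 := ded_12_1 (flp_d L4842) L3330 L4842
theorem L4845 : sm gb N548 = N410 := ded_20_1 (flp_d L3639) (flp_b L3331) L4842
theorem L4847 : sm gf N548 = N548 := ded_35_2 (flp_d L4842) L3335 L4842
theorem L4848 : sm gg N548 = N548 := ded_36_2 (flp_d L4842) L3336 L4842
theorem L4849 : sm gj N548 = N377 := ded_37_2 (flp_d L3340) (flp_j L3337) L4842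
theorem L4851 : sm gi N548 = N548 := ded_39_2 (flp_d L4842) L3339 L4842
theorem L4852 : sm gc N377 = N549 := rfl
theorem L4854 : sm ga N549 = N549 := ded_11_1 (flp_c L4852) L3342 L4852
theorem L4855 : sm gf N549 = N549 := ded_29_2 (flp_c L4852) L3345 L4852
theorem L4856 : sm gg N549 = N378 := ded_30_2 (flp_c L3349) (flp_g L3346) L4852
theorem L4858 : sm gi N549 = N549 := ded_33_2 (flp_c L4852) L3348 L4852
theorem L4859 : sm gd N549 = N549 := ded_27_2 (flp_c L4852) (flp_d L3340) L2285 L3340 L4852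
theorem L4860 : sm ge N377 = N550 := rfl
theorem L4862 : sm ga N550 = N550 := ded_13_1 (flp_e L4860) L3342 L4860
theorem L4863 : sm gb N550 = N412 := ded_21_1 (flp_e L3658) (flp_b L3343) L4860
theorem L4865 : sm gg N550 = N379 := ded_41_2 (flp_e L3357) (flp_g L3346) L4860
theorem L4867 : sm gi N550 = N550 := ded_44_2 (flp_e L4860) L3348 L4860
theorem L4868 : sm gd N550 = N550 := ded_34_1 (flp_e L4860) (flp_d L3340) L2286 L3340 L4860
theorem L4869 : sm gb N378 = N551 := rfl
theorem L4871 : sm gd N551 = N551 := ded_20_2 (flp_b L4869) L3356 L4869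
theorem L4872 : sm gf N551 = N380 := ded_22_2 (flp_b L3365) (flp_f L3352) L4869
theorem L4874 : sm gj N551 = N551 := ded_24_2 (flp_b L4869) L3354 L4869
theorem L4875 : sm gi N551 = N551 := ded_26_2 (flp_b L4869) L3355 L4869
theorem L4876 : sm gc N551 = N413 := ded_19_2 (flp_b L3666) (flp_c L2502) (flp_b L2294) L3349 L4869
theorem L4878 : sm ge N378 = N552 := rfl
theorem L4880 : sm ga N552 = N552 := ded_13_1 (flp_e L4878) L3351 L4878
theorem L4881 : sm gc N552 = N379 := ded_28_1 (flp_e L3357) L3349 L4878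
theorem L4883 : sm gj N552 = N552 := ded_42_2 (flp_e L4878) L3354 L4878
theorem L4884 : sm gi N552 = N552 := ded_44_2 (flp_e L4878) L3355 L4878
theorem L4885 : sm gf N379 = N553 := rfl
theorem L4887 : sm ga N553 = N553 := ded_14_1 (flp_f L4885) L3359 L4885
theorem L4888 : sm gb N553 = N415 := ded_22_1 (flp_f L3682) (flp_b L3360) L4885
theorem L4890 : sm gd N553 = N553 := ded_35_1 (flp_f L4885) L3364 L4885
theorem L4891 : sm gj N553 = N553 := ded_46_2 (flp_f L4885) L3362 L4885
theorem L4892 : sm gi N553 = N553 := ded_48_2 (flp_f L4885) L3363 L4885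
theorem L4893 : sm ge N553 = N382 := ded_40_1 (flp_f L3381) (flp_e L2307) (flp_f L2296) L3357 L4885
theorem L4895 : sm ga N380 = N554 := rfl
theorem L4897 : sm gc N554 = N416 := ded_11_2 (flp_a L3691) (flp_c L3371) L4895
theorem L4899 : sm gd N554 = N554 := ded_12_2 (flp_a L4895) L3367 L4895
theorem L4900 : sm gg N554 = N554 := ded_15_2 (flp_a L4895) L3368 L4895
theorem L4901 : sm gj N554 = N554 := ded_16_2 (flp_a L4895) L3369 L4895
theorem L4902 : sm gi N554 = N554 := ded_18_2 (flp_a L4895) L3370 L4895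
theorem L4903 : sm gb N554 = N554 := ded_10_2 (flp_a L4895) (flp_b L3365) L2302 L3365 L4895
theorem L4904 : sm ge N380 = N555 := rfl
theorem L4906 : sm gb N555 = N381 := ded_21_1 (flp_e L3373) L3365 L4904
theorem L4908 : sm gc N555 = N417 := ded_28_1 (flp_e L3700) (flp_c L3371) L4904
theorem L4910 : sm gg N555 = N555 := ded_41_2 (flp_e L4904) L3368 L4904
theorem L4911 : sm gj N555 = N555 := ded_42_2 (flp_e L4904) L3369 L4904
theorem L4912 : sm gi N555 = N555 := ded_44_2 (flp_e L4904) L3370 L4904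
theorem L4913 : sm gd N381 = N556 := rfl
theorem L4915 : sm ga N556 = N556 := ded_12_1 (flp_d L4913) L3375 L4913
theorem L4916 : sm gg N556 = N556 := ded_36_2 (flp_d L4913) L3378 L4913
theorem L4917 : sm gj N556 = N556 := ded_37_2 (flp_d L4913) L3379 L4913
theorem L4918 : sm gi N556 = N556 := ded_39_2 (flp_d L4913) L3380 L4913
theorem L4919 : sm gc N556 = N383 := ded_27_1 (flp_d L3390) L2321 (flp_d L2315) (flp_c L3376) L4913
theorem L4921 : sm ge N556 = N556 := ded_34_2 (flp_d L4913) (flp_e L3373) L2306 L3373 L4913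
theorem L4922 : sm gf N381 = N557 := rfl
theorem L4924 : sm ga N557 = N557 := ded_14_1 (flp_f L4922) L3375 L4922
theorem L4925 : sm gc N557 = N382 := ded_29_1 (flp_f L3381) (flp_c L3376) L4922
theorem L4927 : sm gj N557 = N557 := ded_46_2 (flp_f L4922) L3379 L4922
theorem L4928 : sm gi N557 = N557 := ded_48_2 (flp_f L4922) L3380 L4922
theorem L4929 : sm gg N382 = N558 := rfl
theorem L4931 : sm ga N558 = N558 := ded_15_1 (flp_g L4929) L3383 L4929
theorem L4932 : sm gb N558 = N419 := ded_23_1 (flp_g L3717) (flp_b L3384) L4929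
theorem L4934 : sm gd N558 = N385 := ded_36_1 (flp_g L3408) (flp_d L3386) L4929
theorem L4936 : sm gi N558 = N558 := ded_51_2 (flp_g L4929) L3389 L4929
theorem L4937 : sm gf N558 = N558 := ded_45_1 (flp_g L4929) (flp_f L3381) L2312 L3381 L4929
theorem L4938 : sm gf N383 = N559 := rfl
theorem L4940 : sm ga N559 = N559 := ded_14_1 (flp_f L4938) L3392 L4938
theorem L4941 : sm gb N559 = N559 := ded_22_1 (flp_f L4938) L3393 L4938
theorem L4942 : sm gd N559 = N384 := ded_35_1 (flp_f L3398) L3390 L4938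
theorem L4944 : sm gj N559 = N559 := ded_46_2 (flp_f L4938) L3395 L4938
theorem L4945 : sm gi N559 = N559 := ded_48_2 (flp_f L4938) L3396 L4938
theorem L4946 : sm gh N383 = N560 := rfl
theorem L4948 : sm ga N560 = N560 := ded_17_1 (flp_h L4946) L3392 L4946
theorem L4949 : sm gb N560 = N560 := ded_25_1 (flp_h L4946) L3393 L4946
theorem L4950 : sm ge N560 = N560 := ded_43_1 (flp_h L4946) L3397 L4946
theorem L4951 : sm gg N560 = N560 := ded_50_1 (flp_h L4946) L3394 L4946
theorem L4952 : sm gj N560 = N560 := ded_52_1 (flp_h L4946) L3395 L4946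
theorem L4953 : sm gd N560 = N560 := ded_38_1 (flp_h L4946) (flp_d L3390) L2325 L3390 L4946
theorem L4954 : sm gg N384 = N561 := rfl
theorem L4956 : sm ga N561 = N561 := ded_15_1 (flp_g L4954) L3400 L4954
theorem L4957 : sm gb N561 = N561 := ded_23_1 (flp_g L4954) L3401 L4954
theorem L4958 : sm gc N561 = N385 := ded_30_1 (flp_g L3408) (flp_c L3402) L4954
theorem L4960 : sm ge N561 = N561 := ded_41_1 (flp_g L4954) L3407 L4954
theorem L4961 : sm gh N561 = N561 := ded_50_2 (flp_g L4954) L3405 L4954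
theorem L4962 : sm gi N561 = N561 := ded_51_2 (flp_g L4954) L3406 L4954
theorem L4963 : sm gf N561 = N561 := ded_45_1 (flp_g L4954) (flp_f L3398) L2323 L3398 L4954
theorem L4964 : sm gj N385 = N562 := rfl
theorem L4966 : sm ga N562 = N562 := ded_16_1 (flp_j L4964) L3410 L4964
theorem L4967 : sm gb N562 = N420 := ded_24_1 (flp_j L3725) (flp_b L3411) L4964
theorem L4969 : sm ge N562 = N562 := ded_42_1 (flp_j L4964) L3413 L4964
theorem L4970 : sm gf N562 = N562 := ded_46_1 (flp_j L4964) L3416 L4964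
theorem L4971 : sm gh N562 = N562 := ded_52_2 (flp_j L4964) L3414 L4964
theorem L4972 : sm gi N562 = N562 := ded_53_2 (flp_j L4964) L3415 L4964
theorem L4973 : sm gg N562 = N562 := ded_49_1 (flp_j L4964) (flp_g L3408) L2332 L3408 L4964
theorem L4974 : sm gg N386 = N563 := rfl
theorem L4976 : sm ga N563 = N429 := ded_15_1 (flp_g L3811) (flp_a L3419) L4974
theorem L4978 : sm gc N563 = N563 := ded_30_1 (flp_g L4974) L3421 L4974
theorem L4979 : sm gd N563 = N563 := ded_36_1 (flp_g L4974) L3422 L4974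
theorem L4980 : sm ge N563 = N563 := ded_41_1 (flp_g L4974) L3423 L4974
theorem L4981 : sm gf N563 = N563 := ded_45_1 (flp_g L4974) L3424 L2352 (flp_f L3424) L4974
theorem L4982 : sm gj N563 = N563 := ded_49_2 (flp_g L4974) (flp_j L3417) L2343 L3417 L4974
theorem L4983 : sm gh N386 = N564 := rfl
theorem L4985 : sm ga N564 = N430 := ded_17_1 (flp_h L3819) (flp_a L3419) L4983
theorem L4987 : sm gc N564 = N564 := ded_32_1 (flp_h L4983) L3421 L4983
theorem L4988 : sm ge N564 = N564 := ded_43_1 (flp_h L4983) L3423 L4983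
theorem L4989 : sm gf N564 = N389 := ded_47_1 (flp_h L3445) (flp_f L3424) L4983
theorem L4991 : sm gj N564 = N387 := ded_52_1 (flp_h L3426) L3417 L4983
theorem L4993 : sm gi N386 = N565 := rfl
theorem L4995 : sm ga N565 = N431 := ded_18_1 (flp_i L3828) (flp_a L3419) L4993
theorem L4997 : sm gc N565 = N565 := ded_33_1 (flp_i L4993) L3421 L4993
theorem L4998 : sm gd N565 = N565 := ded_39_1 (flp_i L4993) L3422 L4993
theorem L4999 : sm ge N565 = N565 := ded_44_1 (flp_i L4993) L3423 L4993
theorem L5000 : sm gf N565 = N390 := ded_48_1 (flp_i L3455) (flp_f L3424) L4993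
theorem L5002 : sm gj N565 = N388 := ded_53_1 (flp_i L3435) L3417 L4993
theorem L5004 : sm gd N387 = N566 := rfl
theorem L5006 : sm ga N566 = N432 := ded_12_1 (flp_d L3838) (flp_a L3428) L5004
theorem L5008 : sm gf N566 = N391 := ded_35_2 (flp_d L3466) (flp_f L3432) L5004
theorem L5010 : sm gg N566 = N566 := ded_36_2 (flp_d L5004) L3434 L5004
theorem L5011 : sm gh N566 = N566 := ded_38_2 (flp_d L5004) (flp_h L3426) L2341 L3426 L5004
theorem L5012 : sm gi N387 = N567 := rfl
theorem L5014 : sm ga N567 = N433 := ded_18_1 (flp_i L3845) (flp_a L3428) L5012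
theorem L5016 : sm gc N567 = N567 := ded_33_1 (flp_i L5012) L3430 L5012
theorem L5017 : sm ge N567 = N567 := ded_44_1 (flp_i L5012) L3431 L5012
theorem L5018 : sm gf N567 = N392 := ded_48_1 (flp_i L3474) (flp_f L3432) L5012
theorem L5020 : sm gg N567 = N567 := ded_51_1 (flp_i L5012) L3434 L5012
theorem L5021 : sm gh N388 = N568 := rfl
theorem L5023 : sm ga N568 = N434 := ded_17_1 (flp_h L3853) (flp_a L3437) L5021
theorem L5025 : sm gc N568 = N568 := ded_32_1 (flp_h L5021) L3439 L5021
theorem L5026 : sm ge N568 = N568 := ded_43_1 (flp_h L5021) L3441 L5021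
theorem L5027 : sm gf N568 = N393 := ded_47_1 (flp_h L3483) (flp_f L3442) L5021
theorem L5029 : sm gg N568 = N568 := ded_50_1 (flp_h L5021) L3444 L5021
theorem L5030 : sm gd N389 = N569 := rfl
theorem L5032 : sm ga N569 = N435 := ded_12_1 (flp_d L3861) (flp_a L3447) L5030
theorem L5034 : sm gg N569 = N569 := ded_36_2 (flp_d L5030) L3452 L5030
theorem L5035 : sm gj N569 = N391 := ded_37_2 (flp_d L3466) (flp_j L3453) L5030
theorem L5037 : sm ge N569 = N569 := ded_34_2 (flp_d L5030) L3450 L2407 (flp_e L3450) L5030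
theorem L5038 : sm gh N569 = N569 := ded_38_2 (flp_d L5030) (flp_h L3445) L2349 L3445 L5030
theorem L5039 : sm gi N389 = N570 := rfl
theorem L5041 : sm ga N570 = N436 := ded_18_1 (flp_i L3869) (flp_a L3447) L5039
theorem L5043 : sm gc N570 = N570 := ded_33_1 (flp_i L5039) L3449 L5039
theorem L5044 : sm ge N570 = N398 := ded_44_1 (flp_i L3529) (flp_e L3450) L5039
theorem L5046 : sm gg N570 = N570 := ded_51_1 (flp_i L5039) L3452 L5039
theorem L5047 : sm gj N570 = N392 := ded_53_1 (flp_i L3474) (flp_j L3453) L5039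
theorem L5049 : sm gh N390 = N571 := rfl
theorem L5051 : sm ga N571 = N437 := ded_17_1 (flp_h L3878) (flp_a L3457) L5049
theorem L5053 : sm gc N571 = N571 := ded_32_1 (flp_h L5049) L3459 L5049
theorem L5054 : sm ge N571 = N399 := ded_43_1 (flp_h L3539) (flp_e L3461) L5049
theorem L5056 : sm gg N571 = N571 := ded_50_1 (flp_h L5049) L3463 L5049
theorem L5057 : sm gj N571 = N393 := ded_52_1 (flp_h L3483) (flp_j L3464) L5049
theorem L5059 : sm gc N391 = N572 := rfl
theorem L5061 : sm ga N572 = N438 := ded_11_1 (flp_c L3887) (flp_a L3468) L5059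
theorem L5063 : sm ge N572 = N572 := ded_28_2 (flp_c L5059) L3472 L5059
theorem L5064 : sm gg N572 = N394 := ded_30_2 (flp_c L3492) (flp_g L3470) L5059
theorem L5066 : sm gh N572 = N572 := ded_32_2 (flp_c L5059) L3473 L5059
theorem L5067 : sm gb N572 = N572 := ded_19_1 (flp_c L5059) (flp_b L4676) L4680 L4676 L5059
theorem L5068 : sm gd N572 = N572 := ded_27_2 (flp_c L5059) (flp_d L3466) L2357 L3466 L5059
theorem L5069 : sm gi N391 = N573 := rfl
theorem L5071 : sm ga N573 = N439 := ded_18_1 (flp_i L3894) (flp_a L3468) L5069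
theorem L5073 : sm gd N573 = N392 := ded_39_1 (flp_i L3474) L3466 L5069
theorem L5075 : sm ge N573 = N573 := ded_44_1 (flp_i L5069) L3472 L5069
theorem L5076 : sm gg N573 = N395 := ded_51_1 (flp_i L3502) (flp_g L3470) L5069
theorem L5078 : sm gh N392 = N574 := rfl
theorem L5080 : sm ga N574 = N440 := ded_17_1 (flp_h L3902) (flp_a L3476) L5078
theorem L5082 : sm gc N574 = N574 := ded_32_1 (flp_h L5078) L3478 L5078
theorem L5083 : sm ge N574 = N400 := ded_43_1 (flp_h L3548) (flp_e L3479) L5078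
theorem L5085 : sm gg N574 = N396 := ded_50_1 (flp_h L3511) (flp_g L3481) L5078
theorem L5087 : sm gi N574 = N393 := ded_54_2 (flp_h L3483) (flp_i L2362) L2353 L3474 L5078
theorem L5089 : sm gd N393 = N575 := rfl
theorem L5091 : sm ga N575 = N441 := ded_12_1 (flp_d L3912) (flp_a L3485) L5089
theorem L5093 : sm gg N575 = N397 := ded_36_2 (flp_d L3522) (flp_g L3490) L5089
theorem L5095 : sm gh N575 = N575 := ded_38_2 (flp_d L5089) (flp_h L3483) L2367 L3483 L5089
theorem L5096 : sm gi N394 = N576 := rfl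
theorem L5098 : sm ga N576 = N443 := ded_18_1 (flp_i L3927) (flp_a L3494) L5096
theorem L5100 : sm gb N576 = N576 := ded_26_1 (flp_i L5096) L3500 L5096
theorem L5101 : sm gc N576 = N395 := ded_33_1 (flp_i L3502) L3492 L5096
theorem L5103 : sm gd N576 = N576 := ded_39_1 (flp_i L5096) L3501 L5096
theorem L5104 : sm ge N576 = N576 := ded_44_1 (flp_i L5096) L3496 L5096
theorem L5105 : sm gf N576 = N576 := ded_48_1 (flp_i L5096) L3497 L5096
theorem L5106 : sm gj N576 = N576 := ded_53_1 (flp_i L5096) L3498 L5096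
theorem L5107 : sm gh N395 = N577 := rfl
theorem L5109 : sm ga N577 = N444 := ded_17_1 (flp_h L3935) (flp_a L3504) L5107
theorem L5111 : sm ge N577 = N577 := ded_43_1 (flp_h L5107) L3508 L5107
theorem L5112 : sm gf N577 = N577 := ded_47_1 (flp_h L5107) L3509 L5107
theorem L5113 : sm gj N577 = N577 := ded_52_1 (flp_h L5107) L3510 L5107
theorem L5114 : sm gi N577 = N577 := ded_54_2 (flp_h L5107) (flp_i L3502) L2379 L3502 L5107
theorem L5115 : sm gd N396 = N578 := rfl
theorem L5117 : sm ga N578 = N445 := ded_12_1 (flp_d L3942) (flp_a L3513) L5115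
theorem L5119 : sm gf N578 = N578 := ded_35_2 (flp_d L5115) L3518 L5115
theorem L5120 : sm gj N578 = N578 := ded_37_2 (flp_d L5115) L3519 L5115
theorem L5121 : sm gi N578 = N397 := ded_39_2 (flp_d L3522) (flp_i L3520) L5115
theorem L5123 : sm gc N397 = N579 := rfl
theorem L5125 : sm ga N579 = N446 := ded_11_1 (flp_c L3949) (flp_a L3524) L5123
theorem L5127 : sm gf N579 = N579 := ded_29_2 (flp_c L5123) L3526 L5123
theorem L5128 : sm gj N579 = N579 := ded_31_2 (flp_c L5123) L3527 L5123
theorem L5129 : sm gh N579 = N579 := ded_32_2 (flp_c L5123) L3528 L5123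
theorem L5130 : sm gd N579 = N579 := ded_27_2 (flp_c L5123) (flp_d L3522) L2393 L3522 L5123
theorem L5131 : sm ge N397 = N580 := rfl
theorem L5133 : sm ga N580 = N447 := ded_13_1 (flp_e L3955) (flp_a L3524) L5131
theorem L5135 : sm gj N580 = N580 := ded_42_2 (flp_e L5131) L3527 L5131
theorem L5136 : sm gh N580 = N580 := ded_43_2 (flp_e L5131) L3528 L5131
theorem L5137 : sm gd N580 = N404 := ded_34_1 (flp_e L3587) (flp_d L2446) (flp_e L2394) L3522 L5131
theorem L5139 : sm gh N398 = N581 := rfl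
theorem L5141 : sm ga N581 = N448 := ded_17_1 (flp_h L3962) (flp_a L3531) L5139
theorem L5143 : sm gc N581 = N581 := ded_32_1 (flp_h L5139) L3533 L5139
theorem L5144 : sm gf N581 = N581 := ded_47_1 (flp_h L5139) L3535 L5139
theorem L5145 : sm gg N581 = N581 := ded_50_1 (flp_h L5139) L3536 L5139
theorem L5146 : sm gj N581 = N400 := ded_52_1 (flp_h L3548) (flp_j L3537) L5139
theorem L5148 : sm gi N581 = N399 := ded_54_2 (flp_h L3539) (flp_i L2408) L2398 L3529 L5139
theorem L5150 : sm gd N399 = N582 := rfl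
theorem L5152 : sm ga N582 = N449 := ded_12_1 (flp_d L3972) (flp_a L3541) L5150
theorem L5154 : sm gf N582 = N582 := ded_35_2 (flp_d L5150) L3544 L5150
theorem L5155 : sm gg N582 = N582 := ded_36_2 (flp_d L5150) L3545 L5150
theorem L5156 : sm gj N582 = N401 := ded_37_2 (flp_d L3558) (flp_j L3546) L5150
theorem L5158 : sm gh N582 = N410 := ded_38_2 (flp_d L3639) (flp_h L2482) (flp_d L2413) L3539 L5150
theorem L5160 : sm gd N400 = N583 := rfl
theorem L5162 : sm ga N583 = N450 := ded_12_1 (flp_d L3981) (flp_a L3550) L5160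
theorem L5164 : sm gf N583 = N583 := ded_35_2 (flp_d L5160) L3553 L5160
theorem L5165 : sm gg N583 = N402 := ded_36_2 (flp_d L3567) (flp_g L3554) L5160
theorem L5167 : sm gi N583 = N401 := ded_39_2 (flp_d L3558) (flp_i L3556) L5160
theorem L5169 : sm gh N583 = N583 := ded_38_2 (flp_d L5160) (flp_h L3548) L2424 L3548 L5160
theorem L5170 : sm gc N401 = N584 := rfl
theorem L5172 : sm ga N584 = N451 := ded_11_1 (flp_c L3990) (flp_a L3560) L5170
theorem L5174 : sm gf N584 = N584 := ded_29_2 (flp_c L5170) L3562 L5170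
theorem L5175 : sm gg N584 = N403 := ded_30_2 (flp_c L3577) (flp_g L3563) L5170
theorem L5177 : sm gh N584 = N411 := ded_32_2 (flp_c L3648) (flp_h L3565) L5170
theorem L5179 : sm gd N584 = N584 := ded_27_2 (flp_c L5170) (flp_d L3558) L2432 L3558 L5170
theorem L5180 : sm ge N401 = N585 := rfl
theorem L5182 : sm ga N585 = N452 := ded_13_1 (flp_e L3998) (flp_a L3560) L5180
theorem L5184 : sm gg N585 = N404 := ded_41_2 (flp_e L3587) (flp_g L3563) L5180
theorem L5186 : sm gh N585 = N412 := ded_43_2 (flp_e L3658) (flp_h L3565) L5180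
theorem L5188 : sm gc N402 = N586 := rfl
theorem L5190 : sm ga N586 = N453 := ded_11_1 (flp_c L4005) (flp_a L3569) L5188
theorem L5192 : sm gf N586 = N405 := ded_29_2 (flp_c L3594) (flp_f L3571) L5188
theorem L5194 : sm gj N586 = N586 := ded_31_2 (flp_c L5188) L3573 L5188
theorem L5195 : sm gh N586 = N586 := ded_32_2 (flp_c L5188) L3576 L5188
theorem L5196 : sm gi N586 = N403 := ded_33_2 (flp_c L3577) (flp_i L3574) L5188
theorem L5198 : sm gd N586 = N586 := ded_27_2 (flp_c L5188) (flp_d L3567) L2440 L3567 L5188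
theorem L5199 : sm ge N402 = N587 := rfl
theorem L5201 : sm ga N587 = N454 := ded_13_1 (flp_e L4014) (flp_a L3569) L5199
theorem L5203 : sm gj N587 = N587 := ded_42_2 (flp_e L5199) L3573 L5199
theorem L5204 : sm gh N587 = N587 := ded_43_2 (flp_e L5199) L3576 L5199
theorem L5205 : sm gi N587 = N404 := ded_44_2 (flp_e L3587) (flp_i L3574) L5199
theorem L5207 : sm gb N403 = N588 := rfl
theorem L5209 : sm gd N588 = N588 := ded_20_2 (flp_b L5207) L3586 L5207
theorem L5210 : sm gf N588 = N407 := ded_22_2 (flp_b L3614) (flp_f L3581) L5207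
theorem L5212 : sm gj N588 = N588 := ded_24_2 (flp_b L5207) L3583 L5207
theorem L5213 : sm gh N588 = N413 := ded_25_2 (flp_b L3666) (flp_h L3584) L5207
theorem L5215 : sm ge N403 = N589 := rfl
theorem L5217 : sm ga N589 = N456 := ded_13_1 (flp_e L4030) (flp_a L3579) L5215
theorem L5219 : sm gc N589 = N404 := ded_28_1 (flp_e L3587) L3577 L5215
theorem L5221 : sm gj N589 = N589 := ded_42_2 (flp_e L5215) L3583 L5215
theorem L5222 : sm gh N589 = N414 := ded_43_2 (flp_e L3674) (flp_h L3584) L5215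
theorem L5224 : sm gf N404 = N590 := rfl
theorem L5226 : sm ga N590 = N457 := ded_14_1 (flp_f L4037) (flp_a L3589) L5224
theorem L5228 : sm gj N590 = N590 := ded_46_2 (flp_f L5224) L3591 L5224
theorem L5229 : sm gh N590 = N415 := ded_47_2 (flp_f L3682) (flp_h L3592) L5224
theorem L5231 : sm ge N590 = N409 := ded_40_1 (flp_f L3631) (flp_e L2473) (flp_f L2450) L3587 L5224
theorem L5233 : sm gb N405 = N591 := rfl
theorem L5235 : sm gd N591 = N591 := ded_20_2 (flp_b L5233) L3603 L5233
theorem L5236 : sm gg N591 = N591 := ded_23_2 (flp_b L5233) L3598 L5233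
theorem L5237 : sm gj N591 = N591 := ded_24_2 (flp_b L5233) L3599 L5233
theorem L5238 : sm gh N591 = N591 := ded_25_2 (flp_b L5233) L3600 L5233
theorem L5239 : sm gi N591 = N407 := ded_26_2 (flp_b L3614) (flp_i L3601) L5233
theorem L5241 : sm ge N405 = N592 := rfl
theorem L5243 : sm ga N592 = N459 := ded_13_1 (flp_e L4054) (flp_a L3596) L5241
theorem L5245 : sm gc N592 = N406 := ded_28_1 (flp_e L3604) L3594 L5241
theorem L5247 : sm gg N592 = N592 := ded_41_2 (flp_e L5241) L3598 L5241
theorem L5248 : sm gj N592 = N592 := ded_42_2 (flp_e L5241) L3599 L5241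
theorem L5249 : sm gh N592 = N592 := ded_43_2 (flp_e L5241) L3600 L5241
theorem L5250 : sm gi N592 = N408 := ded_44_2 (flp_e L3621) (flp_i L3601) L5241
theorem L5252 : sm gf N406 = N593 := rfl
theorem L5254 : sm ga N593 = N460 := ded_14_1 (flp_f L4063) (flp_a L3606) L5252
theorem L5256 : sm gd N593 = N593 := ded_35_1 (flp_f L5252) L3613 L5252
theorem L5257 : sm gj N593 = N593 := ded_46_2 (flp_f L5252) L3609 L5252
theorem L5258 : sm gh N593 = N593 := ded_47_2 (flp_f L5252) L3610 L5252
theorem L5259 : sm gi N593 = N409 := ded_48_2 (flp_f L3631) (flp_i L3611) L5252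
theorem L5261 : sm ga N407 = N594 := rfl
theorem L5263 : sm gd N594 = N594 := ded_12_2 (flp_a L5261) L3616 L5261
theorem L5264 : sm gg N594 = N594 := ded_15_2 (flp_a L5261) L3617 L5261
theorem L5265 : sm gj N594 = N594 := ded_16_2 (flp_a L5261) L3618 L5261
theorem L5266 : sm gh N594 = N416 := ded_17_2 (flp_a L3691) (flp_h L3619) L5261
theorem L5268 : sm gb N594 = N461 := ded_10_2 (flp_a L4071) (flp_b L2783) (flp_a L2466) L3614 L5261
theorem L5270 : sm ge N407 = N595 := rfl
theorem L5272 : sm gb N595 = N408 := ded_21_1 (flp_e L3621) L3614 L5270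
theorem L5274 : sm gg N595 = N595 := ded_41_2 (flp_e L5270) L3617 L5270
theorem L5275 : sm gj N595 = N595 := ded_42_2 (flp_e L5270) L3618 L5270
theorem L5276 : sm gh N595 = N417 := ded_43_2 (flp_e L3700) (flp_h L3619) L5270
theorem L5278 : sm gd N408 = N596 := rfl
theorem L5280 : sm ga N596 = N463 := ded_12_1 (flp_d L4088) (flp_a L3623) L5278
theorem L5282 : sm gg N596 = N596 := ded_36_2 (flp_d L5278) L3627 L5278
theorem L5283 : sm gj N596 = N596 := ded_37_2 (flp_d L5278) L3628 L5278
theorem L5284 : sm gc N596 = N596 := ded_27_1 (flp_d L5278) L3625 L2481 (flp_c L3625) L5278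
theorem L5285 : sm ge N596 = N596 := ded_34_2 (flp_d L5278) (flp_e L3621) L2472 L3621 L5278
theorem L5286 : sm gh N596 = N596 := ded_38_2 (flp_d L5278) L3629 L2535 (flp_h L3629) L5278
theorem L5287 : sm gf N408 = N597 := rfl
theorem L5289 : sm ga N597 = N464 := ded_14_1 (flp_f L4095) (flp_a L3623) L5287
theorem L5291 : sm gc N597 = N409 := ded_29_1 (flp_f L3631) (flp_c L3625) L5287
theorem L5293 : sm gj N597 = N597 := ded_46_2 (flp_f L5287) L3628 L5287
theorem L5294 : sm gh N597 = N418 := ded_47_2 (flp_f L3708) (flp_h L3629) L5287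
theorem L5296 : sm gg N409 = N598 := rfl
theorem L5298 : sm ga N598 = N465 := ded_15_1 (flp_g L4102) (flp_a L3633) L5296
theorem L5300 : sm gd N598 = N598 := ded_36_1 (flp_g L5296) L3635 L5296
theorem L5301 : sm gh N598 = N419 := ded_50_2 (flp_g L3717) (flp_h L3637) L5296
theorem L5303 : sm gf N598 = N598 := ded_45_1 (flp_g L5296) (flp_f L3631) L2477 L3631 L5296
theorem L5304 : sm gc N410 = N599 := rfl
theorem L5306 : sm ga N599 = N466 := ded_11_1 (flp_c L4109) (flp_a L3641) L5304
theorem L5308 : sm gf N599 = N599 := ded_29_2 (flp_c L5304) L3643 L5304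
theorem L5309 : sm gg N599 = N599 := ded_30_2 (flp_c L5304) L3644 L5304
theorem L5310 : sm gj N599 = N411 := ded_31_2 (flp_c L3648) (flp_j L3645) L5304
theorem L5312 : sm gi N599 = N599 := ded_33_2 (flp_c L5304) L3647 L5304
theorem L5313 : sm gd N599 = N421 := ded_27_2 (flp_c L3735) (flp_d L2553) (flp_c L2486) L3639 L5304
theorem L5315 : sm ge N410 = N600 := rfl
theorem L5317 : sm ga N600 = N467 := ded_13_1 (flp_e L4118) (flp_a L3641) L5315
theorem L5319 : sm gg N600 = N600 := ded_41_2 (flp_e L5315) L3644 L5315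
theorem L5320 : sm gj N600 = N412 := ded_42_2 (flp_e L3658) (flp_j L3645) L5315
theorem L5322 : sm gi N600 = N600 := ded_44_2 (flp_e L5315) L3647 L5315
theorem L5323 : sm gd N600 = N600 := ded_34_1 (flp_e L5315) (flp_d L3639) L2488 L3639 L5315
theorem L5324 : sm gb N411 = N601 := rfl
theorem L5326 : sm gd N601 = N423 := ded_20_2 (flp_b L3756) (flp_d L3656) L5324
theorem L5328 : sm gf N601 = N601 := ded_22_2 (flp_b L5324) L3652 L5324
theorem L5329 : sm gg N601 = N413 := ded_23_2 (flp_b L3666) (flp_g L3653) L5324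
theorem L5331 : sm gi N601 = N601 := ded_26_2 (flp_b L5324) L3655 L5324
theorem L5332 : sm ge N411 = N602 := rfl
theorem L5334 : sm ga N602 = N469 := ded_13_1 (flp_e L4135) (flp_a L3650) L5332
theorem L5336 : sm gc N602 = N412 := ded_28_1 (flp_e L3658) L3648 L5332
theorem L5338 : sm gg N602 = N414 := ded_41_2 (flp_e L3674) (flp_g L3653) L5332
theorem L5340 : sm gi N602 = N602 := ded_44_2 (flp_e L5332) L3655 L5332
theorem L5341 : sm gf N412 = N603 := rfl
theorem L5343 : sm ga N603 = N470 := ded_14_1 (flp_f L4142) (flp_a L3660) L5341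
theorem L5345 : sm gd N603 = N603 := ded_35_1 (flp_f L5341) L3665 L5341
theorem L5346 : sm gi N603 = N603 := ded_48_2 (flp_f L5341) L3664 L5341
theorem L5347 : sm ge N603 = N603 := ded_40_1 (flp_f L5341) (flp_e L3658) L2498 L3658 L5341
theorem L5348 : sm ga N413 = N604 := rfl
theorem L5350 : sm gd N604 = N426 := ded_12_2 (flp_a L3784) (flp_d L3668) L5348
theorem L5352 : sm gf N604 = N416 := ded_14_2 (flp_a L3691) (flp_f L3670) L5348
theorem L5354 : sm gj N604 = N604 := ded_16_2 (flp_a L5348) L3672 L5348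
theorem L5355 : sm gi N604 = N604 := ded_18_2 (flp_a L5348) L3673 L5348
theorem L5356 : sm gb N604 = N471 := ded_10_2 (flp_a L4148) (flp_b L2829) (flp_a L2504) L3666 L5348
theorem L5358 : sm ge N413 = N605 := rfl
theorem L5360 : sm gb N605 = N414 := ded_21_1 (flp_e L3674) L3666 L5358
theorem L5362 : sm gj N605 = N605 := ded_42_2 (flp_e L5358) L3672 L5358
theorem L5363 : sm gi N605 = N605 := ded_44_2 (flp_e L5358) L3673 L5358
theorem L5364 : sm gd N414 = N606 := rfl
theorem L5366 : sm ga N606 = N473 := ded_12_1 (flp_d L4164) (flp_a L3676) L5364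
theorem L5368 : sm gj N606 = N606 := ded_37_2 (flp_d L5364) L3680 L5364
theorem L5369 : sm gi N606 = N606 := ded_39_2 (flp_d L5364) L3681 L5364
theorem L5370 : sm gc N606 = N606 := ded_27_1 (flp_d L5364) L3678 L2518 (flp_c L3678) L5364
theorem L5371 : sm ge N606 = N428 := ded_34_2 (flp_d L3803) (flp_e L2591) (flp_d L2510) L3674 L5364
theorem L5373 : sm gf N414 = N607 := rfl
theorem L5375 : sm ga N607 = N474 := ded_14_1 (flp_f L4171) (flp_a L3676) L5373
theorem L5377 : sm gc N607 = N415 := ded_29_1 (flp_f L3682) (flp_c L3678) L5373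
theorem L5379 : sm gj N607 = N607 := ded_46_2 (flp_f L5373) L3680 L5373
theorem L5380 : sm gi N607 = N607 := ded_48_2 (flp_f L5373) L3681 L5373
theorem L5381 : sm ge N607 = N418 := ded_40_1 (flp_f L3708) (flp_e L2526) (flp_f L2506) L3674 L5373
theorem L5383 : sm gg N415 = N608 := rfl
theorem L5385 : sm ga N608 = N475 := ded_15_1 (flp_g L4179) (flp_a L3684) L5383
theorem L5387 : sm gd N608 = N608 := ded_36_1 (flp_g L5383) L3686 L5383
theorem L5388 : sm ge N608 = N419 := ded_41_1 (flp_g L3717) (flp_e L3689) L5383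
theorem L5390 : sm gi N608 = N608 := ded_51_2 (flp_g L5383) L3688 L5383
theorem L5391 : sm ge N416 = N609 := rfl
theorem L5393 : sm ga N609 = N417 := ded_13_1 (flp_e L3700) L3691 L5391
theorem L5395 : sm gb N609 = N476 := ded_21_1 (flp_e L4186) (flp_b L3698) L5391
theorem L5397 : sm gg N609 = N609 := ded_41_2 (flp_e L5391) L3695 L5391
theorem L5398 : sm gj N609 = N609 := ded_42_2 (flp_e L5391) L3696 L5391
theorem L5399 : sm gi N609 = N609 := ded_44_2 (flp_e L5391) L3697 L5391
theorem L5400 : sm gd N609 = N609 := ded_34_1 (flp_e L5391) L3693 L2604 (flp_d L3693) L5391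
theorem L5401 : sm gf N417 = N610 := rfl
theorem L5403 : sm gb N610 = N418 := ded_22_1 (flp_f L3708) (flp_b L3702) L5401
theorem L5405 : sm gd N610 = N610 := ded_35_1 (flp_f L5401) L3707 L5401
theorem L5406 : sm gj N610 = N610 := ded_46_2 (flp_f L5401) L3705 L5401
theorem L5407 : sm gi N610 = N610 := ded_48_2 (flp_f L5401) L3706 L5401
theorem L5408 : sm gg N418 = N611 := rfl
theorem L5410 : sm ga N611 = N478 := ded_15_1 (flp_g L4203) (flp_a L3710) L5408
theorem L5412 : sm gc N611 = N419 := ded_30_1 (flp_g L3717) (flp_c L3712) L5408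
theorem L5414 : sm gd N611 = N611 := ded_36_1 (flp_g L5408) L3714 L5408
theorem L5415 : sm gi N611 = N611 := ded_51_2 (flp_g L5408) L3716 L5408
theorem L5416 : sm gf N611 = N611 := ded_45_1 (flp_g L5408) (flp_f L3708) L2532 L3708 L5408
theorem L5417 : sm gj N419 = N612 := rfl
theorem L5419 : sm ga N612 = N479 := ded_16_1 (flp_j L4210) (flp_a L3719) L5417
theorem L5421 : sm gd N612 = N420 := ded_37_1 (flp_j L3725) (flp_d L3721) L5417
theorem L5423 : sm gf N612 = N612 := ded_46_1 (flp_j L5417) L3724 L5417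
theorem L5424 : sm gi N612 = N612 := ded_53_2 (flp_j L5417) L3723 L5417
theorem L5425 : sm gg N612 = N612 := ded_49_1 (flp_j L5417) (flp_g L3717) L2542 L3717 L5417
theorem L5426 : sm gb N421 = N613 := rfl
theorem L5428 : sm gf N613 = N613 := ded_22_2 (flp_b L5426) L3739 L5426
theorem L5429 : sm gg N613 = N613 := ded_23_2 (flp_b L5426) L3740 L5426
theorem L5430 : sm gj N613 = N423 := ded_24_2 (flp_b L3756) (flp_j L3741) L5426
theorem L5432 : sm gh N613 = N613 := ded_25_2 (flp_b L5426) L3743 L5426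
theorem L5433 : sm gi N613 = N613 := ded_26_2 (flp_b L5426) L3744 L5426
theorem L5434 : sm gc N613 = N613 := ded_19_2 (flp_b L5426) (flp_c L3735) L2557 L3735 L5426
theorem L5435 : sm ge N421 = N614 := rfl
theorem L5437 : sm ga N614 = N481 := ded_13_1 (flp_e L4228) (flp_a L3737) L5435
theorem L5439 : sm gc N614 = N422 := ded_28_1 (flp_e L3745) L3735 L5435
theorem L5441 : sm gg N614 = N614 := ded_41_2 (flp_e L5435) L3740 L5435
theorem L5442 : sm gj N614 = N424 := ded_42_2 (flp_e L3764) (flp_j L3741) L5435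
theorem L5444 : sm gh N614 = N614 := ded_43_2 (flp_e L5435) L3743 L5435
theorem L5445 : sm gi N614 = N614 := ded_44_2 (flp_e L5435) L3744 L5435
theorem L5446 : sm gf N422 = N615 := rfl
theorem L5448 : sm ga N615 = N482 := ded_14_1 (flp_f L4237) (flp_a L3747) L5446
theorem L5450 : sm gb N615 = N615 := ded_22_1 (flp_f L5446) L3749 L5446
theorem L5451 : sm gd N615 = N615 := ded_35_1 (flp_f L5446) L3755 L5446
theorem L5452 : sm gj N615 = N425 := ded_46_2 (flp_f L3774) (flp_j L3751) L5446
theorem L5454 : sm gh N615 = N615 := ded_47_2 (flp_f L5446) L3753 L5446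
theorem L5455 : sm gi N615 = N615 := ded_48_2 (flp_f L5446) L3754 L5446
theorem L5456 : sm ge N615 = N615 := ded_40_1 (flp_f L5446) (flp_e L3745) L2558 L3745 L5446
theorem L5457 : sm ga N423 = N616 := rfl
theorem L5459 : sm gc N616 = N616 := ded_11_2 (flp_a L5457) L3763 L5457
theorem L5460 : sm gf N616 = N616 := ded_14_2 (flp_a L5457) L3758 L5457
theorem L5461 : sm gg N616 = N426 := ded_15_2 (flp_a L3784) (flp_g L3759) L5457
theorem L5463 : sm gh N616 = N616 := ded_17_2 (flp_a L5457) L3761 L5457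
theorem L5464 : sm gi N616 = N616 := ded_18_2 (flp_a L5457) L3762 L5457
theorem L5465 : sm gb N616 = N483 := ded_10_2 (flp_a L4247) (flp_b L2910) (flp_a L2566) L3756 L5457
theorem L5467 : sm ge N423 = N617 := rfl
theorem L5469 : sm gb N617 = N424 := ded_21_1 (flp_e L3764) L3756 L5467
theorem L5471 : sm gc N617 = N617 := ded_28_1 (flp_e L5467) L3763 L5467
theorem L5472 : sm gg N617 = N427 := ded_41_2 (flp_e L3794) (flp_g L3759) L5467
theorem L5474 : sm gh N617 = N617 := ded_43_2 (flp_e L5467) L3761 L5467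
theorem L5475 : sm gi N617 = N617 := ded_44_2 (flp_e L5467) L3762 L5467
theorem L5476 : sm gd N424 = N618 := rfl
theorem L5478 : sm ga N618 = N485 := ded_12_1 (flp_d L4266) (flp_a L3766) L5476
theorem L5480 : sm gg N618 = N428 := ded_36_2 (flp_d L3803) (flp_g L3770) L5476
theorem L5482 : sm gi N618 = N618 := ded_39_2 (flp_d L5476) L3773 L5476
theorem L5483 : sm gc N618 = N618 := ded_27_1 (flp_d L5476) L3768 L2582 (flp_c L3768) L5476
theorem L5484 : sm gf N424 = N619 := rfl
theorem L5486 : sm ga N619 = N486 := ded_14_1 (flp_f L4272) (flp_a L3766) L5484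
theorem L5488 : sm gc N619 = N425 := ded_29_1 (flp_f L3774) (flp_c L3768) L5484
theorem L5490 : sm gh N619 = N619 := ded_47_2 (flp_f L5484) L3772 L5484
theorem L5491 : sm gi N619 = N619 := ded_48_2 (flp_f L5484) L3773 L5484
theorem L5492 : sm ge N619 = N619 := ded_40_1 (flp_f L5484) (flp_e L3764) L2568 L3764 L5484
theorem L5493 : sm gg N619 = N619 := ded_45_2 (flp_f L5484) L3770 L2600 (flp_g L3770) L5484
theorem L5494 : sm ge N426 = N620 := rfl
theorem L5496 : sm ga N620 = N427 := ded_13_1 (flp_e L3794) L3784 L5494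
theorem L5498 : sm gb N620 = N487 := ded_21_1 (flp_e L4280) (flp_b L3792) L5494
theorem L5500 : sm gc N620 = N620 := ded_28_1 (flp_e L5494) L3786 L5494
theorem L5501 : sm gj N620 = N620 := ded_42_2 (flp_e L5494) L3789 L5494
theorem L5502 : sm gh N620 = N620 := ded_43_2 (flp_e L5494) L3790 L5494
theorem L5503 : sm gi N620 = N620 := ded_44_2 (flp_e L5494) L3791 L5494
theorem L5504 : sm gf N620 = N620 := ded_40_2 (flp_e L5494) L3787 L2604 (flp_f L3787) L5494
theorem L5505 : sm gd N427 = N621 := rfl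
theorem L5507 : sm gb N621 = N428 := ded_20_1 (flp_d L3803) (flp_b L3796) L5505
theorem L5509 : sm gf N621 = N621 := ded_35_2 (flp_d L5505) L3802 L5505
theorem L5510 : sm gj N621 = N621 := ded_37_2 (flp_d L5505) L3799 L5505
theorem L5511 : sm gi N621 = N621 := ded_39_2 (flp_d L5505) L3801 L5505
theorem L5512 : sm gh N428 = N622 := rfl
theorem L5514 : sm ga N622 = N489 := ded_17_1 (flp_h L4297) (flp_a L3805) L5512
theorem L5516 : sm gc N622 = N622 := ded_32_1 (flp_h L5512) L3810 L5512
theorem L5517 : sm gf N622 = N622 := ded_47_1 (flp_h L5512) L3807 L5512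
theorem L5518 : sm gj N622 = N622 := ded_52_1 (flp_h L5512) L3808 L5512
theorem L5519 : sm gd N622 = N622 := ded_38_1 (flp_h L5512) (flp_d L3803) L2598 L3803 L5512
theorem L5520 : sm gh N429 = N623 := rfl
theorem L5522 : sm gb N623 = N623 := ded_25_1 (flp_h L5520) L3813 L5520
theorem L5523 : sm gc N623 = N623 := ded_32_1 (flp_h L5520) L3814 L5520
theorem L5524 : sm ge N623 = N623 := ded_43_1 (flp_h L5520) L3816 L5520
theorem L5525 : sm gf N623 = N623 := ded_47_1 (flp_h L5520) L3817 L5520
theorem L5526 : sm gg N623 = N430 := ded_50_1 (flp_h L3819) L3811 L5520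
theorem L5528 : sm gj N623 = N623 := ded_52_1 (flp_h L5520) L3818 L5520
theorem L5529 : sm gi N429 = N624 := rfl
theorem L5531 : sm gb N624 = N624 := ded_26_1 (flp_i L5529) L3813 L5529
theorem L5532 : sm gc N624 = N624 := ded_33_1 (flp_i L5529) L3814 L5529
theorem L5533 : sm gd N624 = N624 := ded_39_1 (flp_i L5529) L3815 L5529
theorem L5534 : sm ge N624 = N624 := ded_44_1 (flp_i L5529) L3816 L5529
theorem L5535 : sm gf N624 = N624 := ded_48_1 (flp_i L5529) L3817 L5529
theorem L5536 : sm gg N624 = N431 := ded_51_1 (flp_i L3828) L3811 L5529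
theorem L5538 : sm gj N624 = N624 := ded_53_1 (flp_i L5529) L3818 L5529
theorem L5539 : sm gd N430 = N625 := rfl
theorem L5541 : sm gb N625 = N625 := ded_20_1 (flp_d L5539) L3821 L5539
theorem L5542 : sm gf N625 = N435 := ded_35_2 (flp_d L3861) (flp_f L3824) L5539
theorem L5544 : sm gj N625 = N432 := ded_37_2 (flp_d L3838) (flp_j L3826) L5539
theorem L5546 : sm gh N625 = N625 := ded_38_2 (flp_d L5539) (flp_h L3819) L2615 L3819 L5539
theorem L5547 : sm gi N430 = N626 := rfl
theorem L5549 : sm gb N626 = N626 := ded_26_1 (flp_i L5547) L3821 L5547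
theorem L5550 : sm gc N626 = N626 := ded_33_1 (flp_i L5547) L3822 L5547
theorem L5551 : sm ge N626 = N626 := ded_44_1 (flp_i L5547) L3823 L5547
theorem L5552 : sm gf N626 = N436 := ded_48_1 (flp_i L3869) (flp_f L3824) L5547
theorem L5554 : sm gj N626 = N433 := ded_53_1 (flp_i L3845) (flp_j L3826) L5547
theorem L5556 : sm gh N431 = N627 := rfl
theorem L5558 : sm gb N627 = N627 := ded_25_1 (flp_h L5556) L3830 L5556
theorem L5559 : sm gc N627 = N627 := ded_32_1 (flp_h L5556) L3831 L5556
theorem L5560 : sm ge N627 = N627 := ded_43_1 (flp_h L5556) L3833 L5556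
theorem L5561 : sm gf N627 = N437 := ded_47_1 (flp_h L3878) (flp_f L3834) L5556
theorem L5563 : sm gj N627 = N434 := ded_52_1 (flp_h L3853) (flp_j L3836) L5556
theorem L5565 : sm gc N432 = N628 := rfl
theorem L5567 : sm gf N628 = N438 := ded_29_2 (flp_c L3887) (flp_f L3841) L5565
theorem L5569 : sm gg N628 = N628 := ded_30_2 (flp_c L5565) L3843 L5565
theorem L5570 : sm gh N628 = N628 := ded_32_2 (flp_c L5565) L3844 L5565
theorem L5571 : sm gd N628 = N628 := ded_27_2 (flp_c L5565) (flp_d L3838) L2622 L3838 L5565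
theorem L5572 : sm ge N432 = N629 := rfl
theorem L5574 : sm gb N629 = N629 := ded_21_1 (flp_e L5572) L3840 L5572
theorem L5575 : sm gg N629 = N629 := ded_41_2 (flp_e L5572) L3843 L5572
theorem L5576 : sm gh N629 = N629 := ded_43_2 (flp_e L5572) L3844 L5572
theorem L5577 : sm gd N629 = N629 := ded_34_1 (flp_e L5572) (flp_d L3838) L2623 L3838 L5572
theorem L5578 : sm gf N629 = N629 := ded_40_2 (flp_e L5572) L3841 L2660 (flp_f L3841) L5572
theorem L5579 : sm gi N432 = N630 := rfl
theorem L5581 : sm gb N630 = N630 := ded_26_1 (flp_i L5579) L3840 L5579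
theorem L5582 : sm gd N630 = N433 := ded_39_1 (flp_i L3845) L3838 L5579
theorem L5584 : sm gf N630 = N439 := ded_48_1 (flp_i L3894) (flp_f L3841) L5579
theorem L5586 : sm gg N630 = N630 := ded_51_1 (flp_i L5579) L3843 L5579
theorem L5587 : sm gh N433 = N631 := rfl
theorem L5589 : sm gb N631 = N631 := ded_25_1 (flp_h L5587) L3847 L5587
theorem L5590 : sm gc N631 = N631 := ded_32_1 (flp_h L5587) L3848 L5587
theorem L5591 : sm ge N631 = N631 := ded_43_1 (flp_h L5587) L3849 L5587
theorem L5592 : sm gf N631 = N440 := ded_47_1 (flp_h L3902) (flp_f L3850) L5587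
theorem L5594 : sm gg N631 = N631 := ded_50_1 (flp_h L5587) L3852 L5587
theorem L5595 : sm gi N631 = N434 := ded_54_2 (flp_h L3853) (flp_i L2627) L2619 L3845 L5587
theorem L5597 : sm gd N434 = N632 := rfl
theorem L5599 : sm gb N632 = N632 := ded_20_1 (flp_d L5597) L3855 L5597
theorem L5600 : sm gf N632 = N441 := ded_35_2 (flp_d L3912) (flp_f L3858) L5597
theorem L5602 : sm gg N632 = N632 := ded_36_2 (flp_d L5597) L3860 L5597
theorem L5603 : sm gh N632 = N632 := ded_38_2 (flp_d L5597) (flp_h L3853) L2631 L3853 L5597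
theorem L5604 : sm gc N435 = N633 := rfl
theorem L5606 : sm ge N633 = N633 := ded_28_2 (flp_c L5604) L3867 L5604
theorem L5607 : sm gg N633 = N633 := ded_30_2 (flp_c L5604) L3864 L5604
theorem L5608 : sm gj N633 = N438 := ded_31_2 (flp_c L3887) (flp_j L3865) L5604
theorem L5610 : sm gh N633 = N633 := ded_32_2 (flp_c L5604) L3868 L5604
theorem L5611 : sm gd N633 = N633 := ded_27_2 (flp_c L5604) (flp_d L3861) L2639 L3861 L5604
theorem L5612 : sm gi N435 = N634 := rfl
theorem L5614 : sm gb N634 = N634 := ded_26_1 (flp_i L5612) L3863 L5612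
theorem L5615 : sm gd N634 = N436 := ded_39_1 (flp_i L3869) L3861 L5612
theorem L5617 : sm ge N634 = N634 := ded_44_1 (flp_i L5612) L3867 L5612
theorem L5618 : sm gg N634 = N634 := ded_51_1 (flp_i L5612) L3864 L5612
theorem L5619 : sm gj N634 = N439 := ded_53_1 (flp_i L3894) (flp_j L3865) L5612
theorem L5621 : sm gh N436 = N635 := rfl
theorem L5623 : sm gb N635 = N635 := ded_25_1 (flp_h L5621) L3871 L5621
theorem L5624 : sm gc N635 = N635 := ded_32_1 (flp_h L5621) L3872 L5621
theorem L5625 : sm ge N635 = N448 := ded_43_1 (flp_h L3962) (flp_e L3873) L5621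
theorem L5627 : sm gg N635 = N635 := ded_50_1 (flp_h L5621) L3875 L5621
theorem L5628 : sm gj N635 = N440 := ded_52_1 (flp_h L3902) (flp_j L3876) L5621
theorem L5630 : sm gi N635 = N437 := ded_54_2 (flp_h L3878) (flp_i L2645) L2636 L3869 L5621
theorem L5632 : sm gd N437 = N636 := rfl
theorem L5634 : sm gb N636 = N636 := ded_20_1 (flp_d L5632) L3880 L5632
theorem L5635 : sm gg N636 = N636 := ded_36_2 (flp_d L5632) L3884 L5632
theorem L5636 : sm gj N636 = N441 := ded_37_2 (flp_d L3912) (flp_j L3885) L5632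
theorem L5638 : sm gh N636 = N636 := ded_38_2 (flp_d L5632) (flp_h L3878) L2649 L3878 L5632
theorem L5639 : sm gb N438 = N637 := rfl
theorem L5641 : sm gd N637 = N637 := ded_20_2 (flp_b L5639) L3893 L5639
theorem L5642 : sm ge N637 = N637 := ded_21_2 (flp_b L5639) L3889 L5639
theorem L5643 : sm gg N637 = N442 := ded_23_2 (flp_b L3918) (flp_g L3890) L5639
theorem L5645 : sm gh N637 = N637 := ded_25_2 (flp_b L5639) L3892 L5639
theorem L5646 : sm ga N637 = N637 := ded_10_1 (flp_b L5639) (flp_a L5061) L5067 L5061 L5639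
theorem L5647 : sm gc N637 = N637 := ded_19_2 (flp_b L5639) (flp_c L3887) L2657 L3887 L5639
theorem L5648 : sm gi N438 = N638 := rfl
theorem L5650 : sm gc N638 = N439 := ded_33_1 (flp_i L3894) L3887 L5648
theorem L5652 : sm gd N638 = N638 := ded_39_1 (flp_i L5648) L3893 L5648
theorem L5653 : sm ge N638 = N638 := ded_44_1 (flp_i L5648) L3889 L5648
theorem L5654 : sm gg N638 = N443 := ded_51_1 (flp_i L3927) (flp_g L3890) L5648
theorem L5656 : sm gh N439 = N639 := rfl
theorem L5658 : sm gb N639 = N639 := ded_25_1 (flp_h L5656) L3896 L5656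
theorem L5659 : sm ge N639 = N639 := ded_43_1 (flp_h L5656) L3899 L5656
theorem L5660 : sm gg N639 = N444 := ded_50_1 (flp_h L3935) (flp_g L3900) L5656
theorem L5662 : sm gi N639 = N639 := ded_54_2 (flp_h L5656) (flp_i L3894) L2661 L3894 L5656
theorem L5663 : sm gd N440 = N640 := rfl
theorem L5665 : sm gb N640 = N640 := ded_20_1 (flp_d L5663) L3904 L5663
theorem L5666 : sm gg N640 = N445 := ded_36_2 (flp_d L3942) (flp_g L3908) L5663
theorem L5668 : sm gi N640 = N441 := ded_39_2 (flp_d L3912) (flp_i L3910) L5663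
theorem L5670 : sm gc N441 = N641 := rfl
theorem L5672 : sm gg N641 = N446 := ded_30_2 (flp_c L3949) (flp_g L3915) L5670
theorem L5674 : sm gh N641 = N641 := ded_32_2 (flp_c L5670) L3917 L5670
theorem L5675 : sm gd N641 = N641 := ded_27_2 (flp_c L5670) (flp_d L3912) L2673 L3912 L5670
theorem L5676 : sm ge N441 = N642 := rfl
theorem L5678 : sm gb N642 = N642 := ded_21_1 (flp_e L5676) L3914 L5676
theorem L5679 : sm gg N642 = N447 := ded_41_2 (flp_e L3955) (flp_g L3915) L5676
theorem L5681 : sm gh N642 = N642 := ded_43_2 (flp_e L5676) L3917 L5676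
theorem L5682 : sm gd N642 = N452 := ded_34_1 (flp_e L3998) (flp_d L2735) (flp_e L2674) L3912 L5676
theorem L5684 : sm gi N442 = N643 := rfl
theorem L5687 : sm gb N643 = N443 := ded_26_1 (flp_i L3927) L3918 L5684
theorem L5689 : sm gc N643 = N643 := ded_33_1 (flp_i L5684) L3926 L5684
theorem L5690 : sm gd N643 = N643 := ded_39_1 (flp_i L5684) L3920 L5684
theorem L5693 : sm gj N643 = N643 := ded_53_1 (flp_i L5684) L3923 L5684
theorem L5694 : sm gh N443 = N644 := rfl
theorem L5696 : sm gc N644 = N444 := ded_32_1 (flp_h L3935) (flp_c L3929) L5694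
theorem L5700 : sm gj N644 = N644 := ded_52_1 (flp_h L5694) L3934 L5694
theorem L5702 : sm gd N444 = N645 := rfl
theorem L5704 : sm gb N645 = N645 := ded_20_1 (flp_d L5702) L3937 L5702
theorem L5705 : sm gf N645 = N645 := ded_35_2 (flp_d L5702) L3939 L5702
theorem L5706 : sm gj N645 = N645 := ded_37_2 (flp_d L5702) L3940 L5702
theorem L5707 : sm gi N645 = N645 := ded_39_2 (flp_d L5702) L3941 L5702
theorem L5708 : sm gh N645 = N445 := ded_38_2 (flp_d L3942) (flp_h L2693) (flp_d L2688) L3935 L5702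
theorem L5710 : sm gc N445 = N646 := rfl
theorem L5712 : sm gf N646 = N646 := ded_29_2 (flp_c L5710) L3945 L5710
theorem L5713 : sm gj N646 = N646 := ded_31_2 (flp_c L5710) L3946 L5710
theorem L5714 : sm gi N646 = N446 := ded_33_2 (flp_c L3949) (flp_i L3947) L5710
theorem L5716 : sm gd N646 = N646 := ded_27_2 (flp_c L5710) (flp_d L3942) L2696 L3942 L5710
theorem L5717 : sm ge N445 = N647 := rfl
theorem L5719 : sm gb N647 = N647 := ded_21_1 (flp_e L5717) L3944 L5717
theorem L5720 : sm gj N647 = N647 := ded_42_2 (flp_e L5717) L3946 L5717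
theorem L5721 : sm gi N647 = N447 := ded_44_2 (flp_e L3955) (flp_i L3947) L5717
theorem L5723 : sm gd N647 = N454 := ded_34_1 (flp_e L4014) (flp_d L2743) (flp_e L2697) L3942 L5717
theorem L5725 : sm gb N446 = N648 := rfl
theorem L5727 : sm gd N648 = N648 := ded_20_2 (flp_b L5725) L3954 L5725
theorem L5728 : sm gf N648 = N648 := ded_22_2 (flp_b L5725) L3951 L5725
theorem L5729 : sm gj N648 = N648 := ded_24_2 (flp_b L5725) L3952 L5725
theorem L5730 : sm gh N648 = N648 := ded_25_2 (flp_b L5725) L3953 L5725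
theorem L5731 : sm gc N648 = N648 := ded_19_2 (flp_b L5725) (flp_c L3949) L2705 L3949 L5725
theorem L5732 : sm ge N446 = N649 := rfl
theorem L5734 : sm gc N649 = N447 := ded_28_1 (flp_e L3955) L3949 L5732
theorem L5736 : sm gj N649 = N649 := ded_42_2 (flp_e L5732) L3952 L5732
theorem L5737 : sm gh N649 = N649 := ded_43_2 (flp_e L5732) L3953 L5732
theorem L5738 : sm gf N447 = N650 := rfl
theorem L5740 : sm gb N650 = N650 := ded_22_1 (flp_f L5738) L3957 L5738
theorem L5741 : sm gd N650 = N457 := ded_35_1 (flp_f L4037) (flp_d L3960) L5738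
theorem L5743 : sm gj N650 = N650 := ded_46_2 (flp_f L5738) L3958 L5738
theorem L5744 : sm gh N650 = N650 := ded_47_2 (flp_f L5738) L3959 L5738
theorem L5745 : sm ge N650 = N650 := ded_40_1 (flp_f L5738) (flp_e L3955) L2706 L3955 L5738
theorem L5746 : sm gd N448 = N651 := rfl
theorem L5748 : sm gb N651 = N651 := ded_20_1 (flp_d L5746) L3964 L5746
theorem L5749 : sm gf N651 = N651 := ded_35_2 (flp_d L5746) L3966 L5746
theorem L5750 : sm gg N651 = N651 := ded_36_2 (flp_d L5746) L3967 L5746
theorem L5751 : sm gj N651 = N450 := ded_37_2 (flp_d L3981) (flp_j L3968) L5746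
theorem L5753 : sm gi N651 = N449 := ded_39_2 (flp_d L3972) (flp_i L3970) L5746
theorem L5755 : sm gh N651 = N651 := ded_38_2 (flp_d L5746) (flp_h L3962) L2713 L3962 L5746
theorem L5756 : sm gc N449 = N652 := rfl
theorem L5758 : sm gf N652 = N652 := ded_29_2 (flp_c L5756) L3975 L5756
theorem L5759 : sm gg N652 = N652 := ded_30_2 (flp_c L5756) L3976 L5756
theorem L5760 : sm gj N652 = N451 := ded_31_2 (flp_c L3990) (flp_j L3977) L5756
theorem L5762 : sm gh N652 = N466 := ded_32_2 (flp_c L4109) (flp_h L3979) L5756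
theorem L5764 : sm gd N652 = N652 := ded_27_2 (flp_c L5756) (flp_d L3972) L2721 L3972 L5756
theorem L5765 : sm ge N449 = N653 := rfl
theorem L5767 : sm gb N653 = N653 := ded_21_1 (flp_e L5765) L3974 L5765
theorem L5768 : sm gg N653 = N653 := ded_41_2 (flp_e L5765) L3976 L5765
theorem L5769 : sm gj N653 = N452 := ded_42_2 (flp_e L3998) (flp_j L3977) L5765
theorem L5771 : sm gh N653 = N467 := ded_43_2 (flp_e L4118) (flp_h L3979) L5765
theorem L5773 : sm gc N450 = N654 := rfl
theorem L5775 : sm gf N654 = N654 := ded_29_2 (flp_c L5773) L3984 L5773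
theorem L5776 : sm gg N654 = N453 := ded_30_2 (flp_c L4005) (flp_g L3985) L5773
theorem L5778 : sm gh N654 = N654 := ded_32_2 (flp_c L5773) L3989 L5773
theorem L5779 : sm gi N654 = N451 := ded_33_2 (flp_c L3990) (flp_i L3987) L5773
theorem L5781 : sm gd N654 = N654 := ded_27_2 (flp_c L5773) (flp_d L3981) L2729 L3981 L5773
theorem L5782 : sm ge N450 = N655 := rfl
theorem L5784 : sm gb N655 = N655 := ded_21_1 (flp_e L5782) L3983 L5782
theorem L5785 : sm gg N655 = N454 := ded_41_2 (flp_e L4014) (flp_g L3985) L5782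
theorem L5787 : sm gh N655 = N655 := ded_43_2 (flp_e L5782) L3989 L5782
theorem L5788 : sm gi N655 = N452 := ded_44_2 (flp_e L3998) (flp_i L3987) L5782
theorem L5790 : sm gb N451 = N656 := rfl
theorem L5792 : sm gd N656 = N656 := ded_20_2 (flp_b L5790) L3997 L5790
theorem L5793 : sm gf N656 = N656 := ded_22_2 (flp_b L5790) L3992 L5790
theorem L5794 : sm gg N656 = N455 := ded_23_2 (flp_b L4021) (flp_g L3993) L5790
theorem L5796 : sm gh N656 = N468 := ded_25_2 (flp_b L4126) (flp_h L3995) L5790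
theorem L5798 : sm gc N656 = N656 := ded_19_2 (flp_b L5790) (flp_c L3990) L2737 L3990 L5790
theorem L5799 : sm ge N451 = N657 := rfl
theorem L5801 : sm gc N657 = N452 := ded_28_1 (flp_e L3998) L3990 L5799
theorem L5803 : sm gg N657 = N456 := ded_41_2 (flp_e L4030) (flp_g L3993) L5799
theorem L5805 : sm gh N657 = N469 := ded_43_2 (flp_e L4135) (flp_h L3995) L5799
theorem L5807 : sm gf N452 = N658 := rfl
theorem L5809 : sm gb N658 = N658 := ded_22_1 (flp_f L5807) L4000 L5807
theorem L5810 : sm gh N658 = N470 := ded_47_2 (flp_f L4142) (flp_h L4003) L5807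
theorem L5812 : sm ge N658 = N658 := ded_40_1 (flp_f L5807) (flp_e L3998) L2738 L3998 L5807
theorem L5813 : sm gb N453 = N659 := rfl
theorem L5815 : sm gd N659 = N659 := ded_20_2 (flp_b L5813) L4013 L5813
theorem L5816 : sm gf N659 = N458 := ded_22_2 (flp_b L4045) (flp_f L4007) L5813
theorem L5818 : sm gj N659 = N659 := ded_24_2 (flp_b L5813) L4009 L5813
theorem L5819 : sm gh N659 = N659 := ded_25_2 (flp_b L5813) L4010 L5813
theorem L5820 : sm gi N659 = N455 := ded_26_2 (flp_b L4021) (flp_i L4011) L5813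
theorem L5822 : sm gc N659 = N659 := ded_19_2 (flp_b L5813) (flp_c L4005) L2745 L4005 L5813
theorem L5823 : sm ge N453 = N660 := rfl
theorem L5825 : sm gc N660 = N454 := ded_28_1 (flp_e L4014) L4005 L5823
theorem L5827 : sm gj N660 = N660 := ded_42_2 (flp_e L5823) L4009 L5823
theorem L5828 : sm gh N660 = N660 := ded_43_2 (flp_e L5823) L4010 L5823
theorem L5829 : sm gi N660 = N456 := ded_44_2 (flp_e L4030) (flp_i L4011) L5823
theorem L5831 : sm gf N454 = N661 := rfl
theorem L5833 : sm gb N661 = N661 := ded_22_1 (flp_f L5831) L4016 L5831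
theorem L5834 : sm gj N661 = N661 := ded_46_2 (flp_f L5831) L4017 L5831
theorem L5835 : sm gh N661 = N661 := ded_47_2 (flp_f L5831) L4018 L5831
theorem L5836 : sm gi N661 = N457 := ded_48_2 (flp_f L4037) (flp_i L4019) L5831
theorem L5838 : sm ge N661 = N460 := ded_40_1 (flp_f L4063) (flp_e L2774) (flp_f L2746) L4014 L5831
theorem L5840 : sm ga N455 = N662 := rfl
theorem L5842 : sm gc N662 = N662 := ded_11_2 (flp_a L5840) L4029 L5840
theorem L5843 : sm gd N662 = N662 := ded_12_2 (flp_a L5840) L4023 L5840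
theorem L5844 : sm gf N662 = N461 := ded_14_2 (flp_a L4071) (flp_f L4024) L5840
theorem L5846 : sm gj N662 = N662 := ded_16_2 (flp_a L5840) L4026 L5840
theorem L5847 : sm gh N662 = N471 := ded_17_2 (flp_a L4148) (flp_h L4027) L5840
theorem L5849 : sm ge N455 = N663 := rfl
theorem L5851 : sm gb N663 = N456 := ded_21_1 (flp_e L4030) L4021 L5849
theorem L5853 : sm gc N663 = N663 := ded_28_1 (flp_e L5849) L4029 L5849
theorem L5854 : sm gj N663 = N663 := ded_42_2 (flp_e L5849) L4026 L5849
theorem L5855 : sm gh N663 = N472 := ded_43_2 (flp_e L4157) (flp_h L4027) L5849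
theorem L5857 : sm gd N456 = N664 := rfl
theorem L5859 : sm gj N664 = N664 := ded_37_2 (flp_d L5857) L4034 L5857
theorem L5860 : sm ge N664 = N664 := ded_34_2 (flp_d L5857) (flp_e L4030) L2759 L4030 L5857
theorem L5861 : sm gf N456 = N665 := rfl
theorem L5863 : sm gc N665 = N457 := ded_29_1 (flp_f L4037) (flp_c L4032) L5861
theorem L5865 : sm gj N665 = N665 := ded_46_2 (flp_f L5861) L4034 L5861
theorem L5866 : sm gh N665 = N474 := ded_47_2 (flp_f L4171) (flp_h L4035) L5861
theorem L5868 : sm ge N665 = N464 := ded_40_1 (flp_f L4095) (flp_e L2791) (flp_f L2754) L4030 L5861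
theorem L5870 : sm gg N457 = N666 := rfl
theorem L5872 : sm gb N666 = N666 := ded_23_1 (flp_g L5870) L4039 L5870
theorem L5873 : sm ge N666 = N465 := ded_41_1 (flp_g L4102) (flp_e L4043) L5870
theorem L5875 : sm gh N666 = N475 := ded_50_2 (flp_g L4179) (flp_h L4041) L5870
theorem L5877 : sm ga N458 = N667 := rfl
theorem L5879 : sm gc N667 = N667 := ded_11_2 (flp_a L5877) L4053 L5877
theorem L5880 : sm gd N667 = N667 := ded_12_2 (flp_a L5877) L4047 L5877
theorem L5881 : sm gg N667 = N667 := ded_15_2 (flp_a L5877) L4048 L5877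
theorem L5882 : sm gj N667 = N667 := ded_16_2 (flp_a L5877) L4049 L5877
theorem L5883 : sm gh N667 = N667 := ded_17_2 (flp_a L5877) L4050 L5877
theorem L5884 : sm gi N667 = N461 := ded_18_2 (flp_a L4071) (flp_i L4051) L5877
theorem L5886 : sm ge N458 = N668 := rfl
theorem L5888 : sm gb N668 = N459 := ded_21_1 (flp_e L4054) L4045 L5886
theorem L5890 : sm gc N668 = N668 := ded_28_1 (flp_e L5886) L4053 L5886
theorem L5891 : sm gg N668 = N668 := ded_41_2 (flp_e L5886) L4048 L5886
theorem L5892 : sm gj N668 = N668 := ded_42_2 (flp_e L5886) L4049 L5886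
theorem L5893 : sm gh N668 = N668 := ded_43_2 (flp_e L5886) L4050 L5886
theorem L5894 : sm gi N668 = N462 := ded_44_2 (flp_e L4079) (flp_i L4051) L5886
theorem L5896 : sm gd N459 = N669 := rfl
theorem L5898 : sm gg N669 = N669 := ded_36_2 (flp_d L5896) L4058 L5896
theorem L5899 : sm gj N669 = N669 := ded_37_2 (flp_d L5896) L4059 L5896
theorem L5900 : sm gi N669 = N463 := ded_39_2 (flp_d L4088) (flp_i L4061) L5896
theorem L5902 : sm gc N669 = N669 := ded_27_1 (flp_d L5896) L4056 L2782 (flp_c L4056) L5896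
theorem L5903 : sm ge N669 = N669 := ded_34_2 (flp_d L5896) (flp_e L4054) L2773 L4054 L5896
theorem L5904 : sm gf N459 = N670 := rfl
theorem L5906 : sm gc N670 = N460 := ded_29_1 (flp_f L4063) (flp_c L4056) L5904
theorem L5908 : sm gj N670 = N670 := ded_46_2 (flp_f L5904) L4059 L5904
theorem L5909 : sm gh N670 = N670 := ded_47_2 (flp_f L5904) L4060 L5904
theorem L5910 : sm gi N670 = N464 := ded_48_2 (flp_f L4095) (flp_i L4061) L5904
theorem L5912 : sm gg N460 = N671 := rfl
theorem L5914 : sm gb N671 = N671 := ded_23_1 (flp_g L5912) L4065 L5912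
theorem L5915 : sm gd N671 = N671 := ded_36_1 (flp_g L5912) L4066 L5912
theorem L5916 : sm gh N671 = N671 := ded_50_2 (flp_g L5912) L4068 L5912
theorem L5917 : sm gi N671 = N465 := ded_51_2 (flp_g L4102) (flp_i L4069) L5912
theorem L5919 : sm gf N671 = N671 := ded_45_1 (flp_g L5912) (flp_f L4063) L2777 L4063 L5912
theorem L5920 : sm ge N461 = N672 := rfl
theorem L5922 : sm ga N672 = N462 := ded_13_1 (flp_e L4079) L4071 L5920
theorem L5924 : sm gc N672 = N672 := ded_28_1 (flp_e L5920) L4073 L5920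
theorem L5925 : sm gg N672 = N672 := ded_41_2 (flp_e L5920) L4075 L5920
theorem L5926 : sm gj N672 = N672 := ded_42_2 (flp_e L5920) L4076 L5920
theorem L5927 : sm gh N672 = N476 := ded_43_2 (flp_e L4186) (flp_h L4077) L5920
theorem L5929 : sm gd N462 = N673 := rfl
theorem L5931 : sm gb N673 = N463 := ded_20_1 (flp_d L4088) (flp_b L4081) L5929
theorem L5933 : sm gg N673 = N673 := ded_36_2 (flp_d L5929) L4084 L5929
theorem L5934 : sm gj N673 = N673 := ded_37_2 (flp_d L5929) L4085 L5929
theorem L5935 : sm ge N673 = N673 := ded_34_2 (flp_d L5929) (flp_e L4079) L2785 L4079 L5929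
theorem L5936 : sm gh N673 = N673 := ded_38_2 (flp_d L5929) L4086 L2868 (flp_h L4086) L5929
theorem L5937 : sm gf N462 = N674 := rfl
theorem L5939 : sm gb N674 = N464 := ded_22_1 (flp_f L4095) (flp_b L4081) L5937
theorem L5941 : sm gc N674 = N674 := ded_29_1 (flp_f L5937) L4083 L5937
theorem L5942 : sm gj N674 = N674 := ded_46_2 (flp_f L5937) L4085 L5937
theorem L5943 : sm gh N674 = N477 := ded_47_2 (flp_f L4195) (flp_h L4086) L5937
theorem L5945 : sm gf N463 = N675 := rfl
theorem L5947 : sm gc N675 = N675 := ded_29_1 (flp_f L5945) L4092 L5945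
theorem L5948 : sm gd N675 = N464 := ded_35_1 (flp_f L4095) L4088 L5945
theorem L5950 : sm gj N675 = N675 := ded_46_2 (flp_f L5945) L4091 L5945
theorem L5951 : sm gh N675 = N675 := ded_47_2 (flp_f L5945) L4094 L5945
theorem L5952 : sm gg N464 = N676 := rfl
theorem L5954 : sm gc N676 = N465 := ded_30_1 (flp_g L4102) (flp_c L4097) L5952
theorem L5956 : sm gh N676 = N478 := ded_50_2 (flp_g L4203) (flp_h L4100) L5952
theorem L5958 : sm gf N676 = N676 := ded_45_1 (flp_g L5952) (flp_f L4095) L2795 L4095 L5952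
theorem L5959 : sm gj N465 = N677 := rfl
theorem L5961 : sm gb N677 = N677 := ded_24_1 (flp_j L5959) L4104 L5959
theorem L5962 : sm gd N677 = N677 := ded_37_1 (flp_j L5959) L4105 L5959
theorem L5963 : sm gf N677 = N677 := ded_46_1 (flp_j L5959) L4108 L5959
theorem L5964 : sm gh N677 = N479 := ded_52_2 (flp_j L4210) (flp_h L4106) L5959
theorem L5966 : sm gg N677 = N677 := ded_49_1 (flp_j L5959) (flp_g L4102) L2803 L4102 L5959
theorem L5967 : sm gb N466 = N678 := rfl
theorem L5969 : sm gd N678 = N480 := ded_20_2 (flp_b L4218) (flp_d L4116) L5967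
theorem L5971 : sm gf N678 = N678 := ded_22_2 (flp_b L5967) L4111 L5967
theorem L5972 : sm gg N678 = N678 := ded_23_2 (flp_b L5967) L4112 L5967
theorem L5973 : sm gj N678 = N468 := ded_24_2 (flp_b L4126) (flp_j L4113) L5967
theorem L5975 : sm gi N678 = N678 := ded_26_2 (flp_b L5967) L4115 L5967
theorem L5976 : sm gc N678 = N678 := ded_19_2 (flp_b L5967) (flp_c L4109) L2808 L4109 L5967
theorem L5977 : sm ge N466 = N679 := rfl
theorem L5979 : sm gc N679 = N467 := ded_28_1 (flp_e L4118) L4109 L5977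
theorem L5981 : sm gg N679 = N679 := ded_41_2 (flp_e L5977) L4112 L5977
theorem L5982 : sm gj N679 = N469 := ded_42_2 (flp_e L4135) (flp_j L4113) L5977
theorem L5984 : sm gi N679 = N679 := ded_44_2 (flp_e L5977) L4115 L5977
theorem L5985 : sm gf N467 = N680 := rfl
theorem L5987 : sm gb N680 = N680 := ded_22_1 (flp_f L5985) L4120 L5985
theorem L5988 : sm gd N680 = N680 := ded_35_1 (flp_f L5985) L4125 L5985
theorem L5989 : sm gj N680 = N470 := ded_46_2 (flp_f L4142) (flp_j L4122) L5985
theorem L5991 : sm gi N680 = N680 := ded_48_2 (flp_f L5985) L4124 L5985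
theorem L5992 : sm ge N680 = N680 := ded_40_1 (flp_f L5985) (flp_e L4118) L2809 L4118 L5985
theorem L5993 : sm ga N468 = N681 := rfl
theorem L5995 : sm gc N681 = N681 := ded_11_2 (flp_a L5993) L4134 L5993
theorem L5996 : sm gd N681 = N483 := ded_12_2 (flp_a L4247) (flp_d L4128) L5993
theorem L5998 : sm gf N681 = N681 := ded_14_2 (flp_a L5993) L4130 L5993
theorem L5999 : sm gg N681 = N471 := ded_15_2 (flp_a L4148) (flp_g L4131) L5993
theorem L6001 : sm gi N681 = N681 := ded_18_2 (flp_a L5993) L4133 L5993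
theorem L6002 : sm ge N468 = N682 := rfl
theorem L6004 : sm gb N682 = N469 := ded_21_1 (flp_e L4135) L4126 L6002
theorem L6006 : sm gc N682 = N682 := ded_28_1 (flp_e L6002) L4134 L6002
theorem L6007 : sm gg N682 = N472 := ded_41_2 (flp_e L4157) (flp_g L4131) L6002
theorem L6009 : sm gi N682 = N682 := ded_44_2 (flp_e L6002) L4133 L6002
theorem L6010 : sm gd N469 = N683 := rfl
theorem L6012 : sm gg N683 = N473 := ded_36_2 (flp_d L4164) (flp_g L4139) L6010
theorem L6014 : sm gi N683 = N683 := ded_39_2 (flp_d L6010) L4141 L6010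
theorem L6015 : sm gc N683 = N683 := ded_27_1 (flp_d L6010) L4137 L2828 (flp_c L4137) L6010
theorem L6016 : sm ge N683 = N485 := ded_34_2 (flp_d L4266) (flp_e L2919) (flp_d L2820) L4135 L6010
theorem L6018 : sm gf N469 = N684 := rfl
theorem L6020 : sm gc N684 = N470 := ded_29_1 (flp_f L4142) (flp_c L4137) L6018
theorem L6022 : sm gi N684 = N684 := ded_48_2 (flp_f L6018) L4141 L6018
theorem L6023 : sm ge N684 = N684 := ded_40_1 (flp_f L6018) (flp_e L4135) L2816 L4135 L6018
theorem L6024 : sm gg N470 = N685 := rfl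
theorem L6026 : sm gb N685 = N685 := ded_23_1 (flp_g L6024) L4144 L6024
theorem L6027 : sm gd N685 = N685 := ded_36_1 (flp_g L6024) L4145 L6024
theorem L6028 : sm ge N685 = N685 := ded_41_1 (flp_g L6024) L4147 L6024
theorem L6029 : sm gi N685 = N685 := ded_51_2 (flp_g L6024) L4146 L6024
theorem L6030 : sm gf N685 = N475 := ded_45_1 (flp_g L4179) (flp_f L2844) (flp_g L2825) L4142 L6024
theorem L6032 : sm ge N471 = N686 := rfl
theorem L6034 : sm ga N686 = N472 := ded_13_1 (flp_e L4157) L4148 L6032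
theorem L6036 : sm gc N686 = N686 := ded_28_1 (flp_e L6032) L4150 L6032
theorem L6037 : sm gj N686 = N686 := ded_42_2 (flp_e L6032) L4155 L6032
theorem L6038 : sm gi N686 = N686 := ded_44_2 (flp_e L6032) L4156 L6032
theorem L6039 : sm gd N472 = N687 := rfl
theorem L6041 : sm gb N687 = N473 := ded_20_1 (flp_d L4164) (flp_b L4159) L6039
theorem L6043 : sm gj N687 = N687 := ded_37_2 (flp_d L6039) L4162 L6039
theorem L6044 : sm gi N687 = N687 := ded_39_2 (flp_d L6039) L4163 L6039
theorem L6045 : sm ge N687 = N488 := ded_34_2 (flp_d L4290) (flp_e L2945) (flp_d L2831) L4157 L6039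
theorem L6047 : sm gf N472 = N688 := rfl
theorem L6049 : sm gb N688 = N474 := ded_22_1 (flp_f L4171) (flp_b L4159) L6047
theorem L6051 : sm gc N688 = N688 := ded_29_1 (flp_f L6047) L4161 L6047
theorem L6052 : sm gj N688 = N688 := ded_46_2 (flp_f L6047) L4162 L6047
theorem L6053 : sm gi N688 = N688 := ded_48_2 (flp_f L6047) L4163 L6047
theorem L6054 : sm ge N688 = N477 := ded_40_1 (flp_f L4195) (flp_e L2860) (flp_f L2833) L4157 L6047
theorem L6056 : sm gf N473 = N689 := rfl
theorem L6058 : sm gc N689 = N689 := ded_29_1 (flp_f L6056) L4168 L6056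
theorem L6059 : sm gd N689 = N474 := ded_35_1 (flp_f L4171) L4164 L6056
theorem L6061 : sm gj N689 = N689 := ded_46_2 (flp_f L6056) L4166 L6056
theorem L6062 : sm gi N689 = N689 := ded_48_2 (flp_f L6056) L4167 L6056
theorem L6063 : sm ge N689 = N689 := ded_40_1 (flp_f L6056) L4169 L2957 (flp_e L4169) L6056
theorem L6064 : sm gh N473 = N690 := rfl
theorem L6066 : sm gc N690 = N690 := ded_32_1 (flp_h L6064) L4168 L6064
theorem L6067 : sm ge N690 = N489 := ded_43_1 (flp_h L4297) (flp_e L4169) L6064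
theorem L6069 : sm gj N690 = N690 := ded_52_1 (flp_h L6064) L4166 L6064
theorem L6070 : sm gg N474 = N691 := rfl
theorem L6072 : sm gc N691 = N475 := ded_30_1 (flp_g L4179) (flp_c L4173) L6070
theorem L6074 : sm ge N691 = N478 := ded_41_1 (flp_g L4203) (flp_e L4177) L6070
theorem L6076 : sm gi N691 = N691 := ded_51_2 (flp_g L6070) L4176 L6070
theorem L6077 : sm gj N475 = N692 := rfl
theorem L6079 : sm gb N692 = N692 := ded_24_1 (flp_j L6077) L4181 L6077
theorem L6080 : sm gd N692 = N692 := ded_37_1 (flp_j L6077) L4182 L6077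
theorem L6081 : sm ge N692 = N479 := ded_42_1 (flp_j L4210) (flp_e L4183) L6077
theorem L6083 : sm gi N692 = N692 := ded_53_2 (flp_j L6077) L4185 L6077
theorem L6084 : sm gg N692 = N692 := ded_49_1 (flp_j L6077) (flp_g L4179) L2848 L4179 L6077
theorem L6085 : sm gf N476 = N693 := rfl
theorem L6087 : sm ga N693 = N477 := ded_14_1 (flp_f L4195) (flp_a L4188) L6085
theorem L6089 : sm gc N693 = N693 := ded_29_1 (flp_f L6085) L4190 L6085
theorem L6090 : sm gd N693 = N693 := ded_35_1 (flp_f L6085) L4194 L6085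
theorem L6091 : sm gj N693 = N693 := ded_46_2 (flp_f L6085) L4192 L6085
theorem L6092 : sm gi N693 = N693 := ded_48_2 (flp_f L6085) L4193 L6085
theorem L6093 : sm gg N477 = N694 := rfl
theorem L6095 : sm gb N694 = N478 := ded_23_1 (flp_g L4203) (flp_b L4197) L6093
theorem L6097 : sm gc N694 = N694 := ded_30_1 (flp_g L6093) L4199 L6093
theorem L6098 : sm gd N694 = N694 := ded_36_1 (flp_g L6093) L4200 L6093
theorem L6099 : sm gi N694 = N694 := ded_51_2 (flp_g L6093) L4202 L6093
theorem L6100 : sm gf N694 = N694 := ded_45_1 (flp_g L6093) (flp_f L4195) L2865 L4195 L6093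
theorem L6101 : sm gj N478 = N695 := rfl
theorem L6103 : sm gc N695 = N479 := ded_31_1 (flp_j L4210) (flp_c L4205) L6101
theorem L6105 : sm gd N695 = N695 := ded_37_1 (flp_j L6101) L4207 L6101
theorem L6106 : sm gf N695 = N695 := ded_46_1 (flp_j L6101) L4209 L6101
theorem L6107 : sm gi N695 = N695 := ded_53_2 (flp_j L6101) L4208 L6101
theorem L6108 : sm gg N695 = N695 := ded_49_1 (flp_j L6101) (flp_g L4203) L2874 L4203 L6101
theorem L6109 : sm ga N480 = N696 := rfl
theorem L6111 : sm gc N696 = N490 := ded_11_2 (flp_a L4303) (flp_c L4226) L6109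
theorem L6113 : sm gf N696 = N696 := ded_14_2 (flp_a L6109) L4220 L6109
theorem L6114 : sm gg N696 = N696 := ded_15_2 (flp_a L6109) L4221 L6109
theorem L6115 : sm gj N696 = N483 := ded_16_2 (flp_a L4247) (flp_j L4222) L6109
theorem L6117 : sm gh N696 = N696 := ded_17_2 (flp_a L6109) L4224 L6109
theorem L6118 : sm gi N696 = N696 := ded_18_2 (flp_a L6109) L4225 L6109
theorem L6119 : sm ge N480 = N697 := rfl
theorem L6121 : sm gb N697 = N481 := ded_21_1 (flp_e L4228) L4218 L6119
theorem L6123 : sm gc N697 = N491 := ded_28_1 (flp_e L4313) (flp_c L4226) L6119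
theorem L6125 : sm gg N697 = N697 := ded_41_2 (flp_e L6119) L4221 L6119
theorem L6126 : sm gj N697 = N484 := ded_42_2 (flp_e L4256) (flp_j L4222) L6119
theorem L6128 : sm gh N697 = N697 := ded_43_2 (flp_e L6119) L4224 L6119
theorem L6129 : sm gi N697 = N697 := ded_44_2 (flp_e L6119) L4225 L6119
theorem L6130 : sm gd N481 = N698 := rfl
theorem L6132 : sm gg N698 = N698 := ded_36_2 (flp_d L6130) L4232 L6130
theorem L6133 : sm gj N698 = N485 := ded_37_2 (flp_d L4266) (flp_j L4233) L6130
theorem L6135 : sm gi N698 = N698 := ded_39_2 (flp_d L6130) L4236 L6130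
theorem L6136 : sm gc N698 = N698 := ded_27_1 (flp_d L6130) L4230 L2909 (flp_c L4230) L6130
theorem L6137 : sm gf N481 = N699 := rfl
theorem L6139 : sm gc N699 = N482 := ded_29_1 (flp_f L4237) (flp_c L4230) L6137
theorem L6141 : sm gj N699 = N486 := ded_46_2 (flp_f L4272) (flp_j L4233) L6137
theorem L6143 : sm gh N699 = N699 := ded_47_2 (flp_f L6137) L4235 L6137
theorem L6144 : sm gi N699 = N699 := ded_48_2 (flp_f L6137) L4236 L6137
theorem L6145 : sm ge N699 = N699 := ded_40_1 (flp_f L6137) (flp_e L4228) L2894 L4228 L6137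
theorem L6146 : sm gg N482 = N700 := rfl
theorem L6148 : sm gb N700 = N494 := ded_23_1 (flp_g L4341) (flp_b L4239) L6146
theorem L6150 : sm gd N700 = N700 := ded_36_1 (flp_g L6146) L4241 L6146
theorem L6151 : sm ge N700 = N700 := ded_41_1 (flp_g L6146) L4246 L6146
theorem L6152 : sm gh N700 = N700 := ded_50_2 (flp_g L6146) L4244 L6146
theorem L6153 : sm gi N700 = N700 := ded_51_2 (flp_g L6146) L4245 L6146
theorem L6154 : sm gf N700 = N700 := ded_45_1 (flp_g L6146) (flp_f L4237) L2904 L4237 L6146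
theorem L6155 : sm gj N700 = N700 := ded_49_2 (flp_g L6146) L4242 L2935 (flp_j L4242) L6146
theorem L6156 : sm ge N483 = N701 := rfl
theorem L6158 : sm ga N701 = N484 := ded_13_1 (flp_e L4256) L4247 L6156
theorem L6160 : sm gc N701 = N495 := ded_28_1 (flp_e L4350) (flp_c L4249) L6156
theorem L6162 : sm gg N701 = N487 := ded_41_2 (flp_e L4280) (flp_g L4252) L6156
theorem L6164 : sm gh N701 = N701 := ded_43_2 (flp_e L6156) L4254 L6156
theorem L6165 : sm gi N701 = N701 := ded_44_2 (flp_e L6156) L4255 L6156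
theorem L6166 : sm gd N484 = N702 := rfl
theorem L6168 : sm gb N702 = N485 := ded_20_1 (flp_d L4266) (flp_b L4258) L6166
theorem L6170 : sm gg N702 = N488 := ded_36_2 (flp_d L4290) (flp_g L4262) L6166
theorem L6172 : sm gi N702 = N702 := ded_39_2 (flp_d L6166) L4265 L6166
theorem L6173 : sm gf N484 = N703 := rfl
theorem L6175 : sm gb N703 = N486 := ded_22_1 (flp_f L4272) (flp_b L4258) L6173
theorem L6177 : sm gc N703 = N497 := ded_29_1 (flp_f L4367) (flp_c L4260) L6173
theorem L6179 : sm gh N703 = N703 := ded_47_2 (flp_f L6173) L4264 L6173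
theorem L6180 : sm gi N703 = N703 := ded_48_2 (flp_f L6173) L4265 L6173
theorem L6181 : sm ge N703 = N703 := ded_40_1 (flp_f L6173) (flp_e L4256) L2912 L4256 L6173
theorem L6182 : sm gg N703 = N703 := ded_45_2 (flp_f L6173) L4262 L2954 (flp_g L4262) L6173
theorem L6183 : sm gf N485 = N704 := rfl
theorem L6185 : sm gc N704 = N704 := ded_29_1 (flp_f L6183) L4271 L6183
theorem L6186 : sm gd N704 = N486 := ded_35_1 (flp_f L4272) L4266 L6183
theorem L6188 : sm gi N704 = N704 := ded_48_2 (flp_f L6183) L4270 L6183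
theorem L6189 : sm gg N704 = N704 := ded_45_2 (flp_f L6183) L4268 L2957 (flp_g L4268) L6183
theorem L6190 : sm gh N485 = N705 := rfl
theorem L6192 : sm gc N705 = N705 := ded_32_1 (flp_h L6190) L4271 L6190
theorem L6193 : sm gg N705 = N489 := ded_50_1 (flp_h L4297) (flp_g L4268) L6190
theorem L6195 : sm gd N705 = N705 := ded_38_1 (flp_h L6190) (flp_d L4266) L2925 L4266 L6190
theorem L6196 : sm gd N487 = N706 := rfl
theorem L6198 : sm ga N706 = N488 := ded_12_1 (flp_d L4290) (flp_a L4282) L6196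
theorem L6200 : sm gf N706 = N706 := ded_35_2 (flp_d L6196) L4289 L6196
theorem L6201 : sm gj N706 = N706 := ded_37_2 (flp_d L6196) L4286 L6196
theorem L6202 : sm gi N706 = N706 := ded_39_2 (flp_d L6196) L4288 L6196
theorem L6203 : sm gc N488 = N707 := rfl
theorem L6209 : sm gd N707 = N501 := ded_27_2 (flp_c L4400) (flp_d L3032) (flp_c L2949) L4290 L6203
theorem L6211 : sm gh N488 = N708 := rfl
theorem L6218 : sm gi N489 = N709 := rfl
theorem L6225 : sm ge N490 = N710 := rfl
theorem L6227 : sm ga N710 = N491 := ded_13_1 (flp_e L4313) L4303 L6225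
theorem L6229 : sm gb N710 = N710 := ded_21_1 (flp_e L6225) L4312 L6225
theorem L6230 : sm gg N710 = N710 := ded_41_2 (flp_e L6225) L4307 L6225
theorem L6231 : sm gj N710 = N495 := ded_42_2 (flp_e L4350) (flp_j L4308) L6225
theorem L6233 : sm gh N710 = N710 := ded_43_2 (flp_e L6225) L4310 L6225
theorem L6234 : sm gi N710 = N710 := ded_44_2 (flp_e L6225) L4311 L6225
theorem L6235 : sm gd N491 = N711 := rfl
theorem L6237 : sm gb N711 = N492 := ded_20_1 (flp_d L4322) (flp_b L4315) L6235
theorem L6239 : sm gg N711 = N711 := ded_36_2 (flp_d L6235) L4317 L6235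
theorem L6240 : sm gj N711 = N496 := ded_37_2 (flp_d L4359) (flp_j L4318) L6235
theorem L6242 : sm gi N711 = N711 := ded_39_2 (flp_d L6235) L4321 L6235
theorem L6243 : sm ge N711 = N711 := ded_34_2 (flp_d L6235) (flp_e L4313) L2963 L4313 L6235
theorem L6244 : sm gf N491 = N712 := rfl
theorem L6246 : sm gb N712 = N493 := ded_22_1 (flp_f L4331) (flp_b L4315) L6244
theorem L6248 : sm gj N712 = N497 := ded_46_2 (flp_f L4367) (flp_j L4318) L6244
theorem L6250 : sm gh N712 = N712 := ded_47_2 (flp_f L6244) L4320 L6244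
theorem L6251 : sm gi N712 = N712 := ded_48_2 (flp_f L6244) L4321 L6244
theorem L6252 : sm ge N712 = N712 := ded_40_1 (flp_f L6244) (flp_e L4313) L2964 L4313 L6244
theorem L6253 : sm gf N492 = N713 := rfl
theorem L6255 : sm ga N713 = N713 := ded_14_1 (flp_f L6253) L4324 L6253
theorem L6256 : sm gc N713 = N713 := ded_29_1 (flp_f L6253) L4329 L6253
theorem L6257 : sm gd N713 = N493 := ded_35_1 (flp_f L4331) L4322 L6253
theorem L6259 : sm gj N713 = N498 := ded_46_2 (flp_f L4375) (flp_j L4326) L6253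
theorem L6261 : sm gi N713 = N713 := ded_48_2 (flp_f L6253) L4328 L6253
theorem L6262 : sm gh N492 = N714 := rfl
theorem L6264 : sm ga N714 = N714 := ded_17_1 (flp_h L6262) L4324 L6262
theorem L6265 : sm gc N714 = N714 := ded_32_1 (flp_h L6262) L4329 L6262
theorem L6266 : sm ge N714 = N714 := ded_43_1 (flp_h L6262) L4330 L6262
theorem L6267 : sm gg N714 = N714 := ded_50_1 (flp_h L6262) L4325 L6262
theorem L6268 : sm gj N714 = N499 := ded_52_1 (flp_h L4383) (flp_j L4326) L6262
theorem L6270 : sm gd N714 = N714 := ded_38_1 (flp_h L6262) (flp_d L4322) L2978 L4322 L6262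
theorem L6271 : sm gg N493 = N715 := rfl
theorem L6273 : sm ga N715 = N715 := ded_15_1 (flp_g L6271) L4333 L6271
theorem L6274 : sm gc N715 = N494 := ded_30_1 (flp_g L4341) (flp_c L4334) L6271
theorem L6276 : sm ge N715 = N715 := ded_41_1 (flp_g L6271) L4340 L6271
theorem L6277 : sm gh N715 = N715 := ded_50_2 (flp_g L6271) L4338 L6271
theorem L6278 : sm gi N715 = N715 := ded_51_2 (flp_g L6271) L4339 L6271
theorem L6279 : sm gf N715 = N715 := ded_45_1 (flp_g L6271) (flp_f L4331) L2975 L4331 L6271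
theorem L6280 : sm gj N715 = N715 := ded_49_2 (flp_g L6271) L4336 L3022 (flp_j L4336) L6271
theorem L6281 : sm gd N495 = N716 := rfl
theorem L6283 : sm ga N716 = N496 := ded_12_1 (flp_d L4359) (flp_a L4352) L6281
theorem L6285 : sm gb N716 = N716 := ded_20_1 (flp_d L6281) L4354 L6281
theorem L6286 : sm gg N716 = N500 := ded_36_2 (flp_d L4391) (flp_g L4355) L6281
theorem L6288 : sm gi N716 = N716 := ded_39_2 (flp_d L6281) L4358 L6281
theorem L6289 : sm ge N716 = N716 := ded_34_2 (flp_d L6281) (flp_e L4350) L2991 L4350 L6281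
theorem L6290 : sm gf N495 = N717 := rfl
theorem L6292 : sm ga N717 = N497 := ded_14_1 (flp_f L4367) (flp_a L4352) L6290
theorem L6294 : sm gb N717 = N717 := ded_22_1 (flp_f L6290) L4354 L6290
theorem L6295 : sm gh N717 = N717 := ded_47_2 (flp_f L6290) L4357 L6290
theorem L6296 : sm gi N717 = N717 := ded_48_2 (flp_f L6290) L4358 L6290
theorem L6297 : sm ge N717 = N717 := ded_40_1 (flp_f L6290) (flp_e L4350) L2992 L4350 L6290
theorem L6298 : sm gg N717 = N717 := ded_45_2 (flp_f L6290) L4355 L3031 (flp_g L4355) L6290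
theorem L6299 : sm gc N496 = N718 := rfl
theorem L6306 : sm gf N496 = N719 := rfl
theorem L6308 : sm gb N719 = N498 := ded_22_1 (flp_f L4375) (flp_b L4361) L6306
theorem L6310 : sm gd N719 = N497 := ded_35_1 (flp_f L4367) L4359 L6306
theorem L6312 : sm gi N719 = N719 := ded_48_2 (flp_f L6306) L4365 L6306
theorem L6313 : sm gg N719 = N719 := ded_45_2 (flp_f L6306) L4363 L3036 (flp_g L4363) L6306
theorem L6322 : sm ge N498 = N721 := rfl
theorem L6324 : sm ga N721 = N721 := ded_13_1 (flp_e L6322) L4377 L6322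
theorem L6325 : sm gc N721 = N721 := ded_28_1 (flp_e L6322) L4378 L6322
theorem L6326 : sm gg N721 = N721 := ded_41_2 (flp_e L6322) L4382 L6322
theorem L6327 : sm gi N721 = N721 := ded_44_2 (flp_e L6322) L4381 L6322
theorem L6328 : sm gd N721 = N721 := ded_34_1 (flp_e L6322) L4379 L3021 (flp_d L4379) L6322
theorem L6329 : sm gf N721 = N721 := ded_40_2 (flp_e L6322) (flp_f L4375) L3013 L4375 L6322
theorem L6330 : sm gh N498 = N722 := rfl
theorem L6332 : sm ga N722 = N722 := ded_17_1 (flp_h L6330) L4377 L6330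
theorem L6333 : sm gc N722 = N722 := ded_32_1 (flp_h L6330) L4378 L6330
theorem L6334 : sm gf N722 = N499 := ded_47_1 (flp_h L4383) L4375 L6330
theorem L6336 : sm gg N722 = N722 := ded_50_1 (flp_h L6330) L4382 L6330
theorem L6337 : sm gd N722 = N722 := ded_38_1 (flp_h L6330) L4379 L3019 (flp_d L4379) L6330
theorem L6338 : sm gi N499 = N723 := rfl
theorem L6347 : sm gc N500 = N724 := rfl
theorem L6349 : sm ga N724 = N501 := ded_11_1 (flp_c L4400) (flp_a L4393) L6347
theorem L6364 : sm gh N501 = N726 := rfl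
theorem L6381 : sm gf N504 = N728 := rfl
theorem L6383 : sm ga N728 = N728 := ded_14_1 (flp_f L6381) L4426 L6381
theorem L6384 : sm gb N728 = N728 := ded_22_1 (flp_f L6381) L4427 L6381
theorem L6385 : sm gc N728 = N728 := ded_29_1 (flp_f L6381) L4428 L6381
theorem L6386 : sm gd N728 = N506 := ded_35_1 (flp_f L4443) (flp_d L4429) L6381
theorem L6388 : sm gh N728 = N728 := ded_47_2 (flp_f L6381) L4432 L6381
theorem L6389 : sm gg N728 = N728 := ded_45_2 (flp_f L6381) (flp_g L4424) L3052 L4424 L6381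
theorem L6390 : sm gj N504 = N729 := rfl
theorem L6392 : sm ga N729 = N729 := ded_16_1 (flp_j L6390) L4426 L6390
theorem L6393 : sm gb N729 = N729 := ded_24_1 (flp_j L6390) L4427 L6390
theorem L6394 : sm gc N729 = N729 := ded_31_1 (flp_j L6390) L4428 L6390
theorem L6395 : sm gd N729 = N507 := ded_37_1 (flp_j L4451) (flp_d L4429) L6390
theorem L6397 : sm ge N729 = N729 := ded_42_1 (flp_j L6390) L4431 L6390
theorem L6398 : sm gh N729 = N729 := ded_52_2 (flp_j L6390) L4432 L6390
theorem L6399 : sm gg N729 = N729 := ded_49_1 (flp_j L6390) (flp_g L4424) L3053 L4424 L6390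
theorem L6400 : sm gi N504 = N730 := rfl
theorem L6402 : sm ga N730 = N730 := ded_18_1 (flp_i L6400) L4426 L6400
theorem L6403 : sm gb N730 = N730 := ded_26_1 (flp_i L6400) L4427 L6400
theorem L6404 : sm gc N730 = N730 := ded_33_1 (flp_i L6400) L4428 L6400
theorem L6405 : sm gd N730 = N509 := ded_39_1 (flp_i L4471) (flp_d L4429) L6400
theorem L6407 : sm ge N730 = N730 := ded_44_1 (flp_i L6400) L4431 L6400
theorem L6408 : sm gg N730 = N505 := ded_51_1 (flp_i L4433) L4424 L6400
theorem L6410 : sm gh N505 = N731 := rfl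
theorem L6412 : sm ga N731 = N731 := ded_17_1 (flp_h L6410) L4435 L6410
theorem L6413 : sm gb N731 = N731 := ded_25_1 (flp_h L6410) L4436 L6410
theorem L6414 : sm gc N731 = N731 := ded_32_1 (flp_h L6410) L4437 L6410
theorem L6415 : sm ge N731 = N731 := ded_43_1 (flp_h L6410) L4440 L6410
theorem L6416 : sm gf N731 = N731 := ded_47_1 (flp_h L6410) L4441 L6410
theorem L6417 : sm gj N731 = N731 := ded_52_1 (flp_h L6410) L4442 L6410
theorem L6418 : sm gi N731 = N731 := ded_54_2 (flp_h L6410) (flp_i L4433) L3056 L4433 L6410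
theorem L6419 : sm gj N506 = N732 := rfl
theorem L6421 : sm ga N732 = N732 := ded_16_1 (flp_j L6419) L4445 L6419
theorem L6422 : sm gb N732 = N732 := ded_24_1 (flp_j L6419) L4446 L6419
theorem L6423 : sm gc N732 = N525 := ded_31_1 (flp_j L4624) (flp_c L4447) L6419
theorem L6425 : sm ge N732 = N732 := ded_42_1 (flp_j L6419) L4449 L6419
theorem L6426 : sm gf N732 = N507 := ded_46_1 (flp_j L4451) L4443 L6419
theorem L6428 : sm gh N506 = N733 := rfl
theorem L6430 : sm ga N733 = N733 := ded_17_1 (flp_h L6428) L4445 L6428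
theorem L6431 : sm gb N733 = N733 := ded_25_1 (flp_h L6428) L4446 L6428
theorem L6432 : sm gc N733 = N526 := ded_32_1 (flp_h L4633) (flp_c L4447) L6428
theorem L6434 : sm ge N733 = N733 := ded_43_1 (flp_h L6428) L4449 L6428
theorem L6435 : sm gf N733 = N508 := ded_47_1 (flp_h L4460) L4443 L6428
theorem L6437 : sm gg N733 = N733 := ded_50_1 (flp_h L6428) L4450 L6428
theorem L6438 : sm gd N733 = N733 := ded_38_1 (flp_h L6428) (flp_d L6386) L6388 L6386 L6428
theorem L6439 : sm gi N506 = N734 := rfl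
theorem L6441 : sm ga N734 = N734 := ded_18_1 (flp_i L6439) L4445 L6439
theorem L6442 : sm gb N734 = N734 := ded_26_1 (flp_i L6439) L4446 L6439
theorem L6443 : sm gc N734 = N527 := ded_33_1 (flp_i L4642) (flp_c L4447) L6439
theorem L6445 : sm ge N734 = N734 := ded_44_1 (flp_i L6439) L4449 L6439
theorem L6446 : sm gf N734 = N509 := ded_48_1 (flp_i L4471) L4443 L6439
theorem L6448 : sm gg N734 = N734 := ded_51_1 (flp_i L6439) L4450 L6439
theorem L6449 : sm gh N507 = N735 := rfl
theorem L6451 : sm ga N735 = N735 := ded_17_1 (flp_h L6449) L4453 L6449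
theorem L6452 : sm gb N735 = N735 := ded_25_1 (flp_h L6449) L4454 L6449
theorem L6453 : sm gc N735 = N528 := ded_32_1 (flp_h L4652) (flp_c L4455) L6449
theorem L6455 : sm ge N735 = N512 := ded_43_1 (flp_h L4502) (flp_e L4457) L6449
theorem L6457 : sm gg N735 = N735 := ded_50_1 (flp_h L6449) L4459 L6449
theorem L6458 : sm gj N735 = N508 := ded_52_1 (flp_h L4460) L4451 L6449
theorem L6460 : sm gd N735 = N735 := ded_38_1 (flp_h L6449) (flp_d L6395) L6398 L6395 L6449
theorem L6461 : sm gi N507 = N736 := rfl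
theorem L6463 : sm ga N736 = N736 := ded_18_1 (flp_i L6461) L4453 L6461
theorem L6464 : sm gb N736 = N736 := ded_26_1 (flp_i L6461) L4454 L6461
theorem L6465 : sm gc N736 = N529 := ded_33_1 (flp_i L4662) (flp_c L4455) L6461
theorem L6467 : sm ge N736 = N513 := ded_44_1 (flp_i L4512) (flp_e L4457) L6461
theorem L6469 : sm gg N736 = N736 := ded_51_1 (flp_i L6461) L4459 L6461
theorem L6470 : sm gj N736 = N509 := ded_53_1 (flp_i L4471) L4451 L6461
theorem L6472 : sm gi N508 = N737 := rfl
theorem L6474 : sm ga N737 = N737 := ded_18_1 (flp_i L6472) L4462 L6472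
theorem L6475 : sm gb N737 = N737 := ded_26_1 (flp_i L6472) L4463 L6472
theorem L6476 : sm gc N737 = N531 := ded_33_1 (flp_i L4683) (flp_c L4464) L6472
theorem L6478 : sm gd N737 = N737 := ded_39_1 (flp_i L6472) L4470 L6472
theorem L6479 : sm ge N737 = N515 := ded_44_1 (flp_i L4533) (flp_e L4466) L6472
theorem L6481 : sm gg N737 = N510 := ded_51_1 (flp_i L4481) (flp_g L4468) L6472
theorem L6483 : sm gh N509 = N738 := rfl
theorem L6485 : sm ga N738 = N738 := ded_17_1 (flp_h L6483) L4473 L6483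
theorem L6486 : sm gb N738 = N738 := ded_25_1 (flp_h L6483) L4474 L6483
theorem L6487 : sm gc N738 = N532 := ded_32_1 (flp_h L4692) (flp_c L4475) L6483
theorem L6489 : sm ge N738 = N516 := ded_43_1 (flp_h L4542) (flp_e L4477) L6483
theorem L6491 : sm gg N738 = N511 := ded_50_1 (flp_h L4492) (flp_g L4479) L6483
theorem L6493 : sm gh N510 = N739 := rfl
theorem L6495 : sm ga N739 = N739 := ded_17_1 (flp_h L6493) L4483 L6493
theorem L6496 : sm gb N739 = N739 := ded_25_1 (flp_h L6493) L4484 L6493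
theorem L6497 : sm gc N739 = N534 := ded_32_1 (flp_h L4712) (flp_c L4485) L6493
theorem L6499 : sm ge N739 = N518 := ded_43_1 (flp_h L4562) (flp_e L4488) L6493
theorem L6501 : sm gf N739 = N739 := ded_47_1 (flp_h L6493) L4490 L6493
theorem L6502 : sm gj N739 = N739 := ded_52_1 (flp_h L6493) L4491 L6493
theorem L6503 : sm gi N739 = N511 := ded_54_2 (flp_h L4492) (flp_i L3076) L3065 L4481 L6493
theorem L6505 : sm gd N511 = N740 := rfl
theorem L6507 : sm ga N740 = N740 := ded_12_1 (flp_d L6505) L4494 L6505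
theorem L6508 : sm gb N740 = N740 := ded_20_1 (flp_d L6505) L4495 L6505
theorem L6509 : sm gf N740 = N740 := ded_35_2 (flp_d L6505) L4500 L6505
theorem L6510 : sm gj N740 = N740 := ded_37_2 (flp_d L6505) L4501 L6505
theorem L6511 : sm gd N512 = N741 := rfl
theorem L6513 : sm ga N741 = N741 := ded_12_1 (flp_d L6511) L4504 L6511
theorem L6514 : sm gb N741 = N741 := ded_20_1 (flp_d L6511) L4505 L6511
theorem L6515 : sm gf N741 = N741 := ded_35_2 (flp_d L6511) L4508 L6511
theorem L6516 : sm gg N741 = N741 := ded_36_2 (flp_d L6511) L4509 L6511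
theorem L6517 : sm gj N741 = N514 := ded_37_2 (flp_d L4523) (flp_j L4510) L6511
theorem L6519 : sm gc N741 = N741 := ded_27_1 (flp_d L6511) L4506 L3252 (flp_c L4506) L6511
theorem L6520 : sm ge N741 = N741 := ded_34_2 (flp_d L6511) (flp_e L6455) L6460 L6455 L6511
theorem L6521 : sm gh N741 = N741 := ded_38_2 (flp_d L6511) (flp_h L4502) L3092 L4502 L6511
theorem L6522 : sm gi N512 = N742 := rfl
theorem L6524 : sm ga N742 = N742 := ded_18_1 (flp_i L6522) L4504 L6522
theorem L6525 : sm gb N742 = N742 := ded_26_1 (flp_i L6522) L4505 L6522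
theorem L6526 : sm gc N742 = N536 := ded_33_1 (flp_i L4731) (flp_c L4506) L6522
theorem L6528 : sm gf N742 = N742 := ded_48_1 (flp_i L6522) L4508 L6522
theorem L6529 : sm gg N742 = N742 := ded_51_1 (flp_i L6522) L4509 L6522
theorem L6530 : sm gj N742 = N515 := ded_53_1 (flp_i L4533) (flp_j L4510) L6522
theorem L6532 : sm gh N513 = N743 := rfl
theorem L6534 : sm ga N743 = N743 := ded_17_1 (flp_h L6532) L4514 L6532
theorem L6535 : sm gb N743 = N743 := ded_25_1 (flp_h L6532) L4515 L6532
theorem L6536 : sm gc N743 = N537 := ded_32_1 (flp_h L4741) (flp_c L4516) L6532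
theorem L6538 : sm gf N743 = N743 := ded_47_1 (flp_h L6532) L4519 L6532
theorem L6539 : sm gg N743 = N743 := ded_50_1 (flp_h L6532) L4520 L6532
theorem L6540 : sm gj N743 = N516 := ded_52_1 (flp_h L4542) (flp_j L4521) L6532
theorem L6542 : sm gi N514 = N744 := rfl
theorem L6544 : sm ga N744 = N744 := ded_18_1 (flp_i L6542) L4525 L6542
theorem L6545 : sm gb N744 = N744 := ded_26_1 (flp_i L6542) L4526 L6542
theorem L6546 : sm gc N744 = N744 := ded_33_1 (flp_i L6542) L4530 L6542
theorem L6547 : sm gd N744 = N515 := ded_39_1 (flp_i L4533) L4523 L6542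
theorem L6549 : sm ge N744 = N744 := ded_44_1 (flp_i L6542) L4531 L6542
theorem L6550 : sm gf N744 = N744 := ded_48_1 (flp_i L6542) L4527 L6542
theorem L6551 : sm gg N744 = N517 := ded_51_1 (flp_i L4551) (flp_g L4528) L6542
theorem L6553 : sm gh N515 = N745 := rfl
theorem L6555 : sm ga N745 = N745 := ded_17_1 (flp_h L6553) L4535 L6553
theorem L6556 : sm gb N745 = N745 := ded_25_1 (flp_h L6553) L4536 L6553
theorem L6557 : sm gc N745 = N538 := ded_32_1 (flp_h L4750) (flp_c L4537) L6553
theorem L6559 : sm gf N745 = N745 := ded_47_1 (flp_h L6553) L4539 L6553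
theorem L6560 : sm gg N745 = N518 := ded_50_1 (flp_h L4562) (flp_g L4540) L6553
theorem L6562 : sm gi N745 = N516 := ded_54_2 (flp_h L4542) (flp_i L3104) L3095 L4533 L6553
theorem L6564 : sm gd N516 = N746 := rfl
theorem L6566 : sm ga N746 = N746 := ded_12_1 (flp_d L6564) L4544 L6564
theorem L6567 : sm gb N746 = N746 := ded_20_1 (flp_d L6564) L4545 L6564
theorem L6568 : sm gf N746 = N746 := ded_35_2 (flp_d L6564) L4548 L6564
theorem L6569 : sm gg N746 = N519 := ded_36_2 (flp_d L4573) (flp_g L4549) L6564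
theorem L6571 : sm gh N746 = N746 := ded_38_2 (flp_d L6564) (flp_h L4542) L3110 L4542 L6564
theorem L6572 : sm gh N517 = N747 := rfl
theorem L6574 : sm ga N747 = N747 := ded_17_1 (flp_h L6572) L4553 L6572
theorem L6575 : sm gb N747 = N747 := ded_25_1 (flp_h L6572) L4554 L6572
theorem L6576 : sm gc N747 = N747 := ded_32_1 (flp_h L6572) L4555 L6572
theorem L6577 : sm ge N747 = N747 := ded_43_1 (flp_h L6572) L4558 L6572
theorem L6578 : sm gf N747 = N521 := ded_47_1 (flp_h L4592) (flp_f L4559) L6572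
theorem L6580 : sm gj N747 = N747 := ded_52_1 (flp_h L6572) L4561 L6572
theorem L6581 : sm gi N747 = N747 := ded_54_2 (flp_h L6572) (flp_i L4551) L3123 L4551 L6572
theorem L6582 : sm gd N518 = N748 := rfl
theorem L6584 : sm ga N748 = N748 := ded_12_1 (flp_d L6582) L4564 L6582
theorem L6585 : sm gb N748 = N748 := ded_20_1 (flp_d L6582) L4565 L6582
theorem L6586 : sm gf N748 = N522 := ded_35_2 (flp_d L4600) (flp_f L4568) L6582
theorem L6588 : sm gj N748 = N748 := ded_37_2 (flp_d L6582) L4570 L6582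
theorem L6589 : sm gi N748 = N519 := ded_39_2 (flp_d L4573) (flp_i L4571) L6582
theorem L6591 : sm gc N519 = N749 := rfl
theorem L6593 : sm ga N749 = N749 := ded_11_1 (flp_c L6591) L4575 L6591
theorem L6594 : sm gf N749 = N523 := ded_29_2 (flp_c L4608) (flp_f L4577) L6591
theorem L6596 : sm gj N749 = N749 := ded_31_2 (flp_c L6591) L4579 L6591
theorem L6597 : sm gh N749 = N749 := ded_32_2 (flp_c L6591) L4580 L6591
theorem L6598 : sm gd N749 = N541 := ded_27_2 (flp_c L4781) (flp_d L3291) (flp_c L3137) L4573 L6591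
theorem L6600 : sm ge N519 = N750 := rfl
theorem L6602 : sm ga N750 = N750 := ded_13_1 (flp_e L6600) L4575 L6600
theorem L6603 : sm gb N750 = N750 := ded_21_1 (flp_e L6600) L4576 L6600
theorem L6604 : sm gj N750 = N750 := ded_42_2 (flp_e L6600) L4579 L6600
theorem L6605 : sm gh N750 = N750 := ded_43_2 (flp_e L6600) L4580 L6600
theorem L6606 : sm gh N520 = N751 := rfl
theorem L6608 : sm ga N751 = N751 := ded_17_1 (flp_h L6606) L4583 L6606
theorem L6609 : sm gb N751 = N751 := ded_25_1 (flp_h L6606) L4584 L6606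
theorem L6610 : sm gc N751 = N751 := ded_32_1 (flp_h L6606) L4585 L6606
theorem L6611 : sm ge N751 = N521 := ded_43_1 (flp_h L4592) (flp_e L4587) L6606
theorem L6613 : sm gf N751 = N751 := ded_47_1 (flp_h L6606) L4589 L6606
theorem L6614 : sm gg N751 = N751 := ded_50_1 (flp_h L6606) L4590 L6606
theorem L6615 : sm gj N751 = N751 := ded_52_1 (flp_h L6606) L4591 L6606
theorem L6616 : sm gi N751 = N751 := ded_54_2 (flp_h L6606) (flp_i L4581) L3149 L4581 L6606
theorem L6617 : sm gd N521 = N752 := rfl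
theorem L6619 : sm ga N752 = N752 := ded_12_1 (flp_d L6617) L4594 L6617
theorem L6620 : sm gb N752 = N752 := ded_20_1 (flp_d L6617) L4595 L6617
theorem L6621 : sm gg N752 = N752 := ded_36_2 (flp_d L6617) L4597 L6617
theorem L6622 : sm gj N752 = N752 := ded_37_2 (flp_d L6617) L4598 L6617
theorem L6623 : sm gi N752 = N752 := ded_39_2 (flp_d L6617) L4599 L6617
theorem L6624 : sm gh N752 = N522 := ded_38_2 (flp_d L4600) (flp_h L3161) (flp_d L3157) L4592 L6617
theorem L6626 : sm gc N522 = N753 := rfl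
theorem L6628 : sm ga N753 = N753 := ded_11_1 (flp_c L6626) L4602 L6626
theorem L6629 : sm gg N753 = N753 := ded_30_2 (flp_c L6626) L4604 L6626
theorem L6630 : sm gj N753 = N753 := ded_31_2 (flp_c L6626) L4605 L6626
theorem L6631 : sm gi N753 = N523 := ded_33_2 (flp_c L4608) (flp_i L4606) L6626
theorem L6633 : sm gd N753 = N543 := ded_27_2 (flp_c L4797) (flp_d L3301) (flp_c L3165) L4600 L6626
theorem L6635 : sm ge N522 = N754 := rfl
theorem L6637 : sm ga N754 = N754 := ded_13_1 (flp_e L6635) L4602 L6635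
theorem L6638 : sm gb N754 = N754 := ded_21_1 (flp_e L6635) L4603 L6635
theorem L6639 : sm gg N754 = N754 := ded_41_2 (flp_e L6635) L4604 L6635
theorem L6640 : sm gj N754 = N754 := ded_42_2 (flp_e L6635) L4605 L6635
theorem L6641 : sm gi N754 = N524 := ded_44_2 (flp_e L4616) (flp_i L4606) L6635
theorem L6643 : sm gd N754 = N754 := ded_34_1 (flp_e L6635) (flp_d L4600) L3167 L4600 L6635
theorem L6644 : sm gb N523 = N755 := rfl
theorem L6646 : sm gd N755 = N545 := ded_20_2 (flp_b L4816) (flp_d L4614) L6644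
theorem L6648 : sm gg N755 = N755 := ded_23_2 (flp_b L6644) L4611 L6644
theorem L6649 : sm gj N755 = N755 := ded_24_2 (flp_b L6644) L4612 L6644
theorem L6650 : sm gh N755 = N755 := ded_25_2 (flp_b L6644) L4613 L6644
theorem L6651 : sm gc N755 = N755 := ded_19_2 (flp_b L6644) (flp_c L4608) L3175 L4608 L6644
theorem L6652 : sm ge N523 = N756 := rfl
theorem L6654 : sm ga N756 = N756 := ded_13_1 (flp_e L6652) L4610 L6652
theorem L6655 : sm gc N756 = N524 := ded_28_1 (flp_e L4616) L4608 L6652
theorem L6657 : sm gg N756 = N756 := ded_41_2 (flp_e L6652) L4611 L6652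
theorem L6658 : sm gj N756 = N756 := ded_42_2 (flp_e L6652) L4612 L6652
theorem L6659 : sm gh N756 = N756 := ded_43_2 (flp_e L6652) L4613 L6652
theorem L6660 : sm gf N524 = N757 := rfl
theorem L6662 : sm ga N757 = N757 := ded_14_1 (flp_f L6660) L4618 L6660
theorem L6663 : sm gb N757 = N757 := ded_22_1 (flp_f L6660) L4619 L6660
theorem L6664 : sm gd N757 = N757 := ded_35_1 (flp_f L6660) L4623 L6660
theorem L6665 : sm gj N757 = N757 := ded_46_2 (flp_f L6660) L4621 L6660
theorem L6666 : sm gh N757 = N757 := ded_47_2 (flp_f L6660) L4622 L6660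
theorem L6667 : sm gg N525 = N758 := rfl
theorem L6669 : sm ga N758 = N758 := ded_15_1 (flp_g L6667) L4626 L6667
theorem L6670 : sm gb N758 = N563 := ded_23_1 (flp_g L4974) (flp_b L4627) L6667
theorem L6672 : sm gd N758 = N758 := ded_36_1 (flp_g L6667) L4629 L6667
theorem L6673 : sm ge N758 = N758 := ded_41_1 (flp_g L6667) L4630 L6667
theorem L6674 : sm gf N758 = N758 := ded_45_1 (flp_g L6667) L4631 L3195 (flp_f L4631) L6667
theorem L6675 : sm gj N758 = N758 := ded_49_2 (flp_g L6667) (flp_j L4624) L3186 L4624 L6667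
theorem L6676 : sm gh N525 = N759 := rfl
theorem L6678 : sm ga N759 = N759 := ded_17_1 (flp_h L6676) L4626 L6676
theorem L6679 : sm gb N759 = N564 := ded_25_1 (flp_h L4983) (flp_b L4627) L6676
theorem L6681 : sm ge N759 = N759 := ded_43_1 (flp_h L6676) L4630 L6676
theorem L6682 : sm gf N759 = N528 := ded_47_1 (flp_h L4652) (flp_f L4631) L6676
theorem L6684 : sm gj N759 = N526 := ded_52_1 (flp_h L4633) L4624 L6676
theorem L6686 : sm gi N525 = N760 := rfl
theorem L6688 : sm ga N760 = N760 := ded_18_1 (flp_i L6686) L4626 L6686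
theorem L6689 : sm gb N760 = N565 := ded_26_1 (flp_i L4993) (flp_b L4627) L6686
theorem L6691 : sm gd N760 = N760 := ded_39_1 (flp_i L6686) L4629 L6686
theorem L6692 : sm ge N760 = N760 := ded_44_1 (flp_i L6686) L4630 L6686
theorem L6693 : sm gf N760 = N529 := ded_48_1 (flp_i L4662) (flp_f L4631) L6686
theorem L6695 : sm gj N760 = N527 := ded_53_1 (flp_i L4642) L4624 L6686
theorem L6697 : sm gd N526 = N761 := rfl
theorem L6699 : sm ga N761 = N761 := ded_12_1 (flp_d L6697) L4635 L6697
theorem L6700 : sm gb N761 = N566 := ded_20_1 (flp_d L5004) (flp_b L4636) L6697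
theorem L6702 : sm gf N761 = N530 := ded_35_2 (flp_d L4673) (flp_f L4639) L6697
theorem L6704 : sm gg N761 = N761 := ded_36_2 (flp_d L6697) L4641 L6697
theorem L6705 : sm gc N761 = N761 := ded_27_1 (flp_d L6697) (flp_c L6432) L6438 L6432 L6697
theorem L6706 : sm gh N761 = N761 := ded_38_2 (flp_d L6697) (flp_h L4633) L3184 L4633 L6697
theorem L6707 : sm gi N526 = N762 := rfl
theorem L6709 : sm ga N762 = N762 := ded_18_1 (flp_i L6707) L4635 L6707
theorem L6710 : sm gb N762 = N567 := ded_26_1 (flp_i L5012) (flp_b L4636) L6707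
theorem L6712 : sm ge N762 = N762 := ded_44_1 (flp_i L6707) L4638 L6707
theorem L6713 : sm gf N762 = N531 := ded_48_1 (flp_i L4683) (flp_f L4639) L6707
theorem L6715 : sm gg N762 = N762 := ded_51_1 (flp_i L6707) L4641 L6707
theorem L6716 : sm gh N527 = N763 := rfl
theorem L6718 : sm ga N763 = N763 := ded_17_1 (flp_h L6716) L4644 L6716
theorem L6719 : sm gb N763 = N568 := ded_25_1 (flp_h L5021) (flp_b L4645) L6716
theorem L6721 : sm ge N763 = N763 := ded_43_1 (flp_h L6716) L4648 L6716
theorem L6722 : sm gf N763 = N532 := ded_47_1 (flp_h L4692) (flp_f L4649) L6716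
theorem L6724 : sm gg N763 = N763 := ded_50_1 (flp_h L6716) L4651 L6716
theorem L6725 : sm gd N528 = N764 := rfl
theorem L6727 : sm ga N764 = N764 := ded_12_1 (flp_d L6725) L4654 L6725
theorem L6728 : sm gb N764 = N569 := ded_20_1 (flp_d L5030) (flp_b L4655) L6725
theorem L6730 : sm gg N764 = N764 := ded_36_2 (flp_d L6725) L4659 L6725
theorem L6731 : sm gj N764 = N530 := ded_37_2 (flp_d L4673) (flp_j L4660) L6725
theorem L6733 : sm gc N764 = N764 := ded_27_1 (flp_d L6725) (flp_c L6453) L6460 L6453 L6725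
theorem L6734 : sm ge N764 = N764 := ded_34_2 (flp_d L6725) L4657 L3252 (flp_e L4657) L6725
theorem L6735 : sm gh N764 = N764 := ded_38_2 (flp_d L6725) (flp_h L4652) L3192 L4652 L6725
theorem L6736 : sm gi N528 = N765 := rfl
theorem L6738 : sm ga N765 = N765 := ded_18_1 (flp_i L6736) L4654 L6736
theorem L6739 : sm gb N765 = N570 := ded_26_1 (flp_i L5039) (flp_b L4655) L6736
theorem L6741 : sm ge N765 = N536 := ded_44_1 (flp_i L4731) (flp_e L4657) L6736
theorem L6743 : sm gg N765 = N765 := ded_51_1 (flp_i L6736) L4659 L6736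
theorem L6744 : sm gj N765 = N531 := ded_53_1 (flp_i L4683) (flp_j L4660) L6736
theorem L6746 : sm gh N529 = N766 := rfl
theorem L6748 : sm ga N766 = N766 := ded_17_1 (flp_h L6746) L4664 L6746
theorem L6749 : sm gb N766 = N571 := ded_25_1 (flp_h L5049) (flp_b L4665) L6746
theorem L6751 : sm ge N766 = N537 := ded_43_1 (flp_h L4741) (flp_e L4668) L6746
theorem L6753 : sm gg N766 = N766 := ded_50_1 (flp_h L6746) L4670 L6746
theorem L6754 : sm gj N766 = N532 := ded_52_1 (flp_h L4692) (flp_j L4671) L6746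
theorem L6756 : sm gi N530 = N767 := rfl
theorem L6758 : sm ga N767 = N767 := ded_18_1 (flp_i L6756) L4675 L6756
theorem L6759 : sm gb N767 = N573 := ded_26_1 (flp_i L5069) (flp_b L4676) L6756
theorem L6761 : sm gc N767 = N767 := ded_33_1 (flp_i L6756) L4680 L6756
theorem L6762 : sm gd N767 = N531 := ded_39_1 (flp_i L4683) L4673 L6756
theorem L6764 : sm ge N767 = N767 := ded_44_1 (flp_i L6756) L4681 L6756
theorem L6765 : sm gg N767 = N533 := ded_51_1 (flp_i L4701) (flp_g L4678) L6756
theorem L6767 : sm gh N531 = N768 := rfl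
theorem L6769 : sm ga N768 = N768 := ded_17_1 (flp_h L6767) L4685 L6767
theorem L6770 : sm gb N768 = N574 := ded_25_1 (flp_h L5078) (flp_b L4686) L6767
theorem L6772 : sm ge N768 = N538 := ded_43_1 (flp_h L4750) (flp_e L4688) L6767
theorem L6774 : sm gg N768 = N534 := ded_50_1 (flp_h L4712) (flp_g L4690) L6767
theorem L6776 : sm gi N768 = N532 := ded_54_2 (flp_h L4692) (flp_i L3205) L3196 L4683 L6767
theorem L6778 : sm gd N532 = N769 := rfl
theorem L6780 : sm ga N769 = N769 := ded_12_1 (flp_d L6778) L4694 L6778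
theorem L6781 : sm gb N769 = N575 := ded_20_1 (flp_d L5089) (flp_b L4695) L6778
theorem L6783 : sm gg N769 = N535 := ded_36_2 (flp_d L4723) (flp_g L4699) L6778
theorem L6785 : sm gh N769 = N769 := ded_38_2 (flp_d L6778) (flp_h L4692) L3210 L4692 L6778
theorem L6786 : sm gh N533 = N770 := rfl
theorem L6788 : sm ga N770 = N770 := ded_17_1 (flp_h L6786) L4703 L6786
theorem L6789 : sm gb N770 = N577 := ded_25_1 (flp_h L5107) (flp_b L4704) L6786
theorem L6791 : sm gc N770 = N770 := ded_32_1 (flp_h L6786) L4706 L6786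
theorem L6792 : sm ge N770 = N770 := ded_43_1 (flp_h L6786) L4709 L6786
theorem L6793 : sm gf N770 = N770 := ded_47_1 (flp_h L6786) L4710 L6786
theorem L6794 : sm gj N770 = N770 := ded_52_1 (flp_h L6786) L4711 L6786
theorem L6795 : sm gi N770 = N770 := ded_54_2 (flp_h L6786) (flp_i L4701) L3224 L4701 L6786
theorem L6796 : sm gd N534 = N771 := rfl
theorem L6798 : sm ga N771 = N771 := ded_12_1 (flp_d L6796) L4714 L6796
theorem L6799 : sm gb N771 = N578 := ded_20_1 (flp_d L5115) (flp_b L4715) L6796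
theorem L6801 : sm gf N771 = N771 := ded_35_2 (flp_d L6796) L4719 L6796
theorem L6802 : sm gj N771 = N771 := ded_37_2 (flp_d L6796) L4720 L6796
theorem L6803 : sm gi N771 = N535 := ded_39_2 (flp_d L4723) (flp_i L4721) L6796
theorem L6805 : sm gc N535 = N772 := rfl
theorem L6807 : sm ga N772 = N772 := ded_11_1 (flp_c L6805) L4725 L6805
theorem L6808 : sm gf N772 = N772 := ded_29_2 (flp_c L6805) L4728 L6805
theorem L6809 : sm gj N772 = N772 := ded_31_2 (flp_c L6805) L4729 L6805
theorem L6810 : sm gh N772 = N772 := ded_32_2 (flp_c L6805) L4730 L6805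
theorem L6811 : sm ge N535 = N773 := rfl
theorem L6813 : sm ga N773 = N773 := ded_13_1 (flp_e L6811) L4725 L6811
theorem L6814 : sm gb N773 = N580 := ded_21_1 (flp_e L5131) (flp_b L4726) L6811
theorem L6816 : sm gj N773 = N773 := ded_42_2 (flp_e L6811) L4729 L6811
theorem L6817 : sm gh N773 = N773 := ded_43_2 (flp_e L6811) L4730 L6811
theorem L6818 : sm gd N773 = N542 := ded_34_1 (flp_e L4789) (flp_d L3291) (flp_e L3239) L4723 L6811
theorem L6820 : sm gh N536 = N774 := rfl
theorem L6822 : sm ga N774 = N774 := ded_17_1 (flp_h L6820) L4733 L6820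
theorem L6823 : sm gb N774 = N581 := ded_25_1 (flp_h L5139) (flp_b L4734) L6820
theorem L6825 : sm gf N774 = N774 := ded_47_1 (flp_h L6820) L4737 L6820
theorem L6826 : sm gg N774 = N774 := ded_50_1 (flp_h L6820) L4738 L6820
theorem L6827 : sm gj N774 = N538 := ded_52_1 (flp_h L4750) (flp_j L4739) L6820
theorem L6829 : sm gi N774 = N537 := ded_54_2 (flp_h L4741) (flp_i L3253) L3243 L4731 L6820
theorem L6831 : sm gd N537 = N775 := rfl
theorem L6833 : sm ga N775 = N775 := ded_12_1 (flp_d L6831) L4743 L6831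
theorem L6834 : sm gb N775 = N582 := ded_20_1 (flp_d L5150) (flp_b L4744) L6831
theorem L6836 : sm gf N775 = N775 := ded_35_2 (flp_d L6831) L4746 L6831
theorem L6837 : sm gg N775 = N775 := ded_36_2 (flp_d L6831) L4747 L6831
theorem L6838 : sm gj N775 = N539 := ded_37_2 (flp_d L4760) (flp_j L4748) L6831
theorem L6840 : sm gh N775 = N548 := ded_38_2 (flp_d L4842) (flp_h L3328) (flp_d L3258) L4741 L6831
theorem L6842 : sm gd N538 = N776 := rfl
theorem L6844 : sm ga N776 = N776 := ded_12_1 (flp_d L6842) L4752 L6842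
theorem L6845 : sm gb N776 = N583 := ded_20_1 (flp_d L5160) (flp_b L4753) L6842
theorem L6847 : sm gf N776 = N776 := ded_35_2 (flp_d L6842) L4755 L6842
theorem L6848 : sm gg N776 = N540 := ded_36_2 (flp_d L4770) (flp_g L4756) L6842
theorem L6850 : sm gi N776 = N539 := ded_39_2 (flp_d L4760) (flp_i L4758) L6842
theorem L6852 : sm gh N776 = N776 := ded_38_2 (flp_d L6842) (flp_h L4750) L3269 L4750 L6842
theorem L6853 : sm gc N539 = N777 := rfl
theorem L6855 : sm ga N777 = N777 := ded_11_1 (flp_c L6853) L4762 L6853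
theorem L6856 : sm gf N777 = N777 := ded_29_2 (flp_c L6853) L4765 L6853
theorem L6857 : sm gg N777 = N541 := ded_30_2 (flp_c L4781) (flp_g L4766) L6853
theorem L6859 : sm gh N777 = N549 := ded_32_2 (flp_c L4852) (flp_h L4768) L6853
theorem L6861 : sm ge N539 = N778 := rfl
theorem L6863 : sm ga N778 = N778 := ded_13_1 (flp_e L6861) L4762 L6861
theorem L6864 : sm gb N778 = N585 := ded_21_1 (flp_e L5180) (flp_b L4763) L6861
theorem L6866 : sm gg N778 = N542 := ded_41_2 (flp_e L4789) (flp_g L4766) L6861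
theorem L6868 : sm gh N778 = N550 := ded_43_2 (flp_e L4860) (flp_h L4768) L6861
theorem L6870 : sm gc N540 = N779 := rfl
theorem L6872 : sm ga N779 = N779 := ded_11_1 (flp_c L6870) L4772 L6870
theorem L6873 : sm gf N779 = N543 := ded_29_2 (flp_c L4797) (flp_f L4775) L6870
theorem L6875 : sm gj N779 = N779 := ded_31_2 (flp_c L6870) L4777 L6870
theorem L6876 : sm gh N779 = N779 := ded_32_2 (flp_c L6870) L4780 L6870
theorem L6877 : sm gi N779 = N541 := ded_33_2 (flp_c L4781) (flp_i L4778) L6870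
theorem L6879 : sm ge N540 = N780 := rfl
theorem L6881 : sm ga N780 = N780 := ded_13_1 (flp_e L6879) L4772 L6879
theorem L6882 : sm gb N780 = N587 := ded_21_1 (flp_e L5199) (flp_b L4773) L6879
theorem L6884 : sm gj N780 = N780 := ded_42_2 (flp_e L6879) L4777 L6879
theorem L6885 : sm gh N780 = N780 := ded_43_2 (flp_e L6879) L4780 L6879
theorem L6886 : sm gi N780 = N542 := ded_44_2 (flp_e L4789) (flp_i L4778) L6879
theorem L6888 : sm gb N541 = N781 := rfl
theorem L6890 : sm gf N781 = N545 := ded_22_2 (flp_b L4816) (flp_f L4784) L6888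
theorem L6892 : sm gj N781 = N781 := ded_24_2 (flp_b L6888) L4786 L6888
theorem L6893 : sm gh N781 = N551 := ded_25_2 (flp_b L4869) (flp_h L4787) L6888
theorem L6895 : sm gc N781 = N588 := ded_19_2 (flp_b L5207) (flp_c L3577) (flp_b L3294) L4781 L6888
theorem L6897 : sm ge N541 = N782 := rfl
theorem L6899 : sm ga N782 = N782 := ded_13_1 (flp_e L6897) L4783 L6897
theorem L6900 : sm gc N782 = N542 := ded_28_1 (flp_e L4789) L4781 L6897
theorem L6902 : sm gj N782 = N782 := ded_42_2 (flp_e L6897) L4786 L6897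
theorem L6903 : sm gh N782 = N552 := ded_43_2 (flp_e L4878) (flp_h L4787) L6897
theorem L6905 : sm gf N542 = N783 := rfl
theorem L6907 : sm ga N783 = N783 := ded_14_1 (flp_f L6905) L4791 L6905
theorem L6908 : sm gb N783 = N590 := ded_22_1 (flp_f L5224) (flp_b L4792) L6905
theorem L6910 : sm gj N783 = N783 := ded_46_2 (flp_f L6905) L4794 L6905
theorem L6911 : sm gh N783 = N553 := ded_47_2 (flp_f L4885) (flp_h L4795) L6905
theorem L6913 : sm ge N783 = N547 := ded_40_1 (flp_f L4833) (flp_e L3318) (flp_f L3296) L4789 L6905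
theorem L6915 : sm gb N543 = N784 := rfl
theorem L6917 : sm gg N784 = N784 := ded_23_2 (flp_b L6915) L4800 L6915
theorem L6918 : sm gj N784 = N784 := ded_24_2 (flp_b L6915) L4801 L6915
theorem L6919 : sm gh N784 = N784 := ded_25_2 (flp_b L6915) L4802 L6915
theorem L6920 : sm gi N784 = N545 := ded_26_2 (flp_b L4816) (flp_i L4803) L6915
theorem L6922 : sm gc N784 = N591 := ded_19_2 (flp_b L5233) (flp_c L3594) (flp_b L3304) L4797 L6915
theorem L6924 : sm ge N543 = N785 := rfl
theorem L6926 : sm ga N785 = N785 := ded_13_1 (flp_e L6924) L4799 L6924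
theorem L6927 : sm gc N785 = N544 := ded_28_1 (flp_e L4805) L4797 L6924
theorem L6929 : sm gg N785 = N785 := ded_41_2 (flp_e L6924) L4800 L6924
theorem L6930 : sm gj N785 = N785 := ded_42_2 (flp_e L6924) L4801 L6924
theorem L6931 : sm gh N785 = N785 := ded_43_2 (flp_e L6924) L4802 L6924
theorem L6932 : sm gi N785 = N546 := ded_44_2 (flp_e L4824) (flp_i L4803) L6924
theorem L6934 : sm gf N544 = N786 := rfl
theorem L6936 : sm ga N786 = N786 := ded_14_1 (flp_f L6934) L4807 L6934
theorem L6937 : sm gb N786 = N593 := ded_22_1 (flp_f L5252) (flp_b L4808) L6934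
theorem L6939 : sm gd N786 = N786 := ded_35_1 (flp_f L6934) L4815 L6934
theorem L6940 : sm gj N786 = N786 := ded_46_2 (flp_f L6934) L4811 L6934
theorem L6941 : sm gh N786 = N786 := ded_47_2 (flp_f L6934) L4812 L6934
theorem L6942 : sm gi N786 = N547 := ded_48_2 (flp_f L4833) (flp_i L4813) L6934
theorem L6944 : sm ga N545 = N787 := rfl
theorem L6946 : sm gc N787 = N594 := ded_11_2 (flp_a L5261) (flp_c L4822) L6944
theorem L6948 : sm gg N787 = N787 := ded_15_2 (flp_a L6944) L4818 L6944
theorem L6949 : sm gj N787 = N787 := ded_16_2 (flp_a L6944) L4819 L6944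
theorem L6950 : sm gh N787 = N554 := ded_17_2 (flp_a L4895) (flp_h L4820) L6944
theorem L6952 : sm gb N787 = N787 := ded_10_2 (flp_a L6944) (flp_b L4816) L3313 L4816 L6944
theorem L6953 : sm ge N545 = N788 := rfl
theorem L6955 : sm gb N788 = N546 := ded_21_1 (flp_e L4824) L4816 L6953
theorem L6957 : sm gc N788 = N595 := ded_28_1 (flp_e L5270) (flp_c L4822) L6953
theorem L6959 : sm gg N788 = N788 := ded_41_2 (flp_e L6953) L4818 L6953
theorem L6960 : sm gj N788 = N788 := ded_42_2 (flp_e L6953) L4819 L6953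
theorem L6961 : sm gh N788 = N555 := ded_43_2 (flp_e L4904) (flp_h L4820) L6953
theorem L6963 : sm gd N546 = N789 := rfl
theorem L6965 : sm ga N789 = N789 := ded_12_1 (flp_d L6963) L4826 L6963
theorem L6966 : sm gg N789 = N789 := ded_36_2 (flp_d L6963) L4829 L6963
theorem L6967 : sm gj N789 = N789 := ded_37_2 (flp_d L6963) L4830 L6963
theorem L6968 : sm gc N789 = N789 := ded_27_1 (flp_d L6963) L4827 L3327 (flp_c L4827) L6963
theorem L6969 : sm gf N546 = N790 := rfl
theorem L6971 : sm ga N790 = N790 := ded_14_1 (flp_f L6969) L4826 L6969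
theorem L6972 : sm gc N790 = N547 := ded_29_1 (flp_f L4833) (flp_c L4827) L6969
theorem L6974 : sm gj N790 = N790 := ded_46_2 (flp_f L6969) L4830 L6969
theorem L6975 : sm gh N790 = N557 := ded_47_2 (flp_f L4922) (flp_h L4831) L6969
theorem L6977 : sm gg N547 = N791 := rfl
theorem L6979 : sm ga N791 = N791 := ded_15_1 (flp_g L6977) L4835 L6977
theorem L6980 : sm gb N791 = N598 := ded_23_1 (flp_g L5296) (flp_b L4836) L6977
theorem L6982 : sm gd N791 = N791 := ded_36_1 (flp_g L6977) L4838 L6977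
theorem L6983 : sm gh N791 = N558 := ded_50_2 (flp_g L4929) (flp_h L4840) L6977
theorem L6985 : sm gf N791 = N791 := ded_45_1 (flp_g L6977) (flp_f L4833) L3323 L4833 L6977
theorem L6986 : sm gc N548 = N792 := rfl
theorem L6988 : sm ga N792 = N792 := ded_11_1 (flp_c L6986) L4844 L6986
theorem L6989 : sm gf N792 = N792 := ded_29_2 (flp_c L6986) L4847 L6986
theorem L6990 : sm gg N792 = N792 := ded_30_2 (flp_c L6986) L4848 L6986
theorem L6991 : sm gj N792 = N549 := ded_31_2 (flp_c L4852) (flp_j L4849) L6986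
theorem L6993 : sm gi N792 = N792 := ded_33_2 (flp_c L6986) L4851 L6986
theorem L6994 : sm gd N792 = N792 := ded_27_2 (flp_c L6986) (flp_d L4842) L3333 L4842 L6986
theorem L6995 : sm ge N548 = N793 := rfl
theorem L6997 : sm ga N793 = N793 := ded_13_1 (flp_e L6995) L4844 L6995
theorem L6998 : sm gb N793 = N600 := ded_21_1 (flp_e L5315) (flp_b L4845) L6995
theorem L7000 : sm gg N793 = N793 := ded_41_2 (flp_e L6995) L4848 L6995
theorem L7001 : sm gj N793 = N550 := ded_42_2 (flp_e L4860) (flp_j L4849) L6995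
theorem L7003 : sm gi N793 = N793 := ded_44_2 (flp_e L6995) L4851 L6995
theorem L7004 : sm gd N793 = N793 := ded_34_1 (flp_e L6995) (flp_d L4842) L3334 L4842 L6995
theorem L7005 : sm gb N549 = N794 := rfl
theorem L7007 : sm gd N794 = N794 := ded_20_2 (flp_b L7005) L4859 L7005
theorem L7008 : sm gf N794 = N794 := ded_22_2 (flp_b L7005) L4855 L7005
theorem L7009 : sm gg N794 = N551 := ded_23_2 (flp_b L4869) (flp_g L4856) L7005
theorem L7011 : sm gi N794 = N794 := ded_26_2 (flp_b L7005) L4858 L7005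
theorem L7012 : sm gc N794 = N601 := ded_19_2 (flp_b L5324) (flp_c L3648) (flp_b L3343) L4852 L7005
theorem L7014 : sm ge N549 = N795 := rfl
theorem L7016 : sm ga N795 = N795 := ded_13_1 (flp_e L7014) L4854 L7014
theorem L7017 : sm gc N795 = N550 := ded_28_1 (flp_e L4860) L4852 L7014
theorem L7019 : sm gg N795 = N552 := ded_41_2 (flp_e L4878) (flp_g L4856) L7014
theorem L7021 : sm gi N795 = N795 := ded_44_2 (flp_e L7014) L4858 L7014
theorem L7022 : sm gf N550 = N796 := rfl
theorem L7024 : sm ga N796 = N796 := ded_14_1 (flp_f L7022) L4862 L7022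
theorem L7025 : sm gb N796 = N603 := ded_22_1 (flp_f L5341) (flp_b L4863) L7022
theorem L7027 : sm gd N796 = N796 := ded_35_1 (flp_f L7022) L4868 L7022
theorem L7028 : sm gi N796 = N796 := ded_48_2 (flp_f L7022) L4867 L7022
theorem L7029 : sm ge N796 = N796 := ded_40_1 (flp_f L7022) (flp_e L4860) L3345 L4860 L7022
theorem L7030 : sm ga N551 = N797 := rfl
theorem L7032 : sm gc N797 = N604 := ded_11_2 (flp_a L5348) (flp_c L4876) L7030
theorem L7034 : sm gd N797 = N797 := ded_12_2 (flp_a L7030) L4871 L7030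
theorem L7035 : sm gf N797 = N554 := ded_14_2 (flp_a L4895) (flp_f L4872) L7030
theorem L7037 : sm gj N797 = N797 := ded_16_2 (flp_a L7030) L4874 L7030
theorem L7038 : sm gi N797 = N797 := ded_18_2 (flp_a L7030) L4875 L7030
theorem L7039 : sm gb N797 = N797 := ded_10_2 (flp_a L7030) (flp_b L4869) L3351 L4869 L7030
theorem L7040 : sm ge N551 = N798 := rfl
theorem L7042 : sm gb N798 = N552 := ded_21_1 (flp_e L4878) L4869 L7040
theorem L7044 : sm gc N798 = N605 := ded_28_1 (flp_e L5358) (flp_c L4876) L7040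
theorem L7046 : sm gj N798 = N798 := ded_42_2 (flp_e L7040) L4874 L7040
theorem L7047 : sm gi N798 = N798 := ded_44_2 (flp_e L7040) L4875 L7040
theorem L7048 : sm gd N552 = N799 := rfl
theorem L7050 : sm ga N799 = N799 := ded_12_1 (flp_d L7048) L4880 L7048
theorem L7051 : sm gj N799 = N799 := ded_37_2 (flp_d L7048) L4883 L7048
theorem L7052 : sm gi N799 = N799 := ded_39_2 (flp_d L7048) L4884 L7048
theorem L7053 : sm gc N799 = N799 := ded_27_1 (flp_d L7048) L4881 L3364 (flp_c L4881) L7048
theorem L7054 : sm ge N799 = N799 := ded_34_2 (flp_d L7048) (flp_e L4878) L3356 L4878 L7048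
theorem L7055 : sm gf N552 = N800 := rfl
theorem L7057 : sm ga N800 = N800 := ded_14_1 (flp_f L7055) L4880 L7055
theorem L7058 : sm gc N800 = N553 := ded_29_1 (flp_f L4885) (flp_c L4881) L7055
theorem L7060 : sm gj N800 = N800 := ded_46_2 (flp_f L7055) L4883 L7055
theorem L7061 : sm gi N800 = N800 := ded_48_2 (flp_f L7055) L4884 L7055
theorem L7062 : sm ge N800 = N557 := ded_40_1 (flp_f L4922) (flp_e L3373) (flp_f L3352) L4878 L7055
theorem L7064 : sm gg N553 = N801 := rfl
theorem L7066 : sm ga N801 = N801 := ded_15_1 (flp_g L7064) L4887 L7064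
theorem L7067 : sm gb N801 = N608 := ded_23_1 (flp_g L5383) (flp_b L4888) L7064
theorem L7069 : sm gd N801 = N801 := ded_36_1 (flp_g L7064) L4890 L7064
theorem L7070 : sm ge N801 = N558 := ded_41_1 (flp_g L4929) (flp_e L4893) L7064
theorem L7072 : sm gi N801 = N801 := ded_51_2 (flp_g L7064) L4892 L7064
theorem L7073 : sm ge N554 = N802 := rfl
theorem L7075 : sm ga N802 = N555 := ded_13_1 (flp_e L4904) L4895 L7073
theorem L7077 : sm gb N802 = N802 := ded_21_1 (flp_e L7073) L4903 L7073
theorem L7078 : sm gc N802 = N609 := ded_28_1 (flp_e L5391) (flp_c L4897) L7073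
theorem L7080 : sm gg N802 = N802 := ded_41_2 (flp_e L7073) L4900 L7073
theorem L7081 : sm gj N802 = N802 := ded_42_2 (flp_e L7073) L4901 L7073
theorem L7082 : sm gi N802 = N802 := ded_44_2 (flp_e L7073) L4902 L7073
theorem L7083 : sm gd N555 = N803 := rfl
theorem L7085 : sm gb N803 = N556 := ded_20_1 (flp_d L4913) (flp_b L4906) L7083
theorem L7087 : sm gg N803 = N803 := ded_36_2 (flp_d L7083) L4910 L7083
theorem L7088 : sm gj N803 = N803 := ded_37_2 (flp_d L7083) L4911 L7083
theorem L7089 : sm gi N803 = N803 := ded_39_2 (flp_d L7083) L4912 L7083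
theorem L7090 : sm gc N803 = N803 := ded_27_1 (flp_d L7083) L4908 L3707 (flp_c L4908) L7083
theorem L7091 : sm ge N803 = N803 := ded_34_2 (flp_d L7083) (flp_e L4904) L3367 L4904 L7083
theorem L7092 : sm gf N555 = N804 := rfl
theorem L7094 : sm gb N804 = N557 := ded_22_1 (flp_f L4922) (flp_b L4906) L7092
theorem L7096 : sm gc N804 = N610 := ded_29_1 (flp_f L5401) (flp_c L4908) L7092
theorem L7098 : sm gj N804 = N804 := ded_46_2 (flp_f L7092) L4911 L7092
theorem L7099 : sm gi N804 = N804 := ded_48_2 (flp_f L7092) L4912 L7092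
theorem L7100 : sm gf N556 = N805 := rfl
theorem L7102 : sm ga N805 = N805 := ded_14_1 (flp_f L7100) L4915 L7100
theorem L7103 : sm gc N805 = N559 := ded_29_1 (flp_f L4938) (flp_c L4919) L7100
theorem L7105 : sm gd N805 = N557 := ded_35_1 (flp_f L4922) L4913 L7100
theorem L7107 : sm gj N805 = N805 := ded_46_2 (flp_f L7100) L4917 L7100
theorem L7108 : sm gi N805 = N805 := ded_48_2 (flp_f L7100) L4918 L7100
theorem L7109 : sm gh N556 = N806 := rfl
theorem L7111 : sm ga N806 = N806 := ded_17_1 (flp_h L7109) L4915 L7109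
theorem L7112 : sm gc N806 = N560 := ded_32_1 (flp_h L4946) (flp_c L4919) L7109
theorem L7114 : sm ge N806 = N806 := ded_43_1 (flp_h L7109) L4921 L7109
theorem L7115 : sm gg N806 = N806 := ded_50_1 (flp_h L7109) L4916 L7109
theorem L7116 : sm gj N806 = N806 := ded_52_1 (flp_h L7109) L4917 L7109
theorem L7117 : sm gg N557 = N807 := rfl
theorem L7119 : sm ga N807 = N807 := ded_15_1 (flp_g L7117) L4924 L7117
theorem L7120 : sm gc N807 = N558 := ded_30_1 (flp_g L4929) (flp_c L4925) L7117
theorem L7122 : sm gi N807 = N807 := ded_51_2 (flp_g L7117) L4928 L7117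
theorem L7123 : sm gf N807 = N807 := ded_45_1 (flp_g L7117) (flp_f L4922) L3378 L4922 L7117
theorem L7124 : sm gj N558 = N808 := rfl
theorem L7126 : sm ga N808 = N808 := ded_16_1 (flp_j L7124) L4931 L7124
theorem L7127 : sm gb N808 = N612 := ded_24_1 (flp_j L5417) (flp_b L4932) L7124
theorem L7129 : sm gd N808 = N562 := ded_37_1 (flp_j L4964) (flp_d L4934) L7124
theorem L7131 : sm gf N808 = N808 := ded_46_1 (flp_j L7124) L4937 L7124
theorem L7132 : sm gi N808 = N808 := ded_53_2 (flp_j L7124) L4936 L7124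
theorem L7133 : sm gg N808 = N808 := ded_49_1 (flp_j L7124) (flp_g L4929) L3388 L4929 L7124
theorem L7134 : sm ge N559 = N809 := rfl
theorem L7136 : sm ga N809 = N809 := ded_13_1 (flp_e L7134) L4940 L7134
theorem L7137 : sm gb N809 = N809 := ded_21_1 (flp_e L7134) L4941 L7134
theorem L7138 : sm gj N809 = N809 := ded_42_2 (flp_e L7134) L4944 L7134
theorem L7139 : sm gi N809 = N809 := ded_44_2 (flp_e L7134) L4945 L7134
theorem L7140 : sm gd N809 = N809 := ded_34_1 (flp_e L7134) L4942 L3407 (flp_d L4942) L7134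
theorem L7141 : sm gf N809 = N809 := ded_40_2 (flp_e L7134) (flp_f L4938) L3397 L4938 L7134
theorem L7142 : sm gg N559 = N810 := rfl
theorem L7144 : sm ga N810 = N810 := ded_15_1 (flp_g L7142) L4940 L7142
theorem L7145 : sm gb N810 = N810 := ded_23_1 (flp_g L7142) L4941 L7142
theorem L7146 : sm gd N810 = N561 := ded_36_1 (flp_g L4954) (flp_d L4942) L7142
theorem L7148 : sm gi N810 = N810 := ded_51_2 (flp_g L7142) L4945 L7142
theorem L7149 : sm gf N810 = N810 := ded_45_1 (flp_g L7142) (flp_f L4938) L3394 L4938 L7142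
theorem L7150 : sm gh N559 = N811 := rfl
theorem L7152 : sm ga N811 = N811 := ded_17_1 (flp_h L7150) L4940 L7150
theorem L7153 : sm gb N811 = N811 := ded_25_1 (flp_h L7150) L4941 L7150
theorem L7154 : sm gf N811 = N560 := ded_47_1 (flp_h L4946) L4938 L7150
theorem L7156 : sm gj N811 = N811 := ded_52_1 (flp_h L7150) L4944 L7150
theorem L7157 : sm gd N811 = N811 := ded_38_1 (flp_h L7150) L4942 L3405 (flp_d L4942) L7150
theorem L7158 : sm gi N560 = N812 := rfl
theorem L7160 : sm ga N812 = N812 := ded_18_1 (flp_i L7158) L4948 L7158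
theorem L7161 : sm gb N812 = N812 := ded_26_1 (flp_i L7158) L4949 L7158
theorem L7162 : sm gd N812 = N812 := ded_39_1 (flp_i L7158) L4953 L7158
theorem L7163 : sm ge N812 = N812 := ded_44_1 (flp_i L7158) L4950 L7158
theorem L7164 : sm gg N812 = N812 := ded_51_1 (flp_i L7158) L4951 L7158
theorem L7165 : sm gj N812 = N812 := ded_53_1 (flp_i L7158) L4952 L7158
theorem L7166 : sm gh N812 = N812 := ded_54_1 (flp_i L7158) (flp_h L4946) L3396 L4946 L7158
theorem L7167 : sm gj N561 = N813 := rfl
theorem L7169 : sm ga N813 = N813 := ded_16_1 (flp_j L7167) L4956 L7167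
theorem L7170 : sm gb N813 = N813 := ded_24_1 (flp_j L7167) L4957 L7167
theorem L7171 : sm gc N813 = N562 := ded_31_1 (flp_j L4964) (flp_c L4958) L7167
theorem L7173 : sm ge N813 = N813 := ded_42_1 (flp_j L7167) L4960 L7167
theorem L7174 : sm gf N813 = N813 := ded_46_1 (flp_j L7167) L4963 L7167
theorem L7175 : sm gh N813 = N813 := ded_52_2 (flp_j L7167) L4961 L7167
theorem L7176 : sm gi N813 = N813 := ded_53_2 (flp_j L7167) L4962 L7167
theorem L7177 : sm gg N813 = N813 := ded_49_1 (flp_j L7167) (flp_g L4954) L3404 L4954 L7167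
theorem L7178 : sm gh N563 = N814 := rfl
theorem L7180 : sm ga N814 = N623 := ded_17_1 (flp_h L5520) (flp_a L4976) L7178
theorem L7182 : sm gc N814 = N814 := ded_32_1 (flp_h L7178) L4978 L7178
theorem L7183 : sm ge N814 = N814 := ded_43_1 (flp_h L7178) L4980 L7178
theorem L7184 : sm gf N814 = N814 := ded_47_1 (flp_h L7178) L4981 L7178
theorem L7185 : sm gg N814 = N564 := ded_50_1 (flp_h L4983) L4974 L7178
theorem L7187 : sm gj N814 = N814 := ded_52_1 (flp_h L7178) L4982 L7178
theorem L7188 : sm gi N563 = N815 := rfl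
theorem L7190 : sm ga N815 = N624 := ded_18_1 (flp_i L5529) (flp_a L4976) L7188
theorem L7192 : sm gc N815 = N815 := ded_33_1 (flp_i L7188) L4978 L7188
theorem L7193 : sm gd N815 = N815 := ded_39_1 (flp_i L7188) L4979 L7188
theorem L7194 : sm ge N815 = N815 := ded_44_1 (flp_i L7188) L4980 L7188
theorem L7195 : sm gf N815 = N815 := ded_48_1 (flp_i L7188) L4981 L7188
theorem L7196 : sm gg N815 = N565 := ded_51_1 (flp_i L4993) L4974 L7188
theorem L7198 : sm gj N815 = N815 := ded_53_1 (flp_i L7188) L4982 L7188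
theorem L7199 : sm gd N564 = N816 := rfl
theorem L7201 : sm ga N816 = N625 := ded_12_1 (flp_d L5539) (flp_a L4985) L7199
theorem L7203 : sm gf N816 = N569 := ded_35_2 (flp_d L5030) (flp_f L4989) L7199
theorem L7205 : sm gj N816 = N566 := ded_37_2 (flp_d L5004) (flp_j L4991) L7199
theorem L7207 : sm gh N816 = N816 := ded_38_2 (flp_d L7199) (flp_h L4983) L3422 L4983 L7199
theorem L7208 : sm gi N564 = N817 := rfl
theorem L7210 : sm ga N817 = N626 := ded_18_1 (flp_i L5547) (flp_a L4985) L7208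
theorem L7212 : sm gc N817 = N817 := ded_33_1 (flp_i L7208) L4987 L7208
theorem L7213 : sm ge N817 = N817 := ded_44_1 (flp_i L7208) L4988 L7208
theorem L7214 : sm gf N817 = N570 := ded_48_1 (flp_i L5039) (flp_f L4989) L7208
theorem L7216 : sm gj N817 = N567 := ded_53_1 (flp_i L5012) (flp_j L4991) L7208
theorem L7218 : sm gh N565 = N818 := rfl
theorem L7220 : sm ga N818 = N627 := ded_17_1 (flp_h L5556) (flp_a L4995) L7218
theorem L7222 : sm gc N818 = N818 := ded_32_1 (flp_h L7218) L4997 L7218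
theorem L7223 : sm ge N818 = N818 := ded_43_1 (flp_h L7218) L4999 L7218
theorem L7224 : sm gf N818 = N571 := ded_47_1 (flp_h L5049) (flp_f L5000) L7218
theorem L7226 : sm gj N818 = N568 := ded_52_1 (flp_h L5021) (flp_j L5002) L7218
theorem L7228 : sm gc N566 = N819 := rfl
theorem L7230 : sm ga N819 = N628 := ded_11_1 (flp_c L5565) (flp_a L5006) L7228
theorem L7232 : sm gf N819 = N572 := ded_29_2 (flp_c L5059) (flp_f L5008) L7228
theorem L7234 : sm gg N819 = N819 := ded_30_2 (flp_c L7228) L5010 L7228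
theorem L7235 : sm gh N819 = N819 := ded_32_2 (flp_c L7228) L5011 L7228
theorem L7236 : sm gb N819 = N819 := ded_19_1 (flp_c L7228) (flp_b L6700) L6705 L6700 L7228
theorem L7237 : sm gd N819 = N819 := ded_27_2 (flp_c L7228) (flp_d L5004) L3430 L5004 L7228
theorem L7238 : sm ge N566 = N820 := rfl
theorem L7240 : sm ga N820 = N629 := ded_13_1 (flp_e L5572) (flp_a L5006) L7238
theorem L7242 : sm gg N820 = N820 := ded_41_2 (flp_e L7238) L5010 L7238
theorem L7243 : sm gh N820 = N820 := ded_43_2 (flp_e L7238) L5011 L7238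
theorem L7244 : sm gd N820 = N820 := ded_34_1 (flp_e L7238) (flp_d L5004) L3431 L5004 L7238
theorem L7245 : sm gf N820 = N820 := ded_40_2 (flp_e L7238) L5008 L3472 (flp_f L5008) L7238
theorem L7246 : sm gi N566 = N821 := rfl
theorem L7248 : sm ga N821 = N630 := ded_18_1 (flp_i L5579) (flp_a L5006) L7246
theorem L7250 : sm gd N821 = N567 := ded_39_1 (flp_i L5012) L5004 L7246
theorem L7252 : sm gf N821 = N573 := ded_48_1 (flp_i L5069) (flp_f L5008) L7246
theorem L7254 : sm gg N821 = N821 := ded_51_1 (flp_i L7246) L5010 L7246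
theorem L7255 : sm gh N567 = N822 := rfl
theorem L7257 : sm ga N822 = N631 := ded_17_1 (flp_h L5587) (flp_a L5014) L7255
theorem L7259 : sm gc N822 = N822 := ded_32_1 (flp_h L7255) L5016 L7255
theorem L7260 : sm ge N822 = N822 := ded_43_1 (flp_h L7255) L5017 L7255
theorem L7261 : sm gf N822 = N574 := ded_47_1 (flp_h L5078) (flp_f L5018) L7255
theorem L7263 : sm gg N822 = N822 := ded_50_1 (flp_h L7255) L5020 L7255
theorem L7264 : sm gi N822 = N568 := ded_54_2 (flp_h L5021) (flp_i L3435) L3426 L5012 L7255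
theorem L7266 : sm gd N568 = N823 := rfl
theorem L7268 : sm ga N823 = N632 := ded_12_1 (flp_d L5597) (flp_a L5023) L7266
theorem L7270 : sm gf N823 = N575 := ded_35_2 (flp_d L5089) (flp_f L5027) L7266
theorem L7272 : sm gg N823 = N823 := ded_36_2 (flp_d L7266) L5029 L7266
theorem L7273 : sm gh N823 = N823 := ded_38_2 (flp_d L7266) (flp_h L5021) L3440 L5021 L7266
theorem L7274 : sm gc N569 = N824 := rfl
theorem L7276 : sm ga N824 = N633 := ded_11_1 (flp_c L5604) (flp_a L5032) L7274
theorem L7278 : sm ge N824 = N824 := ded_28_2 (flp_c L7274) L5037 L7274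
theorem L7279 : sm gg N824 = N824 := ded_30_2 (flp_c L7274) L5034 L7274
theorem L7280 : sm gj N824 = N572 := ded_31_2 (flp_c L5059) (flp_j L5035) L7274
theorem L7282 : sm gh N824 = N824 := ded_32_2 (flp_c L7274) L5038 L7274
theorem L7283 : sm gb N824 = N824 := ded_19_1 (flp_c L7274) (flp_b L6728) L6733 L6728 L7274
theorem L7284 : sm gd N824 = N824 := ded_27_2 (flp_c L7274) (flp_d L5030) L3449 L5030 L7274
theorem L7285 : sm gi N569 = N825 := rfl
theorem L7287 : sm ga N825 = N634 := ded_18_1 (flp_i L5612) (flp_a L5032) L7285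
theorem L7289 : sm gd N825 = N570 := ded_39_1 (flp_i L5039) L5030 L7285
theorem L7291 : sm ge N825 = N825 := ded_44_1 (flp_i L7285) L5037 L7285
theorem L7292 : sm gg N825 = N825 := ded_51_1 (flp_i L7285) L5034 L7285
theorem L7293 : sm gj N825 = N573 := ded_53_1 (flp_i L5069) (flp_j L5035) L7285
theorem L7295 : sm gh N570 = N826 := rfl
theorem L7297 : sm ga N826 = N635 := ded_17_1 (flp_h L5621) (flp_a L5041) L7295
theorem L7299 : sm gc N826 = N826 := ded_32_1 (flp_h L7295) L5043 L7295
theorem L7300 : sm ge N826 = N581 := ded_43_1 (flp_h L5139) (flp_e L5044) L7295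
theorem L7302 : sm gg N826 = N826 := ded_50_1 (flp_h L7295) L5046 L7295
theorem L7303 : sm gj N826 = N574 := ded_52_1 (flp_h L5078) (flp_j L5047) L7295
theorem L7305 : sm gi N826 = N571 := ded_54_2 (flp_h L5049) (flp_i L3455) L3445 L5039 L7295
theorem L7307 : sm gd N571 = N827 := rfl
theorem L7309 : sm ga N827 = N636 := ded_12_1 (flp_d L5632) (flp_a L5051) L7307
theorem L7311 : sm gg N827 = N827 := ded_36_2 (flp_d L7307) L5056 L7307
theorem L7312 : sm gj N827 = N575 := ded_37_2 (flp_d L5089) (flp_j L5057) L7307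
theorem L7314 : sm gh N827 = N827 := ded_38_2 (flp_d L7307) (flp_h L5049) L3460 L5049 L7307
theorem L7315 : sm gi N572 = N828 := rfl
theorem L7317 : sm ga N828 = N638 := ded_18_1 (flp_i L5648) (flp_a L5061) L7315
theorem L7319 : sm gb N828 = N828 := ded_26_1 (flp_i L7315) L5067 L7315
theorem L7320 : sm gc N828 = N573 := ded_33_1 (flp_i L5069) L5059 L7315
theorem L7322 : sm gd N828 = N828 := ded_39_1 (flp_i L7315) L5068 L7315
theorem L7323 : sm ge N828 = N828 := ded_44_1 (flp_i L7315) L5063 L7315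
theorem L7324 : sm gg N828 = N576 := ded_51_1 (flp_i L5096) (flp_g L5064) L7315
theorem L7326 : sm gh N573 = N829 := rfl
theorem L7328 : sm ga N829 = N639 := ded_17_1 (flp_h L5656) (flp_a L5071) L7326
theorem L7330 : sm ge N829 = N829 := ded_43_1 (flp_h L7326) L5075 L7326
theorem L7331 : sm gg N829 = N577 := ded_50_1 (flp_h L5107) (flp_g L5076) L7326
theorem L7333 : sm gi N829 = N829 := ded_54_2 (flp_h L7326) (flp_i L5069) L3473 L5069 L7326
theorem L7334 : sm gd N574 = N830 := rfl
theorem L7336 : sm ga N830 = N640 := ded_12_1 (flp_d L5663) (flp_a L5080) L7334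
theorem L7338 : sm gg N830 = N578 := ded_36_2 (flp_d L5115) (flp_g L5085) L7334
theorem L7340 : sm gi N830 = N575 := ded_39_2 (flp_d L5089) (flp_i L5087) L7334
theorem L7342 : sm gc N575 = N831 := rfl
theorem L7344 : sm ga N831 = N641 := ded_11_1 (flp_c L5670) (flp_a L5091) L7342
theorem L7346 : sm gg N831 = N579 := ded_30_2 (flp_c L5123) (flp_g L5093) L7342
theorem L7348 : sm gh N831 = N831 := ded_32_2 (flp_c L7342) L5095 L7342
theorem L7349 : sm gd N831 = N831 := ded_27_2 (flp_c L7342) (flp_d L5089) L3487 L5089 L7342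
theorem L7350 : sm ge N575 = N832 := rfl
theorem L7352 : sm ga N832 = N642 := ded_13_1 (flp_e L5676) (flp_a L5091) L7350
theorem L7354 : sm gg N832 = N580 := ded_41_2 (flp_e L5131) (flp_g L5093) L7350
theorem L7356 : sm gh N832 = N832 := ded_43_2 (flp_e L7350) L5095 L7350
theorem L7357 : sm gd N832 = N585 := ded_34_1 (flp_e L5180) (flp_d L3558) (flp_e L3488) L5089 L7350
theorem L7359 : sm gh N576 = N833 := rfl
theorem L7361 : sm ga N833 = N644 := ded_17_1 (flp_h L5694) (flp_a L5098) L7359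
theorem L7364 : sm gc N833 = N577 := ded_32_1 (flp_h L5107) (flp_c L5101) L7359
theorem L7368 : sm gj N833 = N833 := ded_52_1 (flp_h L7359) L5106 L7359
theorem L7369 : sm gi N833 = N833 := ded_54_2 (flp_h L7359) (flp_i L5096) L3499 L5096 L7359
theorem L7370 : sm gd N577 = N834 := rfl
theorem L7372 : sm ga N834 = N645 := ded_12_1 (flp_d L5702) (flp_a L5109) L7370
theorem L7374 : sm gf N834 = N834 := ded_35_2 (flp_d L7370) L5112 L7370
theorem L7375 : sm gj N834 = N834 := ded_37_2 (flp_d L7370) L5113 L7370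
theorem L7376 : sm gi N834 = N834 := ded_39_2 (flp_d L7370) L5114 L7370
theorem L7377 : sm gh N834 = N578 := ded_38_2 (flp_d L5115) (flp_h L3511) (flp_d L3506) L5107 L7370
theorem L7379 : sm gc N578 = N835 := rfl
theorem L7381 : sm ga N835 = N646 := ded_11_1 (flp_c L5710) (flp_a L5117) L7379
theorem L7383 : sm gf N835 = N835 := ded_29_2 (flp_c L7379) L5119 L7379
theorem L7384 : sm gj N835 = N835 := ded_31_2 (flp_c L7379) L5120 L7379
theorem L7385 : sm gi N835 = N579 := ded_33_2 (flp_c L5123) (flp_i L5121) L7379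
theorem L7387 : sm gd N835 = N835 := ded_27_2 (flp_c L7379) (flp_d L5115) L3515 L5115 L7379
theorem L7388 : sm ge N578 = N836 := rfl
theorem L7390 : sm ga N836 = N647 := ded_13_1 (flp_e L5717) (flp_a L5117) L7388
theorem L7392 : sm gj N836 = N836 := ded_42_2 (flp_e L7388) L5120 L7388
theorem L7393 : sm gi N836 = N580 := ded_44_2 (flp_e L5131) (flp_i L5121) L7388
theorem L7395 : sm gd N836 = N587 := ded_34_1 (flp_e L5199) (flp_d L3567) (flp_e L3516) L5115 L7388
theorem L7397 : sm gb N579 = N837 := rfl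
theorem L7399 : sm gd N837 = N837 := ded_20_2 (flp_b L7397) L5130 L7397
theorem L7400 : sm gf N837 = N837 := ded_22_2 (flp_b L7397) L5127 L7397
theorem L7401 : sm gj N837 = N837 := ded_24_2 (flp_b L7397) L5128 L7397
theorem L7402 : sm gh N837 = N837 := ded_25_2 (flp_b L7397) L5129 L7397
theorem L7403 : sm ge N579 = N838 := rfl
theorem L7405 : sm ga N838 = N649 := ded_13_1 (flp_e L5732) (flp_a L5125) L7403
theorem L7407 : sm gc N838 = N580 := ded_28_1 (flp_e L5131) L5123 L7403
theorem L7409 : sm gj N838 = N838 := ded_42_2 (flp_e L7403) L5128 L7403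
theorem L7410 : sm gh N838 = N838 := ded_43_2 (flp_e L7403) L5129 L7403
theorem L7411 : sm gf N580 = N839 := rfl
theorem L7413 : sm ga N839 = N650 := ded_14_1 (flp_f L5738) (flp_a L5133) L7411
theorem L7415 : sm gd N839 = N590 := ded_35_1 (flp_f L5224) (flp_d L5137) L7411
theorem L7417 : sm gj N839 = N839 := ded_46_2 (flp_f L7411) L5135 L7411
theorem L7418 : sm gh N839 = N839 := ded_47_2 (flp_f L7411) L5136 L7411
theorem L7419 : sm ge N839 = N839 := ded_40_1 (flp_f L7411) (flp_e L5131) L3526 L5131 L7411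
theorem L7420 : sm gd N581 = N840 := rfl
theorem L7422 : sm ga N840 = N651 := ded_12_1 (flp_d L5746) (flp_a L5141) L7420
theorem L7424 : sm gf N840 = N840 := ded_35_2 (flp_d L7420) L5144 L7420
theorem L7425 : sm gg N840 = N840 := ded_36_2 (flp_d L7420) L5145 L7420
theorem L7426 : sm gj N840 = N583 := ded_37_2 (flp_d L5160) (flp_j L5146) L7420
theorem L7428 : sm gi N840 = N582 := ded_39_2 (flp_d L5150) (flp_i L5148) L7420
theorem L7430 : sm gh N840 = N840 := ded_38_2 (flp_d L7420) (flp_h L5139) L3534 L5139 L7420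
theorem L7431 : sm gc N582 = N841 := rfl
theorem L7433 : sm ga N841 = N652 := ded_11_1 (flp_c L5756) (flp_a L5152) L7431
theorem L7435 : sm gf N841 = N841 := ded_29_2 (flp_c L7431) L5154 L7431
theorem L7436 : sm gg N841 = N841 := ded_30_2 (flp_c L7431) L5155 L7431
theorem L7437 : sm gj N841 = N584 := ded_31_2 (flp_c L5170) (flp_j L5156) L7431
theorem L7439 : sm gh N841 = N599 := ded_32_2 (flp_c L5304) (flp_h L5158) L7431
theorem L7441 : sm gd N841 = N841 := ded_27_2 (flp_c L7431) (flp_d L5150) L3543 L5150 L7431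
theorem L7442 : sm ge N582 = N842 := rfl
theorem L7444 : sm ga N842 = N653 := ded_13_1 (flp_e L5765) (flp_a L5152) L7442
theorem L7446 : sm gg N842 = N842 := ded_41_2 (flp_e L7442) L5155 L7442
theorem L7447 : sm gj N842 = N585 := ded_42_2 (flp_e L5180) (flp_j L5156) L7442
theorem L7449 : sm gh N842 = N600 := ded_43_2 (flp_e L5315) (flp_h L5158) L7442
theorem L7451 : sm gc N583 = N843 := rfl
theorem L7453 : sm ga N843 = N654 := ded_11_1 (flp_c L5773) (flp_a L5162) L7451
theorem L7455 : sm gf N843 = N843 := ded_29_2 (flp_c L7451) L5164 L7451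
theorem L7456 : sm gg N843 = N586 := ded_30_2 (flp_c L5188) (flp_g L5165) L7451
theorem L7458 : sm gh N843 = N843 := ded_32_2 (flp_c L7451) L5169 L7451
theorem L7459 : sm gi N843 = N584 := ded_33_2 (flp_c L5170) (flp_i L5167) L7451
theorem L7461 : sm gd N843 = N843 := ded_27_2 (flp_c L7451) (flp_d L5160) L3552 L5160 L7451
theorem L7462 : sm ge N583 = N844 := rfl
theorem L7464 : sm ga N844 = N655 := ded_13_1 (flp_e L5782) (flp_a L5162) L7462
theorem L7466 : sm gg N844 = N587 := ded_41_2 (flp_e L5199) (flp_g L5165) L7462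
theorem L7468 : sm gh N844 = N844 := ded_43_2 (flp_e L7462) L5169 L7462
theorem L7469 : sm gi N844 = N585 := ded_44_2 (flp_e L5180) (flp_i L5167) L7462
theorem L7471 : sm gb N584 = N845 := rfl
theorem L7473 : sm gd N845 = N845 := ded_20_2 (flp_b L7471) L5179 L7471
theorem L7474 : sm gf N845 = N845 := ded_22_2 (flp_b L7471) L5174 L7471
theorem L7475 : sm gg N845 = N588 := ded_23_2 (flp_b L5207) (flp_g L5175) L7471
theorem L7477 : sm gh N845 = N601 := ded_25_2 (flp_b L5324) (flp_h L5177) L7471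
theorem L7479 : sm ge N584 = N846 := rfl
theorem L7481 : sm ga N846 = N657 := ded_13_1 (flp_e L5799) (flp_a L5172) L7479
theorem L7483 : sm gc N846 = N585 := ded_28_1 (flp_e L5180) L5170 L7479
theorem L7485 : sm gg N846 = N589 := ded_41_2 (flp_e L5215) (flp_g L5175) L7479
theorem L7487 : sm gh N846 = N602 := ded_43_2 (flp_e L5332) (flp_h L5177) L7479
theorem L7489 : sm gf N585 = N847 := rfl
theorem L7491 : sm ga N847 = N658 := ded_14_1 (flp_f L5807) (flp_a L5182) L7489
theorem L7493 : sm gh N847 = N603 := ded_47_2 (flp_f L5341) (flp_h L5186) L7489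
theorem L7495 : sm ge N847 = N847 := ded_40_1 (flp_f L7489) (flp_e L5180) L3562 L5180 L7489
theorem L7496 : sm gb N586 = N848 := rfl
theorem L7498 : sm gd N848 = N848 := ded_20_2 (flp_b L7496) L5198 L7496
theorem L7499 : sm gf N848 = N591 := ded_22_2 (flp_b L5233) (flp_f L5192) L7496
theorem L7501 : sm gj N848 = N848 := ded_24_2 (flp_b L7496) L5194 L7496
theorem L7502 : sm gh N848 = N848 := ded_25_2 (flp_b L7496) L5195 L7496
theorem L7503 : sm gi N848 = N588 := ded_26_2 (flp_b L5207) (flp_i L5196) L7496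
theorem L7505 : sm ge N586 = N849 := rfl
theorem L7507 : sm ga N849 = N660 := ded_13_1 (flp_e L5823) (flp_a L5190) L7505
theorem L7509 : sm gc N849 = N587 := ded_28_1 (flp_e L5199) L5188 L7505
theorem L7511 : sm gj N849 = N849 := ded_42_2 (flp_e L7505) L5194 L7505
theorem L7512 : sm gh N849 = N849 := ded_43_2 (flp_e L7505) L5195 L7505
theorem L7513 : sm gi N849 = N589 := ded_44_2 (flp_e L5215) (flp_i L5196) L7505
theorem L7515 : sm gf N587 = N850 := rfl
theorem L7517 : sm ga N850 = N661 := ded_14_1 (flp_f L5831) (flp_a L5201) L7515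
theorem L7519 : sm gj N850 = N850 := ded_46_2 (flp_f L7515) L5203 L7515
theorem L7520 : sm gh N850 = N850 := ded_47_2 (flp_f L7515) L5204 L7515
theorem L7521 : sm gi N850 = N590 := ded_48_2 (flp_f L5224) (flp_i L5205) L7515
theorem L7523 : sm ge N850 = N593 := ded_40_1 (flp_f L5252) (flp_e L3604) (flp_f L3571) L5199 L7515
theorem L7525 : sm ga N588 = N851 := rfl
theorem L7527 : sm gd N851 = N851 := ded_12_2 (flp_a L7525) L5209 L7525
theorem L7528 : sm gf N851 = N594 := ded_14_2 (flp_a L5261) (flp_f L5210) L7525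
theorem L7530 : sm gj N851 = N851 := ded_16_2 (flp_a L7525) L5212 L7525
theorem L7531 : sm gh N851 = N604 := ded_17_2 (flp_a L5348) (flp_h L5213) L7525
theorem L7533 : sm gb N851 = N662 := ded_10_2 (flp_a L5840) (flp_b L4021) (flp_a L3579) L5207 L7525
theorem L7535 : sm ge N588 = N852 := rfl
theorem L7537 : sm gb N852 = N589 := ded_21_1 (flp_e L5215) L5207 L7535
theorem L7539 : sm gj N852 = N852 := ded_42_2 (flp_e L7535) L5212 L7535
theorem L7540 : sm gh N852 = N605 := ded_43_2 (flp_e L5358) (flp_h L5213) L7535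
theorem L7542 : sm gd N589 = N853 := rfl
theorem L7544 : sm ga N853 = N664 := ded_12_1 (flp_d L5857) (flp_a L5217) L7542
theorem L7546 : sm gj N853 = N853 := ded_37_2 (flp_d L7542) L5221 L7542
theorem L7547 : sm ge N853 = N853 := ded_34_2 (flp_d L7542) (flp_e L5215) L3586 L5215 L7542
theorem L7548 : sm gf N589 = N854 := rfl
theorem L7550 : sm ga N854 = N665 := ded_14_1 (flp_f L5861) (flp_a L5217) L7548
theorem L7552 : sm gc N854 = N590 := ded_29_1 (flp_f L5224) (flp_c L5219) L7548
theorem L7554 : sm gj N854 = N854 := ded_46_2 (flp_f L7548) L5221 L7548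
theorem L7555 : sm gh N854 = N607 := ded_47_2 (flp_f L5373) (flp_h L5222) L7548
theorem L7557 : sm ge N854 = N597 := ded_40_1 (flp_f L5287) (flp_e L3621) (flp_f L3581) L5215 L7548
theorem L7559 : sm gg N590 = N855 := rfl
theorem L7561 : sm ga N855 = N666 := ded_15_1 (flp_g L5870) (flp_a L5226) L7559
theorem L7563 : sm ge N855 = N598 := ded_41_1 (flp_g L5296) (flp_e L5231) L7559
theorem L7565 : sm gh N855 = N608 := ded_50_2 (flp_g L5383) (flp_h L5229) L7559
theorem L7567 : sm ga N591 = N856 := rfl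
theorem L7569 : sm gd N856 = N856 := ded_12_2 (flp_a L7567) L5235 L7567
theorem L7570 : sm gg N856 = N856 := ded_15_2 (flp_a L7567) L5236 L7567
theorem L7571 : sm gj N856 = N856 := ded_16_2 (flp_a L7567) L5237 L7567
theorem L7572 : sm gh N856 = N856 := ded_17_2 (flp_a L7567) L5238 L7567
theorem L7573 : sm gi N856 = N594 := ded_18_2 (flp_a L5261) (flp_i L5239) L7567
theorem L7575 : sm gb N856 = N667 := ded_10_2 (flp_a L5877) (flp_b L4045) (flp_a L3596) L5233 L7567
theorem L7577 : sm ge N591 = N857 := rfl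
theorem L7579 : sm gb N857 = N592 := ded_21_1 (flp_e L5241) L5233 L7577
theorem L7581 : sm gg N857 = N857 := ded_41_2 (flp_e L7577) L5236 L7577
theorem L7582 : sm gj N857 = N857 := ded_42_2 (flp_e L7577) L5237 L7577
theorem L7583 : sm gh N857 = N857 := ded_43_2 (flp_e L7577) L5238 L7577
theorem L7584 : sm gi N857 = N595 := ded_44_2 (flp_e L5270) (flp_i L5239) L7577
theorem L7586 : sm gd N592 = N858 := rfl
theorem L7588 : sm ga N858 = N669 := ded_12_1 (flp_d L5896) (flp_a L5243) L7586
theorem L7590 : sm gg N858 = N858 := ded_36_2 (flp_d L7586) L5247 L7586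
theorem L7591 : sm gj N858 = N858 := ded_37_2 (flp_d L7586) L5248 L7586
theorem L7592 : sm gi N858 = N596 := ded_39_2 (flp_d L5278) (flp_i L5250) L7586
theorem L7594 : sm gc N858 = N858 := ded_27_1 (flp_d L7586) L5245 L3613 (flp_c L5245) L7586
theorem L7595 : sm ge N858 = N858 := ded_34_2 (flp_d L7586) (flp_e L5241) L3603 L5241 L7586
theorem L7596 : sm gf N592 = N859 := rfl
theorem L7598 : sm ga N859 = N670 := ded_14_1 (flp_f L5904) (flp_a L5243) L7596
theorem L7600 : sm gc N859 = N593 := ded_29_1 (flp_f L5252) (flp_c L5245) L7596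
theorem L7602 : sm gj N859 = N859 := ded_46_2 (flp_f L7596) L5248 L7596
theorem L7603 : sm gh N859 = N859 := ded_47_2 (flp_f L7596) L5249 L7596
theorem L7604 : sm gi N859 = N597 := ded_48_2 (flp_f L5287) (flp_i L5250) L7596
theorem L7606 : sm gg N593 = N860 := rfl
theorem L7608 : sm ga N860 = N671 := ded_15_1 (flp_g L5912) (flp_a L5254) L7606
theorem L7610 : sm gd N860 = N860 := ded_36_1 (flp_g L7606) L5256 L7606
theorem L7611 : sm gh N860 = N860 := ded_50_2 (flp_g L7606) L5258 L7606
theorem L7612 : sm gi N860 = N598 := ded_51_2 (flp_g L5296) (flp_i L5259) L7606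
theorem L7614 : sm gf N860 = N860 := ded_45_1 (flp_g L7606) (flp_f L5252) L3608 L5252 L7606
theorem L7615 : sm ge N594 = N861 := rfl
theorem L7617 : sm ga N861 = N595 := ded_13_1 (flp_e L5270) L5261 L7615
theorem L7619 : sm gb N861 = N672 := ded_21_1 (flp_e L5920) (flp_b L5268) L7615
theorem L7621 : sm gg N861 = N861 := ded_41_2 (flp_e L7615) L5264 L7615
theorem L7622 : sm gj N861 = N861 := ded_42_2 (flp_e L7615) L5265 L7615
theorem L7623 : sm gh N861 = N609 := ded_43_2 (flp_e L5391) (flp_h L5266) L7615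
theorem L7625 : sm gd N595 = N862 := rfl
theorem L7627 : sm gb N862 = N596 := ded_20_1 (flp_d L5278) (flp_b L5272) L7625
theorem L7629 : sm gg N862 = N862 := ded_36_2 (flp_d L7625) L5274 L7625
theorem L7630 : sm gj N862 = N862 := ded_37_2 (flp_d L7625) L5275 L7625
theorem L7631 : sm ge N862 = N862 := ded_34_2 (flp_d L7625) (flp_e L5270) L3616 L5270 L7625
theorem L7632 : sm gh N862 = N862 := ded_38_2 (flp_d L7625) L5276 L3707 (flp_h L5276) L7625
theorem L7633 : sm gf N595 = N863 := rfl
theorem L7635 : sm gb N863 = N597 := ded_22_1 (flp_f L5287) (flp_b L5272) L7633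
theorem L7637 : sm gj N863 = N863 := ded_46_2 (flp_f L7633) L5275 L7633
theorem L7638 : sm gh N863 = N610 := ded_47_2 (flp_f L5401) (flp_h L5276) L7633
theorem L7640 : sm gf N596 = N864 := rfl
theorem L7642 : sm ga N864 = N675 := ded_14_1 (flp_f L5945) (flp_a L5280) L7640
theorem L7644 : sm gc N864 = N864 := ded_29_1 (flp_f L7640) L5284 L7640
theorem L7645 : sm gd N864 = N597 := ded_35_1 (flp_f L5287) L5278 L7640
theorem L7647 : sm gj N864 = N864 := ded_46_2 (flp_f L7640) L5283 L7640
theorem L7648 : sm gh N864 = N864 := ded_47_2 (flp_f L7640) L5286 L7640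
theorem L7649 : sm gg N597 = N865 := rfl
theorem L7651 : sm ga N865 = N676 := ded_15_1 (flp_g L5952) (flp_a L5289) L7649
theorem L7653 : sm gc N865 = N598 := ded_30_1 (flp_g L5296) (flp_c L5291) L7649
theorem L7655 : sm gh N865 = N611 := ded_50_2 (flp_g L5408) (flp_h L5294) L7649
theorem L7657 : sm gf N865 = N865 := ded_45_1 (flp_g L7649) (flp_f L5287) L3627 L5287 L7649
theorem L7658 : sm gj N598 = N866 := rfl
theorem L7660 : sm ga N866 = N677 := ded_16_1 (flp_j L5959) (flp_a L5298) L7658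
theorem L7662 : sm gd N866 = N866 := ded_37_1 (flp_j L7658) L5300 L7658
theorem L7663 : sm gf N866 = N866 := ded_46_1 (flp_j L7658) L5303 L7658
theorem L7664 : sm gh N866 = N612 := ded_52_2 (flp_j L5417) (flp_h L5301) L7658
theorem L7666 : sm gg N866 = N866 := ded_49_1 (flp_j L7658) (flp_g L5296) L3636 L5296 L7658
theorem L7667 : sm gb N599 = N867 := rfl
theorem L7669 : sm gd N867 = N613 := ded_20_2 (flp_b L5426) (flp_d L5313) L7667
theorem L7671 : sm gf N867 = N867 := ded_22_2 (flp_b L7667) L5308 L7667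
theorem L7672 : sm gg N867 = N867 := ded_23_2 (flp_b L7667) L5309 L7667
theorem L7673 : sm gj N867 = N601 := ded_24_2 (flp_b L5324) (flp_j L5310) L7667
theorem L7675 : sm gi N867 = N867 := ded_26_2 (flp_b L7667) L5312 L7667
theorem L7676 : sm ge N599 = N868 := rfl
theorem L7678 : sm ga N868 = N679 := ded_13_1 (flp_e L5977) (flp_a L5306) L7676
theorem L7680 : sm gc N868 = N600 := ded_28_1 (flp_e L5315) L5304 L7676
theorem L7682 : sm gg N868 = N868 := ded_41_2 (flp_e L7676) L5309 L7676
theorem L7683 : sm gj N868 = N602 := ded_42_2 (flp_e L5332) (flp_j L5310) L7676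
theorem L7685 : sm gi N868 = N868 := ded_44_2 (flp_e L7676) L5312 L7676
theorem L7686 : sm gf N600 = N869 := rfl
theorem L7688 : sm ga N869 = N680 := ded_14_1 (flp_f L5985) (flp_a L5317) L7686
theorem L7690 : sm gd N869 = N869 := ded_35_1 (flp_f L7686) L5323 L7686
theorem L7691 : sm gj N869 = N603 := ded_46_2 (flp_f L5341) (flp_j L5320) L7686
theorem L7693 : sm gi N869 = N869 := ded_48_2 (flp_f L7686) L5322 L7686
theorem L7694 : sm ge N869 = N869 := ded_40_1 (flp_f L7686) (flp_e L5315) L3643 L5315 L7686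
theorem L7695 : sm ga N601 = N870 := rfl
theorem L7697 : sm gd N870 = N616 := ded_12_2 (flp_a L5457) (flp_d L5326) L7695
theorem L7699 : sm gf N870 = N870 := ded_14_2 (flp_a L7695) L5328 L7695
theorem L7700 : sm gg N870 = N604 := ded_15_2 (flp_a L5348) (flp_g L5329) L7695
theorem L7702 : sm gi N870 = N870 := ded_18_2 (flp_a L7695) L5331 L7695
theorem L7703 : sm gb N870 = N681 := ded_10_2 (flp_a L5993) (flp_b L4126) (flp_a L3650) L5324 L7695
theorem L7705 : sm ge N601 = N871 := rfl
theorem L7707 : sm gb N871 = N602 := ded_21_1 (flp_e L5332) L5324 L7705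
theorem L7709 : sm gg N871 = N605 := ded_41_2 (flp_e L5358) (flp_g L5329) L7705
theorem L7711 : sm gi N871 = N871 := ded_44_2 (flp_e L7705) L5331 L7705
theorem L7712 : sm gd N602 = N872 := rfl
theorem L7714 : sm ga N872 = N683 := ded_12_1 (flp_d L6010) (flp_a L5334) L7712
theorem L7716 : sm gg N872 = N606 := ded_36_2 (flp_d L5364) (flp_g L5338) L7712
theorem L7718 : sm gi N872 = N872 := ded_39_2 (flp_d L7712) L5340 L7712
theorem L7719 : sm gc N872 = N872 := ded_27_1 (flp_d L7712) L5336 L3665 (flp_c L5336) L7712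
theorem L7720 : sm ge N872 = N618 := ded_34_2 (flp_d L5476) (flp_e L3764) (flp_d L3656) L5332 L7712
theorem L7722 : sm gf N602 = N873 := rfl
theorem L7724 : sm ga N873 = N684 := ded_14_1 (flp_f L6018) (flp_a L5334) L7722
theorem L7726 : sm gc N873 = N603 := ded_29_1 (flp_f L5341) (flp_c L5336) L7722
theorem L7728 : sm gi N873 = N873 := ded_48_2 (flp_f L7722) L5340 L7722
theorem L7729 : sm ge N873 = N873 := ded_40_1 (flp_f L7722) (flp_e L5332) L3652 L5332 L7722
theorem L7730 : sm gg N603 = N874 := rfl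
theorem L7732 : sm ga N874 = N685 := ded_15_1 (flp_g L6024) (flp_a L5343) L7730
theorem L7734 : sm gd N874 = N874 := ded_36_1 (flp_g L7730) L5345 L7730
theorem L7735 : sm ge N874 = N874 := ded_41_1 (flp_g L7730) L5347 L7730
theorem L7736 : sm gi N874 = N874 := ded_51_2 (flp_g L7730) L5346 L7730
theorem L7737 : sm gf N874 = N608 := ded_45_1 (flp_g L5383) (flp_f L3682) (flp_g L3662) L5341 L7730
theorem L7739 : sm ge N604 = N875 := rfl
theorem L7741 : sm ga N875 = N605 := ded_13_1 (flp_e L5358) L5348 L7739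
theorem L7743 : sm gb N875 = N686 := ded_21_1 (flp_e L6032) (flp_b L5356) L7739
theorem L7745 : sm gj N875 = N875 := ded_42_2 (flp_e L7739) L5354 L7739
theorem L7746 : sm gi N875 = N875 := ded_44_2 (flp_e L7739) L5355 L7739
theorem L7747 : sm gd N605 = N876 := rfl
theorem L7749 : sm gb N876 = N606 := ded_20_1 (flp_d L5364) (flp_b L5360) L7747
theorem L7751 : sm gj N876 = N876 := ded_37_2 (flp_d L7747) L5362 L7747
theorem L7752 : sm gi N876 = N876 := ded_39_2 (flp_d L7747) L5363 L7747
theorem L7753 : sm ge N876 = N621 := ded_34_2 (flp_d L5505) (flp_e L3794) (flp_d L3668) L5358 L7747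
theorem L7755 : sm gf N605 = N877 := rfl
theorem L7757 : sm gb N877 = N607 := ded_22_1 (flp_f L5373) (flp_b L5360) L7755
theorem L7759 : sm gj N877 = N877 := ded_46_2 (flp_f L7755) L5362 L7755
theorem L7760 : sm gi N877 = N877 := ded_48_2 (flp_f L7755) L5363 L7755
theorem L7761 : sm ge N877 = N610 := ded_40_1 (flp_f L5401) (flp_e L3700) (flp_f L3670) L5358 L7755
theorem L7763 : sm gf N606 = N878 := rfl
theorem L7765 : sm ga N878 = N689 := ded_14_1 (flp_f L6056) (flp_a L5366) L7763
theorem L7767 : sm gc N878 = N878 := ded_29_1 (flp_f L7763) L5370 L7763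
theorem L7768 : sm gd N878 = N607 := ded_35_1 (flp_f L5373) L5364 L7763
theorem L7770 : sm gj N878 = N878 := ded_46_2 (flp_f L7763) L5368 L7763
theorem L7771 : sm gi N878 = N878 := ded_48_2 (flp_f L7763) L5369 L7763
theorem L7772 : sm ge N878 = N878 := ded_40_1 (flp_f L7763) L5371 L3807 (flp_e L5371) L7763
theorem L7773 : sm gh N606 = N879 := rfl
theorem L7775 : sm ga N879 = N690 := ded_17_1 (flp_h L6064) (flp_a L5366) L7773
theorem L7777 : sm gc N879 = N879 := ded_32_1 (flp_h L7773) L5370 L7773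
theorem L7778 : sm ge N879 = N622 := ded_43_1 (flp_h L5512) (flp_e L5371) L7773
theorem L7780 : sm gj N879 = N879 := ded_52_1 (flp_h L7773) L5368 L7773
theorem L7781 : sm gg N607 = N880 := rfl
theorem L7783 : sm ga N880 = N691 := ded_15_1 (flp_g L6070) (flp_a L5375) L7781
theorem L7785 : sm gc N880 = N608 := ded_30_1 (flp_g L5383) (flp_c L5377) L7781
theorem L7787 : sm ge N880 = N611 := ded_41_1 (flp_g L5408) (flp_e L5381) L7781
theorem L7789 : sm gi N880 = N880 := ded_51_2 (flp_g L7781) L5380 L7781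
theorem L7790 : sm gj N608 = N881 := rfl
theorem L7792 : sm ga N881 = N692 := ded_16_1 (flp_j L6077) (flp_a L5385) L7790
theorem L7794 : sm gd N881 = N881 := ded_37_1 (flp_j L7790) L5387 L7790
theorem L7795 : sm ge N881 = N612 := ded_42_1 (flp_j L5417) (flp_e L5388) L7790
theorem L7797 : sm gi N881 = N881 := ded_53_2 (flp_j L7790) L5390 L7790
theorem L7798 : sm gg N881 = N881 := ded_49_1 (flp_j L7790) (flp_g L5383) L3687 L5383 L7790
theorem L7799 : sm gf N609 = N882 := rfl
theorem L7801 : sm ga N882 = N610 := ded_14_1 (flp_f L5401) (flp_a L5393) L7799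
theorem L7803 : sm gb N882 = N693 := ded_22_1 (flp_f L6085) (flp_b L5395) L7799
theorem L7805 : sm gd N882 = N882 := ded_35_1 (flp_f L7799) L5400 L7799
theorem L7806 : sm gj N882 = N882 := ded_46_2 (flp_f L7799) L5398 L7799
theorem L7807 : sm gi N882 = N882 := ded_48_2 (flp_f L7799) L5399 L7799
theorem L7808 : sm gg N610 = N883 := rfl
theorem L7810 : sm gb N883 = N611 := ded_23_1 (flp_g L5408) (flp_b L5403) L7808
theorem L7812 : sm gd N883 = N883 := ded_36_1 (flp_g L7808) L5405 L7808
theorem L7813 : sm gi N883 = N883 := ded_51_2 (flp_g L7808) L5407 L7808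
theorem L7814 : sm gf N883 = N883 := ded_45_1 (flp_g L7808) (flp_f L5401) L3704 L5401 L7808
theorem L7815 : sm gj N611 = N884 := rfl
theorem L7817 : sm ga N884 = N695 := ded_16_1 (flp_j L6101) (flp_a L5410) L7815
theorem L7819 : sm gc N884 = N612 := ded_31_1 (flp_j L5417) (flp_c L5412) L7815
theorem L7821 : sm gd N884 = N884 := ded_37_1 (flp_j L7815) L5414 L7815
theorem L7822 : sm gf N884 = N884 := ded_46_1 (flp_j L7815) L5416 L7815
theorem L7823 : sm gi N884 = N884 := ded_53_2 (flp_j L7815) L5415 L7815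
theorem L7824 : sm gg N884 = N884 := ded_49_1 (flp_j L7815) (flp_g L5408) L3715 L5408 L7815
theorem L7825 : sm ga N613 = N885 := rfl
theorem L7827 : sm gc N885 = N885 := ded_11_2 (flp_a L7825) L5434 L7825
theorem L7828 : sm gf N885 = N885 := ded_14_2 (flp_a L7825) L5428 L7825
theorem L7829 : sm gg N885 = N885 := ded_15_2 (flp_a L7825) L5429 L7825
theorem L7830 : sm gj N885 = N616 := ded_16_2 (flp_a L5457) (flp_j L5430) L7825
theorem L7832 : sm gh N885 = N885 := ded_17_2 (flp_a L7825) L5432 L7825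
theorem L7833 : sm gi N885 = N885 := ded_18_2 (flp_a L7825) L5433 L7825
theorem L7834 : sm gb N885 = N696 := ded_10_2 (flp_a L6109) (flp_b L4218) (flp_a L3737) L5426 L7825
theorem L7836 : sm ge N613 = N886 := rfl
theorem L7838 : sm gb N886 = N614 := ded_21_1 (flp_e L5435) L5426 L7836
theorem L7840 : sm gc N886 = N886 := ded_28_1 (flp_e L7836) L5434 L7836
theorem L7841 : sm gg N886 = N886 := ded_41_2 (flp_e L7836) L5429 L7836
theorem L7842 : sm gj N886 = N617 := ded_42_2 (flp_e L5467) (flp_j L5430) L7836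
theorem L7844 : sm gh N886 = N886 := ded_43_2 (flp_e L7836) L5432 L7836
theorem L7845 : sm gi N886 = N886 := ded_44_2 (flp_e L7836) L5433 L7836
theorem L7846 : sm gd N614 = N887 := rfl
theorem L7848 : sm ga N887 = N698 := ded_12_1 (flp_d L6130) (flp_a L5437) L7846
theorem L7850 : sm gg N887 = N887 := ded_36_2 (flp_d L7846) L5441 L7846
theorem L7851 : sm gj N887 = N618 := ded_37_2 (flp_d L5476) (flp_j L5442) L7846
theorem L7853 : sm gi N887 = N887 := ded_39_2 (flp_d L7846) L5445 L7846
theorem L7854 : sm gc N887 = N887 := ded_27_1 (flp_d L7846) L5439 L3755 (flp_c L5439) L7846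
theorem L7855 : sm gf N614 = N888 := rfl
theorem L7857 : sm ga N888 = N699 := ded_14_1 (flp_f L6137) (flp_a L5437) L7855
theorem L7859 : sm gc N888 = N615 := ded_29_1 (flp_f L5446) (flp_c L5439) L7855
theorem L7861 : sm gj N888 = N619 := ded_46_2 (flp_f L5484) (flp_j L5442) L7855
theorem L7863 : sm gh N888 = N888 := ded_47_2 (flp_f L7855) L5444 L7855
theorem L7864 : sm gi N888 = N888 := ded_48_2 (flp_f L7855) L5445 L7855
theorem L7865 : sm ge N888 = N888 := ded_40_1 (flp_f L7855) (flp_e L5435) L3739 L5435 L7855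
theorem L7866 : sm gg N615 = N889 := rfl
theorem L7868 : sm ga N889 = N700 := ded_15_1 (flp_g L6146) (flp_a L5448) L7866
theorem L7870 : sm gb N889 = N889 := ded_23_1 (flp_g L7866) L5450 L7866
theorem L7871 : sm gd N889 = N889 := ded_36_1 (flp_g L7866) L5451 L7866
theorem L7872 : sm ge N889 = N889 := ded_41_1 (flp_g L7866) L5456 L7866
theorem L7873 : sm gh N889 = N889 := ded_50_2 (flp_g L7866) L5454 L7866
theorem L7874 : sm gi N889 = N889 := ded_51_2 (flp_g L7866) L5455 L7866
theorem L7875 : sm gf N889 = N889 := ded_45_1 (flp_g L7866) (flp_f L5446) L3750 L5446 L7866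
theorem L7876 : sm gj N889 = N889 := ded_49_2 (flp_g L7866) L5452 L3783 (flp_j L5452) L7866
theorem L7877 : sm ge N616 = N890 := rfl
theorem L7879 : sm ga N890 = N617 := ded_13_1 (flp_e L5467) L5457 L7877
theorem L7881 : sm gb N890 = N701 := ded_21_1 (flp_e L6156) (flp_b L5465) L7877
theorem L7883 : sm gc N890 = N890 := ded_28_1 (flp_e L7877) L5459 L7877
theorem L7884 : sm gg N890 = N620 := ded_41_2 (flp_e L5494) (flp_g L5461) L7877
theorem L7886 : sm gh N890 = N890 := ded_43_2 (flp_e L7877) L5463 L7877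
theorem L7887 : sm gi N890 = N890 := ded_44_2 (flp_e L7877) L5464 L7877
theorem L7888 : sm gd N617 = N891 := rfl
theorem L7890 : sm gb N891 = N618 := ded_20_1 (flp_d L5476) (flp_b L5469) L7888
theorem L7892 : sm gg N891 = N621 := ded_36_2 (flp_d L5505) (flp_g L5472) L7888
theorem L7894 : sm gi N891 = N891 := ded_39_2 (flp_d L7888) L5475 L7888
theorem L7895 : sm gf N617 = N892 := rfl
theorem L7897 : sm gb N892 = N619 := ded_22_1 (flp_f L5484) (flp_b L5469) L7895
theorem L7899 : sm gc N892 = N892 := ded_29_1 (flp_f L7895) L5471 L7895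
theorem L7900 : sm gh N892 = N892 := ded_47_2 (flp_f L7895) L5474 L7895
theorem L7901 : sm gi N892 = N892 := ded_48_2 (flp_f L7895) L5475 L7895
theorem L7902 : sm ge N892 = N892 := ded_40_1 (flp_f L7895) (flp_e L5467) L3758 L5467 L7895
theorem L7903 : sm gg N892 = N892 := ded_45_2 (flp_f L7895) L5472 L3802 (flp_g L5472) L7895
theorem L7904 : sm gf N618 = N893 := rfl
theorem L7906 : sm ga N893 = N704 := ded_14_1 (flp_f L6183) (flp_a L5478) L7904
theorem L7908 : sm gc N893 = N893 := ded_29_1 (flp_f L7904) L5483 L7904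
theorem L7909 : sm gd N893 = N619 := ded_35_1 (flp_f L5484) L5476 L7904
theorem L7911 : sm gi N893 = N893 := ded_48_2 (flp_f L7904) L5482 L7904
theorem L7912 : sm gg N893 = N893 := ded_45_2 (flp_f L7904) L5480 L3807 (flp_g L5480) L7904
theorem L7913 : sm gh N618 = N894 := rfl
theorem L7915 : sm ga N894 = N705 := ded_17_1 (flp_h L6190) (flp_a L5478) L7913
theorem L7917 : sm gc N894 = N894 := ded_32_1 (flp_h L7913) L5483 L7913
theorem L7918 : sm gg N894 = N622 := ded_50_1 (flp_h L5512) (flp_g L5480) L7913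
theorem L7920 : sm gd N894 = N894 := ded_38_1 (flp_h L7913) (flp_d L5476) L3772 L5476 L7913
theorem L7921 : sm gd N620 = N895 := rfl
theorem L7923 : sm ga N895 = N621 := ded_12_1 (flp_d L5505) (flp_a L5496) L7921
theorem L7925 : sm gb N895 = N706 := ded_20_1 (flp_d L6196) (flp_b L5498) L7921
theorem L7927 : sm gf N895 = N895 := ded_35_2 (flp_d L7921) L5504 L7921
theorem L7928 : sm gj N895 = N895 := ded_37_2 (flp_d L7921) L5501 L7921
theorem L7929 : sm gi N895 = N895 := ded_39_2 (flp_d L7921) L5503 L7921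
theorem L7930 : sm gc N621 = N896 := rfl
theorem L7932 : sm gf N896 = N896 := ded_29_2 (flp_c L7930) L5509 L7930
theorem L7933 : sm gj N896 = N896 := ded_31_2 (flp_c L7930) L5510 L7930
theorem L7934 : sm gi N896 = N896 := ded_33_2 (flp_c L7930) L5511 L7930
theorem L7935 : sm gb N896 = N896 := ded_19_1 (flp_c L7930) L5507 L3810 (flp_b L5507) L7930
theorem L7936 : sm gd N896 = N896 := ded_27_2 (flp_c L7930) (flp_d L5505) L3798 L5505 L7930
theorem L7937 : sm gh N621 = N897 := rfl
theorem L7939 : sm gb N897 = N622 := ded_25_1 (flp_h L5512) (flp_b L5507) L7937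
theorem L7941 : sm gf N897 = N897 := ded_47_1 (flp_h L7937) L5509 L7937
theorem L7942 : sm gj N897 = N897 := ded_52_1 (flp_h L7937) L5510 L7937
theorem L7943 : sm gd N897 = N897 := ded_38_1 (flp_h L7937) (flp_d L5505) L3800 L5505 L7937
theorem L7944 : sm gi N622 = N898 := rfl
theorem L7946 : sm ga N898 = N709 := ded_18_1 (flp_i L6218) (flp_a L5514) L7944
theorem L7948 : sm gc N898 = N898 := ded_33_1 (flp_i L7944) L5516 L7944
theorem L7949 : sm gd N898 = N898 := ded_39_1 (flp_i L7944) L5519 L7944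
theorem L7950 : sm gf N898 = N898 := ded_48_1 (flp_i L7944) L5517 L7944
theorem L7951 : sm gj N898 = N898 := ded_53_1 (flp_i L7944) L5518 L7944
theorem L7952 : sm gh N898 = N898 := ded_54_1 (flp_i L7944) (flp_h L5512) L3809 L5512 L7944
theorem L7953 : sm gd N623 = N899 := rfl
theorem L7955 : sm gb N899 = N899 := ded_20_1 (flp_d L7953) L5522 L7953
theorem L7956 : sm gf N899 = N899 := ded_35_2 (flp_d L7953) L5525 L7953
theorem L7957 : sm gg N899 = N625 := ded_36_2 (flp_d L5539) (flp_g L5526) L7953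
theorem L7959 : sm gj N899 = N899 := ded_37_2 (flp_d L7953) L5528 L7953
theorem L7960 : sm gh N899 = N899 := ded_38_2 (flp_d L7953) (flp_h L5520) L3815 L5520 L7953
theorem L7961 : sm gi N623 = N900 := rfl
theorem L7963 : sm gb N900 = N900 := ded_26_1 (flp_i L7961) L5522 L7961
theorem L7964 : sm gc N900 = N900 := ded_33_1 (flp_i L7961) L5523 L7961
theorem L7965 : sm ge N900 = N900 := ded_44_1 (flp_i L7961) L5524 L7961
theorem L7966 : sm gf N900 = N900 := ded_48_1 (flp_i L7961) L5525 L7961
theorem L7967 : sm gg N900 = N626 := ded_51_1 (flp_i L5547) (flp_g L5526) L7961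
theorem L7969 : sm gj N900 = N900 := ded_53_1 (flp_i L7961) L5528 L7961
theorem L7970 : sm gh N624 = N901 := rfl
theorem L7972 : sm gb N901 = N901 := ded_25_1 (flp_h L7970) L5531 L7970
theorem L7973 : sm gc N901 = N901 := ded_32_1 (flp_h L7970) L5532 L7970
theorem L7974 : sm ge N901 = N901 := ded_43_1 (flp_h L7970) L5534 L7970
theorem L7975 : sm gf N901 = N901 := ded_47_1 (flp_h L7970) L5535 L7970
theorem L7976 : sm gg N901 = N627 := ded_50_1 (flp_h L5556) (flp_g L5536) L7970
theorem L7978 : sm gj N901 = N901 := ded_52_1 (flp_h L7970) L5538 L7970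
theorem L7979 : sm gc N625 = N902 := rfl
theorem L7981 : sm gf N902 = N633 := ded_29_2 (flp_c L5604) (flp_f L5542) L7979
theorem L7983 : sm gj N902 = N628 := ded_31_2 (flp_c L5565) (flp_j L5544) L7979
theorem L7985 : sm gh N902 = N902 := ded_32_2 (flp_c L7979) L5546 L7979
theorem L7986 : sm gd N902 = N902 := ded_27_2 (flp_c L7979) (flp_d L5539) L3822 L5539 L7979
theorem L7987 : sm ge N625 = N903 := rfl
theorem L7989 : sm gb N903 = N903 := ded_21_1 (flp_e L7987) L5541 L7987
theorem L7990 : sm gj N903 = N629 := ded_42_2 (flp_e L5572) (flp_j L5544) L7987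
theorem L7992 : sm gh N903 = N903 := ded_43_2 (flp_e L7987) L5546 L7987
theorem L7993 : sm gd N903 = N903 := ded_34_1 (flp_e L7987) (flp_d L5539) L3823 L5539 L7987
theorem L7994 : sm gf N903 = N903 := ded_40_2 (flp_e L7987) L5542 L3867 (flp_f L5542) L7987
theorem L7995 : sm gi N625 = N904 := rfl
theorem L7997 : sm gb N904 = N904 := ded_26_1 (flp_i L7995) L5541 L7995
theorem L7998 : sm gd N904 = N626 := ded_39_1 (flp_i L5547) L5539 L7995
theorem L8000 : sm gf N904 = N634 := ded_48_1 (flp_i L5612) (flp_f L5542) L7995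
theorem L8002 : sm gj N904 = N630 := ded_53_1 (flp_i L5579) (flp_j L5544) L7995
theorem L8004 : sm gh N626 = N905 := rfl
theorem L8006 : sm gb N905 = N905 := ded_25_1 (flp_h L8004) L5549 L8004
theorem L8007 : sm gc N905 = N905 := ded_32_1 (flp_h L8004) L5550 L8004
theorem L8008 : sm ge N905 = N905 := ded_43_1 (flp_h L8004) L5551 L8004
theorem L8009 : sm gf N905 = N635 := ded_47_1 (flp_h L5621) (flp_f L5552) L8004
theorem L8011 : sm gj N905 = N631 := ded_52_1 (flp_h L5587) (flp_j L5554) L8004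
theorem L8013 : sm gi N905 = N627 := ded_54_2 (flp_h L5556) (flp_i L3828) L3819 L5547 L8004
theorem L8015 : sm gd N627 = N906 := rfl
theorem L8017 : sm gb N906 = N906 := ded_20_1 (flp_d L8015) L5558 L8015
theorem L8018 : sm gf N906 = N636 := ded_35_2 (flp_d L5632) (flp_f L5561) L8015
theorem L8020 : sm gj N906 = N632 := ded_37_2 (flp_d L5597) (flp_j L5563) L8015
theorem L8022 : sm gh N906 = N906 := ded_38_2 (flp_d L8015) (flp_h L5556) L3832 L5556 L8015
theorem L8023 : sm gb N628 = N907 := rfl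
theorem L8025 : sm gd N907 = N907 := ded_20_2 (flp_b L8023) L5571 L8023
theorem L8026 : sm gf N907 = N637 := ded_22_2 (flp_b L5639) (flp_f L5567) L8023
theorem L8028 : sm gg N907 = N907 := ded_23_2 (flp_b L8023) L5569 L8023
theorem L8029 : sm gh N907 = N907 := ded_25_2 (flp_b L8023) L5570 L8023
theorem L8030 : sm ga N907 = N907 := ded_10_1 (flp_b L8023) (flp_a L7230) L7236 L7230 L8023
theorem L8031 : sm gc N907 = N907 := ded_19_2 (flp_b L8023) (flp_c L5565) L3840 L5565 L8023
theorem L8032 : sm ge N628 = N908 := rfl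
theorem L8034 : sm gc N908 = N629 := ded_28_1 (flp_e L5572) L5565 L8032
theorem L8036 : sm gg N908 = N908 := ded_41_2 (flp_e L8032) L5569 L8032
theorem L8037 : sm gh N908 = N908 := ded_43_2 (flp_e L8032) L5570 L8032
theorem L8038 : sm gf N908 = N908 := ded_40_2 (flp_e L8032) L5567 L3889 (flp_f L5567) L8032
theorem L8039 : sm gi N628 = N909 := rfl
theorem L8041 : sm gc N909 = N630 := ded_33_1 (flp_i L5579) L5565 L8039
theorem L8043 : sm gd N909 = N909 := ded_39_1 (flp_i L8039) L5571 L8039
theorem L8044 : sm gf N909 = N638 := ded_48_1 (flp_i L5648) (flp_f L5567) L8039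
theorem L8046 : sm gg N909 = N909 := ded_51_1 (flp_i L8039) L5569 L8039
theorem L8047 : sm gi N629 = N910 := rfl
theorem L8049 : sm gb N910 = N910 := ded_26_1 (flp_i L8047) L5574 L8047
theorem L8050 : sm gd N910 = N910 := ded_39_1 (flp_i L8047) L5577 L8047
theorem L8051 : sm ge N910 = N630 := ded_44_1 (flp_i L5579) L5572 L8047
theorem L8053 : sm gf N910 = N910 := ded_48_1 (flp_i L8047) L5578 L8047
theorem L8054 : sm gg N910 = N910 := ded_51_1 (flp_i L8047) L5575 L8047
theorem L8055 : sm gh N630 = N911 := rfl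

end Cfsg.Agent.Helper28.FicA
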