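import Cfsg.Agent.Helper28.FicB8

/-! # The Fi₂₃ presentation, cosets of the subgroup generated by a, …, i: the coset enumeration, part 9 (helper28; generated) -/

set_option autoImplicit false

noncomputable section

namespace Cfsg.Agent.Helper28.FicA

open Cfsg.Agent.Helper28.CosetTable

theorem L8057 : sm gb N911 = N911 := ded_25_1 (flp_h L8055) L5581 L8055
theorem L8058 : sm gf N911 = N639 := ded_47_1 (flp_h L5656) (flp_f L5584) L8055
theorem L8060 : sm gg N911 = N911 := ded_50_1 (flp_h L8055) L5586 L8055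
theorem L8061 : sm gi N911 = N911 := ded_54_2 (flp_h L8055) (flp_i L5579) L3844 L5579 L8055
theorem L8062 : sm gd N631 = N912 := rfl
theorem L8064 : sm gb N912 = N912 := ded_20_1 (flp_d L8062) L5589 L8062
theorem L8065 : sm gf N912 = N640 := ded_35_2 (flp_d L5663) (flp_f L5592) L8062
theorem L8067 : sm gg N912 = N912 := ded_36_2 (flp_d L8062) L5594 L8062
theorem L8068 : sm gi N912 = N632 := ded_39_2 (flp_d L5597) (flp_i L5595) L8062
theorem L8070 : sm gc N632 = N913 := rfl
theorem L8072 : sm gf N913 = N641 := ded_29_2 (flp_c L5670) (flp_f L5600) L8070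
theorem L8074 : sm gg N913 = N913 := ded_30_2 (flp_c L8070) L5602 L8070
theorem L8075 : sm gh N913 = N913 := ded_32_2 (flp_c L8070) L5603 L8070
theorem L8076 : sm gd N913 = N913 := ded_27_2 (flp_c L8070) (flp_d L5597) L3856 L5597 L8070
theorem L8077 : sm ge N632 = N914 := rfl
theorem L8079 : sm gb N914 = N914 := ded_21_1 (flp_e L8077) L5599 L8077
theorem L8080 : sm gg N914 = N914 := ded_41_2 (flp_e L8077) L5602 L8077
theorem L8081 : sm gh N914 = N914 := ded_43_2 (flp_e L8077) L5603 L8077
theorem L8082 : sm gd N914 = N914 := ded_34_1 (flp_e L8077) (flp_d L5597) L3857 L5597 L8077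
theorem L8083 : sm gb N633 = N915 := rfl
theorem L8085 : sm gd N915 = N915 := ded_20_2 (flp_b L8083) L5611 L8083
theorem L8086 : sm ge N915 = N915 := ded_21_2 (flp_b L8083) L5606 L8083
theorem L8087 : sm gg N915 = N915 := ded_23_2 (flp_b L8083) L5607 L8083
theorem L8088 : sm gj N915 = N637 := ded_24_2 (flp_b L5639) (flp_j L5608) L8083
theorem L8090 : sm gh N915 = N915 := ded_25_2 (flp_b L8083) L5610 L8083
theorem L8091 : sm ga N915 = N915 := ded_10_1 (flp_b L8083) (flp_a L7276) L7283 L7276 L8083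
theorem L8092 : sm gc N915 = N915 := ded_19_2 (flp_b L8083) (flp_c L5604) L3863 L5604 L8083
theorem L8093 : sm gi N633 = N916 := rfl
theorem L8095 : sm gc N916 = N634 := ded_33_1 (flp_i L5612) L5604 L8093
theorem L8097 : sm gd N916 = N916 := ded_39_1 (flp_i L8093) L5611 L8093
theorem L8098 : sm ge N916 = N916 := ded_44_1 (flp_i L8093) L5606 L8093
theorem L8099 : sm gg N916 = N916 := ded_51_1 (flp_i L8093) L5607 L8093
theorem L8100 : sm gj N916 = N638 := ded_53_1 (flp_i L5648) (flp_j L5608) L8093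
theorem L8102 : sm gh N634 = N917 := rfl
theorem L8104 : sm gb N917 = N917 := ded_25_1 (flp_h L8102) L5614 L8102
theorem L8105 : sm ge N917 = N917 := ded_43_1 (flp_h L8102) L5617 L8102
theorem L8106 : sm gg N917 = N917 := ded_50_1 (flp_h L8102) L5618 L8102
theorem L8107 : sm gj N917 = N639 := ded_52_1 (flp_h L5656) (flp_j L5619) L8102
theorem L8109 : sm gi N917 = N917 := ded_54_2 (flp_h L8102) (flp_i L5612) L3868 L5612 L8102
theorem L8110 : sm gd N635 = N918 := rfl
theorem L8112 : sm gb N918 = N918 := ded_20_1 (flp_d L8110) L5623 L8110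
theorem L8113 : sm gg N918 = N918 := ded_36_2 (flp_d L8110) L5627 L8110
theorem L8114 : sm gj N918 = N640 := ded_37_2 (flp_d L5663) (flp_j L5628) L8110
theorem L8116 : sm gi N918 = N636 := ded_39_2 (flp_d L5632) (flp_i L5630) L8110
theorem L8118 : sm gc N636 = N919 := rfl
theorem L8120 : sm gg N919 = N919 := ded_30_2 (flp_c L8118) L5635 L8118
theorem L8121 : sm gj N919 = N641 := ded_31_2 (flp_c L5670) (flp_j L5636) L8118
theorem L8123 : sm gh N919 = N919 := ded_32_2 (flp_c L8118) L5638 L8118
theorem L8124 : sm gd N919 = N919 := ded_27_2 (flp_c L8118) (flp_d L5632) L3881 L5632 L8118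
theorem L8125 : sm ge N636 = N920 := rfl
theorem L8127 : sm gb N920 = N920 := ded_21_1 (flp_e L8125) L5634 L8125
theorem L8128 : sm gg N920 = N920 := ded_41_2 (flp_e L8125) L5635 L8125
theorem L8129 : sm gj N920 = N642 := ded_42_2 (flp_e L5676) (flp_j L5636) L8125
theorem L8131 : sm gh N920 = N920 := ded_43_2 (flp_e L8125) L5638 L8125
theorem L8132 : sm gd N920 = N653 := ded_34_1 (flp_e L5765) (flp_d L3972) (flp_e L3882) L5632 L8125
theorem L8134 : sm gi N637 = N921 := rfl
theorem L8137 : sm gb N921 = N638 := ded_26_1 (flp_i L5648) L5639 L8134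
theorem L8142 : sm gg N921 = N643 := ded_51_1 (flp_i L5684) (flp_g L5643) L8134
theorem L8144 : sm gh N638 = N922 := rfl
theorem L8146 : sm gc N922 = N639 := ded_32_1 (flp_h L5656) (flp_c L5650) L8144
theorem L8149 : sm gg N922 = N644 := ded_50_1 (flp_h L5694) (flp_g L5654) L8144
theorem L8151 : sm gi N922 = N922 := ded_54_2 (flp_h L8144) (flp_i L5648) L3892 L5648 L8144
theorem L8152 : sm gd N639 = N923 := rfl
theorem L8154 : sm gb N923 = N923 := ded_20_1 (flp_d L8152) L5658 L8152
theorem L8155 : sm gg N923 = N645 := ded_36_2 (flp_d L5702) (flp_g L5660) L8152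
theorem L8157 : sm gi N923 = N923 := ded_39_2 (flp_d L8152) L5662 L8152
theorem L8158 : sm gh N923 = N640 := ded_38_2 (flp_d L5663) (flp_h L3902) (flp_d L3897) L5656 L8152
theorem L8160 : sm gc N640 = N924 := rfl
theorem L8162 : sm gg N924 = N646 := ded_30_2 (flp_c L5710) (flp_g L5666) L8160
theorem L8164 : sm gi N924 = N641 := ded_33_2 (flp_c L5670) (flp_i L5668) L8160
theorem L8166 : sm gd N924 = N924 := ded_27_2 (flp_c L8160) (flp_d L5663) L3905 L5663 L8160
theorem L8167 : sm ge N640 = N925 := rfl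
theorem L8169 : sm gb N925 = N925 := ded_21_1 (flp_e L8167) L5665 L8167
theorem L8170 : sm gg N925 = N647 := ded_41_2 (flp_e L5717) (flp_g L5666) L8167
theorem L8172 : sm gi N925 = N642 := ded_44_2 (flp_e L5676) (flp_i L5668) L8167
theorem L8174 : sm gd N925 = N655 := ded_34_1 (flp_e L5782) (flp_d L3981) (flp_e L3906) L5663 L8167
theorem L8176 : sm gb N641 = N926 := rfl
theorem L8178 : sm gd N926 = N926 := ded_20_2 (flp_b L8176) L5675 L8176
theorem L8179 : sm gg N926 = N648 := ded_23_2 (flp_b L5725) (flp_g L5672) L8176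
theorem L8181 : sm gh N926 = N926 := ded_25_2 (flp_b L8176) L5674 L8176
theorem L8182 : sm gc N926 = N926 := ded_19_2 (flp_b L8176) (flp_c L5670) L3914 L5670 L8176
theorem L8183 : sm ge N641 = N927 := rfl
theorem L8185 : sm gc N927 = N642 := ded_28_1 (flp_e L5676) L5670 L8183
theorem L8187 : sm gg N927 = N649 := ded_41_2 (flp_e L5732) (flp_g L5672) L8183
theorem L8189 : sm gh N927 = N927 := ded_43_2 (flp_e L8183) L5674 L8183
theorem L8190 : sm gf N642 = N928 := rfl
theorem L8192 : sm gb N928 = N928 := ded_22_1 (flp_f L8190) L5678 L8190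
theorem L8193 : sm gd N928 = N658 := ded_35_1 (flp_f L5807) (flp_d L5682) L8190
theorem L8195 : sm gh N928 = N928 := ded_47_2 (flp_f L8190) L5681 L8190
theorem L8196 : sm gh N643 = N929 := rfl
theorem L8199 : sm gb N929 = N644 := ded_25_1 (flp_h L5694) (flp_b L5687) L8196
theorem L8201 : sm gc N929 = N929 := ded_32_1 (flp_h L8196) L5689 L8196
theorem L8204 : sm gj N929 = N929 := ded_52_1 (flp_h L8196) L5693 L8196
theorem L8206 : sm gd N644 = N930 := rfl
theorem L8209 : sm gj N930 = N930 := ded_37_2 (flp_d L8206) L5700 L8206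
theorem L8212 : sm gc N645 = N931 := rfl
theorem L8215 : sm gj N931 = N931 := ded_31_2 (flp_c L8212) L5706 L8212
theorem L8216 : sm gh N931 = N646 := ded_32_2 (flp_c L5710) (flp_h L5708) L8212
theorem L8219 : sm ge N645 = N932 := rfl
theorem L8221 : sm gb N932 = N932 := ded_21_1 (flp_e L8219) L5704 L8219
theorem L8222 : sm gj N932 = N932 := ded_42_2 (flp_e L8219) L5706 L8219
theorem L8223 : sm gh N932 = N647 := ded_43_2 (flp_e L5717) (flp_h L5708) L8219
theorem L8225 : sm gi N932 = N932 := ded_44_2 (flp_e L8219) L5707 L8219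
theorem L8226 : sm gd N932 = N932 := ded_34_1 (flp_e L8219) (flp_d L5702) L3938 L5702 L8219
theorem L8227 : sm gb N646 = N933 := rfl
theorem L8229 : sm gd N933 = N933 := ded_20_2 (flp_b L8227) L5716 L8227
theorem L8232 : sm gi N933 = N648 := ded_26_2 (flp_b L5725) (flp_i L5714) L8227
theorem L8234 : sm gc N933 = N933 := ded_19_2 (flp_b L8227) (flp_c L5710) L3944 L5710 L8227
theorem L8235 : sm ge N646 = N934 := rfl
theorem L8237 : sm gc N934 = N647 := ded_28_1 (flp_e L5717) L5710 L8235
theorem L8239 : sm gj N934 = N934 := ded_42_2 (flp_e L8235) L5713 L8235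
theorem L8240 : sm gi N934 = N649 := ded_44_2 (flp_e L5732) (flp_i L5714) L8235
theorem L8242 : sm gf N647 = N935 := rfl
theorem L8244 : sm gb N935 = N935 := ded_22_1 (flp_f L8242) L5719 L8242
theorem L8245 : sm gd N935 = N661 := ded_35_1 (flp_f L5831) (flp_d L5723) L8242
theorem L8247 : sm gj N935 = N935 := ded_46_2 (flp_f L8242) L5720 L8242
theorem L8248 : sm gi N935 = N650 := ded_48_2 (flp_f L5738) (flp_i L5721) L8242
theorem L8250 : sm ge N935 = N935 := ded_40_1 (flp_f L8242) (flp_e L5717) L3945 L5717 L8242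
theorem L8251 : sm ga N648 = N936 := rfl
theorem L8258 : sm ge N648 = N937 := rfl
theorem L8260 : sm gb N937 = N649 := ded_21_1 (flp_e L5732) L5725 L8258
theorem L8262 : sm gc N937 = N937 := ded_28_1 (flp_e L8258) L5731 L8258
theorem L8263 : sm gj N937 = N937 := ded_42_2 (flp_e L8258) L5729 L8258
theorem L8264 : sm gh N937 = N937 := ded_43_2 (flp_e L8258) L5730 L8258
theorem L8265 : sm gd N649 = N938 := rfl
theorem L8267 : sm gj N938 = N938 := ded_37_2 (flp_d L8265) L5736 L8265
theorem L8268 : sm gc N938 = N664 := ded_27_1 (flp_d L5857) L4032 (flp_d L3960) (flp_c L5734) L8265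
theorem L8270 : sm ge N938 = N938 := ded_34_2 (flp_d L8265) (flp_e L5732) L3954 L5732 L8265
theorem L8271 : sm gf N649 = N939 := rfl
theorem L8273 : sm gc N939 = N650 := ded_29_1 (flp_f L5738) (flp_c L5734) L8271
theorem L8275 : sm gj N939 = N939 := ded_46_2 (flp_f L8271) L5736 L8271
theorem L8276 : sm gh N939 = N939 := ded_47_2 (flp_f L8271) L5737 L8271
theorem L8277 : sm ge N939 = N939 := ded_40_1 (flp_f L8271) (flp_e L5732) L3951 L5732 L8271
theorem L8278 : sm gg N650 = N940 := rfl
theorem L8280 : sm gb N940 = N940 := ded_23_1 (flp_g L8278) L5740 L8278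
theorem L8281 : sm gd N940 = N666 := ded_36_1 (flp_g L5870) (flp_d L5741) L8278
theorem L8283 : sm ge N940 = N940 := ded_41_1 (flp_g L8278) L5745 L8278
theorem L8284 : sm gh N940 = N940 := ded_50_2 (flp_g L8278) L5744 L8278
theorem L8285 : sm gc N651 = N941 := rfl
theorem L8287 : sm gf N941 = N941 := ded_29_2 (flp_c L8285) L5749 L8285
theorem L8288 : sm gg N941 = N941 := ded_30_2 (flp_c L8285) L5750 L8285
theorem L8289 : sm gj N941 = N654 := ded_31_2 (flp_c L5773) (flp_j L5751) L8285
theorem L8291 : sm gh N941 = N941 := ded_32_2 (flp_c L8285) L5755 L8285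
theorem L8292 : sm gi N941 = N652 := ded_33_2 (flp_c L5756) (flp_i L5753) L8285
theorem L8294 : sm gd N941 = N941 := ded_27_2 (flp_c L8285) (flp_d L5746) L3965 L5746 L8285
theorem L8295 : sm ge N651 = N942 := rfl
theorem L8297 : sm gb N942 = N942 := ded_21_1 (flp_e L8295) L5748 L8295
theorem L8298 : sm gg N942 = N942 := ded_41_2 (flp_e L8295) L5750 L8295
theorem L8299 : sm gj N942 = N655 := ded_42_2 (flp_e L5782) (flp_j L5751) L8295
theorem L8301 : sm gh N942 = N942 := ded_43_2 (flp_e L8295) L5755 L8295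
theorem L8302 : sm gi N942 = N653 := ded_44_2 (flp_e L5765) (flp_i L5753) L8295
theorem L8304 : sm gb N652 = N943 := rfl
theorem L8306 : sm gd N943 = N943 := ded_20_2 (flp_b L8304) L5764 L8304
theorem L8307 : sm gf N943 = N943 := ded_22_2 (flp_b L8304) L5758 L8304
theorem L8308 : sm gg N943 = N943 := ded_23_2 (flp_b L8304) L5759 L8304
theorem L8309 : sm gj N943 = N656 := ded_24_2 (flp_b L5790) (flp_j L5760) L8304
theorem L8311 : sm gh N943 = N678 := ded_25_2 (flp_b L5967) (flp_h L5762) L8304
theorem L8313 : sm gc N943 = N943 := ded_19_2 (flp_b L8304) (flp_c L5756) L3974 L5756 L8304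
theorem L8314 : sm ge N652 = N944 := rfl
theorem L8316 : sm gc N944 = N653 := ded_28_1 (flp_e L5765) L5756 L8314
theorem L8318 : sm gg N944 = N944 := ded_41_2 (flp_e L8314) L5759 L8314
theorem L8319 : sm gj N944 = N657 := ded_42_2 (flp_e L5799) (flp_j L5760) L8314
theorem L8321 : sm gh N944 = N679 := ded_43_2 (flp_e L5977) (flp_h L5762) L8314
theorem L8323 : sm gf N653 = N945 := rfl
theorem L8325 : sm gb N945 = N945 := ded_22_1 (flp_f L8323) L5767 L8323
theorem L8326 : sm gj N945 = N658 := ded_46_2 (flp_f L5807) (flp_j L5769) L8323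
theorem L8328 : sm gh N945 = N680 := ded_47_2 (flp_f L5985) (flp_h L5771) L8323
theorem L8330 : sm ge N945 = N945 := ded_40_1 (flp_f L8323) (flp_e L5765) L3975 L5765 L8323
theorem L8331 : sm gb N654 = N946 := rfl
theorem L8333 : sm gd N946 = N946 := ded_20_2 (flp_b L8331) L5781 L8331
theorem L8334 : sm gf N946 = N946 := ded_22_2 (flp_b L8331) L5775 L8331
theorem L8335 : sm gg N946 = N659 := ded_23_2 (flp_b L5813) (flp_g L5776) L8331
theorem L8337 : sm gh N946 = N946 := ded_25_2 (flp_b L8331) L5778 L8331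
theorem L8338 : sm gi N946 = N656 := ded_26_2 (flp_b L5790) (flp_i L5779) L8331
theorem L8340 : sm gc N946 = N946 := ded_19_2 (flp_b L8331) (flp_c L5773) L3983 L5773 L8331
theorem L8341 : sm ge N654 = N947 := rfl
theorem L8343 : sm gc N947 = N655 := ded_28_1 (flp_e L5782) L5773 L8341
theorem L8345 : sm gg N947 = N660 := ded_41_2 (flp_e L5823) (flp_g L5776) L8341
theorem L8347 : sm gh N947 = N947 := ded_43_2 (flp_e L8341) L5778 L8341
theorem L8348 : sm gi N947 = N657 := ded_44_2 (flp_e L5799) (flp_i L5779) L8341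
theorem L8350 : sm gf N655 = N948 := rfl
theorem L8352 : sm gb N948 = N948 := ded_22_1 (flp_f L8350) L5784 L8350
theorem L8353 : sm gh N948 = N948 := ded_47_2 (flp_f L8350) L5787 L8350
theorem L8354 : sm gi N948 = N658 := ded_48_2 (flp_f L5807) (flp_i L5788) L8350
theorem L8356 : sm ge N948 = N948 := ded_40_1 (flp_f L8350) (flp_e L5782) L3984 L5782 L8350
theorem L8357 : sm ga N656 = N949 := rfl
theorem L8359 : sm gc N949 = N949 := ded_11_2 (flp_a L8357) L5798 L8357
theorem L8360 : sm gd N949 = N949 := ded_12_2 (flp_a L8357) L5792 L8357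
theorem L8361 : sm gf N949 = N949 := ded_14_2 (flp_a L8357) L5793 L8357
theorem L8362 : sm gg N949 = N662 := ded_15_2 (flp_a L5840) (flp_g L5794) L8357
theorem L8364 : sm gh N949 = N681 := ded_17_2 (flp_a L5993) (flp_h L5796) L8357
theorem L8366 : sm ge N656 = N950 := rfl
theorem L8368 : sm gb N950 = N657 := ded_21_1 (flp_e L5799) L5790 L8366
theorem L8370 : sm gc N950 = N950 := ded_28_1 (flp_e L8366) L5798 L8366
theorem L8371 : sm gg N950 = N663 := ded_41_2 (flp_e L5849) (flp_g L5794) L8366
theorem L8373 : sm gh N950 = N682 := ded_43_2 (flp_e L6002) (flp_h L5796) L8366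
theorem L8375 : sm gd N657 = N951 := rfl
theorem L8377 : sm gg N951 = N664 := ded_36_2 (flp_d L5857) (flp_g L5803) L8375
theorem L8379 : sm ge N951 = N951 := ded_34_2 (flp_d L8375) (flp_e L5799) L3997 L5799 L8375
theorem L8380 : sm gf N657 = N952 := rfl
theorem L8382 : sm gc N952 = N658 := ded_29_1 (flp_f L5807) (flp_c L5801) L8380
theorem L8384 : sm gh N952 = N684 := ded_47_2 (flp_f L6018) (flp_h L5805) L8380
theorem L8386 : sm ge N952 = N952 := ded_40_1 (flp_f L8380) (flp_e L5799) L3992 L5799 L8380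
theorem L8387 : sm gg N658 = N953 := rfl
theorem L8389 : sm gb N953 = N953 := ded_23_1 (flp_g L8387) L5809 L8387
theorem L8390 : sm ge N953 = N953 := ded_41_1 (flp_g L8387) L5812 L8387
theorem L8391 : sm gh N953 = N685 := ded_50_2 (flp_g L6024) (flp_h L5810) L8387
theorem L8393 : sm gf N953 = N666 := ded_45_1 (flp_g L5870) (flp_f L4037) (flp_g L4001) L5807 L8387
theorem L8395 : sm ga N659 = N954 := rfl
theorem L8397 : sm gc N954 = N954 := ded_11_2 (flp_a L8395) L5822 L8395
theorem L8398 : sm gd N954 = N954 := ded_12_2 (flp_a L8395) L5815 L8395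
theorem L8399 : sm gf N954 = N667 := ded_14_2 (flp_a L5877) (flp_f L5816) L8395
theorem L8401 : sm gj N954 = N954 := ded_16_2 (flp_a L8395) L5818 L8395
theorem L8402 : sm gh N954 = N954 := ded_17_2 (flp_a L8395) L5819 L8395
theorem L8403 : sm gi N954 = N662 := ded_18_2 (flp_a L5840) (flp_i L5820) L8395
theorem L8405 : sm ge N659 = N955 := rfl
theorem L8407 : sm gb N955 = N660 := ded_21_1 (flp_e L5823) L5813 L8405
theorem L8409 : sm gc N955 = N955 := ded_28_1 (flp_e L8405) L5822 L8405
theorem L8410 : sm gj N955 = N955 := ded_42_2 (flp_e L8405) L5818 L8405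
theorem L8411 : sm gh N955 = N955 := ded_43_2 (flp_e L8405) L5819 L8405
theorem L8412 : sm gi N955 = N663 := ded_44_2 (flp_e L5849) (flp_i L5820) L8405
theorem L8414 : sm gd N660 = N956 := rfl
theorem L8416 : sm gj N956 = N956 := ded_37_2 (flp_d L8414) L5827 L8414
theorem L8417 : sm gi N956 = N664 := ded_39_2 (flp_d L5857) (flp_i L5829) L8414
theorem L8419 : sm ge N956 = N956 := ded_34_2 (flp_d L8414) (flp_e L5823) L4013 L5823 L8414
theorem L8420 : sm gf N660 = N957 := rfl
theorem L8422 : sm gc N957 = N661 := ded_29_1 (flp_f L5831) (flp_c L5825) L8420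
theorem L8424 : sm gj N957 = N957 := ded_46_2 (flp_f L8420) L5827 L8420
theorem L8425 : sm gh N957 = N957 := ded_47_2 (flp_f L8420) L5828 L8420
theorem L8426 : sm gi N957 = N665 := ded_48_2 (flp_f L5861) (flp_i L5829) L8420
theorem L8428 : sm ge N957 = N670 := ded_40_1 (flp_f L5904) (flp_e L4054) (flp_f L4007) L5823 L8420
theorem L8430 : sm gg N661 = N958 := rfl
theorem L8432 : sm gb N958 = N958 := ded_23_1 (flp_g L8430) L5833 L8430
theorem L8433 : sm ge N958 = N671 := ded_41_1 (flp_g L5912) (flp_e L5838) L8430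
theorem L8435 : sm gh N958 = N958 := ded_50_2 (flp_g L8430) L5835 L8430
theorem L8436 : sm gi N958 = N666 := ded_51_2 (flp_g L5870) (flp_i L5836) L8430
theorem L8438 : sm ge N662 = N959 := rfl
theorem L8440 : sm ga N959 = N663 := ded_13_1 (flp_e L5849) L5840 L8438
theorem L8442 : sm gc N959 = N959 := ded_28_1 (flp_e L8438) L5842 L8438
theorem L8443 : sm gj N959 = N959 := ded_42_2 (flp_e L8438) L5846 L8438
theorem L8444 : sm gh N959 = N686 := ded_43_2 (flp_e L6032) (flp_h L5847) L8438
theorem L8446 : sm gd N663 = N960 := rfl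
theorem L8448 : sm gb N960 = N664 := ded_20_1 (flp_d L5857) (flp_b L5851) L8446
theorem L8450 : sm gj N960 = N960 := ded_37_2 (flp_d L8446) L5854 L8446
theorem L8451 : sm ge N960 = N960 := ded_34_2 (flp_d L8446) (flp_e L5849) L4023 L5849 L8446
theorem L8452 : sm gf N663 = N961 := rfl
theorem L8454 : sm gb N961 = N665 := ded_22_1 (flp_f L5861) (flp_b L5851) L8452
theorem L8456 : sm gc N961 = N961 := ded_29_1 (flp_f L8452) L5853 L8452
theorem L8457 : sm gj N961 = N961 := ded_46_2 (flp_f L8452) L5854 L8452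
theorem L8458 : sm gh N961 = N688 := ded_47_2 (flp_f L6047) (flp_h L5855) L8452
theorem L8460 : sm ge N961 = N674 := ded_40_1 (flp_f L5937) (flp_e L4079) (flp_f L4024) L5849 L8452
theorem L8462 : sm gf N664 = N962 := rfl
theorem L8464 : sm gd N962 = N665 := ded_35_1 (flp_f L5861) L5857 L8462
theorem L8466 : sm gj N962 = N962 := ded_46_2 (flp_f L8462) L5859 L8462
theorem L8467 : sm gh N664 = N963 := rfl
theorem L8469 : sm ge N963 = N963 := ded_43_1 (flp_h L8467) L5860 L8467
theorem L8470 : sm gj N963 = N963 := ded_52_1 (flp_h L8467) L5859 L8467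
theorem L8471 : sm gd N963 = N690 := ded_38_1 (flp_h L6064) (flp_d L4164) (flp_h L4035) L5857 L8467
theorem L8473 : sm gg N665 = N964 := rfl
theorem L8475 : sm gc N964 = N666 := ded_30_1 (flp_g L5870) (flp_c L5863) L8473
theorem L8477 : sm ge N964 = N676 := ded_41_1 (flp_g L5952) (flp_e L5868) L8473
theorem L8479 : sm gh N964 = N691 := ded_50_2 (flp_g L6070) (flp_h L5866) L8473
theorem L8481 : sm gj N666 = N965 := rfl
theorem L8483 : sm gb N965 = N965 := ded_24_1 (flp_j L8481) L5872 L8481
theorem L8484 : sm ge N965 = N677 := ded_42_1 (flp_j L5959) (flp_e L5873) L8481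
theorem L8486 : sm gh N965 = N692 := ded_52_2 (flp_j L6077) (flp_h L5875) L8481
theorem L8488 : sm gg N965 = N965 := ded_49_1 (flp_j L8481) (flp_g L5870) L4040 L5870 L8481
theorem L8489 : sm ge N667 = N966 := rfl
theorem L8491 : sm ga N966 = N668 := ded_13_1 (flp_e L5886) L5877 L8489
theorem L8493 : sm gc N966 = N966 := ded_28_1 (flp_e L8489) L5879 L8489
theorem L8494 : sm gg N966 = N966 := ded_41_2 (flp_e L8489) L5881 L8489
theorem L8495 : sm gj N966 = N966 := ded_42_2 (flp_e L8489) L5882 L8489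
theorem L8496 : sm gh N966 = N966 := ded_43_2 (flp_e L8489) L5883 L8489
theorem L8497 : sm gi N966 = N672 := ded_44_2 (flp_e L5920) (flp_i L5884) L8489
theorem L8499 : sm gd N668 = N967 := rfl
theorem L8501 : sm gb N967 = N669 := ded_20_1 (flp_d L5896) (flp_b L5888) L8499
theorem L8503 : sm gg N967 = N967 := ded_36_2 (flp_d L8499) L5891 L8499
theorem L8504 : sm gj N967 = N967 := ded_37_2 (flp_d L8499) L5892 L8499
theorem L8505 : sm gi N967 = N673 := ded_39_2 (flp_d L5929) (flp_i L5894) L8499
theorem L8507 : sm ge N967 = N967 := ded_34_2 (flp_d L8499) (flp_e L5886) L4047 L5886 L8499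
theorem L8508 : sm gf N668 = N968 := rfl
theorem L8510 : sm gb N968 = N670 := ded_22_1 (flp_f L5904) (flp_b L5888) L8508
theorem L8512 : sm gc N968 = N968 := ded_29_1 (flp_f L8508) L5890 L8508
theorem L8513 : sm gj N968 = N968 := ded_46_2 (flp_f L8508) L5892 L8508
theorem L8514 : sm gh N968 = N968 := ded_47_2 (flp_f L8508) L5893 L8508
theorem L8515 : sm gi N968 = N674 := ded_48_2 (flp_f L5937) (flp_i L5894) L8508
theorem L8517 : sm gf N669 = N969 := rfl
theorem L8519 : sm gc N969 = N969 := ded_29_1 (flp_f L8517) L5902 L8517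
theorem L8520 : sm gd N969 = N670 := ded_35_1 (flp_f L5904) L5896 L8517
theorem L8522 : sm gj N969 = N969 := ded_46_2 (flp_f L8517) L5899 L8517
theorem L8523 : sm gi N969 = N675 := ded_48_2 (flp_f L5945) (flp_i L5900) L8517
theorem L8525 : sm gh N669 = N970 := rfl
theorem L8527 : sm gc N970 = N970 := ded_32_1 (flp_h L8525) L5902 L8525
theorem L8528 : sm ge N970 = N970 := ded_43_1 (flp_h L8525) L5903 L8525
theorem L8529 : sm gg N970 = N970 := ded_50_1 (flp_h L8525) L5898 L8525
theorem L8530 : sm gj N970 = N970 := ded_52_1 (flp_h L8525) L5899 L8525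
theorem L8531 : sm gd N970 = N970 := ded_38_1 (flp_h L8525) (flp_d L5896) L4060 L5896 L8525
theorem L8532 : sm gi N970 = N970 := ded_54_2 (flp_h L8525) L5900 L4094 (flp_i L5900) L8525
theorem L8533 : sm gg N670 = N971 := rfl
theorem L8535 : sm gc N971 = N671 := ded_30_1 (flp_g L5912) (flp_c L5906) L8533
theorem L8537 : sm gh N971 = N971 := ded_50_2 (flp_g L8533) L5909 L8533
theorem L8538 : sm gi N971 = N676 := ded_51_2 (flp_g L5952) (flp_i L5910) L8533
theorem L8540 : sm gf N971 = N971 := ded_45_1 (flp_g L8533) (flp_f L5904) L4058 L5904 L8533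
theorem L8541 : sm gj N671 = N972 := rfl
theorem L8543 : sm gb N972 = N972 := ded_24_1 (flp_j L8541) L5914 L8541
theorem L8544 : sm gd N972 = N972 := ded_37_1 (flp_j L8541) L5915 L8541
theorem L8545 : sm gf N972 = N972 := ded_46_1 (flp_j L8541) L5919 L8541
theorem L8546 : sm gh N972 = N972 := ded_52_2 (flp_j L8541) L5916 L8541
theorem L8547 : sm gi N972 = N677 := ded_53_2 (flp_j L5959) (flp_i L5917) L8541
theorem L8549 : sm gg N972 = N972 := ded_49_1 (flp_j L8541) (flp_g L5912) L4067 L5912 L8541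
theorem L8550 : sm gd N672 = N973 := rfl
theorem L8552 : sm ga N973 = N673 := ded_12_1 (flp_d L5929) (flp_a L5922) L8550
theorem L8554 : sm gg N973 = N973 := ded_36_2 (flp_d L8550) L5925 L8550
theorem L8555 : sm gj N973 = N973 := ded_37_2 (flp_d L8550) L5926 L8550
theorem L8556 : sm ge N973 = N973 := ded_34_2 (flp_d L8550) (flp_e L5920) L4074 L5920 L8550
theorem L8557 : sm gh N973 = N973 := ded_38_2 (flp_d L8550) L5927 L4194 (flp_h L5927) L8550
theorem L8558 : sm gf N672 = N974 := rfl
theorem L8560 : sm ga N974 = N674 := ded_14_1 (flp_f L5937) (flp_a L5922) L8558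
theorem L8562 : sm gc N974 = N974 := ded_29_1 (flp_f L8558) L5924 L8558
theorem L8563 : sm gj N974 = N974 := ded_46_2 (flp_f L8558) L5926 L8558
theorem L8564 : sm gh N974 = N693 := ded_47_2 (flp_f L6085) (flp_h L5927) L8558
theorem L8566 : sm gc N673 = N975 := rfl
theorem L8568 : sm ge N975 = N975 := ded_28_2 (flp_c L8566) L5935 L8566
theorem L8569 : sm gg N975 = N975 := ded_30_2 (flp_c L8566) L5933 L8566
theorem L8570 : sm gj N975 = N975 := ded_31_2 (flp_c L8566) L5934 L8566
theorem L8571 : sm gh N975 = N975 := ded_32_2 (flp_c L8566) L5936 L8566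
theorem L8572 : sm gb N975 = N975 := ded_19_1 (flp_c L8566) L5931 L4092 (flp_b L5931) L8566
theorem L8573 : sm gd N975 = N975 := ded_27_2 (flp_c L8566) (flp_d L5929) L4083 L5929 L8566
theorem L8574 : sm gf N673 = N976 := rfl
theorem L8576 : sm gb N976 = N675 := ded_22_1 (flp_f L5945) (flp_b L5931) L8574
theorem L8578 : sm gd N976 = N674 := ded_35_1 (flp_f L5937) L5929 L8574
theorem L8580 : sm gj N976 = N976 := ded_46_2 (flp_f L8574) L5934 L8574
theorem L8581 : sm gh N976 = N976 := ded_47_2 (flp_f L8574) L5936 L8574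
theorem L8582 : sm gg N674 = N977 := rfl
theorem L8584 : sm gb N977 = N676 := ded_23_1 (flp_g L5952) (flp_b L5939) L8582
theorem L8586 : sm gc N977 = N977 := ded_30_1 (flp_g L8582) L5941 L8582
theorem L8587 : sm gh N977 = N694 := ded_50_2 (flp_g L6093) (flp_h L5943) L8582
theorem L8589 : sm gf N977 = N977 := ded_45_1 (flp_g L8582) (flp_f L5937) L4084 L5937 L8582
theorem L8590 : sm ge N675 = N978 := rfl
theorem L8592 : sm gc N978 = N978 := ded_28_1 (flp_e L8590) L5947 L8590
theorem L8593 : sm gj N978 = N978 := ded_42_2 (flp_e L8590) L5950 L8590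
theorem L8594 : sm gh N978 = N978 := ded_43_2 (flp_e L8590) L5951 L8590
theorem L8595 : sm gf N978 = N978 := ded_40_2 (flp_e L8590) (flp_f L5945) L4093 L5945 L8590
theorem L8596 : sm gg N675 = N979 := rfl
theorem L8598 : sm gc N979 = N979 := ded_30_1 (flp_g L8596) L5947 L8596
theorem L8599 : sm gd N979 = N676 := ded_36_1 (flp_g L5952) (flp_d L5948) L8596
theorem L8601 : sm gh N979 = N979 := ded_50_2 (flp_g L8596) L5951 L8596
theorem L8602 : sm gf N979 = N979 := ded_45_1 (flp_g L8596) (flp_f L5945) L4090 L5945 L8596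
theorem L8603 : sm gj N676 = N980 := rfl
theorem L8605 : sm gc N980 = N677 := ded_31_1 (flp_j L5959) (flp_c L5954) L8603
theorem L8607 : sm gf N980 = N980 := ded_46_1 (flp_j L8603) L5958 L8603
theorem L8608 : sm gh N980 = N695 := ded_52_2 (flp_j L6101) (flp_h L5956) L8603
theorem L8610 : sm gg N980 = N980 := ded_49_1 (flp_j L8603) (flp_g L5952) L4099 L5952 L8603
theorem L8611 : sm ga N678 = N981 := rfl
theorem L8613 : sm gc N981 = N981 := ded_11_2 (flp_a L8611) L5976 L8611
theorem L8614 : sm gd N981 = N696 := ded_12_2 (flp_a L6109) (flp_d L5969) L8611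
theorem L8616 : sm gf N981 = N981 := ded_14_2 (flp_a L8611) L5971 L8611
theorem L8617 : sm gg N981 = N981 := ded_15_2 (flp_a L8611) L5972 L8611
theorem L8618 : sm gj N981 = N681 := ded_16_2 (flp_a L5993) (flp_j L5973) L8611
theorem L8620 : sm gi N981 = N981 := ded_18_2 (flp_a L8611) L5975 L8611
theorem L8621 : sm ge N678 = N982 := rfl
theorem L8623 : sm gb N982 = N679 := ded_21_1 (flp_e L5977) L5967 L8621
theorem L8625 : sm gc N982 = N982 := ded_28_1 (flp_e L8621) L5976 L8621
theorem L8626 : sm gg N982 = N982 := ded_41_2 (flp_e L8621) L5972 L8621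
theorem L8627 : sm gj N982 = N682 := ded_42_2 (flp_e L6002) (flp_j L5973) L8621
theorem L8629 : sm gi N982 = N982 := ded_44_2 (flp_e L8621) L5975 L8621
theorem L8630 : sm gd N679 = N983 := rfl
theorem L8632 : sm gg N983 = N983 := ded_36_2 (flp_d L8630) L5981 L8630
theorem L8633 : sm gj N983 = N683 := ded_37_2 (flp_d L6010) (flp_j L5982) L8630
theorem L8635 : sm gi N983 = N983 := ded_39_2 (flp_d L8630) L5984 L8630
theorem L8636 : sm gc N983 = N983 := ded_27_1 (flp_d L8630) L5979 L4125 (flp_c L5979) L8630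
theorem L8637 : sm ge N983 = N698 := ded_34_2 (flp_d L6130) (flp_e L4228) (flp_d L4116) L5977 L8630
theorem L8639 : sm gf N679 = N984 := rfl
theorem L8641 : sm gc N984 = N680 := ded_29_1 (flp_f L5985) (flp_c L5979) L8639
theorem L8643 : sm gj N984 = N684 := ded_46_2 (flp_f L6018) (flp_j L5982) L8639
theorem L8645 : sm gi N984 = N984 := ded_48_2 (flp_f L8639) L5984 L8639
theorem L8646 : sm ge N984 = N984 := ded_40_1 (flp_f L8639) (flp_e L5977) L4111 L5977 L8639
theorem L8647 : sm gg N680 = N985 := rfl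
theorem L8649 : sm gb N985 = N985 := ded_23_1 (flp_g L8647) L5987 L8647
theorem L8650 : sm gd N985 = N985 := ded_36_1 (flp_g L8647) L5988 L8647
theorem L8651 : sm ge N985 = N985 := ded_41_1 (flp_g L8647) L5992 L8647
theorem L8652 : sm gi N985 = N985 := ded_51_2 (flp_g L8647) L5991 L8647
theorem L8653 : sm gf N985 = N985 := ded_45_1 (flp_g L8647) (flp_f L5985) L4121 L5985 L8647
theorem L8654 : sm ge N681 = N986 := rfl
theorem L8656 : sm ga N986 = N682 := ded_13_1 (flp_e L6002) L5993 L8654
theorem L8658 : sm gc N986 = N986 := ded_28_1 (flp_e L8654) L5995 L8654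
theorem L8659 : sm gg N986 = N686 := ded_41_2 (flp_e L6032) (flp_g L5999) L8654
theorem L8661 : sm gi N986 = N986 := ded_44_2 (flp_e L8654) L6001 L8654
theorem L8662 : sm gd N682 = N987 := rfl
theorem L8664 : sm gb N987 = N683 := ded_20_1 (flp_d L6010) (flp_b L6004) L8662
theorem L8666 : sm gg N987 = N687 := ded_36_2 (flp_d L6039) (flp_g L6007) L8662
theorem L8668 : sm gi N987 = N987 := ded_39_2 (flp_d L8662) L6009 L8662
theorem L8669 : sm ge N987 = N702 := ded_34_2 (flp_d L6166) (flp_e L4256) (flp_d L4128) L6002 L8662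
theorem L8671 : sm gf N682 = N988 := rfl
theorem L8673 : sm gb N988 = N684 := ded_22_1 (flp_f L6018) (flp_b L6004) L8671
theorem L8675 : sm gc N988 = N988 := ded_29_1 (flp_f L8671) L6006 L8671
theorem L8676 : sm gi N988 = N988 := ded_48_2 (flp_f L8671) L6009 L8671
theorem L8677 : sm ge N988 = N988 := ded_40_1 (flp_f L8671) (flp_e L6002) L4130 L6002 L8671
theorem L8678 : sm gf N683 = N989 := rfl
theorem L8680 : sm gc N989 = N989 := ded_29_1 (flp_f L8678) L6015 L8678
theorem L8681 : sm gd N989 = N684 := ded_35_1 (flp_f L6018) L6010 L8678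
theorem L8683 : sm gi N989 = N989 := ded_48_2 (flp_f L8678) L6014 L8678
theorem L8684 : sm gh N683 = N990 := rfl
theorem L8686 : sm gc N990 = N990 := ded_32_1 (flp_h L8684) L6015 L8684
theorem L8687 : sm ge N990 = N705 := ded_43_1 (flp_h L6190) (flp_e L6016) L8684
theorem L8689 : sm gg N990 = N690 := ded_50_1 (flp_h L6064) (flp_g L6012) L8684
theorem L8691 : sm gg N684 = N991 := rfl
theorem L8693 : sm gc N991 = N685 := ded_30_1 (flp_g L6024) (flp_c L6020) L8691
theorem L8695 : sm ge N991 = N991 := ded_41_1 (flp_g L8691) L6023 L8691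
theorem L8696 : sm gi N991 = N991 := ded_51_2 (flp_g L8691) L6022 L8691
theorem L8697 : sm gf N991 = N691 := ded_45_1 (flp_g L6070) (flp_f L4171) (flp_g L4139) L6018 L8691
theorem L8699 : sm gj N685 = N992 := rfl
theorem L8701 : sm gb N992 = N992 := ded_24_1 (flp_j L8699) L6026 L8699
theorem L8702 : sm gd N992 = N992 := ded_37_1 (flp_j L8699) L6027 L8699
theorem L8703 : sm ge N992 = N992 := ded_42_1 (flp_j L8699) L6028 L8699
theorem L8704 : sm gf N992 = N692 := ded_46_1 (flp_j L6077) (flp_f L6030) L8699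
theorem L8706 : sm gi N992 = N992 := ded_53_2 (flp_j L8699) L6029 L8699
theorem L8707 : sm gd N686 = N993 := rfl
theorem L8709 : sm ga N993 = N687 := ded_12_1 (flp_d L6039) (flp_a L6034) L8707
theorem L8711 : sm gj N993 = N993 := ded_37_2 (flp_d L8707) L6037 L8707
theorem L8712 : sm gi N993 = N993 := ded_39_2 (flp_d L8707) L6038 L8707
theorem L8713 : sm ge N993 = N706 := ded_34_2 (flp_d L6196) (flp_e L4280) (flp_d L4151) L6032 L8707
theorem L8715 : sm gf N686 = N994 := rfl
theorem L8717 : sm ga N994 = N688 := ded_14_1 (flp_f L6047) (flp_a L6034) L8715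
theorem L8719 : sm gc N994 = N994 := ded_29_1 (flp_f L8715) L6036 L8715
theorem L8720 : sm gj N994 = N994 := ded_46_2 (flp_f L8715) L6037 L8715
theorem L8721 : sm gi N994 = N994 := ded_48_2 (flp_f L8715) L6038 L8715
theorem L8722 : sm ge N994 = N693 := ded_40_1 (flp_f L6085) (flp_e L4186) (flp_f L4153) L6032 L8715
theorem L8724 : sm gc N687 = N995 := rfl
theorem L8726 : sm ge N995 = N707 := ded_28_2 (flp_c L6203) (flp_e L6045) L8724
theorem L8732 : sm gf N687 = N996 := rfl
theorem L8734 : sm gb N996 = N689 := ded_22_1 (flp_f L6056) (flp_b L6041) L8732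
theorem L8736 : sm gd N996 = N688 := ded_35_1 (flp_f L6047) L6039 L8732
theorem L8738 : sm gj N996 = N996 := ded_46_2 (flp_f L8732) L6043 L8732
theorem L8739 : sm gi N996 = N996 := ded_48_2 (flp_f L8732) L6044 L8732
theorem L8740 : sm ge N996 = N996 := ded_40_1 (flp_f L8732) L6045 L4294 (flp_e L6045) L8732
theorem L8741 : sm gh N687 = N997 := rfl
theorem L8748 : sm gg N688 = N998 := rfl
theorem L8750 : sm gb N998 = N691 := ded_23_1 (flp_g L6070) (flp_b L6049) L8748
theorem L8752 : sm gc N998 = N998 := ded_30_1 (flp_g L8748) L6051 L8748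
theorem L8753 : sm ge N998 = N694 := ded_41_1 (flp_g L6093) (flp_e L6054) L8748
theorem L8755 : sm gi N998 = N998 := ded_51_2 (flp_g L8748) L6053 L8748
theorem L8756 : sm gg N689 = N999 := rfl
theorem L8758 : sm gc N999 = N999 := ded_30_1 (flp_g L8756) L6058 L8756
theorem L8759 : sm gd N999 = N691 := ded_36_1 (flp_g L6070) (flp_d L6059) L8756
theorem L8761 : sm ge N999 = N999 := ded_41_1 (flp_g L8756) L6063 L8756
theorem L8762 : sm gi N999 = N999 := ded_51_2 (flp_g L8756) L6062 L8756
theorem L8763 : sm gh N689 = N1000 := rfl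
theorem L8765 : sm gc N1000 = N1000 := ded_32_1 (flp_h L8763) L6058 L8763
theorem L8766 : sm ge N1000 = N1000 := ded_43_1 (flp_h L8763) L6063 L8763
theorem L8767 : sm gf N1000 = N690 := ded_47_1 (flp_h L6064) L6056 L8763
theorem L8769 : sm gj N1000 = N1000 := ded_52_1 (flp_h L8763) L6061 L8763
theorem L8770 : sm gi N690 = N1001 := rfl
theorem L8777 : sm gj N691 = N1002 := rfl
theorem L8779 : sm gc N1002 = N692 := ded_31_1 (flp_j L6077) (flp_c L6072) L8777
theorem L8781 : sm ge N1002 = N695 := ded_42_1 (flp_j L6101) (flp_e L6074) L8777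
theorem L8783 : sm gi N1002 = N1002 := ded_53_2 (flp_j L8777) L6076 L8777
theorem L8784 : sm gg N1002 = N1002 := ded_49_1 (flp_j L8777) (flp_g L6070) L4175 L6070 L8777
theorem L8785 : sm gg N693 = N1003 := rfl
theorem L8787 : sm ga N1003 = N694 := ded_15_1 (flp_g L6093) (flp_a L6087) L8785
theorem L8789 : sm gc N1003 = N1003 := ded_30_1 (flp_g L8785) L6089 L8785
theorem L8790 : sm gd N1003 = N1003 := ded_36_1 (flp_g L8785) L6090 L8785
theorem L8791 : sm gi N1003 = N1003 := ded_51_2 (flp_g L8785) L6092 L8785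
theorem L8792 : sm gf N1003 = N1003 := ded_45_1 (flp_g L8785) (flp_f L6085) L4191 L6085 L8785
theorem L8793 : sm gj N694 = N1004 := rfl
theorem L8795 : sm gb N1004 = N695 := ded_24_1 (flp_j L6101) (flp_b L6095) L8793
theorem L8797 : sm gc N1004 = N1004 := ded_31_1 (flp_j L8793) L6097 L8793
theorem L8798 : sm gd N1004 = N1004 := ded_37_1 (flp_j L8793) L6098 L8793
theorem L8799 : sm gf N1004 = N1004 := ded_46_1 (flp_j L8793) L6100 L8793
theorem L8800 : sm gi N1004 = N1004 := ded_53_2 (flp_j L8793) L6099 L8793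
theorem L8801 : sm gg N1004 = N1004 := ded_49_1 (flp_j L8793) (flp_g L6093) L4201 L6093 L8793
theorem L8802 : sm ge N696 = N1005 := rfl
theorem L8804 : sm ga N1005 = N697 := ded_13_1 (flp_e L6119) L6109 L8802
theorem L8806 : sm gc N1005 = N710 := ded_28_1 (flp_e L6225) (flp_c L6111) L8802
theorem L8808 : sm gg N1005 = N1005 := ded_41_2 (flp_e L8802) L6114 L8802
theorem L8809 : sm gj N1005 = N701 := ded_42_2 (flp_e L6156) (flp_j L6115) L8802
theorem L8811 : sm gh N1005 = N1005 := ded_43_2 (flp_e L8802) L6117 L8802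
theorem L8812 : sm gi N1005 = N1005 := ded_44_2 (flp_e L8802) L6118 L8802
theorem L8813 : sm gd N697 = N1006 := rfl
theorem L8815 : sm gb N1006 = N698 := ded_20_1 (flp_d L6130) (flp_b L6121) L8813
theorem L8817 : sm gg N1006 = N1006 := ded_36_2 (flp_d L8813) L6125 L8813
theorem L8818 : sm gj N1006 = N702 := ded_37_2 (flp_d L6166) (flp_j L6126) L8813
theorem L8820 : sm gi N1006 = N1006 := ded_39_2 (flp_d L8813) L6129 L8813
theorem L8821 : sm gf N697 = N1007 := rfl
theorem L8823 : sm gb N1007 = N699 := ded_22_1 (flp_f L6137) (flp_b L6121) L8821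
theorem L8825 : sm gc N1007 = N712 := ded_29_1 (flp_f L6244) (flp_c L6123) L8821
theorem L8827 : sm gj N1007 = N703 := ded_46_2 (flp_f L6173) (flp_j L6126) L8821
theorem L8829 : sm gh N1007 = N1007 := ded_47_2 (flp_f L8821) L6128 L8821
theorem L8830 : sm gi N1007 = N1007 := ded_48_2 (flp_f L8821) L6129 L8821
theorem L8831 : sm ge N1007 = N1007 := ded_40_1 (flp_f L8821) (flp_e L6119) L4220 L6119 L8821
theorem L8832 : sm gf N698 = N1008 := rfl
theorem L8834 : sm gc N1008 = N1008 := ded_29_1 (flp_f L8832) L6136 L8832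
theorem L8835 : sm gd N1008 = N699 := ded_35_1 (flp_f L6137) L6130 L8832
theorem L8837 : sm gj N1008 = N704 := ded_46_2 (flp_f L6183) (flp_j L6133) L8832
theorem L8839 : sm gi N1008 = N1008 := ded_48_2 (flp_f L8832) L6135 L8832
theorem L8840 : sm gh N698 = N1009 := rfl
theorem L8842 : sm gc N1009 = N1009 := ded_32_1 (flp_h L8840) L6136 L8840
theorem L8843 : sm gg N1009 = N1009 := ded_50_1 (flp_h L8840) L6132 L8840
theorem L8844 : sm gj N1009 = N705 := ded_52_1 (flp_h L6190) (flp_j L6133) L8840
theorem L8846 : sm gd N1009 = N1009 := ded_38_1 (flp_h L8840) (flp_d L6130) L4235 L6130 L8840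
theorem L8847 : sm gg N699 = N1010 := rfl
theorem L8849 : sm gc N1010 = N700 := ded_30_1 (flp_g L6146) (flp_c L6139) L8847
theorem L8851 : sm ge N1010 = N1010 := ded_41_1 (flp_g L8847) L6145 L8847
theorem L8852 : sm gh N1010 = N1010 := ded_50_2 (flp_g L8847) L6143 L8847
theorem L8853 : sm gi N1010 = N1010 := ded_51_2 (flp_g L8847) L6144 L8847
theorem L8854 : sm gf N1010 = N1010 := ded_45_1 (flp_g L8847) (flp_f L6137) L4232 L6137 L8847
theorem L8855 : sm gj N1010 = N1010 := ded_49_2 (flp_g L8847) L6141 L4279 (flp_j L6141) L8847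
theorem L8856 : sm gd N701 = N1011 := rfl
theorem L8858 : sm ga N1011 = N702 := ded_12_1 (flp_d L6166) (flp_a L6158) L8856
theorem L8860 : sm gg N1011 = N706 := ded_36_2 (flp_d L6196) (flp_g L6162) L8856
theorem L8862 : sm gi N1011 = N1011 := ded_39_2 (flp_d L8856) L6165 L8856
theorem L8863 : sm gf N701 = N1012 := rfl
theorem L8865 : sm ga N1012 = N703 := ded_14_1 (flp_f L6173) (flp_a L6158) L8863
theorem L8867 : sm gc N1012 = N717 := ded_29_1 (flp_f L6290) (flp_c L6160) L8863
theorem L8869 : sm gh N1012 = N1012 := ded_47_2 (flp_f L8863) L6164 L8863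
theorem L8870 : sm gi N1012 = N1012 := ded_48_2 (flp_f L8863) L6165 L8863
theorem L8871 : sm ge N1012 = N1012 := ded_40_1 (flp_f L8863) (flp_e L6156) L4251 L6156 L8863
theorem L8872 : sm gg N1012 = N1012 := ded_45_2 (flp_f L8863) L6162 L4289 (flp_g L6162) L8863
theorem L8873 : sm gc N702 = N1013 := rfl
theorem L8879 : sm gd N1013 = N718 := ded_27_2 (flp_c L6299) (flp_d L4359) (flp_c L4260) L6166 L8873
theorem L8881 : sm gf N702 = N1014 := rfl
theorem L8883 : sm gb N1014 = N704 := ded_22_1 (flp_f L6183) (flp_b L6168) L8881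
theorem L8885 : sm gd N1014 = N703 := ded_35_1 (flp_f L6173) L6166 L8881
theorem L8887 : sm gi N1014 = N1014 := ded_48_2 (flp_f L8881) L6172 L8881
theorem L8888 : sm gg N1014 = N1014 := ded_45_2 (flp_f L8881) L6170 L4294 (flp_g L6170) L8881
theorem L8889 : sm gh N702 = N1015 := rfl
theorem L8893 : sm gg N1015 = N708 := ded_50_1 (flp_h L6211) (flp_g L6170) L8889
theorem L8896 : sm ge N704 = N1016 := rfl
theorem L8898 : sm gc N1016 = N1016 := ded_28_1 (flp_e L8896) L6185 L8896
theorem L8899 : sm gg N1016 = N1016 := ded_41_2 (flp_e L8896) L6189 L8896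
theorem L8900 : sm gi N1016 = N1016 := ded_44_2 (flp_e L8896) L6188 L8896
theorem L8901 : sm gd N1016 = N1016 := ded_34_1 (flp_e L8896) L6186 L4278 (flp_d L6186) L8896
theorem L8902 : sm gh N704 = N1017 := rfl
theorem L8904 : sm gc N1017 = N1017 := ded_32_1 (flp_h L8902) L6185 L8902
theorem L8905 : sm gf N1017 = N705 := ded_47_1 (flp_h L6190) L6183 L8902
theorem L8907 : sm gg N1017 = N1017 := ded_50_1 (flp_h L8902) L6189 L8902
theorem L8908 : sm gd N1017 = N1017 := ded_38_1 (flp_h L8902) L6186 L4276 (flp_d L6186) L8902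
theorem L8909 : sm gi N705 = N1018 := rfl
theorem L8916 : sm gc N706 = N1019 := rfl
theorem L8923 : sm gd N1019 = N724 := ded_27_2 (flp_c L6347) (flp_d L4391) (flp_c L4284) L6196 L8916
theorem L8925 : sm gh N706 = N1020 := rfl
theorem L8932 : sm gh N707 = N1021 := rfl
theorem L8939 : sm gi N708 = N1022 := rfl
theorem L8947 : sm gd N710 = N1023 := rfl
theorem L8949 : sm ga N1023 = N711 := ded_12_1 (flp_d L6235) (flp_a L6227) L8947
theorem L8951 : sm gb N1023 = N1023 := ded_20_1 (flp_d L8947) L6229 L8947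
theorem L8952 : sm gg N1023 = N1023 := ded_36_2 (flp_d L8947) L6230 L8947
theorem L8953 : sm gj N1023 = N716 := ded_37_2 (flp_d L6281) (flp_j L6231) L8947
theorem L8955 : sm gi N1023 = N1023 := ded_39_2 (flp_d L8947) L6234 L8947
theorem L8956 : sm ge N1023 = N1023 := ded_34_2 (flp_d L8947) (flp_e L6225) L4305 L6225 L8947
theorem L8957 : sm gf N710 = N1024 := rfl
theorem L8959 : sm ga N1024 = N712 := ded_14_1 (flp_f L6244) (flp_a L6227) L8957
theorem L8961 : sm gb N1024 = N1024 := ded_22_1 (flp_f L8957) L6229 L8957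
theorem L8962 : sm gj N1024 = N717 := ded_46_2 (flp_f L6290) (flp_j L6231) L8957
theorem L8964 : sm gh N1024 = N1024 := ded_47_2 (flp_f L8957) L6233 L8957
theorem L8965 : sm gi N1024 = N1024 := ded_48_2 (flp_f L8957) L6234 L8957
theorem L8966 : sm ge N1024 = N1024 := ded_40_1 (flp_f L8957) (flp_e L6225) L4306 L6225 L8957
theorem L8967 : sm gc N711 = N1025 := rfl
theorem L8971 : sm gj N1025 = N718 := ded_31_2 (flp_c L6299) (flp_j L6240) L8967
theorem L8975 : sm gf N711 = N1026 := rfl
theorem L8977 : sm gb N1026 = N713 := ded_22_1 (flp_f L6253) (flp_b L6237) L8975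
theorem L8979 : sm gd N1026 = N712 := ded_35_1 (flp_f L6244) L6235 L8975
theorem L8981 : sm gj N1026 = N719 := ded_46_2 (flp_f L6306) (flp_j L6240) L8975
theorem L8983 : sm gi N1026 = N1026 := ded_48_2 (flp_f L8975) L6242 L8975
theorem L8984 : sm gh N711 = N1027 := rfl
theorem L8986 : sm gb N1027 = N714 := ded_25_1 (flp_h L6262) (flp_b L6237) L8984
theorem L8993 : sm gg N712 = N1028 := rfl
theorem L8995 : sm gb N1028 = N715 := ded_23_1 (flp_g L6271) (flp_b L6246) L8993
theorem L8997 : sm ge N1028 = N1028 := ded_41_1 (flp_g L8993) L6252 L8993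
theorem L8998 : sm gh N1028 = N1028 := ded_50_2 (flp_g L8993) L6250 L8993
theorem L8999 : sm gi N1028 = N1028 := ded_51_2 (flp_g L8993) L6251 L8993
theorem L9000 : sm gf N1028 = N1028 := ded_45_1 (flp_g L8993) (flp_f L6244) L4317 L6244 L8993
theorem L9001 : sm gj N1028 = N1028 := ded_49_2 (flp_g L8993) L6248 L4374 (flp_j L6248) L8993
theorem L9002 : sm ge N713 = N1029 := rfl
theorem L9004 : sm ga N1029 = N1029 := ded_13_1 (flp_e L9002) L6255 L9002
theorem L9005 : sm gc N1029 = N1029 := ded_28_1 (flp_e L9002) L6256 L9002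
theorem L9006 : sm gj N1029 = N721 := ded_42_2 (flp_e L6322) (flp_j L6259) L9002
theorem L9008 : sm gi N1029 = N1029 := ded_44_2 (flp_e L9002) L6261 L9002
theorem L9009 : sm gd N1029 = N1029 := ded_34_1 (flp_e L9002) L6257 L4340 (flp_d L6257) L9002
theorem L9010 : sm gf N1029 = N1029 := ded_40_2 (flp_e L9002) (flp_f L6253) L4330 L6253 L9002
theorem L9011 : sm gg N713 = N1030 := rfl
theorem L9013 : sm ga N1030 = N1030 := ded_15_1 (flp_g L9011) L6255 L9011
theorem L9014 : sm gc N1030 = N1030 := ded_30_1 (flp_g L9011) L6256 L9011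
theorem L9015 : sm gd N1030 = N715 := ded_36_1 (flp_g L6271) (flp_d L6257) L9011
theorem L9017 : sm gi N1030 = N1030 := ded_51_2 (flp_g L9011) L6261 L9011
theorem L9018 : sm gf N1030 = N1030 := ded_45_1 (flp_g L9011) (flp_f L6253) L4325 L6253 L9011
theorem L9019 : sm gj N1030 = N1030 := ded_49_2 (flp_g L9011) L6259 L4382 (flp_j L6259) L9011
theorem L9020 : sm gh N713 = N1031 := rfl
theorem L9022 : sm ga N1031 = N1031 := ded_17_1 (flp_h L9020) L6255 L9020
theorem L9023 : sm gc N1031 = N1031 := ded_32_1 (flp_h L9020) L6256 L9020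
theorem L9024 : sm gf N1031 = N714 := ded_47_1 (flp_h L6262) L6253 L9020
theorem L9026 : sm gj N1031 = N722 := ded_52_1 (flp_h L6330) (flp_j L6259) L9020
theorem L9028 : sm gd N1031 = N1031 := ded_38_1 (flp_h L9020) L6257 L4338 (flp_d L6257) L9020
theorem L9029 : sm gi N714 = N1032 := rfl
theorem L9039 : sm gc N716 = N1033 := rfl
theorem L9044 : sm gg N1033 = N724 := ded_30_2 (flp_c L6347) (flp_g L6286) L9039
theorem L9047 : sm gf N716 = N1034 := rfl
theorem L9049 : sm ga N1034 = N719 := ded_14_1 (flp_f L6306) (flp_a L6283) L9047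
theorem L9051 : sm gb N1034 = N1034 := ded_22_1 (flp_f L9047) L6285 L9047
theorem L9052 : sm gd N1034 = N717 := ded_35_1 (flp_f L6290) L6281 L9047
theorem L9054 : sm gi N1034 = N1034 := ded_48_2 (flp_f L9047) L6288 L9047
theorem L9055 : sm gg N1034 = N1034 := ded_45_2 (flp_f L9047) L6286 L4396 (flp_g L6286) L9047
theorem L9056 : sm gh N716 = N1035 := rfl
theorem L9065 : sm gf N718 = N1036 := rfl
theorem L9068 : sm gc N1036 = N719 := ded_29_1 (flp_f L6306) L6299 L9065
theorem L9072 : sm gh N718 = N1037 := rfl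
theorem L9080 : sm ge N719 = N1038 := rfl
theorem L9082 : sm gb N1038 = N721 := ded_21_1 (flp_e L6322) (flp_b L6308) L9080
theorem L9084 : sm gg N1038 = N1038 := ded_41_2 (flp_e L9080) L6313 L9080
theorem L9085 : sm gi N1038 = N1038 := ded_44_2 (flp_e L9080) L6312 L9080
theorem L9086 : sm gd N1038 = N1038 := ded_34_1 (flp_e L9080) L6310 L4373 (flp_d L6310) L9080
theorem L9087 : sm gf N1038 = N1038 := ded_40_2 (flp_e L9080) (flp_f L6306) L4366 L6306 L9080
theorem L9088 : sm gh N719 = N1039 := rfl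
theorem L9090 : sm gb N1039 = N722 := ded_25_1 (flp_h L6330) (flp_b L6308) L9088
theorem L9105 : sm gh N721 = N1041 := rfl
theorem L9107 : sm ga N1041 = N1041 := ded_17_1 (flp_h L9105) L6324 L9105
theorem L9108 : sm gc N1041 = N1041 := ded_32_1 (flp_h L9105) L6325 L9105
theorem L9109 : sm ge N1041 = N722 := ded_43_1 (flp_h L6330) L6322 L9105
theorem L9111 : sm gf N1041 = N1041 := ded_47_1 (flp_h L9105) L6329 L9105
theorem L9112 : sm gg N1041 = N1041 := ded_50_1 (flp_h L9105) L6326 L9105
theorem L9113 : sm gi N722 = N1042 := rfl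
theorem L9118 : sm gf N1042 = N723 := ded_48_1 (flp_i L6338) (flp_f L6334) L9113
theorem L9122 : sm gb N724 = N1043 := rfl
theorem L9130 : sm gh N724 = N1044 := rfl
theorem L9149 : sm gd N726 = N1046 := rfl
theorem L9164 : sm ge N728 = N1048 := rfl
theorem L9166 : sm ga N1048 = N1048 := ded_13_1 (flp_e L9164) L6383 L9164
theorem L9167 : sm gb N1048 = N1048 := ded_21_1 (flp_e L9164) L6384 L9164
theorem L9168 : sm gc N1048 = N1048 := ded_28_1 (flp_e L9164) L6385 L9164
theorem L9169 : sm gg N1048 = N1048 := ded_41_2 (flp_e L9164) L6389 L9164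
theorem L9170 : sm gh N1048 = N1048 := ded_43_2 (flp_e L9164) L6388 L9164
theorem L9171 : sm gd N1048 = N1048 := ded_34_1 (flp_e L9164) L6386 L4449 (flp_d L6386) L9164
theorem L9172 : sm gf N1048 = N1048 := ded_40_2 (flp_e L9164) (flp_f L6381) L4431 L6381 L9164
theorem L9173 : sm gj N728 = N1049 := rfl
theorem L9175 : sm ga N1049 = N1049 := ded_16_1 (flp_j L9173) L6383 L9173
theorem L9176 : sm gb N1049 = N1049 := ded_24_1 (flp_j L9173) L6384 L9173
theorem L9177 : sm gc N1049 = N1049 := ded_31_1 (flp_j L9173) L6385 L9173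
theorem L9178 : sm gd N1049 = N732 := ded_37_1 (flp_j L6419) (flp_d L6386) L9173
theorem L9180 : sm gf N1049 = N729 := ded_46_1 (flp_j L6390) L6381 L9173
theorem L9182 : sm gh N1049 = N1049 := ded_52_2 (flp_j L9173) L6388 L9173
theorem L9183 : sm gi N728 = N1050 := rfl
theorem L9185 : sm ga N1050 = N1050 := ded_18_1 (flp_i L9183) L6383 L9183
theorem L9186 : sm gb N1050 = N1050 := ded_26_1 (flp_i L9183) L6384 L9183
theorem L9187 : sm gc N1050 = N1050 := ded_33_1 (flp_i L9183) L6385 L9183
theorem L9188 : sm gd N1050 = N734 := ded_39_1 (flp_i L6439) (flp_d L6386) L9183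
theorem L9190 : sm gf N1050 = N730 := ded_48_1 (flp_i L6400) L6381 L9183
theorem L9192 : sm gg N1050 = N1050 := ded_51_1 (flp_i L9183) L6389 L9183
theorem L9193 : sm gi N729 = N1051 := rfl
theorem L9195 : sm ga N1051 = N1051 := ded_18_1 (flp_i L9193) L6392 L9193
theorem L9196 : sm gb N1051 = N1051 := ded_26_1 (flp_i L9193) L6393 L9193
theorem L9197 : sm gc N1051 = N1051 := ded_33_1 (flp_i L9193) L6394 L9193
theorem L9198 : sm gd N1051 = N736 := ded_39_1 (flp_i L6461) (flp_d L6395) L9193
theorem L9200 : sm ge N1051 = N1051 := ded_44_1 (flp_i L9193) L6397 L9193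
theorem L9201 : sm gg N1051 = N1051 := ded_51_1 (flp_i L9193) L6399 L9193
theorem L9202 : sm gj N1051 = N730 := ded_53_1 (flp_i L6400) L6390 L9193
theorem L9204 : sm gh N730 = N1052 := rfl
theorem L9206 : sm ga N1052 = N1052 := ded_17_1 (flp_h L9204) L6402 L9204
theorem L9207 : sm gb N1052 = N1052 := ded_25_1 (flp_h L9204) L6403 L9204
theorem L9208 : sm gc N1052 = N1052 := ded_32_1 (flp_h L9204) L6404 L9204
theorem L9209 : sm ge N1052 = N1052 := ded_43_1 (flp_h L9204) L6407 L9204
theorem L9210 : sm gg N1052 = N731 := ded_50_1 (flp_h L6410) (flp_g L6408) L9204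
theorem L9212 : sm gi N1052 = N1052 := ded_54_2 (flp_h L9204) (flp_i L6400) L4432 L6400 L9204
theorem L9213 : sm gd N731 = N1053 := rfl
theorem L9215 : sm ga N1053 = N1053 := ded_12_1 (flp_d L9213) L6412 L9213
theorem L9216 : sm gb N1053 = N1053 := ded_20_1 (flp_d L9213) L6413 L9213
theorem L9217 : sm gf N1053 = N1053 := ded_35_2 (flp_d L9213) L6416 L9213
theorem L9218 : sm gj N1053 = N1053 := ded_37_2 (flp_d L9213) L6417 L9213
theorem L9219 : sm gi N1053 = N1053 := ded_39_2 (flp_d L9213) L6418 L9213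
theorem L9220 : sm gh N1053 = N740 := ded_38_2 (flp_d L6505) (flp_h L4492) (flp_d L4438) L6410 L9213
theorem L9222 : sm gg N732 = N1054 := rfl
theorem L9224 : sm ga N1054 = N1054 := ded_15_1 (flp_g L9222) L6421 L9222
theorem L9225 : sm gb N1054 = N1054 := ded_23_1 (flp_g L9222) L6422 L9222
theorem L9226 : sm gc N1054 = N758 := ded_30_1 (flp_g L6667) (flp_c L6423) L9222
theorem L9228 : sm ge N1054 = N1054 := ded_41_1 (flp_g L9222) L6425 L9222
theorem L9229 : sm gf N1054 = N1054 := ded_45_1 (flp_g L9222) L6426 L4459 (flp_f L6426) L9222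
theorem L9230 : sm gj N1054 = N1054 := ded_49_2 (flp_g L9222) (flp_j L6419) L4450 L6419 L9222
theorem L9231 : sm gh N732 = N1055 := rfl
theorem L9233 : sm ga N1055 = N1055 := ded_17_1 (flp_h L9231) L6421 L9231
theorem L9234 : sm gb N1055 = N1055 := ded_25_1 (flp_h L9231) L6422 L9231
theorem L9235 : sm gc N1055 = N759 := ded_32_1 (flp_h L6676) (flp_c L6423) L9231
theorem L9237 : sm ge N1055 = N1055 := ded_43_1 (flp_h L9231) L6425 L9231
theorem L9238 : sm gf N1055 = N735 := ded_47_1 (flp_h L6449) (flp_f L6426) L9231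
theorem L9240 : sm gj N1055 = N733 := ded_52_1 (flp_h L6428) L6419 L9231
theorem L9242 : sm gd N1055 = N1055 := ded_38_1 (flp_h L9231) (flp_d L9178) L9182 L9178 L9231
theorem L9243 : sm gi N732 = N1056 := rfl
theorem L9245 : sm ga N1056 = N1056 := ded_18_1 (flp_i L9243) L6421 L9243
theorem L9246 : sm gb N1056 = N1056 := ded_26_1 (flp_i L9243) L6422 L9243
theorem L9247 : sm gc N1056 = N760 := ded_33_1 (flp_i L6686) (flp_c L6423) L9243
theorem L9249 : sm ge N1056 = N1056 := ded_44_1 (flp_i L9243) L6425 L9243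
theorem L9250 : sm gf N1056 = N736 := ded_48_1 (flp_i L6461) (flp_f L6426) L9243
theorem L9252 : sm gj N1056 = N734 := ded_53_1 (flp_i L6439) L6419 L9243
theorem L9254 : sm gi N733 = N1057 := rfl
theorem L9256 : sm ga N1057 = N1057 := ded_18_1 (flp_i L9254) L6430 L9254
theorem L9257 : sm gb N1057 = N1057 := ded_26_1 (flp_i L9254) L6431 L9254
theorem L9258 : sm gc N1057 = N762 := ded_33_1 (flp_i L6707) (flp_c L6432) L9254
theorem L9260 : sm gd N1057 = N1057 := ded_39_1 (flp_i L9254) L6438 L9254
theorem L9261 : sm ge N1057 = N1057 := ded_44_1 (flp_i L9254) L6434 L9254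
theorem L9262 : sm gf N1057 = N737 := ded_48_1 (flp_i L6472) (flp_f L6435) L9254
theorem L9264 : sm gg N1057 = N1057 := ded_51_1 (flp_i L9254) L6437 L9254
theorem L9265 : sm gh N734 = N1058 := rfl
theorem L9267 : sm ga N1058 = N1058 := ded_17_1 (flp_h L9265) L6441 L9265
theorem L9268 : sm gb N1058 = N1058 := ded_25_1 (flp_h L9265) L6442 L9265
theorem L9269 : sm gc N1058 = N763 := ded_32_1 (flp_h L6716) (flp_c L6443) L9265
theorem L9271 : sm ge N1058 = N1058 := ded_43_1 (flp_h L9265) L6445 L9265
theorem L9272 : sm gf N1058 = N738 := ded_47_1 (flp_h L6483) (flp_f L6446) L9265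
theorem L9274 : sm gg N1058 = N1058 := ded_50_1 (flp_h L9265) L6448 L9265
theorem L9275 : sm gi N735 = N1059 := rfl
theorem L9277 : sm ga N1059 = N1059 := ded_18_1 (flp_i L9275) L6451 L9275
theorem L9278 : sm gb N1059 = N1059 := ded_26_1 (flp_i L9275) L6452 L9275
theorem L9279 : sm gc N1059 = N765 := ded_33_1 (flp_i L6736) (flp_c L6453) L9275
theorem L9281 : sm gd N1059 = N1059 := ded_39_1 (flp_i L9275) L6460 L9275
theorem L9282 : sm ge N1059 = N742 := ded_44_1 (flp_i L6522) (flp_e L6455) L9275
theorem L9284 : sm gg N1059 = N1059 := ded_51_1 (flp_i L9275) L6457 L9275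
theorem L9285 : sm gj N1059 = N737 := ded_53_1 (flp_i L6472) (flp_j L6458) L9275
theorem L9287 : sm gh N736 = N1060 := rfl
theorem L9289 : sm ga N1060 = N1060 := ded_17_1 (flp_h L9287) L6463 L9287
theorem L9290 : sm gb N1060 = N1060 := ded_25_1 (flp_h L9287) L6464 L9287
theorem L9291 : sm gc N1060 = N766 := ded_32_1 (flp_h L6746) (flp_c L6465) L9287
theorem L9293 : sm ge N1060 = N743 := ded_43_1 (flp_h L6532) (flp_e L6467) L9287
theorem L9295 : sm gg N1060 = N1060 := ded_50_1 (flp_h L9287) L6469 L9287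
theorem L9296 : sm gj N1060 = N738 := ded_52_1 (flp_h L6483) (flp_j L6470) L9287
theorem L9298 : sm gh N737 = N1061 := rfl
theorem L9300 : sm ga N1061 = N1061 := ded_17_1 (flp_h L9298) L6474 L9298
theorem L9301 : sm gb N1061 = N1061 := ded_25_1 (flp_h L9298) L6475 L9298
theorem L9302 : sm gc N1061 = N768 := ded_32_1 (flp_h L6767) (flp_c L6476) L9298
theorem L9304 : sm ge N1061 = N745 := ded_43_1 (flp_h L6553) (flp_e L6479) L9298
theorem L9306 : sm gg N1061 = N739 := ded_50_1 (flp_h L6493) (flp_g L6481) L9298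
theorem L9308 : sm gi N1061 = N738 := ded_54_2 (flp_h L6483) (flp_i L4471) L4460 L6472 L9298
theorem L9310 : sm gd N738 = N1062 := rfl
theorem L9312 : sm ga N1062 = N1062 := ded_12_1 (flp_d L9310) L6485 L9310
theorem L9313 : sm gb N1062 = N1062 := ded_20_1 (flp_d L9310) L6486 L9310
theorem L9314 : sm gg N1062 = N740 := ded_36_2 (flp_d L6505) (flp_g L6491) L9310
theorem L9316 : sm gd N739 = N1063 := rfl
theorem L9318 : sm ga N1063 = N1063 := ded_12_1 (flp_d L9316) L6495 L9316
theorem L9319 : sm gb N1063 = N1063 := ded_20_1 (flp_d L9316) L6496 L9316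
theorem L9320 : sm gf N1063 = N1063 := ded_35_2 (flp_d L9316) L6501 L9316
theorem L9321 : sm gj N1063 = N1063 := ded_37_2 (flp_d L9316) L6502 L9316
theorem L9322 : sm gi N1063 = N740 := ded_39_2 (flp_d L6505) (flp_i L6503) L9316
theorem L9324 : sm gh N1063 = N1063 := ded_38_2 (flp_d L9316) (flp_h L6493) L4487 L6493 L9316
theorem L9325 : sm gc N740 = N1064 := rfl
theorem L9327 : sm ga N1064 = N1064 := ded_11_1 (flp_c L9325) L6507 L9325
theorem L9328 : sm gf N1064 = N1064 := ded_29_2 (flp_c L9325) L6509 L9325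
theorem L9329 : sm gj N1064 = N1064 := ded_31_2 (flp_c L9325) L6510 L9325
theorem L9330 : sm gd N1064 = N772 := ded_27_2 (flp_c L6805) (flp_d L4723) (flp_c L4496) L6505 L9325
theorem L9332 : sm ge N740 = N1065 := rfl
theorem L9334 : sm ga N1065 = N1065 := ded_13_1 (flp_e L9332) L6507 L9332
theorem L9335 : sm gb N1065 = N1065 := ded_21_1 (flp_e L9332) L6508 L9332
theorem L9336 : sm gj N1065 = N1065 := ded_42_2 (flp_e L9332) L6510 L9332
theorem L9337 : sm gd N1065 = N750 := ded_34_1 (flp_e L6600) (flp_d L4573) (flp_e L4498) L6505 L9332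
theorem L9339 : sm gi N741 = N1066 := rfl
theorem L9341 : sm ga N1066 = N1066 := ded_18_1 (flp_i L9339) L6513 L9339
theorem L9342 : sm gb N1066 = N1066 := ded_26_1 (flp_i L9339) L6514 L9339
theorem L9343 : sm gc N1066 = N1066 := ded_33_1 (flp_i L9339) L6519 L9339
theorem L9344 : sm gd N1066 = N742 := ded_39_1 (flp_i L6522) L6511 L9339
theorem L9346 : sm ge N1066 = N1066 := ded_44_1 (flp_i L9339) L6520 L9339
theorem L9347 : sm gf N1066 = N1066 := ded_48_1 (flp_i L9339) L6515 L9339
theorem L9348 : sm gg N1066 = N1066 := ded_51_1 (flp_i L9339) L6516 L9339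
theorem L9349 : sm gj N1066 = N744 := ded_53_1 (flp_i L6542) (flp_j L6517) L9339
theorem L9351 : sm gh N742 = N1067 := rfl
theorem L9353 : sm ga N1067 = N1067 := ded_17_1 (flp_h L9351) L6524 L9351
theorem L9354 : sm gb N1067 = N1067 := ded_25_1 (flp_h L9351) L6525 L9351
theorem L9355 : sm gc N1067 = N774 := ded_32_1 (flp_h L6820) (flp_c L6526) L9351
theorem L9357 : sm gf N1067 = N1067 := ded_47_1 (flp_h L9351) L6528 L9351
theorem L9358 : sm gg N1067 = N1067 := ded_50_1 (flp_h L9351) L6529 L9351
theorem L9359 : sm gj N1067 = N745 := ded_52_1 (flp_h L6553) (flp_j L6530) L9351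
theorem L9361 : sm gi N1067 = N743 := ded_54_2 (flp_h L6532) (flp_i L4512) L4502 L6522 L9351
theorem L9363 : sm gd N743 = N1068 := rfl
theorem L9365 : sm ga N1068 = N1068 := ded_12_1 (flp_d L9363) L6534 L9363
theorem L9366 : sm gb N1068 = N1068 := ded_20_1 (flp_d L9363) L6535 L9363
theorem L9367 : sm gf N1068 = N1068 := ded_35_2 (flp_d L9363) L6538 L9363
theorem L9368 : sm gg N1068 = N1068 := ded_36_2 (flp_d L9363) L6539 L9363
theorem L9369 : sm gj N1068 = N746 := ded_37_2 (flp_d L6564) (flp_j L6540) L9363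
theorem L9371 : sm gh N1068 = N1068 := ded_38_2 (flp_d L9363) (flp_h L6532) L4518 L6532 L9363
theorem L9372 : sm gh N744 = N1069 := rfl
theorem L9374 : sm ga N1069 = N1069 := ded_17_1 (flp_h L9372) L6544 L9372
theorem L9375 : sm gb N1069 = N1069 := ded_25_1 (flp_h L9372) L6545 L9372
theorem L9376 : sm gc N1069 = N1069 := ded_32_1 (flp_h L9372) L6546 L9372
theorem L9377 : sm ge N1069 = N1069 := ded_43_1 (flp_h L9372) L6549 L9372
theorem L9378 : sm gf N1069 = N1069 := ded_47_1 (flp_h L9372) L6550 L9372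
theorem L9379 : sm gg N1069 = N747 := ded_50_1 (flp_h L6572) (flp_g L6551) L9372
theorem L9381 : sm gi N1069 = N1069 := ded_54_2 (flp_h L9372) (flp_i L6542) L4532 L6542 L9372
theorem L9382 : sm gd N745 = N1070 := rfl
theorem L9384 : sm ga N1070 = N1070 := ded_12_1 (flp_d L9382) L6555 L9382
theorem L9385 : sm gb N1070 = N1070 := ded_20_1 (flp_d L9382) L6556 L9382
theorem L9386 : sm gf N1070 = N1070 := ded_35_2 (flp_d L9382) L6559 L9382
theorem L9387 : sm gg N1070 = N748 := ded_36_2 (flp_d L6582) (flp_g L6560) L9382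
theorem L9389 : sm gi N1070 = N746 := ded_39_2 (flp_d L6564) (flp_i L6562) L9382
theorem L9391 : sm gc N746 = N1071 := rfl
theorem L9393 : sm ga N1071 = N1071 := ded_11_1 (flp_c L9391) L6566 L9391
theorem L9394 : sm gf N1071 = N1071 := ded_29_2 (flp_c L9391) L6568 L9391
theorem L9395 : sm gg N1071 = N749 := ded_30_2 (flp_c L6591) (flp_g L6569) L9391
theorem L9397 : sm gh N1071 = N1071 := ded_32_2 (flp_c L9391) L6571 L9391
theorem L9398 : sm gd N1071 = N777 := ded_27_2 (flp_c L6853) (flp_d L4760) (flp_c L4546) L6564 L9391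
theorem L9400 : sm ge N746 = N1072 := rfl
theorem L9402 : sm ga N1072 = N1072 := ded_13_1 (flp_e L9400) L6566 L9400
theorem L9403 : sm gb N1072 = N1072 := ded_21_1 (flp_e L9400) L6567 L9400
theorem L9404 : sm gg N1072 = N750 := ded_41_2 (flp_e L6600) (flp_g L6569) L9400
theorem L9406 : sm gh N1072 = N1072 := ded_43_2 (flp_e L9400) L6571 L9400
theorem L9407 : sm gd N747 = N1073 := rfl
theorem L9409 : sm ga N1073 = N1073 := ded_12_1 (flp_d L9407) L6574 L9407
theorem L9410 : sm gb N1073 = N1073 := ded_20_1 (flp_d L9407) L6575 L9407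
theorem L9411 : sm gf N1073 = N752 := ded_35_2 (flp_d L6617) (flp_f L6578) L9407
theorem L9413 : sm gj N1073 = N1073 := ded_37_2 (flp_d L9407) L6580 L9407
theorem L9414 : sm gi N1073 = N1073 := ded_39_2 (flp_d L9407) L6581 L9407
theorem L9415 : sm gh N1073 = N748 := ded_38_2 (flp_d L6582) (flp_h L4562) (flp_d L4556) L6572 L9407
theorem L9417 : sm gc N748 = N1074 := rfl
theorem L9419 : sm ga N1074 = N1074 := ded_11_1 (flp_c L9417) L6584 L9417
theorem L9420 : sm gf N1074 = N753 := ded_29_2 (flp_c L6626) (flp_f L6586) L9417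
theorem L9422 : sm gj N1074 = N1074 := ded_31_2 (flp_c L9417) L6588 L9417
theorem L9423 : sm gi N1074 = N749 := ded_33_2 (flp_c L6591) (flp_i L6589) L9417
theorem L9425 : sm gd N1074 = N779 := ded_27_2 (flp_c L6870) (flp_d L4770) (flp_c L4566) L6582 L9417
theorem L9427 : sm ge N748 = N1075 := rfl
theorem L9429 : sm ga N1075 = N1075 := ded_13_1 (flp_e L9427) L6584 L9427
theorem L9430 : sm gb N1075 = N1075 := ded_21_1 (flp_e L9427) L6585 L9427
theorem L9431 : sm gj N1075 = N1075 := ded_42_2 (flp_e L9427) L6588 L9427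
theorem L9432 : sm gi N1075 = N750 := ded_44_2 (flp_e L6600) (flp_i L6589) L9427
theorem L9434 : sm gb N749 = N1076 := rfl
theorem L9436 : sm gd N1076 = N781 := ded_20_2 (flp_b L6888) (flp_d L6598) L9434
theorem L9438 : sm gf N1076 = N755 := ded_22_2 (flp_b L6644) (flp_f L6594) L9434
theorem L9440 : sm gj N1076 = N1076 := ded_24_2 (flp_b L9434) L6596 L9434
theorem L9441 : sm gh N1076 = N1076 := ded_25_2 (flp_b L9434) L6597 L9434
theorem L9442 : sm gc N1076 = N1076 := ded_19_2 (flp_b L9434) (flp_c L6591) L4576 L6591 L9434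
theorem L9443 : sm ge N749 = N1077 := rfl
theorem L9445 : sm ga N1077 = N1077 := ded_13_1 (flp_e L9443) L6593 L9443
theorem L9446 : sm gc N1077 = N750 := ded_28_1 (flp_e L6600) L6591 L9443
theorem L9448 : sm gj N1077 = N1077 := ded_42_2 (flp_e L9443) L6596 L9443
theorem L9449 : sm gh N1077 = N1077 := ded_43_2 (flp_e L9443) L6597 L9443
theorem L9450 : sm gf N750 = N1078 := rfl
theorem L9452 : sm ga N1078 = N1078 := ded_14_1 (flp_f L9450) L6602 L9450
theorem L9453 : sm gb N1078 = N1078 := ded_22_1 (flp_f L9450) L6603 L9450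
theorem L9454 : sm gj N1078 = N1078 := ded_46_2 (flp_f L9450) L6604 L9450
theorem L9455 : sm gh N1078 = N1078 := ded_47_2 (flp_f L9450) L6605 L9450
theorem L9456 : sm ge N1078 = N757 := ded_40_1 (flp_f L6660) (flp_e L4616) (flp_f L4577) L6600 L9450
theorem L9458 : sm gd N751 = N1079 := rfl
theorem L9460 : sm ga N1079 = N1079 := ded_12_1 (flp_d L9458) L6608 L9458
theorem L9461 : sm gb N1079 = N1079 := ded_20_1 (flp_d L9458) L6609 L9458
theorem L9462 : sm gf N1079 = N1079 := ded_35_2 (flp_d L9458) L6613 L9458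
theorem L9463 : sm gg N1079 = N1079 := ded_36_2 (flp_d L9458) L6614 L9458
theorem L9464 : sm gj N1079 = N1079 := ded_37_2 (flp_d L9458) L6615 L9458
theorem L9465 : sm gi N1079 = N1079 := ded_39_2 (flp_d L9458) L6616 L9458
theorem L9466 : sm gh N1079 = N1079 := ded_38_2 (flp_d L9458) (flp_h L6606) L4586 L6606 L9458
theorem L9467 : sm gc N752 = N1080 := rfl
theorem L9469 : sm ga N1080 = N1080 := ded_11_1 (flp_c L9467) L6619 L9467
theorem L9470 : sm gg N1080 = N1080 := ded_30_2 (flp_c L9467) L6621 L9467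
theorem L9471 : sm gj N1080 = N1080 := ded_31_2 (flp_c L9467) L6622 L9467
theorem L9472 : sm gh N1080 = N753 := ded_32_2 (flp_c L6626) (flp_h L6624) L9467
theorem L9474 : sm gi N1080 = N1080 := ded_33_2 (flp_c L9467) L6623 L9467
theorem L9475 : sm gd N1080 = N1080 := ded_27_2 (flp_c L9467) (flp_d L6617) L4596 L6617 L9467
theorem L9476 : sm ge N752 = N1081 := rfl
theorem L9478 : sm ga N1081 = N1081 := ded_13_1 (flp_e L9476) L6619 L9476
theorem L9479 : sm gb N1081 = N1081 := ded_21_1 (flp_e L9476) L6620 L9476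
theorem L9480 : sm gg N1081 = N1081 := ded_41_2 (flp_e L9476) L6621 L9476
theorem L9481 : sm gj N1081 = N1081 := ded_42_2 (flp_e L9476) L6622 L9476
theorem L9482 : sm gh N1081 = N754 := ded_43_2 (flp_e L6635) (flp_h L6624) L9476
theorem L9484 : sm gi N1081 = N1081 := ded_44_2 (flp_e L9476) L6623 L9476
theorem L9485 : sm gb N753 = N1082 := rfl
theorem L9487 : sm gd N1082 = N784 := ded_20_2 (flp_b L6915) (flp_d L6633) L9485
theorem L9489 : sm gg N1082 = N1082 := ded_23_2 (flp_b L9485) L6629 L9485
theorem L9490 : sm gj N1082 = N1082 := ded_24_2 (flp_b L9485) L6630 L9485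
theorem L9491 : sm gi N1082 = N755 := ded_26_2 (flp_b L6644) (flp_i L6631) L9485
theorem L9493 : sm gc N1082 = N1082 := ded_19_2 (flp_b L9485) (flp_c L6626) L4603 L6626 L9485
theorem L9494 : sm ge N753 = N1083 := rfl
theorem L9496 : sm ga N1083 = N1083 := ded_13_1 (flp_e L9494) L6628 L9494
theorem L9497 : sm gc N1083 = N754 := ded_28_1 (flp_e L6635) L6626 L9494
theorem L9499 : sm gg N1083 = N1083 := ded_41_2 (flp_e L9494) L6629 L9494
theorem L9500 : sm gj N1083 = N1083 := ded_42_2 (flp_e L9494) L6630 L9494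
theorem L9501 : sm gi N1083 = N756 := ded_44_2 (flp_e L6652) (flp_i L6631) L9494
theorem L9503 : sm gf N754 = N1084 := rfl
theorem L9505 : sm ga N1084 = N1084 := ded_14_1 (flp_f L9503) L6637 L9503
theorem L9506 : sm gb N1084 = N1084 := ded_22_1 (flp_f L9503) L6638 L9503
theorem L9507 : sm gd N1084 = N1084 := ded_35_1 (flp_f L9503) L6643 L9503
theorem L9508 : sm gj N1084 = N1084 := ded_46_2 (flp_f L9503) L6640 L9503
theorem L9509 : sm gi N1084 = N757 := ded_48_2 (flp_f L6660) (flp_i L6641) L9503
theorem L9511 : sm ga N755 = N1085 := rfl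
theorem L9513 : sm gc N1085 = N1085 := ded_11_2 (flp_a L9511) L6651 L9511
theorem L9514 : sm gd N1085 = N787 := ded_12_2 (flp_a L6944) (flp_d L6646) L9511
theorem L9516 : sm gg N1085 = N1085 := ded_15_2 (flp_a L9511) L6648 L9511
theorem L9517 : sm gj N1085 = N1085 := ded_16_2 (flp_a L9511) L6649 L9511
theorem L9518 : sm gh N1085 = N1085 := ded_17_2 (flp_a L9511) L6650 L9511
theorem L9519 : sm gb N1085 = N1085 := ded_10_2 (flp_a L9511) (flp_b L6644) L4610 L6644 L9511
theorem L9520 : sm ge N755 = N1086 := rfl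
theorem L9522 : sm gb N1086 = N756 := ded_21_1 (flp_e L6652) L6644 L9520
theorem L9524 : sm gc N1086 = N1086 := ded_28_1 (flp_e L9520) L6651 L9520
theorem L9525 : sm gg N1086 = N1086 := ded_41_2 (flp_e L9520) L6648 L9520
theorem L9526 : sm gj N1086 = N1086 := ded_42_2 (flp_e L9520) L6649 L9520
theorem L9527 : sm gh N1086 = N1086 := ded_43_2 (flp_e L9520) L6650 L9520
theorem L9528 : sm gd N756 = N1087 := rfl
theorem L9530 : sm ga N1087 = N1087 := ded_12_1 (flp_d L9528) L6654 L9528
theorem L9531 : sm gg N1087 = N1087 := ded_36_2 (flp_d L9528) L6657 L9528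
theorem L9532 : sm gj N1087 = N1087 := ded_37_2 (flp_d L9528) L6658 L9528
theorem L9533 : sm gc N1087 = N1087 := ded_27_1 (flp_d L9528) L6655 L4623 (flp_c L6655) L9528
theorem L9534 : sm ge N1087 = N789 := ded_34_2 (flp_d L6963) (flp_e L4824) (flp_d L4614) L6652 L9528
theorem L9536 : sm gf N756 = N1088 := rfl
theorem L9538 : sm ga N1088 = N1088 := ded_14_1 (flp_f L9536) L6654 L9536
theorem L9539 : sm gc N1088 = N757 := ded_29_1 (flp_f L6660) (flp_c L6655) L9536
theorem L9541 : sm gj N1088 = N1088 := ded_46_2 (flp_f L9536) L6658 L9536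
theorem L9542 : sm gh N1088 = N1088 := ded_47_2 (flp_f L9536) L6659 L9536
theorem L9543 : sm gg N757 = N1089 := rfl
theorem L9545 : sm ga N1089 = N1089 := ded_15_1 (flp_g L9543) L6662 L9543
theorem L9546 : sm gb N1089 = N1089 := ded_23_1 (flp_g L9543) L6663 L9543
theorem L9547 : sm gd N1089 = N1089 := ded_36_1 (flp_g L9543) L6664 L9543
theorem L9548 : sm gh N1089 = N1089 := ded_50_2 (flp_g L9543) L6666 L9543
theorem L9549 : sm gf N1089 = N1089 := ded_45_1 (flp_g L9543) (flp_f L6660) L4620 L6660 L9543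
theorem L9550 : sm gh N758 = N1090 := rfl
theorem L9552 : sm ga N1090 = N1090 := ded_17_1 (flp_h L9550) L6669 L9550
theorem L9553 : sm gb N1090 = N814 := ded_25_1 (flp_h L7178) (flp_b L6670) L9550
theorem L9555 : sm ge N1090 = N1090 := ded_43_1 (flp_h L9550) L6673 L9550
theorem L9556 : sm gf N1090 = N1090 := ded_47_1 (flp_h L9550) L6674 L9550
theorem L9557 : sm gg N1090 = N759 := ded_50_1 (flp_h L6676) L6667 L9550
theorem L9559 : sm gj N1090 = N1090 := ded_52_1 (flp_h L9550) L6675 L9550
theorem L9560 : sm gi N758 = N1091 := rfl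
theorem L9562 : sm ga N1091 = N1091 := ded_18_1 (flp_i L9560) L6669 L9560
theorem L9563 : sm gb N1091 = N815 := ded_26_1 (flp_i L7188) (flp_b L6670) L9560
theorem L9565 : sm gd N1091 = N1091 := ded_39_1 (flp_i L9560) L6672 L9560
theorem L9566 : sm ge N1091 = N1091 := ded_44_1 (flp_i L9560) L6673 L9560
theorem L9567 : sm gf N1091 = N1091 := ded_48_1 (flp_i L9560) L6674 L9560
theorem L9568 : sm gg N1091 = N760 := ded_51_1 (flp_i L6686) L6667 L9560
theorem L9570 : sm gj N1091 = N1091 := ded_53_1 (flp_i L9560) L6675 L9560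
theorem L9571 : sm gd N759 = N1092 := rfl
theorem L9573 : sm ga N1092 = N1092 := ded_12_1 (flp_d L9571) L6678 L9571
theorem L9574 : sm gb N1092 = N816 := ded_20_1 (flp_d L7199) (flp_b L6679) L9571
theorem L9576 : sm gf N1092 = N764 := ded_35_2 (flp_d L6725) (flp_f L6682) L9571
theorem L9578 : sm gj N1092 = N761 := ded_37_2 (flp_d L6697) (flp_j L6684) L9571
theorem L9580 : sm gc N1092 = N1092 := ded_27_1 (flp_d L9571) (flp_c L9235) L9242 L9235 L9571
theorem L9581 : sm gh N1092 = N1092 := ded_38_2 (flp_d L9571) (flp_h L6676) L4629 L6676 L9571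
theorem L9582 : sm gi N759 = N1093 := rfl
theorem L9584 : sm ga N1093 = N1093 := ded_18_1 (flp_i L9582) L6678 L9582
theorem L9585 : sm gb N1093 = N817 := ded_26_1 (flp_i L7208) (flp_b L6679) L9582
theorem L9587 : sm ge N1093 = N1093 := ded_44_1 (flp_i L9582) L6681 L9582
theorem L9588 : sm gf N1093 = N765 := ded_48_1 (flp_i L6736) (flp_f L6682) L9582
theorem L9590 : sm gj N1093 = N762 := ded_53_1 (flp_i L6707) (flp_j L6684) L9582
theorem L9592 : sm gh N760 = N1094 := rfl
theorem L9594 : sm ga N1094 = N1094 := ded_17_1 (flp_h L9592) L6688 L9592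
theorem L9595 : sm gb N1094 = N818 := ded_25_1 (flp_h L7218) (flp_b L6689) L9592
theorem L9597 : sm ge N1094 = N1094 := ded_43_1 (flp_h L9592) L6692 L9592
theorem L9598 : sm gf N1094 = N766 := ded_47_1 (flp_h L6746) (flp_f L6693) L9592
theorem L9600 : sm gj N1094 = N763 := ded_52_1 (flp_h L6716) (flp_j L6695) L9592
theorem L9602 : sm ge N761 = N1095 := rfl
theorem L9604 : sm ga N1095 = N1095 := ded_13_1 (flp_e L9602) L6699 L9602
theorem L9605 : sm gb N1095 = N820 := ded_21_1 (flp_e L7238) (flp_b L6700) L9602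
theorem L9607 : sm gc N1095 = N1095 := ded_28_1 (flp_e L9602) L6705 L9602
theorem L9608 : sm gg N1095 = N1095 := ded_41_2 (flp_e L9602) L6704 L9602
theorem L9609 : sm gh N1095 = N1095 := ded_43_2 (flp_e L9602) L6706 L9602
theorem L9610 : sm gd N1095 = N1095 := ded_34_1 (flp_e L9602) (flp_d L6697) L4638 L6697 L9602
theorem L9611 : sm gf N1095 = N1095 := ded_40_2 (flp_e L9602) L6702 L4681 (flp_f L6702) L9602
theorem L9612 : sm gi N761 = N1096 := rfl
theorem L9614 : sm ga N1096 = N1096 := ded_18_1 (flp_i L9612) L6699 L9612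
theorem L9615 : sm gb N1096 = N821 := ded_26_1 (flp_i L7246) (flp_b L6700) L9612
theorem L9617 : sm gc N1096 = N1096 := ded_33_1 (flp_i L9612) L6705 L9612
theorem L9618 : sm gd N1096 = N762 := ded_39_1 (flp_i L6707) L6697 L9612
theorem L9620 : sm gf N1096 = N767 := ded_48_1 (flp_i L6756) (flp_f L6702) L9612
theorem L9622 : sm gg N1096 = N1096 := ded_51_1 (flp_i L9612) L6704 L9612
theorem L9623 : sm gh N762 = N1097 := rfl
theorem L9625 : sm ga N1097 = N1097 := ded_17_1 (flp_h L9623) L6709 L9623
theorem L9626 : sm gb N1097 = N822 := ded_25_1 (flp_h L7255) (flp_b L6710) L9623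
theorem L9628 : sm ge N1097 = N1097 := ded_43_1 (flp_h L9623) L6712 L9623
theorem L9629 : sm gf N1097 = N768 := ded_47_1 (flp_h L6767) (flp_f L6713) L9623
theorem L9631 : sm gg N1097 = N1097 := ded_50_1 (flp_h L9623) L6715 L9623
theorem L9632 : sm gi N1097 = N763 := ded_54_2 (flp_h L6716) (flp_i L4642) L4633 L6707 L9623
theorem L9634 : sm gd N763 = N1098 := rfl
theorem L9636 : sm ga N1098 = N1098 := ded_12_1 (flp_d L9634) L6718 L9634
theorem L9637 : sm gb N1098 = N823 := ded_20_1 (flp_d L7266) (flp_b L6719) L9634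
theorem L9639 : sm gf N1098 = N769 := ded_35_2 (flp_d L6778) (flp_f L6722) L9634
theorem L9641 : sm gg N1098 = N1098 := ded_36_2 (flp_d L9634) L6724 L9634
theorem L9642 : sm gh N1098 = N1098 := ded_38_2 (flp_d L9634) (flp_h L6716) L4647 L6716 L9634
theorem L9643 : sm gi N764 = N1099 := rfl
theorem L9645 : sm ga N1099 = N1099 := ded_18_1 (flp_i L9643) L6727 L9643
theorem L9646 : sm gb N1099 = N825 := ded_26_1 (flp_i L7285) (flp_b L6728) L9643
theorem L9648 : sm gc N1099 = N1099 := ded_33_1 (flp_i L9643) L6733 L9643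
theorem L9649 : sm gd N1099 = N765 := ded_39_1 (flp_i L6736) L6725 L9643
theorem L9651 : sm ge N1099 = N1099 := ded_44_1 (flp_i L9643) L6734 L9643
theorem L9652 : sm gg N1099 = N1099 := ded_51_1 (flp_i L9643) L6730 L9643
theorem L9653 : sm gj N1099 = N767 := ded_53_1 (flp_i L6756) (flp_j L6731) L9643
theorem L9655 : sm gh N765 = N1100 := rfl
theorem L9657 : sm ga N1100 = N1100 := ded_17_1 (flp_h L9655) L6738 L9655
theorem L9658 : sm gb N1100 = N826 := ded_25_1 (flp_h L7295) (flp_b L6739) L9655
theorem L9660 : sm ge N1100 = N774 := ded_43_1 (flp_h L6820) (flp_e L6741) L9655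
theorem L9662 : sm gg N1100 = N1100 := ded_50_1 (flp_h L9655) L6743 L9655
theorem L9663 : sm gj N1100 = N768 := ded_52_1 (flp_h L6767) (flp_j L6744) L9655
theorem L9665 : sm gi N1100 = N766 := ded_54_2 (flp_h L6746) (flp_i L4662) L4652 L6736 L9655
theorem L9667 : sm gd N766 = N1101 := rfl
theorem L9669 : sm ga N1101 = N1101 := ded_12_1 (flp_d L9667) L6748 L9667
theorem L9670 : sm gb N1101 = N827 := ded_20_1 (flp_d L7307) (flp_b L6749) L9667
theorem L9672 : sm gg N1101 = N1101 := ded_36_2 (flp_d L9667) L6753 L9667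
theorem L9673 : sm gj N1101 = N769 := ded_37_2 (flp_d L6778) (flp_j L6754) L9667
theorem L9675 : sm gh N1101 = N1101 := ded_38_2 (flp_d L9667) (flp_h L6746) L4667 L6746 L9667
theorem L9676 : sm gh N767 = N1102 := rfl
theorem L9678 : sm ga N1102 = N1102 := ded_17_1 (flp_h L9676) L6758 L9676
theorem L9679 : sm gb N1102 = N829 := ded_25_1 (flp_h L7326) (flp_b L6759) L9676
theorem L9681 : sm gc N1102 = N1102 := ded_32_1 (flp_h L9676) L6761 L9676
theorem L9682 : sm ge N1102 = N1102 := ded_43_1 (flp_h L9676) L6764 L9676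
theorem L9683 : sm gg N1102 = N770 := ded_50_1 (flp_h L6786) (flp_g L6765) L9676
theorem L9685 : sm gi N1102 = N1102 := ded_54_2 (flp_h L9676) (flp_i L6756) L4682 L6756 L9676
theorem L9686 : sm gd N768 = N1103 := rfl
theorem L9688 : sm ga N1103 = N1103 := ded_12_1 (flp_d L9686) L6769 L9686
theorem L9689 : sm gb N1103 = N830 := ded_20_1 (flp_d L7334) (flp_b L6770) L9686
theorem L9691 : sm gg N1103 = N771 := ded_36_2 (flp_d L6796) (flp_g L6774) L9686
theorem L9693 : sm gi N1103 = N769 := ded_39_2 (flp_d L6778) (flp_i L6776) L9686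
theorem L9695 : sm gc N769 = N1104 := rfl
theorem L9697 : sm ga N1104 = N1104 := ded_11_1 (flp_c L9695) L6780 L9695
theorem L9698 : sm gg N1104 = N772 := ded_30_2 (flp_c L6805) (flp_g L6783) L9695
theorem L9700 : sm gh N1104 = N1104 := ded_32_2 (flp_c L9695) L6785 L9695
theorem L9701 : sm ge N769 = N1105 := rfl
theorem L9703 : sm ga N1105 = N1105 := ded_13_1 (flp_e L9701) L6780 L9701
theorem L9704 : sm gb N1105 = N832 := ded_21_1 (flp_e L7350) (flp_b L6781) L9701
theorem L9706 : sm gg N1105 = N773 := ded_41_2 (flp_e L6811) (flp_g L6783) L9701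
theorem L9708 : sm gh N1105 = N1105 := ded_43_2 (flp_e L9701) L6785 L9701
theorem L9709 : sm gd N1105 = N778 := ded_34_1 (flp_e L6861) (flp_d L4760) (flp_e L4697) L6778 L9701
theorem L9711 : sm gd N770 = N1106 := rfl
theorem L9713 : sm ga N1106 = N1106 := ded_12_1 (flp_d L9711) L6788 L9711
theorem L9714 : sm gb N1106 = N834 := ded_20_1 (flp_d L7370) (flp_b L6789) L9711
theorem L9716 : sm gf N1106 = N1106 := ded_35_2 (flp_d L9711) L6793 L9711
theorem L9717 : sm gj N1106 = N1106 := ded_37_2 (flp_d L9711) L6794 L9711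
theorem L9718 : sm gi N1106 = N1106 := ded_39_2 (flp_d L9711) L6795 L9711
theorem L9719 : sm gh N1106 = N771 := ded_38_2 (flp_d L6796) (flp_h L4712) (flp_d L4707) L6786 L9711
theorem L9721 : sm gc N771 = N1107 := rfl
theorem L9723 : sm ga N1107 = N1107 := ded_11_1 (flp_c L9721) L6798 L9721
theorem L9724 : sm gf N1107 = N1107 := ded_29_2 (flp_c L9721) L6801 L9721
theorem L9725 : sm gj N1107 = N1107 := ded_31_2 (flp_c L9721) L6802 L9721
theorem L9726 : sm gi N1107 = N772 := ded_33_2 (flp_c L6805) (flp_i L6803) L9721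
theorem L9728 : sm ge N771 = N1108 := rfl
theorem L9730 : sm ga N1108 = N1108 := ded_13_1 (flp_e L9728) L6798 L9728
theorem L9731 : sm gb N1108 = N836 := ded_21_1 (flp_e L7388) (flp_b L6799) L9728
theorem L9733 : sm gj N1108 = N1108 := ded_42_2 (flp_e L9728) L6802 L9728
theorem L9734 : sm gi N1108 = N773 := ded_44_2 (flp_e L6811) (flp_i L6803) L9728
theorem L9736 : sm gd N1108 = N780 := ded_34_1 (flp_e L6879) (flp_d L4770) (flp_e L4717) L6796 L9728
theorem L9738 : sm gb N772 = N1109 := rfl
theorem L9740 : sm gf N1109 = N1109 := ded_22_2 (flp_b L9738) L6808 L9738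
theorem L9741 : sm gj N1109 = N1109 := ded_24_2 (flp_b L9738) L6809 L9738
theorem L9742 : sm gh N1109 = N1109 := ded_25_2 (flp_b L9738) L6810 L9738
theorem L9743 : sm gc N1109 = N837 := ded_19_2 (flp_b L7397) (flp_c L5123) (flp_b L4726) L6805 L9738
theorem L9745 : sm ge N772 = N1110 := rfl
theorem L9747 : sm ga N1110 = N1110 := ded_13_1 (flp_e L9745) L6807 L9745
theorem L9748 : sm gc N1110 = N773 := ded_28_1 (flp_e L6811) L6805 L9745
theorem L9750 : sm gj N1110 = N1110 := ded_42_2 (flp_e L9745) L6809 L9745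
theorem L9751 : sm gh N1110 = N1110 := ded_43_2 (flp_e L9745) L6810 L9745
theorem L9752 : sm gf N773 = N1111 := rfl
theorem L9754 : sm ga N1111 = N1111 := ded_14_1 (flp_f L9752) L6813 L9752
theorem L9755 : sm gb N1111 = N839 := ded_22_1 (flp_f L7411) (flp_b L6814) L9752
theorem L9757 : sm gd N1111 = N783 := ded_35_1 (flp_f L6905) (flp_d L6818) L9752
theorem L9759 : sm gj N1111 = N1111 := ded_46_2 (flp_f L9752) L6816 L9752
theorem L9760 : sm gh N1111 = N1111 := ded_47_2 (flp_f L9752) L6817 L9752
theorem L9761 : sm ge N1111 = N1111 := ded_40_1 (flp_f L9752) (flp_e L6811) L4728 L6811 L9752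
theorem L9762 : sm gd N774 = N1112 := rfl
theorem L9764 : sm ga N1112 = N1112 := ded_12_1 (flp_d L9762) L6822 L9762
theorem L9765 : sm gb N1112 = N840 := ded_20_1 (flp_d L7420) (flp_b L6823) L9762
theorem L9767 : sm gf N1112 = N1112 := ded_35_2 (flp_d L9762) L6825 L9762
theorem L9768 : sm gg N1112 = N1112 := ded_36_2 (flp_d L9762) L6826 L9762
theorem L9769 : sm gj N1112 = N776 := ded_37_2 (flp_d L6842) (flp_j L6827) L9762
theorem L9771 : sm gi N1112 = N775 := ded_39_2 (flp_d L6831) (flp_i L6829) L9762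
theorem L9773 : sm gh N1112 = N1112 := ded_38_2 (flp_d L9762) (flp_h L6820) L4736 L6820 L9762
theorem L9774 : sm gc N775 = N1113 := rfl
theorem L9776 : sm ga N1113 = N1113 := ded_11_1 (flp_c L9774) L6833 L9774
theorem L9777 : sm gf N1113 = N1113 := ded_29_2 (flp_c L9774) L6836 L9774
theorem L9778 : sm gg N1113 = N1113 := ded_30_2 (flp_c L9774) L6837 L9774
theorem L9779 : sm gj N1113 = N777 := ded_31_2 (flp_c L6853) (flp_j L6838) L9774
theorem L9781 : sm gh N1113 = N792 := ded_32_2 (flp_c L6986) (flp_h L6840) L9774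
theorem L9783 : sm ge N775 = N1114 := rfl
theorem L9785 : sm ga N1114 = N1114 := ded_13_1 (flp_e L9783) L6833 L9783
theorem L9786 : sm gb N1114 = N842 := ded_21_1 (flp_e L7442) (flp_b L6834) L9783
theorem L9788 : sm gg N1114 = N1114 := ded_41_2 (flp_e L9783) L6837 L9783
theorem L9789 : sm gj N1114 = N778 := ded_42_2 (flp_e L6861) (flp_j L6838) L9783
theorem L9791 : sm gh N1114 = N793 := ded_43_2 (flp_e L6995) (flp_h L6840) L9783
theorem L9793 : sm gc N776 = N1115 := rfl
theorem L9795 : sm ga N1115 = N1115 := ded_11_1 (flp_c L9793) L6844 L9793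
theorem L9796 : sm gf N1115 = N1115 := ded_29_2 (flp_c L9793) L6847 L9793
theorem L9797 : sm gg N1115 = N779 := ded_30_2 (flp_c L6870) (flp_g L6848) L9793
theorem L9799 : sm gh N1115 = N1115 := ded_32_2 (flp_c L9793) L6852 L9793
theorem L9800 : sm gi N1115 = N777 := ded_33_2 (flp_c L6853) (flp_i L6850) L9793
theorem L9802 : sm ge N776 = N1116 := rfl
theorem L9804 : sm ga N1116 = N1116 := ded_13_1 (flp_e L9802) L6844 L9802
theorem L9805 : sm gb N1116 = N844 := ded_21_1 (flp_e L7462) (flp_b L6845) L9802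
theorem L9807 : sm gg N1116 = N780 := ded_41_2 (flp_e L6879) (flp_g L6848) L9802
theorem L9809 : sm gh N1116 = N1116 := ded_43_2 (flp_e L9802) L6852 L9802
theorem L9810 : sm gi N1116 = N778 := ded_44_2 (flp_e L6861) (flp_i L6850) L9802
theorem L9812 : sm gb N777 = N1117 := rfl
theorem L9814 : sm gf N1117 = N1117 := ded_22_2 (flp_b L9812) L6856 L9812
theorem L9815 : sm gg N1117 = N781 := ded_23_2 (flp_b L6888) (flp_g L6857) L9812
theorem L9817 : sm gh N1117 = N794 := ded_25_2 (flp_b L7005) (flp_h L6859) L9812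
theorem L9819 : sm gc N1117 = N845 := ded_19_2 (flp_b L7471) (flp_c L5170) (flp_b L4763) L6853 L9812
theorem L9821 : sm ge N777 = N1118 := rfl
theorem L9823 : sm ga N1118 = N1118 := ded_13_1 (flp_e L9821) L6855 L9821
theorem L9824 : sm gc N1118 = N778 := ded_28_1 (flp_e L6861) L6853 L9821
theorem L9826 : sm gg N1118 = N782 := ded_41_2 (flp_e L6897) (flp_g L6857) L9821
theorem L9828 : sm gh N1118 = N795 := ded_43_2 (flp_e L7014) (flp_h L6859) L9821
theorem L9830 : sm gf N778 = N1119 := rfl
theorem L9832 : sm ga N1119 = N1119 := ded_14_1 (flp_f L9830) L6863 L9830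
theorem L9833 : sm gb N1119 = N847 := ded_22_1 (flp_f L7489) (flp_b L6864) L9830
theorem L9835 : sm gh N1119 = N796 := ded_47_2 (flp_f L7022) (flp_h L6868) L9830
theorem L9837 : sm ge N1119 = N1119 := ded_40_1 (flp_f L9830) (flp_e L6861) L4765 L6861 L9830
theorem L9838 : sm gb N779 = N1120 := rfl
theorem L9840 : sm gf N1120 = N784 := ded_22_2 (flp_b L6915) (flp_f L6873) L9838
theorem L9842 : sm gj N1120 = N1120 := ded_24_2 (flp_b L9838) L6875 L9838
theorem L9843 : sm gh N1120 = N1120 := ded_25_2 (flp_b L9838) L6876 L9838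
theorem L9844 : sm gi N1120 = N781 := ded_26_2 (flp_b L6888) (flp_i L6877) L9838
theorem L9846 : sm gc N1120 = N848 := ded_19_2 (flp_b L7496) (flp_c L5188) (flp_b L4773) L6870 L9838
theorem L9848 : sm ge N779 = N1121 := rfl
theorem L9850 : sm ga N1121 = N1121 := ded_13_1 (flp_e L9848) L6872 L9848
theorem L9851 : sm gc N1121 = N780 := ded_28_1 (flp_e L6879) L6870 L9848
theorem L9853 : sm gj N1121 = N1121 := ded_42_2 (flp_e L9848) L6875 L9848
theorem L9854 : sm gh N1121 = N1121 := ded_43_2 (flp_e L9848) L6876 L9848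
theorem L9855 : sm gi N1121 = N782 := ded_44_2 (flp_e L6897) (flp_i L6877) L9848
theorem L9857 : sm gf N780 = N1122 := rfl
theorem L9859 : sm ga N1122 = N1122 := ded_14_1 (flp_f L9857) L6881 L9857
theorem L9860 : sm gb N1122 = N850 := ded_22_1 (flp_f L7515) (flp_b L6882) L9857
theorem L9862 : sm gj N1122 = N1122 := ded_46_2 (flp_f L9857) L6884 L9857
theorem L9863 : sm gh N1122 = N1122 := ded_47_2 (flp_f L9857) L6885 L9857
theorem L9864 : sm gi N1122 = N783 := ded_48_2 (flp_f L6905) (flp_i L6886) L9857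
theorem L9866 : sm ge N1122 = N786 := ded_40_1 (flp_f L6934) (flp_e L4805) (flp_f L4775) L6879 L9857
theorem L9868 : sm ga N781 = N1123 := rfl
theorem L9870 : sm gc N1123 = N851 := ded_11_2 (flp_a L7525) (flp_c L6895) L9868
theorem L9872 : sm gf N1123 = N787 := ded_14_2 (flp_a L6944) (flp_f L6890) L9868
theorem L9874 : sm gj N1123 = N1123 := ded_16_2 (flp_a L9868) L6892 L9868
theorem L9875 : sm gh N1123 = N797 := ded_17_2 (flp_a L7030) (flp_h L6893) L9868
theorem L9877 : sm gb N1123 = N1123 := ded_10_2 (flp_a L9868) (flp_b L6888) L4783 L6888 L9868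
theorem L9878 : sm ge N781 = N1124 := rfl
theorem L9880 : sm gb N1124 = N782 := ded_21_1 (flp_e L6897) L6888 L9878
theorem L9882 : sm gc N1124 = N852 := ded_28_1 (flp_e L7535) (flp_c L6895) L9878
theorem L9884 : sm gj N1124 = N1124 := ded_42_2 (flp_e L9878) L6892 L9878
theorem L9885 : sm gh N1124 = N798 := ded_43_2 (flp_e L7040) (flp_h L6893) L9878
theorem L9887 : sm gd N782 = N1125 := rfl
theorem L9889 : sm ga N1125 = N1125 := ded_12_1 (flp_d L9887) L6899 L9887
theorem L9890 : sm gj N1125 = N1125 := ded_37_2 (flp_d L9887) L6902 L9887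
theorem L9891 : sm gf N782 = N1126 := rfl
theorem L9893 : sm ga N1126 = N1126 := ded_14_1 (flp_f L9891) L6899 L9891
theorem L9894 : sm gc N1126 = N783 := ded_29_1 (flp_f L6905) (flp_c L6900) L9891
theorem L9896 : sm gj N1126 = N1126 := ded_46_2 (flp_f L9891) L6902 L9891
theorem L9897 : sm gh N1126 = N800 := ded_47_2 (flp_f L7055) (flp_h L6903) L9891
theorem L9899 : sm ge N1126 = N790 := ded_40_1 (flp_f L6969) (flp_e L4824) (flp_f L4784) L6897 L9891
theorem L9901 : sm gg N783 = N1127 := rfl
theorem L9903 : sm ga N1127 = N1127 := ded_15_1 (flp_g L9901) L6907 L9901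
theorem L9904 : sm gb N1127 = N855 := ded_23_1 (flp_g L7559) (flp_b L6908) L9901
theorem L9906 : sm ge N1127 = N791 := ded_41_1 (flp_g L6977) (flp_e L6913) L9901
theorem L9908 : sm gh N1127 = N801 := ded_50_2 (flp_g L7064) (flp_h L6911) L9901
theorem L9910 : sm ga N784 = N1128 := rfl
theorem L9912 : sm gc N1128 = N856 := ded_11_2 (flp_a L7567) (flp_c L6922) L9910
theorem L9914 : sm gg N1128 = N1128 := ded_15_2 (flp_a L9910) L6917 L9910
theorem L9915 : sm gj N1128 = N1128 := ded_16_2 (flp_a L9910) L6918 L9910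
theorem L9916 : sm gh N1128 = N1128 := ded_17_2 (flp_a L9910) L6919 L9910
theorem L9917 : sm gi N1128 = N787 := ded_18_2 (flp_a L6944) (flp_i L6920) L9910
theorem L9919 : sm gb N1128 = N1128 := ded_10_2 (flp_a L9910) (flp_b L6915) L4799 L6915 L9910
theorem L9920 : sm ge N784 = N1129 := rfl
theorem L9922 : sm gb N1129 = N785 := ded_21_1 (flp_e L6924) L6915 L9920
theorem L9924 : sm gc N1129 = N857 := ded_28_1 (flp_e L7577) (flp_c L6922) L9920
theorem L9926 : sm gg N1129 = N1129 := ded_41_2 (flp_e L9920) L6917 L9920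
theorem L9927 : sm gj N1129 = N1129 := ded_42_2 (flp_e L9920) L6918 L9920
theorem L9928 : sm gh N1129 = N1129 := ded_43_2 (flp_e L9920) L6919 L9920
theorem L9929 : sm gi N1129 = N788 := ded_44_2 (flp_e L6953) (flp_i L6920) L9920
theorem L9931 : sm gd N785 = N1130 := rfl
theorem L9933 : sm ga N1130 = N1130 := ded_12_1 (flp_d L9931) L6926 L9931
theorem L9934 : sm gg N1130 = N1130 := ded_36_2 (flp_d L9931) L6929 L9931
theorem L9935 : sm gj N1130 = N1130 := ded_37_2 (flp_d L9931) L6930 L9931
theorem L9936 : sm gi N1130 = N789 := ded_39_2 (flp_d L6963) (flp_i L6932) L9931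
theorem L9938 : sm gc N1130 = N1130 := ded_27_1 (flp_d L9931) L6927 L4815 (flp_c L6927) L9931
theorem L9939 : sm gf N785 = N1131 := rfl
theorem L9941 : sm ga N1131 = N1131 := ded_14_1 (flp_f L9939) L6926 L9939
theorem L9942 : sm gc N1131 = N786 := ded_29_1 (flp_f L6934) (flp_c L6927) L9939
theorem L9944 : sm gj N1131 = N1131 := ded_46_2 (flp_f L9939) L6930 L9939
theorem L9945 : sm gh N1131 = N1131 := ded_47_2 (flp_f L9939) L6931 L9939
theorem L9946 : sm gi N1131 = N790 := ded_48_2 (flp_f L6969) (flp_i L6932) L9939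
theorem L9948 : sm gg N786 = N1132 := rfl
theorem L9950 : sm ga N1132 = N1132 := ded_15_1 (flp_g L9948) L6936 L9948
theorem L9951 : sm gb N1132 = N860 := ded_23_1 (flp_g L7606) (flp_b L6937) L9948
theorem L9953 : sm gd N1132 = N1132 := ded_36_1 (flp_g L9948) L6939 L9948
theorem L9954 : sm gh N1132 = N1132 := ded_50_2 (flp_g L9948) L6941 L9948
theorem L9955 : sm gi N1132 = N791 := ded_51_2 (flp_g L6977) (flp_i L6942) L9948
theorem L9957 : sm gf N1132 = N1132 := ded_45_1 (flp_g L9948) (flp_f L6934) L4810 L6934 L9948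
theorem L9958 : sm ge N787 = N1133 := rfl
theorem L9960 : sm ga N1133 = N788 := ded_13_1 (flp_e L6953) L6944 L9958
theorem L9962 : sm gb N1133 = N1133 := ded_21_1 (flp_e L9958) L6952 L9958
theorem L9963 : sm gc N1133 = N861 := ded_28_1 (flp_e L7615) (flp_c L6946) L9958
theorem L9965 : sm gg N1133 = N1133 := ded_41_2 (flp_e L9958) L6948 L9958
theorem L9966 : sm gj N1133 = N1133 := ded_42_2 (flp_e L9958) L6949 L9958
theorem L9967 : sm gh N1133 = N802 := ded_43_2 (flp_e L7073) (flp_h L6950) L9958
theorem L9969 : sm gd N788 = N1134 := rfl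
theorem L9971 : sm gb N1134 = N789 := ded_20_1 (flp_d L6963) (flp_b L6955) L9969
theorem L9973 : sm gg N1134 = N1134 := ded_36_2 (flp_d L9969) L6959 L9969
theorem L9974 : sm gj N1134 = N1134 := ded_37_2 (flp_d L9969) L6960 L9969
theorem L9975 : sm gf N788 = N1135 := rfl
theorem L9977 : sm gb N1135 = N790 := ded_22_1 (flp_f L6969) (flp_b L6955) L9975
theorem L9979 : sm gc N1135 = N863 := ded_29_1 (flp_f L7633) (flp_c L6957) L9975
theorem L9981 : sm gj N1135 = N1135 := ded_46_2 (flp_f L9975) L6960 L9975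
theorem L9982 : sm gh N1135 = N804 := ded_47_2 (flp_f L7092) (flp_h L6961) L9975
theorem L9984 : sm gf N789 = N1136 := rfl
theorem L9986 : sm ga N1136 = N1136 := ded_14_1 (flp_f L9984) L6965 L9984
theorem L9987 : sm gc N1136 = N1136 := ded_29_1 (flp_f L9984) L6968 L9984
theorem L9988 : sm gd N1136 = N790 := ded_35_1 (flp_f L6969) L6963 L9984
theorem L9990 : sm gj N1136 = N1136 := ded_46_2 (flp_f L9984) L6967 L9984
theorem L9991 : sm gh N789 = N1137 := rfl
theorem L9993 : sm ga N1137 = N1137 := ded_17_1 (flp_h L9991) L6965 L9991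
theorem L9994 : sm gc N1137 = N1137 := ded_32_1 (flp_h L9991) L6968 L9991
theorem L9995 : sm gg N1137 = N1137 := ded_50_1 (flp_h L9991) L6966 L9991
theorem L9996 : sm gj N1137 = N1137 := ded_52_1 (flp_h L9991) L6967 L9991
theorem L9997 : sm gd N1137 = N806 := ded_38_1 (flp_h L7109) (flp_d L4913) (flp_h L4831) L6963 L9991
theorem L9999 : sm gg N790 = N1138 := rfl
theorem L10001 : sm ga N1138 = N1138 := ded_15_1 (flp_g L9999) L6971 L9999
theorem L10002 : sm gc N1138 = N791 := ded_30_1 (flp_g L6977) (flp_c L6972) L9999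
theorem L10004 : sm gh N1138 = N807 := ded_50_2 (flp_g L7117) (flp_h L6975) L9999
theorem L10006 : sm gf N1138 = N1138 := ded_45_1 (flp_g L9999) (flp_f L6969) L4829 L6969 L9999
theorem L10007 : sm gj N791 = N1139 := rfl
theorem L10009 : sm ga N1139 = N1139 := ded_16_1 (flp_j L10007) L6979 L10007
theorem L10010 : sm gb N1139 = N866 := ded_24_1 (flp_j L7658) (flp_b L6980) L10007
theorem L10012 : sm gd N1139 = N1139 := ded_37_1 (flp_j L10007) L6982 L10007
theorem L10013 : sm gf N1139 = N1139 := ded_46_1 (flp_j L10007) L6985 L10007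
theorem L10014 : sm gh N1139 = N808 := ded_52_2 (flp_j L7124) (flp_h L6983) L10007
theorem L10016 : sm gg N1139 = N1139 := ded_49_1 (flp_j L10007) (flp_g L6977) L4839 L6977 L10007
theorem L10017 : sm gb N792 = N1140 := rfl
theorem L10019 : sm gd N1140 = N1140 := ded_20_2 (flp_b L10017) L6994 L10017
theorem L10020 : sm gf N1140 = N1140 := ded_22_2 (flp_b L10017) L6989 L10017
theorem L10021 : sm gg N1140 = N1140 := ded_23_2 (flp_b L10017) L6990 L10017
theorem L10022 : sm gj N1140 = N794 := ded_24_2 (flp_b L7005) (flp_j L6991) L10017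
theorem L10024 : sm gi N1140 = N1140 := ded_26_2 (flp_b L10017) L6993 L10017
theorem L10025 : sm gc N1140 = N867 := ded_19_2 (flp_b L7667) (flp_c L5304) (flp_b L4845) L6986 L10017
theorem L10027 : sm ge N792 = N1141 := rfl
theorem L10029 : sm ga N1141 = N1141 := ded_13_1 (flp_e L10027) L6988 L10027
theorem L10030 : sm gc N1141 = N793 := ded_28_1 (flp_e L6995) L6986 L10027
theorem L10032 : sm gg N1141 = N1141 := ded_41_2 (flp_e L10027) L6990 L10027
theorem L10033 : sm gj N1141 = N795 := ded_42_2 (flp_e L7014) (flp_j L6991) L10027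
theorem L10035 : sm gi N1141 = N1141 := ded_44_2 (flp_e L10027) L6993 L10027
theorem L10036 : sm gf N793 = N1142 := rfl
theorem L10038 : sm ga N1142 = N1142 := ded_14_1 (flp_f L10036) L6997 L10036
theorem L10039 : sm gb N1142 = N869 := ded_22_1 (flp_f L7686) (flp_b L6998) L10036
theorem L10041 : sm gd N1142 = N1142 := ded_35_1 (flp_f L10036) L7004 L10036
theorem L10042 : sm gj N1142 = N796 := ded_46_2 (flp_f L7022) (flp_j L7001) L10036
theorem L10044 : sm gi N1142 = N1142 := ded_48_2 (flp_f L10036) L7003 L10036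
theorem L10045 : sm ge N1142 = N1142 := ded_40_1 (flp_f L10036) (flp_e L6995) L4847 L6995 L10036
theorem L10046 : sm ga N794 = N1143 := rfl
theorem L10048 : sm gc N1143 = N870 := ded_11_2 (flp_a L7695) (flp_c L7012) L10046
theorem L10050 : sm gd N1143 = N1143 := ded_12_2 (flp_a L10046) L7007 L10046
theorem L10051 : sm gf N1143 = N1143 := ded_14_2 (flp_a L10046) L7008 L10046
theorem L10052 : sm gg N1143 = N797 := ded_15_2 (flp_a L7030) (flp_g L7009) L10046
theorem L10054 : sm gi N1143 = N1143 := ded_18_2 (flp_a L10046) L7011 L10046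
theorem L10055 : sm gb N1143 = N1143 := ded_10_2 (flp_a L10046) (flp_b L7005) L4854 L7005 L10046
theorem L10056 : sm ge N794 = N1144 := rfl
theorem L10058 : sm gb N1144 = N795 := ded_21_1 (flp_e L7014) L7005 L10056
theorem L10060 : sm gc N1144 = N871 := ded_28_1 (flp_e L7705) (flp_c L7012) L10056
theorem L10062 : sm gg N1144 = N798 := ded_41_2 (flp_e L7040) (flp_g L7009) L10056
theorem L10064 : sm gi N1144 = N1144 := ded_44_2 (flp_e L10056) L7011 L10056
theorem L10065 : sm gd N795 = N1145 := rfl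
theorem L10067 : sm ga N1145 = N1145 := ded_12_1 (flp_d L10065) L7016 L10065
theorem L10068 : sm gg N1145 = N799 := ded_36_2 (flp_d L7048) (flp_g L7019) L10065
theorem L10070 : sm gi N1145 = N1145 := ded_39_2 (flp_d L10065) L7021 L10065
theorem L10071 : sm gc N1145 = N1145 := ded_27_1 (flp_d L10065) L7017 L4868 (flp_c L7017) L10065
theorem L10072 : sm ge N1145 = N1145 := ded_34_2 (flp_d L10065) (flp_e L7014) L4859 L7014 L10065
theorem L10073 : sm gf N795 = N1146 := rfl
theorem L10075 : sm ga N1146 = N1146 := ded_14_1 (flp_f L10073) L7016 L10073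
theorem L10076 : sm gc N1146 = N796 := ded_29_1 (flp_f L7022) (flp_c L7017) L10073
theorem L10078 : sm gi N1146 = N1146 := ded_48_2 (flp_f L10073) L7021 L10073
theorem L10079 : sm ge N1146 = N1146 := ded_40_1 (flp_f L10073) (flp_e L7014) L4855 L7014 L10073
theorem L10080 : sm gg N796 = N1147 := rfl
theorem L10082 : sm ga N1147 = N1147 := ded_15_1 (flp_g L10080) L7024 L10080
theorem L10083 : sm gb N1147 = N874 := ded_23_1 (flp_g L7730) (flp_b L7025) L10080
theorem L10085 : sm gd N1147 = N1147 := ded_36_1 (flp_g L10080) L7027 L10080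
theorem L10086 : sm ge N1147 = N1147 := ded_41_1 (flp_g L10080) L7029 L10080
theorem L10087 : sm gi N1147 = N1147 := ded_51_2 (flp_g L10080) L7028 L10080
theorem L10088 : sm gf N1147 = N801 := ded_45_1 (flp_g L7064) (flp_f L4885) (flp_g L4865) L7022 L10080
theorem L10090 : sm ge N797 = N1148 := rfl
theorem L10092 : sm ga N1148 = N798 := ded_13_1 (flp_e L7040) L7030 L10090
theorem L10094 : sm gb N1148 = N1148 := ded_21_1 (flp_e L10090) L7039 L10090
theorem L10095 : sm gc N1148 = N875 := ded_28_1 (flp_e L7739) (flp_c L7032) L10090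
theorem L10097 : sm gj N1148 = N1148 := ded_42_2 (flp_e L10090) L7037 L10090
theorem L10098 : sm gi N1148 = N1148 := ded_44_2 (flp_e L10090) L7038 L10090
theorem L10099 : sm gd N798 = N1149 := rfl
theorem L10101 : sm gb N1149 = N799 := ded_20_1 (flp_d L7048) (flp_b L7042) L10099
theorem L10103 : sm gj N1149 = N1149 := ded_37_2 (flp_d L10099) L7046 L10099
theorem L10104 : sm gi N1149 = N1149 := ded_39_2 (flp_d L10099) L7047 L10099
theorem L10105 : sm ge N1149 = N1149 := ded_34_2 (flp_d L10099) (flp_e L7040) L4871 L7040 L10099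
theorem L10106 : sm gf N798 = N1150 := rfl
theorem L10108 : sm gb N1150 = N800 := ded_22_1 (flp_f L7055) (flp_b L7042) L10106
theorem L10110 : sm gc N1150 = N877 := ded_29_1 (flp_f L7755) (flp_c L7044) L10106
theorem L10112 : sm gj N1150 = N1150 := ded_46_2 (flp_f L10106) L7046 L10106
theorem L10113 : sm gi N1150 = N1150 := ded_48_2 (flp_f L10106) L7047 L10106
theorem L10114 : sm ge N1150 = N804 := ded_40_1 (flp_f L7092) (flp_e L4904) (flp_f L4872) L7040 L10106
theorem L10116 : sm gf N799 = N1151 := rfl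
theorem L10118 : sm ga N1151 = N1151 := ded_14_1 (flp_f L10116) L7050 L10116
theorem L10119 : sm gc N1151 = N1151 := ded_29_1 (flp_f L10116) L7053 L10116
theorem L10120 : sm gd N1151 = N800 := ded_35_1 (flp_f L7055) L7048 L10116
theorem L10122 : sm gj N1151 = N1151 := ded_46_2 (flp_f L10116) L7051 L10116
theorem L10123 : sm gi N1151 = N1151 := ded_48_2 (flp_f L10116) L7052 L10116
theorem L10124 : sm gh N799 = N1152 := rfl
theorem L10126 : sm ga N1152 = N1152 := ded_17_1 (flp_h L10124) L7050 L10124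
theorem L10127 : sm gc N1152 = N1152 := ded_32_1 (flp_h L10124) L7053 L10124
theorem L10128 : sm ge N1152 = N1152 := ded_43_1 (flp_h L10124) L7054 L10124
theorem L10129 : sm gj N1152 = N1152 := ded_52_1 (flp_h L10124) L7051 L10124
theorem L10130 : sm gg N800 = N1153 := rfl
theorem L10132 : sm ga N1153 = N1153 := ded_15_1 (flp_g L10130) L7057 L10130
theorem L10133 : sm gc N1153 = N801 := ded_30_1 (flp_g L7064) (flp_c L7058) L10130
theorem L10135 : sm ge N1153 = N807 := ded_41_1 (flp_g L7117) (flp_e L7062) L10130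
theorem L10137 : sm gi N1153 = N1153 := ded_51_2 (flp_g L10130) L7061 L10130
theorem L10138 : sm gj N801 = N1154 := rfl
theorem L10140 : sm ga N1154 = N1154 := ded_16_1 (flp_j L10138) L7066 L10138
theorem L10141 : sm gb N1154 = N881 := ded_24_1 (flp_j L7790) (flp_b L7067) L10138
theorem L10143 : sm gd N1154 = N1154 := ded_37_1 (flp_j L10138) L7069 L10138
theorem L10144 : sm ge N1154 = N808 := ded_42_1 (flp_j L7124) (flp_e L7070) L10138
theorem L10146 : sm gi N1154 = N1154 := ded_53_2 (flp_j L10138) L7072 L10138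
theorem L10147 : sm gg N1154 = N1154 := ded_49_1 (flp_j L10138) (flp_g L7064) L4891 L7064 L10138
theorem L10148 : sm gd N802 = N1155 := rfl
theorem L10150 : sm ga N1155 = N803 := ded_12_1 (flp_d L7083) (flp_a L7075) L10148
theorem L10152 : sm gb N1155 = N1155 := ded_20_1 (flp_d L10148) L7077 L10148
theorem L10153 : sm gg N1155 = N1155 := ded_36_2 (flp_d L10148) L7080 L10148
theorem L10154 : sm gj N1155 = N1155 := ded_37_2 (flp_d L10148) L7081 L10148
theorem L10155 : sm gi N1155 = N1155 := ded_39_2 (flp_d L10148) L7082 L10148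
theorem L10156 : sm gc N1155 = N1155 := ded_27_1 (flp_d L10148) L7078 L5400 (flp_c L7078) L10148
theorem L10157 : sm ge N1155 = N1155 := ded_34_2 (flp_d L10148) (flp_e L7073) L4899 L7073 L10148
theorem L10158 : sm gf N802 = N1156 := rfl
theorem L10160 : sm ga N1156 = N804 := ded_14_1 (flp_f L7092) (flp_a L7075) L10158
theorem L10162 : sm gb N1156 = N1156 := ded_22_1 (flp_f L10158) L7077 L10158
theorem L10163 : sm gc N1156 = N882 := ded_29_1 (flp_f L7799) (flp_c L7078) L10158
theorem L10165 : sm gj N1156 = N1156 := ded_46_2 (flp_f L10158) L7081 L10158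
theorem L10166 : sm gi N1156 = N1156 := ded_48_2 (flp_f L10158) L7082 L10158
theorem L10167 : sm gf N803 = N1157 := rfl
theorem L10169 : sm gb N1157 = N805 := ded_22_1 (flp_f L7100) (flp_b L7085) L10167
theorem L10171 : sm gc N1157 = N1157 := ded_29_1 (flp_f L10167) L7090 L10167
theorem L10172 : sm gd N1157 = N804 := ded_35_1 (flp_f L7092) L7083 L10167
theorem L10174 : sm gj N1157 = N1157 := ded_46_2 (flp_f L10167) L7088 L10167
theorem L10175 : sm gi N1157 = N1157 := ded_48_2 (flp_f L10167) L7089 L10167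
theorem L10176 : sm gh N803 = N1158 := rfl
theorem L10178 : sm gb N1158 = N806 := ded_25_1 (flp_h L7109) (flp_b L7085) L10176
theorem L10180 : sm gc N1158 = N1158 := ded_32_1 (flp_h L10176) L7090 L10176
theorem L10181 : sm ge N1158 = N1158 := ded_43_1 (flp_h L10176) L7091 L10176
theorem L10182 : sm gg N1158 = N1158 := ded_50_1 (flp_h L10176) L7087 L10176
theorem L10183 : sm gj N1158 = N1158 := ded_52_1 (flp_h L10176) L7088 L10176
theorem L10184 : sm gg N804 = N1159 := rfl
theorem L10186 : sm gb N1159 = N807 := ded_23_1 (flp_g L7117) (flp_b L7094) L10184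
theorem L10188 : sm gc N1159 = N883 := ded_30_1 (flp_g L7808) (flp_c L7096) L10184
theorem L10190 : sm gi N1159 = N1159 := ded_51_2 (flp_g L10184) L7099 L10184
theorem L10191 : sm gf N1159 = N1159 := ded_45_1 (flp_g L10184) (flp_f L7092) L4910 L7092 L10184
theorem L10192 : sm ge N805 = N1160 := rfl
theorem L10194 : sm ga N1160 = N1160 := ded_13_1 (flp_e L10192) L7102 L10192
theorem L10195 : sm gc N1160 = N809 := ded_28_1 (flp_e L7134) (flp_c L7103) L10192
theorem L10197 : sm gj N1160 = N1160 := ded_42_2 (flp_e L10192) L7107 L10192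
theorem L10198 : sm gi N1160 = N1160 := ded_44_2 (flp_e L10192) L7108 L10192
theorem L10199 : sm gf N1160 = N1160 := ded_40_2 (flp_e L10192) (flp_f L7100) L4921 L7100 L10192
theorem L10200 : sm gg N805 = N1161 := rfl
theorem L10202 : sm ga N1161 = N1161 := ded_15_1 (flp_g L10200) L7102 L10200
theorem L10203 : sm gc N1161 = N810 := ded_30_1 (flp_g L7142) (flp_c L7103) L10200
theorem L10205 : sm gd N1161 = N807 := ded_36_1 (flp_g L7117) (flp_d L7105) L10200
theorem L10207 : sm gi N1161 = N1161 := ded_51_2 (flp_g L10200) L7108 L10200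
theorem L10208 : sm gf N1161 = N1161 := ded_45_1 (flp_g L10200) (flp_f L7100) L4916 L7100 L10200
theorem L10209 : sm gh N805 = N1162 := rfl
theorem L10211 : sm ga N1162 = N1162 := ded_17_1 (flp_h L10209) L7102 L10209
theorem L10212 : sm gc N1162 = N811 := ded_32_1 (flp_h L7150) (flp_c L7103) L10209
theorem L10214 : sm gf N1162 = N806 := ded_47_1 (flp_h L7109) L7100 L10209
theorem L10216 : sm gj N1162 = N1162 := ded_52_1 (flp_h L10209) L7107 L10209
theorem L10217 : sm gi N806 = N1163 := rfl
theorem L10219 : sm ga N1163 = N1163 := ded_18_1 (flp_i L10217) L7111 L10217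
theorem L10220 : sm gc N1163 = N812 := ded_33_1 (flp_i L7158) (flp_c L7112) L10217
theorem L10222 : sm ge N1163 = N1163 := ded_44_1 (flp_i L10217) L7114 L10217
theorem L10223 : sm gg N1163 = N1163 := ded_51_1 (flp_i L10217) L7115 L10217
theorem L10224 : sm gj N1163 = N1163 := ded_53_1 (flp_i L10217) L7116 L10217
theorem L10225 : sm gh N1163 = N1163 := ded_54_1 (flp_i L10217) (flp_h L7109) L4918 L7109 L10217
theorem L10226 : sm gj N807 = N1164 := rfl
theorem L10228 : sm ga N1164 = N1164 := ded_16_1 (flp_j L10226) L7119 L10226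
theorem L10229 : sm gc N1164 = N808 := ded_31_1 (flp_j L7124) (flp_c L7120) L10226
theorem L10231 : sm gf N1164 = N1164 := ded_46_1 (flp_j L10226) L7123 L10226
theorem L10232 : sm gi N1164 = N1164 := ded_53_2 (flp_j L10226) L7122 L10226
theorem L10233 : sm gg N1164 = N1164 := ded_49_1 (flp_j L10226) (flp_g L7117) L4927 L7117 L10226
theorem L10234 : sm gg N809 = N1165 := rfl
theorem L10236 : sm ga N1165 = N1165 := ded_15_1 (flp_g L10234) L7136 L10234
theorem L10237 : sm gb N1165 = N1165 := ded_23_1 (flp_g L10234) L7137 L10234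
theorem L10238 : sm gd N1165 = N1165 := ded_36_1 (flp_g L10234) L7140 L10234
theorem L10239 : sm ge N1165 = N810 := ded_41_1 (flp_g L7142) L7134 L10234
theorem L10241 : sm gi N1165 = N1165 := ded_51_2 (flp_g L10234) L7139 L10234
theorem L10242 : sm gh N809 = N1166 := rfl
theorem L10244 : sm ga N1166 = N1166 := ded_17_1 (flp_h L10242) L7136 L10242
theorem L10245 : sm gb N1166 = N1166 := ded_25_1 (flp_h L10242) L7137 L10242
theorem L10246 : sm ge N1166 = N811 := ded_43_1 (flp_h L7150) L7134 L10242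
theorem L10248 : sm gf N1166 = N1166 := ded_47_1 (flp_h L10242) L7141 L10242
theorem L10249 : sm gj N1166 = N1166 := ded_52_1 (flp_h L10242) L7138 L10242
theorem L10250 : sm gj N810 = N1167 := rfl
theorem L10252 : sm ga N1167 = N1167 := ded_16_1 (flp_j L10250) L7144 L10250
theorem L10253 : sm gb N1167 = N1167 := ded_24_1 (flp_j L10250) L7145 L10250
theorem L10254 : sm gd N1167 = N813 := ded_37_1 (flp_j L7167) (flp_d L7146) L10250
theorem L10256 : sm gf N1167 = N1167 := ded_46_1 (flp_j L10250) L7149 L10250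
theorem L10257 : sm gi N1167 = N1167 := ded_53_2 (flp_j L10250) L7148 L10250
theorem L10258 : sm gg N1167 = N1167 := ded_49_1 (flp_j L10250) (flp_g L7142) L4944 L7142 L10250
theorem L10259 : sm gh N810 = N1168 := rfl
theorem L10261 : sm ga N1168 = N1168 := ded_17_1 (flp_h L10259) L7144 L10259
theorem L10262 : sm gb N1168 = N1168 := ded_25_1 (flp_h L10259) L7145 L10259
theorem L10263 : sm gf N1168 = N1168 := ded_47_1 (flp_h L10259) L7149 L10259
theorem L10264 : sm gg N1168 = N811 := ded_50_1 (flp_h L7150) L7142 L10259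
theorem L10266 : sm gd N1168 = N1168 := ded_38_1 (flp_h L10259) L7146 L4961 (flp_d L7146) L10259
theorem L10267 : sm gi N811 = N1169 := rfl
theorem L10269 : sm ga N1169 = N1169 := ded_18_1 (flp_i L10267) L7152 L10267
theorem L10270 : sm gb N1169 = N1169 := ded_26_1 (flp_i L10267) L7153 L10267
theorem L10271 : sm gd N1169 = N1169 := ded_39_1 (flp_i L10267) L7157 L10267
theorem L10272 : sm gf N1169 = N812 := ded_48_1 (flp_i L7158) (flp_f L7154) L10267
theorem L10274 : sm gj N1169 = N1169 := ded_53_1 (flp_i L10267) L7156 L10267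
theorem L10275 : sm gh N1169 = N1169 := ded_54_1 (flp_i L10267) (flp_h L7150) L4945 L7150 L10267
theorem L10276 : sm gd N814 = N1170 := rfl
theorem L10278 : sm ga N1170 = N899 := ded_12_1 (flp_d L7953) (flp_a L7180) L10276
theorem L10280 : sm gf N1170 = N1170 := ded_35_2 (flp_d L10276) L7184 L10276
theorem L10281 : sm gg N1170 = N816 := ded_36_2 (flp_d L7199) (flp_g L7185) L10276
theorem L10283 : sm gj N1170 = N1170 := ded_37_2 (flp_d L10276) L7187 L10276
theorem L10284 : sm gh N1170 = N1170 := ded_38_2 (flp_d L10276) (flp_h L7178) L4979 L7178 L10276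
theorem L10285 : sm gi N814 = N1171 := rfl
theorem L10287 : sm ga N1171 = N900 := ded_18_1 (flp_i L7961) (flp_a L7180) L10285
theorem L10289 : sm gc N1171 = N1171 := ded_33_1 (flp_i L10285) L7182 L10285
theorem L10290 : sm ge N1171 = N1171 := ded_44_1 (flp_i L10285) L7183 L10285
theorem L10291 : sm gf N1171 = N1171 := ded_48_1 (flp_i L10285) L7184 L10285
theorem L10292 : sm gg N1171 = N817 := ded_51_1 (flp_i L7208) (flp_g L7185) L10285
theorem L10294 : sm gj N1171 = N1171 := ded_53_1 (flp_i L10285) L7187 L10285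
theorem L10295 : sm gh N815 = N1172 := rfl
theorem L10297 : sm ga N1172 = N901 := ded_17_1 (flp_h L7970) (flp_a L7190) L10295
theorem L10299 : sm gc N1172 = N1172 := ded_32_1 (flp_h L10295) L7192 L10295
theorem L10300 : sm ge N1172 = N1172 := ded_43_1 (flp_h L10295) L7194 L10295
theorem L10301 : sm gf N1172 = N1172 := ded_47_1 (flp_h L10295) L7195 L10295
theorem L10302 : sm gg N1172 = N818 := ded_50_1 (flp_h L7218) (flp_g L7196) L10295
theorem L10304 : sm gj N1172 = N1172 := ded_52_1 (flp_h L10295) L7198 L10295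
theorem L10305 : sm gc N816 = N1173 := rfl
theorem L10307 : sm ga N1173 = N902 := ded_11_1 (flp_c L7979) (flp_a L7201) L10305
theorem L10309 : sm gf N1173 = N824 := ded_29_2 (flp_c L7274) (flp_f L7203) L10305
theorem L10311 : sm gj N1173 = N819 := ded_31_2 (flp_c L7228) (flp_j L7205) L10305
theorem L10313 : sm gh N1173 = N1173 := ded_32_2 (flp_c L10305) L7207 L10305
theorem L10314 : sm gb N1173 = N1173 := ded_19_1 (flp_c L10305) (flp_b L9574) L9580 L9574 L10305
theorem L10315 : sm gd N1173 = N1173 := ded_27_2 (flp_c L10305) (flp_d L7199) L4987 L7199 L10305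
theorem L10316 : sm ge N816 = N1174 := rfl
theorem L10318 : sm ga N1174 = N903 := ded_13_1 (flp_e L7987) (flp_a L7201) L10316
theorem L10320 : sm gj N1174 = N820 := ded_42_2 (flp_e L7238) (flp_j L7205) L10316
theorem L10322 : sm gh N1174 = N1174 := ded_43_2 (flp_e L10316) L7207 L10316
theorem L10323 : sm gd N1174 = N1174 := ded_34_1 (flp_e L10316) (flp_d L7199) L4988 L7199 L10316
theorem L10324 : sm gf N1174 = N1174 := ded_40_2 (flp_e L10316) L7203 L5037 (flp_f L7203) L10316
theorem L10325 : sm gi N816 = N1175 := rfl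
theorem L10327 : sm ga N1175 = N904 := ded_18_1 (flp_i L7995) (flp_a L7201) L10325
theorem L10329 : sm gd N1175 = N817 := ded_39_1 (flp_i L7208) L7199 L10325
theorem L10331 : sm gf N1175 = N825 := ded_48_1 (flp_i L7285) (flp_f L7203) L10325
theorem L10333 : sm gj N1175 = N821 := ded_53_1 (flp_i L7246) (flp_j L7205) L10325
theorem L10335 : sm gh N817 = N1176 := rfl
theorem L10337 : sm ga N1176 = N905 := ded_17_1 (flp_h L8004) (flp_a L7210) L10335
theorem L10339 : sm gc N1176 = N1176 := ded_32_1 (flp_h L10335) L7212 L10335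
theorem L10340 : sm ge N1176 = N1176 := ded_43_1 (flp_h L10335) L7213 L10335
theorem L10341 : sm gf N1176 = N826 := ded_47_1 (flp_h L7295) (flp_f L7214) L10335
theorem L10343 : sm gj N1176 = N822 := ded_52_1 (flp_h L7255) (flp_j L7216) L10335
theorem L10345 : sm gi N1176 = N818 := ded_54_2 (flp_h L7218) (flp_i L4993) L4983 L7208 L10335
theorem L10347 : sm gd N818 = N1177 := rfl
theorem L10349 : sm ga N1177 = N906 := ded_12_1 (flp_d L8015) (flp_a L7220) L10347
theorem L10351 : sm gf N1177 = N827 := ded_35_2 (flp_d L7307) (flp_f L7224) L10347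
theorem L10353 : sm gj N1177 = N823 := ded_37_2 (flp_d L7266) (flp_j L7226) L10347
theorem L10355 : sm gh N1177 = N1177 := ded_38_2 (flp_d L10347) (flp_h L7218) L4998 L7218 L10347
theorem L10356 : sm ge N819 = N1178 := rfl
theorem L10358 : sm ga N1178 = N908 := ded_13_1 (flp_e L8032) (flp_a L7230) L10356
theorem L10360 : sm gb N1178 = N1178 := ded_21_1 (flp_e L10356) L7236 L10356
theorem L10361 : sm gc N1178 = N820 := ded_28_1 (flp_e L7238) L7228 L10356
theorem L10363 : sm gg N1178 = N1178 := ded_41_2 (flp_e L10356) L7234 L10356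
theorem L10364 : sm gh N1178 = N1178 := ded_43_2 (flp_e L10356) L7235 L10356
theorem L10365 : sm gf N1178 = N1178 := ded_40_2 (flp_e L10356) L7232 L5063 (flp_f L7232) L10356
theorem L10366 : sm gi N819 = N1179 := rfl
theorem L10368 : sm ga N1179 = N909 := ded_18_1 (flp_i L8039) (flp_a L7230) L10366
theorem L10370 : sm gb N1179 = N1179 := ded_26_1 (flp_i L10366) L7236 L10366
theorem L10371 : sm gc N1179 = N821 := ded_33_1 (flp_i L7246) L7228 L10366
theorem L10373 : sm gd N1179 = N1179 := ded_39_1 (flp_i L10366) L7237 L10366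
theorem L10374 : sm gf N1179 = N828 := ded_48_1 (flp_i L7315) (flp_f L7232) L10366
theorem L10376 : sm gg N1179 = N1179 := ded_51_1 (flp_i L10366) L7234 L10366
theorem L10377 : sm gi N820 = N1180 := rfl
theorem L10379 : sm ga N1180 = N910 := ded_18_1 (flp_i L8047) (flp_a L7240) L10377
theorem L10381 : sm gd N1180 = N1180 := ded_39_1 (flp_i L10377) L7244 L10377
theorem L10382 : sm ge N1180 = N821 := ded_44_1 (flp_i L7246) L7238 L10377
theorem L10384 : sm gf N1180 = N1180 := ded_48_1 (flp_i L10377) L7245 L10377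
theorem L10385 : sm gg N1180 = N1180 := ded_51_1 (flp_i L10377) L7242 L10377
theorem L10386 : sm gh N821 = N1181 := rfl
theorem L10388 : sm ga N1181 = N911 := ded_17_1 (flp_h L8055) (flp_a L7248) L10386
theorem L10390 : sm gf N1181 = N829 := ded_47_1 (flp_h L7326) (flp_f L7252) L10386
theorem L10392 : sm gg N1181 = N1181 := ded_50_1 (flp_h L10386) L7254 L10386
theorem L10393 : sm gi N1181 = N1181 := ded_54_2 (flp_h L10386) (flp_i L7246) L5011 L7246 L10386
theorem L10394 : sm gd N822 = N1182 := rfl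
theorem L10396 : sm ga N1182 = N912 := ded_12_1 (flp_d L8062) (flp_a L7257) L10394
theorem L10398 : sm gf N1182 = N830 := ded_35_2 (flp_d L7334) (flp_f L7261) L10394
theorem L10400 : sm gg N1182 = N1182 := ded_36_2 (flp_d L10394) L7263 L10394
theorem L10401 : sm gi N1182 = N823 := ded_39_2 (flp_d L7266) (flp_i L7264) L10394
theorem L10403 : sm gc N823 = N1183 := rfl
theorem L10405 : sm ga N1183 = N913 := ded_11_1 (flp_c L8070) (flp_a L7268) L10403
theorem L10407 : sm gf N1183 = N831 := ded_29_2 (flp_c L7342) (flp_f L7270) L10403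
theorem L10409 : sm gg N1183 = N1183 := ded_30_2 (flp_c L10403) L7272 L10403
theorem L10410 : sm gh N1183 = N1183 := ded_32_2 (flp_c L10403) L7273 L10403
theorem L10411 : sm gd N1183 = N1183 := ded_27_2 (flp_c L10403) (flp_d L7266) L5025 L7266 L10403
theorem L10412 : sm ge N823 = N1184 := rfl
theorem L10414 : sm ga N1184 = N914 := ded_13_1 (flp_e L8077) (flp_a L7268) L10412
theorem L10416 : sm gg N1184 = N1184 := ded_41_2 (flp_e L10412) L7272 L10412
theorem L10417 : sm gh N1184 = N1184 := ded_43_2 (flp_e L10412) L7273 L10412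
theorem L10418 : sm gd N1184 = N1184 := ded_34_1 (flp_e L10412) (flp_d L7266) L5026 L7266 L10412
theorem L10419 : sm gi N824 = N1185 := rfl
theorem L10421 : sm ga N1185 = N916 := ded_18_1 (flp_i L8093) (flp_a L7276) L10419
theorem L10423 : sm gb N1185 = N1185 := ded_26_1 (flp_i L10419) L7283 L10419
theorem L10424 : sm gc N1185 = N825 := ded_33_1 (flp_i L7285) L7274 L10419
theorem L10426 : sm gd N1185 = N1185 := ded_39_1 (flp_i L10419) L7284 L10419
theorem L10427 : sm ge N1185 = N1185 := ded_44_1 (flp_i L10419) L7278 L10419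
theorem L10428 : sm gg N1185 = N1185 := ded_51_1 (flp_i L10419) L7279 L10419
theorem L10429 : sm gj N1185 = N828 := ded_53_1 (flp_i L7315) (flp_j L7280) L10419
theorem L10431 : sm gh N825 = N1186 := rfl
theorem L10433 : sm ga N1186 = N917 := ded_17_1 (flp_h L8102) (flp_a L7287) L10431
theorem L10435 : sm ge N1186 = N1186 := ded_43_1 (flp_h L10431) L7291 L10431
theorem L10436 : sm gg N1186 = N1186 := ded_50_1 (flp_h L10431) L7292 L10431
theorem L10437 : sm gj N1186 = N829 := ded_52_1 (flp_h L7326) (flp_j L7293) L10431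
theorem L10439 : sm gi N1186 = N1186 := ded_54_2 (flp_h L10431) (flp_i L7285) L5038 L7285 L10431
theorem L10440 : sm gd N826 = N1187 := rfl
theorem L10442 : sm ga N1187 = N918 := ded_12_1 (flp_d L8110) (flp_a L7297) L10440
theorem L10444 : sm gg N1187 = N1187 := ded_36_2 (flp_d L10440) L7302 L10440
theorem L10445 : sm gj N1187 = N830 := ded_37_2 (flp_d L7334) (flp_j L7303) L10440
theorem L10447 : sm gi N1187 = N827 := ded_39_2 (flp_d L7307) (flp_i L7305) L10440
theorem L10449 : sm gc N827 = N1188 := rfl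
theorem L10451 : sm ga N1188 = N919 := ded_11_1 (flp_c L8118) (flp_a L7309) L10449
theorem L10453 : sm gg N1188 = N1188 := ded_30_2 (flp_c L10449) L7311 L10449
theorem L10454 : sm gj N1188 = N831 := ded_31_2 (flp_c L7342) (flp_j L7312) L10449
theorem L10456 : sm gh N1188 = N1188 := ded_32_2 (flp_c L10449) L7314 L10449
theorem L10457 : sm gd N1188 = N1188 := ded_27_2 (flp_c L10449) (flp_d L7307) L5053 L7307 L10449
theorem L10458 : sm ge N827 = N1189 := rfl
theorem L10460 : sm ga N1189 = N920 := ded_13_1 (flp_e L8125) (flp_a L7309) L10458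
theorem L10462 : sm gg N1189 = N1189 := ded_41_2 (flp_e L10458) L7311 L10458
theorem L10463 : sm gj N1189 = N832 := ded_42_2 (flp_e L7350) (flp_j L7312) L10458
theorem L10465 : sm gh N1189 = N1189 := ded_43_2 (flp_e L10458) L7314 L10458
theorem L10466 : sm gd N1189 = N842 := ded_34_1 (flp_e L7442) (flp_d L5150) (flp_e L5054) L7307 L10458
theorem L10468 : sm gh N828 = N1190 := rfl
theorem L10470 : sm ga N1190 = N922 := ded_17_1 (flp_h L8144) (flp_a L7317) L10468
theorem L10473 : sm gc N1190 = N829 := ded_32_1 (flp_h L7326) (flp_c L7320) L10468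
theorem L10476 : sm gg N1190 = N833 := ded_50_1 (flp_h L7359) (flp_g L7324) L10468
theorem L10479 : sm gd N829 = N1191 := rfl
theorem L10481 : sm ga N1191 = N923 := ded_12_1 (flp_d L8152) (flp_a L7328) L10479
theorem L10483 : sm gg N1191 = N834 := ded_36_2 (flp_d L7370) (flp_g L7331) L10479
theorem L10485 : sm gi N1191 = N1191 := ded_39_2 (flp_d L10479) L7333 L10479
theorem L10486 : sm gh N1191 = N830 := ded_38_2 (flp_d L7334) (flp_h L5078) (flp_d L5073) L7326 L10479
theorem L10488 : sm gc N830 = N1192 := rfl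
theorem L10490 : sm ga N1192 = N924 := ded_11_1 (flp_c L8160) (flp_a L7336) L10488
theorem L10492 : sm gg N1192 = N835 := ded_30_2 (flp_c L7379) (flp_g L7338) L10488
theorem L10494 : sm gi N1192 = N831 := ded_33_2 (flp_c L7342) (flp_i L7340) L10488
theorem L10496 : sm gd N1192 = N1192 := ded_27_2 (flp_c L10488) (flp_d L7334) L5082 L7334 L10488
theorem L10497 : sm ge N830 = N1193 := rfl
theorem L10499 : sm ga N1193 = N925 := ded_13_1 (flp_e L8167) (flp_a L7336) L10497
theorem L10501 : sm gg N1193 = N836 := ded_41_2 (flp_e L7388) (flp_g L7338) L10497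
theorem L10503 : sm gi N1193 = N832 := ded_44_2 (flp_e L7350) (flp_i L7340) L10497
theorem L10505 : sm gd N1193 = N844 := ded_34_1 (flp_e L7462) (flp_d L5160) (flp_e L5083) L7334 L10497
theorem L10507 : sm gb N831 = N1194 := rfl
theorem L10509 : sm gd N1194 = N1194 := ded_20_2 (flp_b L10507) L7349 L10507
theorem L10510 : sm gg N1194 = N837 := ded_23_2 (flp_b L7397) (flp_g L7346) L10507
theorem L10512 : sm gh N1194 = N1194 := ded_25_2 (flp_b L10507) L7348 L10507
theorem L10513 : sm ge N831 = N1195 := rfl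
theorem L10515 : sm ga N1195 = N927 := ded_13_1 (flp_e L8183) (flp_a L7344) L10513
theorem L10517 : sm gc N1195 = N832 := ded_28_1 (flp_e L7350) L7342 L10513
theorem L10519 : sm gg N1195 = N838 := ded_41_2 (flp_e L7403) (flp_g L7346) L10513
theorem L10521 : sm gh N1195 = N1195 := ded_43_2 (flp_e L10513) L7348 L10513
theorem L10522 : sm gf N832 = N1196 := rfl
theorem L10524 : sm ga N1196 = N928 := ded_14_1 (flp_f L8190) (flp_a L7352) L10522
theorem L10526 : sm gd N1196 = N847 := ded_35_1 (flp_f L7489) (flp_d L7357) L10522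
theorem L10528 : sm gh N1196 = N1196 := ded_47_2 (flp_f L10522) L7356 L10522
theorem L10529 : sm gd N833 = N1197 := rfl
theorem L10531 : sm ga N1197 = N930 := ded_12_1 (flp_d L8206) (flp_a L7361) L10529
theorem L10535 : sm gj N1197 = N1197 := ded_37_2 (flp_d L10529) L7368 L10529
theorem L10538 : sm gc N834 = N1198 := rfl
theorem L10540 : sm ga N1198 = N931 := ded_11_1 (flp_c L8212) (flp_a L7372) L10538
theorem L10543 : sm gj N1198 = N1198 := ded_31_2 (flp_c L10538) L7375 L10538
theorem L10544 : sm gh N1198 = N835 := ded_32_2 (flp_c L7379) (flp_h L7377) L10538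
theorem L10547 : sm ge N834 = N1199 := rfl
theorem L10549 : sm ga N1199 = N932 := ded_13_1 (flp_e L8219) (flp_a L7372) L10547
theorem L10551 : sm gj N1199 = N1199 := ded_42_2 (flp_e L10547) L7375 L10547
theorem L10552 : sm gh N1199 = N836 := ded_43_2 (flp_e L7388) (flp_h L7377) L10547
theorem L10554 : sm gi N1199 = N1199 := ded_44_2 (flp_e L10547) L7376 L10547
theorem L10555 : sm gd N1199 = N1199 := ded_34_1 (flp_e L10547) (flp_d L7370) L5111 L7370 L10547
theorem L10556 : sm gb N835 = N1200 := rfl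
theorem L10558 : sm gd N1200 = N1200 := ded_20_2 (flp_b L10556) L7387 L10556
theorem L10559 : sm gf N1200 = N1200 := ded_22_2 (flp_b L10556) L7383 L10556
theorem L10560 : sm gj N1200 = N1200 := ded_24_2 (flp_b L10556) L7384 L10556
theorem L10561 : sm gi N1200 = N837 := ded_26_2 (flp_b L7397) (flp_i L7385) L10556
theorem L10563 : sm ge N835 = N1201 := rfl
theorem L10565 : sm ga N1201 = N934 := ded_13_1 (flp_e L8235) (flp_a L7381) L10563
theorem L10567 : sm gc N1201 = N836 := ded_28_1 (flp_e L7388) L7379 L10563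
theorem L10569 : sm gj N1201 = N1201 := ded_42_2 (flp_e L10563) L7384 L10563
theorem L10570 : sm gi N1201 = N838 := ded_44_2 (flp_e L7403) (flp_i L7385) L10563
theorem L10572 : sm gf N836 = N1202 := rfl
theorem L10574 : sm ga N1202 = N935 := ded_14_1 (flp_f L8242) (flp_a L7390) L10572
theorem L10576 : sm gd N1202 = N850 := ded_35_1 (flp_f L7515) (flp_d L7395) L10572
theorem L10578 : sm gj N1202 = N1202 := ded_46_2 (flp_f L10572) L7392 L10572
theorem L10579 : sm gi N1202 = N839 := ded_48_2 (flp_f L7411) (flp_i L7393) L10572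
theorem L10581 : sm ge N1202 = N1202 := ded_40_1 (flp_f L10572) (flp_e L7388) L5119 L7388 L10572
theorem L10582 : sm ga N837 = N1203 := rfl
theorem L10584 : sm gd N1203 = N1203 := ded_12_2 (flp_a L10582) L7399 L10582
theorem L10585 : sm gf N1203 = N1203 := ded_14_2 (flp_a L10582) L7400 L10582
theorem L10586 : sm gj N1203 = N1203 := ded_16_2 (flp_a L10582) L7401 L10582
theorem L10587 : sm gh N1203 = N1203 := ded_17_2 (flp_a L10582) L7402 L10582
theorem L10588 : sm gb N1203 = N936 := ded_10_2 (flp_a L8251) (flp_b L5725) (flp_a L5125) L7397 L10582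
theorem L10590 : sm ge N837 = N1204 := rfl
theorem L10592 : sm gb N1204 = N838 := ded_21_1 (flp_e L7403) L7397 L10590
theorem L10594 : sm gj N1204 = N1204 := ded_42_2 (flp_e L10590) L7401 L10590
theorem L10595 : sm gh N1204 = N1204 := ded_43_2 (flp_e L10590) L7402 L10590
theorem L10596 : sm gd N838 = N1205 := rfl
theorem L10598 : sm ga N1205 = N938 := ded_12_1 (flp_d L8265) (flp_a L7405) L10596
theorem L10600 : sm gj N1205 = N1205 := ded_37_2 (flp_d L10596) L7409 L10596
theorem L10601 : sm gc N1205 = N853 := ded_27_1 (flp_d L7542) L5219 (flp_d L5137) (flp_c L7407) L10596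
theorem L10603 : sm ge N1205 = N1205 := ded_34_2 (flp_d L10596) (flp_e L7403) L5130 L7403 L10596
theorem L10604 : sm gf N838 = N1206 := rfl
theorem L10606 : sm ga N1206 = N939 := ded_14_1 (flp_f L8271) (flp_a L7405) L10604
theorem L10608 : sm gc N1206 = N839 := ded_29_1 (flp_f L7411) (flp_c L7407) L10604
theorem L10610 : sm gj N1206 = N1206 := ded_46_2 (flp_f L10604) L7409 L10604
theorem L10611 : sm gh N1206 = N1206 := ded_47_2 (flp_f L10604) L7410 L10604
theorem L10612 : sm ge N1206 = N1206 := ded_40_1 (flp_f L10604) (flp_e L7403) L5127 L7403 L10604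
theorem L10613 : sm gg N839 = N1207 := rfl
theorem L10615 : sm ga N1207 = N940 := ded_15_1 (flp_g L8278) (flp_a L7413) L10613
theorem L10617 : sm gd N1207 = N855 := ded_36_1 (flp_g L7559) (flp_d L7415) L10613
theorem L10619 : sm ge N1207 = N1207 := ded_41_1 (flp_g L10613) L7419 L10613
theorem L10620 : sm gh N1207 = N1207 := ded_50_2 (flp_g L10613) L7418 L10613
theorem L10621 : sm gc N840 = N1208 := rfl
theorem L10623 : sm ga N1208 = N941 := ded_11_1 (flp_c L8285) (flp_a L7422) L10621
theorem L10625 : sm gf N1208 = N1208 := ded_29_2 (flp_c L10621) L7424 L10621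
theorem L10626 : sm gg N1208 = N1208 := ded_30_2 (flp_c L10621) L7425 L10621
theorem L10627 : sm gj N1208 = N843 := ded_31_2 (flp_c L7451) (flp_j L7426) L10621
theorem L10629 : sm gh N1208 = N1208 := ded_32_2 (flp_c L10621) L7430 L10621
theorem L10630 : sm gi N1208 = N841 := ded_33_2 (flp_c L7431) (flp_i L7428) L10621
theorem L10632 : sm gd N1208 = N1208 := ded_27_2 (flp_c L10621) (flp_d L7420) L5143 L7420 L10621
theorem L10633 : sm ge N840 = N1209 := rfl
theorem L10635 : sm ga N1209 = N942 := ded_13_1 (flp_e L8295) (flp_a L7422) L10633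
theorem L10637 : sm gg N1209 = N1209 := ded_41_2 (flp_e L10633) L7425 L10633
theorem L10638 : sm gj N1209 = N844 := ded_42_2 (flp_e L7462) (flp_j L7426) L10633
theorem L10640 : sm gh N1209 = N1209 := ded_43_2 (flp_e L10633) L7430 L10633
theorem L10641 : sm gi N1209 = N842 := ded_44_2 (flp_e L7442) (flp_i L7428) L10633
theorem L10643 : sm gb N841 = N1210 := rfl
theorem L10645 : sm gd N1210 = N1210 := ded_20_2 (flp_b L10643) L7441 L10643
theorem L10646 : sm gf N1210 = N1210 := ded_22_2 (flp_b L10643) L7435 L10643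
theorem L10647 : sm gg N1210 = N1210 := ded_23_2 (flp_b L10643) L7436 L10643
theorem L10648 : sm gj N1210 = N845 := ded_24_2 (flp_b L7471) (flp_j L7437) L10643
theorem L10650 : sm gh N1210 = N867 := ded_25_2 (flp_b L7667) (flp_h L7439) L10643
theorem L10652 : sm ge N841 = N1211 := rfl
theorem L10654 : sm ga N1211 = N944 := ded_13_1 (flp_e L8314) (flp_a L7433) L10652
theorem L10656 : sm gc N1211 = N842 := ded_28_1 (flp_e L7442) L7431 L10652
theorem L10658 : sm gg N1211 = N1211 := ded_41_2 (flp_e L10652) L7436 L10652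
theorem L10659 : sm gj N1211 = N846 := ded_42_2 (flp_e L7479) (flp_j L7437) L10652
theorem L10661 : sm gh N1211 = N868 := ded_43_2 (flp_e L7676) (flp_h L7439) L10652
theorem L10663 : sm gf N842 = N1212 := rfl
theorem L10665 : sm ga N1212 = N945 := ded_14_1 (flp_f L8323) (flp_a L7444) L10663
theorem L10667 : sm gj N1212 = N847 := ded_46_2 (flp_f L7489) (flp_j L7447) L10663
theorem L10669 : sm gh N1212 = N869 := ded_47_2 (flp_f L7686) (flp_h L7449) L10663
theorem L10671 : sm ge N1212 = N1212 := ded_40_1 (flp_f L10663) (flp_e L7442) L5154 L7442 L10663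
theorem L10672 : sm gb N843 = N1213 := rfl
theorem L10674 : sm gd N1213 = N1213 := ded_20_2 (flp_b L10672) L7461 L10672
theorem L10675 : sm gf N1213 = N1213 := ded_22_2 (flp_b L10672) L7455 L10672
theorem L10676 : sm gg N1213 = N848 := ded_23_2 (flp_b L7496) (flp_g L7456) L10672
theorem L10678 : sm gh N1213 = N1213 := ded_25_2 (flp_b L10672) L7458 L10672
theorem L10679 : sm gi N1213 = N845 := ded_26_2 (flp_b L7471) (flp_i L7459) L10672
theorem L10681 : sm ge N843 = N1214 := rfl
theorem L10683 : sm ga N1214 = N947 := ded_13_1 (flp_e L8341) (flp_a L7453) L10681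
theorem L10685 : sm gc N1214 = N844 := ded_28_1 (flp_e L7462) L7451 L10681
theorem L10687 : sm gg N1214 = N849 := ded_41_2 (flp_e L7505) (flp_g L7456) L10681
theorem L10689 : sm gh N1214 = N1214 := ded_43_2 (flp_e L10681) L7458 L10681
theorem L10690 : sm gi N1214 = N846 := ded_44_2 (flp_e L7479) (flp_i L7459) L10681
theorem L10692 : sm gf N844 = N1215 := rfl
theorem L10694 : sm ga N1215 = N948 := ded_14_1 (flp_f L8350) (flp_a L7464) L10692
theorem L10696 : sm gh N1215 = N1215 := ded_47_2 (flp_f L10692) L7468 L10692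
theorem L10697 : sm gi N1215 = N847 := ded_48_2 (flp_f L7489) (flp_i L7469) L10692
theorem L10699 : sm ge N1215 = N1215 := ded_40_1 (flp_f L10692) (flp_e L7462) L5164 L7462 L10692
theorem L10700 : sm ga N845 = N1216 := rfl
theorem L10702 : sm gd N1216 = N1216 := ded_12_2 (flp_a L10700) L7473 L10700
theorem L10703 : sm gf N1216 = N1216 := ded_14_2 (flp_a L10700) L7474 L10700
theorem L10704 : sm gg N1216 = N851 := ded_15_2 (flp_a L7525) (flp_g L7475) L10700
theorem L10706 : sm gh N1216 = N870 := ded_17_2 (flp_a L7695) (flp_h L7477) L10700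
theorem L10708 : sm gb N1216 = N949 := ded_10_2 (flp_a L8357) (flp_b L5790) (flp_a L5172) L7471 L10700
theorem L10710 : sm ge N845 = N1217 := rfl
theorem L10712 : sm gb N1217 = N846 := ded_21_1 (flp_e L7479) L7471 L10710
theorem L10714 : sm gg N1217 = N852 := ded_41_2 (flp_e L7535) (flp_g L7475) L10710
theorem L10716 : sm gh N1217 = N871 := ded_43_2 (flp_e L7705) (flp_h L7477) L10710
theorem L10718 : sm gd N846 = N1218 := rfl
theorem L10720 : sm ga N1218 = N951 := ded_12_1 (flp_d L8375) (flp_a L7481) L10718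
theorem L10722 : sm gg N1218 = N853 := ded_36_2 (flp_d L7542) (flp_g L7485) L10718
theorem L10724 : sm ge N1218 = N1218 := ded_34_2 (flp_d L10718) (flp_e L7479) L5179 L7479 L10718
theorem L10725 : sm gf N846 = N1219 := rfl
theorem L10727 : sm ga N1219 = N952 := ded_14_1 (flp_f L8380) (flp_a L7481) L10725
theorem L10729 : sm gc N1219 = N847 := ded_29_1 (flp_f L7489) (flp_c L7483) L10725
theorem L10731 : sm gh N1219 = N873 := ded_47_2 (flp_f L7722) (flp_h L7487) L10725
theorem L10733 : sm ge N1219 = N1219 := ded_40_1 (flp_f L10725) (flp_e L7479) L5174 L7479 L10725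
theorem L10734 : sm gg N847 = N1220 := rfl
theorem L10736 : sm ga N1220 = N953 := ded_15_1 (flp_g L8387) (flp_a L7491) L10734
theorem L10738 : sm ge N1220 = N1220 := ded_41_1 (flp_g L10734) L7495 L10734
theorem L10739 : sm gh N1220 = N874 := ded_50_2 (flp_g L7730) (flp_h L7493) L10734
theorem L10741 : sm gf N1220 = N855 := ded_45_1 (flp_g L7559) (flp_f L5224) (flp_g L5184) L7489 L10734
theorem L10743 : sm ga N848 = N1221 := rfl
theorem L10745 : sm gd N1221 = N1221 := ded_12_2 (flp_a L10743) L7498 L10743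
theorem L10746 : sm gf N1221 = N856 := ded_14_2 (flp_a L7567) (flp_f L7499) L10743
theorem L10748 : sm gj N1221 = N1221 := ded_16_2 (flp_a L10743) L7501 L10743
theorem L10749 : sm gh N1221 = N1221 := ded_17_2 (flp_a L10743) L7502 L10743
theorem L10750 : sm gi N1221 = N851 := ded_18_2 (flp_a L7525) (flp_i L7503) L10743
theorem L10752 : sm gb N1221 = N954 := ded_10_2 (flp_a L8395) (flp_b L5813) (flp_a L5190) L7496 L10743
theorem L10754 : sm ge N848 = N1222 := rfl
theorem L10756 : sm gb N1222 = N849 := ded_21_1 (flp_e L7505) L7496 L10754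
theorem L10758 : sm gj N1222 = N1222 := ded_42_2 (flp_e L10754) L7501 L10754
theorem L10759 : sm gh N1222 = N1222 := ded_43_2 (flp_e L10754) L7502 L10754
theorem L10760 : sm gi N1222 = N852 := ded_44_2 (flp_e L7535) (flp_i L7503) L10754
theorem L10762 : sm gd N849 = N1223 := rfl
theorem L10764 : sm ga N1223 = N956 := ded_12_1 (flp_d L8414) (flp_a L7507) L10762
theorem L10766 : sm gj N1223 = N1223 := ded_37_2 (flp_d L10762) L7511 L10762
theorem L10767 : sm gi N1223 = N853 := ded_39_2 (flp_d L7542) (flp_i L7513) L10762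
theorem L10769 : sm ge N1223 = N1223 := ded_34_2 (flp_d L10762) (flp_e L7505) L5198 L7505 L10762
theorem L10770 : sm gf N849 = N1224 := rfl
theorem L10772 : sm ga N1224 = N957 := ded_14_1 (flp_f L8420) (flp_a L7507) L10770
theorem L10774 : sm gc N1224 = N850 := ded_29_1 (flp_f L7515) (flp_c L7509) L10770
theorem L10776 : sm gj N1224 = N1224 := ded_46_2 (flp_f L10770) L7511 L10770
theorem L10777 : sm gh N1224 = N1224 := ded_47_2 (flp_f L10770) L7512 L10770
theorem L10778 : sm gi N1224 = N854 := ded_48_2 (flp_f L7548) (flp_i L7513) L10770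
theorem L10780 : sm ge N1224 = N859 := ded_40_1 (flp_f L7596) (flp_e L5241) (flp_f L5192) L7505 L10770
theorem L10782 : sm gg N850 = N1225 := rfl
theorem L10784 : sm ga N1225 = N958 := ded_15_1 (flp_g L8430) (flp_a L7517) L10782
theorem L10786 : sm ge N1225 = N860 := ded_41_1 (flp_g L7606) (flp_e L7523) L10782
theorem L10788 : sm gh N1225 = N1225 := ded_50_2 (flp_g L10782) L7520 L10782
theorem L10789 : sm gi N1225 = N855 := ded_51_2 (flp_g L7559) (flp_i L7521) L10782
theorem L10791 : sm ge N851 = N1226 := rfl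
theorem L10793 : sm ga N1226 = N852 := ded_13_1 (flp_e L7535) L7525 L10791
theorem L10795 : sm gb N1226 = N959 := ded_21_1 (flp_e L8438) (flp_b L7533) L10791
theorem L10797 : sm gj N1226 = N1226 := ded_42_2 (flp_e L10791) L7530 L10791
theorem L10798 : sm gh N1226 = N875 := ded_43_2 (flp_e L7739) (flp_h L7531) L10791
theorem L10800 : sm gd N852 = N1227 := rfl
theorem L10802 : sm gb N1227 = N853 := ded_20_1 (flp_d L7542) (flp_b L7537) L10800
theorem L10804 : sm gj N1227 = N1227 := ded_37_2 (flp_d L10800) L7539 L10800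
theorem L10805 : sm ge N1227 = N1227 := ded_34_2 (flp_d L10800) (flp_e L7535) L5209 L7535 L10800
theorem L10806 : sm gf N852 = N1228 := rfl
theorem L10808 : sm gb N1228 = N854 := ded_22_1 (flp_f L7548) (flp_b L7537) L10806
theorem L10810 : sm gj N1228 = N1228 := ded_46_2 (flp_f L10806) L7539 L10806
theorem L10811 : sm gh N1228 = N877 := ded_47_2 (flp_f L7755) (flp_h L7540) L10806
theorem L10813 : sm ge N1228 = N863 := ded_40_1 (flp_f L7633) (flp_e L5270) (flp_f L5210) L7535 L10806
theorem L10815 : sm gf N853 = N1229 := rfl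
theorem L10817 : sm ga N1229 = N962 := ded_14_1 (flp_f L8462) (flp_a L7544) L10815
theorem L10819 : sm gd N1229 = N854 := ded_35_1 (flp_f L7548) L7542 L10815
theorem L10821 : sm gj N1229 = N1229 := ded_46_2 (flp_f L10815) L7546 L10815
theorem L10822 : sm gh N853 = N1230 := rfl
theorem L10824 : sm ga N1230 = N963 := ded_17_1 (flp_h L8467) (flp_a L7544) L10822
theorem L10826 : sm ge N1230 = N1230 := ded_43_1 (flp_h L10822) L7547 L10822
theorem L10827 : sm gj N1230 = N1230 := ded_52_1 (flp_h L10822) L7546 L10822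
theorem L10828 : sm gd N1230 = N879 := ded_38_1 (flp_h L7773) (flp_d L5364) (flp_h L5222) L7542 L10822
theorem L10830 : sm gg N854 = N1231 := rfl
theorem L10832 : sm ga N1231 = N964 := ded_15_1 (flp_g L8473) (flp_a L7550) L10830
theorem L10834 : sm gc N1231 = N855 := ded_30_1 (flp_g L7559) (flp_c L7552) L10830
theorem L10836 : sm ge N1231 = N865 := ded_41_1 (flp_g L7649) (flp_e L7557) L10830
theorem L10838 : sm gh N1231 = N880 := ded_50_2 (flp_g L7781) (flp_h L7555) L10830
theorem L10840 : sm gj N855 = N1232 := rfl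
theorem L10842 : sm ga N1232 = N965 := ded_16_1 (flp_j L8481) (flp_a L7561) L10840
theorem L10844 : sm ge N1232 = N866 := ded_42_1 (flp_j L7658) (flp_e L7563) L10840
theorem L10846 : sm gh N1232 = N881 := ded_52_2 (flp_j L7790) (flp_h L7565) L10840
theorem L10848 : sm gg N1232 = N1232 := ded_49_1 (flp_j L10840) (flp_g L7559) L5228 L7559 L10840
theorem L10849 : sm ge N856 = N1233 := rfl
theorem L10851 : sm ga N1233 = N857 := ded_13_1 (flp_e L7577) L7567 L10849
theorem L10853 : sm gb N1233 = N966 := ded_21_1 (flp_e L8489) (flp_b L7575) L10849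
theorem L10855 : sm gg N1233 = N1233 := ded_41_2 (flp_e L10849) L7570 L10849
theorem L10856 : sm gj N1233 = N1233 := ded_42_2 (flp_e L10849) L7571 L10849
theorem L10857 : sm gh N1233 = N1233 := ded_43_2 (flp_e L10849) L7572 L10849
theorem L10858 : sm gi N1233 = N861 := ded_44_2 (flp_e L7615) (flp_i L7573) L10849
theorem L10860 : sm gd N857 = N1234 := rfl
theorem L10862 : sm gb N1234 = N858 := ded_20_1 (flp_d L7586) (flp_b L7579) L10860
theorem L10864 : sm gg N1234 = N1234 := ded_36_2 (flp_d L10860) L7581 L10860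
theorem L10865 : sm gj N1234 = N1234 := ded_37_2 (flp_d L10860) L7582 L10860
theorem L10866 : sm gi N1234 = N862 := ded_39_2 (flp_d L7625) (flp_i L7584) L10860
theorem L10868 : sm ge N1234 = N1234 := ded_34_2 (flp_d L10860) (flp_e L7577) L5235 L7577 L10860
theorem L10869 : sm gf N857 = N1235 := rfl
theorem L10871 : sm gb N1235 = N859 := ded_22_1 (flp_f L7596) (flp_b L7579) L10869
theorem L10873 : sm gj N1235 = N1235 := ded_46_2 (flp_f L10869) L7582 L10869
theorem L10874 : sm gh N1235 = N1235 := ded_47_2 (flp_f L10869) L7583 L10869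
theorem L10875 : sm gi N1235 = N863 := ded_48_2 (flp_f L7633) (flp_i L7584) L10869
theorem L10877 : sm gf N858 = N1236 := rfl
theorem L10879 : sm ga N1236 = N969 := ded_14_1 (flp_f L8517) (flp_a L7588) L10877
theorem L10881 : sm gc N1236 = N1236 := ded_29_1 (flp_f L10877) L7594 L10877
theorem L10882 : sm gd N1236 = N859 := ded_35_1 (flp_f L7596) L7586 L10877
theorem L10884 : sm gj N1236 = N1236 := ded_46_2 (flp_f L10877) L7591 L10877
theorem L10885 : sm gi N1236 = N864 := ded_48_2 (flp_f L7640) (flp_i L7592) L10877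
theorem L10887 : sm gh N858 = N1237 := rfl
theorem L10889 : sm ga N1237 = N970 := ded_17_1 (flp_h L8525) (flp_a L7588) L10887
theorem L10891 : sm gc N1237 = N1237 := ded_32_1 (flp_h L10887) L7594 L10887
theorem L10892 : sm ge N1237 = N1237 := ded_43_1 (flp_h L10887) L7595 L10887
theorem L10893 : sm gg N1237 = N1237 := ded_50_1 (flp_h L10887) L7590 L10887
theorem L10894 : sm gj N1237 = N1237 := ded_52_1 (flp_h L10887) L7591 L10887
theorem L10895 : sm gd N1237 = N1237 := ded_38_1 (flp_h L10887) (flp_d L7586) L5249 L7586 L10887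
theorem L10896 : sm gi N1237 = N1237 := ded_54_2 (flp_h L10887) L7592 L5286 (flp_i L7592) L10887
theorem L10897 : sm gg N859 = N1238 := rfl
theorem L10899 : sm ga N1238 = N971 := ded_15_1 (flp_g L8533) (flp_a L7598) L10897
theorem L10901 : sm gc N1238 = N860 := ded_30_1 (flp_g L7606) (flp_c L7600) L10897
theorem L10903 : sm gh N1238 = N1238 := ded_50_2 (flp_g L10897) L7603 L10897
theorem L10904 : sm gi N1238 = N865 := ded_51_2 (flp_g L7649) (flp_i L7604) L10897
theorem L10906 : sm gf N1238 = N1238 := ded_45_1 (flp_g L10897) (flp_f L7596) L5247 L7596 L10897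
theorem L10907 : sm gj N860 = N1239 := rfl
theorem L10909 : sm ga N1239 = N972 := ded_16_1 (flp_j L8541) (flp_a L7608) L10907
theorem L10911 : sm gd N1239 = N1239 := ded_37_1 (flp_j L10907) L7610 L10907
theorem L10912 : sm gf N1239 = N1239 := ded_46_1 (flp_j L10907) L7614 L10907
theorem L10913 : sm gh N1239 = N1239 := ded_52_2 (flp_j L10907) L7611 L10907
theorem L10914 : sm gi N1239 = N866 := ded_53_2 (flp_j L7658) (flp_i L7612) L10907
theorem L10916 : sm gg N1239 = N1239 := ded_49_1 (flp_j L10907) (flp_g L7606) L5257 L7606 L10907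
theorem L10917 : sm gd N861 = N1240 := rfl
theorem L10919 : sm ga N1240 = N862 := ded_12_1 (flp_d L7625) (flp_a L7617) L10917
theorem L10921 : sm gb N1240 = N973 := ded_20_1 (flp_d L8550) (flp_b L7619) L10917
theorem L10923 : sm gg N1240 = N1240 := ded_36_2 (flp_d L10917) L7621 L10917
theorem L10924 : sm gj N1240 = N1240 := ded_37_2 (flp_d L10917) L7622 L10917
theorem L10925 : sm ge N1240 = N1240 := ded_34_2 (flp_d L10917) (flp_e L7615) L5263 L7615 L10917
theorem L10926 : sm gh N1240 = N1240 := ded_38_2 (flp_d L10917) L7623 L5400 (flp_h L7623) L10917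
theorem L10927 : sm gf N861 = N1241 := rfl
theorem L10929 : sm ga N1241 = N863 := ded_14_1 (flp_f L7633) (flp_a L7617) L10927
theorem L10931 : sm gb N1241 = N974 := ded_22_1 (flp_f L8558) (flp_b L7619) L10927
theorem L10933 : sm gj N1241 = N1241 := ded_46_2 (flp_f L10927) L7622 L10927
theorem L10934 : sm gh N1241 = N882 := ded_47_2 (flp_f L7799) (flp_h L7623) L10927
theorem L10936 : sm gc N862 = N1242 := rfl
theorem L10938 : sm ge N1242 = N1242 := ded_28_2 (flp_c L10936) L7631 L10936
theorem L10939 : sm gg N1242 = N1242 := ded_30_2 (flp_c L10936) L7629 L10936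
theorem L10940 : sm gj N1242 = N1242 := ded_31_2 (flp_c L10936) L7630 L10936
theorem L10941 : sm gh N1242 = N1242 := ded_32_2 (flp_c L10936) L7632 L10936
theorem L10942 : sm gb N1242 = N1242 := ded_19_1 (flp_c L10936) L7627 L5284 (flp_b L7627) L10936
theorem L10943 : sm gf N862 = N1243 := rfl
theorem L10945 : sm gb N1243 = N864 := ded_22_1 (flp_f L7640) (flp_b L7627) L10943
theorem L10947 : sm gd N1243 = N863 := ded_35_1 (flp_f L7633) L7625 L10943
theorem L10949 : sm gj N1243 = N1243 := ded_46_2 (flp_f L10943) L7630 L10943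
theorem L10950 : sm gh N1243 = N1243 := ded_47_2 (flp_f L10943) L7632 L10943
theorem L10951 : sm gg N863 = N1244 := rfl
theorem L10953 : sm gb N1244 = N865 := ded_23_1 (flp_g L7649) (flp_b L7635) L10951
theorem L10955 : sm gh N1244 = N883 := ded_50_2 (flp_g L7808) (flp_h L7638) L10951
theorem L10957 : sm gf N1244 = N1244 := ded_45_1 (flp_g L10951) (flp_f L7633) L5274 L7633 L10951
theorem L10958 : sm ge N864 = N1245 := rfl
theorem L10960 : sm ga N1245 = N978 := ded_13_1 (flp_e L8590) (flp_a L7642) L10958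
theorem L10962 : sm gc N1245 = N1245 := ded_28_1 (flp_e L10958) L7644 L10958
theorem L10963 : sm gj N1245 = N1245 := ded_42_2 (flp_e L10958) L7647 L10958
theorem L10964 : sm gh N1245 = N1245 := ded_43_2 (flp_e L10958) L7648 L10958
theorem L10965 : sm gf N1245 = N1245 := ded_40_2 (flp_e L10958) (flp_f L7640) L5285 L7640 L10958
theorem L10966 : sm gg N864 = N1246 := rfl
theorem L10968 : sm ga N1246 = N979 := ded_15_1 (flp_g L8596) (flp_a L7642) L10966
theorem L10970 : sm gc N1246 = N1246 := ded_30_1 (flp_g L10966) L7644 L10966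
theorem L10971 : sm gd N1246 = N865 := ded_36_1 (flp_g L7649) (flp_d L7645) L10966
theorem L10973 : sm gh N1246 = N1246 := ded_50_2 (flp_g L10966) L7648 L10966
theorem L10974 : sm gf N1246 = N1246 := ded_45_1 (flp_g L10966) (flp_f L7640) L5282 L7640 L10966
theorem L10975 : sm gj N865 = N1247 := rfl
theorem L10977 : sm ga N1247 = N980 := ded_16_1 (flp_j L8603) (flp_a L7651) L10975
theorem L10979 : sm gc N1247 = N866 := ded_31_1 (flp_j L7658) (flp_c L7653) L10975
theorem L10981 : sm gf N1247 = N1247 := ded_46_1 (flp_j L10975) L7657 L10975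
theorem L10982 : sm gh N1247 = N884 := ded_52_2 (flp_j L7815) (flp_h L7655) L10975
theorem L10984 : sm gg N1247 = N1247 := ded_49_1 (flp_j L10975) (flp_g L7649) L5293 L7649 L10975
theorem L10985 : sm ga N867 = N1248 := rfl
theorem L10987 : sm gd N1248 = N885 := ded_12_2 (flp_a L7825) (flp_d L7669) L10985
theorem L10989 : sm gf N1248 = N1248 := ded_14_2 (flp_a L10985) L7671 L10985
theorem L10990 : sm gg N1248 = N1248 := ded_15_2 (flp_a L10985) L7672 L10985
theorem L10991 : sm gj N1248 = N870 := ded_16_2 (flp_a L7695) (flp_j L7673) L10985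
theorem L10993 : sm gi N1248 = N1248 := ded_18_2 (flp_a L10985) L7675 L10985
theorem L10994 : sm gb N1248 = N981 := ded_10_2 (flp_a L8611) (flp_b L5967) (flp_a L5306) L7667 L10985
theorem L10996 : sm ge N867 = N1249 := rfl
theorem L10998 : sm gb N1249 = N868 := ded_21_1 (flp_e L7676) L7667 L10996
theorem L11000 : sm gg N1249 = N1249 := ded_41_2 (flp_e L10996) L7672 L10996
theorem L11001 : sm gj N1249 = N871 := ded_42_2 (flp_e L7705) (flp_j L7673) L10996
theorem L11003 : sm gi N1249 = N1249 := ded_44_2 (flp_e L10996) L7675 L10996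
theorem L11004 : sm gd N868 = N1250 := rfl
theorem L11006 : sm ga N1250 = N983 := ded_12_1 (flp_d L8630) (flp_a L7678) L11004
theorem L11008 : sm gg N1250 = N1250 := ded_36_2 (flp_d L11004) L7682 L11004
theorem L11009 : sm gj N1250 = N872 := ded_37_2 (flp_d L7712) (flp_j L7683) L11004
theorem L11011 : sm gi N1250 = N1250 := ded_39_2 (flp_d L11004) L7685 L11004
theorem L11012 : sm gc N1250 = N1250 := ded_27_1 (flp_d L11004) L7680 L5323 (flp_c L7680) L11004
theorem L11013 : sm ge N1250 = N887 := ded_34_2 (flp_d L7846) (flp_e L5435) (flp_d L5313) L7676 L11004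
theorem L11015 : sm gf N868 = N1251 := rfl
theorem L11017 : sm ga N1251 = N984 := ded_14_1 (flp_f L8639) (flp_a L7678) L11015
theorem L11019 : sm gc N1251 = N869 := ded_29_1 (flp_f L7686) (flp_c L7680) L11015
theorem L11021 : sm gj N1251 = N873 := ded_46_2 (flp_f L7722) (flp_j L7683) L11015
theorem L11023 : sm gi N1251 = N1251 := ded_48_2 (flp_f L11015) L7685 L11015
theorem L11024 : sm ge N1251 = N1251 := ded_40_1 (flp_f L11015) (flp_e L7676) L5308 L7676 L11015
theorem L11025 : sm gg N869 = N1252 := rfl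
theorem L11027 : sm ga N1252 = N985 := ded_15_1 (flp_g L8647) (flp_a L7688) L11025
theorem L11029 : sm gd N1252 = N1252 := ded_36_1 (flp_g L11025) L7690 L11025
theorem L11030 : sm ge N1252 = N1252 := ded_41_1 (flp_g L11025) L7694 L11025
theorem L11031 : sm gi N1252 = N1252 := ded_51_2 (flp_g L11025) L7693 L11025
theorem L11032 : sm gf N1252 = N1252 := ded_45_1 (flp_g L11025) (flp_f L7686) L5319 L7686 L11025
theorem L11033 : sm ge N870 = N1253 := rfl
theorem L11035 : sm ga N1253 = N871 := ded_13_1 (flp_e L7705) L7695 L11033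
theorem L11037 : sm gb N1253 = N986 := ded_21_1 (flp_e L8654) (flp_b L7703) L11033
theorem L11039 : sm gg N1253 = N875 := ded_41_2 (flp_e L7739) (flp_g L7700) L11033
theorem L11041 : sm gi N1253 = N1253 := ded_44_2 (flp_e L11033) L7702 L11033
theorem L11042 : sm gd N871 = N1254 := rfl
theorem L11044 : sm gb N1254 = N872 := ded_20_1 (flp_d L7712) (flp_b L7707) L11042
theorem L11046 : sm gg N1254 = N876 := ded_36_2 (flp_d L7747) (flp_g L7709) L11042
theorem L11048 : sm gi N1254 = N1254 := ded_39_2 (flp_d L11042) L7711 L11042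
theorem L11049 : sm ge N1254 = N891 := ded_34_2 (flp_d L7888) (flp_e L5467) (flp_d L5326) L7705 L11042
theorem L11051 : sm gf N871 = N1255 := rfl
theorem L11053 : sm gb N1255 = N873 := ded_22_1 (flp_f L7722) (flp_b L7707) L11051
theorem L11055 : sm gi N1255 = N1255 := ded_48_2 (flp_f L11051) L7711 L11051
theorem L11056 : sm ge N1255 = N1255 := ded_40_1 (flp_f L11051) (flp_e L7705) L5328 L7705 L11051
theorem L11057 : sm gf N872 = N1256 := rfl
theorem L11059 : sm ga N1256 = N989 := ded_14_1 (flp_f L8678) (flp_a L7714) L11057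
theorem L11061 : sm gc N1256 = N1256 := ded_29_1 (flp_f L11057) L7719 L11057
theorem L11062 : sm gd N1256 = N873 := ded_35_1 (flp_f L7722) L7712 L11057
theorem L11064 : sm gi N1256 = N1256 := ded_48_2 (flp_f L11057) L7718 L11057
theorem L11065 : sm gh N872 = N1257 := rfl
theorem L11067 : sm ga N1257 = N990 := ded_17_1 (flp_h L8684) (flp_a L7714) L11065
theorem L11069 : sm gc N1257 = N1257 := ded_32_1 (flp_h L11065) L7719 L11065
theorem L11070 : sm ge N1257 = N894 := ded_43_1 (flp_h L7913) (flp_e L7720) L11065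
theorem L11072 : sm gg N1257 = N879 := ded_50_1 (flp_h L7773) (flp_g L7716) L11065
theorem L11074 : sm gg N873 = N1258 := rfl
theorem L11076 : sm ga N1258 = N991 := ded_15_1 (flp_g L8691) (flp_a L7724) L11074
theorem L11078 : sm gc N1258 = N874 := ded_30_1 (flp_g L7730) (flp_c L7726) L11074
theorem L11080 : sm ge N1258 = N1258 := ded_41_1 (flp_g L11074) L7729 L11074
theorem L11081 : sm gi N1258 = N1258 := ded_51_2 (flp_g L11074) L7728 L11074
theorem L11082 : sm gf N1258 = N880 := ded_45_1 (flp_g L7781) (flp_f L5373) (flp_g L5338) L7722 L11074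
theorem L11084 : sm gj N874 = N1259 := rfl
theorem L11086 : sm ga N1259 = N992 := ded_16_1 (flp_j L8699) (flp_a L7732) L11084
theorem L11088 : sm gd N1259 = N1259 := ded_37_1 (flp_j L11084) L7734 L11084
theorem L11089 : sm ge N1259 = N1259 := ded_42_1 (flp_j L11084) L7735 L11084
theorem L11090 : sm gf N1259 = N881 := ded_46_1 (flp_j L7790) (flp_f L7737) L11084
theorem L11092 : sm gi N1259 = N1259 := ded_53_2 (flp_j L11084) L7736 L11084
theorem L11093 : sm gd N875 = N1260 := rfl
theorem L11095 : sm ga N1260 = N876 := ded_12_1 (flp_d L7747) (flp_a L7741) L11093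
theorem L11097 : sm gb N1260 = N993 := ded_20_1 (flp_d L8707) (flp_b L7743) L11093
theorem L11099 : sm gj N1260 = N1260 := ded_37_2 (flp_d L11093) L7745 L11093
theorem L11100 : sm gi N1260 = N1260 := ded_39_2 (flp_d L11093) L7746 L11093
theorem L11101 : sm ge N1260 = N895 := ded_34_2 (flp_d L7921) (flp_e L5494) (flp_d L5350) L7739 L11093
theorem L11103 : sm gf N875 = N1261 := rfl
theorem L11105 : sm ga N1261 = N877 := ded_14_1 (flp_f L7755) (flp_a L7741) L11103
theorem L11107 : sm gb N1261 = N994 := ded_22_1 (flp_f L8715) (flp_b L7743) L11103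
theorem L11109 : sm gj N1261 = N1261 := ded_46_2 (flp_f L11103) L7745 L11103
theorem L11110 : sm gi N1261 = N1261 := ded_48_2 (flp_f L11103) L7746 L11103
theorem L11111 : sm ge N1261 = N882 := ded_40_1 (flp_f L7799) (flp_e L5391) (flp_f L5352) L7739 L11103
theorem L11113 : sm gc N876 = N1262 := rfl
theorem L11115 : sm ge N1262 = N896 := ded_28_2 (flp_c L7930) (flp_e L7753) L11113
theorem L11117 : sm gj N1262 = N1262 := ded_31_2 (flp_c L11113) L7751 L11113
theorem L11118 : sm gi N1262 = N1262 := ded_33_2 (flp_c L11113) L7752 L11113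
theorem L11119 : sm gb N1262 = N1262 := ded_19_1 (flp_c L11113) L7749 L5370 (flp_b L7749) L11113
theorem L11120 : sm gf N876 = N1263 := rfl
theorem L11122 : sm gb N1263 = N878 := ded_22_1 (flp_f L7763) (flp_b L7749) L11120
theorem L11124 : sm gd N1263 = N877 := ded_35_1 (flp_f L7755) L7747 L11120
theorem L11126 : sm gj N1263 = N1263 := ded_46_2 (flp_f L11120) L7751 L11120
theorem L11127 : sm gi N1263 = N1263 := ded_48_2 (flp_f L11120) L7752 L11120
theorem L11128 : sm ge N1263 = N1263 := ded_40_1 (flp_f L11120) L7753 L5509 (flp_e L7753) L11120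
theorem L11129 : sm gh N876 = N1264 := rfl
theorem L11131 : sm gb N1264 = N879 := ded_25_1 (flp_h L7773) (flp_b L7749) L11129
theorem L11133 : sm ge N1264 = N897 := ded_43_1 (flp_h L7937) (flp_e L7753) L11129
theorem L11135 : sm gj N1264 = N1264 := ded_52_1 (flp_h L11129) L7751 L11129
theorem L11136 : sm gg N877 = N1265 := rfl
theorem L11138 : sm gb N1265 = N880 := ded_23_1 (flp_g L7781) (flp_b L7757) L11136
theorem L11140 : sm ge N1265 = N883 := ded_41_1 (flp_g L7808) (flp_e L7761) L11136
theorem L11142 : sm gi N1265 = N1265 := ded_51_2 (flp_g L11136) L7760 L11136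
theorem L11143 : sm gg N878 = N1266 := rfl
theorem L11145 : sm ga N1266 = N999 := ded_15_1 (flp_g L8756) (flp_a L7765) L11143
theorem L11147 : sm gc N1266 = N1266 := ded_30_1 (flp_g L11143) L7767 L11143
theorem L11148 : sm gd N1266 = N880 := ded_36_1 (flp_g L7781) (flp_d L7768) L11143
theorem L11150 : sm ge N1266 = N1266 := ded_41_1 (flp_g L11143) L7772 L11143
theorem L11151 : sm gi N1266 = N1266 := ded_51_2 (flp_g L11143) L7771 L11143
theorem L11152 : sm gh N878 = N1267 := rfl
theorem L11154 : sm ga N1267 = N1000 := ded_17_1 (flp_h L8763) (flp_a L7765) L11152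
theorem L11156 : sm gc N1267 = N1267 := ded_32_1 (flp_h L11152) L7767 L11152
theorem L11157 : sm ge N1267 = N1267 := ded_43_1 (flp_h L11152) L7772 L11152
theorem L11158 : sm gf N1267 = N879 := ded_47_1 (flp_h L7773) L7763 L11152
theorem L11160 : sm gj N1267 = N1267 := ded_52_1 (flp_h L11152) L7770 L11152
theorem L11161 : sm gi N879 = N1268 := rfl
theorem L11163 : sm ga N1268 = N1001 := ded_18_1 (flp_i L8770) (flp_a L7775) L11161
theorem L11165 : sm gc N1268 = N1268 := ded_33_1 (flp_i L11161) L7777 L11161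
theorem L11166 : sm ge N1268 = N898 := ded_44_1 (flp_i L7944) (flp_e L7778) L11161
theorem L11168 : sm gj N1268 = N1268 := ded_53_1 (flp_i L11161) L7780 L11161
theorem L11169 : sm gh N1268 = N1268 := ded_54_1 (flp_i L11161) (flp_h L7773) L5369 L7773 L11161
theorem L11170 : sm gj N880 = N1269 := rfl
theorem L11172 : sm ga N1269 = N1002 := ded_16_1 (flp_j L8777) (flp_a L7783) L11170
theorem L11174 : sm gc N1269 = N881 := ded_31_1 (flp_j L7790) (flp_c L7785) L11170
theorem L11176 : sm ge N1269 = N884 := ded_42_1 (flp_j L7815) (flp_e L7787) L11170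
theorem L11178 : sm gi N1269 = N1269 := ded_53_2 (flp_j L11170) L7789 L11170
theorem L11179 : sm gg N1269 = N1269 := ded_49_1 (flp_j L11170) (flp_g L7781) L5379 L7781 L11170
theorem L11180 : sm gg N882 = N1270 := rfl
theorem L11182 : sm ga N1270 = N883 := ded_15_1 (flp_g L7808) (flp_a L7801) L11180
theorem L11184 : sm gb N1270 = N1003 := ded_23_1 (flp_g L8785) (flp_b L7803) L11180
theorem L11186 : sm gd N1270 = N1270 := ded_36_1 (flp_g L11180) L7805 L11180
theorem L11187 : sm gi N1270 = N1270 := ded_51_2 (flp_g L11180) L7807 L11180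
theorem L11188 : sm gf N1270 = N1270 := ded_45_1 (flp_g L11180) (flp_f L7799) L5397 L7799 L11180
theorem L11189 : sm gj N883 = N1271 := rfl
theorem L11191 : sm gb N1271 = N884 := ded_24_1 (flp_j L7815) (flp_b L7810) L11189
theorem L11193 : sm gd N1271 = N1271 := ded_37_1 (flp_j L11189) L7812 L11189
theorem L11194 : sm gf N1271 = N1271 := ded_46_1 (flp_j L11189) L7814 L11189
theorem L11195 : sm gi N1271 = N1271 := ded_53_2 (flp_j L11189) L7813 L11189
theorem L11196 : sm gg N1271 = N1271 := ded_49_1 (flp_j L11189) (flp_g L7808) L5406 L7808 L11189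
theorem L11197 : sm ge N885 = N1272 := rfl
theorem L11199 : sm ga N1272 = N886 := ded_13_1 (flp_e L7836) L7825 L11197
theorem L11201 : sm gb N1272 = N1005 := ded_21_1 (flp_e L8802) (flp_b L7834) L11197
theorem L11203 : sm gc N1272 = N1272 := ded_28_1 (flp_e L11197) L7827 L11197
theorem L11204 : sm gg N1272 = N1272 := ded_41_2 (flp_e L11197) L7829 L11197
theorem L11205 : sm gj N1272 = N890 := ded_42_2 (flp_e L7877) (flp_j L7830) L11197
theorem L11207 : sm gh N1272 = N1272 := ded_43_2 (flp_e L11197) L7832 L11197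
theorem L11208 : sm gi N1272 = N1272 := ded_44_2 (flp_e L11197) L7833 L11197
theorem L11209 : sm gd N886 = N1273 := rfl
theorem L11211 : sm gb N1273 = N887 := ded_20_1 (flp_d L7846) (flp_b L7838) L11209
theorem L11213 : sm gg N1273 = N1273 := ded_36_2 (flp_d L11209) L7841 L11209
theorem L11214 : sm gj N1273 = N891 := ded_37_2 (flp_d L7888) (flp_j L7842) L11209
theorem L11216 : sm gi N1273 = N1273 := ded_39_2 (flp_d L11209) L7845 L11209
theorem L11217 : sm gf N886 = N1274 := rfl
theorem L11219 : sm gb N1274 = N888 := ded_22_1 (flp_f L7855) (flp_b L7838) L11217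
theorem L11221 : sm gc N1274 = N1274 := ded_29_1 (flp_f L11217) L7840 L11217
theorem L11222 : sm gj N1274 = N892 := ded_46_2 (flp_f L7895) (flp_j L7842) L11217
theorem L11224 : sm gh N1274 = N1274 := ded_47_2 (flp_f L11217) L7844 L11217
theorem L11225 : sm gi N1274 = N1274 := ded_48_2 (flp_f L11217) L7845 L11217
theorem L11226 : sm ge N1274 = N1274 := ded_40_1 (flp_f L11217) (flp_e L7836) L5428 L7836 L11217
theorem L11227 : sm gf N887 = N1275 := rfl
theorem L11229 : sm ga N1275 = N1008 := ded_14_1 (flp_f L8832) (flp_a L7848) L11227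
theorem L11231 : sm gc N1275 = N1275 := ded_29_1 (flp_f L11227) L7854 L11227
theorem L11232 : sm gd N1275 = N888 := ded_35_1 (flp_f L7855) L7846 L11227
theorem L11234 : sm gj N1275 = N893 := ded_46_2 (flp_f L7904) (flp_j L7851) L11227
theorem L11236 : sm gi N1275 = N1275 := ded_48_2 (flp_f L11227) L7853 L11227
theorem L11237 : sm gh N887 = N1276 := rfl
theorem L11239 : sm ga N1276 = N1009 := ded_17_1 (flp_h L8840) (flp_a L7848) L11237
theorem L11241 : sm gc N1276 = N1276 := ded_32_1 (flp_h L11237) L7854 L11237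
theorem L11242 : sm gg N1276 = N1276 := ded_50_1 (flp_h L11237) L7850 L11237
theorem L11243 : sm gj N1276 = N894 := ded_52_1 (flp_h L7913) (flp_j L7851) L11237
theorem L11245 : sm gd N1276 = N1276 := ded_38_1 (flp_h L11237) (flp_d L7846) L5444 L7846 L11237
theorem L11246 : sm gg N888 = N1277 := rfl
theorem L11248 : sm ga N1277 = N1010 := ded_15_1 (flp_g L8847) (flp_a L7857) L11246
theorem L11250 : sm gc N1277 = N889 := ded_30_1 (flp_g L7866) (flp_c L7859) L11246
theorem L11252 : sm ge N1277 = N1277 := ded_41_1 (flp_g L11246) L7865 L11246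
theorem L11253 : sm gh N1277 = N1277 := ded_50_2 (flp_g L11246) L7863 L11246
theorem L11254 : sm gi N1277 = N1277 := ded_51_2 (flp_g L11246) L7864 L11246
theorem L11255 : sm gf N1277 = N1277 := ded_45_1 (flp_g L11246) (flp_f L7855) L5441 L7855 L11246
theorem L11256 : sm gj N1277 = N1277 := ded_49_2 (flp_g L11246) L7861 L5493 (flp_j L7861) L11246
theorem L11257 : sm gd N890 = N1278 := rfl
theorem L11259 : sm ga N1278 = N891 := ded_12_1 (flp_d L7888) (flp_a L7879) L11257
theorem L11261 : sm gb N1278 = N1011 := ded_20_1 (flp_d L8856) (flp_b L7881) L11257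
theorem L11263 : sm gg N1278 = N895 := ded_36_2 (flp_d L7921) (flp_g L7884) L11257
theorem L11265 : sm gi N1278 = N1278 := ded_39_2 (flp_d L11257) L7887 L11257
theorem L11266 : sm gf N890 = N1279 := rfl
theorem L11268 : sm ga N1279 = N892 := ded_14_1 (flp_f L7895) (flp_a L7879) L11266
theorem L11270 : sm gb N1279 = N1012 := ded_22_1 (flp_f L8863) (flp_b L7881) L11266
theorem L11272 : sm gc N1279 = N1279 := ded_29_1 (flp_f L11266) L7883 L11266
theorem L11273 : sm gh N1279 = N1279 := ded_47_2 (flp_f L11266) L7886 L11266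
theorem L11274 : sm gi N1279 = N1279 := ded_48_2 (flp_f L11266) L7887 L11266
theorem L11275 : sm ge N1279 = N1279 := ded_40_1 (flp_f L11266) (flp_e L7877) L5460 L7877 L11266
theorem L11276 : sm gg N1279 = N1279 := ded_45_2 (flp_f L11266) L7884 L5504 (flp_g L7884) L11266
theorem L11277 : sm gc N891 = N1280 := rfl
theorem L11279 : sm gg N1280 = N896 := ded_30_2 (flp_c L7930) (flp_g L7892) L11277
theorem L11281 : sm gi N1280 = N1280 := ded_33_2 (flp_c L11277) L7894 L11277
theorem L11282 : sm gb N1280 = N1280 := ded_19_1 (flp_c L11277) L7890 L5483 (flp_b L7890) L11277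
theorem L11283 : sm gd N1280 = N1280 := ded_27_2 (flp_c L11277) (flp_d L7888) L5471 L7888 L11277
theorem L11284 : sm gf N891 = N1281 := rfl
theorem L11286 : sm gb N1281 = N893 := ded_22_1 (flp_f L7904) (flp_b L7890) L11284
theorem L11288 : sm gd N1281 = N892 := ded_35_1 (flp_f L7895) L7888 L11284
theorem L11290 : sm gi N1281 = N1281 := ded_48_2 (flp_f L11284) L7894 L11284
theorem L11291 : sm gg N1281 = N1281 := ded_45_2 (flp_f L11284) L7892 L5509 (flp_g L7892) L11284
theorem L11292 : sm gh N891 = N1282 := rfl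
theorem L11294 : sm gb N1282 = N894 := ded_25_1 (flp_h L7913) (flp_b L7890) L11292
theorem L11296 : sm gg N1282 = N897 := ded_50_1 (flp_h L7937) (flp_g L7892) L11292
theorem L11298 : sm gd N1282 = N1282 := ded_38_1 (flp_h L11292) (flp_d L7888) L5474 L7888 L11292
theorem L11299 : sm ge N893 = N1283 := rfl
theorem L11301 : sm ga N1283 = N1016 := ded_13_1 (flp_e L8896) (flp_a L7906) L11299
theorem L11303 : sm gc N1283 = N1283 := ded_28_1 (flp_e L11299) L7908 L11299
theorem L11304 : sm gg N1283 = N1283 := ded_41_2 (flp_e L11299) L7912 L11299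
theorem L11305 : sm gi N1283 = N1283 := ded_44_2 (flp_e L11299) L7911 L11299
theorem L11306 : sm gd N1283 = N1283 := ded_34_1 (flp_e L11299) L7909 L5492 (flp_d L7909) L11299
theorem L11307 : sm gh N893 = N1284 := rfl
theorem L11309 : sm ga N1284 = N1017 := ded_17_1 (flp_h L8902) (flp_a L7906) L11307
theorem L11311 : sm gc N1284 = N1284 := ded_32_1 (flp_h L11307) L7908 L11307
theorem L11312 : sm gf N1284 = N894 := ded_47_1 (flp_h L7913) L7904 L11307
theorem L11314 : sm gg N1284 = N1284 := ded_50_1 (flp_h L11307) L7912 L11307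
theorem L11315 : sm gd N1284 = N1284 := ded_38_1 (flp_h L11307) L7909 L5490 (flp_d L7909) L11307
theorem L11316 : sm gi N894 = N1285 := rfl
theorem L11318 : sm ga N1285 = N1018 := ded_18_1 (flp_i L8909) (flp_a L7915) L11316
theorem L11320 : sm gc N1285 = N1285 := ded_33_1 (flp_i L11316) L7917 L11316
theorem L11321 : sm gd N1285 = N1285 := ded_39_1 (flp_i L11316) L7920 L11316
theorem L11322 : sm gg N1285 = N898 := ded_51_1 (flp_i L7944) (flp_g L7918) L11316
theorem L11324 : sm gh N1285 = N1285 := ded_54_1 (flp_i L11316) (flp_h L7913) L5482 L7913 L11316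
theorem L11325 : sm gc N895 = N1286 := rfl
theorem L11327 : sm ga N1286 = N896 := ded_11_1 (flp_c L7930) (flp_a L7923) L11325
theorem L11329 : sm gf N1286 = N1286 := ded_29_2 (flp_c L11325) L7927 L11325
theorem L11330 : sm gj N1286 = N1286 := ded_31_2 (flp_c L11325) L7928 L11325
theorem L11331 : sm gi N1286 = N1286 := ded_33_2 (flp_c L11325) L7929 L11325
theorem L11332 : sm gd N1286 = N1286 := ded_27_2 (flp_c L11325) (flp_d L7921) L5500 L7921 L11325
theorem L11333 : sm gh N895 = N1287 := rfl
theorem L11342 : sm gh N896 = N1288 := rfl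
theorem L11344 : sm gb N1288 = N1288 := ded_25_1 (flp_h L11342) L7935 L11342
theorem L11345 : sm gc N1288 = N897 := ded_32_1 (flp_h L7937) L7930 L11342
theorem L11347 : sm gf N1288 = N1288 := ded_47_1 (flp_h L11342) L7932 L11342
theorem L11348 : sm gj N1288 = N1288 := ded_52_1 (flp_h L11342) L7933 L11342
theorem L11349 : sm gi N897 = N1289 := rfl
theorem L11351 : sm gb N1289 = N898 := ded_26_1 (flp_i L7944) (flp_b L7939) L11349
theorem L11357 : sm gc N899 = N1290 := rfl
theorem L11359 : sm gf N1290 = N1290 := ded_29_2 (flp_c L11357) L7956 L11357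
theorem L11360 : sm gg N1290 = N902 := ded_30_2 (flp_c L7979) (flp_g L7957) L11357
theorem L11362 : sm gj N1290 = N1290 := ded_31_2 (flp_c L11357) L7959 L11357
theorem L11363 : sm gh N1290 = N1290 := ded_32_2 (flp_c L11357) L7960 L11357
theorem L11364 : sm gd N1290 = N1290 := ded_27_2 (flp_c L11357) (flp_d L7953) L5523 L7953 L11357
theorem L11365 : sm ge N899 = N1291 := rfl
theorem L11367 : sm gb N1291 = N1291 := ded_21_1 (flp_e L11365) L7955 L11365
theorem L11368 : sm gg N1291 = N903 := ded_41_2 (flp_e L7987) (flp_g L7957) L11365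
theorem L11370 : sm gj N1291 = N1291 := ded_42_2 (flp_e L11365) L7959 L11365
theorem L11371 : sm gh N1291 = N1291 := ded_43_2 (flp_e L11365) L7960 L11365
theorem L11372 : sm gd N1291 = N1291 := ded_34_1 (flp_e L11365) (flp_d L7953) L5524 L7953 L11365
theorem L11373 : sm gi N899 = N1292 := rfl
theorem L11375 : sm gb N1292 = N1292 := ded_26_1 (flp_i L11373) L7955 L11373
theorem L11376 : sm gd N1292 = N900 := ded_39_1 (flp_i L7961) L7953 L11373
theorem L11378 : sm gf N1292 = N1292 := ded_48_1 (flp_i L11373) L7956 L11373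
theorem L11379 : sm gg N1292 = N904 := ded_51_1 (flp_i L7995) (flp_g L7957) L11373
theorem L11381 : sm gj N1292 = N1292 := ded_53_1 (flp_i L11373) L7959 L11373
theorem L11382 : sm gh N900 = N1293 := rfl
theorem L11384 : sm gb N1293 = N1293 := ded_25_1 (flp_h L11382) L7963 L11382
theorem L11385 : sm gc N1293 = N1293 := ded_32_1 (flp_h L11382) L7964 L11382
theorem L11386 : sm ge N1293 = N1293 := ded_43_1 (flp_h L11382) L7965 L11382
theorem L11387 : sm gf N1293 = N1293 := ded_47_1 (flp_h L11382) L7966 L11382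
theorem L11388 : sm gg N1293 = N905 := ded_50_1 (flp_h L8004) (flp_g L7967) L11382
theorem L11390 : sm gj N1293 = N1293 := ded_52_1 (flp_h L11382) L7969 L11382
theorem L11391 : sm gi N1293 = N901 := ded_54_2 (flp_h L7970) (flp_i L5529) L5520 L7961 L11382
theorem L11393 : sm gd N901 = N1294 := rfl
theorem L11395 : sm gb N1294 = N1294 := ded_20_1 (flp_d L11393) L7972 L11393
theorem L11396 : sm gf N1294 = N1294 := ded_35_2 (flp_d L11393) L7975 L11393
theorem L11397 : sm gg N1294 = N906 := ded_36_2 (flp_d L8015) (flp_g L7976) L11393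
theorem L11399 : sm gj N1294 = N1294 := ded_37_2 (flp_d L11393) L7978 L11393
theorem L11400 : sm gh N1294 = N1294 := ded_38_2 (flp_d L11393) (flp_h L7970) L5533 L7970 L11393
theorem L11401 : sm gb N902 = N1295 := rfl
theorem L11403 : sm gd N1295 = N1295 := ded_20_2 (flp_b L11401) L7986 L11401
theorem L11404 : sm gf N1295 = N915 := ded_22_2 (flp_b L8083) (flp_f L7981) L11401
theorem L11406 : sm gj N1295 = N907 := ded_24_2 (flp_b L8023) (flp_j L7983) L11401
theorem L11408 : sm gh N1295 = N1295 := ded_25_2 (flp_b L11401) L7985 L11401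
theorem L11409 : sm ga N1295 = N1295 := ded_10_1 (flp_b L11401) (flp_a L10307) L10314 L10307 L11401
theorem L11410 : sm gc N1295 = N1295 := ded_19_2 (flp_b L11401) (flp_c L7979) L5541 L7979 L11401
theorem L11411 : sm ge N902 = N1296 := rfl
theorem L11413 : sm gc N1296 = N903 := ded_28_1 (flp_e L7987) L7979 L11411
theorem L11415 : sm gj N1296 = N908 := ded_42_2 (flp_e L8032) (flp_j L7983) L11411
theorem L11417 : sm gh N1296 = N1296 := ded_43_2 (flp_e L11411) L7985 L11411
theorem L11418 : sm gf N1296 = N1296 := ded_40_2 (flp_e L11411) L7981 L5606 (flp_f L7981) L11411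
theorem L11419 : sm gi N902 = N1297 := rfl
theorem L11421 : sm gc N1297 = N904 := ded_33_1 (flp_i L7995) L7979 L11419
theorem L11423 : sm gd N1297 = N1297 := ded_39_1 (flp_i L11419) L7986 L11419
theorem L11424 : sm gf N1297 = N916 := ded_48_1 (flp_i L8093) (flp_f L7981) L11419
theorem L11426 : sm gj N1297 = N909 := ded_53_1 (flp_i L8039) (flp_j L7983) L11419
theorem L11428 : sm gi N903 = N1298 := rfl
theorem L11430 : sm gb N1298 = N1298 := ded_26_1 (flp_i L11428) L7989 L11428
theorem L11431 : sm gd N1298 = N1298 := ded_39_1 (flp_i L11428) L7993 L11428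
theorem L11432 : sm ge N1298 = N904 := ded_44_1 (flp_i L7995) L7987 L11428
theorem L11434 : sm gf N1298 = N1298 := ded_48_1 (flp_i L11428) L7994 L11428
theorem L11435 : sm gj N1298 = N910 := ded_53_1 (flp_i L8047) (flp_j L7990) L11428
theorem L11437 : sm gh N904 = N1299 := rfl
theorem L11439 : sm gb N1299 = N1299 := ded_25_1 (flp_h L11437) L7997 L11437
theorem L11440 : sm gf N1299 = N917 := ded_47_1 (flp_h L8102) (flp_f L8000) L11437
theorem L11442 : sm gj N1299 = N911 := ded_52_1 (flp_h L8055) (flp_j L8002) L11437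
theorem L11444 : sm gi N1299 = N1299 := ded_54_2 (flp_h L11437) (flp_i L7995) L5546 L7995 L11437
theorem L11445 : sm gd N905 = N1300 := rfl
theorem L11447 : sm gb N1300 = N1300 := ded_20_1 (flp_d L11445) L8006 L11445
theorem L11448 : sm gf N1300 = N918 := ded_35_2 (flp_d L8110) (flp_f L8009) L11445
theorem L11450 : sm gj N1300 = N912 := ded_37_2 (flp_d L8062) (flp_j L8011) L11445
theorem L11452 : sm gi N1300 = N906 := ded_39_2 (flp_d L8015) (flp_i L8013) L11445
theorem L11454 : sm gc N906 = N1301 := rfl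
theorem L11456 : sm gf N1301 = N919 := ded_29_2 (flp_c L8118) (flp_f L8018) L11454
theorem L11458 : sm gj N1301 = N913 := ded_31_2 (flp_c L8070) (flp_j L8020) L11454
theorem L11460 : sm gh N1301 = N1301 := ded_32_2 (flp_c L11454) L8022 L11454
theorem L11461 : sm gd N1301 = N1301 := ded_27_2 (flp_c L11454) (flp_d L8015) L5559 L8015 L11454
theorem L11462 : sm ge N906 = N1302 := rfl
theorem L11464 : sm gb N1302 = N1302 := ded_21_1 (flp_e L11462) L8017 L11462
theorem L11465 : sm gj N1302 = N914 := ded_42_2 (flp_e L8077) (flp_j L8020) L11462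
theorem L11467 : sm gh N1302 = N1302 := ded_43_2 (flp_e L11462) L8022 L11462
theorem L11468 : sm gd N1302 = N1302 := ded_34_1 (flp_e L11462) (flp_d L8015) L5560 L8015 L11462
theorem L11469 : sm ge N907 = N1303 := rfl
theorem L11471 : sm ga N1303 = N1303 := ded_13_1 (flp_e L11469) L8030 L11469
theorem L11472 : sm gb N1303 = N908 := ded_21_1 (flp_e L8032) L8023 L11469
theorem L11474 : sm gc N1303 = N1303 := ded_28_1 (flp_e L11469) L8031 L11469
theorem L11475 : sm gg N1303 = N1303 := ded_41_2 (flp_e L11469) L8028 L11469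
theorem L11476 : sm gh N1303 = N1303 := ded_43_2 (flp_e L11469) L8029 L11469
theorem L11477 : sm gf N1303 = N1303 := ded_40_2 (flp_e L11469) L8026 L5642 (flp_f L8026) L11469
theorem L11478 : sm gi N907 = N1304 := rfl
theorem L11481 : sm gb N1304 = N909 := ded_26_1 (flp_i L8039) L8023 L11478
theorem L11485 : sm gf N1304 = N921 := ded_48_1 (flp_i L8134) (flp_f L8026) L11478
theorem L11488 : sm gd N908 = N1305 := rfl
theorem L11490 : sm gf N1305 = N1305 := ded_35_2 (flp_d L11488) L8038 L11488
theorem L11491 : sm gg N1305 = N1305 := ded_36_2 (flp_d L11488) L8036 L11488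
theorem L11492 : sm gc N1305 = N1305 := ded_27_1 (flp_d L11488) L8034 L5577 (flp_c L8034) L11488
theorem L11493 : sm ge N1305 = N1305 := ded_34_2 (flp_d L11488) (flp_e L8032) L5571 L8032 L11488
theorem L11494 : sm gi N908 = N1306 := rfl
theorem L11496 : sm gc N1306 = N910 := ded_33_1 (flp_i L8047) (flp_c L8034) L11494
theorem L11498 : sm ge N1306 = N909 := ded_44_1 (flp_i L8039) L8032 L11494
theorem L11500 : sm gf N1306 = N1306 := ded_48_1 (flp_i L11494) L8038 L11494
theorem L11501 : sm gg N1306 = N1306 := ded_51_1 (flp_i L11494) L8036 L11494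
theorem L11502 : sm gh N909 = N1307 := rfl
theorem L11504 : sm gc N1307 = N911 := ded_32_1 (flp_h L8055) (flp_c L8041) L11502
theorem L11506 : sm gf N1307 = N922 := ded_47_1 (flp_h L8144) (flp_f L8044) L11502
theorem L11510 : sm gh N910 = N1308 := rfl
theorem L11512 : sm gb N1308 = N1308 := ded_25_1 (flp_h L11510) L8049 L11510
theorem L11513 : sm ge N1308 = N911 := ded_43_1 (flp_h L8055) (flp_e L8051) L11510
theorem L11515 : sm gf N1308 = N1308 := ded_47_1 (flp_h L11510) L8053 L11510
theorem L11516 : sm gg N1308 = N1308 := ded_50_1 (flp_h L11510) L8054 L11510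
theorem L11517 : sm gi N1308 = N1308 := ded_54_2 (flp_h L11510) (flp_i L8047) L5576 L8047 L11510
theorem L11518 : sm gd N911 = N1309 := rfl
theorem L11520 : sm gb N1309 = N1309 := ded_20_1 (flp_d L11518) L8057 L11518
theorem L11521 : sm gf N1309 = N923 := ded_35_2 (flp_d L8152) (flp_f L8058) L11518
theorem L11523 : sm gg N1309 = N1309 := ded_36_2 (flp_d L11518) L8060 L11518
theorem L11524 : sm gi N1309 = N1309 := ded_39_2 (flp_d L11518) L8061 L11518
theorem L11525 : sm gh N1309 = N912 := ded_38_2 (flp_d L8062) (flp_h L5587) (flp_d L5582) L8055 L11518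
theorem L11527 : sm gc N912 = N1310 := rfl
theorem L11529 : sm gf N1310 = N924 := ded_29_2 (flp_c L8160) (flp_f L8065) L11527
theorem L11531 : sm gg N1310 = N1310 := ded_30_2 (flp_c L11527) L8067 L11527
theorem L11532 : sm gi N1310 = N913 := ded_33_2 (flp_c L8070) (flp_i L8068) L11527
theorem L11534 : sm gd N1310 = N1310 := ded_27_2 (flp_c L11527) (flp_d L8062) L5590 L8062 L11527
theorem L11535 : sm ge N912 = N1311 := rfl
theorem L11537 : sm gb N1311 = N1311 := ded_21_1 (flp_e L11535) L8064 L11535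
theorem L11538 : sm gg N1311 = N1311 := ded_41_2 (flp_e L11535) L8067 L11535
theorem L11539 : sm gi N1311 = N914 := ded_44_2 (flp_e L8077) (flp_i L8068) L11535
theorem L11541 : sm gd N1311 = N1311 := ded_34_1 (flp_e L11535) (flp_d L8062) L5591 L8062 L11535
theorem L11542 : sm gb N913 = N1312 := rfl
theorem L11544 : sm gd N1312 = N1312 := ded_20_2 (flp_b L11542) L8076 L11542
theorem L11545 : sm gf N1312 = N926 := ded_22_2 (flp_b L8176) (flp_f L8072) L11542
theorem L11547 : sm gg N1312 = N1312 := ded_23_2 (flp_b L11542) L8074 L11542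
theorem L11548 : sm gh N1312 = N1312 := ded_25_2 (flp_b L11542) L8075 L11542
theorem L11549 : sm gc N1312 = N1312 := ded_19_2 (flp_b L11542) (flp_c L8070) L5599 L8070 L11542
theorem L11550 : sm ge N913 = N1313 := rfl
theorem L11552 : sm gc N1313 = N914 := ded_28_1 (flp_e L8077) L8070 L11550
theorem L11554 : sm gg N1313 = N1313 := ded_41_2 (flp_e L11550) L8074 L11550
theorem L11555 : sm gh N1313 = N1313 := ded_43_2 (flp_e L11550) L8075 L11550
theorem L11556 : sm gf N914 = N1314 := rfl
theorem L11558 : sm gb N1314 = N1314 := ded_22_1 (flp_f L11556) L8079 L11556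
theorem L11559 : sm gd N1314 = N1314 := ded_35_1 (flp_f L11556) L8082 L11556
theorem L11560 : sm gh N1314 = N1314 := ded_47_2 (flp_f L11556) L8081 L11556
theorem L11561 : sm ge N1314 = N928 := ded_40_1 (flp_f L8190) (flp_e L5676) (flp_f L5600) L8077 L11556
theorem L11563 : sm gi N915 = N1315 := rfl
theorem L11566 : sm gb N1315 = N916 := ded_26_1 (flp_i L8093) L8083 L11563
theorem L11569 : sm gd N1315 = N1315 := ded_39_1 (flp_i L11563) L8085 L11563
theorem L11571 : sm gg N1315 = N1315 := ded_51_1 (flp_i L11563) L8087 L11563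
theorem L11572 : sm gj N1315 = N921 := ded_53_1 (flp_i L8134) (flp_j L8088) L11563
theorem L11574 : sm gh N916 = N1316 := rfl
theorem L11576 : sm gc N1316 = N917 := ded_32_1 (flp_h L8102) (flp_c L8095) L11574
theorem L11579 : sm gg N1316 = N1316 := ded_50_1 (flp_h L11574) L8099 L11574
theorem L11580 : sm gj N1316 = N922 := ded_52_1 (flp_h L8144) (flp_j L8100) L11574
theorem L11582 : sm gi N1316 = N1316 := ded_54_2 (flp_h L11574) (flp_i L8093) L5610 L8093 L11574
theorem L11583 : sm gd N917 = N1317 := rfl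
theorem L11585 : sm gb N1317 = N1317 := ded_20_1 (flp_d L11583) L8104 L11583
theorem L11586 : sm gg N1317 = N1317 := ded_36_2 (flp_d L11583) L8106 L11583
theorem L11587 : sm gj N1317 = N923 := ded_37_2 (flp_d L8152) (flp_j L8107) L11583
theorem L11589 : sm gi N1317 = N1317 := ded_39_2 (flp_d L11583) L8109 L11583
theorem L11590 : sm gh N1317 = N918 := ded_38_2 (flp_d L8110) (flp_h L5621) (flp_d L5615) L8102 L11583
theorem L11592 : sm gc N918 = N1318 := rfl
theorem L11594 : sm gg N1318 = N1318 := ded_30_2 (flp_c L11592) L8113 L11592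
theorem L11595 : sm gj N1318 = N924 := ded_31_2 (flp_c L8160) (flp_j L8114) L11592
theorem L11597 : sm gi N1318 = N919 := ded_33_2 (flp_c L8118) (flp_i L8116) L11592
theorem L11599 : sm gd N1318 = N1318 := ded_27_2 (flp_c L11592) (flp_d L8110) L5624 L8110 L11592
theorem L11600 : sm ge N918 = N1319 := rfl
theorem L11602 : sm gb N1319 = N1319 := ded_21_1 (flp_e L11600) L8112 L11600
theorem L11603 : sm gg N1319 = N1319 := ded_41_2 (flp_e L11600) L8113 L11600
theorem L11604 : sm gj N1319 = N925 := ded_42_2 (flp_e L8167) (flp_j L8114) L11600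
theorem L11606 : sm gi N1319 = N920 := ded_44_2 (flp_e L8125) (flp_i L8116) L11600
theorem L11608 : sm gd N1319 = N942 := ded_34_1 (flp_e L8295) (flp_d L5746) (flp_e L5625) L8110 L11600
theorem L11610 : sm gb N919 = N1320 := rfl
theorem L11612 : sm gd N1320 = N1320 := ded_20_2 (flp_b L11610) L8124 L11610
theorem L11613 : sm gg N1320 = N1320 := ded_23_2 (flp_b L11610) L8120 L11610
theorem L11614 : sm gj N1320 = N926 := ded_24_2 (flp_b L8176) (flp_j L8121) L11610
theorem L11616 : sm gh N1320 = N1320 := ded_25_2 (flp_b L11610) L8123 L11610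
theorem L11617 : sm gc N1320 = N1320 := ded_19_2 (flp_b L11610) (flp_c L8118) L5634 L8118 L11610
theorem L11618 : sm ge N919 = N1321 := rfl
theorem L11620 : sm gc N1321 = N920 := ded_28_1 (flp_e L8125) L8118 L11618
theorem L11622 : sm gg N1321 = N1321 := ded_41_2 (flp_e L11618) L8120 L11618
theorem L11623 : sm gj N1321 = N927 := ded_42_2 (flp_e L8183) (flp_j L8121) L11618
theorem L11625 : sm gh N1321 = N1321 := ded_43_2 (flp_e L11618) L8123 L11618
theorem L11626 : sm gf N920 = N1322 := rfl
theorem L11628 : sm gb N1322 = N1322 := ded_22_1 (flp_f L11626) L8127 L11626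
theorem L11629 : sm gd N1322 = N945 := ded_35_1 (flp_f L8323) (flp_d L8132) L11626
theorem L11631 : sm gj N1322 = N928 := ded_46_2 (flp_f L8190) (flp_j L8129) L11626
theorem L11633 : sm gh N1322 = N1322 := ded_47_2 (flp_f L11626) L8131 L11626
theorem L11634 : sm gh N921 = N1323 := rfl
theorem L11637 : sm gb N1323 = N922 := ded_25_1 (flp_h L8144) (flp_b L8137) L11634
theorem L11641 : sm gg N1323 = N929 := ded_50_1 (flp_h L8196) (flp_g L8142) L11634
theorem L11643 : sm gi N1323 = N1323 := ded_54_2 (flp_h L11634) (flp_i L8134) L5645 L8134 L11634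
theorem L11644 : sm gd N922 = N1324 := rfl
theorem L11646 : sm gg N1324 = N930 := ded_36_2 (flp_d L8206) (flp_g L8149) L11644
theorem L11648 : sm gi N1324 = N1324 := ded_39_2 (flp_d L11644) L8151 L11644
theorem L11649 : sm gh N1324 = N1324 := ded_38_2 (flp_d L11644) (flp_h L8144) L5652 L8144 L11644
theorem L11650 : sm gc N923 = N1325 := rfl
theorem L11652 : sm gg N1325 = N931 := ded_30_2 (flp_c L8212) (flp_g L8155) L11650
theorem L11654 : sm gh N1325 = N924 := ded_32_2 (flp_c L8160) (flp_h L8158) L11650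
theorem L11657 : sm ge N923 = N1326 := rfl
theorem L11659 : sm gb N1326 = N1326 := ded_21_1 (flp_e L11657) L8154 L11657
theorem L11660 : sm gg N1326 = N932 := ded_41_2 (flp_e L8219) (flp_g L8155) L11657
theorem L11662 : sm gh N1326 = N925 := ded_43_2 (flp_e L8167) (flp_h L8158) L11657
theorem L11664 : sm gi N1326 = N1326 := ded_44_2 (flp_e L11657) L8157 L11657
theorem L11665 : sm gd N1326 = N1326 := ded_34_1 (flp_e L11657) (flp_d L8152) L5659 L8152 L11657
theorem L11666 : sm gb N924 = N1327 := rfl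
theorem L11668 : sm gd N1327 = N1327 := ded_20_2 (flp_b L11666) L8166 L11666
theorem L11669 : sm gg N1327 = N933 := ded_23_2 (flp_b L8227) (flp_g L8162) L11666
theorem L11671 : sm gi N1327 = N926 := ded_26_2 (flp_b L8176) (flp_i L8164) L11666
theorem L11674 : sm ge N924 = N1328 := rfl
theorem L11676 : sm gc N1328 = N925 := ded_28_1 (flp_e L8167) L8160 L11674
theorem L11678 : sm gg N1328 = N934 := ded_41_2 (flp_e L8235) (flp_g L8162) L11674
theorem L11680 : sm gi N1328 = N927 := ded_44_2 (flp_e L8183) (flp_i L8164) L11674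
theorem L11682 : sm gf N925 = N1329 := rfl
theorem L11684 : sm gb N1329 = N1329 := ded_22_1 (flp_f L11682) L8169 L11682
theorem L11685 : sm gd N1329 = N948 := ded_35_1 (flp_f L8350) (flp_d L8174) L11682
theorem L11687 : sm gi N1329 = N928 := ded_48_2 (flp_f L8190) (flp_i L8172) L11682
theorem L11689 : sm ga N926 = N1330 := rfl
theorem L11693 : sm gg N1330 = N936 := ded_15_2 (flp_a L8251) (flp_g L8179) L11689
theorem L11696 : sm ge N926 = N1331 := rfl
theorem L11698 : sm gb N1331 = N927 := ded_21_1 (flp_e L8183) L8176 L11696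
theorem L11700 : sm gc N1331 = N1331 := ded_28_1 (flp_e L11696) L8182 L11696
theorem L11701 : sm gg N1331 = N937 := ded_41_2 (flp_e L8258) (flp_g L8179) L11696
theorem L11703 : sm gh N1331 = N1331 := ded_43_2 (flp_e L11696) L8181 L11696
theorem L11704 : sm gd N927 = N1332 := rfl
theorem L11706 : sm gg N1332 = N938 := ded_36_2 (flp_d L8265) (flp_g L8187) L11704
theorem L11708 : sm gc N1332 = N951 := ded_27_1 (flp_d L8375) L5801 (flp_d L5682) (flp_c L8185) L11704
theorem L11710 : sm ge N1332 = N1332 := ded_34_2 (flp_d L11704) (flp_e L8183) L5675 L8183 L11704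
theorem L11711 : sm gf N927 = N1333 := rfl
theorem L11713 : sm gc N1333 = N928 := ded_29_1 (flp_f L8190) (flp_c L8185) L11711
theorem L11715 : sm gh N1333 = N1333 := ded_47_2 (flp_f L11711) L8189 L11711
theorem L11716 : sm gg N928 = N1334 := rfl
theorem L11718 : sm gb N1334 = N1334 := ded_23_1 (flp_g L11716) L8192 L11716
theorem L11719 : sm gd N1334 = N953 := ded_36_1 (flp_g L8387) (flp_d L8193) L11716
theorem L11721 : sm gh N1334 = N1334 := ded_50_2 (flp_g L11716) L8195 L11716
theorem L11722 : sm gf N1334 = N940 := ded_45_1 (flp_g L8278) (flp_f L5738) (flp_g L5679) L8190 L11716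
theorem L11724 : sm gd N929 = N1335 := rfl
theorem L11727 : sm gb N1335 = N930 := ded_20_1 (flp_d L8206) (flp_b L8199) L11724
theorem L11730 : sm gj N1335 = N1335 := ded_37_2 (flp_d L11724) L8204 L11724
theorem L11732 : sm gh N1335 = N1335 := ded_38_2 (flp_d L11724) (flp_h L8196) L5690 L8196 L11724
theorem L11733 : sm gc N930 = N1336 := rfl
theorem L11736 : sm gj N1336 = N1336 := ded_31_2 (flp_c L11733) L8209 L11733
theorem L11739 : sm gd N1336 = N931 := ded_27_2 (flp_c L8212) (flp_d L5702) (flp_c L5696) L8206 L11733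
theorem L11741 : sm ge N930 = N1337 := rfl
theorem L11743 : sm gj N1337 = N1337 := ded_42_2 (flp_e L11741) L8209 L11741
theorem L11747 : sm gb N931 = N1338 := rfl
theorem L11750 : sm gj N1338 = N1338 := ded_24_2 (flp_b L11747) L8215 L11747
theorem L11751 : sm gh N1338 = N933 := ded_25_2 (flp_b L8227) (flp_h L8216) L11747
theorem L11755 : sm ge N931 = N1339 := rfl
theorem L11757 : sm gc N1339 = N932 := ded_28_1 (flp_e L8219) L8212 L11755
theorem L11759 : sm gj N1339 = N1339 := ded_42_2 (flp_e L11755) L8215 L11755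
theorem L11760 : sm gh N1339 = N934 := ded_43_2 (flp_e L8235) (flp_h L8216) L11755
theorem L11763 : sm gf N932 = N1340 := rfl
theorem L11765 : sm gb N1340 = N1340 := ded_22_1 (flp_f L11763) L8221 L11763
theorem L11766 : sm gd N1340 = N1340 := ded_35_1 (flp_f L11763) L8226 L11763
theorem L11767 : sm gj N1340 = N1340 := ded_46_2 (flp_f L11763) L8222 L11763
theorem L11768 : sm gh N1340 = N935 := ded_47_2 (flp_f L8242) (flp_h L8223) L11763
theorem L11770 : sm gi N1340 = N1340 := ded_48_2 (flp_f L11763) L8225 L11763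
theorem L11771 : sm ge N1340 = N1340 := ded_40_1 (flp_f L11763) (flp_e L8219) L5705 L8219 L11763
theorem L11772 : sm ga N933 = N1341 := rfl
theorem L11774 : sm gc N1341 = N1341 := ded_11_2 (flp_a L11772) L8234 L11772
theorem L11775 : sm gd N1341 = N1341 := ded_12_2 (flp_a L11772) L8229 L11772
theorem L11778 : sm gi N1341 = N936 := ded_18_2 (flp_a L8251) (flp_i L8232) L11772
theorem L11780 : sm ge N933 = N1342 := rfl
theorem L11782 : sm gb N1342 = N934 := ded_21_1 (flp_e L8235) L8227 L11780
theorem L11786 : sm gi N1342 = N937 := ded_44_2 (flp_e L8258) (flp_i L8232) L11780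
theorem L11788 : sm gd N934 = N1343 := rfl
theorem L11790 : sm gj N1343 = N1343 := ded_37_2 (flp_d L11788) L8239 L11788
theorem L11791 : sm gi N1343 = N938 := ded_39_2 (flp_d L8265) (flp_i L8240) L11788
theorem L11793 : sm gc N1343 = N956 := ded_27_1 (flp_d L8414) L5825 (flp_d L5723) (flp_c L8237) L11788
theorem L11795 : sm ge N1343 = N1343 := ded_34_2 (flp_d L11788) (flp_e L8235) L5716 L8235 L11788
theorem L11796 : sm gf N934 = N1344 := rfl
theorem L11798 : sm gc N1344 = N935 := ded_29_1 (flp_f L8242) (flp_c L8237) L11796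
theorem L11800 : sm gj N1344 = N1344 := ded_46_2 (flp_f L11796) L8239 L11796
theorem L11801 : sm gi N1344 = N939 := ded_48_2 (flp_f L8271) (flp_i L8240) L11796
theorem L11803 : sm ge N1344 = N1344 := ded_40_1 (flp_f L11796) (flp_e L8235) L5712 L8235 L11796
theorem L11804 : sm gg N935 = N1345 := rfl
theorem L11806 : sm gb N1345 = N1345 := ded_23_1 (flp_g L11804) L8244 L11804
theorem L11807 : sm gd N1345 = N958 := ded_36_1 (flp_g L8430) (flp_d L8245) L11804
theorem L11809 : sm ge N1345 = N1345 := ded_41_1 (flp_g L11804) L8250 L11804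
theorem L11810 : sm gi N1345 = N940 := ded_51_2 (flp_g L8278) (flp_i L8248) L11804
theorem L11812 : sm ge N936 = N1346 := rfl
theorem L11814 : sm ga N1346 = N937 := ded_13_1 (flp_e L8258) L8251 L11812
theorem L11819 : sm gd N937 = N1347 := rfl
theorem L11821 : sm gb N1347 = N938 := ded_20_1 (flp_d L8265) (flp_b L8260) L11819
theorem L11823 : sm gj N1347 = N1347 := ded_37_2 (flp_d L11819) L8263 L11819
theorem L11824 : sm ge N1347 = N1347 := ded_34_2 (flp_d L11819) (flp_e L8258) L5727 L8258 L11819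
theorem L11825 : sm gf N937 = N1348 := rfl
theorem L11827 : sm gb N1348 = N939 := ded_22_1 (flp_f L8271) (flp_b L8260) L11825
theorem L11829 : sm gc N1348 = N1348 := ded_29_1 (flp_f L11825) L8262 L11825
theorem L11830 : sm gj N1348 = N1348 := ded_46_2 (flp_f L11825) L8263 L11825
theorem L11831 : sm gh N1348 = N1348 := ded_47_2 (flp_f L11825) L8264 L11825
theorem L11832 : sm ge N1348 = N1348 := ded_40_1 (flp_f L11825) (flp_e L8258) L5728 L8258 L11825
theorem L11833 : sm gf N938 = N1349 := rfl
theorem L11835 : sm gc N1349 = N962 := ded_29_1 (flp_f L8462) (flp_c L8268) L11833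
theorem L11837 : sm gd N1349 = N939 := ded_35_1 (flp_f L8271) L8265 L11833
theorem L11839 : sm gj N1349 = N1349 := ded_46_2 (flp_f L11833) L8267 L11833
theorem L11840 : sm gh N938 = N1350 := rfl
theorem L11842 : sm gc N1350 = N963 := ded_32_1 (flp_h L8467) (flp_c L8268) L11840
theorem L11844 : sm ge N1350 = N1350 := ded_43_1 (flp_h L11840) L8270 L11840
theorem L11845 : sm gj N1350 = N1350 := ded_52_1 (flp_h L11840) L8267 L11840
theorem L11846 : sm gd N1350 = N1350 := ded_38_1 (flp_h L11840) (flp_d L8265) L5737 L8265 L11840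
theorem L11847 : sm gg N939 = N1351 := rfl
theorem L11849 : sm gc N1351 = N940 := ded_30_1 (flp_g L8278) (flp_c L8273) L11847
theorem L11851 : sm ge N1351 = N1351 := ded_41_1 (flp_g L11847) L8277 L11847
theorem L11852 : sm gh N1351 = N1351 := ded_50_2 (flp_g L11847) L8276 L11847
theorem L11853 : sm gj N940 = N1352 := rfl
theorem L11855 : sm gb N1352 = N1352 := ded_24_1 (flp_j L11853) L8280 L11853
theorem L11856 : sm gd N1352 = N965 := ded_37_1 (flp_j L8481) (flp_d L8281) L11853
theorem L11858 : sm ge N1352 = N1352 := ded_42_1 (flp_j L11853) L8283 L11853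
theorem L11859 : sm gh N1352 = N1352 := ded_52_2 (flp_j L11853) L8284 L11853
theorem L11860 : sm gg N1352 = N1352 := ded_49_1 (flp_j L11853) (flp_g L8278) L5743 L8278 L11853
theorem L11861 : sm gb N941 = N1353 := rfl
theorem L11863 : sm gd N1353 = N1353 := ded_20_2 (flp_b L11861) L8294 L11861
theorem L11864 : sm gf N1353 = N1353 := ded_22_2 (flp_b L11861) L8287 L11861
theorem L11865 : sm gg N1353 = N1353 := ded_23_2 (flp_b L11861) L8288 L11861
theorem L11866 : sm gj N1353 = N946 := ded_24_2 (flp_b L8331) (flp_j L8289) L11861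
theorem L11868 : sm gh N1353 = N1353 := ded_25_2 (flp_b L11861) L8291 L11861
theorem L11869 : sm gi N1353 = N943 := ded_26_2 (flp_b L8304) (flp_i L8292) L11861
theorem L11871 : sm gc N1353 = N1353 := ded_19_2 (flp_b L11861) (flp_c L8285) L5748 L8285 L11861
theorem L11872 : sm ge N941 = N1354 := rfl
theorem L11874 : sm gc N1354 = N942 := ded_28_1 (flp_e L8295) L8285 L11872
theorem L11876 : sm gg N1354 = N1354 := ded_41_2 (flp_e L11872) L8288 L11872
theorem L11877 : sm gj N1354 = N947 := ded_42_2 (flp_e L8341) (flp_j L8289) L11872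
theorem L11879 : sm gh N1354 = N1354 := ded_43_2 (flp_e L11872) L8291 L11872
theorem L11880 : sm gi N1354 = N944 := ded_44_2 (flp_e L8314) (flp_i L8292) L11872
theorem L11882 : sm gf N942 = N1355 := rfl
theorem L11884 : sm gb N1355 = N1355 := ded_22_1 (flp_f L11882) L8297 L11882
theorem L11885 : sm gj N1355 = N948 := ded_46_2 (flp_f L8350) (flp_j L8299) L11882
theorem L11887 : sm gh N1355 = N1355 := ded_47_2 (flp_f L11882) L8301 L11882
theorem L11888 : sm gi N1355 = N945 := ded_48_2 (flp_f L8323) (flp_i L8302) L11882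
theorem L11890 : sm ge N1355 = N1355 := ded_40_1 (flp_f L11882) (flp_e L8295) L5749 L8295 L11882
theorem L11891 : sm ga N943 = N1356 := rfl
theorem L11893 : sm gc N1356 = N1356 := ded_11_2 (flp_a L11891) L8313 L11891
theorem L11894 : sm gd N1356 = N1356 := ded_12_2 (flp_a L11891) L8306 L11891
theorem L11895 : sm gf N1356 = N1356 := ded_14_2 (flp_a L11891) L8307 L11891
theorem L11896 : sm gg N1356 = N1356 := ded_15_2 (flp_a L11891) L8308 L11891
theorem L11897 : sm gj N1356 = N949 := ded_16_2 (flp_a L8357) (flp_j L8309) L11891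
theorem L11899 : sm gh N1356 = N981 := ded_17_2 (flp_a L8611) (flp_h L8311) L11891
theorem L11901 : sm ge N943 = N1357 := rfl
theorem L11903 : sm gb N1357 = N944 := ded_21_1 (flp_e L8314) L8304 L11901
theorem L11905 : sm gc N1357 = N1357 := ded_28_1 (flp_e L11901) L8313 L11901
theorem L11906 : sm gg N1357 = N1357 := ded_41_2 (flp_e L11901) L8308 L11901
theorem L11907 : sm gj N1357 = N950 := ded_42_2 (flp_e L8366) (flp_j L8309) L11901
theorem L11909 : sm gh N1357 = N982 := ded_43_2 (flp_e L8621) (flp_h L8311) L11901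
theorem L11911 : sm gd N944 = N1358 := rfl
theorem L11913 : sm gg N1358 = N1358 := ded_36_2 (flp_d L11911) L8318 L11911
theorem L11914 : sm gj N1358 = N951 := ded_37_2 (flp_d L8375) (flp_j L8319) L11911
theorem L11916 : sm ge N1358 = N1358 := ded_34_2 (flp_d L11911) (flp_e L8314) L5764 L8314 L11911
theorem L11917 : sm gf N944 = N1359 := rfl
theorem L11919 : sm gc N1359 = N945 := ded_29_1 (flp_f L8323) (flp_c L8316) L11917
theorem L11921 : sm gj N1359 = N952 := ded_46_2 (flp_f L8380) (flp_j L8319) L11917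
theorem L11923 : sm gh N1359 = N984 := ded_47_2 (flp_f L8639) (flp_h L8321) L11917
theorem L11925 : sm ge N1359 = N1359 := ded_40_1 (flp_f L11917) (flp_e L8314) L5758 L8314 L11917
theorem L11926 : sm gg N945 = N1360 := rfl
theorem L11928 : sm gb N1360 = N1360 := ded_23_1 (flp_g L11926) L8325 L11926
theorem L11929 : sm ge N1360 = N1360 := ded_41_1 (flp_g L11926) L8330 L11926
theorem L11930 : sm gh N1360 = N985 := ded_50_2 (flp_g L8647) (flp_h L8328) L11926
theorem L11932 : sm gf N1360 = N1360 := ded_45_1 (flp_g L11926) (flp_f L8323) L5768 L8323 L11926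
theorem L11933 : sm ga N946 = N1361 := rfl
theorem L11935 : sm gc N1361 = N1361 := ded_11_2 (flp_a L11933) L8340 L11933
theorem L11936 : sm gd N1361 = N1361 := ded_12_2 (flp_a L11933) L8333 L11933
theorem L11937 : sm gf N1361 = N1361 := ded_14_2 (flp_a L11933) L8334 L11933
theorem L11938 : sm gg N1361 = N954 := ded_15_2 (flp_a L8395) (flp_g L8335) L11933
theorem L11940 : sm gh N1361 = N1361 := ded_17_2 (flp_a L11933) L8337 L11933
theorem L11941 : sm gi N1361 = N949 := ded_18_2 (flp_a L8357) (flp_i L8338) L11933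
theorem L11943 : sm ge N946 = N1362 := rfl
theorem L11945 : sm gb N1362 = N947 := ded_21_1 (flp_e L8341) L8331 L11943
theorem L11947 : sm gc N1362 = N1362 := ded_28_1 (flp_e L11943) L8340 L11943
theorem L11948 : sm gg N1362 = N955 := ded_41_2 (flp_e L8405) (flp_g L8335) L11943
theorem L11950 : sm gh N1362 = N1362 := ded_43_2 (flp_e L11943) L8337 L11943
theorem L11951 : sm gi N1362 = N950 := ded_44_2 (flp_e L8366) (flp_i L8338) L11943
theorem L11953 : sm gd N947 = N1363 := rfl
theorem L11955 : sm gg N1363 = N956 := ded_36_2 (flp_d L8414) (flp_g L8345) L11953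
theorem L11957 : sm gi N1363 = N951 := ded_39_2 (flp_d L8375) (flp_i L8348) L11953
theorem L11959 : sm ge N1363 = N1363 := ded_34_2 (flp_d L11953) (flp_e L8341) L5781 L8341 L11953
theorem L11960 : sm gf N947 = N1364 := rfl
theorem L11962 : sm gc N1364 = N948 := ded_29_1 (flp_f L8350) (flp_c L8343) L11960
theorem L11964 : sm gh N1364 = N1364 := ded_47_2 (flp_f L11960) L8347 L11960
theorem L11965 : sm gi N1364 = N952 := ded_48_2 (flp_f L8380) (flp_i L8348) L11960
theorem L11967 : sm ge N1364 = N1364 := ded_40_1 (flp_f L11960) (flp_e L8341) L5775 L8341 L11960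
theorem L11968 : sm gg N948 = N1365 := rfl
theorem L11970 : sm gb N1365 = N1365 := ded_23_1 (flp_g L11968) L8352 L11968
theorem L11971 : sm ge N1365 = N1365 := ded_41_1 (flp_g L11968) L8356 L11968
theorem L11972 : sm gh N1365 = N1365 := ded_50_2 (flp_g L11968) L8353 L11968
theorem L11973 : sm gi N1365 = N953 := ded_51_2 (flp_g L8387) (flp_i L8354) L11968
theorem L11975 : sm gf N1365 = N958 := ded_45_1 (flp_g L8430) (flp_f L5831) (flp_g L5785) L8350 L11968
theorem L11977 : sm ge N949 = N1366 := rfl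
theorem L11979 : sm ga N1366 = N950 := ded_13_1 (flp_e L8366) L8357 L11977
theorem L11981 : sm gc N1366 = N1366 := ded_28_1 (flp_e L11977) L8359 L11977
theorem L11982 : sm gg N1366 = N959 := ded_41_2 (flp_e L8438) (flp_g L8362) L11977
theorem L11984 : sm gh N1366 = N986 := ded_43_2 (flp_e L8654) (flp_h L8364) L11977
theorem L11986 : sm gd N950 = N1367 := rfl
theorem L11988 : sm gb N1367 = N951 := ded_20_1 (flp_d L8375) (flp_b L8368) L11986
theorem L11990 : sm gg N1367 = N960 := ded_36_2 (flp_d L8446) (flp_g L8371) L11986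
theorem L11992 : sm ge N1367 = N1367 := ded_34_2 (flp_d L11986) (flp_e L8366) L5792 L8366 L11986
theorem L11993 : sm gf N950 = N1368 := rfl
theorem L11995 : sm gb N1368 = N952 := ded_22_1 (flp_f L8380) (flp_b L8368) L11993
theorem L11997 : sm gc N1368 = N1368 := ded_29_1 (flp_f L11993) L8370 L11993
theorem L11998 : sm gh N1368 = N988 := ded_47_2 (flp_f L8671) (flp_h L8373) L11993
theorem L12000 : sm ge N1368 = N1368 := ded_40_1 (flp_f L11993) (flp_e L8366) L5793 L8366 L11993
theorem L12001 : sm gf N951 = N1369 := rfl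
theorem L12003 : sm gd N1369 = N952 := ded_35_1 (flp_f L8380) L8375 L12001
theorem L12005 : sm gh N951 = N1370 := rfl
theorem L12007 : sm ge N1370 = N1370 := ded_43_1 (flp_h L12005) L8379 L12005
theorem L12008 : sm gg N1370 = N963 := ded_50_1 (flp_h L8467) (flp_g L8377) L12005
theorem L12010 : sm gd N1370 = N990 := ded_38_1 (flp_h L8684) (flp_d L6010) (flp_h L5805) L8375 L12005
theorem L12012 : sm gg N952 = N1371 := rfl
theorem L12014 : sm gc N1371 = N953 := ded_30_1 (flp_g L8387) (flp_c L8382) L12012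
theorem L12016 : sm ge N1371 = N1371 := ded_41_1 (flp_g L12012) L8386 L12012
theorem L12017 : sm gh N1371 = N991 := ded_50_2 (flp_g L8691) (flp_h L8384) L12012
theorem L12019 : sm gf N1371 = N964 := ded_45_1 (flp_g L8473) (flp_f L5861) (flp_g L5803) L8380 L12012
theorem L12021 : sm gj N953 = N1372 := rfl
theorem L12023 : sm gb N1372 = N1372 := ded_24_1 (flp_j L12021) L8389 L12021
theorem L12024 : sm ge N1372 = N1372 := ded_42_1 (flp_j L12021) L8390 L12021
theorem L12025 : sm gf N1372 = N965 := ded_46_1 (flp_j L8481) (flp_f L8393) L12021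
theorem L12027 : sm gh N1372 = N992 := ded_52_2 (flp_j L8699) (flp_h L8391) L12021
theorem L12029 : sm ge N954 = N1373 := rfl
theorem L12031 : sm ga N1373 = N955 := ded_13_1 (flp_e L8405) L8395 L12029
theorem L12033 : sm gc N1373 = N1373 := ded_28_1 (flp_e L12029) L8397 L12029
theorem L12034 : sm gj N1373 = N1373 := ded_42_2 (flp_e L12029) L8401 L12029
theorem L12035 : sm gh N1373 = N1373 := ded_43_2 (flp_e L12029) L8402 L12029
theorem L12036 : sm gi N1373 = N959 := ded_44_2 (flp_e L8438) (flp_i L8403) L12029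
theorem L12038 : sm gd N955 = N1374 := rfl
theorem L12040 : sm gb N1374 = N956 := ded_20_1 (flp_d L8414) (flp_b L8407) L12038
theorem L12042 : sm gj N1374 = N1374 := ded_37_2 (flp_d L12038) L8410 L12038
theorem L12043 : sm gi N1374 = N960 := ded_39_2 (flp_d L8446) (flp_i L8412) L12038
theorem L12045 : sm ge N1374 = N1374 := ded_34_2 (flp_d L12038) (flp_e L8405) L5815 L8405 L12038
theorem L12046 : sm gf N955 = N1375 := rfl
theorem L12048 : sm gb N1375 = N957 := ded_22_1 (flp_f L8420) (flp_b L8407) L12046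
theorem L12050 : sm gc N1375 = N1375 := ded_29_1 (flp_f L12046) L8409 L12046
theorem L12051 : sm gj N1375 = N1375 := ded_46_2 (flp_f L12046) L8410 L12046
theorem L12052 : sm gh N1375 = N1375 := ded_47_2 (flp_f L12046) L8411 L12046
theorem L12053 : sm gi N1375 = N961 := ded_48_2 (flp_f L8452) (flp_i L8412) L12046
theorem L12055 : sm ge N1375 = N968 := ded_40_1 (flp_f L8508) (flp_e L5886) (flp_f L5816) L8405 L12046
theorem L12057 : sm gf N956 = N1376 := rfl
theorem L12059 : sm gd N1376 = N957 := ded_35_1 (flp_f L8420) L8414 L12057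
theorem L12061 : sm gj N1376 = N1376 := ded_46_2 (flp_f L12057) L8416 L12057
theorem L12062 : sm gi N1376 = N962 := ded_48_2 (flp_f L8462) (flp_i L8417) L12057
theorem L12064 : sm gh N956 = N1377 := rfl
theorem L12066 : sm ge N1377 = N1377 := ded_43_1 (flp_h L12064) L8419 L12064
theorem L12067 : sm gj N1377 = N1377 := ded_52_1 (flp_h L12064) L8416 L12064
theorem L12068 : sm gd N1377 = N1377 := ded_38_1 (flp_h L12064) (flp_d L8414) L5828 L8414 L12064
theorem L12069 : sm gg N957 = N1378 := rfl
theorem L12071 : sm gc N1378 = N958 := ded_30_1 (flp_g L8430) (flp_c L8422) L12069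
theorem L12073 : sm ge N1378 = N971 := ded_41_1 (flp_g L8533) (flp_e L8428) L12069
theorem L12075 : sm gh N1378 = N1378 := ded_50_2 (flp_g L12069) L8425 L12069
theorem L12076 : sm gi N1378 = N964 := ded_51_2 (flp_g L8473) (flp_i L8426) L12069
theorem L12078 : sm gj N958 = N1379 := rfl
theorem L12080 : sm gb N1379 = N1379 := ded_24_1 (flp_j L12078) L8432 L12078
theorem L12081 : sm ge N1379 = N972 := ded_42_1 (flp_j L8541) (flp_e L8433) L12078
theorem L12083 : sm gh N1379 = N1379 := ded_52_2 (flp_j L12078) L8435 L12078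
theorem L12084 : sm gi N1379 = N965 := ded_53_2 (flp_j L8481) (flp_i L8436) L12078
theorem L12086 : sm gg N1379 = N1379 := ded_49_1 (flp_j L12078) (flp_g L8430) L5834 L8430 L12078
theorem L12087 : sm gd N959 = N1380 := rfl
theorem L12089 : sm ga N1380 = N960 := ded_12_1 (flp_d L8446) (flp_a L8440) L12087
theorem L12091 : sm gj N1380 = N1380 := ded_37_2 (flp_d L12087) L8443 L12087
theorem L12092 : sm ge N1380 = N1380 := ded_34_2 (flp_d L12087) (flp_e L8438) L5843 L8438 L12087
theorem L12093 : sm gf N959 = N1381 := rfl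
theorem L12095 : sm ga N1381 = N961 := ded_14_1 (flp_f L8452) (flp_a L8440) L12093
theorem L12097 : sm gc N1381 = N1381 := ded_29_1 (flp_f L12093) L8442 L12093
theorem L12098 : sm gj N1381 = N1381 := ded_46_2 (flp_f L12093) L8443 L12093
theorem L12099 : sm gh N1381 = N994 := ded_47_2 (flp_f L8715) (flp_h L8444) L12093
theorem L12101 : sm ge N1381 = N974 := ded_40_1 (flp_f L8558) (flp_e L5920) (flp_f L5844) L8438 L12093
theorem L12103 : sm gc N960 = N1382 := rfl
theorem L12108 : sm gf N960 = N1383 := rfl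
theorem L12110 : sm gb N1383 = N962 := ded_22_1 (flp_f L8462) (flp_b L8448) L12108
theorem L12112 : sm gd N1383 = N961 := ded_35_1 (flp_f L8452) L8446 L12108
theorem L12114 : sm gj N1383 = N1383 := ded_46_2 (flp_f L12108) L8450 L12108
theorem L12115 : sm gh N960 = N1384 := rfl
theorem L12117 : sm gb N1384 = N963 := ded_25_1 (flp_h L8467) (flp_b L8448) L12115
theorem L12123 : sm gg N961 = N1385 := rfl
theorem L12125 : sm gb N1385 = N964 := ded_23_1 (flp_g L8473) (flp_b L8454) L12123
theorem L12127 : sm gc N1385 = N1385 := ded_30_1 (flp_g L12123) L8456 L12123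
theorem L12128 : sm ge N1385 = N977 := ded_41_1 (flp_g L8582) (flp_e L8460) L12123
theorem L12130 : sm gh N1385 = N998 := ded_50_2 (flp_g L8748) (flp_h L8458) L12123
theorem L12132 : sm ge N962 = N1386 := rfl
theorem L12134 : sm gj N1386 = N1386 := ded_42_2 (flp_e L12132) L8466 L12132
theorem L12135 : sm gd N1386 = N978 := ded_34_1 (flp_e L8590) L5948 (flp_e L5868) (flp_d L8464) L12132
theorem L12137 : sm gf N1386 = N1386 := ded_40_2 (flp_e L12132) (flp_f L8462) L5860 L8462 L12132
theorem L12138 : sm gg N962 = N1387 := rfl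
theorem L12140 : sm gd N1387 = N964 := ded_36_1 (flp_g L8473) (flp_d L8464) L12138
theorem L12142 : sm gh N962 = N1388 := rfl
theorem L12144 : sm gf N1388 = N963 := ded_47_1 (flp_h L8467) L8462 L12142
theorem L12146 : sm gj N1388 = N1388 := ded_52_1 (flp_h L12142) L8466 L12142
theorem L12147 : sm gd N1388 = N1000 := ded_38_1 (flp_h L8763) L6059 (flp_h L5866) (flp_d L8464) L12142
theorem L12149 : sm gi N963 = N1389 := rfl
theorem L12151 : sm gd N1389 = N1001 := ded_39_1 (flp_i L8770) (flp_d L8471) L12149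
theorem L12155 : sm gj N964 = N1390 := rfl
theorem L12157 : sm gc N1390 = N965 := ded_31_1 (flp_j L8481) (flp_c L8475) L12155
theorem L12159 : sm ge N1390 = N980 := ded_42_1 (flp_j L8603) (flp_e L8477) L12155
theorem L12161 : sm gh N1390 = N1002 := ded_52_2 (flp_j L8777) (flp_h L8479) L12155
theorem L12163 : sm gg N1390 = N1390 := ded_49_1 (flp_j L12155) (flp_g L8473) L5865 L8473 L12155
theorem L12164 : sm gd N966 = N1391 := rfl
theorem L12166 : sm ga N1391 = N967 := ded_12_1 (flp_d L8499) (flp_a L8491) L12164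
theorem L12168 : sm gg N1391 = N1391 := ded_36_2 (flp_d L12164) L8494 L12164
theorem L12169 : sm gj N1391 = N1391 := ded_37_2 (flp_d L12164) L8495 L12164
theorem L12170 : sm gi N1391 = N973 := ded_39_2 (flp_d L8550) (flp_i L8497) L12164
theorem L12172 : sm ge N1391 = N1391 := ded_34_2 (flp_d L12164) (flp_e L8489) L5880 L8489 L12164
theorem L12173 : sm gf N966 = N1392 := rfl
theorem L12175 : sm ga N1392 = N968 := ded_14_1 (flp_f L8508) (flp_a L8491) L12173
theorem L12177 : sm gc N1392 = N1392 := ded_29_1 (flp_f L12173) L8493 L12173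
theorem L12178 : sm gj N1392 = N1392 := ded_46_2 (flp_f L12173) L8495 L12173
theorem L12179 : sm gh N1392 = N1392 := ded_47_2 (flp_f L12173) L8496 L12173
theorem L12180 : sm gi N1392 = N974 := ded_48_2 (flp_f L8558) (flp_i L8497) L12173
theorem L12182 : sm gc N967 = N1393 := rfl
theorem L12184 : sm ge N1393 = N1393 := ded_28_2 (flp_c L12182) L8507 L12182
theorem L12185 : sm gg N1393 = N1393 := ded_30_2 (flp_c L12182) L8503 L12182
theorem L12186 : sm gj N1393 = N1393 := ded_31_2 (flp_c L12182) L8504 L12182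
theorem L12187 : sm gi N1393 = N975 := ded_33_2 (flp_c L8566) (flp_i L8505) L12182
theorem L12189 : sm gb N1393 = N1393 := ded_19_1 (flp_c L12182) L8501 L5902 (flp_b L8501) L12182
theorem L12190 : sm gd N1393 = N1393 := ded_27_2 (flp_c L12182) (flp_d L8499) L5890 L8499 L12182
theorem L12191 : sm gf N967 = N1394 := rfl
theorem L12193 : sm gb N1394 = N969 := ded_22_1 (flp_f L8517) (flp_b L8501) L12191
theorem L12195 : sm gd N1394 = N968 := ded_35_1 (flp_f L8508) L8499 L12191
theorem L12197 : sm gj N1394 = N1394 := ded_46_2 (flp_f L12191) L8504 L12191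
theorem L12198 : sm gi N1394 = N976 := ded_48_2 (flp_f L8574) (flp_i L8505) L12191
theorem L12200 : sm gh N967 = N1395 := rfl
theorem L12202 : sm gb N1395 = N970 := ded_25_1 (flp_h L8525) (flp_b L8501) L12200
theorem L12204 : sm ge N1395 = N1395 := ded_43_1 (flp_h L12200) L8507 L12200
theorem L12205 : sm gg N1395 = N1395 := ded_50_1 (flp_h L12200) L8503 L12200
theorem L12206 : sm gj N1395 = N1395 := ded_52_1 (flp_h L12200) L8504 L12200
theorem L12207 : sm gd N1395 = N1395 := ded_38_1 (flp_h L12200) (flp_d L8499) L5893 L8499 L12200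
theorem L12208 : sm gi N1395 = N1395 := ded_54_2 (flp_h L12200) L8505 L5936 (flp_i L8505) L12200
theorem L12209 : sm gg N968 = N1396 := rfl
theorem L12211 : sm gb N1396 = N971 := ded_23_1 (flp_g L8533) (flp_b L8510) L12209
theorem L12213 : sm gc N1396 = N1396 := ded_30_1 (flp_g L12209) L8512 L12209
theorem L12214 : sm gh N1396 = N1396 := ded_50_2 (flp_g L12209) L8514 L12209
theorem L12215 : sm gi N1396 = N977 := ded_51_2 (flp_g L8582) (flp_i L8515) L12209
theorem L12217 : sm gf N1396 = N1396 := ded_45_1 (flp_g L12209) (flp_f L8508) L5891 L8508 L12209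
theorem L12218 : sm ge N969 = N1397 := rfl
theorem L12220 : sm gc N1397 = N1397 := ded_28_1 (flp_e L12218) L8519 L12218
theorem L12221 : sm gj N1397 = N1397 := ded_42_2 (flp_e L12218) L8522 L12218
theorem L12222 : sm gi N1397 = N978 := ded_44_2 (flp_e L8590) (flp_i L8523) L12218
theorem L12224 : sm gf N1397 = N1397 := ded_40_2 (flp_e L12218) (flp_f L8517) L5903 L8517 L12218
theorem L12225 : sm gg N969 = N1398 := rfl
theorem L12227 : sm gc N1398 = N1398 := ded_30_1 (flp_g L12225) L8519 L12225
theorem L12228 : sm gd N1398 = N971 := ded_36_1 (flp_g L8533) (flp_d L8520) L12225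
theorem L12230 : sm gi N1398 = N979 := ded_51_2 (flp_g L8596) (flp_i L8523) L12225
theorem L12232 : sm gf N1398 = N1398 := ded_45_1 (flp_g L12225) (flp_f L8517) L5898 L8517 L12225
theorem L12233 : sm gh N969 = N1399 := rfl
theorem L12235 : sm gc N1399 = N1399 := ded_32_1 (flp_h L12233) L8519 L12233
theorem L12236 : sm gf N1399 = N970 := ded_47_1 (flp_h L8525) L8517 L12233
theorem L12238 : sm gj N1399 = N1399 := ded_52_1 (flp_h L12233) L8522 L12233
theorem L12239 : sm gd N1399 = N1399 := ded_38_1 (flp_h L12233) L8520 L5909 (flp_d L8520) L12233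
theorem L12240 : sm gi N1399 = N1399 := ded_54_2 (flp_h L12233) L8523 L5951 (flp_i L8523) L12233
theorem L12241 : sm gj N971 = N1400 := rfl
theorem L12243 : sm gc N1400 = N972 := ded_31_1 (flp_j L8541) (flp_c L8535) L12241
theorem L12245 : sm gf N1400 = N1400 := ded_46_1 (flp_j L12241) L8540 L12241
theorem L12246 : sm gh N1400 = N1400 := ded_52_2 (flp_j L12241) L8537 L12241
theorem L12247 : sm gi N1400 = N980 := ded_53_2 (flp_j L8603) (flp_i L8538) L12241
theorem L12249 : sm gg N1400 = N1400 := ded_49_1 (flp_j L12241) (flp_g L8533) L5908 L8533 L12241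
theorem L12250 : sm gc N973 = N1401 := rfl
theorem L12252 : sm ga N1401 = N975 := ded_11_1 (flp_c L8566) (flp_a L8552) L12250
theorem L12254 : sm ge N1401 = N1401 := ded_28_2 (flp_c L12250) L8556 L12250
theorem L12255 : sm gg N1401 = N1401 := ded_30_2 (flp_c L12250) L8554 L12250
theorem L12256 : sm gj N1401 = N1401 := ded_31_2 (flp_c L12250) L8555 L12250
theorem L12257 : sm gh N1401 = N1401 := ded_32_2 (flp_c L12250) L8557 L12250
theorem L12258 : sm gd N1401 = N1401 := ded_27_2 (flp_c L12250) (flp_d L8550) L5924 L8550 L12250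
theorem L12259 : sm gf N973 = N1402 := rfl
theorem L12261 : sm ga N1402 = N976 := ded_14_1 (flp_f L8574) (flp_a L8552) L12259
theorem L12263 : sm gd N1402 = N974 := ded_35_1 (flp_f L8558) L8550 L12259
theorem L12265 : sm gj N1402 = N1402 := ded_46_2 (flp_f L12259) L8555 L12259
theorem L12266 : sm gh N1402 = N1402 := ded_47_2 (flp_f L12259) L8557 L12259
theorem L12267 : sm gg N974 = N1403 := rfl
theorem L12269 : sm ga N1403 = N977 := ded_15_1 (flp_g L8582) (flp_a L8560) L12267
theorem L12271 : sm gc N1403 = N1403 := ded_30_1 (flp_g L12267) L8562 L12267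
theorem L12272 : sm gh N1403 = N1003 := ded_50_2 (flp_g L8785) (flp_h L8564) L12267
theorem L12274 : sm gf N1403 = N1403 := ded_45_1 (flp_g L12267) (flp_f L8558) L5925 L8558 L12267
theorem L12275 : sm gf N975 = N1404 := rfl
theorem L12277 : sm gb N1404 = N1404 := ded_22_1 (flp_f L12275) L8572 L12275
theorem L12278 : sm gc N1404 = N976 := ded_29_1 (flp_f L8574) L8566 L12275
theorem L12280 : sm gd N1404 = N1404 := ded_35_1 (flp_f L12275) L8573 L12275
theorem L12281 : sm gj N1404 = N1404 := ded_46_2 (flp_f L12275) L8570 L12275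
theorem L12282 : sm gh N1404 = N1404 := ded_47_2 (flp_f L12275) L8571 L12275
theorem L12283 : sm ge N976 = N1405 := rfl
theorem L12285 : sm gb N1405 = N978 := ded_21_1 (flp_e L8590) (flp_b L8576) L12283
theorem L12287 : sm gj N1405 = N1405 := ded_42_2 (flp_e L12283) L8580 L12283
theorem L12288 : sm gh N1405 = N1405 := ded_43_2 (flp_e L12283) L8581 L12283
theorem L12289 : sm gf N1405 = N1405 := ded_40_2 (flp_e L12283) (flp_f L8574) L5935 L8574 L12283
theorem L12290 : sm gg N976 = N1406 := rfl
theorem L12292 : sm gb N1406 = N979 := ded_23_1 (flp_g L8596) (flp_b L8576) L12290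
theorem L12294 : sm gd N1406 = N977 := ded_36_1 (flp_g L8582) (flp_d L8578) L12290
theorem L12296 : sm gh N1406 = N1406 := ded_50_2 (flp_g L12290) L8581 L12290
theorem L12297 : sm gf N1406 = N1406 := ded_45_1 (flp_g L12290) (flp_f L8574) L5933 L8574 L12290
theorem L12298 : sm gj N977 = N1407 := rfl
theorem L12300 : sm gb N1407 = N980 := ded_24_1 (flp_j L8603) (flp_b L8584) L12298
theorem L12302 : sm gc N1407 = N1407 := ded_31_1 (flp_j L12298) L8586 L12298
theorem L12303 : sm gf N1407 = N1407 := ded_46_1 (flp_j L12298) L8589 L12298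
theorem L12304 : sm gh N1407 = N1004 := ded_52_2 (flp_j L8793) (flp_h L8587) L12298
theorem L12306 : sm gg N1407 = N1407 := ded_49_1 (flp_j L12298) (flp_g L8582) L5942 L8582 L12298
theorem L12307 : sm gg N978 = N1408 := rfl
theorem L12309 : sm gc N1408 = N1408 := ded_30_1 (flp_g L12307) L8592 L12307
theorem L12310 : sm ge N1408 = N979 := ded_41_1 (flp_g L8596) L8590 L12307
theorem L12312 : sm gh N1408 = N1408 := ded_50_2 (flp_g L12307) L8594 L12307
theorem L12313 : sm gj N979 = N1409 := rfl
theorem L12315 : sm gc N1409 = N1409 := ded_31_1 (flp_j L12313) L8598 L12313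
theorem L12316 : sm gd N1409 = N980 := ded_37_1 (flp_j L8603) (flp_d L8599) L12313
theorem L12318 : sm gf N1409 = N1409 := ded_46_1 (flp_j L12313) L8602 L12313
theorem L12319 : sm gh N1409 = N1409 := ded_52_2 (flp_j L12313) L8601 L12313
theorem L12320 : sm gg N1409 = N1409 := ded_49_1 (flp_j L12313) (flp_g L8596) L5950 L8596 L12313
theorem L12321 : sm ge N981 = N1410 := rfl
theorem L12323 : sm ga N1410 = N982 := ded_13_1 (flp_e L8621) L8611 L12321
theorem L12325 : sm gc N1410 = N1410 := ded_28_1 (flp_e L12321) L8613 L12321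
theorem L12326 : sm gg N1410 = N1410 := ded_41_2 (flp_e L12321) L8617 L12321
theorem L12327 : sm gj N1410 = N986 := ded_42_2 (flp_e L8654) (flp_j L8618) L12321
theorem L12329 : sm gi N1410 = N1410 := ded_44_2 (flp_e L12321) L8620 L12321
theorem L12330 : sm gd N982 = N1411 := rfl
theorem L12332 : sm gb N1411 = N983 := ded_20_1 (flp_d L8630) (flp_b L8623) L12330
theorem L12334 : sm gg N1411 = N1411 := ded_36_2 (flp_d L12330) L8626 L12330
theorem L12335 : sm gj N1411 = N987 := ded_37_2 (flp_d L8662) (flp_j L8627) L12330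
theorem L12337 : sm gi N1411 = N1411 := ded_39_2 (flp_d L12330) L8629 L12330
theorem L12338 : sm ge N1411 = N1006 := ded_34_2 (flp_d L8813) (flp_e L6119) (flp_d L5969) L8621 L12330
theorem L12340 : sm gf N982 = N1412 := rfl
theorem L12342 : sm gb N1412 = N984 := ded_22_1 (flp_f L8639) (flp_b L8623) L12340
theorem L12344 : sm gc N1412 = N1412 := ded_29_1 (flp_f L12340) L8625 L12340
theorem L12345 : sm gj N1412 = N988 := ded_46_2 (flp_f L8671) (flp_j L8627) L12340
theorem L12347 : sm gi N1412 = N1412 := ded_48_2 (flp_f L12340) L8629 L12340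
theorem L12348 : sm ge N1412 = N1412 := ded_40_1 (flp_f L12340) (flp_e L8621) L5971 L8621 L12340
theorem L12349 : sm gf N983 = N1413 := rfl
theorem L12351 : sm gc N1413 = N1413 := ded_29_1 (flp_f L12349) L8636 L12349
theorem L12352 : sm gd N1413 = N984 := ded_35_1 (flp_f L8639) L8630 L12349
theorem L12354 : sm gj N1413 = N989 := ded_46_2 (flp_f L8678) (flp_j L8633) L12349
theorem L12356 : sm gi N1413 = N1413 := ded_48_2 (flp_f L12349) L8635 L12349
theorem L12357 : sm gh N983 = N1414 := rfl
theorem L12359 : sm gc N1414 = N1414 := ded_32_1 (flp_h L12357) L8636 L12357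
theorem L12360 : sm ge N1414 = N1009 := ded_43_1 (flp_h L8840) (flp_e L8637) L12357
theorem L12362 : sm gg N1414 = N1414 := ded_50_1 (flp_h L12357) L8632 L12357
theorem L12363 : sm gj N1414 = N990 := ded_52_1 (flp_h L8684) (flp_j L8633) L12357
theorem L12365 : sm gg N984 = N1415 := rfl
theorem L12367 : sm gc N1415 = N985 := ded_30_1 (flp_g L8647) (flp_c L8641) L12365
theorem L12369 : sm ge N1415 = N1415 := ded_41_1 (flp_g L12365) L8646 L12365
theorem L12370 : sm gi N1415 = N1415 := ded_51_2 (flp_g L12365) L8645 L12365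
theorem L12371 : sm gf N1415 = N1415 := ded_45_1 (flp_g L12365) (flp_f L8639) L5981 L8639 L12365
theorem L12372 : sm gj N985 = N1416 := rfl
theorem L12374 : sm gb N1416 = N1416 := ded_24_1 (flp_j L12372) L8649 L12372
theorem L12375 : sm gd N1416 = N1416 := ded_37_1 (flp_j L12372) L8650 L12372
theorem L12376 : sm ge N1416 = N1416 := ded_42_1 (flp_j L12372) L8651 L12372
theorem L12377 : sm gf N1416 = N1416 := ded_46_1 (flp_j L12372) L8653 L12372
theorem L12378 : sm gi N1416 = N1416 := ded_53_2 (flp_j L12372) L8652 L12372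
theorem L12379 : sm gg N1416 = N992 := ded_49_1 (flp_j L8699) (flp_g L6024) (flp_j L5989) L8647 L12372
theorem L12381 : sm gd N986 = N1417 := rfl
theorem L12383 : sm ga N1417 = N987 := ded_12_1 (flp_d L8662) (flp_a L8656) L12381
theorem L12385 : sm gg N1417 = N993 := ded_36_2 (flp_d L8707) (flp_g L8659) L12381
theorem L12387 : sm gi N1417 = N1417 := ded_39_2 (flp_d L12381) L8661 L12381
theorem L12388 : sm ge N1417 = N1011 := ded_34_2 (flp_d L8856) (flp_e L6156) (flp_d L5996) L8654 L12381
theorem L12390 : sm gf N986 = N1418 := rfl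
theorem L12392 : sm ga N1418 = N988 := ded_14_1 (flp_f L8671) (flp_a L8656) L12390
theorem L12394 : sm gc N1418 = N1418 := ded_29_1 (flp_f L12390) L8658 L12390
theorem L12395 : sm gi N1418 = N1418 := ded_48_2 (flp_f L12390) L8661 L12390
theorem L12396 : sm ge N1418 = N1418 := ded_40_1 (flp_f L12390) (flp_e L8654) L5998 L8654 L12390
theorem L12397 : sm gc N987 = N1419 := rfl
theorem L12399 : sm ge N1419 = N1013 := ded_28_2 (flp_c L8873) (flp_e L8669) L12397
theorem L12401 : sm gg N1419 = N995 := ded_30_2 (flp_c L8724) (flp_g L8666) L12397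
theorem L12406 : sm gf N987 = N1420 := rfl
theorem L12408 : sm gb N1420 = N989 := ded_22_1 (flp_f L8678) (flp_b L8664) L12406
theorem L12410 : sm gd N1420 = N988 := ded_35_1 (flp_f L8671) L8662 L12406
theorem L12412 : sm gi N1420 = N1420 := ded_48_2 (flp_f L12406) L8668 L12406
theorem L12413 : sm gh N987 = N1421 := rfl
theorem L12415 : sm gb N1421 = N990 := ded_25_1 (flp_h L8684) (flp_b L8664) L12413
theorem L12421 : sm gg N988 = N1422 := rfl
theorem L12423 : sm gb N1422 = N991 := ded_23_1 (flp_g L8691) (flp_b L8673) L12421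
theorem L12425 : sm gc N1422 = N1422 := ded_30_1 (flp_g L12421) L8675 L12421
theorem L12426 : sm ge N1422 = N1422 := ded_41_1 (flp_g L12421) L8677 L12421
theorem L12427 : sm gi N1422 = N1422 := ded_51_2 (flp_g L12421) L8676 L12421
theorem L12428 : sm gf N1422 = N998 := ded_45_1 (flp_g L8748) (flp_f L6047) (flp_g L6007) L8671 L12421
theorem L12430 : sm ge N989 = N1423 := rfl
theorem L12432 : sm gc N1423 = N1423 := ded_28_1 (flp_e L12430) L8680 L12430
theorem L12433 : sm gi N1423 = N1423 := ded_44_2 (flp_e L12430) L8683 L12430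
theorem L12434 : sm gd N1423 = N1423 := ded_34_1 (flp_e L12430) L8681 L6023 (flp_d L8681) L12430
theorem L12435 : sm gf N1423 = N1016 := ded_40_2 (flp_e L8896) (flp_f L6183) (flp_e L6016) L8678 L12430
theorem L12437 : sm gg N989 = N1424 := rfl
theorem L12439 : sm gc N1424 = N1424 := ded_30_1 (flp_g L12437) L8680 L12437
theorem L12440 : sm gd N1424 = N991 := ded_36_1 (flp_g L8691) (flp_d L8681) L12437
theorem L12442 : sm gi N1424 = N1424 := ded_51_2 (flp_g L12437) L8683 L12437
theorem L12443 : sm gf N1424 = N999 := ded_45_1 (flp_g L8756) (flp_f L6056) (flp_g L6012) L8678 L12437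
theorem L12445 : sm gh N989 = N1425 := rfl
theorem L12447 : sm gc N1425 = N1425 := ded_32_1 (flp_h L12445) L8680 L12445
theorem L12448 : sm gf N1425 = N990 := ded_47_1 (flp_h L8684) L8678 L12445
theorem L12450 : sm gi N990 = N1426 := rfl
theorem L12453 : sm ge N1426 = N1018 := ded_44_1 (flp_i L8909) (flp_e L8687) L12450
theorem L12458 : sm gj N991 = N1427 := rfl
theorem L12460 : sm gc N1427 = N992 := ded_31_1 (flp_j L8699) (flp_c L8693) L12458
theorem L12462 : sm ge N1427 = N1427 := ded_42_1 (flp_j L12458) L8695 L12458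
theorem L12463 : sm gf N1427 = N1002 := ded_46_1 (flp_j L8777) (flp_f L8697) L12458
theorem L12465 : sm gi N1427 = N1427 := ded_53_2 (flp_j L12458) L8696 L12458
theorem L12466 : sm gc N993 = N1428 := rfl
theorem L12468 : sm ga N1428 = N995 := ded_11_1 (flp_c L8724) (flp_a L8709) L12466
theorem L12470 : sm ge N1428 = N1019 := ded_28_2 (flp_c L8916) (flp_e L8713) L12466
theorem L12475 : sm gf N993 = N1429 := rfl
theorem L12477 : sm ga N1429 = N996 := ded_14_1 (flp_f L8732) (flp_a L8709) L12475
theorem L12479 : sm gd N1429 = N994 := ded_35_1 (flp_f L8715) L8707 L12475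
theorem L12481 : sm gj N1429 = N1429 := ded_46_2 (flp_f L12475) L8711 L12475
theorem L12482 : sm gi N1429 = N1429 := ded_48_2 (flp_f L12475) L8712 L12475
theorem L12483 : sm ge N1429 = N1429 := ded_40_1 (flp_f L12475) L8713 L6200 (flp_e L8713) L12475
theorem L12484 : sm gh N993 = N1430 := rfl
theorem L12491 : sm gg N994 = N1431 := rfl
theorem L12493 : sm ga N1431 = N998 := ded_15_1 (flp_g L8748) (flp_a L8717) L12491
theorem L12495 : sm gc N1431 = N1431 := ded_30_1 (flp_g L12491) L8719 L12491
theorem L12496 : sm ge N1431 = N1003 := ded_41_1 (flp_g L8785) (flp_e L8722) L12491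
theorem L12498 : sm gi N1431 = N1431 := ded_51_2 (flp_g L12491) L8721 L12491
theorem L12499 : sm gf N995 = N1432 := rfl
theorem L12502 : sm gc N1432 = N996 := ded_29_1 (flp_f L8732) L8724 L12499
theorem L12508 : sm gh N995 = N1433 := rfl
theorem L12511 : sm gc N1433 = N997 := ded_32_1 (flp_h L8741) L8724 L12508
theorem L12513 : sm ge N1433 = N1021 := ded_43_1 (flp_h L8932) (flp_e L8726) L12508
theorem L12516 : sm gg N996 = N1434 := rfl
theorem L12518 : sm gb N1434 = N999 := ded_23_1 (flp_g L8756) (flp_b L8734) L12516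
theorem L12520 : sm gd N1434 = N998 := ded_36_1 (flp_g L8748) (flp_d L8736) L12516
theorem L12522 : sm ge N1434 = N1434 := ded_41_1 (flp_g L12516) L8740 L12516
theorem L12523 : sm gi N1434 = N1434 := ded_51_2 (flp_g L12516) L8739 L12516
theorem L12524 : sm gh N996 = N1435 := rfl
theorem L12540 : sm gj N998 = N1437 := rfl
theorem L12542 : sm gb N1437 = N1002 := ded_24_1 (flp_j L8777) (flp_b L8750) L12540
theorem L12544 : sm gc N1437 = N1437 := ded_31_1 (flp_j L12540) L8752 L12540
theorem L12545 : sm ge N1437 = N1004 := ded_42_1 (flp_j L8793) (flp_e L8753) L12540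
theorem L12547 : sm gi N1437 = N1437 := ded_53_2 (flp_j L12540) L8755 L12540
theorem L12548 : sm gg N1437 = N1437 := ded_49_1 (flp_j L12540) (flp_g L8748) L6052 L8748 L12540
theorem L12549 : sm gj N999 = N1438 := rfl
theorem L12551 : sm gc N1438 = N1438 := ded_31_1 (flp_j L12549) L8758 L12549
theorem L12552 : sm gd N1438 = N1002 := ded_37_1 (flp_j L8777) (flp_d L8759) L12549
theorem L12554 : sm ge N1438 = N1438 := ded_42_1 (flp_j L12549) L8761 L12549
theorem L12555 : sm gi N1438 = N1438 := ded_53_2 (flp_j L12549) L8762 L12549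
theorem L12556 : sm gg N1438 = N1438 := ded_49_1 (flp_j L12549) (flp_g L8756) L6061 L8756 L12549
theorem L12557 : sm gh N999 = N1439 := rfl
theorem L12559 : sm gc N1439 = N1439 := ded_32_1 (flp_h L12557) L8758 L12557
theorem L12560 : sm ge N1439 = N1439 := ded_43_1 (flp_h L12557) L8761 L12557
theorem L12561 : sm gg N1439 = N1000 := ded_50_1 (flp_h L8763) L8756 L12557
theorem L12563 : sm gi N1000 = N1440 := rfl
theorem L12571 : sm gj N1003 = N1441 := rfl
theorem L12573 : sm ga N1441 = N1004 := ded_16_1 (flp_j L8793) (flp_a L8787) L12571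
theorem L12575 : sm gc N1441 = N1441 := ded_31_1 (flp_j L12571) L8789 L12571
theorem L12576 : sm gd N1441 = N1441 := ded_37_1 (flp_j L12571) L8790 L12571
theorem L12577 : sm gf N1441 = N1441 := ded_46_1 (flp_j L12571) L8792 L12571
theorem L12578 : sm gi N1441 = N1441 := ded_53_2 (flp_j L12571) L8791 L12571
theorem L12579 : sm gg N1441 = N1441 := ded_49_1 (flp_j L12571) (flp_g L8785) L6091 L8785 L12571
theorem L12580 : sm gd N1005 = N1442 := rfl
theorem L12582 : sm ga N1442 = N1006 := ded_12_1 (flp_d L8813) (flp_a L8804) L12580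
theorem L12584 : sm gg N1442 = N1442 := ded_36_2 (flp_d L12580) L8808 L12580
theorem L12585 : sm gj N1442 = N1011 := ded_37_2 (flp_d L8856) (flp_j L8809) L12580
theorem L12587 : sm gi N1442 = N1442 := ded_39_2 (flp_d L12580) L8812 L12580
theorem L12588 : sm gf N1005 = N1443 := rfl
theorem L12590 : sm ga N1443 = N1007 := ded_14_1 (flp_f L8821) (flp_a L8804) L12588
theorem L12592 : sm gc N1443 = N1024 := ded_29_1 (flp_f L8957) (flp_c L8806) L12588
theorem L12594 : sm gj N1443 = N1012 := ded_46_2 (flp_f L8863) (flp_j L8809) L12588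
theorem L12596 : sm gh N1443 = N1443 := ded_47_2 (flp_f L12588) L8811 L12588
theorem L12597 : sm gi N1443 = N1443 := ded_48_2 (flp_f L12588) L8812 L12588
theorem L12598 : sm ge N1443 = N1443 := ded_40_1 (flp_f L12588) (flp_e L8802) L6113 L8802 L12588
theorem L12599 : sm gc N1006 = N1444 := rfl
theorem L12602 : sm gj N1444 = N1013 := ded_31_2 (flp_c L8873) (flp_j L8818) L12599
theorem L12606 : sm gd N1444 = N1025 := ded_27_2 (flp_c L8967) (flp_d L6235) (flp_c L6123) L8813 L12599
theorem L12608 : sm gf N1006 = N1445 := rfl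
theorem L12610 : sm gb N1445 = N1008 := ded_22_1 (flp_f L8832) (flp_b L8815) L12608
theorem L12612 : sm gd N1445 = N1007 := ded_35_1 (flp_f L8821) L8813 L12608
theorem L12614 : sm gj N1445 = N1014 := ded_46_2 (flp_f L8881) (flp_j L8818) L12608
theorem L12616 : sm gi N1445 = N1445 := ded_48_2 (flp_f L12608) L8820 L12608
theorem L12617 : sm gh N1006 = N1446 := rfl
theorem L12622 : sm gj N1446 = N1015 := ded_52_1 (flp_h L8889) (flp_j L8818) L12617
theorem L12625 : sm gg N1007 = N1447 := rfl
theorem L12627 : sm gb N1447 = N1010 := ded_23_1 (flp_g L8847) (flp_b L8823) L12625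
theorem L12629 : sm gc N1447 = N1028 := ded_30_1 (flp_g L8993) (flp_c L8825) L12625
theorem L12631 : sm ge N1447 = N1447 := ded_41_1 (flp_g L12625) L8831 L12625
theorem L12632 : sm gh N1447 = N1447 := ded_50_2 (flp_g L12625) L8829 L12625
theorem L12633 : sm gi N1447 = N1447 := ded_51_2 (flp_g L12625) L8830 L12625
theorem L12634 : sm gf N1447 = N1447 := ded_45_1 (flp_g L12625) (flp_f L8821) L6125 L8821 L12625
theorem L12635 : sm gj N1447 = N1447 := ded_49_2 (flp_g L12625) L8827 L6182 (flp_j L8827) L12625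
theorem L12636 : sm ge N1008 = N1448 := rfl
theorem L12638 : sm gc N1448 = N1448 := ded_28_1 (flp_e L12636) L8834 L12636
theorem L12639 : sm gj N1448 = N1016 := ded_42_2 (flp_e L8896) (flp_j L8837) L12636
theorem L12641 : sm gi N1448 = N1448 := ded_44_2 (flp_e L12636) L8839 L12636
theorem L12642 : sm gd N1448 = N1448 := ded_34_1 (flp_e L12636) L8835 L6145 (flp_d L8835) L12636
theorem L12643 : sm gg N1008 = N1449 := rfl
theorem L12645 : sm gc N1449 = N1449 := ded_30_1 (flp_g L12643) L8834 L12643
theorem L12646 : sm gd N1449 = N1010 := ded_36_1 (flp_g L8847) (flp_d L8835) L12643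
theorem L12648 : sm gi N1449 = N1449 := ded_51_2 (flp_g L12643) L8839 L12643
theorem L12649 : sm gf N1449 = N1449 := ded_45_1 (flp_g L12643) (flp_f L8832) L6132 L8832 L12643
theorem L12650 : sm gj N1449 = N1449 := ded_49_2 (flp_g L12643) L8837 L6189 (flp_j L8837) L12643
theorem L12651 : sm gh N1008 = N1450 := rfl
theorem L12653 : sm gc N1450 = N1450 := ded_32_1 (flp_h L12651) L8834 L12651
theorem L12654 : sm gf N1450 = N1009 := ded_47_1 (flp_h L8840) L8832 L12651
theorem L12656 : sm gj N1450 = N1017 := ded_52_1 (flp_h L8902) (flp_j L8837) L12651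
theorem L12658 : sm gd N1450 = N1450 := ded_38_1 (flp_h L12651) L8835 L6143 (flp_d L8835) L12651
theorem L12659 : sm gi N1009 = N1451 := rfl
theorem L12667 : sm gc N1011 = N1452 := rfl
theorem L12669 : sm ga N1452 = N1013 := ded_11_1 (flp_c L8873) (flp_a L8858) L12667
theorem L12671 : sm gg N1452 = N1019 := ded_30_2 (flp_c L8916) (flp_g L8860) L12667
theorem L12674 : sm gd N1452 = N1033 := ded_27_2 (flp_c L9039) (flp_d L6281) (flp_c L6160) L8856 L12667
theorem L12676 : sm gf N1011 = N1453 := rfl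
theorem L12678 : sm ga N1453 = N1014 := ded_14_1 (flp_f L8881) (flp_a L8858) L12676
theorem L12680 : sm gd N1453 = N1012 := ded_35_1 (flp_f L8863) L8856 L12676
theorem L12682 : sm gi N1453 = N1453 := ded_48_2 (flp_f L12676) L8862 L12676
theorem L12683 : sm gg N1453 = N1453 := ded_45_2 (flp_f L12676) L8860 L6200 (flp_g L8860) L12676
theorem L12691 : sm gf N1013 = N1455 := rfl
theorem L12694 : sm gc N1455 = N1014 := ded_29_1 (flp_f L8881) L8873 L12691
theorem L12696 : sm gd N1455 = N1036 := ded_35_1 (flp_f L9065) (flp_d L8879) L12691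
theorem L12700 : sm gh N1013 = N1456 := rfl
theorem L12707 : sm ge N1014 = N1457 := rfl
theorem L12709 : sm gb N1457 = N1016 := ded_21_1 (flp_e L8896) (flp_b L8883) L12707
theorem L12711 : sm gg N1457 = N1457 := ded_41_2 (flp_e L12707) L8888 L12707
theorem L12712 : sm gi N1457 = N1457 := ded_44_2 (flp_e L12707) L8887 L12707
theorem L12713 : sm gd N1457 = N1457 := ded_34_1 (flp_e L12707) L8885 L6181 (flp_d L8885) L12707
theorem L12714 : sm gh N1014 = N1458 := rfl
theorem L12722 : sm gi N1015 = N1459 := rfl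
theorem L12727 : sm gg N1459 = N1022 := ded_51_1 (flp_i L8939) (flp_g L8893) L12722
theorem L12730 : sm gh N1016 = N1460 := rfl
theorem L12732 : sm gc N1460 = N1460 := ded_32_1 (flp_h L12730) L8898 L12730
theorem L12733 : sm ge N1460 = N1017 := ded_43_1 (flp_h L8902) L8896 L12730
theorem L12735 : sm gg N1460 = N1460 := ded_50_1 (flp_h L12730) L8899 L12730
theorem L12736 : sm gi N1017 = N1461 := rfl
theorem L12744 : sm gb N1019 = N1462 := rfl
theorem L12746 : sm gd N1462 = N1043 := ded_20_2 (flp_b L9122) (flp_d L8923) L12744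
theorem L12752 : sm gh N1019 = N1463 := rfl
theorem L12756 : sm gc N1463 = N1020 := ded_32_1 (flp_h L8925) L8916 L12752
theorem L12768 : sm gd N1021 = N1465 := rfl
theorem L12774 : sm gh N1465 = N1046 := ded_38_2 (flp_d L9149) (flp_h L6364) (flp_d L6209) L8932 L12768
theorem L12784 : sm gc N1023 = N1467 := rfl
theorem L12786 : sm ga N1467 = N1025 := ded_11_1 (flp_c L8967) (flp_a L8949) L12784
theorem L12790 : sm gj N1467 = N1033 := ded_31_2 (flp_c L9039) (flp_j L8953) L12784
theorem L12793 : sm gf N1023 = N1468 := rfl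
theorem L12795 : sm ga N1468 = N1026 := ded_14_1 (flp_f L8975) (flp_a L8949) L12793
theorem L12797 : sm gb N1468 = N1468 := ded_22_1 (flp_f L12793) L8951 L12793
theorem L12798 : sm gd N1468 = N1024 := ded_35_1 (flp_f L8957) L8947 L12793
theorem L12800 : sm gj N1468 = N1034 := ded_46_2 (flp_f L9047) (flp_j L8953) L12793
theorem L12802 : sm gi N1468 = N1468 := ded_48_2 (flp_f L12793) L8955 L12793
theorem L12803 : sm gh N1023 = N1469 := rfl
theorem L12805 : sm ga N1469 = N1027 := ded_17_1 (flp_h L8984) (flp_a L8949) L12803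
theorem L12810 : sm gj N1469 = N1035 := ded_52_1 (flp_h L9056) (flp_j L8953) L12803
theorem L12813 : sm gg N1024 = N1470 := rfl
theorem L12815 : sm ga N1470 = N1028 := ded_15_1 (flp_g L8993) (flp_a L8959) L12813
theorem L12817 : sm gb N1470 = N1470 := ded_23_1 (flp_g L12813) L8961 L12813
theorem L12818 : sm ge N1470 = N1470 := ded_41_1 (flp_g L12813) L8966 L12813
theorem L12819 : sm gh N1470 = N1470 := ded_50_2 (flp_g L12813) L8964 L12813
theorem L12820 : sm gi N1470 = N1470 := ded_51_2 (flp_g L12813) L8965 L12813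
theorem L12821 : sm gf N1470 = N1470 := ded_45_1 (flp_g L12813) (flp_f L8957) L6230 L8957 L12813
theorem L12822 : sm gj N1470 = N1470 := ded_49_2 (flp_g L12813) L8962 L6298 (flp_j L8962) L12813
theorem L12823 : sm gf N1025 = N1471 := rfl
theorem L12826 : sm gc N1471 = N1026 := ded_29_1 (flp_f L8975) L8967 L12823
theorem L12828 : sm gj N1471 = N1036 := ded_46_2 (flp_f L9065) (flp_j L8971) L12823
theorem L12831 : sm gh N1025 = N1472 := rfl
theorem L12838 : sm gj N1472 = N1037 := ded_52_1 (flp_h L9072) (flp_j L8971) L12831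
theorem L12840 : sm ge N1026 = N1473 := rfl
theorem L12842 : sm gb N1473 = N1029 := ded_21_1 (flp_e L9002) (flp_b L8977) L12840
theorem L12844 : sm gj N1473 = N1038 := ded_42_2 (flp_e L9080) (flp_j L8981) L12840
theorem L12846 : sm gi N1473 = N1473 := ded_44_2 (flp_e L12840) L8983 L12840
theorem L12847 : sm gd N1473 = N1473 := ded_34_1 (flp_e L12840) L8979 L6252 (flp_d L8979) L12840
theorem L12848 : sm gf N1473 = N1473 := ded_40_2 (flp_e L12840) (flp_f L8975) L6243 L8975 L12840
theorem L12849 : sm gg N1026 = N1474 := rfl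
theorem L12851 : sm gb N1474 = N1030 := ded_23_1 (flp_g L9011) (flp_b L8977) L12849
theorem L12853 : sm gd N1474 = N1028 := ded_36_1 (flp_g L8993) (flp_d L8979) L12849
theorem L12855 : sm gi N1474 = N1474 := ded_51_2 (flp_g L12849) L8983 L12849
theorem L12856 : sm gf N1474 = N1474 := ded_45_1 (flp_g L12849) (flp_f L8975) L6239 L8975 L12849
theorem L12857 : sm gj N1474 = N1474 := ded_49_2 (flp_g L12849) L8981 L6313 (flp_j L8981) L12849
theorem L12858 : sm gh N1026 = N1475 := rfl
theorem L12860 : sm gb N1475 = N1031 := ded_25_1 (flp_h L9020) (flp_b L8977) L12858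
theorem L12877 : sm gg N1029 = N1477 := rfl
theorem L12879 : sm ga N1477 = N1477 := ded_15_1 (flp_g L12877) L9004 L12877
theorem L12880 : sm gc N1477 = N1477 := ded_30_1 (flp_g L12877) L9005 L12877
theorem L12881 : sm gd N1477 = N1477 := ded_36_1 (flp_g L12877) L9009 L12877
theorem L12882 : sm ge N1477 = N1030 := ded_41_1 (flp_g L9011) L9002 L12877
theorem L12884 : sm gi N1477 = N1477 := ded_51_2 (flp_g L12877) L9008 L12877
theorem L12885 : sm gj N1477 = N1477 := ded_49_2 (flp_g L12877) L9006 L6326 (flp_j L9006) L12877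
theorem L12886 : sm gh N1029 = N1478 := rfl
theorem L12888 : sm ga N1478 = N1478 := ded_17_1 (flp_h L12886) L9004 L12886
theorem L12889 : sm gc N1478 = N1478 := ded_32_1 (flp_h L12886) L9005 L12886
theorem L12890 : sm ge N1478 = N1031 := ded_43_1 (flp_h L9020) L9002 L12886
theorem L12892 : sm gf N1478 = N1478 := ded_47_1 (flp_h L12886) L9010 L12886
theorem L12893 : sm gj N1478 = N1041 := ded_52_1 (flp_h L9105) (flp_j L9006) L12886
theorem L12895 : sm gh N1030 = N1479 := rfl
theorem L12897 : sm ga N1479 = N1479 := ded_17_1 (flp_h L12895) L9013 L12895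
theorem L12898 : sm gc N1479 = N1479 := ded_32_1 (flp_h L12895) L9014 L12895
theorem L12899 : sm gf N1479 = N1479 := ded_47_1 (flp_h L12895) L9018 L12895
theorem L12900 : sm gg N1479 = N1031 := ded_50_1 (flp_h L9020) L9011 L12895
theorem L12902 : sm gj N1479 = N1479 := ded_52_1 (flp_h L12895) L9019 L12895
theorem L12903 : sm gd N1479 = N1479 := ded_38_1 (flp_h L12895) L9015 L6277 (flp_d L9015) L12895
theorem L12904 : sm gi N1031 = N1480 := rfl
theorem L12909 : sm gf N1480 = N1032 := ded_48_1 (flp_i L9029) (flp_f L9024) L12904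
theorem L12911 : sm gj N1480 = N1042 := ded_53_1 (flp_i L9113) (flp_j L9026) L12904
theorem L12914 : sm gb N1033 = N1481 := rfl
theorem L12917 : sm gg N1481 = N1043 := ded_23_2 (flp_b L9122) (flp_g L9044) L12914
theorem L12922 : sm gf N1033 = N1482 := rfl
theorem L12926 : sm gc N1482 = N1034 := ded_29_1 (flp_f L9047) L9039 L12922
theorem L12930 : sm gh N1033 = N1483 := rfl
theorem L12937 : sm gg N1483 = N1044 := ded_50_1 (flp_h L9130) (flp_g L9044) L12930
theorem L12939 : sm ge N1034 = N1484 := rfl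
theorem L12941 : sm ga N1484 = N1038 := ded_13_1 (flp_e L9080) (flp_a L9049) L12939
theorem L12943 : sm gb N1484 = N1484 := ded_21_1 (flp_e L12939) L9051 L12939
theorem L12944 : sm gg N1484 = N1484 := ded_41_2 (flp_e L12939) L9055 L12939
theorem L12945 : sm gi N1484 = N1484 := ded_44_2 (flp_e L12939) L9054 L12939
theorem L12946 : sm gd N1484 = N1484 := ded_34_1 (flp_e L12939) L9052 L6297 (flp_d L9052) L12939
theorem L12947 : sm gf N1484 = N1484 := ded_40_2 (flp_e L12939) (flp_f L9047) L6289 L9047 L12939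
theorem L12948 : sm gh N1034 = N1485 := rfl
theorem L12950 : sm ga N1485 = N1039 := ded_17_1 (flp_h L9088) (flp_a L9049) L12948
theorem L12953 : sm gf N1485 = N1035 := ded_47_1 (flp_h L9056) L9047 L12948
theorem L12957 : sm gi N1035 = N1486 := rfl
theorem L12967 : sm ge N1036 = N1487 := rfl
theorem L12970 : sm gc N1487 = N1038 := ded_28_1 (flp_e L9080) (flp_c L9068) L12967
theorem L12975 : sm gh N1036 = N1488 := rfl
theorem L12980 : sm gf N1488 = N1037 := ded_47_1 (flp_h L9072) L9065 L12975
theorem L12983 : sm gd N1037 = N1489 := rfl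
theorem L12998 : sm gh N1038 = N1491 := rfl
theorem L13000 : sm gb N1491 = N1041 := ded_25_1 (flp_h L9105) (flp_b L9082) L12998
theorem L13015 : sm gd N1041 = N1493 := rfl
theorem L13017 : sm ga N1493 = N1493 := ded_12_1 (flp_d L13015) L9107 L13015
theorem L13018 : sm gf N1493 = N1493 := ded_35_2 (flp_d L13015) L9111 L13015
theorem L13019 : sm gg N1493 = N1493 := ded_36_2 (flp_d L13015) L9112 L13015
theorem L13020 : sm ge N1493 = N1493 := ded_34_2 (flp_d L13015) L9109 L6337 (flp_e L9109) L13015
theorem L13021 : sm gh N1493 = N1493 := ded_38_2 (flp_d L13015) (flp_h L9105) L6328 L9105 L13015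
theorem L13022 : sm gi N1041 = N1494 := rfl
theorem L13026 : sm ge N1494 = N1042 := ded_44_1 (flp_i L9113) (flp_e L9109) L13022
theorem L13031 : sm gh N1043 = N1495 := rfl
theorem L13034 : sm gb N1495 = N1044 := ded_25_1 (flp_h L9130) L9122 L13031
theorem L13040 : sm gd N1044 = N1496 := rfl
theorem L13047 : sm gi N1044 = N1497 := rfl
theorem L13057 : sm ge N1046 = N1498 := rfl
theorem L13071 : sm gj N1048 = N1500 := rfl
theorem L13073 : sm ga N1500 = N1500 := ded_16_1 (flp_j L13071) L9166 L13071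
theorem L13074 : sm gb N1500 = N1500 := ded_24_1 (flp_j L13071) L9167 L13071
theorem L13075 : sm gc N1500 = N1500 := ded_31_1 (flp_j L13071) L9168 L13071
theorem L13076 : sm gd N1500 = N1500 := ded_37_1 (flp_j L13071) L9171 L13071
theorem L13077 : sm ge N1500 = N1049 := ded_42_1 (flp_j L9173) L9164 L13071
theorem L13079 : sm gf N1500 = N1500 := ded_46_1 (flp_j L13071) L9172 L13071
theorem L13080 : sm gh N1500 = N1500 := ded_52_2 (flp_j L13071) L9170 L13071
theorem L13081 : sm gi N1048 = N1501 := rfl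
theorem L13083 : sm ga N1501 = N1501 := ded_18_1 (flp_i L13081) L9166 L13081
theorem L13084 : sm gb N1501 = N1501 := ded_26_1 (flp_i L13081) L9167 L13081
theorem L13085 : sm gc N1501 = N1501 := ded_33_1 (flp_i L13081) L9168 L13081
theorem L13086 : sm gd N1501 = N1501 := ded_39_1 (flp_i L13081) L9171 L13081
theorem L13087 : sm ge N1501 = N1050 := ded_44_1 (flp_i L9183) L9164 L13081
theorem L13089 : sm gf N1501 = N1501 := ded_48_1 (flp_i L13081) L9172 L13081
theorem L13090 : sm gg N1501 = N1501 := ded_51_1 (flp_i L13081) L9169 L13081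
theorem L13091 : sm gg N1049 = N1502 := rfl
theorem L13093 : sm ga N1502 = N1502 := ded_15_1 (flp_g L13091) L9175 L13091
theorem L13094 : sm gb N1502 = N1502 := ded_23_1 (flp_g L13091) L9176 L13091
theorem L13095 : sm gc N1502 = N1502 := ded_30_1 (flp_g L13091) L9177 L13091
theorem L13096 : sm gd N1502 = N1054 := ded_36_1 (flp_g L9222) (flp_d L9178) L13091
theorem L13098 : sm gh N1502 = N1502 := ded_50_2 (flp_g L13091) L9182 L13091
theorem L13099 : sm gf N1502 = N1502 := ded_45_1 (flp_g L13091) L9180 L6399 (flp_f L9180) L13091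
theorem L13100 : sm gj N1502 = N1502 := ded_49_2 (flp_g L13091) (flp_j L9173) L6389 L9173 L13091
theorem L13101 : sm gi N1049 = N1503 := rfl
theorem L13103 : sm ga N1503 = N1503 := ded_18_1 (flp_i L13101) L9175 L13101
theorem L13104 : sm gb N1503 = N1503 := ded_26_1 (flp_i L13101) L9176 L13101
theorem L13105 : sm gc N1503 = N1503 := ded_33_1 (flp_i L13101) L9177 L13101
theorem L13106 : sm gd N1503 = N1056 := ded_39_1 (flp_i L9243) (flp_d L9178) L13101
theorem L13108 : sm gf N1503 = N1051 := ded_48_1 (flp_i L9193) (flp_f L9180) L13101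
theorem L13110 : sm gj N1503 = N1050 := ded_53_1 (flp_i L9183) L9173 L13101
theorem L13112 : sm gh N1050 = N1504 := rfl
theorem L13114 : sm ga N1504 = N1504 := ded_17_1 (flp_h L13112) L9185 L13112
theorem L13115 : sm gb N1504 = N1504 := ded_25_1 (flp_h L13112) L9186 L13112
theorem L13116 : sm gc N1504 = N1504 := ded_32_1 (flp_h L13112) L9187 L13112
theorem L13117 : sm gf N1504 = N1052 := ded_47_1 (flp_h L9204) (flp_f L9190) L13112
theorem L13119 : sm gg N1504 = N1504 := ded_50_1 (flp_h L13112) L9192 L13112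
theorem L13120 : sm gi N1504 = N1504 := ded_54_2 (flp_h L13112) (flp_i L9183) L6388 L9183 L13112
theorem L13121 : sm gh N1051 = N1505 := rfl
theorem L13123 : sm ga N1505 = N1505 := ded_17_1 (flp_h L13121) L9195 L13121
theorem L13124 : sm gb N1505 = N1505 := ded_25_1 (flp_h L13121) L9196 L13121
theorem L13125 : sm gc N1505 = N1505 := ded_32_1 (flp_h L13121) L9197 L13121
theorem L13126 : sm ge N1505 = N1505 := ded_43_1 (flp_h L13121) L9200 L13121
theorem L13127 : sm gg N1505 = N1505 := ded_50_1 (flp_h L13121) L9201 L13121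
theorem L13128 : sm gj N1505 = N1052 := ded_52_1 (flp_h L9204) (flp_j L9202) L13121
theorem L13130 : sm gi N1505 = N1505 := ded_54_2 (flp_h L13121) (flp_i L9193) L6398 L9193 L13121
theorem L13131 : sm gd N1052 = N1506 := rfl
theorem L13133 : sm ga N1506 = N1506 := ded_12_1 (flp_d L13131) L9206 L13131
theorem L13134 : sm gb N1506 = N1506 := ded_20_1 (flp_d L13131) L9207 L13131
theorem L13135 : sm gg N1506 = N1053 := ded_36_2 (flp_d L9213) (flp_g L9210) L13131
theorem L13137 : sm gi N1506 = N1506 := ded_39_2 (flp_d L13131) L9212 L13131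
theorem L13138 : sm gh N1506 = N1062 := ded_38_2 (flp_d L9310) (flp_h L6483) (flp_d L6405) L9204 L13131
theorem L13140 : sm gc N1053 = N1507 := rfl
theorem L13142 : sm ga N1507 = N1507 := ded_11_1 (flp_c L13140) L9215 L13140
theorem L13143 : sm gf N1507 = N1507 := ded_29_2 (flp_c L13140) L9217 L13140
theorem L13144 : sm gj N1507 = N1507 := ded_31_2 (flp_c L13140) L9218 L13140
theorem L13145 : sm gh N1507 = N1064 := ded_32_2 (flp_c L9325) (flp_h L9220) L13140
theorem L13147 : sm gi N1507 = N1507 := ded_33_2 (flp_c L13140) L9219 L13140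
theorem L13148 : sm gd N1507 = N1507 := ded_27_2 (flp_c L13140) (flp_d L9213) L6414 L9213 L13140
theorem L13149 : sm ge N1053 = N1508 := rfl
theorem L13151 : sm ga N1508 = N1508 := ded_13_1 (flp_e L13149) L9215 L13149
theorem L13152 : sm gb N1508 = N1508 := ded_21_1 (flp_e L13149) L9216 L13149
theorem L13153 : sm gj N1508 = N1508 := ded_42_2 (flp_e L13149) L9218 L13149
theorem L13154 : sm gh N1508 = N1065 := ded_43_2 (flp_e L9332) (flp_h L9220) L13149
theorem L13156 : sm gi N1508 = N1508 := ded_44_2 (flp_e L13149) L9219 L13149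
theorem L13157 : sm gd N1508 = N1508 := ded_34_1 (flp_e L13149) (flp_d L9213) L6415 L9213 L13149
theorem L13158 : sm gh N1054 = N1509 := rfl
theorem L13160 : sm ga N1509 = N1509 := ded_17_1 (flp_h L13158) L9224 L13158
theorem L13161 : sm gb N1509 = N1509 := ded_25_1 (flp_h L13158) L9225 L13158
theorem L13162 : sm gc N1509 = N1090 := ded_32_1 (flp_h L9550) (flp_c L9226) L13158
theorem L13164 : sm ge N1509 = N1509 := ded_43_1 (flp_h L13158) L9228 L13158
theorem L13165 : sm gf N1509 = N1509 := ded_47_1 (flp_h L13158) L9229 L13158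
theorem L13166 : sm gg N1509 = N1055 := ded_50_1 (flp_h L9231) L9222 L13158
theorem L13168 : sm gj N1509 = N1509 := ded_52_1 (flp_h L13158) L9230 L13158
theorem L13169 : sm gd N1509 = N1509 := ded_38_1 (flp_h L13158) (flp_d L13096) L13098 L13096 L13158
theorem L13170 : sm gi N1054 = N1510 := rfl
theorem L13172 : sm ga N1510 = N1510 := ded_18_1 (flp_i L13170) L9224 L13170
theorem L13173 : sm gb N1510 = N1510 := ded_26_1 (flp_i L13170) L9225 L13170
theorem L13174 : sm gc N1510 = N1091 := ded_33_1 (flp_i L9560) (flp_c L9226) L13170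
theorem L13176 : sm ge N1510 = N1510 := ded_44_1 (flp_i L13170) L9228 L13170
theorem L13177 : sm gf N1510 = N1510 := ded_48_1 (flp_i L13170) L9229 L13170
theorem L13178 : sm gg N1510 = N1056 := ded_51_1 (flp_i L9243) L9222 L13170
theorem L13180 : sm gj N1510 = N1510 := ded_53_1 (flp_i L13170) L9230 L13170
theorem L13181 : sm gi N1055 = N1511 := rfl
theorem L13183 : sm ga N1511 = N1511 := ded_18_1 (flp_i L13181) L9233 L13181
theorem L13184 : sm gb N1511 = N1511 := ded_26_1 (flp_i L13181) L9234 L13181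
theorem L13185 : sm gc N1511 = N1093 := ded_33_1 (flp_i L9582) (flp_c L9235) L13181
theorem L13187 : sm gd N1511 = N1511 := ded_39_1 (flp_i L13181) L9242 L13181
theorem L13188 : sm ge N1511 = N1511 := ded_44_1 (flp_i L13181) L9237 L13181
theorem L13189 : sm gf N1511 = N1059 := ded_48_1 (flp_i L9275) (flp_f L9238) L13181
theorem L13191 : sm gj N1511 = N1057 := ded_53_1 (flp_i L9254) (flp_j L9240) L13181
theorem L13193 : sm gh N1056 = N1512 := rfl
theorem L13195 : sm ga N1512 = N1512 := ded_17_1 (flp_h L13193) L9245 L13193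
theorem L13196 : sm gb N1512 = N1512 := ded_25_1 (flp_h L13193) L9246 L13193
theorem L13197 : sm gc N1512 = N1094 := ded_32_1 (flp_h L9592) (flp_c L9247) L13193
theorem L13199 : sm ge N1512 = N1512 := ded_43_1 (flp_h L13193) L9249 L13193
theorem L13200 : sm gf N1512 = N1060 := ded_47_1 (flp_h L9287) (flp_f L9250) L13193
theorem L13202 : sm gj N1512 = N1058 := ded_52_1 (flp_h L9265) (flp_j L9252) L13193
theorem L13204 : sm gh N1057 = N1513 := rfl
theorem L13206 : sm ga N1513 = N1513 := ded_17_1 (flp_h L13204) L9256 L13204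
theorem L13207 : sm gb N1513 = N1513 := ded_25_1 (flp_h L13204) L9257 L13204
theorem L13208 : sm gc N1513 = N1097 := ded_32_1 (flp_h L9623) (flp_c L9258) L13204
theorem L13210 : sm ge N1513 = N1513 := ded_43_1 (flp_h L13204) L9261 L13204
theorem L13211 : sm gf N1513 = N1061 := ded_47_1 (flp_h L9298) (flp_f L9262) L13204
theorem L13213 : sm gg N1513 = N1513 := ded_50_1 (flp_h L13204) L9264 L13204
theorem L13214 : sm gi N1513 = N1058 := ded_54_2 (flp_h L9265) (flp_i L6439) L6428 L9254 L13204
theorem L13216 : sm gd N1058 = N1514 := rfl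
theorem L13218 : sm ga N1514 = N1514 := ded_12_1 (flp_d L13216) L9267 L13216
theorem L13219 : sm gb N1514 = N1514 := ded_20_1 (flp_d L13216) L9268 L13216
theorem L13220 : sm gf N1514 = N1062 := ded_35_2 (flp_d L9310) (flp_f L9272) L13216
theorem L13222 : sm gg N1514 = N1514 := ded_36_2 (flp_d L13216) L9274 L13216
theorem L13223 : sm gh N1059 = N1515 := rfl
theorem L13225 : sm ga N1515 = N1515 := ded_17_1 (flp_h L13223) L9277 L13223
theorem L13226 : sm gb N1515 = N1515 := ded_25_1 (flp_h L13223) L9278 L13223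
theorem L13227 : sm gc N1515 = N1100 := ded_32_1 (flp_h L9655) (flp_c L9279) L13223
theorem L13229 : sm ge N1515 = N1067 := ded_43_1 (flp_h L9351) (flp_e L9282) L13223
theorem L13231 : sm gg N1515 = N1515 := ded_50_1 (flp_h L13223) L9284 L13223
theorem L13232 : sm gj N1515 = N1061 := ded_52_1 (flp_h L9298) (flp_j L9285) L13223
theorem L13234 : sm gi N1515 = N1060 := ded_54_2 (flp_h L9287) (flp_i L6461) L6449 L9275 L13223
theorem L13236 : sm gd N1060 = N1516 := rfl
theorem L13238 : sm ga N1516 = N1516 := ded_12_1 (flp_d L13236) L9289 L13236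
theorem L13239 : sm gb N1516 = N1516 := ded_20_1 (flp_d L13236) L9290 L13236
theorem L13240 : sm gg N1516 = N1516 := ded_36_2 (flp_d L13236) L9295 L13236
theorem L13241 : sm gj N1516 = N1062 := ded_37_2 (flp_d L9310) (flp_j L9296) L13236
theorem L13243 : sm gd N1061 = N1517 := rfl
theorem L13245 : sm ga N1517 = N1517 := ded_12_1 (flp_d L13243) L9300 L13243
theorem L13246 : sm gb N1517 = N1517 := ded_20_1 (flp_d L13243) L9301 L13243
theorem L13247 : sm gg N1517 = N1063 := ded_36_2 (flp_d L9316) (flp_g L9306) L13243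
theorem L13249 : sm gi N1517 = N1062 := ded_39_2 (flp_d L9310) (flp_i L9308) L13243
theorem L13251 : sm gh N1517 = N1517 := ded_38_2 (flp_d L13243) (flp_h L9298) L6478 L9298 L13243
theorem L13252 : sm gc N1062 = N1518 := rfl
theorem L13254 : sm ga N1518 = N1518 := ded_11_1 (flp_c L13252) L9312 L13252
theorem L13255 : sm gg N1518 = N1064 := ded_30_2 (flp_c L9325) (flp_g L9314) L13252
theorem L13257 : sm gd N1518 = N1104 := ded_27_2 (flp_c L9695) (flp_d L6778) (flp_c L6487) L9310 L13252
theorem L13259 : sm ge N1062 = N1519 := rfl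
theorem L13261 : sm ga N1519 = N1519 := ded_13_1 (flp_e L13259) L9312 L13259
theorem L13262 : sm gb N1519 = N1519 := ded_21_1 (flp_e L13259) L9313 L13259
theorem L13263 : sm gg N1519 = N1065 := ded_41_2 (flp_e L9332) (flp_g L9314) L13259
theorem L13265 : sm gd N1519 = N1072 := ded_34_1 (flp_e L9400) (flp_d L6564) (flp_e L6489) L9310 L13259
theorem L13267 : sm gc N1063 = N1520 := rfl
theorem L13269 : sm ga N1520 = N1520 := ded_11_1 (flp_c L13267) L9318 L13267
theorem L13270 : sm gf N1520 = N1520 := ded_29_2 (flp_c L13267) L9320 L13267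
theorem L13271 : sm gj N1520 = N1520 := ded_31_2 (flp_c L13267) L9321 L13267
theorem L13272 : sm gh N1520 = N1520 := ded_32_2 (flp_c L13267) L9324 L13267
theorem L13273 : sm gi N1520 = N1064 := ded_33_2 (flp_c L9325) (flp_i L9322) L13267
theorem L13275 : sm gd N1520 = N1107 := ded_27_2 (flp_c L9721) (flp_d L6796) (flp_c L6497) L9316 L13267
theorem L13277 : sm ge N1063 = N1521 := rfl
theorem L13279 : sm ga N1521 = N1521 := ded_13_1 (flp_e L13277) L9318 L13277
theorem L13280 : sm gb N1521 = N1521 := ded_21_1 (flp_e L13277) L9319 L13277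
theorem L13281 : sm gj N1521 = N1521 := ded_42_2 (flp_e L13277) L9321 L13277
theorem L13282 : sm gh N1521 = N1521 := ded_43_2 (flp_e L13277) L9324 L13277
theorem L13283 : sm gi N1521 = N1065 := ded_44_2 (flp_e L9332) (flp_i L9322) L13277
theorem L13285 : sm gd N1521 = N1075 := ded_34_1 (flp_e L9427) (flp_d L6582) (flp_e L6499) L9316 L13277
theorem L13287 : sm gb N1064 = N1522 := rfl
theorem L13289 : sm gd N1522 = N1109 := ded_20_2 (flp_b L9738) (flp_d L9330) L13287
theorem L13291 : sm gf N1522 = N1522 := ded_22_2 (flp_b L13287) L9328 L13287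
theorem L13292 : sm gj N1522 = N1522 := ded_24_2 (flp_b L13287) L9329 L13287
theorem L13293 : sm gc N1522 = N1522 := ded_19_2 (flp_b L13287) (flp_c L9325) L6508 L9325 L13287
theorem L13294 : sm ge N1064 = N1523 := rfl
theorem L13296 : sm ga N1523 = N1523 := ded_13_1 (flp_e L13294) L9327 L13294
theorem L13297 : sm gc N1523 = N1065 := ded_28_1 (flp_e L9332) L9325 L13294
theorem L13299 : sm gj N1523 = N1523 := ded_42_2 (flp_e L13294) L9329 L13294
theorem L13300 : sm gf N1065 = N1524 := rfl
theorem L13302 : sm ga N1524 = N1524 := ded_14_1 (flp_f L13300) L9334 L13300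
theorem L13303 : sm gb N1524 = N1524 := ded_22_1 (flp_f L13300) L9335 L13300
theorem L13304 : sm gd N1524 = N1078 := ded_35_1 (flp_f L9450) (flp_d L9337) L13300
theorem L13306 : sm gj N1524 = N1524 := ded_46_2 (flp_f L13300) L9336 L13300
theorem L13307 : sm ge N1524 = N1524 := ded_40_1 (flp_f L13300) (flp_e L9332) L6509 L9332 L13300
theorem L13308 : sm gh N1066 = N1525 := rfl
theorem L13310 : sm ga N1525 = N1525 := ded_17_1 (flp_h L13308) L9341 L13308
theorem L13311 : sm gb N1525 = N1525 := ded_25_1 (flp_h L13308) L9342 L13308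
theorem L13312 : sm gc N1525 = N1525 := ded_32_1 (flp_h L13308) L9343 L13308
theorem L13313 : sm ge N1525 = N1525 := ded_43_1 (flp_h L13308) L9346 L13308
theorem L13314 : sm gf N1525 = N1525 := ded_47_1 (flp_h L13308) L9347 L13308
theorem L13315 : sm gg N1525 = N1525 := ded_50_1 (flp_h L13308) L9348 L13308
theorem L13316 : sm gj N1525 = N1069 := ded_52_1 (flp_h L9372) (flp_j L9349) L13308
theorem L13318 : sm gi N1525 = N1525 := ded_54_2 (flp_h L13308) (flp_i L9339) L6521 L9339 L13308
theorem L13319 : sm gd N1067 = N1526 := rfl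
theorem L13321 : sm ga N1526 = N1526 := ded_12_1 (flp_d L13319) L9353 L13319
theorem L13322 : sm gb N1526 = N1526 := ded_20_1 (flp_d L13319) L9354 L13319
theorem L13323 : sm gf N1526 = N1526 := ded_35_2 (flp_d L13319) L9357 L13319
theorem L13324 : sm gg N1526 = N1526 := ded_36_2 (flp_d L13319) L9358 L13319
theorem L13325 : sm gj N1526 = N1070 := ded_37_2 (flp_d L9382) (flp_j L9359) L13319
theorem L13327 : sm gi N1526 = N1068 := ded_39_2 (flp_d L9363) (flp_i L9361) L13319
theorem L13329 : sm gc N1068 = N1527 := rfl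
theorem L13331 : sm ga N1527 = N1527 := ded_11_1 (flp_c L13329) L9365 L13329
theorem L13332 : sm gf N1527 = N1527 := ded_29_2 (flp_c L13329) L9367 L13329
theorem L13333 : sm gg N1527 = N1527 := ded_30_2 (flp_c L13329) L9368 L13329
theorem L13334 : sm gj N1527 = N1071 := ded_31_2 (flp_c L9391) (flp_j L9369) L13329
theorem L13336 : sm gh N1527 = N1527 := ded_32_2 (flp_c L13329) L9371 L13329
theorem L13337 : sm gd N1527 = N1113 := ded_27_2 (flp_c L9774) (flp_d L6831) (flp_c L6536) L9363 L13329
theorem L13339 : sm ge N1068 = N1528 := rfl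
theorem L13341 : sm ga N1528 = N1528 := ded_13_1 (flp_e L13339) L9365 L13339
theorem L13342 : sm gb N1528 = N1528 := ded_21_1 (flp_e L13339) L9366 L13339
theorem L13343 : sm gg N1528 = N1528 := ded_41_2 (flp_e L13339) L9368 L13339
theorem L13344 : sm gj N1528 = N1072 := ded_42_2 (flp_e L9400) (flp_j L9369) L13339
theorem L13346 : sm gh N1528 = N1528 := ded_43_2 (flp_e L13339) L9371 L13339
theorem L13347 : sm gd N1069 = N1529 := rfl
theorem L13349 : sm ga N1529 = N1529 := ded_12_1 (flp_d L13347) L9374 L13347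
theorem L13350 : sm gb N1529 = N1529 := ded_20_1 (flp_d L13347) L9375 L13347
theorem L13351 : sm gf N1529 = N1529 := ded_35_2 (flp_d L13347) L9378 L13347
theorem L13352 : sm gg N1529 = N1073 := ded_36_2 (flp_d L9407) (flp_g L9379) L13347
theorem L13354 : sm gi N1529 = N1529 := ded_39_2 (flp_d L13347) L9381 L13347
theorem L13355 : sm gh N1529 = N1070 := ded_38_2 (flp_d L9382) (flp_h L6553) (flp_d L6547) L9372 L13347
theorem L13357 : sm gc N1070 = N1530 := rfl
theorem L13359 : sm ga N1530 = N1530 := ded_11_1 (flp_c L13357) L9384 L13357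
theorem L13360 : sm gf N1530 = N1530 := ded_29_2 (flp_c L13357) L9386 L13357
theorem L13361 : sm gg N1530 = N1074 := ded_30_2 (flp_c L9417) (flp_g L9387) L13357
theorem L13363 : sm gi N1530 = N1071 := ded_33_2 (flp_c L9391) (flp_i L9389) L13357
theorem L13365 : sm gd N1530 = N1115 := ded_27_2 (flp_c L9793) (flp_d L6842) (flp_c L6557) L9382 L13357
theorem L13367 : sm ge N1070 = N1531 := rfl
theorem L13369 : sm ga N1531 = N1531 := ded_13_1 (flp_e L13367) L9384 L13367
theorem L13370 : sm gb N1531 = N1531 := ded_21_1 (flp_e L13367) L9385 L13367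
theorem L13371 : sm gg N1531 = N1075 := ded_41_2 (flp_e L9427) (flp_g L9387) L13367
theorem L13373 : sm gi N1531 = N1072 := ded_44_2 (flp_e L9400) (flp_i L9389) L13367
theorem L13375 : sm gb N1071 = N1532 := rfl
theorem L13377 : sm gd N1532 = N1117 := ded_20_2 (flp_b L9812) (flp_d L9398) L13375
theorem L13379 : sm gf N1532 = N1532 := ded_22_2 (flp_b L13375) L9394 L13375
theorem L13380 : sm gg N1532 = N1076 := ded_23_2 (flp_b L9434) (flp_g L9395) L13375
theorem L13382 : sm gh N1532 = N1532 := ded_25_2 (flp_b L13375) L9397 L13375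
theorem L13383 : sm gc N1532 = N1532 := ded_19_2 (flp_b L13375) (flp_c L9391) L6567 L9391 L13375
theorem L13384 : sm ge N1071 = N1533 := rfl
theorem L13386 : sm ga N1533 = N1533 := ded_13_1 (flp_e L13384) L9393 L13384
theorem L13387 : sm gc N1533 = N1072 := ded_28_1 (flp_e L9400) L9391 L13384
theorem L13389 : sm gg N1533 = N1077 := ded_41_2 (flp_e L9443) (flp_g L9395) L13384
theorem L13391 : sm gh N1533 = N1533 := ded_43_2 (flp_e L13384) L9397 L13384
theorem L13392 : sm gf N1072 = N1534 := rfl
theorem L13394 : sm ga N1534 = N1534 := ded_14_1 (flp_f L13392) L9402 L13392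
theorem L13395 : sm gb N1534 = N1534 := ded_22_1 (flp_f L13392) L9403 L13392
theorem L13396 : sm gh N1534 = N1534 := ded_47_2 (flp_f L13392) L9406 L13392
theorem L13397 : sm ge N1534 = N1534 := ded_40_1 (flp_f L13392) (flp_e L9400) L6568 L9400 L13392
theorem L13398 : sm gc N1073 = N1535 := rfl
theorem L13400 : sm ga N1535 = N1535 := ded_11_1 (flp_c L13398) L9409 L13398
theorem L13401 : sm gf N1535 = N1080 := ded_29_2 (flp_c L9467) (flp_f L9411) L13398
theorem L13403 : sm gj N1535 = N1535 := ded_31_2 (flp_c L13398) L9413 L13398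
theorem L13404 : sm gh N1535 = N1074 := ded_32_2 (flp_c L9417) (flp_h L9415) L13398
theorem L13406 : sm gi N1535 = N1535 := ded_33_2 (flp_c L13398) L9414 L13398
theorem L13407 : sm gd N1535 = N1535 := ded_27_2 (flp_c L13398) (flp_d L9407) L6576 L9407 L13398
theorem L13408 : sm ge N1073 = N1536 := rfl
theorem L13410 : sm ga N1536 = N1536 := ded_13_1 (flp_e L13408) L9409 L13408
theorem L13411 : sm gb N1536 = N1536 := ded_21_1 (flp_e L13408) L9410 L13408
theorem L13412 : sm gj N1536 = N1536 := ded_42_2 (flp_e L13408) L9413 L13408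
theorem L13413 : sm gh N1536 = N1075 := ded_43_2 (flp_e L9427) (flp_h L9415) L13408
theorem L13415 : sm gi N1536 = N1536 := ded_44_2 (flp_e L13408) L9414 L13408
theorem L13416 : sm gd N1536 = N1536 := ded_34_1 (flp_e L13408) (flp_d L9407) L6577 L9407 L13408
theorem L13417 : sm gb N1074 = N1537 := rfl
theorem L13419 : sm gd N1537 = N1120 := ded_20_2 (flp_b L9838) (flp_d L9425) L13417
theorem L13421 : sm gf N1537 = N1082 := ded_22_2 (flp_b L9485) (flp_f L9420) L13417
theorem L13423 : sm gj N1537 = N1537 := ded_24_2 (flp_b L13417) L9422 L13417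
theorem L13424 : sm gi N1537 = N1076 := ded_26_2 (flp_b L9434) (flp_i L9423) L13417
theorem L13426 : sm gc N1537 = N1537 := ded_19_2 (flp_b L13417) (flp_c L9417) L6585 L9417 L13417
theorem L13427 : sm ge N1074 = N1538 := rfl
theorem L13429 : sm ga N1538 = N1538 := ded_13_1 (flp_e L13427) L9419 L13427
theorem L13430 : sm gc N1538 = N1075 := ded_28_1 (flp_e L9427) L9417 L13427
theorem L13432 : sm gj N1538 = N1538 := ded_42_2 (flp_e L13427) L9422 L13427
theorem L13433 : sm gi N1538 = N1077 := ded_44_2 (flp_e L9443) (flp_i L9423) L13427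
theorem L13435 : sm gf N1075 = N1539 := rfl
theorem L13437 : sm ga N1539 = N1539 := ded_14_1 (flp_f L13435) L9429 L13435
theorem L13438 : sm gb N1539 = N1539 := ded_22_1 (flp_f L13435) L9430 L13435
theorem L13439 : sm gj N1539 = N1539 := ded_46_2 (flp_f L13435) L9431 L13435
theorem L13440 : sm gi N1539 = N1078 := ded_48_2 (flp_f L9450) (flp_i L9432) L13435
theorem L13442 : sm ge N1539 = N1084 := ded_40_1 (flp_f L9503) (flp_e L6635) (flp_f L6586) L9427 L13435
theorem L13444 : sm ga N1076 = N1540 := rfl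
theorem L13446 : sm gc N1540 = N1540 := ded_11_2 (flp_a L13444) L9442 L13444
theorem L13447 : sm gd N1540 = N1123 := ded_12_2 (flp_a L9868) (flp_d L9436) L13444
theorem L13449 : sm gf N1540 = N1085 := ded_14_2 (flp_a L9511) (flp_f L9438) L13444
theorem L13451 : sm gj N1540 = N1540 := ded_16_2 (flp_a L13444) L9440 L13444
theorem L13452 : sm gh N1540 = N1540 := ded_17_2 (flp_a L13444) L9441 L13444
theorem L13453 : sm gb N1540 = N1540 := ded_10_2 (flp_a L13444) (flp_b L9434) L6593 L9434 L13444
theorem L13454 : sm ge N1076 = N1541 := rfl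
theorem L13456 : sm gb N1541 = N1077 := ded_21_1 (flp_e L9443) L9434 L13454
theorem L13458 : sm gc N1541 = N1541 := ded_28_1 (flp_e L13454) L9442 L13454
theorem L13459 : sm gj N1541 = N1541 := ded_42_2 (flp_e L13454) L9440 L13454
theorem L13460 : sm gh N1541 = N1541 := ded_43_2 (flp_e L13454) L9441 L13454
theorem L13461 : sm gd N1077 = N1542 := rfl
theorem L13463 : sm ga N1542 = N1542 := ded_12_1 (flp_d L13461) L9445 L13461
theorem L13464 : sm gj N1542 = N1542 := ded_37_2 (flp_d L13461) L9448 L13461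
theorem L13465 : sm ge N1542 = N1125 := ded_34_2 (flp_d L9887) (flp_e L6897) (flp_d L6598) L9443 L13461
theorem L13467 : sm gf N1077 = N1543 := rfl
theorem L13469 : sm ga N1543 = N1543 := ded_14_1 (flp_f L13467) L9445 L13467
theorem L13470 : sm gc N1543 = N1078 := ded_29_1 (flp_f L9450) (flp_c L9446) L13467
theorem L13472 : sm gj N1543 = N1543 := ded_46_2 (flp_f L13467) L9448 L13467
theorem L13473 : sm gh N1543 = N1543 := ded_47_2 (flp_f L13467) L9449 L13467
theorem L13474 : sm ge N1543 = N1088 := ded_40_1 (flp_f L9536) (flp_e L6652) (flp_f L6594) L9443 L13467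
theorem L13476 : sm gg N1078 = N1544 := rfl
theorem L13478 : sm ga N1544 = N1544 := ded_15_1 (flp_g L13476) L9452 L13476
theorem L13479 : sm gb N1544 = N1544 := ded_23_1 (flp_g L13476) L9453 L13476
theorem L13480 : sm ge N1544 = N1089 := ded_41_1 (flp_g L9543) (flp_e L9456) L13476
theorem L13482 : sm gh N1544 = N1544 := ded_50_2 (flp_g L13476) L9455 L13476
theorem L13483 : sm gc N1079 = N1545 := rfl
theorem L13485 : sm ga N1545 = N1545 := ded_11_1 (flp_c L13483) L9460 L13483
theorem L13486 : sm gf N1545 = N1545 := ded_29_2 (flp_c L13483) L9462 L13483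
theorem L13487 : sm gg N1545 = N1545 := ded_30_2 (flp_c L13483) L9463 L13483
theorem L13488 : sm gj N1545 = N1545 := ded_31_2 (flp_c L13483) L9464 L13483
theorem L13489 : sm gh N1545 = N1545 := ded_32_2 (flp_c L13483) L9466 L13483
theorem L13490 : sm gi N1545 = N1545 := ded_33_2 (flp_c L13483) L9465 L13483
theorem L13491 : sm gd N1545 = N1545 := ded_27_2 (flp_c L13483) (flp_d L9458) L6610 L9458 L13483
theorem L13492 : sm ge N1079 = N1546 := rfl
theorem L13494 : sm ga N1546 = N1546 := ded_13_1 (flp_e L13492) L9460 L13492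
theorem L13495 : sm gb N1546 = N1546 := ded_21_1 (flp_e L13492) L9461 L13492
theorem L13496 : sm gg N1546 = N1546 := ded_41_2 (flp_e L13492) L9463 L13492
theorem L13497 : sm gj N1546 = N1546 := ded_42_2 (flp_e L13492) L9464 L13492
theorem L13498 : sm gh N1546 = N1546 := ded_43_2 (flp_e L13492) L9466 L13492
theorem L13499 : sm gi N1546 = N1546 := ded_44_2 (flp_e L13492) L9465 L13492
theorem L13500 : sm gd N1546 = N1081 := ded_34_1 (flp_e L9476) (flp_d L6617) (flp_e L6611) L9458 L13492
theorem L13502 : sm gb N1080 = N1547 := rfl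
theorem L13504 : sm gd N1547 = N1547 := ded_20_2 (flp_b L13502) L9475 L13502
theorem L13505 : sm gg N1547 = N1547 := ded_23_2 (flp_b L13502) L9470 L13502
theorem L13506 : sm gj N1547 = N1547 := ded_24_2 (flp_b L13502) L9471 L13502
theorem L13507 : sm gh N1547 = N1082 := ded_25_2 (flp_b L9485) (flp_h L9472) L13502
theorem L13509 : sm gi N1547 = N1547 := ded_26_2 (flp_b L13502) L9474 L13502
theorem L13510 : sm gc N1547 = N1547 := ded_19_2 (flp_b L13502) (flp_c L9467) L6620 L9467 L13502
theorem L13511 : sm ge N1080 = N1548 := rfl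
theorem L13513 : sm ga N1548 = N1548 := ded_13_1 (flp_e L13511) L9469 L13511
theorem L13514 : sm gc N1548 = N1081 := ded_28_1 (flp_e L9476) L9467 L13511
theorem L13516 : sm gg N1548 = N1548 := ded_41_2 (flp_e L13511) L9470 L13511
theorem L13517 : sm gj N1548 = N1548 := ded_42_2 (flp_e L13511) L9471 L13511
theorem L13518 : sm gh N1548 = N1083 := ded_43_2 (flp_e L9494) (flp_h L9472) L13511
theorem L13520 : sm gi N1548 = N1548 := ded_44_2 (flp_e L13511) L9474 L13511
theorem L13521 : sm gf N1081 = N1549 := rfl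
theorem L13523 : sm ga N1549 = N1549 := ded_14_1 (flp_f L13521) L9478 L13521
theorem L13524 : sm gb N1549 = N1549 := ded_22_1 (flp_f L13521) L9479 L13521
theorem L13525 : sm gj N1549 = N1549 := ded_46_2 (flp_f L13521) L9481 L13521
theorem L13526 : sm gh N1549 = N1084 := ded_47_2 (flp_f L9503) (flp_h L9482) L13521
theorem L13528 : sm gi N1549 = N1549 := ded_48_2 (flp_f L13521) L9484 L13521
theorem L13529 : sm ga N1082 = N1550 := rfl
theorem L13531 : sm gc N1550 = N1550 := ded_11_2 (flp_a L13529) L9493 L13529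
theorem L13532 : sm gd N1550 = N1128 := ded_12_2 (flp_a L9910) (flp_d L9487) L13529
theorem L13534 : sm gg N1550 = N1550 := ded_15_2 (flp_a L13529) L9489 L13529
theorem L13535 : sm gj N1550 = N1550 := ded_16_2 (flp_a L13529) L9490 L13529
theorem L13536 : sm gi N1550 = N1085 := ded_18_2 (flp_a L9511) (flp_i L9491) L13529
theorem L13538 : sm gb N1550 = N1550 := ded_10_2 (flp_a L13529) (flp_b L9485) L6628 L9485 L13529
theorem L13539 : sm ge N1082 = N1551 := rfl
theorem L13541 : sm gb N1551 = N1083 := ded_21_1 (flp_e L9494) L9485 L13539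
theorem L13543 : sm gc N1551 = N1551 := ded_28_1 (flp_e L13539) L9493 L13539
theorem L13544 : sm gg N1551 = N1551 := ded_41_2 (flp_e L13539) L9489 L13539
theorem L13545 : sm gj N1551 = N1551 := ded_42_2 (flp_e L13539) L9490 L13539
theorem L13546 : sm gi N1551 = N1086 := ded_44_2 (flp_e L9520) (flp_i L9491) L13539
theorem L13548 : sm gd N1083 = N1552 := rfl
theorem L13550 : sm ga N1552 = N1552 := ded_12_1 (flp_d L13548) L9496 L13548
theorem L13551 : sm gg N1552 = N1552 := ded_36_2 (flp_d L13548) L9499 L13548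
theorem L13552 : sm gj N1552 = N1552 := ded_37_2 (flp_d L13548) L9500 L13548
theorem L13553 : sm gi N1552 = N1087 := ded_39_2 (flp_d L9528) (flp_i L9501) L13548
theorem L13555 : sm gc N1552 = N1552 := ded_27_1 (flp_d L13548) L9497 L6643 (flp_c L9497) L13548
theorem L13556 : sm ge N1552 = N1130 := ded_34_2 (flp_d L9931) (flp_e L6924) (flp_d L6633) L9494 L13548
theorem L13558 : sm gf N1083 = N1553 := rfl
theorem L13560 : sm ga N1553 = N1553 := ded_14_1 (flp_f L13558) L9496 L13558
theorem L13561 : sm gc N1553 = N1084 := ded_29_1 (flp_f L9503) (flp_c L9497) L13558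
theorem L13563 : sm gj N1553 = N1553 := ded_46_2 (flp_f L13558) L9500 L13558
theorem L13564 : sm gi N1553 = N1088 := ded_48_2 (flp_f L9536) (flp_i L9501) L13558
theorem L13566 : sm gg N1084 = N1554 := rfl
theorem L13568 : sm ga N1554 = N1554 := ded_15_1 (flp_g L13566) L9505 L13566
theorem L13569 : sm gb N1554 = N1554 := ded_23_1 (flp_g L13566) L9506 L13566
theorem L13570 : sm gd N1554 = N1554 := ded_36_1 (flp_g L13566) L9507 L13566
theorem L13571 : sm gi N1554 = N1089 := ded_51_2 (flp_g L9543) (flp_i L9509) L13566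
theorem L13573 : sm gf N1554 = N1554 := ded_45_1 (flp_g L13566) (flp_f L9503) L6639 L9503 L13566
theorem L13574 : sm ge N1085 = N1555 := rfl
theorem L13576 : sm ga N1555 = N1086 := ded_13_1 (flp_e L9520) L9511 L13574
theorem L13578 : sm gb N1555 = N1555 := ded_21_1 (flp_e L13574) L9519 L13574
theorem L13579 : sm gc N1555 = N1555 := ded_28_1 (flp_e L13574) L9513 L13574
theorem L13580 : sm gg N1555 = N1555 := ded_41_2 (flp_e L13574) L9516 L13574
theorem L13581 : sm gj N1555 = N1555 := ded_42_2 (flp_e L13574) L9517 L13574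
theorem L13582 : sm gh N1555 = N1555 := ded_43_2 (flp_e L13574) L9518 L13574
theorem L13583 : sm gd N1086 = N1556 := rfl
theorem L13585 : sm gb N1556 = N1087 := ded_20_1 (flp_d L9528) (flp_b L9522) L13583
theorem L13587 : sm gg N1556 = N1556 := ded_36_2 (flp_d L13583) L9525 L13583
theorem L13588 : sm gj N1556 = N1556 := ded_37_2 (flp_d L13583) L9526 L13583
theorem L13589 : sm ge N1556 = N1134 := ded_34_2 (flp_d L9969) (flp_e L6953) (flp_d L6646) L9520 L13583
theorem L13591 : sm gf N1086 = N1557 := rfl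
theorem L13593 : sm gb N1557 = N1088 := ded_22_1 (flp_f L9536) (flp_b L9522) L13591
theorem L13595 : sm gc N1557 = N1557 := ded_29_1 (flp_f L13591) L9524 L13591
theorem L13596 : sm gj N1557 = N1557 := ded_46_2 (flp_f L13591) L9526 L13591
theorem L13597 : sm gh N1557 = N1557 := ded_47_2 (flp_f L13591) L9527 L13591
theorem L13598 : sm gf N1087 = N1558 := rfl
theorem L13600 : sm ga N1558 = N1558 := ded_14_1 (flp_f L13598) L9530 L13598
theorem L13601 : sm gc N1558 = N1558 := ded_29_1 (flp_f L13598) L9533 L13598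
theorem L13602 : sm gd N1558 = N1088 := ded_35_1 (flp_f L9536) L9528 L13598
theorem L13604 : sm gj N1558 = N1558 := ded_46_2 (flp_f L13598) L9532 L13598
theorem L13605 : sm gh N1087 = N1559 := rfl
theorem L13607 : sm ga N1559 = N1559 := ded_17_1 (flp_h L13605) L9530 L13605
theorem L13608 : sm gc N1559 = N1559 := ded_32_1 (flp_h L13605) L9533 L13605
theorem L13609 : sm ge N1559 = N1137 := ded_43_1 (flp_h L9991) (flp_e L9534) L13605
theorem L13611 : sm gg N1559 = N1559 := ded_50_1 (flp_h L13605) L9531 L13605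
theorem L13612 : sm gj N1559 = N1559 := ded_52_1 (flp_h L13605) L9532 L13605
theorem L13613 : sm gd N1559 = N1559 := ded_38_1 (flp_h L13605) (flp_d L9528) L6659 L9528 L13605
theorem L13614 : sm gg N1088 = N1560 := rfl
theorem L13616 : sm ga N1560 = N1560 := ded_15_1 (flp_g L13614) L9538 L13614
theorem L13617 : sm gc N1560 = N1089 := ded_30_1 (flp_g L9543) (flp_c L9539) L13614
theorem L13619 : sm gh N1560 = N1560 := ded_50_2 (flp_g L13614) L9542 L13614
theorem L13620 : sm gf N1560 = N1560 := ded_45_1 (flp_g L13614) (flp_f L9536) L6657 L9536 L13614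
theorem L13621 : sm gj N1089 = N1561 := rfl
theorem L13623 : sm ga N1561 = N1561 := ded_16_1 (flp_j L13621) L9545 L13621
theorem L13624 : sm gb N1561 = N1561 := ded_24_1 (flp_j L13621) L9546 L13621
theorem L13625 : sm gd N1561 = N1561 := ded_37_1 (flp_j L13621) L9547 L13621
theorem L13626 : sm gf N1561 = N1561 := ded_46_1 (flp_j L13621) L9549 L13621
theorem L13627 : sm gh N1561 = N1561 := ded_52_2 (flp_j L13621) L9548 L13621
theorem L13628 : sm gg N1561 = N1561 := ded_49_1 (flp_j L13621) (flp_g L9543) L6665 L9543 L13621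
theorem L13629 : sm gd N1090 = N1562 := rfl
theorem L13631 : sm ga N1562 = N1562 := ded_12_1 (flp_d L13629) L9552 L13629
theorem L13632 : sm gb N1562 = N1170 := ded_20_1 (flp_d L10276) (flp_b L9553) L13629
theorem L13634 : sm gf N1562 = N1562 := ded_35_2 (flp_d L13629) L9556 L13629
theorem L13635 : sm gg N1562 = N1092 := ded_36_2 (flp_d L9571) (flp_g L9557) L13629
theorem L13637 : sm gj N1562 = N1562 := ded_37_2 (flp_d L13629) L9559 L13629
theorem L13638 : sm gc N1562 = N1562 := ded_27_1 (flp_d L13629) (flp_c L13162) L13169 L13162 L13629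
theorem L13639 : sm gh N1562 = N1562 := ded_38_2 (flp_d L13629) (flp_h L9550) L6672 L9550 L13629
theorem L13640 : sm gi N1090 = N1563 := rfl
theorem L13642 : sm ga N1563 = N1563 := ded_18_1 (flp_i L13640) L9552 L13640
theorem L13643 : sm gb N1563 = N1171 := ded_26_1 (flp_i L10285) (flp_b L9553) L13640
theorem L13645 : sm ge N1563 = N1563 := ded_44_1 (flp_i L13640) L9555 L13640
theorem L13646 : sm gf N1563 = N1563 := ded_48_1 (flp_i L13640) L9556 L13640
theorem L13647 : sm gg N1563 = N1093 := ded_51_1 (flp_i L9582) (flp_g L9557) L13640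
theorem L13649 : sm gj N1563 = N1563 := ded_53_1 (flp_i L13640) L9559 L13640
theorem L13650 : sm gh N1091 = N1564 := rfl
theorem L13652 : sm ga N1564 = N1564 := ded_17_1 (flp_h L13650) L9562 L13650
theorem L13653 : sm gb N1564 = N1172 := ded_25_1 (flp_h L10295) (flp_b L9563) L13650
theorem L13655 : sm ge N1564 = N1564 := ded_43_1 (flp_h L13650) L9566 L13650
theorem L13656 : sm gf N1564 = N1564 := ded_47_1 (flp_h L13650) L9567 L13650
theorem L13657 : sm gg N1564 = N1094 := ded_50_1 (flp_h L9592) (flp_g L9568) L13650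
theorem L13659 : sm gj N1564 = N1564 := ded_52_1 (flp_h L13650) L9570 L13650
theorem L13660 : sm ge N1092 = N1565 := rfl
theorem L13662 : sm ga N1565 = N1565 := ded_13_1 (flp_e L13660) L9573 L13660
theorem L13663 : sm gb N1565 = N1174 := ded_21_1 (flp_e L10316) (flp_b L9574) L13660
theorem L13665 : sm gc N1565 = N1565 := ded_28_1 (flp_e L13660) L9580 L13660
theorem L13666 : sm gj N1565 = N1095 := ded_42_2 (flp_e L9602) (flp_j L9578) L13660
theorem L13668 : sm gh N1565 = N1565 := ded_43_2 (flp_e L13660) L9581 L13660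
theorem L13669 : sm gd N1565 = N1565 := ded_34_1 (flp_e L13660) (flp_d L9571) L6681 L9571 L13660
theorem L13670 : sm gf N1565 = N1565 := ded_40_2 (flp_e L13660) L9576 L6734 (flp_f L9576) L13660
theorem L13671 : sm gi N1092 = N1566 := rfl
theorem L13673 : sm ga N1566 = N1566 := ded_18_1 (flp_i L13671) L9573 L13671
theorem L13674 : sm gb N1566 = N1175 := ded_26_1 (flp_i L10325) (flp_b L9574) L13671
theorem L13676 : sm gc N1566 = N1566 := ded_33_1 (flp_i L13671) L9580 L13671
theorem L13677 : sm gd N1566 = N1093 := ded_39_1 (flp_i L9582) L9571 L13671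
theorem L13679 : sm gf N1566 = N1099 := ded_48_1 (flp_i L9643) (flp_f L9576) L13671
theorem L13681 : sm gj N1566 = N1096 := ded_53_1 (flp_i L9612) (flp_j L9578) L13671
theorem L13683 : sm gh N1093 = N1567 := rfl
theorem L13685 : sm ga N1567 = N1567 := ded_17_1 (flp_h L13683) L9584 L13683
theorem L13686 : sm gb N1567 = N1176 := ded_25_1 (flp_h L10335) (flp_b L9585) L13683
theorem L13688 : sm ge N1567 = N1567 := ded_43_1 (flp_h L13683) L9587 L13683
theorem L13689 : sm gf N1567 = N1100 := ded_47_1 (flp_h L9655) (flp_f L9588) L13683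
theorem L13691 : sm gj N1567 = N1097 := ded_52_1 (flp_h L9623) (flp_j L9590) L13683
theorem L13693 : sm gi N1567 = N1094 := ded_54_2 (flp_h L9592) (flp_i L6686) L6676 L9582 L13683
theorem L13695 : sm gd N1094 = N1568 := rfl
theorem L13697 : sm ga N1568 = N1568 := ded_12_1 (flp_d L13695) L9594 L13695
theorem L13698 : sm gb N1568 = N1177 := ded_20_1 (flp_d L10347) (flp_b L9595) L13695
theorem L13700 : sm gf N1568 = N1101 := ded_35_2 (flp_d L9667) (flp_f L9598) L13695
theorem L13702 : sm gj N1568 = N1098 := ded_37_2 (flp_d L9634) (flp_j L9600) L13695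
theorem L13704 : sm gh N1568 = N1568 := ded_38_2 (flp_d L13695) (flp_h L9592) L6691 L9592 L13695
theorem L13705 : sm gi N1095 = N1569 := rfl
theorem L13707 : sm ga N1569 = N1569 := ded_18_1 (flp_i L13705) L9604 L13705
theorem L13708 : sm gb N1569 = N1180 := ded_26_1 (flp_i L10377) (flp_b L9605) L13705
theorem L13710 : sm gc N1569 = N1569 := ded_33_1 (flp_i L13705) L9607 L13705
theorem L13711 : sm gd N1569 = N1569 := ded_39_1 (flp_i L13705) L9610 L13705
theorem L13712 : sm ge N1569 = N1096 := ded_44_1 (flp_i L9612) L9602 L13705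
theorem L13714 : sm gf N1569 = N1569 := ded_48_1 (flp_i L13705) L9611 L13705
theorem L13715 : sm gg N1569 = N1569 := ded_51_1 (flp_i L13705) L9608 L13705
theorem L13716 : sm gh N1096 = N1570 := rfl
theorem L13718 : sm ga N1570 = N1570 := ded_17_1 (flp_h L13716) L9614 L13716
theorem L13719 : sm gb N1570 = N1181 := ded_25_1 (flp_h L10386) (flp_b L9615) L13716
theorem L13721 : sm gc N1570 = N1570 := ded_32_1 (flp_h L13716) L9617 L13716
theorem L13722 : sm gf N1570 = N1102 := ded_47_1 (flp_h L9676) (flp_f L9620) L13716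
theorem L13724 : sm gg N1570 = N1570 := ded_50_1 (flp_h L13716) L9622 L13716
theorem L13725 : sm gi N1570 = N1570 := ded_54_2 (flp_h L13716) (flp_i L9612) L6706 L9612 L13716
theorem L13726 : sm gd N1097 = N1571 := rfl
theorem L13728 : sm ga N1571 = N1571 := ded_12_1 (flp_d L13726) L9625 L13726
theorem L13729 : sm gb N1571 = N1182 := ded_20_1 (flp_d L10394) (flp_b L9626) L13726
theorem L13731 : sm gf N1571 = N1103 := ded_35_2 (flp_d L9686) (flp_f L9629) L13726
theorem L13733 : sm gg N1571 = N1571 := ded_36_2 (flp_d L13726) L9631 L13726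
theorem L13734 : sm gi N1571 = N1098 := ded_39_2 (flp_d L9634) (flp_i L9632) L13726
theorem L13736 : sm gc N1098 = N1572 := rfl
theorem L13738 : sm ga N1572 = N1572 := ded_11_1 (flp_c L13736) L9636 L13736
theorem L13739 : sm gf N1572 = N1104 := ded_29_2 (flp_c L9695) (flp_f L9639) L13736
theorem L13741 : sm gg N1572 = N1572 := ded_30_2 (flp_c L13736) L9641 L13736
theorem L13742 : sm gh N1572 = N1572 := ded_32_2 (flp_c L13736) L9642 L13736
theorem L13743 : sm ge N1098 = N1573 := rfl
theorem L13745 : sm ga N1573 = N1573 := ded_13_1 (flp_e L13743) L9636 L13743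
theorem L13746 : sm gb N1573 = N1184 := ded_21_1 (flp_e L10412) (flp_b L9637) L13743
theorem L13748 : sm gg N1573 = N1573 := ded_41_2 (flp_e L13743) L9641 L13743
theorem L13749 : sm gh N1573 = N1573 := ded_43_2 (flp_e L13743) L9642 L13743
theorem L13750 : sm gd N1573 = N1573 := ded_34_1 (flp_e L13743) (flp_d L9634) L6721 L9634 L13743
theorem L13751 : sm gh N1099 = N1574 := rfl
theorem L13753 : sm ga N1574 = N1574 := ded_17_1 (flp_h L13751) L9645 L13751
theorem L13754 : sm gb N1574 = N1186 := ded_25_1 (flp_h L10431) (flp_b L9646) L13751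
theorem L13756 : sm gc N1574 = N1574 := ded_32_1 (flp_h L13751) L9648 L13751
theorem L13757 : sm ge N1574 = N1574 := ded_43_1 (flp_h L13751) L9651 L13751
theorem L13758 : sm gg N1574 = N1574 := ded_50_1 (flp_h L13751) L9652 L13751
theorem L13759 : sm gj N1574 = N1102 := ded_52_1 (flp_h L9676) (flp_j L9653) L13751
theorem L13761 : sm gi N1574 = N1574 := ded_54_2 (flp_h L13751) (flp_i L9643) L6735 L9643 L13751
theorem L13762 : sm gd N1100 = N1575 := rfl
theorem L13764 : sm ga N1575 = N1575 := ded_12_1 (flp_d L13762) L9657 L13762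
theorem L13765 : sm gb N1575 = N1187 := ded_20_1 (flp_d L10440) (flp_b L9658) L13762
theorem L13767 : sm gg N1575 = N1575 := ded_36_2 (flp_d L13762) L9662 L13762
theorem L13768 : sm gj N1575 = N1103 := ded_37_2 (flp_d L9686) (flp_j L9663) L13762
theorem L13770 : sm gi N1575 = N1101 := ded_39_2 (flp_d L9667) (flp_i L9665) L13762
theorem L13772 : sm gc N1101 = N1576 := rfl
theorem L13774 : sm ga N1576 = N1576 := ded_11_1 (flp_c L13772) L9669 L13772
theorem L13775 : sm gg N1576 = N1576 := ded_30_2 (flp_c L13772) L9672 L13772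
theorem L13776 : sm gj N1576 = N1104 := ded_31_2 (flp_c L9695) (flp_j L9673) L13772
theorem L13778 : sm gh N1576 = N1576 := ded_32_2 (flp_c L13772) L9675 L13772
theorem L13779 : sm ge N1101 = N1577 := rfl
theorem L13781 : sm ga N1577 = N1577 := ded_13_1 (flp_e L13779) L9669 L13779
theorem L13782 : sm gb N1577 = N1189 := ded_21_1 (flp_e L10458) (flp_b L9670) L13779
theorem L13784 : sm gg N1577 = N1577 := ded_41_2 (flp_e L13779) L9672 L13779
theorem L13785 : sm gj N1577 = N1105 := ded_42_2 (flp_e L9701) (flp_j L9673) L13779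
theorem L13787 : sm gh N1577 = N1577 := ded_43_2 (flp_e L13779) L9675 L13779
theorem L13788 : sm gd N1577 = N1114 := ded_34_1 (flp_e L9783) (flp_d L6831) (flp_e L6751) L9667 L13779
theorem L13790 : sm gd N1102 = N1578 := rfl
theorem L13792 : sm ga N1578 = N1578 := ded_12_1 (flp_d L13790) L9678 L13790
theorem L13793 : sm gb N1578 = N1191 := ded_20_1 (flp_d L10479) (flp_b L9679) L13790
theorem L13795 : sm gg N1578 = N1106 := ded_36_2 (flp_d L9711) (flp_g L9683) L13790
theorem L13797 : sm gi N1578 = N1578 := ded_39_2 (flp_d L13790) L9685 L13790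
theorem L13798 : sm gh N1578 = N1103 := ded_38_2 (flp_d L9686) (flp_h L6767) (flp_d L6762) L9676 L13790
theorem L13800 : sm gc N1103 = N1579 := rfl
theorem L13802 : sm ga N1579 = N1579 := ded_11_1 (flp_c L13800) L9688 L13800
theorem L13803 : sm gg N1579 = N1107 := ded_30_2 (flp_c L9721) (flp_g L9691) L13800
theorem L13805 : sm gi N1579 = N1104 := ded_33_2 (flp_c L9695) (flp_i L9693) L13800
theorem L13807 : sm ge N1103 = N1580 := rfl
theorem L13809 : sm ga N1580 = N1580 := ded_13_1 (flp_e L13807) L9688 L13807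
theorem L13810 : sm gb N1580 = N1193 := ded_21_1 (flp_e L10497) (flp_b L9689) L13807
theorem L13812 : sm gg N1580 = N1108 := ded_41_2 (flp_e L9728) (flp_g L9691) L13807
theorem L13814 : sm gi N1580 = N1105 := ded_44_2 (flp_e L9701) (flp_i L9693) L13807
theorem L13816 : sm gd N1580 = N1116 := ded_34_1 (flp_e L9802) (flp_d L6842) (flp_e L6772) L9686 L13807
theorem L13818 : sm gb N1104 = N1581 := rfl
theorem L13820 : sm gg N1581 = N1109 := ded_23_2 (flp_b L9738) (flp_g L9698) L13818
theorem L13822 : sm gh N1581 = N1581 := ded_25_2 (flp_b L13818) L9700 L13818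
theorem L13823 : sm gc N1581 = N1194 := ded_19_2 (flp_b L10507) (flp_c L7342) (flp_b L6781) L9695 L13818
theorem L13825 : sm ge N1104 = N1582 := rfl
theorem L13827 : sm ga N1582 = N1582 := ded_13_1 (flp_e L13825) L9697 L13825
theorem L13828 : sm gc N1582 = N1105 := ded_28_1 (flp_e L9701) L9695 L13825
theorem L13830 : sm gg N1582 = N1110 := ded_41_2 (flp_e L9745) (flp_g L9698) L13825
theorem L13832 : sm gh N1582 = N1582 := ded_43_2 (flp_e L13825) L9700 L13825
theorem L13833 : sm gf N1105 = N1583 := rfl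
theorem L13835 : sm ga N1583 = N1583 := ded_14_1 (flp_f L13833) L9703 L13833
theorem L13836 : sm gb N1583 = N1196 := ded_22_1 (flp_f L10522) (flp_b L9704) L13833
theorem L13838 : sm gd N1583 = N1119 := ded_35_1 (flp_f L9830) (flp_d L9709) L13833
theorem L13840 : sm gh N1583 = N1583 := ded_47_2 (flp_f L13833) L9708 L13833
theorem L13841 : sm gc N1106 = N1584 := rfl
theorem L13843 : sm ga N1584 = N1584 := ded_11_1 (flp_c L13841) L9713 L13841
theorem L13844 : sm gf N1584 = N1584 := ded_29_2 (flp_c L13841) L9716 L13841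
theorem L13845 : sm gj N1584 = N1584 := ded_31_2 (flp_c L13841) L9717 L13841
theorem L13846 : sm gh N1584 = N1107 := ded_32_2 (flp_c L9721) (flp_h L9719) L13841
theorem L13848 : sm gi N1584 = N1584 := ded_33_2 (flp_c L13841) L9718 L13841
theorem L13849 : sm gd N1584 = N1584 := ded_27_2 (flp_c L13841) (flp_d L9711) L6791 L9711 L13841
theorem L13850 : sm ge N1106 = N1585 := rfl
theorem L13852 : sm ga N1585 = N1585 := ded_13_1 (flp_e L13850) L9713 L13850
theorem L13853 : sm gb N1585 = N1199 := ded_21_1 (flp_e L10547) (flp_b L9714) L13850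
theorem L13855 : sm gj N1585 = N1585 := ded_42_2 (flp_e L13850) L9717 L13850
theorem L13856 : sm gh N1585 = N1108 := ded_43_2 (flp_e L9728) (flp_h L9719) L13850
theorem L13858 : sm gi N1585 = N1585 := ded_44_2 (flp_e L13850) L9718 L13850
theorem L13859 : sm gd N1585 = N1585 := ded_34_1 (flp_e L13850) (flp_d L9711) L6792 L9711 L13850
theorem L13860 : sm gb N1107 = N1586 := rfl
theorem L13862 : sm gf N1586 = N1586 := ded_22_2 (flp_b L13860) L9724 L13860
theorem L13863 : sm gj N1586 = N1586 := ded_24_2 (flp_b L13860) L9725 L13860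
theorem L13864 : sm gi N1586 = N1109 := ded_26_2 (flp_b L9738) (flp_i L9726) L13860
theorem L13866 : sm gc N1586 = N1200 := ded_19_2 (flp_b L10556) (flp_c L7379) (flp_b L6799) L9721 L13860
theorem L13868 : sm ge N1107 = N1587 := rfl
theorem L13870 : sm ga N1587 = N1587 := ded_13_1 (flp_e L13868) L9723 L13868
theorem L13871 : sm gc N1587 = N1108 := ded_28_1 (flp_e L9728) L9721 L13868
theorem L13873 : sm gj N1587 = N1587 := ded_42_2 (flp_e L13868) L9725 L13868
theorem L13874 : sm gi N1587 = N1110 := ded_44_2 (flp_e L9745) (flp_i L9726) L13868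
theorem L13876 : sm gf N1108 = N1588 := rfl
theorem L13878 : sm ga N1588 = N1588 := ded_14_1 (flp_f L13876) L9730 L13876
theorem L13879 : sm gb N1588 = N1202 := ded_22_1 (flp_f L10572) (flp_b L9731) L13876
theorem L13881 : sm gd N1588 = N1122 := ded_35_1 (flp_f L9857) (flp_d L9736) L13876
theorem L13883 : sm gj N1588 = N1588 := ded_46_2 (flp_f L13876) L9733 L13876
theorem L13884 : sm gi N1588 = N1111 := ded_48_2 (flp_f L9752) (flp_i L9734) L13876
theorem L13886 : sm ge N1588 = N1588 := ded_40_1 (flp_f L13876) (flp_e L9728) L6801 L9728 L13876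
theorem L13887 : sm ga N1109 = N1589 := rfl
theorem L13889 : sm gc N1589 = N1203 := ded_11_2 (flp_a L10582) (flp_c L9743) L13887
theorem L13891 : sm gf N1589 = N1589 := ded_14_2 (flp_a L13887) L9740 L13887
theorem L13892 : sm gj N1589 = N1589 := ded_16_2 (flp_a L13887) L9741 L13887
theorem L13893 : sm gh N1589 = N1589 := ded_17_2 (flp_a L13887) L9742 L13887
theorem L13894 : sm gb N1589 = N1589 := ded_10_2 (flp_a L13887) (flp_b L9738) L6807 L9738 L13887
theorem L13895 : sm ge N1109 = N1590 := rfl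
theorem L13897 : sm gb N1590 = N1110 := ded_21_1 (flp_e L9745) L9738 L13895
theorem L13899 : sm gc N1590 = N1204 := ded_28_1 (flp_e L10590) (flp_c L9743) L13895
theorem L13901 : sm gj N1590 = N1590 := ded_42_2 (flp_e L13895) L9741 L13895
theorem L13902 : sm gh N1590 = N1590 := ded_43_2 (flp_e L13895) L9742 L13895
theorem L13903 : sm gd N1110 = N1591 := rfl
theorem L13905 : sm ga N1591 = N1591 := ded_12_1 (flp_d L13903) L9747 L13903
theorem L13906 : sm gj N1591 = N1591 := ded_37_2 (flp_d L13903) L9750 L13903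
theorem L13907 : sm gc N1591 = N1125 := ded_27_1 (flp_d L9887) L6900 (flp_d L6818) (flp_c L9748) L13903
theorem L13909 : sm gf N1110 = N1592 := rfl
theorem L13911 : sm ga N1592 = N1592 := ded_14_1 (flp_f L13909) L9747 L13909
theorem L13912 : sm gc N1592 = N1111 := ded_29_1 (flp_f L9752) (flp_c L9748) L13909
theorem L13914 : sm gj N1592 = N1592 := ded_46_2 (flp_f L13909) L9750 L13909
theorem L13915 : sm gh N1592 = N1592 := ded_47_2 (flp_f L13909) L9751 L13909
theorem L13916 : sm ge N1592 = N1592 := ded_40_1 (flp_f L13909) (flp_e L9745) L6808 L9745 L13909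
theorem L13917 : sm gg N1111 = N1593 := rfl
theorem L13919 : sm ga N1593 = N1593 := ded_15_1 (flp_g L13917) L9754 L13917
theorem L13920 : sm gb N1593 = N1207 := ded_23_1 (flp_g L10613) (flp_b L9755) L13917
theorem L13922 : sm gd N1593 = N1127 := ded_36_1 (flp_g L9901) (flp_d L9757) L13917
theorem L13924 : sm ge N1593 = N1593 := ded_41_1 (flp_g L13917) L9761 L13917
theorem L13925 : sm gh N1593 = N1593 := ded_50_2 (flp_g L13917) L9760 L13917
theorem L13926 : sm gc N1112 = N1594 := rfl
theorem L13928 : sm ga N1594 = N1594 := ded_11_1 (flp_c L13926) L9764 L13926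
theorem L13929 : sm gf N1594 = N1594 := ded_29_2 (flp_c L13926) L9767 L13926
theorem L13930 : sm gg N1594 = N1594 := ded_30_2 (flp_c L13926) L9768 L13926
theorem L13931 : sm gj N1594 = N1115 := ded_31_2 (flp_c L9793) (flp_j L9769) L13926
theorem L13933 : sm gh N1594 = N1594 := ded_32_2 (flp_c L13926) L9773 L13926
theorem L13934 : sm gi N1594 = N1113 := ded_33_2 (flp_c L9774) (flp_i L9771) L13926
theorem L13936 : sm ge N1112 = N1595 := rfl
theorem L13938 : sm ga N1595 = N1595 := ded_13_1 (flp_e L13936) L9764 L13936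
theorem L13939 : sm gb N1595 = N1209 := ded_21_1 (flp_e L10633) (flp_b L9765) L13936
theorem L13941 : sm gg N1595 = N1595 := ded_41_2 (flp_e L13936) L9768 L13936
theorem L13942 : sm gj N1595 = N1116 := ded_42_2 (flp_e L9802) (flp_j L9769) L13936
theorem L13944 : sm gh N1595 = N1595 := ded_43_2 (flp_e L13936) L9773 L13936
theorem L13945 : sm gi N1595 = N1114 := ded_44_2 (flp_e L9783) (flp_i L9771) L13936
theorem L13947 : sm gb N1113 = N1596 := rfl
theorem L13949 : sm gf N1596 = N1596 := ded_22_2 (flp_b L13947) L9777 L13947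
theorem L13950 : sm gg N1596 = N1596 := ded_23_2 (flp_b L13947) L9778 L13947
theorem L13951 : sm gj N1596 = N1117 := ded_24_2 (flp_b L9812) (flp_j L9779) L13947
theorem L13953 : sm gh N1596 = N1140 := ded_25_2 (flp_b L10017) (flp_h L9781) L13947
theorem L13955 : sm gc N1596 = N1210 := ded_19_2 (flp_b L10643) (flp_c L7431) (flp_b L6834) L9774 L13947
theorem L13957 : sm ge N1113 = N1597 := rfl
theorem L13959 : sm ga N1597 = N1597 := ded_13_1 (flp_e L13957) L9776 L13957
theorem L13960 : sm gc N1597 = N1114 := ded_28_1 (flp_e L9783) L9774 L13957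
theorem L13962 : sm gg N1597 = N1597 := ded_41_2 (flp_e L13957) L9778 L13957
theorem L13963 : sm gj N1597 = N1118 := ded_42_2 (flp_e L9821) (flp_j L9779) L13957
theorem L13965 : sm gh N1597 = N1141 := ded_43_2 (flp_e L10027) (flp_h L9781) L13957
theorem L13967 : sm gf N1114 = N1598 := rfl
theorem L13969 : sm ga N1598 = N1598 := ded_14_1 (flp_f L13967) L9785 L13967
theorem L13970 : sm gb N1598 = N1212 := ded_22_1 (flp_f L10663) (flp_b L9786) L13967
theorem L13972 : sm gj N1598 = N1119 := ded_46_2 (flp_f L9830) (flp_j L9789) L13967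
theorem L13974 : sm gh N1598 = N1142 := ded_47_2 (flp_f L10036) (flp_h L9791) L13967
theorem L13976 : sm ge N1598 = N1598 := ded_40_1 (flp_f L13967) (flp_e L9783) L6836 L9783 L13967
theorem L13977 : sm gb N1115 = N1599 := rfl
theorem L13979 : sm gf N1599 = N1599 := ded_22_2 (flp_b L13977) L9796 L13977
theorem L13980 : sm gg N1599 = N1120 := ded_23_2 (flp_b L9838) (flp_g L9797) L13977
theorem L13982 : sm gh N1599 = N1599 := ded_25_2 (flp_b L13977) L9799 L13977
theorem L13983 : sm gi N1599 = N1117 := ded_26_2 (flp_b L9812) (flp_i L9800) L13977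
theorem L13985 : sm gc N1599 = N1213 := ded_19_2 (flp_b L10672) (flp_c L7451) (flp_b L6845) L9793 L13977
theorem L13987 : sm ge N1115 = N1600 := rfl
theorem L13989 : sm ga N1600 = N1600 := ded_13_1 (flp_e L13987) L9795 L13987
theorem L13990 : sm gc N1600 = N1116 := ded_28_1 (flp_e L9802) L9793 L13987
theorem L13992 : sm gg N1600 = N1121 := ded_41_2 (flp_e L9848) (flp_g L9797) L13987
theorem L13994 : sm gh N1600 = N1600 := ded_43_2 (flp_e L13987) L9799 L13987
theorem L13995 : sm gi N1600 = N1118 := ded_44_2 (flp_e L9821) (flp_i L9800) L13987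
theorem L13997 : sm gf N1116 = N1601 := rfl
theorem L13999 : sm ga N1601 = N1601 := ded_14_1 (flp_f L13997) L9804 L13997
theorem L14000 : sm gb N1601 = N1215 := ded_22_1 (flp_f L10692) (flp_b L9805) L13997
theorem L14002 : sm gh N1601 = N1601 := ded_47_2 (flp_f L13997) L9809 L13997
theorem L14003 : sm gi N1601 = N1119 := ded_48_2 (flp_f L9830) (flp_i L9810) L13997
theorem L14005 : sm ge N1601 = N1601 := ded_40_1 (flp_f L13997) (flp_e L9802) L6847 L9802 L13997
theorem L14006 : sm ga N1117 = N1602 := rfl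
theorem L14008 : sm gc N1602 = N1216 := ded_11_2 (flp_a L10700) (flp_c L9819) L14006
theorem L14010 : sm gf N1602 = N1602 := ded_14_2 (flp_a L14006) L9814 L14006
theorem L14011 : sm gg N1602 = N1123 := ded_15_2 (flp_a L9868) (flp_g L9815) L14006
theorem L14013 : sm gh N1602 = N1143 := ded_17_2 (flp_a L10046) (flp_h L9817) L14006
theorem L14015 : sm gb N1602 = N1602 := ded_10_2 (flp_a L14006) (flp_b L9812) L6855 L9812 L14006
theorem L14016 : sm ge N1117 = N1603 := rfl
theorem L14018 : sm gb N1603 = N1118 := ded_21_1 (flp_e L9821) L9812 L14016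
theorem L14020 : sm gc N1603 = N1217 := ded_28_1 (flp_e L10710) (flp_c L9819) L14016
theorem L14022 : sm gg N1603 = N1124 := ded_41_2 (flp_e L9878) (flp_g L9815) L14016
theorem L14024 : sm gh N1603 = N1144 := ded_43_2 (flp_e L10056) (flp_h L9817) L14016
theorem L14026 : sm gd N1118 = N1604 := rfl
theorem L14028 : sm ga N1604 = N1604 := ded_12_1 (flp_d L14026) L9823 L14026
theorem L14029 : sm gg N1604 = N1125 := ded_36_2 (flp_d L9887) (flp_g L9826) L14026
theorem L14031 : sm gf N1118 = N1605 := rfl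
theorem L14033 : sm ga N1605 = N1605 := ded_14_1 (flp_f L14031) L9823 L14031
theorem L14034 : sm gc N1605 = N1119 := ded_29_1 (flp_f L9830) (flp_c L9824) L14031
theorem L14036 : sm gh N1605 = N1146 := ded_47_2 (flp_f L10073) (flp_h L9828) L14031
theorem L14038 : sm ge N1605 = N1605 := ded_40_1 (flp_f L14031) (flp_e L9821) L6856 L9821 L14031
theorem L14039 : sm gg N1119 = N1606 := rfl
theorem L14041 : sm ga N1606 = N1606 := ded_15_1 (flp_g L14039) L9832 L14039
theorem L14042 : sm gb N1606 = N1220 := ded_23_1 (flp_g L10734) (flp_b L9833) L14039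
theorem L14044 : sm ge N1606 = N1606 := ded_41_1 (flp_g L14039) L9837 L14039
theorem L14045 : sm gh N1606 = N1147 := ded_50_2 (flp_g L10080) (flp_h L9835) L14039
theorem L14047 : sm gf N1606 = N1127 := ded_45_1 (flp_g L9901) (flp_f L6905) (flp_g L6866) L9830 L14039
theorem L14049 : sm ga N1120 = N1607 := rfl
theorem L14051 : sm gc N1607 = N1221 := ded_11_2 (flp_a L10743) (flp_c L9846) L14049
theorem L14053 : sm gf N1607 = N1128 := ded_14_2 (flp_a L9910) (flp_f L9840) L14049
theorem L14055 : sm gj N1607 = N1607 := ded_16_2 (flp_a L14049) L9842 L14049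
theorem L14056 : sm gh N1607 = N1607 := ded_17_2 (flp_a L14049) L9843 L14049
theorem L14057 : sm gi N1607 = N1123 := ded_18_2 (flp_a L9868) (flp_i L9844) L14049
theorem L14059 : sm gb N1607 = N1607 := ded_10_2 (flp_a L14049) (flp_b L9838) L6872 L9838 L14049
theorem L14060 : sm ge N1120 = N1608 := rfl
theorem L14062 : sm gb N1608 = N1121 := ded_21_1 (flp_e L9848) L9838 L14060
theorem L14064 : sm gc N1608 = N1222 := ded_28_1 (flp_e L10754) (flp_c L9846) L14060
theorem L14066 : sm gj N1608 = N1608 := ded_42_2 (flp_e L14060) L9842 L14060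
theorem L14067 : sm gh N1608 = N1608 := ded_43_2 (flp_e L14060) L9843 L14060
theorem L14068 : sm gi N1608 = N1124 := ded_44_2 (flp_e L9878) (flp_i L9844) L14060
theorem L14070 : sm gd N1121 = N1609 := rfl
theorem L14072 : sm ga N1609 = N1609 := ded_12_1 (flp_d L14070) L9850 L14070
theorem L14073 : sm gj N1609 = N1609 := ded_37_2 (flp_d L14070) L9853 L14070
theorem L14074 : sm gi N1609 = N1125 := ded_39_2 (flp_d L9887) (flp_i L9855) L14070
theorem L14076 : sm gf N1121 = N1610 := rfl
theorem L14078 : sm ga N1610 = N1610 := ded_14_1 (flp_f L14076) L9850 L14076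
theorem L14079 : sm gc N1610 = N1122 := ded_29_1 (flp_f L9857) (flp_c L9851) L14076
theorem L14081 : sm gj N1610 = N1610 := ded_46_2 (flp_f L14076) L9853 L14076
theorem L14082 : sm gh N1610 = N1610 := ded_47_2 (flp_f L14076) L9854 L14076
theorem L14083 : sm gi N1610 = N1126 := ded_48_2 (flp_f L9891) (flp_i L9855) L14076
theorem L14085 : sm ge N1610 = N1131 := ded_40_1 (flp_f L9939) (flp_e L6924) (flp_f L6873) L9848 L14076
theorem L14087 : sm gg N1122 = N1611 := rfl
theorem L14089 : sm ga N1611 = N1611 := ded_15_1 (flp_g L14087) L9859 L14087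
theorem L14090 : sm gb N1611 = N1225 := ded_23_1 (flp_g L10782) (flp_b L9860) L14087
theorem L14092 : sm ge N1611 = N1132 := ded_41_1 (flp_g L9948) (flp_e L9866) L14087
theorem L14094 : sm gh N1611 = N1611 := ded_50_2 (flp_g L14087) L9863 L14087
theorem L14095 : sm gi N1611 = N1127 := ded_51_2 (flp_g L9901) (flp_i L9864) L14087
theorem L14097 : sm ge N1123 = N1612 := rfl
theorem L14099 : sm ga N1612 = N1124 := ded_13_1 (flp_e L9878) L9868 L14097
theorem L14101 : sm gb N1612 = N1612 := ded_21_1 (flp_e L14097) L9877 L14097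
theorem L14102 : sm gc N1612 = N1226 := ded_28_1 (flp_e L10791) (flp_c L9870) L14097
theorem L14104 : sm gj N1612 = N1612 := ded_42_2 (flp_e L14097) L9874 L14097
theorem L14105 : sm gh N1612 = N1148 := ded_43_2 (flp_e L10090) (flp_h L9875) L14097
theorem L14107 : sm gd N1124 = N1613 := rfl
theorem L14109 : sm gb N1613 = N1125 := ded_20_1 (flp_d L9887) (flp_b L9880) L14107
theorem L14111 : sm gj N1613 = N1613 := ded_37_2 (flp_d L14107) L9884 L14107
theorem L14112 : sm gf N1124 = N1614 := rfl
theorem L14114 : sm gb N1614 = N1126 := ded_22_1 (flp_f L9891) (flp_b L9880) L14112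
theorem L14116 : sm gc N1614 = N1228 := ded_29_1 (flp_f L10806) (flp_c L9882) L14112
theorem L14118 : sm gj N1614 = N1614 := ded_46_2 (flp_f L14112) L9884 L14112
theorem L14119 : sm gh N1614 = N1150 := ded_47_2 (flp_f L10106) (flp_h L9885) L14112
theorem L14121 : sm ge N1614 = N1135 := ded_40_1 (flp_f L9975) (flp_e L6953) (flp_f L6890) L9878 L14112
theorem L14123 : sm gf N1125 = N1615 := rfl
theorem L14125 : sm ga N1615 = N1615 := ded_14_1 (flp_f L14123) L9889 L14123
theorem L14126 : sm gd N1615 = N1126 := ded_35_1 (flp_f L9891) L9887 L14123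
theorem L14128 : sm gj N1615 = N1615 := ded_46_2 (flp_f L14123) L9890 L14123
theorem L14129 : sm gh N1125 = N1616 := rfl
theorem L14131 : sm ga N1616 = N1616 := ded_17_1 (flp_h L14129) L9889 L14129
theorem L14132 : sm gj N1616 = N1616 := ded_52_1 (flp_h L14129) L9890 L14129
theorem L14133 : sm gd N1616 = N1152 := ded_38_1 (flp_h L10124) (flp_d L7048) (flp_h L6903) L9887 L14129
theorem L14135 : sm gg N1126 = N1617 := rfl
theorem L14137 : sm ga N1617 = N1617 := ded_15_1 (flp_g L14135) L9893 L14135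
theorem L14138 : sm gc N1617 = N1127 := ded_30_1 (flp_g L9901) (flp_c L9894) L14135
theorem L14140 : sm ge N1617 = N1138 := ded_41_1 (flp_g L9999) (flp_e L9899) L14135
theorem L14142 : sm gh N1617 = N1153 := ded_50_2 (flp_g L10130) (flp_h L9897) L14135
theorem L14144 : sm gj N1127 = N1618 := rfl
theorem L14146 : sm ga N1618 = N1618 := ded_16_1 (flp_j L14144) L9903 L14144
theorem L14147 : sm gb N1618 = N1232 := ded_24_1 (flp_j L10840) (flp_b L9904) L14144
theorem L14149 : sm ge N1618 = N1139 := ded_42_1 (flp_j L10007) (flp_e L9906) L14144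
theorem L14151 : sm gh N1618 = N1154 := ded_52_2 (flp_j L10138) (flp_h L9908) L14144
theorem L14153 : sm gg N1618 = N1618 := ded_49_1 (flp_j L14144) (flp_g L9901) L6910 L9901 L14144
theorem L14154 : sm ge N1128 = N1619 := rfl
theorem L14156 : sm ga N1619 = N1129 := ded_13_1 (flp_e L9920) L9910 L14154
theorem L14158 : sm gb N1619 = N1619 := ded_21_1 (flp_e L14154) L9919 L14154
theorem L14159 : sm gc N1619 = N1233 := ded_28_1 (flp_e L10849) (flp_c L9912) L14154
theorem L14161 : sm gg N1619 = N1619 := ded_41_2 (flp_e L14154) L9914 L14154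
theorem L14162 : sm gj N1619 = N1619 := ded_42_2 (flp_e L14154) L9915 L14154
theorem L14163 : sm gh N1619 = N1619 := ded_43_2 (flp_e L14154) L9916 L14154
theorem L14164 : sm gi N1619 = N1133 := ded_44_2 (flp_e L9958) (flp_i L9917) L14154
theorem L14166 : sm gd N1129 = N1620 := rfl
theorem L14168 : sm gb N1620 = N1130 := ded_20_1 (flp_d L9931) (flp_b L9922) L14166
theorem L14170 : sm gg N1620 = N1620 := ded_36_2 (flp_d L14166) L9926 L14166
theorem L14171 : sm gj N1620 = N1620 := ded_37_2 (flp_d L14166) L9927 L14166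
theorem L14172 : sm gi N1620 = N1134 := ded_39_2 (flp_d L9969) (flp_i L9929) L14166
theorem L14174 : sm gf N1129 = N1621 := rfl
theorem L14176 : sm gb N1621 = N1131 := ded_22_1 (flp_f L9939) (flp_b L9922) L14174
theorem L14178 : sm gc N1621 = N1235 := ded_29_1 (flp_f L10869) (flp_c L9924) L14174
theorem L14180 : sm gj N1621 = N1621 := ded_46_2 (flp_f L14174) L9927 L14174
theorem L14181 : sm gh N1621 = N1621 := ded_47_2 (flp_f L14174) L9928 L14174
theorem L14182 : sm gi N1621 = N1135 := ded_48_2 (flp_f L9975) (flp_i L9929) L14174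
theorem L14184 : sm gf N1130 = N1622 := rfl
theorem L14186 : sm ga N1622 = N1622 := ded_14_1 (flp_f L14184) L9933 L14184
theorem L14187 : sm gc N1622 = N1622 := ded_29_1 (flp_f L14184) L9938 L14184
theorem L14188 : sm gd N1622 = N1131 := ded_35_1 (flp_f L9939) L9931 L14184
theorem L14190 : sm gj N1622 = N1622 := ded_46_2 (flp_f L14184) L9935 L14184
theorem L14191 : sm gi N1622 = N1136 := ded_48_2 (flp_f L9984) (flp_i L9936) L14184
theorem L14193 : sm gh N1130 = N1623 := rfl
theorem L14195 : sm ga N1623 = N1623 := ded_17_1 (flp_h L14193) L9933 L14193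
theorem L14196 : sm gc N1623 = N1623 := ded_32_1 (flp_h L14193) L9938 L14193
theorem L14197 : sm gg N1623 = N1623 := ded_50_1 (flp_h L14193) L9934 L14193
theorem L14198 : sm gj N1623 = N1623 := ded_52_1 (flp_h L14193) L9935 L14193
theorem L14199 : sm gd N1623 = N1623 := ded_38_1 (flp_h L14193) (flp_d L9931) L6931 L9931 L14193
theorem L14200 : sm gg N1131 = N1624 := rfl
theorem L14202 : sm ga N1624 = N1624 := ded_15_1 (flp_g L14200) L9941 L14200
theorem L14203 : sm gc N1624 = N1132 := ded_30_1 (flp_g L9948) (flp_c L9942) L14200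
theorem L14205 : sm gh N1624 = N1624 := ded_50_2 (flp_g L14200) L9945 L14200
theorem L14206 : sm gi N1624 = N1138 := ded_51_2 (flp_g L9999) (flp_i L9946) L14200
theorem L14208 : sm gf N1624 = N1624 := ded_45_1 (flp_g L14200) (flp_f L9939) L6929 L9939 L14200
theorem L14209 : sm gj N1132 = N1625 := rfl
theorem L14211 : sm ga N1625 = N1625 := ded_16_1 (flp_j L14209) L9950 L14209
theorem L14212 : sm gb N1625 = N1239 := ded_24_1 (flp_j L10907) (flp_b L9951) L14209
theorem L14214 : sm gd N1625 = N1625 := ded_37_1 (flp_j L14209) L9953 L14209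
theorem L14215 : sm gf N1625 = N1625 := ded_46_1 (flp_j L14209) L9957 L14209
theorem L14216 : sm gh N1625 = N1625 := ded_52_2 (flp_j L14209) L9954 L14209
theorem L14217 : sm gi N1625 = N1139 := ded_53_2 (flp_j L10007) (flp_i L9955) L14209
theorem L14219 : sm gg N1625 = N1625 := ded_49_1 (flp_j L14209) (flp_g L9948) L6940 L9948 L14209
theorem L14220 : sm gd N1133 = N1626 := rfl
theorem L14222 : sm ga N1626 = N1134 := ded_12_1 (flp_d L9969) (flp_a L9960) L14220
theorem L14224 : sm gb N1626 = N1626 := ded_20_1 (flp_d L14220) L9962 L14220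
theorem L14225 : sm gg N1626 = N1626 := ded_36_2 (flp_d L14220) L9965 L14220
theorem L14226 : sm gj N1626 = N1626 := ded_37_2 (flp_d L14220) L9966 L14220
theorem L14227 : sm gf N1133 = N1627 := rfl
theorem L14229 : sm ga N1627 = N1135 := ded_14_1 (flp_f L9975) (flp_a L9960) L14227
theorem L14231 : sm gb N1627 = N1627 := ded_22_1 (flp_f L14227) L9962 L14227
theorem L14232 : sm gc N1627 = N1241 := ded_29_1 (flp_f L10927) (flp_c L9963) L14227
theorem L14234 : sm gj N1627 = N1627 := ded_46_2 (flp_f L14227) L9966 L14227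
theorem L14235 : sm gh N1627 = N1156 := ded_47_2 (flp_f L10158) (flp_h L9967) L14227
theorem L14237 : sm gc N1134 = N1628 := rfl
theorem L14239 : sm gg N1628 = N1628 := ded_30_2 (flp_c L14237) L9973 L14237
theorem L14240 : sm gj N1628 = N1628 := ded_31_2 (flp_c L14237) L9974 L14237
theorem L14241 : sm gb N1628 = N1628 := ded_19_1 (flp_c L14237) L9971 L6968 (flp_b L9971) L14237
theorem L14242 : sm gd N1628 = N1242 := ded_27_2 (flp_c L10936) (flp_d L7625) (flp_c L6957) L9969 L14237
theorem L14244 : sm gf N1134 = N1629 := rfl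
theorem L14246 : sm gb N1629 = N1136 := ded_22_1 (flp_f L9984) (flp_b L9971) L14244
theorem L14248 : sm gd N1629 = N1135 := ded_35_1 (flp_f L9975) L9969 L14244
theorem L14250 : sm gj N1629 = N1629 := ded_46_2 (flp_f L14244) L9974 L14244
theorem L14251 : sm gh N1134 = N1630 := rfl
theorem L14253 : sm gb N1630 = N1137 := ded_25_1 (flp_h L9991) (flp_b L9971) L14251
theorem L14255 : sm gg N1630 = N1630 := ded_50_1 (flp_h L14251) L9973 L14251
theorem L14256 : sm gj N1630 = N1630 := ded_52_1 (flp_h L14251) L9974 L14251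
theorem L14257 : sm gd N1630 = N1158 := ded_38_1 (flp_h L10176) (flp_d L7083) (flp_h L6961) L9969 L14251
theorem L14259 : sm gg N1135 = N1631 := rfl
theorem L14261 : sm gb N1631 = N1138 := ded_23_1 (flp_g L9999) (flp_b L9977) L14259
theorem L14263 : sm gc N1631 = N1244 := ded_30_1 (flp_g L10951) (flp_c L9979) L14259
theorem L14265 : sm gh N1631 = N1159 := ded_50_2 (flp_g L10184) (flp_h L9982) L14259
theorem L14267 : sm gf N1631 = N1631 := ded_45_1 (flp_g L14259) (flp_f L9975) L6959 L9975 L14259
theorem L14268 : sm ge N1136 = N1632 := rfl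
theorem L14270 : sm ga N1632 = N1632 := ded_13_1 (flp_e L14268) L9986 L14268
theorem L14271 : sm gc N1632 = N1632 := ded_28_1 (flp_e L14268) L9987 L14268
theorem L14272 : sm gj N1632 = N1632 := ded_42_2 (flp_e L14268) L9990 L14268
theorem L14273 : sm gg N1136 = N1633 := rfl
theorem L14275 : sm ga N1633 = N1633 := ded_15_1 (flp_g L14273) L9986 L14273
theorem L14276 : sm gc N1633 = N1633 := ded_30_1 (flp_g L14273) L9987 L14273
theorem L14277 : sm gd N1633 = N1138 := ded_36_1 (flp_g L9999) (flp_d L9988) L14273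
theorem L14279 : sm gf N1633 = N1633 := ded_45_1 (flp_g L14273) (flp_f L9984) L6966 L9984 L14273
theorem L14280 : sm gh N1136 = N1634 := rfl
theorem L14282 : sm ga N1634 = N1634 := ded_17_1 (flp_h L14280) L9986 L14280
theorem L14283 : sm gc N1634 = N1634 := ded_32_1 (flp_h L14280) L9987 L14280
theorem L14284 : sm gf N1634 = N1137 := ded_47_1 (flp_h L9991) L9984 L14280
theorem L14286 : sm gj N1634 = N1634 := ded_52_1 (flp_h L14280) L9990 L14280
theorem L14287 : sm gd N1634 = N1162 := ded_38_1 (flp_h L10209) L7105 (flp_h L6975) (flp_d L9988) L14280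
theorem L14289 : sm gi N1137 = N1635 := rfl
theorem L14291 : sm ga N1635 = N1635 := ded_18_1 (flp_i L14289) L9993 L14289
theorem L14292 : sm gc N1635 = N1635 := ded_33_1 (flp_i L14289) L9994 L14289
theorem L14293 : sm gd N1635 = N1163 := ded_39_1 (flp_i L10217) (flp_d L9997) L14289
theorem L14295 : sm gg N1635 = N1635 := ded_51_1 (flp_i L14289) L9995 L14289
theorem L14296 : sm gj N1635 = N1635 := ded_53_1 (flp_i L14289) L9996 L14289
theorem L14297 : sm gj N1138 = N1636 := rfl
theorem L14299 : sm ga N1636 = N1636 := ded_16_1 (flp_j L14297) L10001 L14297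
theorem L14300 : sm gc N1636 = N1139 := ded_31_1 (flp_j L10007) (flp_c L10002) L14297
theorem L14302 : sm gf N1636 = N1636 := ded_46_1 (flp_j L14297) L10006 L14297
theorem L14303 : sm gh N1636 = N1164 := ded_52_2 (flp_j L10226) (flp_h L10004) L14297
theorem L14305 : sm gg N1636 = N1636 := ded_49_1 (flp_j L14297) (flp_g L9999) L6974 L9999 L14297
theorem L14306 : sm ga N1140 = N1637 := rfl
theorem L14308 : sm gc N1637 = N1248 := ded_11_2 (flp_a L10985) (flp_c L10025) L14306
theorem L14310 : sm gd N1637 = N1637 := ded_12_2 (flp_a L14306) L10019 L14306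
theorem L14311 : sm gf N1637 = N1637 := ded_14_2 (flp_a L14306) L10020 L14306
theorem L14312 : sm gg N1637 = N1637 := ded_15_2 (flp_a L14306) L10021 L14306
theorem L14313 : sm gj N1637 = N1143 := ded_16_2 (flp_a L10046) (flp_j L10022) L14306
theorem L14315 : sm gi N1637 = N1637 := ded_18_2 (flp_a L14306) L10024 L14306
theorem L14316 : sm gb N1637 = N1637 := ded_10_2 (flp_a L14306) (flp_b L10017) L6988 L10017 L14306
theorem L14317 : sm ge N1140 = N1638 := rfl
theorem L14319 : sm gb N1638 = N1141 := ded_21_1 (flp_e L10027) L10017 L14317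
theorem L14321 : sm gc N1638 = N1249 := ded_28_1 (flp_e L10996) (flp_c L10025) L14317
theorem L14323 : sm gg N1638 = N1638 := ded_41_2 (flp_e L14317) L10021 L14317
theorem L14324 : sm gj N1638 = N1144 := ded_42_2 (flp_e L10056) (flp_j L10022) L14317
theorem L14326 : sm gi N1638 = N1638 := ded_44_2 (flp_e L14317) L10024 L14317
theorem L14327 : sm gd N1141 = N1639 := rfl
theorem L14329 : sm ga N1639 = N1639 := ded_12_1 (flp_d L14327) L10029 L14327
theorem L14330 : sm gg N1639 = N1639 := ded_36_2 (flp_d L14327) L10032 L14327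
theorem L14331 : sm gj N1639 = N1145 := ded_37_2 (flp_d L10065) (flp_j L10033) L14327
theorem L14333 : sm gi N1639 = N1639 := ded_39_2 (flp_d L14327) L10035 L14327
theorem L14334 : sm gc N1639 = N1639 := ded_27_1 (flp_d L14327) L10030 L7004 (flp_c L10030) L14327
theorem L14335 : sm ge N1639 = N1639 := ded_34_2 (flp_d L14327) (flp_e L10027) L6994 L10027 L14327
theorem L14336 : sm gf N1141 = N1640 := rfl
theorem L14338 : sm ga N1640 = N1640 := ded_14_1 (flp_f L14336) L10029 L14336
theorem L14339 : sm gc N1640 = N1142 := ded_29_1 (flp_f L10036) (flp_c L10030) L14336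
theorem L14341 : sm gj N1640 = N1146 := ded_46_2 (flp_f L10073) (flp_j L10033) L14336
theorem L14343 : sm gi N1640 = N1640 := ded_48_2 (flp_f L14336) L10035 L14336
theorem L14344 : sm ge N1640 = N1640 := ded_40_1 (flp_f L14336) (flp_e L10027) L6989 L10027 L14336
theorem L14345 : sm gg N1142 = N1641 := rfl
theorem L14347 : sm ga N1641 = N1641 := ded_15_1 (flp_g L14345) L10038 L14345
theorem L14348 : sm gb N1641 = N1252 := ded_23_1 (flp_g L11025) (flp_b L10039) L14345
theorem L14350 : sm gd N1641 = N1641 := ded_36_1 (flp_g L14345) L10041 L14345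
theorem L14351 : sm ge N1641 = N1641 := ded_41_1 (flp_g L14345) L10045 L14345
theorem L14352 : sm gi N1641 = N1641 := ded_51_2 (flp_g L14345) L10044 L14345
theorem L14353 : sm gf N1641 = N1641 := ded_45_1 (flp_g L14345) (flp_f L10036) L7000 L10036 L14345
theorem L14354 : sm ge N1143 = N1642 := rfl
theorem L14356 : sm ga N1642 = N1144 := ded_13_1 (flp_e L10056) L10046 L14354
theorem L14358 : sm gb N1642 = N1642 := ded_21_1 (flp_e L14354) L10055 L14354
theorem L14359 : sm gc N1642 = N1253 := ded_28_1 (flp_e L11033) (flp_c L10048) L14354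
theorem L14361 : sm gg N1642 = N1148 := ded_41_2 (flp_e L10090) (flp_g L10052) L14354
theorem L14363 : sm gi N1642 = N1642 := ded_44_2 (flp_e L14354) L10054 L14354
theorem L14364 : sm gd N1144 = N1643 := rfl
theorem L14366 : sm gb N1643 = N1145 := ded_20_1 (flp_d L10065) (flp_b L10058) L14364
theorem L14368 : sm gg N1643 = N1149 := ded_36_2 (flp_d L10099) (flp_g L10062) L14364
theorem L14370 : sm gi N1643 = N1643 := ded_39_2 (flp_d L14364) L10064 L14364
theorem L14371 : sm ge N1643 = N1643 := ded_34_2 (flp_d L14364) (flp_e L10056) L7007 L10056 L14364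
theorem L14372 : sm gf N1144 = N1644 := rfl
theorem L14374 : sm gb N1644 = N1146 := ded_22_1 (flp_f L10073) (flp_b L10058) L14372
theorem L14376 : sm gc N1644 = N1255 := ded_29_1 (flp_f L11051) (flp_c L10060) L14372
theorem L14378 : sm gi N1644 = N1644 := ded_48_2 (flp_f L14372) L10064 L14372
theorem L14379 : sm ge N1644 = N1644 := ded_40_1 (flp_f L14372) (flp_e L10056) L7008 L10056 L14372
theorem L14380 : sm gf N1145 = N1645 := rfl
theorem L14382 : sm ga N1645 = N1645 := ded_14_1 (flp_f L14380) L10067 L14380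
theorem L14383 : sm gc N1645 = N1645 := ded_29_1 (flp_f L14380) L10071 L14380
theorem L14384 : sm gd N1645 = N1146 := ded_35_1 (flp_f L10073) L10065 L14380
theorem L14386 : sm gi N1645 = N1645 := ded_48_2 (flp_f L14380) L10070 L14380
theorem L14387 : sm gh N1145 = N1646 := rfl
theorem L14389 : sm ga N1646 = N1646 := ded_17_1 (flp_h L14387) L10067 L14387
theorem L14390 : sm gc N1646 = N1646 := ded_32_1 (flp_h L14387) L10071 L14387
theorem L14391 : sm ge N1646 = N1646 := ded_43_1 (flp_h L14387) L10072 L14387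
theorem L14392 : sm gg N1646 = N1152 := ded_50_1 (flp_h L10124) (flp_g L10068) L14387
theorem L14394 : sm gg N1146 = N1647 := rfl
theorem L14396 : sm ga N1647 = N1647 := ded_15_1 (flp_g L14394) L10075 L14394
theorem L14397 : sm gc N1647 = N1147 := ded_30_1 (flp_g L10080) (flp_c L10076) L14394
theorem L14399 : sm ge N1647 = N1647 := ded_41_1 (flp_g L14394) L10079 L14394
theorem L14400 : sm gi N1647 = N1647 := ded_51_2 (flp_g L14394) L10078 L14394
theorem L14401 : sm gf N1647 = N1153 := ded_45_1 (flp_g L10130) (flp_f L7055) (flp_g L7019) L10073 L14394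
theorem L14403 : sm gj N1147 = N1648 := rfl
theorem L14405 : sm ga N1648 = N1648 := ded_16_1 (flp_j L14403) L10082 L14403
theorem L14406 : sm gb N1648 = N1259 := ded_24_1 (flp_j L11084) (flp_b L10083) L14403
theorem L14408 : sm gd N1648 = N1648 := ded_37_1 (flp_j L14403) L10085 L14403
theorem L14409 : sm ge N1648 = N1648 := ded_42_1 (flp_j L14403) L10086 L14403
theorem L14410 : sm gf N1648 = N1154 := ded_46_1 (flp_j L10138) (flp_f L10088) L14403
theorem L14412 : sm gi N1648 = N1648 := ded_53_2 (flp_j L14403) L10087 L14403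
theorem L14413 : sm gd N1148 = N1649 := rfl
theorem L14415 : sm ga N1649 = N1149 := ded_12_1 (flp_d L10099) (flp_a L10092) L14413
theorem L14417 : sm gb N1649 = N1649 := ded_20_1 (flp_d L14413) L10094 L14413
theorem L14418 : sm gj N1649 = N1649 := ded_37_2 (flp_d L14413) L10097 L14413
theorem L14419 : sm gi N1649 = N1649 := ded_39_2 (flp_d L14413) L10098 L14413
theorem L14420 : sm ge N1649 = N1649 := ded_34_2 (flp_d L14413) (flp_e L10090) L7034 L10090 L14413
theorem L14421 : sm gf N1148 = N1650 := rfl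
theorem L14423 : sm ga N1650 = N1150 := ded_14_1 (flp_f L10106) (flp_a L10092) L14421
theorem L14425 : sm gb N1650 = N1650 := ded_22_1 (flp_f L14421) L10094 L14421
theorem L14426 : sm gc N1650 = N1261 := ded_29_1 (flp_f L11103) (flp_c L10095) L14421
theorem L14428 : sm gj N1650 = N1650 := ded_46_2 (flp_f L14421) L10097 L14421
theorem L14429 : sm gi N1650 = N1650 := ded_48_2 (flp_f L14421) L10098 L14421
theorem L14430 : sm ge N1650 = N1156 := ded_40_1 (flp_f L10158) (flp_e L7073) (flp_f L7035) L10090 L14421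
theorem L14432 : sm gc N1149 = N1651 := rfl
theorem L14434 : sm ge N1651 = N1651 := ded_28_2 (flp_c L14432) L10105 L14432
theorem L14435 : sm gj N1651 = N1651 := ded_31_2 (flp_c L14432) L10103 L14432
theorem L14436 : sm gi N1651 = N1651 := ded_33_2 (flp_c L14432) L10104 L14432
theorem L14437 : sm gb N1651 = N1651 := ded_19_1 (flp_c L14432) L10101 L7053 (flp_b L10101) L14432
theorem L14438 : sm gd N1651 = N1262 := ded_27_2 (flp_c L11113) (flp_d L7747) (flp_c L7044) L10099 L14432
theorem L14440 : sm gf N1149 = N1652 := rfl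
theorem L14442 : sm gb N1652 = N1151 := ded_22_1 (flp_f L10116) (flp_b L10101) L14440
theorem L14444 : sm gd N1652 = N1150 := ded_35_1 (flp_f L10106) L10099 L14440
theorem L14446 : sm gj N1652 = N1652 := ded_46_2 (flp_f L14440) L10103 L14440
theorem L14447 : sm gi N1652 = N1652 := ded_48_2 (flp_f L14440) L10104 L14440
theorem L14448 : sm gh N1149 = N1653 := rfl
theorem L14450 : sm gb N1653 = N1152 := ded_25_1 (flp_h L10124) (flp_b L10101) L14448
theorem L14452 : sm ge N1653 = N1653 := ded_43_1 (flp_h L14448) L10105 L14448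
theorem L14453 : sm gj N1653 = N1653 := ded_52_1 (flp_h L14448) L10103 L14448
theorem L14454 : sm gg N1150 = N1654 := rfl
theorem L14456 : sm gb N1654 = N1153 := ded_23_1 (flp_g L10130) (flp_b L10108) L14454
theorem L14458 : sm gc N1654 = N1265 := ded_30_1 (flp_g L11136) (flp_c L10110) L14454
theorem L14460 : sm ge N1654 = N1159 := ded_41_1 (flp_g L10184) (flp_e L10114) L14454
theorem L14462 : sm gi N1654 = N1654 := ded_51_2 (flp_g L14454) L10113 L14454
theorem L14463 : sm ge N1151 = N1655 := rfl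
theorem L14465 : sm ga N1655 = N1655 := ded_13_1 (flp_e L14463) L10118 L14463
theorem L14466 : sm gc N1655 = N1655 := ded_28_1 (flp_e L14463) L10119 L14463
theorem L14467 : sm gj N1655 = N1655 := ded_42_2 (flp_e L14463) L10122 L14463
theorem L14468 : sm gi N1655 = N1655 := ded_44_2 (flp_e L14463) L10123 L14463
theorem L14469 : sm gd N1655 = N1160 := ded_34_1 (flp_e L10192) L7105 (flp_e L7062) (flp_d L10120) L14463
theorem L14471 : sm gf N1655 = N1655 := ded_40_2 (flp_e L14463) (flp_f L10116) L7054 L10116 L14463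
theorem L14472 : sm gg N1151 = N1656 := rfl
theorem L14474 : sm ga N1656 = N1656 := ded_15_1 (flp_g L14472) L10118 L14472
theorem L14475 : sm gc N1656 = N1656 := ded_30_1 (flp_g L14472) L10119 L14472
theorem L14476 : sm gd N1656 = N1153 := ded_36_1 (flp_g L10130) (flp_d L10120) L14472
theorem L14478 : sm gi N1656 = N1656 := ded_51_2 (flp_g L14472) L10123 L14472
theorem L14479 : sm gh N1151 = N1657 := rfl
theorem L14481 : sm ga N1657 = N1657 := ded_17_1 (flp_h L14479) L10118 L14479
theorem L14482 : sm gc N1657 = N1657 := ded_32_1 (flp_h L14479) L10119 L14479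
theorem L14483 : sm gf N1657 = N1152 := ded_47_1 (flp_h L10124) L10116 L14479
theorem L14485 : sm gj N1657 = N1657 := ded_52_1 (flp_h L14479) L10122 L14479
theorem L14486 : sm gi N1152 = N1658 := rfl
theorem L14488 : sm ga N1658 = N1658 := ded_18_1 (flp_i L14486) L10126 L14486
theorem L14489 : sm gc N1658 = N1658 := ded_33_1 (flp_i L14486) L10127 L14486
theorem L14490 : sm ge N1658 = N1658 := ded_44_1 (flp_i L14486) L10128 L14486
theorem L14491 : sm gj N1658 = N1658 := ded_53_1 (flp_i L14486) L10129 L14486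
theorem L14492 : sm gh N1658 = N1658 := ded_54_1 (flp_i L14486) (flp_h L10124) L7052 L10124 L14486
theorem L14493 : sm gj N1153 = N1659 := rfl
theorem L14495 : sm ga N1659 = N1659 := ded_16_1 (flp_j L14493) L10132 L14493
theorem L14496 : sm gc N1659 = N1154 := ded_31_1 (flp_j L10138) (flp_c L10133) L14493
theorem L14498 : sm ge N1659 = N1164 := ded_42_1 (flp_j L10226) (flp_e L10135) L14493
theorem L14500 : sm gi N1659 = N1659 := ded_53_2 (flp_j L14493) L10137 L14493
theorem L14501 : sm gg N1659 = N1659 := ded_49_1 (flp_j L14493) (flp_g L10130) L7060 L10130 L14493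
theorem L14502 : sm gf N1155 = N1660 := rfl
theorem L14504 : sm ga N1660 = N1157 := ded_14_1 (flp_f L10167) (flp_a L10150) L14502
theorem L14506 : sm gb N1660 = N1660 := ded_22_1 (flp_f L14502) L10152 L14502
theorem L14507 : sm gc N1660 = N1660 := ded_29_1 (flp_f L14502) L10156 L14502
theorem L14508 : sm gd N1660 = N1156 := ded_35_1 (flp_f L10158) L10148 L14502
theorem L14510 : sm gj N1660 = N1660 := ded_46_2 (flp_f L14502) L10154 L14502
theorem L14511 : sm gi N1660 = N1660 := ded_48_2 (flp_f L14502) L10155 L14502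
theorem L14512 : sm gh N1155 = N1661 := rfl
theorem L14514 : sm ga N1661 = N1158 := ded_17_1 (flp_h L10176) (flp_a L10150) L14512
theorem L14516 : sm gb N1661 = N1661 := ded_25_1 (flp_h L14512) L10152 L14512
theorem L14517 : sm gc N1661 = N1661 := ded_32_1 (flp_h L14512) L10156 L14512
theorem L14518 : sm ge N1661 = N1661 := ded_43_1 (flp_h L14512) L10157 L14512
theorem L14519 : sm gg N1661 = N1661 := ded_50_1 (flp_h L14512) L10153 L14512
theorem L14520 : sm gj N1661 = N1661 := ded_52_1 (flp_h L14512) L10154 L14512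
theorem L14521 : sm gg N1156 = N1662 := rfl
theorem L14523 : sm ga N1662 = N1159 := ded_15_1 (flp_g L10184) (flp_a L10160) L14521
theorem L14525 : sm gb N1662 = N1662 := ded_23_1 (flp_g L14521) L10162 L14521
theorem L14526 : sm gc N1662 = N1270 := ded_30_1 (flp_g L11180) (flp_c L10163) L14521
theorem L14528 : sm gi N1662 = N1662 := ded_51_2 (flp_g L14521) L10166 L14521
theorem L14529 : sm gf N1662 = N1662 := ded_45_1 (flp_g L14521) (flp_f L10158) L7080 L10158 L14521
theorem L14530 : sm ge N1157 = N1663 := rfl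
theorem L14532 : sm gb N1663 = N1160 := ded_21_1 (flp_e L10192) (flp_b L10169) L14530
theorem L14534 : sm gc N1663 = N1663 := ded_28_1 (flp_e L14530) L10171 L14530
theorem L14535 : sm gj N1663 = N1663 := ded_42_2 (flp_e L14530) L10174 L14530
theorem L14536 : sm gi N1663 = N1663 := ded_44_2 (flp_e L14530) L10175 L14530
theorem L14537 : sm gf N1663 = N1663 := ded_40_2 (flp_e L14530) (flp_f L10167) L7091 L10167 L14530
theorem L14538 : sm gg N1157 = N1664 := rfl
theorem L14540 : sm gb N1664 = N1161 := ded_23_1 (flp_g L10200) (flp_b L10169) L14538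
theorem L14542 : sm gc N1664 = N1664 := ded_30_1 (flp_g L14538) L10171 L14538
theorem L14543 : sm gd N1664 = N1159 := ded_36_1 (flp_g L10184) (flp_d L10172) L14538
theorem L14545 : sm gi N1664 = N1664 := ded_51_2 (flp_g L14538) L10175 L14538
theorem L14546 : sm gf N1664 = N1664 := ded_45_1 (flp_g L14538) (flp_f L10167) L7087 L10167 L14538
theorem L14547 : sm gh N1157 = N1665 := rfl
theorem L14549 : sm gb N1665 = N1162 := ded_25_1 (flp_h L10209) (flp_b L10169) L14547
theorem L14551 : sm gc N1665 = N1665 := ded_32_1 (flp_h L14547) L10171 L14547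
theorem L14552 : sm gf N1665 = N1158 := ded_47_1 (flp_h L10176) L10167 L14547
theorem L14554 : sm gj N1665 = N1665 := ded_52_1 (flp_h L14547) L10174 L14547
theorem L14555 : sm gi N1158 = N1666 := rfl
theorem L14557 : sm gb N1666 = N1163 := ded_26_1 (flp_i L10217) (flp_b L10178) L14555
theorem L14559 : sm gc N1666 = N1666 := ded_33_1 (flp_i L14555) L10180 L14555
theorem L14560 : sm ge N1666 = N1666 := ded_44_1 (flp_i L14555) L10181 L14555
theorem L14561 : sm gg N1666 = N1666 := ded_51_1 (flp_i L14555) L10182 L14555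
theorem L14562 : sm gj N1666 = N1666 := ded_53_1 (flp_i L14555) L10183 L14555
theorem L14563 : sm gh N1666 = N1666 := ded_54_1 (flp_i L14555) (flp_h L10176) L7089 L10176 L14555
theorem L14564 : sm gj N1159 = N1667 := rfl
theorem L14566 : sm gb N1667 = N1164 := ded_24_1 (flp_j L10226) (flp_b L10186) L14564
theorem L14568 : sm gc N1667 = N1271 := ded_31_1 (flp_j L11189) (flp_c L10188) L14564
theorem L14570 : sm gf N1667 = N1667 := ded_46_1 (flp_j L14564) L10191 L14564
theorem L14571 : sm gi N1667 = N1667 := ded_53_2 (flp_j L14564) L10190 L14564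
theorem L14572 : sm gg N1667 = N1667 := ded_49_1 (flp_j L14564) (flp_g L10184) L7098 L10184 L14564
theorem L14573 : sm gg N1160 = N1668 := rfl
theorem L14575 : sm ga N1668 = N1668 := ded_15_1 (flp_g L14573) L10194 L14573
theorem L14576 : sm gc N1668 = N1165 := ded_30_1 (flp_g L10234) (flp_c L10195) L14573
theorem L14578 : sm ge N1668 = N1161 := ded_41_1 (flp_g L10200) L10192 L14573
theorem L14580 : sm gi N1668 = N1668 := ded_51_2 (flp_g L14573) L10198 L14573
theorem L14581 : sm gh N1160 = N1669 := rfl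
theorem L14583 : sm ga N1669 = N1669 := ded_17_1 (flp_h L14581) L10194 L14581
theorem L14584 : sm gc N1669 = N1166 := ded_32_1 (flp_h L10242) (flp_c L10195) L14581
theorem L14586 : sm ge N1669 = N1162 := ded_43_1 (flp_h L10209) L10192 L14581
theorem L14588 : sm gf N1669 = N1669 := ded_47_1 (flp_h L14581) L10199 L14581
theorem L14589 : sm gj N1669 = N1669 := ded_52_1 (flp_h L14581) L10197 L14581
theorem L14590 : sm gj N1161 = N1670 := rfl
theorem L14592 : sm ga N1670 = N1670 := ded_16_1 (flp_j L14590) L10202 L14590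
theorem L14593 : sm gc N1670 = N1167 := ded_31_1 (flp_j L10250) (flp_c L10203) L14590
theorem L14595 : sm gd N1670 = N1164 := ded_37_1 (flp_j L10226) (flp_d L10205) L14590
theorem L14597 : sm gf N1670 = N1670 := ded_46_1 (flp_j L14590) L10208 L14590
theorem L14598 : sm gi N1670 = N1670 := ded_53_2 (flp_j L14590) L10207 L14590
theorem L14599 : sm gg N1670 = N1670 := ded_49_1 (flp_j L14590) (flp_g L10200) L7107 L10200 L14590
theorem L14600 : sm gh N1161 = N1671 := rfl
theorem L14602 : sm ga N1671 = N1671 := ded_17_1 (flp_h L14600) L10202 L14600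
theorem L14603 : sm gc N1671 = N1168 := ded_32_1 (flp_h L10259) (flp_c L10203) L14600
theorem L14605 : sm gf N1671 = N1671 := ded_47_1 (flp_h L14600) L10208 L14600
theorem L14606 : sm gg N1671 = N1162 := ded_50_1 (flp_h L10209) L10200 L14600
theorem L14608 : sm gi N1162 = N1672 := rfl
theorem L14610 : sm ga N1672 = N1672 := ded_18_1 (flp_i L14608) L10211 L14608
theorem L14611 : sm gc N1672 = N1169 := ded_33_1 (flp_i L10267) (flp_c L10212) L14608
theorem L14613 : sm gf N1672 = N1163 := ded_48_1 (flp_i L10217) (flp_f L10214) L14608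
theorem L14615 : sm gj N1672 = N1672 := ded_53_1 (flp_i L14608) L10216 L14608
theorem L14616 : sm gh N1672 = N1672 := ded_54_1 (flp_i L14608) (flp_h L10209) L7108 L10209 L14608
theorem L14617 : sm gf N1165 = N1673 := rfl
theorem L14619 : sm ga N1673 = N1673 := ded_14_1 (flp_f L14617) L10236 L14617
theorem L14620 : sm gb N1673 = N1673 := ded_22_1 (flp_f L14617) L10237 L14617
theorem L14621 : sm gd N1673 = N1673 := ded_35_1 (flp_f L14617) L10238 L14617
theorem L14622 : sm gi N1673 = N1673 := ded_48_2 (flp_f L14617) L10241 L14617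
theorem L14623 : sm ge N1673 = N1673 := ded_40_1 (flp_f L14617) L10239 L7149 (flp_e L10239) L14617
theorem L14624 : sm gg N1673 = N1673 := ded_45_2 (flp_f L14617) (flp_g L10234) L7141 L10234 L14617
theorem L14625 : sm gj N1165 = N1674 := rfl
theorem L14627 : sm ga N1674 = N1674 := ded_16_1 (flp_j L14625) L10236 L14625
theorem L14628 : sm gb N1674 = N1674 := ded_24_1 (flp_j L14625) L10237 L14625
theorem L14629 : sm gd N1674 = N1674 := ded_37_1 (flp_j L14625) L10238 L14625
theorem L14630 : sm ge N1674 = N1167 := ded_42_1 (flp_j L10250) (flp_e L10239) L14625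
theorem L14632 : sm gi N1674 = N1674 := ded_53_2 (flp_j L14625) L10241 L14625
theorem L14633 : sm gg N1674 = N1674 := ded_49_1 (flp_j L14625) (flp_g L10234) L7138 L10234 L14625
theorem L14634 : sm gh N1165 = N1675 := rfl
theorem L14636 : sm ga N1675 = N1675 := ded_17_1 (flp_h L14634) L10236 L14634
theorem L14637 : sm gb N1675 = N1675 := ded_25_1 (flp_h L14634) L10237 L14634
theorem L14638 : sm ge N1675 = N1168 := ded_43_1 (flp_h L10259) (flp_e L10239) L14634
theorem L14640 : sm gg N1675 = N1166 := ded_50_1 (flp_h L10242) L10234 L14634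
theorem L14642 : sm gd N1166 = N1676 := rfl
theorem L14644 : sm ga N1676 = N1676 := ded_12_1 (flp_d L14642) L10244 L14642
theorem L14645 : sm gb N1676 = N1676 := ded_20_1 (flp_d L14642) L10245 L14642
theorem L14646 : sm gf N1676 = N1676 := ded_35_2 (flp_d L14642) L10248 L14642
theorem L14647 : sm gj N1676 = N1676 := ded_37_2 (flp_d L14642) L10249 L14642
theorem L14648 : sm ge N1676 = N1676 := ded_34_2 (flp_d L14642) L10246 L7157 (flp_e L10246) L14642
theorem L14649 : sm gh N1676 = N1676 := ded_38_2 (flp_d L14642) (flp_h L10242) L7140 L10242 L14642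
theorem L14650 : sm gi N1166 = N1677 := rfl
theorem L14652 : sm ga N1677 = N1677 := ded_18_1 (flp_i L14650) L10244 L14650
theorem L14653 : sm gb N1677 = N1677 := ded_26_1 (flp_i L14650) L10245 L14650
theorem L14654 : sm ge N1677 = N1169 := ded_44_1 (flp_i L10267) (flp_e L10246) L14650
theorem L14656 : sm gf N1677 = N1677 := ded_48_1 (flp_i L14650) L10248 L14650
theorem L14657 : sm gj N1677 = N1677 := ded_53_1 (flp_i L14650) L10249 L14650
theorem L14658 : sm gh N1677 = N1677 := ded_54_1 (flp_i L14650) (flp_h L10242) L7139 L10242 L14650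
theorem L14659 : sm gh N1167 = N1678 := rfl
theorem L14661 : sm ga N1678 = N1678 := ded_17_1 (flp_h L14659) L10252 L14659
theorem L14662 : sm gb N1678 = N1678 := ded_25_1 (flp_h L14659) L10253 L14659
theorem L14663 : sm gf N1678 = N1678 := ded_47_1 (flp_h L14659) L10256 L14659
theorem L14664 : sm gg N1678 = N1678 := ded_50_1 (flp_h L14659) L10258 L14659
theorem L14665 : sm gj N1678 = N1168 := ded_52_1 (flp_h L10259) L10250 L14659
theorem L14667 : sm gd N1678 = N1678 := ded_38_1 (flp_h L14659) L10254 L7175 (flp_d L10254) L14659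
theorem L14668 : sm gi N1168 = N1679 := rfl
theorem L14670 : sm ga N1679 = N1679 := ded_18_1 (flp_i L14668) L10261 L14668
theorem L14671 : sm gb N1679 = N1679 := ded_26_1 (flp_i L14668) L10262 L14668
theorem L14672 : sm gd N1679 = N1679 := ded_39_1 (flp_i L14668) L10266 L14668
theorem L14673 : sm gf N1679 = N1679 := ded_48_1 (flp_i L14668) L10263 L14668
theorem L14674 : sm gg N1679 = N1169 := ded_51_1 (flp_i L10267) (flp_g L10264) L14668
theorem L14676 : sm gh N1679 = N1679 := ded_54_1 (flp_i L14668) (flp_h L10259) L7148 L10259 L14668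
theorem L14677 : sm gc N1170 = N1680 := rfl
theorem L14679 : sm ga N1680 = N1290 := ded_11_1 (flp_c L11357) (flp_a L10278) L14677
theorem L14681 : sm gf N1680 = N1680 := ded_29_2 (flp_c L14677) L10280 L14677
theorem L14682 : sm gg N1680 = N1173 := ded_30_2 (flp_c L10305) (flp_g L10281) L14677
theorem L14684 : sm gj N1680 = N1680 := ded_31_2 (flp_c L14677) L10283 L14677
theorem L14685 : sm gh N1680 = N1680 := ded_32_2 (flp_c L14677) L10284 L14677
theorem L14686 : sm gb N1680 = N1680 := ded_19_1 (flp_c L14677) (flp_b L13632) L13638 L13632 L14677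
theorem L14687 : sm gd N1680 = N1680 := ded_27_2 (flp_c L14677) (flp_d L10276) L7182 L10276 L14677
theorem L14688 : sm ge N1170 = N1681 := rfl
theorem L14690 : sm ga N1681 = N1291 := ded_13_1 (flp_e L11365) (flp_a L10278) L14688
theorem L14692 : sm gg N1681 = N1174 := ded_41_2 (flp_e L10316) (flp_g L10281) L14688
theorem L14694 : sm gj N1681 = N1681 := ded_42_2 (flp_e L14688) L10283 L14688
theorem L14695 : sm gh N1681 = N1681 := ded_43_2 (flp_e L14688) L10284 L14688
theorem L14696 : sm gd N1681 = N1681 := ded_34_1 (flp_e L14688) (flp_d L10276) L7183 L10276 L14688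
theorem L14697 : sm gi N1170 = N1682 := rfl
theorem L14699 : sm ga N1682 = N1292 := ded_18_1 (flp_i L11373) (flp_a L10278) L14697
theorem L14701 : sm gd N1682 = N1171 := ded_39_1 (flp_i L10285) L10276 L14697
theorem L14703 : sm gf N1682 = N1682 := ded_48_1 (flp_i L14697) L10280 L14697
theorem L14704 : sm gg N1682 = N1175 := ded_51_1 (flp_i L10325) (flp_g L10281) L14697
theorem L14706 : sm gj N1682 = N1682 := ded_53_1 (flp_i L14697) L10283 L14697
theorem L14707 : sm gh N1171 = N1683 := rfl
theorem L14709 : sm ga N1683 = N1293 := ded_17_1 (flp_h L11382) (flp_a L10287) L14707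
theorem L14711 : sm gc N1683 = N1683 := ded_32_1 (flp_h L14707) L10289 L14707
theorem L14712 : sm ge N1683 = N1683 := ded_43_1 (flp_h L14707) L10290 L14707
theorem L14713 : sm gf N1683 = N1683 := ded_47_1 (flp_h L14707) L10291 L14707
theorem L14714 : sm gg N1683 = N1176 := ded_50_1 (flp_h L10335) (flp_g L10292) L14707
theorem L14716 : sm gj N1683 = N1683 := ded_52_1 (flp_h L14707) L10294 L14707
theorem L14717 : sm gi N1683 = N1172 := ded_54_2 (flp_h L10295) (flp_i L7188) L7178 L10285 L14707
theorem L14719 : sm gd N1172 = N1684 := rfl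
theorem L14721 : sm ga N1684 = N1294 := ded_12_1 (flp_d L11393) (flp_a L10297) L14719
theorem L14723 : sm gf N1684 = N1684 := ded_35_2 (flp_d L14719) L10301 L14719
theorem L14724 : sm gg N1684 = N1177 := ded_36_2 (flp_d L10347) (flp_g L10302) L14719
theorem L14726 : sm gj N1684 = N1684 := ded_37_2 (flp_d L14719) L10304 L14719
theorem L14727 : sm gh N1684 = N1684 := ded_38_2 (flp_d L14719) (flp_h L10295) L7193 L10295 L14719
theorem L14728 : sm ge N1173 = N1685 := rfl
theorem L14730 : sm ga N1685 = N1296 := ded_13_1 (flp_e L11411) (flp_a L10307) L14728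
theorem L14732 : sm gb N1685 = N1685 := ded_21_1 (flp_e L14728) L10314 L14728
theorem L14733 : sm gc N1685 = N1174 := ded_28_1 (flp_e L10316) L10305 L14728
theorem L14735 : sm gj N1685 = N1178 := ded_42_2 (flp_e L10356) (flp_j L10311) L14728
theorem L14737 : sm gh N1685 = N1685 := ded_43_2 (flp_e L14728) L10313 L14728
theorem L14738 : sm gf N1685 = N1685 := ded_40_2 (flp_e L14728) L10309 L7278 (flp_f L10309) L14728
theorem L14739 : sm gi N1173 = N1686 := rfl
theorem L14741 : sm ga N1686 = N1297 := ded_18_1 (flp_i L11419) (flp_a L10307) L14739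
theorem L14743 : sm gb N1686 = N1686 := ded_26_1 (flp_i L14739) L10314 L14739
theorem L14744 : sm gc N1686 = N1175 := ded_33_1 (flp_i L10325) L10305 L14739
theorem L14746 : sm gd N1686 = N1686 := ded_39_1 (flp_i L14739) L10315 L14739
theorem L14747 : sm gf N1686 = N1185 := ded_48_1 (flp_i L10419) (flp_f L10309) L14739
theorem L14749 : sm gj N1686 = N1179 := ded_53_1 (flp_i L10366) (flp_j L10311) L14739
theorem L14751 : sm gi N1174 = N1687 := rfl
theorem L14753 : sm ga N1687 = N1298 := ded_18_1 (flp_i L11428) (flp_a L10318) L14751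
theorem L14755 : sm gd N1687 = N1687 := ded_39_1 (flp_i L14751) L10323 L14751
theorem L14756 : sm ge N1687 = N1175 := ded_44_1 (flp_i L10325) L10316 L14751
theorem L14758 : sm gf N1687 = N1687 := ded_48_1 (flp_i L14751) L10324 L14751
theorem L14759 : sm gj N1687 = N1180 := ded_53_1 (flp_i L10377) (flp_j L10320) L14751
theorem L14761 : sm gh N1175 = N1688 := rfl
theorem L14763 : sm ga N1688 = N1299 := ded_17_1 (flp_h L11437) (flp_a L10327) L14761
theorem L14765 : sm gf N1688 = N1186 := ded_47_1 (flp_h L10431) (flp_f L10331) L14761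
theorem L14767 : sm gj N1688 = N1181 := ded_52_1 (flp_h L10386) (flp_j L10333) L14761
theorem L14769 : sm gi N1688 = N1688 := ded_54_2 (flp_h L14761) (flp_i L10325) L7207 L10325 L14761
theorem L14770 : sm gd N1176 = N1689 := rfl
theorem L14772 : sm ga N1689 = N1300 := ded_12_1 (flp_d L11445) (flp_a L10337) L14770
theorem L14774 : sm gf N1689 = N1187 := ded_35_2 (flp_d L10440) (flp_f L10341) L14770
theorem L14776 : sm gj N1689 = N1182 := ded_37_2 (flp_d L10394) (flp_j L10343) L14770
theorem L14778 : sm gi N1689 = N1177 := ded_39_2 (flp_d L10347) (flp_i L10345) L14770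
theorem L14780 : sm gc N1177 = N1690 := rfl
theorem L14782 : sm ga N1690 = N1301 := ded_11_1 (flp_c L11454) (flp_a L10349) L14780
theorem L14784 : sm gf N1690 = N1188 := ded_29_2 (flp_c L10449) (flp_f L10351) L14780
theorem L14786 : sm gj N1690 = N1183 := ded_31_2 (flp_c L10403) (flp_j L10353) L14780
theorem L14788 : sm gh N1690 = N1690 := ded_32_2 (flp_c L14780) L10355 L14780
theorem L14789 : sm gd N1690 = N1690 := ded_27_2 (flp_c L14780) (flp_d L10347) L7222 L10347 L14780
theorem L14790 : sm ge N1177 = N1691 := rfl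
theorem L14792 : sm ga N1691 = N1302 := ded_13_1 (flp_e L11462) (flp_a L10349) L14790
theorem L14794 : sm gj N1691 = N1184 := ded_42_2 (flp_e L10412) (flp_j L10353) L14790
theorem L14796 : sm gh N1691 = N1691 := ded_43_2 (flp_e L14790) L10355 L14790
theorem L14797 : sm gd N1691 = N1691 := ded_34_1 (flp_e L14790) (flp_d L10347) L7223 L10347 L14790
theorem L14798 : sm gd N1178 = N1692 := rfl
theorem L14800 : sm ga N1692 = N1305 := ded_12_1 (flp_d L11488) (flp_a L10358) L14798
theorem L14802 : sm gb N1692 = N1692 := ded_20_1 (flp_d L14798) L10360 L14798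
theorem L14803 : sm gf N1692 = N1692 := ded_35_2 (flp_d L14798) L10365 L14798
theorem L14804 : sm gg N1692 = N1692 := ded_36_2 (flp_d L14798) L10363 L14798
theorem L14805 : sm gc N1692 = N1692 := ded_27_1 (flp_d L14798) L10361 L7244 (flp_c L10361) L14798
theorem L14806 : sm ge N1692 = N1692 := ded_34_2 (flp_d L14798) (flp_e L10356) L7237 L10356 L14798
theorem L14807 : sm gi N1178 = N1693 := rfl
theorem L14809 : sm ga N1693 = N1306 := ded_18_1 (flp_i L11494) (flp_a L10358) L14807
theorem L14811 : sm gb N1693 = N1693 := ded_26_1 (flp_i L14807) L10360 L14807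
theorem L14812 : sm gc N1693 = N1180 := ded_33_1 (flp_i L10377) (flp_c L10361) L14807
theorem L14814 : sm ge N1693 = N1179 := ded_44_1 (flp_i L10366) L10356 L14807
theorem L14816 : sm gf N1693 = N1693 := ded_48_1 (flp_i L14807) L10365 L14807
theorem L14817 : sm gg N1693 = N1693 := ded_51_1 (flp_i L14807) L10363 L14807
theorem L14818 : sm gh N1179 = N1694 := rfl
theorem L14820 : sm ga N1694 = N1307 := ded_17_1 (flp_h L11502) (flp_a L10368) L14818
theorem L14823 : sm gc N1694 = N1181 := ded_32_1 (flp_h L10386) (flp_c L10371) L14818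
theorem L14825 : sm gf N1694 = N1190 := ded_47_1 (flp_h L10468) (flp_f L10374) L14818
theorem L14828 : sm gi N1694 = N1694 := ded_54_2 (flp_h L14818) (flp_i L10366) L7235 L10366 L14818
theorem L14829 : sm gh N1180 = N1695 := rfl
theorem L14831 : sm ga N1695 = N1308 := ded_17_1 (flp_h L11510) (flp_a L10379) L14829
theorem L14833 : sm ge N1695 = N1181 := ded_43_1 (flp_h L10386) (flp_e L10382) L14829
theorem L14835 : sm gf N1695 = N1695 := ded_47_1 (flp_h L14829) L10384 L14829
theorem L14836 : sm gg N1695 = N1695 := ded_50_1 (flp_h L14829) L10385 L14829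
theorem L14837 : sm gi N1695 = N1695 := ded_54_2 (flp_h L14829) (flp_i L10377) L7243 L10377 L14829
theorem L14838 : sm gd N1181 = N1696 := rfl
theorem L14840 : sm ga N1696 = N1309 := ded_12_1 (flp_d L11518) (flp_a L10388) L14838
theorem L14842 : sm gf N1696 = N1191 := ded_35_2 (flp_d L10479) (flp_f L10390) L14838
theorem L14844 : sm gg N1696 = N1696 := ded_36_2 (flp_d L14838) L10392 L14838
theorem L14845 : sm gi N1696 = N1696 := ded_39_2 (flp_d L14838) L10393 L14838
theorem L14846 : sm gh N1696 = N1182 := ded_38_2 (flp_d L10394) (flp_h L7255) (flp_d L7250) L10386 L14838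
theorem L14848 : sm gc N1182 = N1697 := rfl
theorem L14850 : sm ga N1697 = N1310 := ded_11_1 (flp_c L11527) (flp_a L10396) L14848
theorem L14852 : sm gf N1697 = N1192 := ded_29_2 (flp_c L10488) (flp_f L10398) L14848
theorem L14854 : sm gg N1697 = N1697 := ded_30_2 (flp_c L14848) L10400 L14848
theorem L14855 : sm gi N1697 = N1183 := ded_33_2 (flp_c L10403) (flp_i L10401) L14848
theorem L14857 : sm gd N1697 = N1697 := ded_27_2 (flp_c L14848) (flp_d L10394) L7259 L10394 L14848
theorem L14858 : sm ge N1182 = N1698 := rfl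
theorem L14860 : sm ga N1698 = N1311 := ded_13_1 (flp_e L11535) (flp_a L10396) L14858
theorem L14862 : sm gg N1698 = N1698 := ded_41_2 (flp_e L14858) L10400 L14858
theorem L14863 : sm gi N1698 = N1184 := ded_44_2 (flp_e L10412) (flp_i L10401) L14858
theorem L14865 : sm gd N1698 = N1698 := ded_34_1 (flp_e L14858) (flp_d L10394) L7260 L10394 L14858
theorem L14866 : sm gb N1183 = N1699 := rfl
theorem L14868 : sm gd N1699 = N1699 := ded_20_2 (flp_b L14866) L10411 L14866
theorem L14869 : sm gf N1699 = N1194 := ded_22_2 (flp_b L10507) (flp_f L10407) L14866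
theorem L14871 : sm gg N1699 = N1699 := ded_23_2 (flp_b L14866) L10409 L14866
theorem L14872 : sm gh N1699 = N1699 := ded_25_2 (flp_b L14866) L10410 L14866
theorem L14873 : sm ge N1183 = N1700 := rfl
theorem L14875 : sm ga N1700 = N1313 := ded_13_1 (flp_e L11550) (flp_a L10405) L14873
theorem L14877 : sm gc N1700 = N1184 := ded_28_1 (flp_e L10412) L10403 L14873
theorem L14879 : sm gg N1700 = N1700 := ded_41_2 (flp_e L14873) L10409 L14873
theorem L14880 : sm gh N1700 = N1700 := ded_43_2 (flp_e L14873) L10410 L14873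
theorem L14881 : sm gf N1184 = N1701 := rfl
theorem L14883 : sm ga N1701 = N1314 := ded_14_1 (flp_f L11556) (flp_a L10414) L14881
theorem L14885 : sm gd N1701 = N1701 := ded_35_1 (flp_f L14881) L10418 L14881
theorem L14886 : sm gh N1701 = N1701 := ded_47_2 (flp_f L14881) L10417 L14881
theorem L14887 : sm ge N1701 = N1196 := ded_40_1 (flp_f L10522) (flp_e L7350) (flp_f L7270) L10412 L14881
theorem L14889 : sm gh N1185 = N1702 := rfl
theorem L14891 : sm ga N1702 = N1316 := ded_17_1 (flp_h L11574) (flp_a L10421) L14889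
theorem L14894 : sm gc N1702 = N1186 := ded_32_1 (flp_h L10431) (flp_c L10424) L14889
theorem L14897 : sm gg N1702 = N1702 := ded_50_1 (flp_h L14889) L10428 L14889
theorem L14898 : sm gj N1702 = N1190 := ded_52_1 (flp_h L10468) (flp_j L10429) L14889
theorem L14901 : sm gd N1186 = N1703 := rfl
theorem L14903 : sm ga N1703 = N1317 := ded_12_1 (flp_d L11583) (flp_a L10433) L14901
theorem L14905 : sm gg N1703 = N1703 := ded_36_2 (flp_d L14901) L10436 L14901
theorem L14906 : sm gj N1703 = N1191 := ded_37_2 (flp_d L10479) (flp_j L10437) L14901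
theorem L14908 : sm gi N1703 = N1703 := ded_39_2 (flp_d L14901) L10439 L14901
theorem L14909 : sm gh N1703 = N1187 := ded_38_2 (flp_d L10440) (flp_h L7295) (flp_d L7289) L10431 L14901
theorem L14911 : sm gc N1187 = N1704 := rfl
theorem L14913 : sm ga N1704 = N1318 := ded_11_1 (flp_c L11592) (flp_a L10442) L14911
theorem L14915 : sm gg N1704 = N1704 := ded_30_2 (flp_c L14911) L10444 L14911
theorem L14916 : sm gj N1704 = N1192 := ded_31_2 (flp_c L10488) (flp_j L10445) L14911
theorem L14918 : sm gi N1704 = N1188 := ded_33_2 (flp_c L10449) (flp_i L10447) L14911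
theorem L14920 : sm gd N1704 = N1704 := ded_27_2 (flp_c L14911) (flp_d L10440) L7299 L10440 L14911
theorem L14921 : sm ge N1187 = N1705 := rfl
theorem L14923 : sm ga N1705 = N1319 := ded_13_1 (flp_e L11600) (flp_a L10442) L14921
theorem L14925 : sm gg N1705 = N1705 := ded_41_2 (flp_e L14921) L10444 L14921
theorem L14926 : sm gj N1705 = N1193 := ded_42_2 (flp_e L10497) (flp_j L10445) L14921
theorem L14928 : sm gi N1705 = N1189 := ded_44_2 (flp_e L10458) (flp_i L10447) L14921
theorem L14930 : sm gd N1705 = N1209 := ded_34_1 (flp_e L10633) (flp_d L7420) (flp_e L7300) L10440 L14921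
theorem L14932 : sm gb N1188 = N1706 := rfl
theorem L14934 : sm gd N1706 = N1706 := ded_20_2 (flp_b L14932) L10457 L14932
theorem L14935 : sm gg N1706 = N1706 := ded_23_2 (flp_b L14932) L10453 L14932
theorem L14936 : sm gj N1706 = N1194 := ded_24_2 (flp_b L10507) (flp_j L10454) L14932
theorem L14938 : sm gh N1706 = N1706 := ded_25_2 (flp_b L14932) L10456 L14932
theorem L14939 : sm ge N1188 = N1707 := rfl
theorem L14941 : sm ga N1707 = N1321 := ded_13_1 (flp_e L11618) (flp_a L10451) L14939
theorem L14943 : sm gc N1707 = N1189 := ded_28_1 (flp_e L10458) L10449 L14939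
theorem L14945 : sm gg N1707 = N1707 := ded_41_2 (flp_e L14939) L10453 L14939
theorem L14946 : sm gj N1707 = N1195 := ded_42_2 (flp_e L10513) (flp_j L10454) L14939
theorem L14948 : sm gh N1707 = N1707 := ded_43_2 (flp_e L14939) L10456 L14939
theorem L14949 : sm gf N1189 = N1708 := rfl
theorem L14951 : sm ga N1708 = N1322 := ded_14_1 (flp_f L11626) (flp_a L10460) L14949
theorem L14953 : sm gd N1708 = N1212 := ded_35_1 (flp_f L10663) (flp_d L10466) L14949
theorem L14955 : sm gj N1708 = N1196 := ded_46_2 (flp_f L10522) (flp_j L10463) L14949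
theorem L14957 : sm gh N1708 = N1708 := ded_47_2 (flp_f L14949) L10465 L14949
theorem L14958 : sm gd N1190 = N1709 := rfl
theorem L14960 : sm ga N1709 = N1324 := ded_12_1 (flp_d L11644) (flp_a L10470) L14958
theorem L14963 : sm gg N1709 = N1197 := ded_36_2 (flp_d L10529) (flp_g L10476) L14958
theorem L14967 : sm gc N1191 = N1710 := rfl
theorem L14969 : sm ga N1710 = N1325 := ded_11_1 (flp_c L11650) (flp_a L10481) L14967
theorem L14971 : sm gg N1710 = N1198 := ded_30_2 (flp_c L10538) (flp_g L10483) L14967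
theorem L14973 : sm gh N1710 = N1192 := ded_32_2 (flp_c L10488) (flp_h L10486) L14967
theorem L14976 : sm ge N1191 = N1711 := rfl
theorem L14978 : sm ga N1711 = N1326 := ded_13_1 (flp_e L11657) (flp_a L10481) L14976
theorem L14980 : sm gg N1711 = N1199 := ded_41_2 (flp_e L10547) (flp_g L10483) L14976
theorem L14982 : sm gh N1711 = N1193 := ded_43_2 (flp_e L10497) (flp_h L10486) L14976
theorem L14984 : sm gi N1711 = N1711 := ded_44_2 (flp_e L14976) L10485 L14976
theorem L14985 : sm gd N1711 = N1711 := ded_34_1 (flp_e L14976) (flp_d L10479) L7330 L10479 L14976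
theorem L14986 : sm gb N1192 = N1712 := rfl
theorem L14988 : sm gd N1712 = N1712 := ded_20_2 (flp_b L14986) L10496 L14986
theorem L14989 : sm gg N1712 = N1200 := ded_23_2 (flp_b L10556) (flp_g L10492) L14986
theorem L14991 : sm gi N1712 = N1194 := ded_26_2 (flp_b L10507) (flp_i L10494) L14986
theorem L14993 : sm ge N1192 = N1713 := rfl
theorem L14995 : sm ga N1713 = N1328 := ded_13_1 (flp_e L11674) (flp_a L10490) L14993
theorem L14997 : sm gc N1713 = N1193 := ded_28_1 (flp_e L10497) L10488 L14993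
theorem L14999 : sm gg N1713 = N1201 := ded_41_2 (flp_e L10563) (flp_g L10492) L14993
theorem L15001 : sm gi N1713 = N1195 := ded_44_2 (flp_e L10513) (flp_i L10494) L14993
theorem L15003 : sm gf N1193 = N1714 := rfl
theorem L15005 : sm ga N1714 = N1329 := ded_14_1 (flp_f L11682) (flp_a L10499) L15003
theorem L15007 : sm gd N1714 = N1215 := ded_35_1 (flp_f L10692) (flp_d L10505) L15003
theorem L15009 : sm gi N1714 = N1196 := ded_48_2 (flp_f L10522) (flp_i L10503) L15003
theorem L15011 : sm ga N1194 = N1715 := rfl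
theorem L15013 : sm gd N1715 = N1715 := ded_12_2 (flp_a L15011) L10509 L15011
theorem L15014 : sm gg N1715 = N1203 := ded_15_2 (flp_a L10582) (flp_g L10510) L15011
theorem L15016 : sm gh N1715 = N1715 := ded_17_2 (flp_a L15011) L10512 L15011
theorem L15017 : sm gb N1715 = N1330 := ded_10_2 (flp_a L11689) (flp_b L8176) (flp_a L7344) L10507 L15011
theorem L15019 : sm ge N1194 = N1716 := rfl
theorem L15021 : sm gb N1716 = N1195 := ded_21_1 (flp_e L10513) L10507 L15019
theorem L15023 : sm gg N1716 = N1204 := ded_41_2 (flp_e L10590) (flp_g L10510) L15019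
theorem L15025 : sm gh N1716 = N1716 := ded_43_2 (flp_e L15019) L10512 L15019
theorem L15026 : sm gd N1195 = N1717 := rfl
theorem L15028 : sm ga N1717 = N1332 := ded_12_1 (flp_d L11704) (flp_a L10515) L15026
theorem L15030 : sm gg N1717 = N1205 := ded_36_2 (flp_d L10596) (flp_g L10519) L15026
theorem L15032 : sm gc N1717 = N1218 := ded_27_1 (flp_d L10718) L7483 (flp_d L7357) (flp_c L10517) L15026
theorem L15034 : sm ge N1717 = N1717 := ded_34_2 (flp_d L15026) (flp_e L10513) L7349 L10513 L15026
theorem L15035 : sm gf N1195 = N1718 := rfl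
theorem L15037 : sm ga N1718 = N1333 := ded_14_1 (flp_f L11711) (flp_a L10515) L15035
theorem L15039 : sm gc N1718 = N1196 := ded_29_1 (flp_f L10522) (flp_c L10517) L15035
theorem L15041 : sm gh N1718 = N1718 := ded_47_2 (flp_f L15035) L10521 L15035
theorem L15042 : sm gg N1196 = N1719 := rfl
theorem L15044 : sm ga N1719 = N1334 := ded_15_1 (flp_g L11716) (flp_a L10524) L15042
theorem L15046 : sm gd N1719 = N1220 := ded_36_1 (flp_g L10734) (flp_d L10526) L15042
theorem L15048 : sm gh N1719 = N1719 := ded_50_2 (flp_g L15042) L10528 L15042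
theorem L15049 : sm gf N1719 = N1207 := ded_45_1 (flp_g L10613) (flp_f L7411) (flp_g L7354) L10522 L15042
theorem L15051 : sm gc N1197 = N1720 := rfl
theorem L15053 : sm ga N1720 = N1336 := ded_11_1 (flp_c L11733) (flp_a L10531) L15051
theorem L15056 : sm gj N1720 = N1720 := ded_31_2 (flp_c L15051) L10535 L15051
theorem L15059 : sm gd N1720 = N1198 := ded_27_2 (flp_c L10538) (flp_d L7370) (flp_c L7364) L10529 L15051
theorem L15061 : sm ge N1197 = N1721 := rfl
theorem L15063 : sm ga N1721 = N1337 := ded_13_1 (flp_e L11741) (flp_a L10531) L15061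
theorem L15066 : sm gj N1721 = N1721 := ded_42_2 (flp_e L15061) L10535 L15061
theorem L15070 : sm gb N1198 = N1722 := rfl
theorem L15074 : sm gh N1722 = N1200 := ded_25_2 (flp_b L10556) (flp_h L10544) L15070
theorem L15077 : sm ge N1198 = N1723 := rfl
theorem L15079 : sm ga N1723 = N1339 := ded_13_1 (flp_e L11755) (flp_a L10540) L15077
theorem L15081 : sm gc N1723 = N1199 := ded_28_1 (flp_e L10547) L10538 L15077
theorem L15083 : sm gj N1723 = N1723 := ded_42_2 (flp_e L15077) L10543 L15077
theorem L15084 : sm gh N1723 = N1201 := ded_43_2 (flp_e L10563) (flp_h L10544) L15077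
theorem L15087 : sm gf N1199 = N1724 := rfl
theorem L15089 : sm ga N1724 = N1340 := ded_14_1 (flp_f L11763) (flp_a L10549) L15087
theorem L15091 : sm gd N1724 = N1724 := ded_35_1 (flp_f L15087) L10555 L15087
theorem L15092 : sm gj N1724 = N1724 := ded_46_2 (flp_f L15087) L10551 L15087
theorem L15093 : sm gh N1724 = N1202 := ded_47_2 (flp_f L10572) (flp_h L10552) L15087
theorem L15095 : sm gi N1724 = N1724 := ded_48_2 (flp_f L15087) L10554 L15087
theorem L15096 : sm ge N1724 = N1724 := ded_40_1 (flp_f L15087) (flp_e L10547) L7374 L10547 L15087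
theorem L15097 : sm ga N1200 = N1725 := rfl
theorem L15102 : sm gi N1725 = N1203 := ded_18_2 (flp_a L10582) (flp_i L10561) L15097
theorem L15104 : sm gb N1725 = N1341 := ded_10_2 (flp_a L11772) (flp_b L8227) (flp_a L7381) L10556 L15097
theorem L15106 : sm ge N1200 = N1726 := rfl
theorem L15108 : sm gb N1726 = N1201 := ded_21_1 (flp_e L10563) L10556 L15106
theorem L15110 : sm gj N1726 = N1726 := ded_42_2 (flp_e L15106) L10560 L15106
theorem L15111 : sm gi N1726 = N1204 := ded_44_2 (flp_e L10590) (flp_i L10561) L15106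
theorem L15113 : sm gd N1201 = N1727 := rfl
theorem L15115 : sm ga N1727 = N1343 := ded_12_1 (flp_d L11788) (flp_a L10565) L15113
theorem L15117 : sm gj N1727 = N1727 := ded_37_2 (flp_d L15113) L10569 L15113
theorem L15118 : sm gi N1727 = N1205 := ded_39_2 (flp_d L10596) (flp_i L10570) L15113
theorem L15120 : sm gc N1727 = N1223 := ded_27_1 (flp_d L10762) L7509 (flp_d L7395) (flp_c L10567) L15113
theorem L15122 : sm ge N1727 = N1727 := ded_34_2 (flp_d L15113) (flp_e L10563) L7387 L10563 L15113
theorem L15123 : sm gf N1201 = N1728 := rfl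
theorem L15125 : sm ga N1728 = N1344 := ded_14_1 (flp_f L11796) (flp_a L10565) L15123
theorem L15127 : sm gc N1728 = N1202 := ded_29_1 (flp_f L10572) (flp_c L10567) L15123
theorem L15129 : sm gj N1728 = N1728 := ded_46_2 (flp_f L15123) L10569 L15123
theorem L15130 : sm gi N1728 = N1206 := ded_48_2 (flp_f L10604) (flp_i L10570) L15123
theorem L15132 : sm ge N1728 = N1728 := ded_40_1 (flp_f L15123) (flp_e L10563) L7383 L10563 L15123
theorem L15133 : sm gg N1202 = N1729 := rfl
theorem L15135 : sm ga N1729 = N1345 := ded_15_1 (flp_g L11804) (flp_a L10574) L15133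
theorem L15137 : sm gd N1729 = N1225 := ded_36_1 (flp_g L10782) (flp_d L10576) L15133
theorem L15139 : sm ge N1729 = N1729 := ded_41_1 (flp_g L15133) L10581 L15133
theorem L15140 : sm gi N1729 = N1207 := ded_51_2 (flp_g L10613) (flp_i L10579) L15133
theorem L15142 : sm ge N1203 = N1730 := rfl
theorem L15144 : sm ga N1730 = N1204 := ded_13_1 (flp_e L10590) L10582 L15142
theorem L15146 : sm gb N1730 = N1346 := ded_21_1 (flp_e L11812) (flp_b L10588) L15142
theorem L15148 : sm gj N1730 = N1730 := ded_42_2 (flp_e L15142) L10586 L15142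
theorem L15149 : sm gh N1730 = N1730 := ded_43_2 (flp_e L15142) L10587 L15142
theorem L15150 : sm gd N1204 = N1731 := rfl
theorem L15152 : sm gb N1731 = N1205 := ded_20_1 (flp_d L10596) (flp_b L10592) L15150
theorem L15154 : sm gj N1731 = N1731 := ded_37_2 (flp_d L15150) L10594 L15150
theorem L15155 : sm ge N1731 = N1731 := ded_34_2 (flp_d L15150) (flp_e L10590) L7399 L10590 L15150
theorem L15156 : sm gf N1204 = N1732 := rfl
theorem L15158 : sm gb N1732 = N1206 := ded_22_1 (flp_f L10604) (flp_b L10592) L15156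
theorem L15160 : sm gj N1732 = N1732 := ded_46_2 (flp_f L15156) L10594 L15156
theorem L15161 : sm gh N1732 = N1732 := ded_47_2 (flp_f L15156) L10595 L15156
theorem L15162 : sm ge N1732 = N1732 := ded_40_1 (flp_f L15156) (flp_e L10590) L7400 L10590 L15156
theorem L15163 : sm gf N1205 = N1733 := rfl
theorem L15165 : sm ga N1733 = N1349 := ded_14_1 (flp_f L11833) (flp_a L10598) L15163
theorem L15167 : sm gc N1733 = N1229 := ded_29_1 (flp_f L10815) (flp_c L10601) L15163
theorem L15169 : sm gd N1733 = N1206 := ded_35_1 (flp_f L10604) L10596 L15163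
theorem L15171 : sm gj N1733 = N1733 := ded_46_2 (flp_f L15163) L10600 L15163
theorem L15172 : sm gh N1205 = N1734 := rfl
theorem L15174 : sm ga N1734 = N1350 := ded_17_1 (flp_h L11840) (flp_a L10598) L15172
theorem L15176 : sm gc N1734 = N1230 := ded_32_1 (flp_h L10822) (flp_c L10601) L15172
theorem L15178 : sm ge N1734 = N1734 := ded_43_1 (flp_h L15172) L10603 L15172
theorem L15179 : sm gj N1734 = N1734 := ded_52_1 (flp_h L15172) L10600 L15172
theorem L15180 : sm gd N1734 = N1734 := ded_38_1 (flp_h L15172) (flp_d L10596) L7410 L10596 L15172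
theorem L15181 : sm gg N1206 = N1735 := rfl
theorem L15183 : sm ga N1735 = N1351 := ded_15_1 (flp_g L11847) (flp_a L10606) L15181
theorem L15185 : sm gc N1735 = N1207 := ded_30_1 (flp_g L10613) (flp_c L10608) L15181
theorem L15187 : sm ge N1735 = N1735 := ded_41_1 (flp_g L15181) L10612 L15181
theorem L15188 : sm gh N1735 = N1735 := ded_50_2 (flp_g L15181) L10611 L15181
theorem L15189 : sm gj N1207 = N1736 := rfl
theorem L15191 : sm ga N1736 = N1352 := ded_16_1 (flp_j L11853) (flp_a L10615) L15189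
theorem L15193 : sm gd N1736 = N1232 := ded_37_1 (flp_j L10840) (flp_d L10617) L15189
theorem L15195 : sm ge N1736 = N1736 := ded_42_1 (flp_j L15189) L10619 L15189
theorem L15196 : sm gh N1736 = N1736 := ded_52_2 (flp_j L15189) L10620 L15189
theorem L15197 : sm gg N1736 = N1736 := ded_49_1 (flp_j L15189) (flp_g L10613) L7417 L10613 L15189
theorem L15198 : sm gb N1208 = N1737 := rfl
theorem L15200 : sm gd N1737 = N1737 := ded_20_2 (flp_b L15198) L10632 L15198
theorem L15201 : sm gf N1737 = N1737 := ded_22_2 (flp_b L15198) L10625 L15198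
theorem L15202 : sm gg N1737 = N1737 := ded_23_2 (flp_b L15198) L10626 L15198
theorem L15203 : sm gj N1737 = N1213 := ded_24_2 (flp_b L10672) (flp_j L10627) L15198
theorem L15205 : sm gh N1737 = N1737 := ded_25_2 (flp_b L15198) L10629 L15198
theorem L15206 : sm gi N1737 = N1210 := ded_26_2 (flp_b L10643) (flp_i L10630) L15198
theorem L15208 : sm ge N1208 = N1738 := rfl
theorem L15210 : sm ga N1738 = N1354 := ded_13_1 (flp_e L11872) (flp_a L10623) L15208
theorem L15212 : sm gc N1738 = N1209 := ded_28_1 (flp_e L10633) L10621 L15208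
theorem L15214 : sm gg N1738 = N1738 := ded_41_2 (flp_e L15208) L10626 L15208
theorem L15215 : sm gj N1738 = N1214 := ded_42_2 (flp_e L10681) (flp_j L10627) L15208
theorem L15217 : sm gh N1738 = N1738 := ded_43_2 (flp_e L15208) L10629 L15208
theorem L15218 : sm gi N1738 = N1211 := ded_44_2 (flp_e L10652) (flp_i L10630) L15208
theorem L15220 : sm gf N1209 = N1739 := rfl
theorem L15222 : sm ga N1739 = N1355 := ded_14_1 (flp_f L11882) (flp_a L10635) L15220
theorem L15224 : sm gj N1739 = N1215 := ded_46_2 (flp_f L10692) (flp_j L10638) L15220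
theorem L15226 : sm gh N1739 = N1739 := ded_47_2 (flp_f L15220) L10640 L15220
theorem L15227 : sm gi N1739 = N1212 := ded_48_2 (flp_f L10663) (flp_i L10641) L15220
theorem L15229 : sm ge N1739 = N1739 := ded_40_1 (flp_f L15220) (flp_e L10633) L7424 L10633 L15220
theorem L15230 : sm ga N1210 = N1740 := rfl
theorem L15232 : sm gd N1740 = N1740 := ded_12_2 (flp_a L15230) L10645 L15230
theorem L15233 : sm gf N1740 = N1740 := ded_14_2 (flp_a L15230) L10646 L15230
theorem L15234 : sm gg N1740 = N1740 := ded_15_2 (flp_a L15230) L10647 L15230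
theorem L15235 : sm gj N1740 = N1216 := ded_16_2 (flp_a L10700) (flp_j L10648) L15230
theorem L15237 : sm gh N1740 = N1248 := ded_17_2 (flp_a L10985) (flp_h L10650) L15230
theorem L15239 : sm gb N1740 = N1356 := ded_10_2 (flp_a L11891) (flp_b L8304) (flp_a L7433) L10643 L15230
theorem L15241 : sm ge N1210 = N1741 := rfl
theorem L15243 : sm gb N1741 = N1211 := ded_21_1 (flp_e L10652) L10643 L15241
theorem L15245 : sm gg N1741 = N1741 := ded_41_2 (flp_e L15241) L10647 L15241
theorem L15246 : sm gj N1741 = N1217 := ded_42_2 (flp_e L10710) (flp_j L10648) L15241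
theorem L15248 : sm gh N1741 = N1249 := ded_43_2 (flp_e L10996) (flp_h L10650) L15241
theorem L15250 : sm gd N1211 = N1742 := rfl
theorem L15252 : sm ga N1742 = N1358 := ded_12_1 (flp_d L11911) (flp_a L10654) L15250
theorem L15254 : sm gg N1742 = N1742 := ded_36_2 (flp_d L15250) L10658 L15250
theorem L15255 : sm gj N1742 = N1218 := ded_37_2 (flp_d L10718) (flp_j L10659) L15250
theorem L15257 : sm ge N1742 = N1742 := ded_34_2 (flp_d L15250) (flp_e L10652) L7441 L10652 L15250
theorem L15258 : sm gf N1211 = N1743 := rfl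
theorem L15260 : sm ga N1743 = N1359 := ded_14_1 (flp_f L11917) (flp_a L10654) L15258
theorem L15262 : sm gc N1743 = N1212 := ded_29_1 (flp_f L10663) (flp_c L10656) L15258
theorem L15264 : sm gj N1743 = N1219 := ded_46_2 (flp_f L10725) (flp_j L10659) L15258
theorem L15266 : sm gh N1743 = N1251 := ded_47_2 (flp_f L11015) (flp_h L10661) L15258
theorem L15268 : sm ge N1743 = N1743 := ded_40_1 (flp_f L15258) (flp_e L10652) L7435 L10652 L15258
theorem L15269 : sm gg N1212 = N1744 := rfl
theorem L15271 : sm ga N1744 = N1360 := ded_15_1 (flp_g L11926) (flp_a L10665) L15269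
theorem L15273 : sm ge N1744 = N1744 := ded_41_1 (flp_g L15269) L10671 L15269
theorem L15274 : sm gh N1744 = N1252 := ded_50_2 (flp_g L11025) (flp_h L10669) L15269
theorem L15276 : sm gf N1744 = N1744 := ded_45_1 (flp_g L15269) (flp_f L10663) L7446 L10663 L15269
theorem L15277 : sm ga N1213 = N1745 := rfl
theorem L15279 : sm gd N1745 = N1745 := ded_12_2 (flp_a L15277) L10674 L15277
theorem L15280 : sm gf N1745 = N1745 := ded_14_2 (flp_a L15277) L10675 L15277
theorem L15281 : sm gg N1745 = N1221 := ded_15_2 (flp_a L10743) (flp_g L10676) L15277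
theorem L15283 : sm gh N1745 = N1745 := ded_17_2 (flp_a L15277) L10678 L15277
theorem L15284 : sm gi N1745 = N1216 := ded_18_2 (flp_a L10700) (flp_i L10679) L15277
theorem L15286 : sm gb N1745 = N1361 := ded_10_2 (flp_a L11933) (flp_b L8331) (flp_a L7453) L10672 L15277
theorem L15288 : sm ge N1213 = N1746 := rfl
theorem L15290 : sm gb N1746 = N1214 := ded_21_1 (flp_e L10681) L10672 L15288
theorem L15292 : sm gg N1746 = N1222 := ded_41_2 (flp_e L10754) (flp_g L10676) L15288
theorem L15294 : sm gh N1746 = N1746 := ded_43_2 (flp_e L15288) L10678 L15288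
theorem L15295 : sm gi N1746 = N1217 := ded_44_2 (flp_e L10710) (flp_i L10679) L15288
theorem L15297 : sm gd N1214 = N1747 := rfl
theorem L15299 : sm ga N1747 = N1363 := ded_12_1 (flp_d L11953) (flp_a L10683) L15297
theorem L15301 : sm gg N1747 = N1223 := ded_36_2 (flp_d L10762) (flp_g L10687) L15297
theorem L15303 : sm gi N1747 = N1218 := ded_39_2 (flp_d L10718) (flp_i L10690) L15297
theorem L15305 : sm ge N1747 = N1747 := ded_34_2 (flp_d L15297) (flp_e L10681) L7461 L10681 L15297
theorem L15306 : sm gf N1214 = N1748 := rfl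
theorem L15308 : sm ga N1748 = N1364 := ded_14_1 (flp_f L11960) (flp_a L10683) L15306
theorem L15310 : sm gc N1748 = N1215 := ded_29_1 (flp_f L10692) (flp_c L10685) L15306
theorem L15312 : sm gh N1748 = N1748 := ded_47_2 (flp_f L15306) L10689 L15306
theorem L15313 : sm gi N1748 = N1219 := ded_48_2 (flp_f L10725) (flp_i L10690) L15306
theorem L15315 : sm ge N1748 = N1748 := ded_40_1 (flp_f L15306) (flp_e L10681) L7455 L10681 L15306
theorem L15316 : sm gg N1215 = N1749 := rfl
theorem L15318 : sm ga N1749 = N1365 := ded_15_1 (flp_g L11968) (flp_a L10694) L15316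
theorem L15320 : sm ge N1749 = N1749 := ded_41_1 (flp_g L15316) L10699 L15316
theorem L15321 : sm gh N1749 = N1749 := ded_50_2 (flp_g L15316) L10696 L15316
theorem L15322 : sm gi N1749 = N1220 := ded_51_2 (flp_g L10734) (flp_i L10697) L15316
theorem L15324 : sm gf N1749 = N1225 := ded_45_1 (flp_g L10782) (flp_f L7515) (flp_g L7466) L10692 L15316
theorem L15326 : sm ge N1216 = N1750 := rfl
theorem L15328 : sm ga N1750 = N1217 := ded_13_1 (flp_e L10710) L10700 L15326
theorem L15330 : sm gb N1750 = N1366 := ded_21_1 (flp_e L11977) (flp_b L10708) L15326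
theorem L15332 : sm gg N1750 = N1226 := ded_41_2 (flp_e L10791) (flp_g L10704) L15326
theorem L15334 : sm gh N1750 = N1253 := ded_43_2 (flp_e L11033) (flp_h L10706) L15326
theorem L15336 : sm gd N1217 = N1751 := rfl
theorem L15338 : sm gb N1751 = N1218 := ded_20_1 (flp_d L10718) (flp_b L10712) L15336
theorem L15340 : sm gg N1751 = N1227 := ded_36_2 (flp_d L10800) (flp_g L10714) L15336
theorem L15342 : sm ge N1751 = N1751 := ded_34_2 (flp_d L15336) (flp_e L10710) L7473 L10710 L15336
theorem L15343 : sm gf N1217 = N1752 := rfl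
theorem L15345 : sm gb N1752 = N1219 := ded_22_1 (flp_f L10725) (flp_b L10712) L15343
theorem L15347 : sm gh N1752 = N1255 := ded_47_2 (flp_f L11051) (flp_h L10716) L15343
theorem L15349 : sm ge N1752 = N1752 := ded_40_1 (flp_f L15343) (flp_e L10710) L7474 L10710 L15343
theorem L15350 : sm gf N1218 = N1753 := rfl
theorem L15352 : sm ga N1753 = N1369 := ded_14_1 (flp_f L12001) (flp_a L10720) L15350
theorem L15354 : sm gd N1753 = N1219 := ded_35_1 (flp_f L10725) L10718 L15350
theorem L15356 : sm gh N1218 = N1754 := rfl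
theorem L15358 : sm ga N1754 = N1370 := ded_17_1 (flp_h L12005) (flp_a L10720) L15356
theorem L15360 : sm ge N1754 = N1754 := ded_43_1 (flp_h L15356) L10724 L15356
theorem L15361 : sm gg N1754 = N1230 := ded_50_1 (flp_h L10822) (flp_g L10722) L15356
theorem L15363 : sm gd N1754 = N1257 := ded_38_1 (flp_h L11065) (flp_d L7712) (flp_h L7487) L10718 L15356
theorem L15365 : sm gg N1219 = N1755 := rfl
theorem L15367 : sm ga N1755 = N1371 := ded_15_1 (flp_g L12012) (flp_a L10727) L15365
theorem L15369 : sm gc N1755 = N1220 := ded_30_1 (flp_g L10734) (flp_c L10729) L15365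
theorem L15371 : sm ge N1755 = N1755 := ded_41_1 (flp_g L15365) L10733 L15365
theorem L15372 : sm gh N1755 = N1258 := ded_50_2 (flp_g L11074) (flp_h L10731) L15365
theorem L15374 : sm gf N1755 = N1231 := ded_45_1 (flp_g L10830) (flp_f L7548) (flp_g L7485) L10725 L15365
theorem L15376 : sm gj N1220 = N1756 := rfl
theorem L15378 : sm ga N1756 = N1372 := ded_16_1 (flp_j L12021) (flp_a L10736) L15376
theorem L15380 : sm ge N1756 = N1756 := ded_42_1 (flp_j L15376) L10738 L15376
theorem L15381 : sm gf N1756 = N1232 := ded_46_1 (flp_j L10840) (flp_f L10741) L15376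
theorem L15383 : sm gh N1756 = N1259 := ded_52_2 (flp_j L11084) (flp_h L10739) L15376
theorem L15385 : sm ge N1221 = N1757 := rfl
theorem L15387 : sm ga N1757 = N1222 := ded_13_1 (flp_e L10754) L10743 L15385
theorem L15389 : sm gb N1757 = N1373 := ded_21_1 (flp_e L12029) (flp_b L10752) L15385
theorem L15391 : sm gj N1757 = N1757 := ded_42_2 (flp_e L15385) L10748 L15385
theorem L15392 : sm gh N1757 = N1757 := ded_43_2 (flp_e L15385) L10749 L15385
theorem L15393 : sm gi N1757 = N1226 := ded_44_2 (flp_e L10791) (flp_i L10750) L15385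
theorem L15395 : sm gd N1222 = N1758 := rfl
theorem L15397 : sm gb N1758 = N1223 := ded_20_1 (flp_d L10762) (flp_b L10756) L15395
theorem L15399 : sm gj N1758 = N1758 := ded_37_2 (flp_d L15395) L10758 L15395
theorem L15400 : sm gi N1758 = N1227 := ded_39_2 (flp_d L10800) (flp_i L10760) L15395
theorem L15402 : sm ge N1758 = N1758 := ded_34_2 (flp_d L15395) (flp_e L10754) L7498 L10754 L15395
theorem L15403 : sm gf N1222 = N1759 := rfl
theorem L15405 : sm gb N1759 = N1224 := ded_22_1 (flp_f L10770) (flp_b L10756) L15403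
theorem L15407 : sm gj N1759 = N1759 := ded_46_2 (flp_f L15403) L10758 L15403
theorem L15408 : sm gh N1759 = N1759 := ded_47_2 (flp_f L15403) L10759 L15403
theorem L15409 : sm gi N1759 = N1228 := ded_48_2 (flp_f L10806) (flp_i L10760) L15403
theorem L15411 : sm ge N1759 = N1235 := ded_40_1 (flp_f L10869) (flp_e L7577) (flp_f L7499) L10754 L15403
theorem L15413 : sm gf N1223 = N1760 := rfl
theorem L15415 : sm ga N1760 = N1376 := ded_14_1 (flp_f L12057) (flp_a L10764) L15413
theorem L15417 : sm gd N1760 = N1224 := ded_35_1 (flp_f L10770) L10762 L15413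
theorem L15419 : sm gj N1760 = N1760 := ded_46_2 (flp_f L15413) L10766 L15413
theorem L15420 : sm gi N1760 = N1229 := ded_48_2 (flp_f L10815) (flp_i L10767) L15413
theorem L15422 : sm gh N1223 = N1761 := rfl
theorem L15424 : sm ga N1761 = N1377 := ded_17_1 (flp_h L12064) (flp_a L10764) L15422
theorem L15426 : sm ge N1761 = N1761 := ded_43_1 (flp_h L15422) L10769 L15422
theorem L15427 : sm gj N1761 = N1761 := ded_52_1 (flp_h L15422) L10766 L15422
theorem L15428 : sm gd N1761 = N1761 := ded_38_1 (flp_h L15422) (flp_d L10762) L7512 L10762 L15422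
theorem L15429 : sm gg N1224 = N1762 := rfl
theorem L15431 : sm ga N1762 = N1378 := ded_15_1 (flp_g L12069) (flp_a L10772) L15429
theorem L15433 : sm gc N1762 = N1225 := ded_30_1 (flp_g L10782) (flp_c L10774) L15429
theorem L15435 : sm ge N1762 = N1238 := ded_41_1 (flp_g L10897) (flp_e L10780) L15429
theorem L15437 : sm gh N1762 = N1762 := ded_50_2 (flp_g L15429) L10777 L15429
theorem L15438 : sm gi N1762 = N1231 := ded_51_2 (flp_g L10830) (flp_i L10778) L15429
theorem L15440 : sm gj N1225 = N1763 := rfl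
theorem L15442 : sm ga N1763 = N1379 := ded_16_1 (flp_j L12078) (flp_a L10784) L15440
theorem L15444 : sm ge N1763 = N1239 := ded_42_1 (flp_j L10907) (flp_e L10786) L15440
theorem L15446 : sm gh N1763 = N1763 := ded_52_2 (flp_j L15440) L10788 L15440
theorem L15447 : sm gi N1763 = N1232 := ded_53_2 (flp_j L10840) (flp_i L10789) L15440
theorem L15449 : sm gg N1763 = N1763 := ded_49_1 (flp_j L15440) (flp_g L10782) L7519 L10782 L15440
theorem L15450 : sm gd N1226 = N1764 := rfl
theorem L15452 : sm ga N1764 = N1227 := ded_12_1 (flp_d L10800) (flp_a L10793) L15450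
theorem L15454 : sm gb N1764 = N1380 := ded_20_1 (flp_d L12087) (flp_b L10795) L15450
theorem L15456 : sm gj N1764 = N1764 := ded_37_2 (flp_d L15450) L10797 L15450
theorem L15457 : sm ge N1764 = N1764 := ded_34_2 (flp_d L15450) (flp_e L10791) L7527 L10791 L15450
theorem L15458 : sm gf N1226 = N1765 := rfl
theorem L15460 : sm ga N1765 = N1228 := ded_14_1 (flp_f L10806) (flp_a L10793) L15458
theorem L15462 : sm gb N1765 = N1381 := ded_22_1 (flp_f L12093) (flp_b L10795) L15458
theorem L15464 : sm gj N1765 = N1765 := ded_46_2 (flp_f L15458) L10797 L15458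
theorem L15465 : sm gh N1765 = N1261 := ded_47_2 (flp_f L11103) (flp_h L10798) L15458
theorem L15467 : sm ge N1765 = N1241 := ded_40_1 (flp_f L10927) (flp_e L7615) (flp_f L7528) L10791 L15458
theorem L15469 : sm gc N1227 = N1766 := rfl
theorem L15471 : sm ge N1766 = N1766 := ded_28_2 (flp_c L15469) L10805 L15469
theorem L15472 : sm gj N1766 = N1766 := ded_31_2 (flp_c L15469) L10804 L15469
theorem L15473 : sm gf N1227 = N1767 := rfl
theorem L15475 : sm gb N1767 = N1229 := ded_22_1 (flp_f L10815) (flp_b L10802) L15473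
theorem L15477 : sm gd N1767 = N1228 := ded_35_1 (flp_f L10806) L10800 L15473
theorem L15479 : sm gj N1767 = N1767 := ded_46_2 (flp_f L15473) L10804 L15473
theorem L15480 : sm gh N1227 = N1768 := rfl
theorem L15482 : sm gb N1768 = N1230 := ded_25_1 (flp_h L10822) (flp_b L10802) L15480
theorem L15484 : sm ge N1768 = N1768 := ded_43_1 (flp_h L15480) L10805 L15480
theorem L15485 : sm gj N1768 = N1768 := ded_52_1 (flp_h L15480) L10804 L15480
theorem L15486 : sm gd N1768 = N1264 := ded_38_1 (flp_h L11129) (flp_d L7747) (flp_h L7540) L10800 L15480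
theorem L15488 : sm gg N1228 = N1769 := rfl
theorem L15490 : sm gb N1769 = N1231 := ded_23_1 (flp_g L10830) (flp_b L10808) L15488
theorem L15492 : sm ge N1769 = N1244 := ded_41_1 (flp_g L10951) (flp_e L10813) L15488
theorem L15494 : sm gh N1769 = N1265 := ded_50_2 (flp_g L11136) (flp_h L10811) L15488
theorem L15496 : sm ge N1229 = N1770 := rfl
theorem L15498 : sm ga N1770 = N1386 := ded_13_1 (flp_e L12132) (flp_a L10817) L15496
theorem L15500 : sm gj N1770 = N1770 := ded_42_2 (flp_e L15496) L10821 L15496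
theorem L15501 : sm gd N1770 = N1245 := ded_34_1 (flp_e L10958) L7645 (flp_e L7557) (flp_d L10819) L15496
theorem L15503 : sm gf N1770 = N1770 := ded_40_2 (flp_e L15496) (flp_f L10815) L7547 L10815 L15496
theorem L15504 : sm gg N1229 = N1771 := rfl
theorem L15506 : sm ga N1771 = N1387 := ded_15_1 (flp_g L12138) (flp_a L10817) L15504
theorem L15508 : sm gd N1771 = N1231 := ded_36_1 (flp_g L10830) (flp_d L10819) L15504
theorem L15510 : sm gh N1229 = N1772 := rfl
theorem L15512 : sm ga N1772 = N1388 := ded_17_1 (flp_h L12142) (flp_a L10817) L15510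
theorem L15514 : sm gf N1772 = N1230 := ded_47_1 (flp_h L10822) L10815 L15510
theorem L15516 : sm gj N1772 = N1772 := ded_52_1 (flp_h L15510) L10821 L15510
theorem L15517 : sm gd N1772 = N1267 := ded_38_1 (flp_h L11152) L7768 (flp_h L7555) (flp_d L10819) L15510
theorem L15519 : sm gi N1230 = N1773 := rfl
theorem L15521 : sm ga N1773 = N1389 := ded_18_1 (flp_i L12149) (flp_a L10824) L15519
theorem L15523 : sm gd N1773 = N1268 := ded_39_1 (flp_i L11161) (flp_d L10828) L15519
theorem L15525 : sm ge N1773 = N1773 := ded_44_1 (flp_i L15519) L10826 L15519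
theorem L15526 : sm gj N1773 = N1773 := ded_53_1 (flp_i L15519) L10827 L15519
theorem L15527 : sm gj N1231 = N1774 := rfl
theorem L15529 : sm ga N1774 = N1390 := ded_16_1 (flp_j L12155) (flp_a L10832) L15527
theorem L15531 : sm gc N1774 = N1232 := ded_31_1 (flp_j L10840) (flp_c L10834) L15527
theorem L15533 : sm ge N1774 = N1247 := ded_42_1 (flp_j L10975) (flp_e L10836) L15527
theorem L15535 : sm gh N1774 = N1269 := ded_52_2 (flp_j L11170) (flp_h L10838) L15527
theorem L15537 : sm gg N1774 = N1774 := ded_49_1 (flp_j L15527) (flp_g L10830) L7554 L10830 L15527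
theorem L15538 : sm gd N1233 = N1775 := rfl
theorem L15540 : sm ga N1775 = N1234 := ded_12_1 (flp_d L10860) (flp_a L10851) L15538
theorem L15542 : sm gb N1775 = N1391 := ded_20_1 (flp_d L12164) (flp_b L10853) L15538
theorem L15544 : sm gg N1775 = N1775 := ded_36_2 (flp_d L15538) L10855 L15538
theorem L15545 : sm gj N1775 = N1775 := ded_37_2 (flp_d L15538) L10856 L15538
theorem L15546 : sm gi N1775 = N1240 := ded_39_2 (flp_d L10917) (flp_i L10858) L15538
theorem L15548 : sm ge N1775 = N1775 := ded_34_2 (flp_d L15538) (flp_e L10849) L7569 L10849 L15538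
theorem L15549 : sm gf N1233 = N1776 := rfl
theorem L15551 : sm ga N1776 = N1235 := ded_14_1 (flp_f L10869) (flp_a L10851) L15549
theorem L15553 : sm gb N1776 = N1392 := ded_22_1 (flp_f L12173) (flp_b L10853) L15549
theorem L15555 : sm gj N1776 = N1776 := ded_46_2 (flp_f L15549) L10856 L15549
theorem L15556 : sm gh N1776 = N1776 := ded_47_2 (flp_f L15549) L10857 L15549
theorem L15557 : sm gi N1776 = N1241 := ded_48_2 (flp_f L10927) (flp_i L10858) L15549
theorem L15559 : sm gc N1234 = N1777 := rfl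
theorem L15561 : sm ge N1777 = N1777 := ded_28_2 (flp_c L15559) L10868 L15559
theorem L15562 : sm gg N1777 = N1777 := ded_30_2 (flp_c L15559) L10864 L15559
theorem L15563 : sm gj N1777 = N1777 := ded_31_2 (flp_c L15559) L10865 L15559
theorem L15564 : sm gi N1777 = N1242 := ded_33_2 (flp_c L10936) (flp_i L10866) L15559
theorem L15566 : sm gb N1777 = N1777 := ded_19_1 (flp_c L15559) L10862 L7594 (flp_b L10862) L15559
theorem L15567 : sm gf N1234 = N1778 := rfl
theorem L15569 : sm gb N1778 = N1236 := ded_22_1 (flp_f L10877) (flp_b L10862) L15567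
theorem L15571 : sm gd N1778 = N1235 := ded_35_1 (flp_f L10869) L10860 L15567
theorem L15573 : sm gj N1778 = N1778 := ded_46_2 (flp_f L15567) L10865 L15567
theorem L15574 : sm gi N1778 = N1243 := ded_48_2 (flp_f L10943) (flp_i L10866) L15567
theorem L15576 : sm gh N1234 = N1779 := rfl
theorem L15578 : sm gb N1779 = N1237 := ded_25_1 (flp_h L10887) (flp_b L10862) L15576
theorem L15580 : sm ge N1779 = N1779 := ded_43_1 (flp_h L15576) L10868 L15576
theorem L15581 : sm gg N1779 = N1779 := ded_50_1 (flp_h L15576) L10864 L15576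
theorem L15582 : sm gj N1779 = N1779 := ded_52_1 (flp_h L15576) L10865 L15576
theorem L15583 : sm gd N1779 = N1779 := ded_38_1 (flp_h L15576) (flp_d L10860) L7583 L10860 L15576
theorem L15584 : sm gi N1779 = N1779 := ded_54_2 (flp_h L15576) L10866 L7632 (flp_i L10866) L15576
theorem L15585 : sm gg N1235 = N1780 := rfl
theorem L15587 : sm gb N1780 = N1238 := ded_23_1 (flp_g L10897) (flp_b L10871) L15585
theorem L15589 : sm gh N1780 = N1780 := ded_50_2 (flp_g L15585) L10874 L15585
theorem L15590 : sm gi N1780 = N1244 := ded_51_2 (flp_g L10951) (flp_i L10875) L15585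
theorem L15592 : sm gf N1780 = N1780 := ded_45_1 (flp_g L15585) (flp_f L10869) L7581 L10869 L15585
theorem L15593 : sm ge N1236 = N1781 := rfl
theorem L15595 : sm ga N1781 = N1397 := ded_13_1 (flp_e L12218) (flp_a L10879) L15593
theorem L15597 : sm gc N1781 = N1781 := ded_28_1 (flp_e L15593) L10881 L15593
theorem L15598 : sm gj N1781 = N1781 := ded_42_2 (flp_e L15593) L10884 L15593
theorem L15599 : sm gi N1781 = N1245 := ded_44_2 (flp_e L10958) (flp_i L10885) L15593
theorem L15601 : sm gf N1781 = N1781 := ded_40_2 (flp_e L15593) (flp_f L10877) L7595 L10877 L15593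
theorem L15602 : sm gg N1236 = N1782 := rfl
theorem L15604 : sm ga N1782 = N1398 := ded_15_1 (flp_g L12225) (flp_a L10879) L15602
theorem L15606 : sm gc N1782 = N1782 := ded_30_1 (flp_g L15602) L10881 L15602
theorem L15607 : sm gd N1782 = N1238 := ded_36_1 (flp_g L10897) (flp_d L10882) L15602
theorem L15609 : sm gi N1782 = N1246 := ded_51_2 (flp_g L10966) (flp_i L10885) L15602
theorem L15611 : sm gf N1782 = N1782 := ded_45_1 (flp_g L15602) (flp_f L10877) L7590 L10877 L15602
theorem L15612 : sm gh N1236 = N1783 := rfl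
theorem L15614 : sm ga N1783 = N1399 := ded_17_1 (flp_h L12233) (flp_a L10879) L15612
theorem L15616 : sm gc N1783 = N1783 := ded_32_1 (flp_h L15612) L10881 L15612
theorem L15617 : sm gf N1783 = N1237 := ded_47_1 (flp_h L10887) L10877 L15612
theorem L15619 : sm gj N1783 = N1783 := ded_52_1 (flp_h L15612) L10884 L15612
theorem L15620 : sm gd N1783 = N1783 := ded_38_1 (flp_h L15612) L10882 L7603 (flp_d L10882) L15612
theorem L15621 : sm gi N1783 = N1783 := ded_54_2 (flp_h L15612) L10885 L7648 (flp_i L10885) L15612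
theorem L15622 : sm gj N1238 = N1784 := rfl
theorem L15624 : sm ga N1784 = N1400 := ded_16_1 (flp_j L12241) (flp_a L10899) L15622
theorem L15626 : sm gc N1784 = N1239 := ded_31_1 (flp_j L10907) (flp_c L10901) L15622
theorem L15628 : sm gf N1784 = N1784 := ded_46_1 (flp_j L15622) L10906 L15622
theorem L15629 : sm gh N1784 = N1784 := ded_52_2 (flp_j L15622) L10903 L15622
theorem L15630 : sm gi N1784 = N1247 := ded_53_2 (flp_j L10975) (flp_i L10904) L15622
theorem L15632 : sm gg N1784 = N1784 := ded_49_1 (flp_j L15622) (flp_g L10897) L7602 L10897 L15622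
theorem L15633 : sm gc N1240 = N1785 := rfl
theorem L15635 : sm ga N1785 = N1242 := ded_11_1 (flp_c L10936) (flp_a L10919) L15633
theorem L15637 : sm ge N1785 = N1785 := ded_28_2 (flp_c L15633) L10925 L15633
theorem L15638 : sm gg N1785 = N1785 := ded_30_2 (flp_c L15633) L10923 L15633
theorem L15639 : sm gj N1785 = N1785 := ded_31_2 (flp_c L15633) L10924 L15633
theorem L15640 : sm gh N1785 = N1785 := ded_32_2 (flp_c L15633) L10926 L15633
theorem L15641 : sm gf N1240 = N1786 := rfl
theorem L15643 : sm ga N1786 = N1243 := ded_14_1 (flp_f L10943) (flp_a L10919) L15641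
theorem L15645 : sm gb N1786 = N1402 := ded_22_1 (flp_f L12259) (flp_b L10921) L15641
theorem L15647 : sm gd N1786 = N1241 := ded_35_1 (flp_f L10927) L10917 L15641
theorem L15649 : sm gj N1786 = N1786 := ded_46_2 (flp_f L15641) L10924 L15641
theorem L15650 : sm gh N1786 = N1786 := ded_47_2 (flp_f L15641) L10926 L15641
theorem L15651 : sm gg N1241 = N1787 := rfl
theorem L15653 : sm ga N1787 = N1244 := ded_15_1 (flp_g L10951) (flp_a L10929) L15651
theorem L15655 : sm gb N1787 = N1403 := ded_23_1 (flp_g L12267) (flp_b L10931) L15651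
theorem L15657 : sm gh N1787 = N1270 := ded_50_2 (flp_g L11180) (flp_h L10934) L15651
theorem L15659 : sm gf N1787 = N1787 := ded_45_1 (flp_g L15651) (flp_f L10927) L7621 L10927 L15651
theorem L15660 : sm gf N1242 = N1788 := rfl
theorem L15662 : sm gb N1788 = N1788 := ded_22_1 (flp_f L15660) L10942 L15660
theorem L15663 : sm gc N1788 = N1243 := ded_29_1 (flp_f L10943) L10936 L15660
theorem L15665 : sm gj N1788 = N1788 := ded_46_2 (flp_f L15660) L10940 L15660
theorem L15666 : sm gh N1788 = N1788 := ded_47_2 (flp_f L15660) L10941 L15660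
theorem L15667 : sm ge N1243 = N1789 := rfl
theorem L15669 : sm gb N1789 = N1245 := ded_21_1 (flp_e L10958) (flp_b L10945) L15667
theorem L15671 : sm gj N1789 = N1789 := ded_42_2 (flp_e L15667) L10949 L15667
theorem L15672 : sm gh N1789 = N1789 := ded_43_2 (flp_e L15667) L10950 L15667
theorem L15673 : sm gf N1789 = N1789 := ded_40_2 (flp_e L15667) (flp_f L10943) L7631 L10943 L15667
theorem L15674 : sm gg N1243 = N1790 := rfl
theorem L15676 : sm gb N1790 = N1246 := ded_23_1 (flp_g L10966) (flp_b L10945) L15674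
theorem L15678 : sm gd N1790 = N1244 := ded_36_1 (flp_g L10951) (flp_d L10947) L15674
theorem L15680 : sm gh N1790 = N1790 := ded_50_2 (flp_g L15674) L10950 L15674
theorem L15681 : sm gf N1790 = N1790 := ded_45_1 (flp_g L15674) (flp_f L10943) L7629 L10943 L15674
theorem L15682 : sm gj N1244 = N1791 := rfl
theorem L15684 : sm gb N1791 = N1247 := ded_24_1 (flp_j L10975) (flp_b L10953) L15682
theorem L15686 : sm gf N1791 = N1791 := ded_46_1 (flp_j L15682) L10957 L15682
theorem L15687 : sm gh N1791 = N1271 := ded_52_2 (flp_j L11189) (flp_h L10955) L15682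
theorem L15689 : sm gg N1791 = N1791 := ded_49_1 (flp_j L15682) (flp_g L10951) L7637 L10951 L15682
theorem L15690 : sm gg N1245 = N1792 := rfl
theorem L15692 : sm ga N1792 = N1408 := ded_15_1 (flp_g L12307) (flp_a L10960) L15690
theorem L15694 : sm gc N1792 = N1792 := ded_30_1 (flp_g L15690) L10962 L15690
theorem L15695 : sm ge N1792 = N1246 := ded_41_1 (flp_g L10966) L10958 L15690
theorem L15697 : sm gh N1792 = N1792 := ded_50_2 (flp_g L15690) L10964 L15690
theorem L15698 : sm gj N1246 = N1793 := rfl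
theorem L15700 : sm ga N1793 = N1409 := ded_16_1 (flp_j L12313) (flp_a L10968) L15698
theorem L15702 : sm gc N1793 = N1793 := ded_31_1 (flp_j L15698) L10970 L15698
theorem L15703 : sm gd N1793 = N1247 := ded_37_1 (flp_j L10975) (flp_d L10971) L15698
theorem L15705 : sm gf N1793 = N1793 := ded_46_1 (flp_j L15698) L10974 L15698
theorem L15706 : sm gh N1793 = N1793 := ded_52_2 (flp_j L15698) L10973 L15698
theorem L15707 : sm gg N1793 = N1793 := ded_49_1 (flp_j L15698) (flp_g L10966) L7647 L10966 L15698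
theorem L15708 : sm ge N1248 = N1794 := rfl
theorem L15710 : sm ga N1794 = N1249 := ded_13_1 (flp_e L10996) L10985 L15708
theorem L15712 : sm gb N1794 = N1410 := ded_21_1 (flp_e L12321) (flp_b L10994) L15708
theorem L15714 : sm gg N1794 = N1794 := ded_41_2 (flp_e L15708) L10990 L15708
theorem L15715 : sm gj N1794 = N1253 := ded_42_2 (flp_e L11033) (flp_j L10991) L15708
theorem L15717 : sm gi N1794 = N1794 := ded_44_2 (flp_e L15708) L10993 L15708
theorem L15718 : sm gd N1249 = N1795 := rfl
theorem L15720 : sm gb N1795 = N1250 := ded_20_1 (flp_d L11004) (flp_b L10998) L15718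
theorem L15722 : sm gg N1795 = N1795 := ded_36_2 (flp_d L15718) L11000 L15718
theorem L15723 : sm gj N1795 = N1254 := ded_37_2 (flp_d L11042) (flp_j L11001) L15718
theorem L15725 : sm gi N1795 = N1795 := ded_39_2 (flp_d L15718) L11003 L15718
theorem L15726 : sm ge N1795 = N1273 := ded_34_2 (flp_d L11209) (flp_e L7836) (flp_d L7669) L10996 L15718
theorem L15728 : sm gf N1249 = N1796 := rfl
theorem L15730 : sm gb N1796 = N1251 := ded_22_1 (flp_f L11015) (flp_b L10998) L15728
theorem L15732 : sm gj N1796 = N1255 := ded_46_2 (flp_f L11051) (flp_j L11001) L15728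
theorem L15734 : sm gi N1796 = N1796 := ded_48_2 (flp_f L15728) L11003 L15728
theorem L15735 : sm ge N1796 = N1796 := ded_40_1 (flp_f L15728) (flp_e L10996) L7671 L10996 L15728
theorem L15736 : sm gf N1250 = N1797 := rfl
theorem L15738 : sm ga N1797 = N1413 := ded_14_1 (flp_f L12349) (flp_a L11006) L15736
theorem L15740 : sm gc N1797 = N1797 := ded_29_1 (flp_f L15736) L11012 L15736
theorem L15741 : sm gd N1797 = N1251 := ded_35_1 (flp_f L11015) L11004 L15736
theorem L15743 : sm gj N1797 = N1256 := ded_46_2 (flp_f L11057) (flp_j L11009) L15736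
theorem L15745 : sm gi N1797 = N1797 := ded_48_2 (flp_f L15736) L11011 L15736
theorem L15746 : sm gh N1250 = N1798 := rfl
theorem L15748 : sm ga N1798 = N1414 := ded_17_1 (flp_h L12357) (flp_a L11006) L15746
theorem L15750 : sm gc N1798 = N1798 := ded_32_1 (flp_h L15746) L11012 L15746
theorem L15751 : sm ge N1798 = N1276 := ded_43_1 (flp_h L11237) (flp_e L11013) L15746
theorem L15753 : sm gg N1798 = N1798 := ded_50_1 (flp_h L15746) L11008 L15746
theorem L15754 : sm gj N1798 = N1257 := ded_52_1 (flp_h L11065) (flp_j L11009) L15746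
theorem L15756 : sm gg N1251 = N1799 := rfl
theorem L15758 : sm ga N1799 = N1415 := ded_15_1 (flp_g L12365) (flp_a L11017) L15756
theorem L15760 : sm gc N1799 = N1252 := ded_30_1 (flp_g L11025) (flp_c L11019) L15756
theorem L15762 : sm ge N1799 = N1799 := ded_41_1 (flp_g L15756) L11024 L15756
theorem L15763 : sm gi N1799 = N1799 := ded_51_2 (flp_g L15756) L11023 L15756
theorem L15764 : sm gf N1799 = N1799 := ded_45_1 (flp_g L15756) (flp_f L11015) L7682 L11015 L15756
theorem L15765 : sm gj N1252 = N1800 := rfl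
theorem L15767 : sm ga N1800 = N1416 := ded_16_1 (flp_j L12372) (flp_a L11027) L15765
theorem L15769 : sm gd N1800 = N1800 := ded_37_1 (flp_j L15765) L11029 L15765
theorem L15770 : sm ge N1800 = N1800 := ded_42_1 (flp_j L15765) L11030 L15765
theorem L15771 : sm gf N1800 = N1800 := ded_46_1 (flp_j L15765) L11032 L15765
theorem L15772 : sm gi N1800 = N1800 := ded_53_2 (flp_j L15765) L11031 L15765
theorem L15773 : sm gg N1800 = N1259 := ded_49_1 (flp_j L11084) (flp_g L7730) (flp_j L7691) L11025 L15765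
theorem L15775 : sm gd N1253 = N1801 := rfl
theorem L15777 : sm ga N1801 = N1254 := ded_12_1 (flp_d L11042) (flp_a L11035) L15775
theorem L15779 : sm gb N1801 = N1417 := ded_20_1 (flp_d L12381) (flp_b L11037) L15775
theorem L15781 : sm gg N1801 = N1260 := ded_36_2 (flp_d L11093) (flp_g L11039) L15775
theorem L15783 : sm gi N1801 = N1801 := ded_39_2 (flp_d L15775) L11041 L15775
theorem L15784 : sm ge N1801 = N1278 := ded_34_2 (flp_d L11257) (flp_e L7877) (flp_d L7697) L11033 L15775
theorem L15786 : sm gf N1253 = N1802 := rfl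
theorem L15788 : sm ga N1802 = N1255 := ded_14_1 (flp_f L11051) (flp_a L11035) L15786
theorem L15790 : sm gb N1802 = N1418 := ded_22_1 (flp_f L12390) (flp_b L11037) L15786
theorem L15792 : sm gi N1802 = N1802 := ded_48_2 (flp_f L15786) L11041 L15786
theorem L15793 : sm ge N1802 = N1802 := ded_40_1 (flp_f L15786) (flp_e L11033) L7699 L11033 L15786
theorem L15794 : sm gc N1254 = N1803 := rfl
theorem L15796 : sm ge N1803 = N1280 := ded_28_2 (flp_c L11277) (flp_e L11049) L15794
theorem L15798 : sm gg N1803 = N1262 := ded_30_2 (flp_c L11113) (flp_g L11046) L15794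
theorem L15800 : sm gi N1803 = N1803 := ded_33_2 (flp_c L15794) L11048 L15794
theorem L15801 : sm gb N1803 = N1803 := ded_19_1 (flp_c L15794) L11044 L7719 (flp_b L11044) L15794
theorem L15802 : sm gf N1254 = N1804 := rfl
theorem L15804 : sm gb N1804 = N1256 := ded_22_1 (flp_f L11057) (flp_b L11044) L15802
theorem L15806 : sm gd N1804 = N1255 := ded_35_1 (flp_f L11051) L11042 L15802
theorem L15808 : sm gi N1804 = N1804 := ded_48_2 (flp_f L15802) L11048 L15802
theorem L15809 : sm gh N1254 = N1805 := rfl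
theorem L15811 : sm gb N1805 = N1257 := ded_25_1 (flp_h L11065) (flp_b L11044) L15809
theorem L15813 : sm ge N1805 = N1282 := ded_43_1 (flp_h L11292) (flp_e L11049) L15809
theorem L15815 : sm gg N1805 = N1264 := ded_50_1 (flp_h L11129) (flp_g L11046) L15809
theorem L15817 : sm gg N1255 = N1806 := rfl
theorem L15819 : sm gb N1806 = N1258 := ded_23_1 (flp_g L11074) (flp_b L11053) L15817
theorem L15821 : sm ge N1806 = N1806 := ded_41_1 (flp_g L15817) L11056 L15817
theorem L15822 : sm gi N1806 = N1806 := ded_51_2 (flp_g L15817) L11055 L15817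
theorem L15823 : sm gf N1806 = N1265 := ded_45_1 (flp_g L11136) (flp_f L7755) (flp_g L7709) L11051 L15817
theorem L15825 : sm ge N1256 = N1807 := rfl
theorem L15827 : sm ga N1807 = N1423 := ded_13_1 (flp_e L12430) (flp_a L11059) L15825
theorem L15829 : sm gc N1807 = N1807 := ded_28_1 (flp_e L15825) L11061 L15825
theorem L15830 : sm gi N1807 = N1807 := ded_44_2 (flp_e L15825) L11064 L15825
theorem L15831 : sm gd N1807 = N1807 := ded_34_1 (flp_e L15825) L11062 L7729 (flp_d L11062) L15825
theorem L15832 : sm gf N1807 = N1283 := ded_40_2 (flp_e L11299) (flp_f L7904) (flp_e L7720) L11057 L15825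
theorem L15834 : sm gg N1256 = N1808 := rfl
theorem L15836 : sm ga N1808 = N1424 := ded_15_1 (flp_g L12437) (flp_a L11059) L15834
theorem L15838 : sm gc N1808 = N1808 := ded_30_1 (flp_g L15834) L11061 L15834
theorem L15839 : sm gd N1808 = N1258 := ded_36_1 (flp_g L11074) (flp_d L11062) L15834
theorem L15841 : sm gi N1808 = N1808 := ded_51_2 (flp_g L15834) L11064 L15834
theorem L15842 : sm gf N1808 = N1266 := ded_45_1 (flp_g L11143) (flp_f L7763) (flp_g L7716) L11057 L15834
theorem L15844 : sm gh N1256 = N1809 := rfl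
theorem L15846 : sm ga N1809 = N1425 := ded_17_1 (flp_h L12445) (flp_a L11059) L15844
theorem L15848 : sm gc N1809 = N1809 := ded_32_1 (flp_h L15844) L11061 L15844
theorem L15849 : sm gf N1809 = N1257 := ded_47_1 (flp_h L11065) L11057 L15844
theorem L15851 : sm gi N1257 = N1810 := rfl
theorem L15853 : sm ga N1810 = N1426 := ded_18_1 (flp_i L12450) (flp_a L11067) L15851
theorem L15855 : sm gc N1810 = N1810 := ded_33_1 (flp_i L15851) L11069 L15851
theorem L15856 : sm ge N1810 = N1285 := ded_44_1 (flp_i L11316) (flp_e L11070) L15851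
theorem L15858 : sm gg N1810 = N1268 := ded_51_1 (flp_i L11161) (flp_g L11072) L15851
theorem L15860 : sm gh N1810 = N1810 := ded_54_1 (flp_i L15851) (flp_h L11065) L7718 L11065 L15851
theorem L15861 : sm gj N1258 = N1811 := rfl
theorem L15863 : sm ga N1811 = N1427 := ded_16_1 (flp_j L12458) (flp_a L11076) L15861
theorem L15865 : sm gc N1811 = N1259 := ded_31_1 (flp_j L11084) (flp_c L11078) L15861
theorem L15867 : sm ge N1811 = N1811 := ded_42_1 (flp_j L15861) L11080 L15861
theorem L15868 : sm gf N1811 = N1269 := ded_46_1 (flp_j L11170) (flp_f L11082) L15861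
theorem L15870 : sm gi N1811 = N1811 := ded_53_2 (flp_j L15861) L11081 L15861
theorem L15871 : sm gc N1260 = N1812 := rfl
theorem L15873 : sm ga N1812 = N1262 := ded_11_1 (flp_c L11113) (flp_a L11095) L15871
theorem L15875 : sm ge N1812 = N1286 := ded_28_2 (flp_c L11325) (flp_e L11101) L15871
theorem L15877 : sm gj N1812 = N1812 := ded_31_2 (flp_c L15871) L11099 L15871
theorem L15878 : sm gi N1812 = N1812 := ded_33_2 (flp_c L15871) L11100 L15871
theorem L15879 : sm gf N1260 = N1813 := rfl
theorem L15881 : sm ga N1813 = N1263 := ded_14_1 (flp_f L11120) (flp_a L11095) L15879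
theorem L15883 : sm gb N1813 = N1429 := ded_22_1 (flp_f L12475) (flp_b L11097) L15879
theorem L15885 : sm gd N1813 = N1261 := ded_35_1 (flp_f L11103) L11093 L15879
theorem L15887 : sm gj N1813 = N1813 := ded_46_2 (flp_f L15879) L11099 L15879
theorem L15888 : sm gi N1813 = N1813 := ded_48_2 (flp_f L15879) L11100 L15879
theorem L15889 : sm ge N1813 = N1813 := ded_40_1 (flp_f L15879) L11101 L7927 (flp_e L11101) L15879
theorem L15890 : sm gh N1260 = N1814 := rfl
theorem L15896 : sm ge N1814 = N1287 := ded_43_1 (flp_h L11333) (flp_e L11101) L15890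
theorem L15899 : sm gg N1261 = N1815 := rfl
theorem L15901 : sm ga N1815 = N1265 := ded_15_1 (flp_g L11136) (flp_a L11105) L15899
theorem L15903 : sm gb N1815 = N1431 := ded_23_1 (flp_g L12491) (flp_b L11107) L15899
theorem L15905 : sm ge N1815 = N1270 := ded_41_1 (flp_g L11180) (flp_e L11111) L15899
theorem L15907 : sm gi N1815 = N1815 := ded_51_2 (flp_g L15899) L11110 L15899
theorem L15908 : sm gf N1262 = N1816 := rfl
theorem L15910 : sm gb N1816 = N1816 := ded_22_1 (flp_f L15908) L11119 L15908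
theorem L15911 : sm gc N1816 = N1263 := ded_29_1 (flp_f L11120) L11113 L15908
theorem L15913 : sm gj N1816 = N1816 := ded_46_2 (flp_f L15908) L11117 L15908
theorem L15914 : sm gi N1816 = N1816 := ded_48_2 (flp_f L15908) L11118 L15908
theorem L15915 : sm ge N1816 = N1816 := ded_40_1 (flp_f L15908) L11115 L7932 (flp_e L11115) L15908
theorem L15916 : sm gh N1262 = N1817 := rfl
theorem L15918 : sm gb N1817 = N1817 := ded_25_1 (flp_h L15916) L11119 L15916
theorem L15919 : sm gc N1817 = N1264 := ded_32_1 (flp_h L11129) L11113 L15916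
theorem L15921 : sm ge N1817 = N1288 := ded_43_1 (flp_h L11342) (flp_e L11115) L15916
theorem L15923 : sm gj N1817 = N1817 := ded_52_1 (flp_h L15916) L11117 L15916
theorem L15924 : sm gg N1263 = N1818 := rfl
theorem L15926 : sm gb N1818 = N1266 := ded_23_1 (flp_g L11143) (flp_b L11122) L15924
theorem L15928 : sm gd N1818 = N1265 := ded_36_1 (flp_g L11136) (flp_d L11124) L15924
theorem L15930 : sm ge N1818 = N1818 := ded_41_1 (flp_g L15924) L11128 L15924
theorem L15931 : sm gi N1818 = N1818 := ded_51_2 (flp_g L15924) L11127 L15924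
theorem L15932 : sm gh N1263 = N1819 := rfl
theorem L15934 : sm gb N1819 = N1267 := ded_25_1 (flp_h L11152) (flp_b L11122) L15932
theorem L15936 : sm ge N1819 = N1819 := ded_43_1 (flp_h L15932) L11128 L15932
theorem L15937 : sm gf N1819 = N1264 := ded_47_1 (flp_h L11129) L11120 L15932
theorem L15939 : sm gj N1819 = N1819 := ded_52_1 (flp_h L15932) L11126 L15932
theorem L15948 : sm gj N1265 = N1821 := rfl
theorem L15950 : sm gb N1821 = N1269 := ded_24_1 (flp_j L11170) (flp_b L11138) L15948
theorem L15952 : sm ge N1821 = N1271 := ded_42_1 (flp_j L11189) (flp_e L11140) L15948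
theorem L15954 : sm gi N1821 = N1821 := ded_53_2 (flp_j L15948) L11142 L15948
theorem L15955 : sm gg N1821 = N1821 := ded_49_1 (flp_j L15948) (flp_g L11136) L7759 L11136 L15948
theorem L15956 : sm gj N1266 = N1822 := rfl
theorem L15958 : sm ga N1822 = N1438 := ded_16_1 (flp_j L12549) (flp_a L11145) L15956
theorem L15960 : sm gc N1822 = N1822 := ded_31_1 (flp_j L15956) L11147 L15956
theorem L15961 : sm gd N1822 = N1269 := ded_37_1 (flp_j L11170) (flp_d L11148) L15956
theorem L15963 : sm ge N1822 = N1822 := ded_42_1 (flp_j L15956) L11150 L15956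
theorem L15964 : sm gi N1822 = N1822 := ded_53_2 (flp_j L15956) L11151 L15956
theorem L15965 : sm gg N1822 = N1822 := ded_49_1 (flp_j L15956) (flp_g L11143) L7770 L11143 L15956
theorem L15966 : sm gh N1266 = N1823 := rfl
theorem L15968 : sm ga N1823 = N1439 := ded_17_1 (flp_h L12557) (flp_a L11145) L15966
theorem L15970 : sm gc N1823 = N1823 := ded_32_1 (flp_h L15966) L11147 L15966
theorem L15971 : sm ge N1823 = N1823 := ded_43_1 (flp_h L15966) L11150 L15966
theorem L15972 : sm gg N1823 = N1267 := ded_50_1 (flp_h L11152) L11143 L15966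
theorem L15974 : sm gi N1267 = N1824 := rfl
theorem L15976 : sm ga N1824 = N1440 := ded_18_1 (flp_i L12563) (flp_a L11154) L15974
theorem L15978 : sm gc N1824 = N1824 := ded_33_1 (flp_i L15974) L11156 L15974
theorem L15979 : sm ge N1824 = N1824 := ded_44_1 (flp_i L15974) L11157 L15974
theorem L15980 : sm gf N1824 = N1268 := ded_48_1 (flp_i L11161) (flp_f L11158) L15974
theorem L15982 : sm gj N1824 = N1824 := ded_53_1 (flp_i L15974) L11160 L15974
theorem L15983 : sm gh N1824 = N1824 := ded_54_1 (flp_i L15974) (flp_h L11152) L7771 L11152 L15974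
theorem L15984 : sm gj N1270 = N1825 := rfl
theorem L15986 : sm ga N1825 = N1271 := ded_16_1 (flp_j L11189) (flp_a L11182) L15984
theorem L15988 : sm gb N1825 = N1441 := ded_24_1 (flp_j L12571) (flp_b L11184) L15984
theorem L15990 : sm gd N1825 = N1825 := ded_37_1 (flp_j L15984) L11186 L15984
theorem L15991 : sm gf N1825 = N1825 := ded_46_1 (flp_j L15984) L11188 L15984
theorem L15992 : sm gi N1825 = N1825 := ded_53_2 (flp_j L15984) L11187 L15984
theorem L15993 : sm gg N1825 = N1825 := ded_49_1 (flp_j L15984) (flp_g L11180) L7806 L11180 L15984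
theorem L15994 : sm gd N1272 = N1826 := rfl
theorem L15996 : sm ga N1826 = N1273 := ded_12_1 (flp_d L11209) (flp_a L11199) L15994
theorem L15998 : sm gb N1826 = N1442 := ded_20_1 (flp_d L12580) (flp_b L11201) L15994
theorem L16000 : sm gg N1826 = N1826 := ded_36_2 (flp_d L15994) L11204 L15994
theorem L16001 : sm gj N1826 = N1278 := ded_37_2 (flp_d L11257) (flp_j L11205) L15994
theorem L16003 : sm gi N1826 = N1826 := ded_39_2 (flp_d L15994) L11208 L15994
theorem L16004 : sm gf N1272 = N1827 := rfl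
theorem L16006 : sm ga N1827 = N1274 := ded_14_1 (flp_f L11217) (flp_a L11199) L16004
theorem L16008 : sm gb N1827 = N1443 := ded_22_1 (flp_f L12588) (flp_b L11201) L16004
theorem L16010 : sm gc N1827 = N1827 := ded_29_1 (flp_f L16004) L11203 L16004
theorem L16011 : sm gj N1827 = N1279 := ded_46_2 (flp_f L11266) (flp_j L11205) L16004
theorem L16013 : sm gh N1827 = N1827 := ded_47_2 (flp_f L16004) L11207 L16004
theorem L16014 : sm gi N1827 = N1827 := ded_48_2 (flp_f L16004) L11208 L16004
theorem L16015 : sm ge N1827 = N1827 := ded_40_1 (flp_f L16004) (flp_e L11197) L7828 L11197 L16004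
theorem L16016 : sm gc N1273 = N1828 := rfl
theorem L16018 : sm gg N1828 = N1828 := ded_30_2 (flp_c L16016) L11213 L16016
theorem L16019 : sm gj N1828 = N1280 := ded_31_2 (flp_c L11277) (flp_j L11214) L16016
theorem L16021 : sm gi N1828 = N1828 := ded_33_2 (flp_c L16016) L11216 L16016
theorem L16022 : sm gb N1828 = N1828 := ded_19_1 (flp_c L16016) L11211 L7854 (flp_b L11211) L16016
theorem L16023 : sm gd N1828 = N1828 := ded_27_2 (flp_c L16016) (flp_d L11209) L7840 L11209 L16016
theorem L16024 : sm gf N1273 = N1829 := rfl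
theorem L16026 : sm gb N1829 = N1275 := ded_22_1 (flp_f L11227) (flp_b L11211) L16024
theorem L16028 : sm gd N1829 = N1274 := ded_35_1 (flp_f L11217) L11209 L16024
theorem L16030 : sm gj N1829 = N1281 := ded_46_2 (flp_f L11284) (flp_j L11214) L16024
theorem L16032 : sm gi N1829 = N1829 := ded_48_2 (flp_f L16024) L11216 L16024
theorem L16033 : sm gh N1273 = N1830 := rfl
theorem L16035 : sm gb N1830 = N1276 := ded_25_1 (flp_h L11237) (flp_b L11211) L16033
theorem L16037 : sm gg N1830 = N1830 := ded_50_1 (flp_h L16033) L11213 L16033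
theorem L16038 : sm gj N1830 = N1282 := ded_52_1 (flp_h L11292) (flp_j L11214) L16033
theorem L16040 : sm gd N1830 = N1830 := ded_38_1 (flp_h L16033) (flp_d L11209) L7844 L11209 L16033
theorem L16041 : sm gg N1274 = N1831 := rfl
theorem L16043 : sm gb N1831 = N1277 := ded_23_1 (flp_g L11246) (flp_b L11219) L16041
theorem L16045 : sm gc N1831 = N1831 := ded_30_1 (flp_g L16041) L11221 L16041
theorem L16046 : sm ge N1831 = N1831 := ded_41_1 (flp_g L16041) L11226 L16041
theorem L16047 : sm gh N1831 = N1831 := ded_50_2 (flp_g L16041) L11224 L16041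
theorem L16048 : sm gi N1831 = N1831 := ded_51_2 (flp_g L16041) L11225 L16041
theorem L16049 : sm gf N1831 = N1831 := ded_45_1 (flp_g L16041) (flp_f L11217) L7841 L11217 L16041
theorem L16050 : sm gj N1831 = N1831 := ded_49_2 (flp_g L16041) L11222 L7903 (flp_j L11222) L16041
theorem L16051 : sm ge N1275 = N1832 := rfl
theorem L16053 : sm ga N1832 = N1448 := ded_13_1 (flp_e L12636) (flp_a L11229) L16051
theorem L16055 : sm gc N1832 = N1832 := ded_28_1 (flp_e L16051) L11231 L16051
theorem L16056 : sm gj N1832 = N1283 := ded_42_2 (flp_e L11299) (flp_j L11234) L16051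
theorem L16058 : sm gi N1832 = N1832 := ded_44_2 (flp_e L16051) L11236 L16051
theorem L16059 : sm gd N1832 = N1832 := ded_34_1 (flp_e L16051) L11232 L7865 (flp_d L11232) L16051
theorem L16060 : sm gg N1275 = N1833 := rfl
theorem L16062 : sm ga N1833 = N1449 := ded_15_1 (flp_g L12643) (flp_a L11229) L16060
theorem L16064 : sm gc N1833 = N1833 := ded_30_1 (flp_g L16060) L11231 L16060
theorem L16065 : sm gd N1833 = N1277 := ded_36_1 (flp_g L11246) (flp_d L11232) L16060
theorem L16067 : sm gi N1833 = N1833 := ded_51_2 (flp_g L16060) L11236 L16060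
theorem L16068 : sm gf N1833 = N1833 := ded_45_1 (flp_g L16060) (flp_f L11227) L7850 L11227 L16060
theorem L16069 : sm gj N1833 = N1833 := ded_49_2 (flp_g L16060) L11234 L7912 (flp_j L11234) L16060
theorem L16070 : sm gh N1275 = N1834 := rfl
theorem L16072 : sm ga N1834 = N1450 := ded_17_1 (flp_h L12651) (flp_a L11229) L16070
theorem L16074 : sm gc N1834 = N1834 := ded_32_1 (flp_h L16070) L11231 L16070
theorem L16075 : sm gf N1834 = N1276 := ded_47_1 (flp_h L11237) L11227 L16070
theorem L16077 : sm gj N1834 = N1284 := ded_52_1 (flp_h L11307) (flp_j L11234) L16070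
theorem L16079 : sm gd N1834 = N1834 := ded_38_1 (flp_h L16070) L11232 L7863 (flp_d L11232) L16070
theorem L16080 : sm gi N1276 = N1835 := rfl
theorem L16082 : sm ga N1835 = N1451 := ded_18_1 (flp_i L12659) (flp_a L11239) L16080
theorem L16084 : sm gc N1835 = N1835 := ded_33_1 (flp_i L16080) L11241 L16080
theorem L16085 : sm gd N1835 = N1835 := ded_39_1 (flp_i L16080) L11245 L16080
theorem L16086 : sm gg N1835 = N1835 := ded_51_1 (flp_i L16080) L11242 L16080
theorem L16087 : sm gj N1835 = N1285 := ded_53_1 (flp_i L11316) (flp_j L11243) L16080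
theorem L16089 : sm gh N1835 = N1835 := ded_54_1 (flp_i L16080) (flp_h L11237) L7853 L11237 L16080
theorem L16090 : sm gc N1278 = N1836 := rfl
theorem L16092 : sm ga N1836 = N1280 := ded_11_1 (flp_c L11277) (flp_a L11259) L16090
theorem L16094 : sm gg N1836 = N1286 := ded_30_2 (flp_c L11325) (flp_g L11263) L16090
theorem L16096 : sm gi N1836 = N1836 := ded_33_2 (flp_c L16090) L11265 L16090
theorem L16097 : sm gd N1836 = N1836 := ded_27_2 (flp_c L16090) (flp_d L11257) L7883 L11257 L16090
theorem L16098 : sm gf N1278 = N1837 := rfl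
theorem L16100 : sm ga N1837 = N1281 := ded_14_1 (flp_f L11284) (flp_a L11259) L16098
theorem L16102 : sm gb N1837 = N1453 := ded_22_1 (flp_f L12676) (flp_b L11261) L16098
theorem L16104 : sm gd N1837 = N1279 := ded_35_1 (flp_f L11266) L11257 L16098
theorem L16106 : sm gi N1837 = N1837 := ded_48_2 (flp_f L16098) L11265 L16098
theorem L16107 : sm gg N1837 = N1837 := ded_45_2 (flp_f L16098) L11263 L7927 (flp_g L11263) L16098
theorem L16117 : sm gf N1280 = N1839 := rfl
theorem L16119 : sm gb N1839 = N1839 := ded_22_1 (flp_f L16117) L11282 L16117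
theorem L16120 : sm gc N1839 = N1281 := ded_29_1 (flp_f L11284) L11277 L16117
theorem L16122 : sm gd N1839 = N1839 := ded_35_1 (flp_f L16117) L11283 L16117
theorem L16123 : sm gi N1839 = N1839 := ded_48_2 (flp_f L16117) L11281 L16117
theorem L16124 : sm gg N1839 = N1839 := ded_45_2 (flp_f L16117) L11279 L7932 (flp_g L11279) L16117
theorem L16125 : sm gh N1280 = N1840 := rfl
theorem L16127 : sm gb N1840 = N1840 := ded_25_1 (flp_h L16125) L11282 L16125
theorem L16128 : sm gc N1840 = N1282 := ded_32_1 (flp_h L11292) L11277 L16125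
theorem L16130 : sm gg N1840 = N1288 := ded_50_1 (flp_h L11342) (flp_g L11279) L16125
theorem L16132 : sm ge N1281 = N1841 := rfl
theorem L16134 : sm gb N1841 = N1283 := ded_21_1 (flp_e L11299) (flp_b L11286) L16132
theorem L16136 : sm gg N1841 = N1841 := ded_41_2 (flp_e L16132) L11291 L16132
theorem L16137 : sm gi N1841 = N1841 := ded_44_2 (flp_e L16132) L11290 L16132
theorem L16138 : sm gd N1841 = N1841 := ded_34_1 (flp_e L16132) L11288 L7902 (flp_d L11288) L16132
theorem L16139 : sm gh N1281 = N1842 := rfl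
theorem L16141 : sm gb N1842 = N1284 := ded_25_1 (flp_h L11307) (flp_b L11286) L16139
theorem L16143 : sm gf N1842 = N1282 := ded_47_1 (flp_h L11292) L11284 L16139
theorem L16145 : sm gg N1842 = N1842 := ded_50_1 (flp_h L16139) L11291 L16139
theorem L16146 : sm gd N1842 = N1842 := ded_38_1 (flp_h L16139) L11288 L7900 (flp_d L11288) L16139
theorem L16147 : sm gi N1282 = N1843 := rfl
theorem L16149 : sm gb N1843 = N1285 := ded_26_1 (flp_i L11316) (flp_b L11294) L16147
theorem L16155 : sm gh N1283 = N1844 := rfl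
theorem L16157 : sm ga N1844 = N1460 := ded_17_1 (flp_h L12730) (flp_a L11301) L16155
theorem L16159 : sm gc N1844 = N1844 := ded_32_1 (flp_h L16155) L11303 L16155
theorem L16160 : sm ge N1844 = N1284 := ded_43_1 (flp_h L11307) L11299 L16155
theorem L16162 : sm gg N1844 = N1844 := ded_50_1 (flp_h L16155) L11304 L16155
theorem L16163 : sm gi N1284 = N1845 := rfl
theorem L16165 : sm ga N1845 = N1461 := ded_18_1 (flp_i L12736) (flp_a L11309) L16163
theorem L16167 : sm gc N1845 = N1845 := ded_33_1 (flp_i L16163) L11311 L16163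
theorem L16168 : sm gd N1845 = N1845 := ded_39_1 (flp_i L16163) L11315 L16163
theorem L16169 : sm gf N1845 = N1285 := ded_48_1 (flp_i L11316) (flp_f L11312) L16163
theorem L16171 : sm gg N1845 = N1845 := ded_51_1 (flp_i L16163) L11314 L16163
theorem L16172 : sm gh N1845 = N1845 := ded_54_1 (flp_i L16163) (flp_h L11307) L7911 L11307 L16163
theorem L16173 : sm gb N1286 = N1846 := rfl
theorem L16182 : sm gh N1286 = N1847 := rfl
theorem L16184 : sm ga N1847 = N1288 := ded_17_1 (flp_h L11342) (flp_a L11327) L16182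
theorem L16190 : sm gi N1287 = N1848 := rfl
theorem L16200 : sm gd N1288 = N1849 := rfl
theorem L16202 : sm gb N1849 = N1849 := ded_20_1 (flp_d L16200) L11344 L16200
theorem L16203 : sm gf N1849 = N1849 := ded_35_2 (flp_d L16200) L11347 L16200
theorem L16204 : sm gj N1849 = N1849 := ded_37_2 (flp_d L16200) L11348 L16200
theorem L16205 : sm gc N1849 = N1849 := ded_27_1 (flp_d L16200) L11345 L7943 (flp_c L11345) L16200
theorem L16206 : sm gh N1849 = N1849 := ded_38_2 (flp_d L16200) (flp_h L11342) L7936 L11342 L16200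
theorem L16207 : sm gi N1288 = N1850 := rfl
theorem L16215 : sm gb N1290 = N1851 := rfl
theorem L16217 : sm gd N1851 = N1851 := ded_20_2 (flp_b L16215) L11364 L16215
theorem L16218 : sm gf N1851 = N1851 := ded_22_2 (flp_b L16215) L11359 L16215
theorem L16219 : sm gg N1851 = N1295 := ded_23_2 (flp_b L11401) (flp_g L11360) L16215
theorem L16221 : sm gj N1851 = N1851 := ded_24_2 (flp_b L16215) L11362 L16215
theorem L16222 : sm gh N1851 = N1851 := ded_25_2 (flp_b L16215) L11363 L16215
theorem L16223 : sm ga N1851 = N1851 := ded_10_1 (flp_b L16215) (flp_a L14679) L14686 L14679 L16215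
theorem L16224 : sm gc N1851 = N1851 := ded_19_2 (flp_b L16215) (flp_c L11357) L7955 L11357 L16215
theorem L16225 : sm ge N1290 = N1852 := rfl
theorem L16227 : sm gc N1852 = N1291 := ded_28_1 (flp_e L11365) L11357 L16225
theorem L16229 : sm gg N1852 = N1296 := ded_41_2 (flp_e L11411) (flp_g L11360) L16225
theorem L16231 : sm gj N1852 = N1852 := ded_42_2 (flp_e L16225) L11362 L16225
theorem L16232 : sm gh N1852 = N1852 := ded_43_2 (flp_e L16225) L11363 L16225
theorem L16233 : sm gi N1290 = N1853 := rfl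
theorem L16235 : sm gc N1853 = N1292 := ded_33_1 (flp_i L11373) L11357 L16233
theorem L16237 : sm gd N1853 = N1853 := ded_39_1 (flp_i L16233) L11364 L16233
theorem L16238 : sm gf N1853 = N1853 := ded_48_1 (flp_i L16233) L11359 L16233
theorem L16239 : sm gg N1853 = N1297 := ded_51_1 (flp_i L11419) (flp_g L11360) L16233
theorem L16241 : sm gj N1853 = N1853 := ded_53_1 (flp_i L16233) L11362 L16233
theorem L16242 : sm gf N1291 = N1854 := rfl
theorem L16244 : sm gb N1854 = N1854 := ded_22_1 (flp_f L16242) L11367 L16242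
theorem L16245 : sm gd N1854 = N1854 := ded_35_1 (flp_f L16242) L11372 L16242
theorem L16246 : sm gj N1854 = N1854 := ded_46_2 (flp_f L16242) L11370 L16242
theorem L16247 : sm gh N1854 = N1854 := ded_47_2 (flp_f L16242) L11371 L16242
theorem L16248 : sm ge N1854 = N1854 := ded_40_1 (flp_f L16242) (flp_e L11365) L7956 L11365 L16242
theorem L16249 : sm gg N1854 = N1854 := ded_45_2 (flp_f L16242) L11368 L7994 (flp_g L11368) L16242
theorem L16250 : sm gi N1291 = N1855 := rfl
theorem L16252 : sm gb N1855 = N1855 := ded_26_1 (flp_i L16250) L11367 L16250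
theorem L16253 : sm gd N1855 = N1855 := ded_39_1 (flp_i L16250) L11372 L16250
theorem L16254 : sm ge N1855 = N1292 := ded_44_1 (flp_i L11373) L11365 L16250
theorem L16256 : sm gg N1855 = N1298 := ded_51_1 (flp_i L11428) (flp_g L11368) L16250
theorem L16258 : sm gj N1855 = N1855 := ded_53_1 (flp_i L16250) L11370 L16250
theorem L16259 : sm gh N1292 = N1856 := rfl
theorem L16261 : sm gb N1856 = N1856 := ded_25_1 (flp_h L16259) L11375 L16259
theorem L16262 : sm gf N1856 = N1856 := ded_47_1 (flp_h L16259) L11378 L16259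
theorem L16263 : sm gg N1856 = N1299 := ded_50_1 (flp_h L11437) (flp_g L11379) L16259
theorem L16265 : sm gj N1856 = N1856 := ded_52_1 (flp_h L16259) L11381 L16259
theorem L16266 : sm gi N1856 = N1856 := ded_54_2 (flp_h L16259) (flp_i L11373) L7960 L11373 L16259
theorem L16267 : sm gd N1293 = N1857 := rfl
theorem L16269 : sm gb N1857 = N1857 := ded_20_1 (flp_d L16267) L11384 L16267
theorem L16270 : sm gf N1857 = N1857 := ded_35_2 (flp_d L16267) L11387 L16267
theorem L16271 : sm gg N1857 = N1300 := ded_36_2 (flp_d L11445) (flp_g L11388) L16267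
theorem L16273 : sm gj N1857 = N1857 := ded_37_2 (flp_d L16267) L11390 L16267
theorem L16274 : sm gi N1857 = N1294 := ded_39_2 (flp_d L11393) (flp_i L11391) L16267
theorem L16276 : sm gc N1294 = N1858 := rfl
theorem L16278 : sm gf N1858 = N1858 := ded_29_2 (flp_c L16276) L11396 L16276
theorem L16279 : sm gg N1858 = N1301 := ded_30_2 (flp_c L11454) (flp_g L11397) L16276
theorem L16281 : sm gj N1858 = N1858 := ded_31_2 (flp_c L16276) L11399 L16276
theorem L16282 : sm gh N1858 = N1858 := ded_32_2 (flp_c L16276) L11400 L16276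
theorem L16283 : sm gd N1858 = N1858 := ded_27_2 (flp_c L16276) (flp_d L11393) L7973 L11393 L16276
theorem L16284 : sm ge N1294 = N1859 := rfl
theorem L16286 : sm gb N1859 = N1859 := ded_21_1 (flp_e L16284) L11395 L16284
theorem L16287 : sm gg N1859 = N1302 := ded_41_2 (flp_e L11462) (flp_g L11397) L16284
theorem L16289 : sm gj N1859 = N1859 := ded_42_2 (flp_e L16284) L11399 L16284
theorem L16290 : sm gh N1859 = N1859 := ded_43_2 (flp_e L16284) L11400 L16284
theorem L16291 : sm gd N1859 = N1859 := ded_34_1 (flp_e L16284) (flp_d L11393) L7974 L11393 L16284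
theorem L16292 : sm ge N1295 = N1860 := rfl
theorem L16294 : sm ga N1860 = N1860 := ded_13_1 (flp_e L16292) L11409 L16292
theorem L16295 : sm gb N1860 = N1296 := ded_21_1 (flp_e L11411) L11401 L16292
theorem L16297 : sm gc N1860 = N1860 := ded_28_1 (flp_e L16292) L11410 L16292
theorem L16298 : sm gj N1860 = N1303 := ded_42_2 (flp_e L11469) (flp_j L11406) L16292
theorem L16300 : sm gh N1860 = N1860 := ded_43_2 (flp_e L16292) L11408 L16292
theorem L16301 : sm gf N1860 = N1860 := ded_40_2 (flp_e L16292) L11404 L8086 (flp_f L11404) L16292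
theorem L16302 : sm gi N1295 = N1861 := rfl
theorem L16305 : sm gb N1861 = N1297 := ded_26_1 (flp_i L11419) L11401 L16302
theorem L16307 : sm gc N1861 = N1861 := ded_33_1 (flp_i L16302) L11410 L16302
theorem L16309 : sm gf N1861 = N1315 := ded_48_1 (flp_i L11563) (flp_f L11404) L16302
theorem L16311 : sm gj N1861 = N1304 := ded_53_1 (flp_i L11478) (flp_j L11406) L16302
theorem L16313 : sm gd N1296 = N1862 := rfl
theorem L16315 : sm gf N1862 = N1862 := ded_35_2 (flp_d L16313) L11418 L16313
theorem L16316 : sm gj N1862 = N1305 := ded_37_2 (flp_d L11488) (flp_j L11415) L16313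
theorem L16318 : sm gc N1862 = N1862 := ded_27_1 (flp_d L16313) L11413 L7993 (flp_c L11413) L16313
theorem L16319 : sm ge N1862 = N1862 := ded_34_2 (flp_d L16313) (flp_e L11411) L7986 L11411 L16313
theorem L16320 : sm gi N1296 = N1863 := rfl
theorem L16322 : sm gc N1863 = N1298 := ded_33_1 (flp_i L11428) (flp_c L11413) L16320
theorem L16324 : sm ge N1863 = N1297 := ded_44_1 (flp_i L11419) L11411 L16320
theorem L16326 : sm gf N1863 = N1863 := ded_48_1 (flp_i L16320) L11418 L16320
theorem L16327 : sm gj N1863 = N1306 := ded_53_1 (flp_i L11494) (flp_j L11415) L16320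
theorem L16329 : sm gh N1297 = N1864 := rfl
theorem L16331 : sm gc N1864 = N1299 := ded_32_1 (flp_h L11437) (flp_c L11421) L16329
theorem L16333 : sm gf N1864 = N1316 := ded_47_1 (flp_h L11574) (flp_f L11424) L16329
theorem L16335 : sm gj N1864 = N1307 := ded_52_1 (flp_h L11502) (flp_j L11426) L16329
theorem L16337 : sm gi N1864 = N1864 := ded_54_2 (flp_h L16329) (flp_i L11419) L7985 L11419 L16329
theorem L16338 : sm gh N1298 = N1865 := rfl
theorem L16340 : sm gb N1865 = N1865 := ded_25_1 (flp_h L16338) L11430 L16338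
theorem L16341 : sm ge N1865 = N1299 := ded_43_1 (flp_h L11437) (flp_e L11432) L16338
theorem L16343 : sm gf N1865 = N1865 := ded_47_1 (flp_h L16338) L11434 L16338
theorem L16344 : sm gj N1865 = N1308 := ded_52_1 (flp_h L11510) (flp_j L11435) L16338
theorem L16346 : sm gi N1865 = N1865 := ded_54_2 (flp_h L16338) (flp_i L11428) L7992 L11428 L16338
theorem L16347 : sm gd N1299 = N1866 := rfl
theorem L16349 : sm gb N1866 = N1866 := ded_20_1 (flp_d L16347) L11439 L16347
theorem L16350 : sm gf N1866 = N1317 := ded_35_2 (flp_d L11583) (flp_f L11440) L16347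
theorem L16352 : sm gj N1866 = N1309 := ded_37_2 (flp_d L11518) (flp_j L11442) L16347
theorem L16354 : sm gi N1866 = N1866 := ded_39_2 (flp_d L16347) L11444 L16347
theorem L16355 : sm gh N1866 = N1300 := ded_38_2 (flp_d L11445) (flp_h L8004) (flp_d L7998) L11437 L16347
theorem L16357 : sm gc N1300 = N1867 := rfl
theorem L16359 : sm gf N1867 = N1318 := ded_29_2 (flp_c L11592) (flp_f L11448) L16357
theorem L16361 : sm gj N1867 = N1310 := ded_31_2 (flp_c L11527) (flp_j L11450) L16357
theorem L16363 : sm gi N1867 = N1301 := ded_33_2 (flp_c L11454) (flp_i L11452) L16357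
theorem L16365 : sm gd N1867 = N1867 := ded_27_2 (flp_c L16357) (flp_d L11445) L8007 L11445 L16357
theorem L16366 : sm ge N1300 = N1868 := rfl
theorem L16368 : sm gb N1868 = N1868 := ded_21_1 (flp_e L16366) L11447 L16366
theorem L16369 : sm gj N1868 = N1311 := ded_42_2 (flp_e L11535) (flp_j L11450) L16366
theorem L16371 : sm gi N1868 = N1302 := ded_44_2 (flp_e L11462) (flp_i L11452) L16366
theorem L16373 : sm gd N1868 = N1868 := ded_34_1 (flp_e L16366) (flp_d L11445) L8008 L11445 L16366
theorem L16374 : sm gb N1301 = N1869 := rfl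
theorem L16376 : sm gd N1869 = N1869 := ded_20_2 (flp_b L16374) L11461 L16374
theorem L16377 : sm gf N1869 = N1320 := ded_22_2 (flp_b L11610) (flp_f L11456) L16374
theorem L16379 : sm gj N1869 = N1312 := ded_24_2 (flp_b L11542) (flp_j L11458) L16374
theorem L16381 : sm gh N1869 = N1869 := ded_25_2 (flp_b L16374) L11460 L16374
theorem L16382 : sm gc N1869 = N1869 := ded_19_2 (flp_b L16374) (flp_c L11454) L8017 L11454 L16374
theorem L16383 : sm ge N1301 = N1870 := rfl
theorem L16385 : sm gc N1870 = N1302 := ded_28_1 (flp_e L11462) L11454 L16383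
theorem L16387 : sm gj N1870 = N1313 := ded_42_2 (flp_e L11550) (flp_j L11458) L16383
theorem L16389 : sm gh N1870 = N1870 := ded_43_2 (flp_e L16383) L11460 L16383
theorem L16390 : sm gf N1302 = N1871 := rfl
theorem L16392 : sm gb N1871 = N1871 := ded_22_1 (flp_f L16390) L11464 L16390
theorem L16393 : sm gd N1871 = N1871 := ded_35_1 (flp_f L16390) L11468 L16390
theorem L16394 : sm gj N1871 = N1314 := ded_46_2 (flp_f L11556) (flp_j L11465) L16390
theorem L16396 : sm gh N1871 = N1871 := ded_47_2 (flp_f L16390) L11467 L16390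
theorem L16397 : sm ge N1871 = N1322 := ded_40_1 (flp_f L11626) (flp_e L8125) (flp_f L8018) L11462 L16390
theorem L16399 : sm gd N1303 = N1872 := rfl
theorem L16401 : sm ga N1872 = N1872 := ded_12_1 (flp_d L16399) L11471 L16399
theorem L16402 : sm gb N1872 = N1305 := ded_20_1 (flp_d L11488) (flp_b L11472) L16399
theorem L16404 : sm gf N1872 = N1872 := ded_35_2 (flp_d L16399) L11477 L16399
theorem L16405 : sm gg N1872 = N1872 := ded_36_2 (flp_d L16399) L11475 L16399
theorem L16406 : sm ge N1872 = N1872 := ded_34_2 (flp_d L16399) (flp_e L11469) L8025 L11469 L16399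
theorem L16407 : sm gi N1303 = N1873 := rfl
theorem L16410 : sm gb N1873 = N1306 := ded_26_1 (flp_i L11494) (flp_b L11472) L16407
theorem L16413 : sm ge N1873 = N1304 := ded_44_1 (flp_i L11478) L11469 L16407
theorem L16417 : sm gh N1304 = N1874 := rfl
theorem L16420 : sm gb N1874 = N1307 := ded_25_1 (flp_h L11502) (flp_b L11481) L16417
theorem L16423 : sm gf N1874 = N1323 := ded_47_1 (flp_h L11634) (flp_f L11485) L16417
theorem L16426 : sm gi N1874 = N1874 := ded_54_2 (flp_h L16417) (flp_i L11478) L8029 L11478 L16417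
theorem L16427 : sm gh N1305 = N1875 := rfl
theorem L16429 : sm gc N1875 = N1875 := ded_32_1 (flp_h L16427) L11492 L16427
theorem L16430 : sm ge N1875 = N1875 := ded_43_1 (flp_h L16427) L11493 L16427
theorem L16431 : sm gf N1875 = N1875 := ded_47_1 (flp_h L16427) L11490 L16427
theorem L16432 : sm gg N1875 = N1875 := ded_50_1 (flp_h L16427) L11491 L16427
theorem L16433 : sm gd N1875 = N1875 := ded_38_1 (flp_h L16427) (flp_d L11488) L8037 L11488 L16427
theorem L16434 : sm gi N1305 = N1876 := rfl
theorem L16436 : sm gc N1876 = N1876 := ded_33_1 (flp_i L16434) L11492 L16434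
theorem L16437 : sm gd N1876 = N1306 := ded_39_1 (flp_i L11494) L11488 L16434
theorem L16439 : sm ge N1876 = N1876 := ded_44_1 (flp_i L16434) L11493 L16434
theorem L16440 : sm gf N1876 = N1876 := ded_48_1 (flp_i L16434) L11490 L16434
theorem L16441 : sm gg N1876 = N1876 := ded_51_1 (flp_i L16434) L11491 L16434
theorem L16442 : sm gh N1306 = N1877 := rfl
theorem L16444 : sm gc N1877 = N1308 := ded_32_1 (flp_h L11510) (flp_c L11496) L16442
theorem L16446 : sm ge N1877 = N1307 := ded_43_1 (flp_h L11502) (flp_e L11498) L16442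
theorem L16450 : sm gi N1877 = N1877 := ded_54_2 (flp_h L16442) (flp_i L11494) L8037 L11494 L16442
theorem L16451 : sm gd N1307 = N1878 := rfl
theorem L16453 : sm gf N1878 = N1324 := ded_35_2 (flp_d L11644) (flp_f L11506) L16451
theorem L16458 : sm gd N1308 = N1879 := rfl
theorem L16460 : sm gb N1879 = N1879 := ded_20_1 (flp_d L16458) L11512 L16458
theorem L16461 : sm gf N1879 = N1879 := ded_35_2 (flp_d L16458) L11515 L16458
theorem L16462 : sm gg N1879 = N1879 := ded_36_2 (flp_d L16458) L11516 L16458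
theorem L16463 : sm gi N1879 = N1879 := ded_39_2 (flp_d L16458) L11517 L16458
theorem L16464 : sm gh N1879 = N1879 := ded_38_2 (flp_d L16458) (flp_h L11510) L8050 L11510 L16458
theorem L16465 : sm gc N1309 = N1880 := rfl
theorem L16467 : sm gf N1880 = N1325 := ded_29_2 (flp_c L11650) (flp_f L11521) L16465
theorem L16470 : sm gh N1880 = N1310 := ded_32_2 (flp_c L11527) (flp_h L11525) L16465
theorem L16472 : sm gi N1880 = N1880 := ded_33_2 (flp_c L16465) L11524 L16465
theorem L16473 : sm ge N1309 = N1881 := rfl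
theorem L16475 : sm gb N1881 = N1881 := ded_21_1 (flp_e L16473) L11520 L16473
theorem L16476 : sm gg N1881 = N1881 := ded_41_2 (flp_e L16473) L11523 L16473
theorem L16477 : sm gh N1881 = N1311 := ded_43_2 (flp_e L11535) (flp_h L11525) L16473
theorem L16479 : sm gi N1881 = N1881 := ded_44_2 (flp_e L16473) L11524 L16473
theorem L16480 : sm gb N1310 = N1882 := rfl
theorem L16483 : sm gf N1882 = N1327 := ded_22_2 (flp_b L11666) (flp_f L11529) L16480
theorem L16486 : sm gi N1882 = N1312 := ded_26_2 (flp_b L11542) (flp_i L11532) L16480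
theorem L16489 : sm ge N1310 = N1883 := rfl
theorem L16491 : sm gc N1883 = N1311 := ded_28_1 (flp_e L11535) L11527 L16489
theorem L16493 : sm gg N1883 = N1883 := ded_41_2 (flp_e L16489) L11531 L16489
theorem L16494 : sm gi N1883 = N1313 := ded_44_2 (flp_e L11550) (flp_i L11532) L16489
theorem L16496 : sm gf N1311 = N1884 := rfl
theorem L16498 : sm gb N1884 = N1884 := ded_22_1 (flp_f L16496) L11537 L16496
theorem L16499 : sm gd N1884 = N1884 := ded_35_1 (flp_f L16496) L11541 L16496
theorem L16500 : sm gi N1884 = N1314 := ded_48_2 (flp_f L11556) (flp_i L11539) L16496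
theorem L16502 : sm ge N1884 = N1329 := ded_40_1 (flp_f L11682) (flp_e L8167) (flp_f L8065) L11535 L16496
theorem L16504 : sm ga N1312 = N1885 := rfl
theorem L16506 : sm gc N1885 = N1885 := ded_11_2 (flp_a L16504) L11549 L16504
theorem L16508 : sm gf N1885 = N1330 := ded_14_2 (flp_a L11689) (flp_f L11545) L16504
theorem L16512 : sm ge N1312 = N1886 := rfl
theorem L16514 : sm gb N1886 = N1313 := ded_21_1 (flp_e L11550) L11542 L16512
theorem L16516 : sm gc N1886 = N1886 := ded_28_1 (flp_e L16512) L11549 L16512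
theorem L16517 : sm gg N1886 = N1886 := ded_41_2 (flp_e L16512) L11547 L16512
theorem L16518 : sm gh N1886 = N1886 := ded_43_2 (flp_e L16512) L11548 L16512
theorem L16519 : sm gd N1313 = N1887 := rfl
theorem L16521 : sm gg N1887 = N1887 := ded_36_2 (flp_d L16519) L11554 L16519
theorem L16522 : sm gc N1887 = N1887 := ded_27_1 (flp_d L16519) L11552 L8082 (flp_c L11552) L16519
theorem L16523 : sm ge N1887 = N1887 := ded_34_2 (flp_d L16519) (flp_e L11550) L8076 L11550 L16519
theorem L16524 : sm gf N1313 = N1888 := rfl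
theorem L16526 : sm gc N1888 = N1314 := ded_29_1 (flp_f L11556) (flp_c L11552) L16524
theorem L16528 : sm gh N1888 = N1888 := ded_47_2 (flp_f L16524) L11555 L16524
theorem L16529 : sm ge N1888 = N1333 := ded_40_1 (flp_f L11711) (flp_e L8183) (flp_f L8072) L11550 L16524
theorem L16531 : sm gg N1314 = N1889 := rfl
theorem L16533 : sm gb N1889 = N1889 := ded_23_1 (flp_g L16531) L11558 L16531
theorem L16534 : sm gd N1889 = N1889 := ded_36_1 (flp_g L16531) L11559 L16531
theorem L16535 : sm ge N1889 = N1334 := ded_41_1 (flp_g L11716) (flp_e L11561) L16531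
theorem L16537 : sm gh N1889 = N1889 := ded_50_2 (flp_g L16531) L11560 L16531
theorem L16538 : sm gf N1889 = N1889 := ded_45_1 (flp_g L16531) (flp_f L11556) L8080 L11556 L16531
theorem L16539 : sm gh N1315 = N1890 := rfl
theorem L16542 : sm gb N1890 = N1316 := ded_25_1 (flp_h L11574) (flp_b L11566) L16539
theorem L16546 : sm gg N1890 = N1890 := ded_50_1 (flp_h L16539) L11571 L16539
theorem L16547 : sm gj N1890 = N1323 := ded_52_1 (flp_h L11634) (flp_j L11572) L16539
theorem L16549 : sm gi N1890 = N1890 := ded_54_2 (flp_h L16539) (flp_i L11563) L8090 L11563 L16539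
theorem L16550 : sm gd N1316 = N1891 := rfl
theorem L16552 : sm gg N1891 = N1891 := ded_36_2 (flp_d L16550) L11579 L16550
theorem L16553 : sm gj N1891 = N1324 := ded_37_2 (flp_d L11644) (flp_j L11580) L16550
theorem L16557 : sm gc N1317 = N1892 := rfl
theorem L16559 : sm gg N1892 = N1892 := ded_30_2 (flp_c L16557) L11586 L16557
theorem L16560 : sm gj N1892 = N1325 := ded_31_2 (flp_c L11650) (flp_j L11587) L16557
theorem L16562 : sm gh N1892 = N1318 := ded_32_2 (flp_c L11592) (flp_h L11590) L16557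
theorem L16565 : sm ge N1317 = N1893 := rfl
theorem L16567 : sm gb N1893 = N1893 := ded_21_1 (flp_e L16565) L11585 L16565
theorem L16568 : sm gg N1893 = N1893 := ded_41_2 (flp_e L16565) L11586 L16565
theorem L16569 : sm gj N1893 = N1326 := ded_42_2 (flp_e L11657) (flp_j L11587) L16565
theorem L16571 : sm gh N1893 = N1319 := ded_43_2 (flp_e L11600) (flp_h L11590) L16565
theorem L16573 : sm gi N1893 = N1893 := ded_44_2 (flp_e L16565) L11589 L16565
theorem L16574 : sm gd N1893 = N1893 := ded_34_1 (flp_e L16565) (flp_d L11583) L8105 L11583 L16565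
theorem L16575 : sm gb N1318 = N1894 := rfl
theorem L16579 : sm gj N1894 = N1327 := ded_24_2 (flp_b L11666) (flp_j L11595) L16575
theorem L16581 : sm gi N1894 = N1320 := ded_26_2 (flp_b L11610) (flp_i L11597) L16575
theorem L16584 : sm ge N1318 = N1895 := rfl
theorem L16586 : sm gc N1895 = N1319 := ded_28_1 (flp_e L11600) L11592 L16584
theorem L16588 : sm gg N1895 = N1895 := ded_41_2 (flp_e L16584) L11594 L16584
theorem L16589 : sm gj N1895 = N1328 := ded_42_2 (flp_e L11674) (flp_j L11595) L16584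
theorem L16591 : sm gi N1895 = N1321 := ded_44_2 (flp_e L11618) (flp_i L11597) L16584
theorem L16593 : sm gf N1319 = N1896 := rfl
theorem L16595 : sm gb N1896 = N1896 := ded_22_1 (flp_f L16593) L11602 L16593
theorem L16596 : sm gd N1896 = N1355 := ded_35_1 (flp_f L11882) (flp_d L11608) L16593
theorem L16598 : sm gj N1896 = N1329 := ded_46_2 (flp_f L11682) (flp_j L11604) L16593
theorem L16600 : sm gi N1896 = N1322 := ded_48_2 (flp_f L11626) (flp_i L11606) L16593
theorem L16602 : sm ga N1320 = N1897 := rfl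
theorem L16607 : sm gj N1897 = N1330 := ded_16_2 (flp_a L11689) (flp_j L11614) L16602
theorem L16610 : sm ge N1320 = N1898 := rfl
theorem L16612 : sm gb N1898 = N1321 := ded_21_1 (flp_e L11618) L11610 L16610
theorem L16614 : sm gc N1898 = N1898 := ded_28_1 (flp_e L16610) L11617 L16610
theorem L16615 : sm gg N1898 = N1898 := ded_41_2 (flp_e L16610) L11613 L16610
theorem L16616 : sm gj N1898 = N1331 := ded_42_2 (flp_e L11696) (flp_j L11614) L16610
theorem L16618 : sm gh N1898 = N1898 := ded_43_2 (flp_e L16610) L11616 L16610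
theorem L16619 : sm gd N1321 = N1899 := rfl
theorem L16621 : sm gg N1899 = N1899 := ded_36_2 (flp_d L16619) L11622 L16619
theorem L16622 : sm gj N1899 = N1332 := ded_37_2 (flp_d L11704) (flp_j L11623) L16619
theorem L16624 : sm gc N1899 = N1358 := ded_27_1 (flp_d L11911) L8316 (flp_d L8132) (flp_c L11620) L16619
theorem L16626 : sm ge N1899 = N1899 := ded_34_2 (flp_d L16619) (flp_e L11618) L8124 L11618 L16619
theorem L16627 : sm gf N1321 = N1900 := rfl
theorem L16629 : sm gc N1900 = N1322 := ded_29_1 (flp_f L11626) (flp_c L11620) L16627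
theorem L16631 : sm gj N1900 = N1333 := ded_46_2 (flp_f L11711) (flp_j L11623) L16627
theorem L16633 : sm gh N1900 = N1900 := ded_47_2 (flp_f L16627) L11625 L16627
theorem L16634 : sm gg N1322 = N1901 := rfl
theorem L16636 : sm gb N1901 = N1901 := ded_23_1 (flp_g L16634) L11628 L16634
theorem L16637 : sm gd N1901 = N1360 := ded_36_1 (flp_g L11926) (flp_d L11629) L16634
theorem L16639 : sm gh N1901 = N1901 := ded_50_2 (flp_g L16634) L11633 L16634
theorem L16640 : sm gf N1901 = N1901 := ded_45_1 (flp_g L16634) (flp_f L11626) L8128 L11626 L16634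
theorem L16641 : sm gd N1323 = N1902 := rfl
theorem L16646 : sm gg N1902 = N1335 := ded_36_2 (flp_d L11724) (flp_g L11641) L16641
theorem L16648 : sm gi N1902 = N1902 := ded_39_2 (flp_d L16641) L11643 L16641
theorem L16650 : sm gc N1324 = N1903 := rfl
theorem L16652 : sm gg N1903 = N1336 := ded_30_2 (flp_c L11733) (flp_g L11646) L16650
theorem L16656 : sm gd N1903 = N1325 := ded_27_2 (flp_c L11650) (flp_d L8152) (flp_c L8146) L11644 L16650
theorem L16665 : sm gb N1325 = N1905 := rfl
theorem L16667 : sm gg N1905 = N1338 := ded_23_2 (flp_b L11747) (flp_g L11652) L16665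
theorem L16669 : sm gh N1905 = N1327 := ded_25_2 (flp_b L11666) (flp_h L11654) L16665
theorem L16672 : sm gc N1905 = N1905 := ded_19_2 (flp_b L16665) (flp_c L11650) L8154 L11650 L16665
theorem L16673 : sm ge N1325 = N1906 := rfl
theorem L16675 : sm gc N1906 = N1326 := ded_28_1 (flp_e L11657) L11650 L16673
theorem L16677 : sm gg N1906 = N1339 := ded_41_2 (flp_e L11755) (flp_g L11652) L16673
theorem L16679 : sm gh N1906 = N1328 := ded_43_2 (flp_e L11674) (flp_h L11654) L16673
theorem L16682 : sm gf N1326 = N1907 := rfl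
theorem L16684 : sm gb N1907 = N1907 := ded_22_1 (flp_f L16682) L11659 L16682
theorem L16685 : sm gd N1907 = N1907 := ded_35_1 (flp_f L16682) L11665 L16682
theorem L16686 : sm gh N1907 = N1329 := ded_47_2 (flp_f L11682) (flp_h L11662) L16682
theorem L16688 : sm gi N1907 = N1907 := ded_48_2 (flp_f L16682) L11664 L16682
theorem L16689 : sm ga N1327 = N1908 := rfl
theorem L16693 : sm gg N1908 = N1341 := ded_15_2 (flp_a L11772) (flp_g L11669) L16689
theorem L16695 : sm gi N1908 = N1330 := ded_18_2 (flp_a L11689) (flp_i L11671) L16689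
theorem L16697 : sm ge N1327 = N1909 := rfl
theorem L16699 : sm gb N1909 = N1328 := ded_21_1 (flp_e L11674) L11666 L16697
theorem L16702 : sm gg N1909 = N1342 := ded_41_2 (flp_e L11780) (flp_g L11669) L16697
theorem L16704 : sm gi N1909 = N1331 := ded_44_2 (flp_e L11696) (flp_i L11671) L16697
theorem L16706 : sm gd N1328 = N1910 := rfl
theorem L16708 : sm gg N1910 = N1343 := ded_36_2 (flp_d L11788) (flp_g L11678) L16706
theorem L16710 : sm gi N1910 = N1332 := ded_39_2 (flp_d L11704) (flp_i L11680) L16706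
theorem L16712 : sm gc N1910 = N1363 := ded_27_1 (flp_d L11953) L8343 (flp_d L8174) (flp_c L11676) L16706
theorem L16714 : sm ge N1910 = N1910 := ded_34_2 (flp_d L16706) (flp_e L11674) L8166 L11674 L16706
theorem L16715 : sm gf N1328 = N1911 := rfl
theorem L16717 : sm gc N1911 = N1329 := ded_29_1 (flp_f L11682) (flp_c L11676) L16715
theorem L16719 : sm gi N1911 = N1333 := ded_48_2 (flp_f L11711) (flp_i L11680) L16715
theorem L16721 : sm gg N1329 = N1912 := rfl
theorem L16723 : sm gb N1912 = N1912 := ded_23_1 (flp_g L16721) L11684 L16721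
theorem L16724 : sm gd N1912 = N1365 := ded_36_1 (flp_g L11968) (flp_d L11685) L16721
theorem L16726 : sm gi N1912 = N1334 := ded_51_2 (flp_g L11716) (flp_i L11687) L16721
theorem L16728 : sm gf N1912 = N1345 := ded_45_1 (flp_g L11804) (flp_f L8242) (flp_g L8170) L11682 L16721
theorem L16730 : sm ge N1330 = N1913 := rfl
theorem L16732 : sm ga N1913 = N1331 := ded_13_1 (flp_e L11696) L11689 L16730
theorem L16735 : sm gg N1913 = N1346 := ded_41_2 (flp_e L11812) (flp_g L11693) L16730
theorem L16738 : sm gd N1331 = N1914 := rfl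
theorem L16740 : sm gb N1914 = N1332 := ded_20_1 (flp_d L11704) (flp_b L11698) L16738
theorem L16742 : sm gg N1914 = N1347 := ded_36_2 (flp_d L11819) (flp_g L11701) L16738
theorem L16744 : sm ge N1914 = N1914 := ded_34_2 (flp_d L16738) (flp_e L11696) L8178 L11696 L16738
theorem L16745 : sm gf N1331 = N1915 := rfl
theorem L16747 : sm gb N1915 = N1333 := ded_22_1 (flp_f L11711) (flp_b L11698) L16745
theorem L16749 : sm gc N1915 = N1915 := ded_29_1 (flp_f L16745) L11700 L16745
theorem L16750 : sm gh N1915 = N1915 := ded_47_2 (flp_f L16745) L11703 L16745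
theorem L16751 : sm gf N1332 = N1916 := rfl
theorem L16753 : sm gc N1916 = N1369 := ded_29_1 (flp_f L12001) (flp_c L11708) L16751
theorem L16755 : sm gd N1916 = N1333 := ded_35_1 (flp_f L11711) L11704 L16751
theorem L16757 : sm gh N1332 = N1917 := rfl
theorem L16759 : sm gc N1917 = N1370 := ded_32_1 (flp_h L12005) (flp_c L11708) L16757
theorem L16761 : sm ge N1917 = N1917 := ded_43_1 (flp_h L16757) L11710 L16757
theorem L16762 : sm gg N1917 = N1350 := ded_50_1 (flp_h L11840) (flp_g L11706) L16757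
theorem L16764 : sm gd N1917 = N1917 := ded_38_1 (flp_h L16757) (flp_d L11704) L8189 L11704 L16757
theorem L16765 : sm gg N1333 = N1918 := rfl
theorem L16767 : sm gc N1918 = N1334 := ded_30_1 (flp_g L11716) (flp_c L11713) L16765
theorem L16769 : sm gh N1918 = N1918 := ded_50_2 (flp_g L16765) L11715 L16765
theorem L16770 : sm gf N1918 = N1351 := ded_45_1 (flp_g L11847) (flp_f L8271) (flp_g L8187) L11711 L16765
theorem L16772 : sm gj N1334 = N1919 := rfl
theorem L16774 : sm gb N1919 = N1919 := ded_24_1 (flp_j L16772) L11718 L16772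
theorem L16775 : sm gd N1919 = N1372 := ded_37_1 (flp_j L12021) (flp_d L11719) L16772
theorem L16777 : sm gf N1919 = N1352 := ded_46_1 (flp_j L11853) (flp_f L11722) L16772
theorem L16779 : sm gh N1919 = N1919 := ded_52_2 (flp_j L16772) L11721 L16772
theorem L16780 : sm gc N1335 = N1920 := rfl
theorem L16784 : sm gj N1920 = N1920 := ded_31_2 (flp_c L16780) L11730 L16780
theorem L16785 : sm gh N1920 = N1920 := ded_32_2 (flp_c L16780) L11732 L16780
theorem L16787 : sm gd N1920 = N1920 := ded_27_2 (flp_c L16780) (flp_d L11724) L8201 L11724 L16780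
theorem L16788 : sm ge N1335 = N1921 := rfl
theorem L16791 : sm gb N1921 = N1337 := ded_21_1 (flp_e L11741) (flp_b L11727) L16788
theorem L16797 : sm gb N1336 = N1922 := rfl
theorem L16799 : sm gd N1922 = N1338 := ded_20_2 (flp_b L11747) (flp_d L11739) L16797
theorem L16802 : sm gj N1922 = N1922 := ded_24_2 (flp_b L16797) L11736 L16797
theorem L16805 : sm ge N1336 = N1923 := rfl
theorem L16809 : sm gj N1923 = N1923 := ded_42_2 (flp_e L16805) L11736 L16805
theorem L16812 : sm gf N1337 = N1924 := rfl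
theorem L16815 : sm gj N1924 = N1924 := ded_46_2 (flp_f L16812) L11743 L16812
theorem L16819 : sm ga N1338 = N1925 := rfl
theorem L16824 : sm gh N1925 = N1341 := ded_17_2 (flp_a L11772) (flp_h L11751) L16819
theorem L16827 : sm ge N1338 = N1926 := rfl
theorem L16829 : sm gb N1926 = N1339 := ded_21_1 (flp_e L11755) L11747 L16827
theorem L16832 : sm gj N1926 = N1926 := ded_42_2 (flp_e L16827) L11750 L16827
theorem L16833 : sm gh N1926 = N1342 := ded_43_2 (flp_e L11780) (flp_h L11751) L16827
theorem L16836 : sm gd N1339 = N1927 := rfl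
theorem L16838 : sm gj N1927 = N1927 := ded_37_2 (flp_d L16836) L11759 L16836
theorem L16841 : sm gf N1339 = N1928 := rfl
theorem L16843 : sm gc N1928 = N1340 := ded_29_1 (flp_f L11763) (flp_c L11757) L16841
theorem L16846 : sm gh N1928 = N1344 := ded_47_2 (flp_f L11796) (flp_h L11760) L16841
theorem L16850 : sm gg N1340 = N1929 := rfl
theorem L16852 : sm gb N1929 = N1929 := ded_23_1 (flp_g L16850) L11765 L16850
theorem L16853 : sm gd N1929 = N1929 := ded_36_1 (flp_g L16850) L11766 L16850
theorem L16854 : sm ge N1929 = N1929 := ded_41_1 (flp_g L16850) L11771 L16850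
theorem L16855 : sm gh N1929 = N1345 := ded_50_2 (flp_g L11804) (flp_h L11768) L16850
theorem L16857 : sm gi N1929 = N1929 := ded_51_2 (flp_g L16850) L11770 L16850
theorem L16858 : sm ge N1341 = N1930 := rfl
theorem L16860 : sm ga N1930 = N1342 := ded_13_1 (flp_e L11780) L11772 L16858
theorem L16862 : sm gc N1930 = N1930 := ded_28_1 (flp_e L16858) L11774 L16858
theorem L16864 : sm gi N1930 = N1346 := ded_44_2 (flp_e L11812) (flp_i L11778) L16858
theorem L16866 : sm gd N1342 = N1931 := rfl
theorem L16868 : sm gb N1931 = N1343 := ded_20_1 (flp_d L11788) (flp_b L11782) L16866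
theorem L16871 : sm gi N1931 = N1347 := ded_39_2 (flp_d L11819) (flp_i L11786) L16866
theorem L16874 : sm gf N1342 = N1932 := rfl
theorem L16876 : sm gb N1932 = N1344 := ded_22_1 (flp_f L11796) (flp_b L11782) L16874
theorem L16880 : sm gi N1932 = N1348 := ded_48_2 (flp_f L11825) (flp_i L11786) L16874
theorem L16883 : sm gf N1343 = N1933 := rfl
theorem L16885 : sm gc N1933 = N1376 := ded_29_1 (flp_f L12057) (flp_c L11793) L16883
theorem L16887 : sm gd N1933 = N1344 := ded_35_1 (flp_f L11796) L11788 L16883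
theorem L16889 : sm gj N1933 = N1933 := ded_46_2 (flp_f L16883) L11790 L16883
theorem L16890 : sm gi N1933 = N1349 := ded_48_2 (flp_f L11833) (flp_i L11791) L16883
theorem L16892 : sm gh N1343 = N1934 := rfl
theorem L16894 : sm gc N1934 = N1377 := ded_32_1 (flp_h L12064) (flp_c L11793) L16892
theorem L16898 : sm gg N1344 = N1935 := rfl
theorem L16900 : sm gc N1935 = N1345 := ded_30_1 (flp_g L11804) (flp_c L11798) L16898
theorem L16902 : sm ge N1935 = N1935 := ded_41_1 (flp_g L16898) L11803 L16898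
theorem L16903 : sm gi N1935 = N1351 := ded_51_2 (flp_g L11847) (flp_i L11801) L16898
theorem L16905 : sm gj N1345 = N1936 := rfl
theorem L16907 : sm gb N1936 = N1936 := ded_24_1 (flp_j L16905) L11806 L16905
theorem L16908 : sm gd N1936 = N1379 := ded_37_1 (flp_j L12078) (flp_d L11807) L16905
theorem L16910 : sm ge N1936 = N1936 := ded_42_1 (flp_j L16905) L11809 L16905
theorem L16911 : sm gi N1936 = N1352 := ded_53_2 (flp_j L11853) (flp_i L11810) L16905
theorem L16913 : sm gg N1936 = N1936 := ded_49_1 (flp_j L16905) (flp_g L11804) L8247 L11804 L16905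
theorem L16914 : sm gd N1346 = N1937 := rfl
theorem L16916 : sm ga N1937 = N1347 := ded_12_1 (flp_d L11819) (flp_a L11814) L16914
theorem L16920 : sm gf N1346 = N1938 := rfl
theorem L16922 : sm ga N1938 = N1348 := ded_14_1 (flp_f L11825) (flp_a L11814) L16920
theorem L16928 : sm gc N1347 = N1939 := rfl
theorem L16930 : sm ge N1939 = N1939 := ded_28_2 (flp_c L16928) L11824 L16928
theorem L16931 : sm gj N1939 = N1939 := ded_31_2 (flp_c L16928) L11823 L16928
theorem L16932 : sm gb N1939 = N1382 := ded_19_1 (flp_c L12103) L8448 (flp_c L8268) (flp_b L11821) L16928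
theorem L16934 : sm gd N1939 = N1939 := ded_27_2 (flp_c L16928) (flp_d L11819) L8262 L11819 L16928
theorem L16935 : sm gf N1347 = N1940 := rfl
theorem L16937 : sm gb N1940 = N1349 := ded_22_1 (flp_f L11833) (flp_b L11821) L16935
theorem L16939 : sm gd N1940 = N1348 := ded_35_1 (flp_f L11825) L11819 L16935
theorem L16941 : sm gj N1940 = N1940 := ded_46_2 (flp_f L16935) L11823 L16935
theorem L16942 : sm gh N1347 = N1941 := rfl
theorem L16944 : sm gb N1941 = N1350 := ded_25_1 (flp_h L11840) (flp_b L11821) L16942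
theorem L16946 : sm ge N1941 = N1941 := ded_43_1 (flp_h L16942) L11824 L16942
theorem L16947 : sm gj N1941 = N1941 := ded_52_1 (flp_h L16942) L11823 L16942
theorem L16948 : sm gd N1941 = N1941 := ded_38_1 (flp_h L16942) (flp_d L11819) L8264 L11819 L16942
theorem L16949 : sm gg N1348 = N1942 := rfl
theorem L16951 : sm gb N1942 = N1351 := ded_23_1 (flp_g L11847) (flp_b L11827) L16949
theorem L16953 : sm gc N1942 = N1942 := ded_30_1 (flp_g L16949) L11829 L16949
theorem L16954 : sm ge N1942 = N1942 := ded_41_1 (flp_g L16949) L11832 L16949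
theorem L16955 : sm gh N1942 = N1942 := ded_50_2 (flp_g L16949) L11831 L16949
theorem L16956 : sm ge N1349 = N1943 := rfl
theorem L16958 : sm gc N1943 = N1386 := ded_28_1 (flp_e L12132) (flp_c L11835) L16956
theorem L16960 : sm gj N1943 = N1943 := ded_42_2 (flp_e L16956) L11839 L16956
theorem L16961 : sm gd N1943 = N1943 := ded_34_1 (flp_e L16956) L11837 L8277 (flp_d L11837) L16956
theorem L16962 : sm gf N1943 = N1943 := ded_40_2 (flp_e L16956) (flp_f L11833) L8270 L11833 L16956
theorem L16963 : sm gg N1349 = N1944 := rfl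
theorem L16965 : sm gc N1944 = N1387 := ded_30_1 (flp_g L12138) (flp_c L11835) L16963
theorem L16967 : sm gd N1944 = N1351 := ded_36_1 (flp_g L11847) (flp_d L11837) L16963
theorem L16969 : sm gh N1349 = N1945 := rfl
theorem L16971 : sm gc N1945 = N1388 := ded_32_1 (flp_h L12142) (flp_c L11835) L16969
theorem L16973 : sm gf N1945 = N1350 := ded_47_1 (flp_h L11840) L11833 L16969
theorem L16975 : sm gj N1945 = N1945 := ded_52_1 (flp_h L16969) L11839 L16969
theorem L16976 : sm gd N1945 = N1945 := ded_38_1 (flp_h L16969) L11837 L8276 (flp_d L11837) L16969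
theorem L16977 : sm gi N1350 = N1946 := rfl
theorem L16979 : sm gc N1946 = N1389 := ded_33_1 (flp_i L12149) (flp_c L11842) L16977
theorem L16984 : sm gj N1351 = N1947 := rfl
theorem L16986 : sm gc N1947 = N1352 := ded_31_1 (flp_j L11853) (flp_c L11849) L16984
theorem L16988 : sm ge N1947 = N1947 := ded_42_1 (flp_j L16984) L11851 L16984
theorem L16989 : sm gh N1947 = N1947 := ded_52_2 (flp_j L16984) L11852 L16984
theorem L16990 : sm gg N1947 = N1947 := ded_49_1 (flp_j L16984) (flp_g L11847) L8275 L11847 L16984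
theorem L16991 : sm ga N1353 = N1948 := rfl
theorem L16993 : sm gc N1948 = N1948 := ded_11_2 (flp_a L16991) L11871 L16991
theorem L16994 : sm gd N1948 = N1948 := ded_12_2 (flp_a L16991) L11863 L16991
theorem L16995 : sm gf N1948 = N1948 := ded_14_2 (flp_a L16991) L11864 L16991
theorem L16996 : sm gg N1948 = N1948 := ded_15_2 (flp_a L16991) L11865 L16991
theorem L16997 : sm gj N1948 = N1361 := ded_16_2 (flp_a L11933) (flp_j L11866) L16991
theorem L16999 : sm gh N1948 = N1948 := ded_17_2 (flp_a L16991) L11868 L16991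
theorem L17000 : sm gi N1948 = N1356 := ded_18_2 (flp_a L11891) (flp_i L11869) L16991
theorem L17002 : sm ge N1353 = N1949 := rfl
theorem L17004 : sm gb N1949 = N1354 := ded_21_1 (flp_e L11872) L11861 L17002
theorem L17006 : sm gc N1949 = N1949 := ded_28_1 (flp_e L17002) L11871 L17002
theorem L17007 : sm gg N1949 = N1949 := ded_41_2 (flp_e L17002) L11865 L17002
theorem L17008 : sm gj N1949 = N1362 := ded_42_2 (flp_e L11943) (flp_j L11866) L17002
theorem L17010 : sm gh N1949 = N1949 := ded_43_2 (flp_e L17002) L11868 L17002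
theorem L17011 : sm gi N1949 = N1357 := ded_44_2 (flp_e L11901) (flp_i L11869) L17002
theorem L17013 : sm gd N1354 = N1950 := rfl
theorem L17015 : sm gg N1950 = N1950 := ded_36_2 (flp_d L17013) L11876 L17013
theorem L17016 : sm gj N1950 = N1363 := ded_37_2 (flp_d L11953) (flp_j L11877) L17013
theorem L17018 : sm gi N1950 = N1358 := ded_39_2 (flp_d L11911) (flp_i L11880) L17013
theorem L17020 : sm ge N1950 = N1950 := ded_34_2 (flp_d L17013) (flp_e L11872) L8294 L11872 L17013
theorem L17021 : sm gf N1354 = N1951 := rfl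
theorem L17023 : sm gc N1951 = N1355 := ded_29_1 (flp_f L11882) (flp_c L11874) L17021
theorem L17025 : sm gj N1951 = N1364 := ded_46_2 (flp_f L11960) (flp_j L11877) L17021
theorem L17027 : sm gh N1951 = N1951 := ded_47_2 (flp_f L17021) L11879 L17021
theorem L17028 : sm gi N1951 = N1359 := ded_48_2 (flp_f L11917) (flp_i L11880) L17021
theorem L17030 : sm ge N1951 = N1951 := ded_40_1 (flp_f L17021) (flp_e L11872) L8287 L11872 L17021
theorem L17031 : sm gg N1355 = N1952 := rfl
theorem L17033 : sm gb N1952 = N1952 := ded_23_1 (flp_g L17031) L11884 L17031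
theorem L17034 : sm ge N1952 = N1952 := ded_41_1 (flp_g L17031) L11890 L17031
theorem L17035 : sm gh N1952 = N1952 := ded_50_2 (flp_g L17031) L11887 L17031
theorem L17036 : sm gi N1952 = N1360 := ded_51_2 (flp_g L11926) (flp_i L11888) L17031
theorem L17038 : sm gf N1952 = N1952 := ded_45_1 (flp_g L17031) (flp_f L11882) L8298 L11882 L17031
theorem L17039 : sm ge N1356 = N1953 := rfl
theorem L17041 : sm ga N1953 = N1357 := ded_13_1 (flp_e L11901) L11891 L17039
theorem L17043 : sm gc N1953 = N1953 := ded_28_1 (flp_e L17039) L11893 L17039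
theorem L17044 : sm gg N1953 = N1953 := ded_41_2 (flp_e L17039) L11896 L17039
theorem L17045 : sm gj N1953 = N1366 := ded_42_2 (flp_e L11977) (flp_j L11897) L17039
theorem L17047 : sm gh N1953 = N1410 := ded_43_2 (flp_e L12321) (flp_h L11899) L17039
theorem L17049 : sm gd N1357 = N1954 := rfl
theorem L17051 : sm gb N1954 = N1358 := ded_20_1 (flp_d L11911) (flp_b L11903) L17049
theorem L17053 : sm gg N1954 = N1954 := ded_36_2 (flp_d L17049) L11906 L17049
theorem L17054 : sm gj N1954 = N1367 := ded_37_2 (flp_d L11986) (flp_j L11907) L17049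
theorem L17056 : sm ge N1954 = N1954 := ded_34_2 (flp_d L17049) (flp_e L11901) L8306 L11901 L17049
theorem L17057 : sm gf N1357 = N1955 := rfl
theorem L17059 : sm gb N1955 = N1359 := ded_22_1 (flp_f L11917) (flp_b L11903) L17057
theorem L17061 : sm gc N1955 = N1955 := ded_29_1 (flp_f L17057) L11905 L17057
theorem L17062 : sm gj N1955 = N1368 := ded_46_2 (flp_f L11993) (flp_j L11907) L17057
theorem L17064 : sm gh N1955 = N1412 := ded_47_2 (flp_f L12340) (flp_h L11909) L17057
theorem L17066 : sm ge N1955 = N1955 := ded_40_1 (flp_f L17057) (flp_e L11901) L8307 L11901 L17057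
theorem L17067 : sm gf N1358 = N1956 := rfl
theorem L17069 : sm gd N1956 = N1359 := ded_35_1 (flp_f L11917) L11911 L17067
theorem L17071 : sm gj N1956 = N1369 := ded_46_2 (flp_f L12001) (flp_j L11914) L17067
theorem L17073 : sm gh N1358 = N1957 := rfl
theorem L17075 : sm ge N1957 = N1957 := ded_43_1 (flp_h L17073) L11916 L17073
theorem L17076 : sm gg N1957 = N1957 := ded_50_1 (flp_h L17073) L11913 L17073
theorem L17077 : sm gj N1957 = N1370 := ded_52_1 (flp_h L12005) (flp_j L11914) L17073
theorem L17079 : sm gd N1957 = N1414 := ded_38_1 (flp_h L12357) (flp_d L8630) (flp_h L8321) L11911 L17073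
theorem L17081 : sm gg N1359 = N1958 := rfl
theorem L17083 : sm gc N1958 = N1360 := ded_30_1 (flp_g L11926) (flp_c L11919) L17081
theorem L17085 : sm ge N1958 = N1958 := ded_41_1 (flp_g L17081) L11925 L17081
theorem L17086 : sm gh N1958 = N1415 := ded_50_2 (flp_g L12365) (flp_h L11923) L17081
theorem L17088 : sm gf N1958 = N1958 := ded_45_1 (flp_g L17081) (flp_f L11917) L8318 L11917 L17081
theorem L17089 : sm gj N1360 = N1959 := rfl
theorem L17091 : sm gb N1959 = N1959 := ded_24_1 (flp_j L17089) L11928 L17089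
theorem L17092 : sm ge N1959 = N1959 := ded_42_1 (flp_j L17089) L11929 L17089
theorem L17093 : sm gf N1959 = N1959 := ded_46_1 (flp_j L17089) L11932 L17089
theorem L17094 : sm gh N1959 = N1416 := ded_52_2 (flp_j L12372) (flp_h L11930) L17089
theorem L17096 : sm gg N1959 = N1372 := ded_49_1 (flp_j L12021) (flp_g L8387) (flp_j L8326) L11926 L17089
theorem L17098 : sm ge N1361 = N1960 := rfl
theorem L17100 : sm ga N1960 = N1362 := ded_13_1 (flp_e L11943) L11933 L17098
theorem L17102 : sm gc N1960 = N1960 := ded_28_1 (flp_e L17098) L11935 L17098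
theorem L17103 : sm gg N1960 = N1373 := ded_41_2 (flp_e L12029) (flp_g L11938) L17098
theorem L17105 : sm gh N1960 = N1960 := ded_43_2 (flp_e L17098) L11940 L17098
theorem L17106 : sm gi N1960 = N1366 := ded_44_2 (flp_e L11977) (flp_i L11941) L17098
theorem L17108 : sm gd N1362 = N1961 := rfl
theorem L17110 : sm gb N1961 = N1363 := ded_20_1 (flp_d L11953) (flp_b L11945) L17108
theorem L17112 : sm gg N1961 = N1374 := ded_36_2 (flp_d L12038) (flp_g L11948) L17108
theorem L17114 : sm gi N1961 = N1367 := ded_39_2 (flp_d L11986) (flp_i L11951) L17108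
theorem L17116 : sm ge N1961 = N1961 := ded_34_2 (flp_d L17108) (flp_e L11943) L8333 L11943 L17108
theorem L17117 : sm gf N1362 = N1962 := rfl
theorem L17119 : sm gb N1962 = N1364 := ded_22_1 (flp_f L11960) (flp_b L11945) L17117
theorem L17121 : sm gc N1962 = N1962 := ded_29_1 (flp_f L17117) L11947 L17117
theorem L17122 : sm gh N1962 = N1962 := ded_47_2 (flp_f L17117) L11950 L17117
theorem L17123 : sm gi N1962 = N1368 := ded_48_2 (flp_f L11993) (flp_i L11951) L17117
theorem L17125 : sm ge N1962 = N1962 := ded_40_1 (flp_f L17117) (flp_e L11943) L8334 L11943 L17117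
theorem L17126 : sm gf N1363 = N1963 := rfl
theorem L17128 : sm gd N1963 = N1364 := ded_35_1 (flp_f L11960) L11953 L17126
theorem L17130 : sm gi N1963 = N1369 := ded_48_2 (flp_f L12001) (flp_i L11957) L17126
theorem L17132 : sm gh N1363 = N1964 := rfl
theorem L17134 : sm ge N1964 = N1964 := ded_43_1 (flp_h L17132) L11959 L17132
theorem L17135 : sm gg N1964 = N1377 := ded_50_1 (flp_h L12064) (flp_g L11955) L17132
theorem L17137 : sm gd N1964 = N1964 := ded_38_1 (flp_h L17132) (flp_d L11953) L8347 L11953 L17132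
theorem L17138 : sm gg N1364 = N1965 := rfl
theorem L17140 : sm gc N1965 = N1365 := ded_30_1 (flp_g L11968) (flp_c L11962) L17138
theorem L17142 : sm ge N1965 = N1965 := ded_41_1 (flp_g L17138) L11967 L17138
theorem L17143 : sm gh N1965 = N1965 := ded_50_2 (flp_g L17138) L11964 L17138
theorem L17144 : sm gi N1965 = N1371 := ded_51_2 (flp_g L12012) (flp_i L11965) L17138
theorem L17146 : sm gf N1965 = N1378 := ded_45_1 (flp_g L12069) (flp_f L8420) (flp_g L8345) L11960 L17138
theorem L17148 : sm gj N1365 = N1966 := rfl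
theorem L17150 : sm gb N1966 = N1966 := ded_24_1 (flp_j L17148) L11970 L17148
theorem L17151 : sm ge N1966 = N1966 := ded_42_1 (flp_j L17148) L11971 L17148
theorem L17152 : sm gf N1966 = N1379 := ded_46_1 (flp_j L12078) (flp_f L11975) L17148
theorem L17154 : sm gh N1966 = N1966 := ded_52_2 (flp_j L17148) L11972 L17148
theorem L17155 : sm gi N1966 = N1372 := ded_53_2 (flp_j L12021) (flp_i L11973) L17148
theorem L17157 : sm gd N1366 = N1967 := rfl
theorem L17159 : sm ga N1967 = N1367 := ded_12_1 (flp_d L11986) (flp_a L11979) L17157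
theorem L17161 : sm gg N1967 = N1380 := ded_36_2 (flp_d L12087) (flp_g L11982) L17157
theorem L17163 : sm ge N1967 = N1967 := ded_34_2 (flp_d L17157) (flp_e L11977) L8360 L11977 L17157
theorem L17164 : sm gf N1366 = N1968 := rfl
theorem L17166 : sm ga N1968 = N1368 := ded_14_1 (flp_f L11993) (flp_a L11979) L17164
theorem L17168 : sm gc N1968 = N1968 := ded_29_1 (flp_f L17164) L11981 L17164
theorem L17169 : sm gh N1968 = N1418 := ded_47_2 (flp_f L12390) (flp_h L11984) L17164
theorem L17171 : sm ge N1968 = N1968 := ded_40_1 (flp_f L17164) (flp_e L11977) L8361 L11977 L17164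
theorem L17172 : sm gc N1367 = N1969 := rfl
theorem L17175 : sm gg N1969 = N1382 := ded_30_2 (flp_c L12103) (flp_g L11990) L17172
theorem L17178 : sm gf N1367 = N1970 := rfl
theorem L17180 : sm gb N1970 = N1369 := ded_22_1 (flp_f L12001) (flp_b L11988) L17178
theorem L17182 : sm gd N1970 = N1368 := ded_35_1 (flp_f L11993) L11986 L17178
theorem L17184 : sm gh N1367 = N1971 := rfl
theorem L17186 : sm gb N1971 = N1370 := ded_25_1 (flp_h L12005) (flp_b L11988) L17184
theorem L17193 : sm gg N1368 = N1972 := rfl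
theorem L17195 : sm gb N1972 = N1371 := ded_23_1 (flp_g L12012) (flp_b L11995) L17193
theorem L17197 : sm gc N1972 = N1972 := ded_30_1 (flp_g L17193) L11997 L17193
theorem L17198 : sm ge N1972 = N1972 := ded_41_1 (flp_g L17193) L12000 L17193
theorem L17199 : sm gh N1972 = N1422 := ded_50_2 (flp_g L12421) (flp_h L11998) L17193
theorem L17201 : sm gf N1972 = N1385 := ded_45_1 (flp_g L12123) (flp_f L8452) (flp_g L8371) L11993 L17193
theorem L17203 : sm ge N1369 = N1973 := rfl
theorem L17205 : sm gd N1973 = N1973 := ded_34_1 (flp_e L17203) L12003 L8386 (flp_d L12003) L17203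
theorem L17206 : sm gf N1973 = N1973 := ded_40_2 (flp_e L17203) (flp_f L12001) L8379 L12001 L17203
theorem L17207 : sm gg N1369 = N1974 := rfl
theorem L17209 : sm gd N1974 = N1371 := ded_36_1 (flp_g L12012) (flp_d L12003) L17207
theorem L17211 : sm gf N1974 = N1387 := ded_45_1 (flp_g L12138) (flp_f L8462) (flp_g L8377) L12001 L17207
theorem L17213 : sm gh N1369 = N1975 := rfl
theorem L17215 : sm gf N1975 = N1370 := ded_47_1 (flp_h L12005) L12001 L17213
theorem L17217 : sm gd N1975 = N1425 := ded_38_1 (flp_h L12445) L8681 (flp_h L8384) (flp_d L12003) L17213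
theorem L17219 : sm gi N1370 = N1976 := rfl
theorem L17224 : sm gg N1976 = N1389 := ded_51_1 (flp_i L12149) (flp_g L12008) L17219
theorem L17226 : sm gj N1371 = N1977 := rfl
theorem L17228 : sm gc N1977 = N1372 := ded_31_1 (flp_j L12021) (flp_c L12014) L17226
theorem L17230 : sm ge N1977 = N1977 := ded_42_1 (flp_j L17226) L12016 L17226
theorem L17231 : sm gf N1977 = N1390 := ded_46_1 (flp_j L12155) (flp_f L12019) L17226
theorem L17233 : sm gh N1977 = N1427 := ded_52_2 (flp_j L12458) (flp_h L12017) L17226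
theorem L17235 : sm gd N1373 = N1978 := rfl
theorem L17237 : sm ga N1978 = N1374 := ded_12_1 (flp_d L12038) (flp_a L12031) L17235
theorem L17239 : sm gj N1978 = N1978 := ded_37_2 (flp_d L17235) L12034 L17235
theorem L17240 : sm gi N1978 = N1380 := ded_39_2 (flp_d L12087) (flp_i L12036) L17235
theorem L17242 : sm ge N1978 = N1978 := ded_34_2 (flp_d L17235) (flp_e L12029) L8398 L12029 L17235
theorem L17243 : sm gf N1373 = N1979 := rfl
theorem L17245 : sm ga N1979 = N1375 := ded_14_1 (flp_f L12046) (flp_a L12031) L17243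
theorem L17247 : sm gc N1979 = N1979 := ded_29_1 (flp_f L17243) L12033 L17243
theorem L17248 : sm gj N1979 = N1979 := ded_46_2 (flp_f L17243) L12034 L17243
theorem L17249 : sm gh N1979 = N1979 := ded_47_2 (flp_f L17243) L12035 L17243
theorem L17250 : sm gi N1979 = N1381 := ded_48_2 (flp_f L12093) (flp_i L12036) L17243
theorem L17252 : sm ge N1979 = N1392 := ded_40_1 (flp_f L12173) (flp_e L8489) (flp_f L8399) L12029 L17243
theorem L17254 : sm gc N1374 = N1980 := rfl
theorem L17258 : sm gi N1980 = N1382 := ded_33_2 (flp_c L12103) (flp_i L12043) L17254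
theorem L17261 : sm gf N1374 = N1981 := rfl
theorem L17263 : sm gb N1981 = N1376 := ded_22_1 (flp_f L12057) (flp_b L12040) L17261
theorem L17265 : sm gd N1981 = N1375 := ded_35_1 (flp_f L12046) L12038 L17261
theorem L17267 : sm gj N1981 = N1981 := ded_46_2 (flp_f L17261) L12042 L17261
theorem L17268 : sm gi N1981 = N1383 := ded_48_2 (flp_f L12108) (flp_i L12043) L17261
theorem L17270 : sm gh N1374 = N1982 := rfl
theorem L17272 : sm gb N1982 = N1377 := ded_25_1 (flp_h L12064) (flp_b L12040) L17270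
theorem L17277 : sm gg N1375 = N1983 := rfl
theorem L17279 : sm gb N1983 = N1378 := ded_23_1 (flp_g L12069) (flp_b L12048) L17277
theorem L17281 : sm gc N1983 = N1983 := ded_30_1 (flp_g L17277) L12050 L17277
theorem L17282 : sm ge N1983 = N1396 := ded_41_1 (flp_g L12209) (flp_e L12055) L17277
theorem L17284 : sm gh N1983 = N1983 := ded_50_2 (flp_g L17277) L12052 L17277
theorem L17285 : sm gi N1983 = N1385 := ded_51_2 (flp_g L12123) (flp_i L12053) L17277
theorem L17287 : sm ge N1376 = N1984 := rfl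
theorem L17289 : sm gj N1984 = N1984 := ded_42_2 (flp_e L17287) L12061 L17287
theorem L17290 : sm gi N1984 = N1386 := ded_44_2 (flp_e L12132) (flp_i L12062) L17287
theorem L17292 : sm gd N1984 = N1397 := ded_34_1 (flp_e L12218) L8520 (flp_e L8428) (flp_d L12059) L17287
theorem L17294 : sm gf N1984 = N1984 := ded_40_2 (flp_e L17287) (flp_f L12057) L8419 L12057 L17287
theorem L17295 : sm gg N1376 = N1985 := rfl
theorem L17297 : sm gd N1985 = N1378 := ded_36_1 (flp_g L12069) (flp_d L12059) L17295
theorem L17299 : sm gi N1985 = N1387 := ded_51_2 (flp_g L12138) (flp_i L12062) L17295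
theorem L17301 : sm gh N1376 = N1986 := rfl
theorem L17303 : sm gf N1986 = N1377 := ded_47_1 (flp_h L12064) L12057 L17301
theorem L17305 : sm gj N1986 = N1986 := ded_52_1 (flp_h L17301) L12061 L17301
theorem L17306 : sm gd N1986 = N1986 := ded_38_1 (flp_h L17301) L12059 L8425 (flp_d L12059) L17301
theorem L17307 : sm gi N1377 = N1987 := rfl
theorem L17314 : sm gj N1378 = N1988 := rfl
theorem L17316 : sm gc N1988 = N1379 := ded_31_1 (flp_j L12078) (flp_c L12071) L17314
theorem L17318 : sm ge N1988 = N1400 := ded_42_1 (flp_j L12241) (flp_e L12073) L17314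
theorem L17320 : sm gh N1988 = N1988 := ded_52_2 (flp_j L17314) L12075 L17314
theorem L17321 : sm gi N1988 = N1390 := ded_53_2 (flp_j L12155) (flp_i L12076) L17314
theorem L17323 : sm gg N1988 = N1988 := ded_49_1 (flp_j L17314) (flp_g L12069) L8424 L12069 L17314
theorem L17324 : sm gc N1380 = N1989 := rfl
theorem L17326 : sm ga N1989 = N1382 := ded_11_1 (flp_c L12103) (flp_a L12089) L17324
theorem L17331 : sm gf N1380 = N1990 := rfl
theorem L17333 : sm ga N1990 = N1383 := ded_14_1 (flp_f L12108) (flp_a L12089) L17331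
theorem L17335 : sm gd N1990 = N1381 := ded_35_1 (flp_f L12093) L12087 L17331
theorem L17337 : sm gj N1990 = N1990 := ded_46_2 (flp_f L17331) L12091 L17331
theorem L17338 : sm gh N1380 = N1991 := rfl
theorem L17344 : sm gd N1991 = N1430 := ded_38_1 (flp_h L12484) (flp_d L8707) (flp_h L8444) L12087 L17338
theorem L17346 : sm gg N1381 = N1992 := rfl
theorem L17348 : sm ga N1992 = N1385 := ded_15_1 (flp_g L12123) (flp_a L12095) L17346
theorem L17350 : sm gc N1992 = N1992 := ded_30_1 (flp_g L17346) L12097 L17346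
theorem L17351 : sm ge N1992 = N1403 := ded_41_1 (flp_g L12267) (flp_e L12101) L17346
theorem L17353 : sm gh N1992 = N1431 := ded_50_2 (flp_g L12491) (flp_h L12099) L17346
theorem L17355 : sm gf N1382 = N1993 := rfl
theorem L17357 : sm gc N1993 = N1383 := ded_29_1 (flp_f L12108) L12103 L17355
theorem L17361 : sm gh N1382 = N1994 := rfl
theorem L17367 : sm ge N1383 = N1995 := rfl
theorem L17369 : sm gb N1995 = N1386 := ded_21_1 (flp_e L12132) (flp_b L12110) L17367
theorem L17371 : sm gj N1995 = N1995 := ded_42_2 (flp_e L17367) L12114 L17367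
theorem L17372 : sm gd N1995 = N1405 := ded_34_1 (flp_e L12283) L8578 (flp_e L8460) (flp_d L12112) L17367
theorem L17374 : sm gf N1995 = N1995 := ded_40_2 (flp_e L17367) (flp_f L12108) L8451 L12108 L17367
theorem L17375 : sm gg N1383 = N1996 := rfl
theorem L17377 : sm gb N1996 = N1387 := ded_23_1 (flp_g L12138) (flp_b L12110) L17375
theorem L17379 : sm gd N1996 = N1385 := ded_36_1 (flp_g L12123) (flp_d L12112) L17375
theorem L17398 : sm gj N1385 = N1999 := rfl
theorem L17400 : sm gb N1999 = N1390 := ded_24_1 (flp_j L12155) (flp_b L12125) L17398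
theorem L17402 : sm gc N1999 = N1999 := ded_31_1 (flp_j L17398) L12127 L17398
theorem L17403 : sm ge N1999 = N1407 := ded_42_1 (flp_j L12298) (flp_e L12128) L17398
theorem L17405 : sm gh N1999 = N1437 := ded_52_2 (flp_j L12540) (flp_h L12130) L17398
theorem L17407 : sm gg N1999 = N1999 := ded_49_1 (flp_j L17398) (flp_g L12123) L8457 L12123 L17398
theorem L17408 : sm gg N1386 = N2000 := rfl
theorem L17410 : sm gd N2000 = N1408 := ded_36_1 (flp_g L12307) (flp_d L12135) L17408
theorem L17412 : sm ge N2000 = N1387 := ded_41_1 (flp_g L12138) L12132 L17408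
theorem L17414 : sm gh N1386 = N2001 := rfl
theorem L17416 : sm ge N2001 = N1388 := ded_43_1 (flp_h L12142) L12132 L17414
theorem L17418 : sm gf N2001 = N2001 := ded_47_1 (flp_h L17414) L12137 L17414
theorem L17419 : sm gj N2001 = N2001 := ded_52_1 (flp_h L17414) L12134 L17414
theorem L17420 : sm gd N2001 = N2001 := ded_38_1 (flp_h L17414) L12135 L8594 (flp_d L12135) L17414
theorem L17421 : sm gj N1387 = N2002 := rfl
theorem L17423 : sm gd N2002 = N1390 := ded_37_1 (flp_j L12155) (flp_d L12140) L17421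
theorem L17425 : sm gg N2002 = N2002 := ded_49_1 (flp_j L17421) (flp_g L12138) L8466 L12138 L17421
theorem L17426 : sm gh N1387 = N2003 := rfl
theorem L17428 : sm gg N2003 = N1388 := ded_50_1 (flp_h L12142) L12138 L17426
theorem L17430 : sm gd N2003 = N1439 := ded_38_1 (flp_h L12557) L8759 (flp_h L8479) (flp_d L12140) L17426
theorem L17432 : sm gi N1388 = N2004 := rfl
theorem L17434 : sm gd N2004 = N1440 := ded_39_1 (flp_i L12563) (flp_d L12147) L17432
theorem L17436 : sm gf N2004 = N1389 := ded_48_1 (flp_i L12149) (flp_f L12144) L17432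
theorem L17439 : sm gc N1391 = N2005 := rfl
theorem L17441 : sm ga N2005 = N1393 := ded_11_1 (flp_c L12182) (flp_a L12166) L17439
theorem L17443 : sm ge N2005 = N2005 := ded_28_2 (flp_c L17439) L12172 L17439
theorem L17444 : sm gg N2005 = N2005 := ded_30_2 (flp_c L17439) L12168 L17439
theorem L17445 : sm gj N2005 = N2005 := ded_31_2 (flp_c L17439) L12169 L17439
theorem L17446 : sm gi N2005 = N1401 := ded_33_2 (flp_c L12250) (flp_i L12170) L17439
theorem L17448 : sm gd N2005 = N2005 := ded_27_2 (flp_c L17439) (flp_d L12164) L8493 L12164 L17439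
theorem L17449 : sm gf N1391 = N2006 := rfl
theorem L17451 : sm ga N2006 = N1394 := ded_14_1 (flp_f L12191) (flp_a L12166) L17449
theorem L17453 : sm gd N2006 = N1392 := ded_35_1 (flp_f L12173) L12164 L17449
theorem L17455 : sm gj N2006 = N2006 := ded_46_2 (flp_f L17449) L12169 L17449
theorem L17456 : sm gi N2006 = N1402 := ded_48_2 (flp_f L12259) (flp_i L12170) L17449
theorem L17458 : sm gh N1391 = N2007 := rfl
theorem L17460 : sm ga N2007 = N1395 := ded_17_1 (flp_h L12200) (flp_a L12166) L17458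
theorem L17462 : sm ge N2007 = N2007 := ded_43_1 (flp_h L17458) L12172 L17458
theorem L17463 : sm gg N2007 = N2007 := ded_50_1 (flp_h L17458) L12168 L17458
theorem L17464 : sm gj N2007 = N2007 := ded_52_1 (flp_h L17458) L12169 L17458
theorem L17465 : sm gd N2007 = N2007 := ded_38_1 (flp_h L17458) (flp_d L12164) L8496 L12164 L17458
theorem L17466 : sm gi N2007 = N2007 := ded_54_2 (flp_h L17458) L12170 L8557 (flp_i L12170) L17458
theorem L17467 : sm gg N1392 = N2008 := rfl
theorem L17469 : sm ga N2008 = N1396 := ded_15_1 (flp_g L12209) (flp_a L12175) L17467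
theorem L17471 : sm gc N2008 = N2008 := ded_30_1 (flp_g L17467) L12177 L17467
theorem L17472 : sm gh N2008 = N2008 := ded_50_2 (flp_g L17467) L12179 L17467
theorem L17473 : sm gi N2008 = N1403 := ded_51_2 (flp_g L12267) (flp_i L12180) L17467
theorem L17475 : sm gf N2008 = N2008 := ded_45_1 (flp_g L17467) (flp_f L12173) L8494 L12173 L17467
theorem L17476 : sm gf N1393 = N2009 := rfl
theorem L17478 : sm gb N2009 = N2009 := ded_22_1 (flp_f L17476) L12189 L17476
theorem L17479 : sm gc N2009 = N1394 := ded_29_1 (flp_f L12191) L12182 L17476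
theorem L17481 : sm gd N2009 = N2009 := ded_35_1 (flp_f L17476) L12190 L17476
theorem L17482 : sm gj N2009 = N2009 := ded_46_2 (flp_f L17476) L12186 L17476
theorem L17483 : sm gi N2009 = N1404 := ded_48_2 (flp_f L12275) (flp_i L12187) L17476
theorem L17485 : sm gh N1393 = N2010 := rfl
theorem L17487 : sm gb N2010 = N2010 := ded_25_1 (flp_h L17485) L12189 L17485
theorem L17488 : sm gc N2010 = N1395 := ded_32_1 (flp_h L12200) L12182 L17485
theorem L17490 : sm ge N2010 = N2010 := ded_43_1 (flp_h L17485) L12184 L17485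
theorem L17491 : sm gg N2010 = N2010 := ded_50_1 (flp_h L17485) L12185 L17485
theorem L17492 : sm gj N2010 = N2010 := ded_52_1 (flp_h L17485) L12186 L17485
theorem L17493 : sm gi N2010 = N2010 := ded_54_2 (flp_h L17485) L12187 L8571 (flp_i L12187) L17485
theorem L17494 : sm ge N1394 = N2011 := rfl
theorem L17496 : sm gb N2011 = N1397 := ded_21_1 (flp_e L12218) (flp_b L12193) L17494
theorem L17498 : sm gj N2011 = N2011 := ded_42_2 (flp_e L17494) L12197 L17494
theorem L17499 : sm gi N2011 = N1405 := ded_44_2 (flp_e L12283) (flp_i L12198) L17494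
theorem L17501 : sm gf N2011 = N2011 := ded_40_2 (flp_e L17494) (flp_f L12191) L8507 L12191 L17494
theorem L17502 : sm gg N1394 = N2012 := rfl
theorem L17504 : sm gb N2012 = N1398 := ded_23_1 (flp_g L12225) (flp_b L12193) L17502
theorem L17506 : sm gd N2012 = N1396 := ded_36_1 (flp_g L12209) (flp_d L12195) L17502
theorem L17508 : sm gi N2012 = N1406 := ded_51_2 (flp_g L12290) (flp_i L12198) L17502
theorem L17510 : sm gf N2012 = N2012 := ded_45_1 (flp_g L17502) (flp_f L12191) L8503 L12191 L17502
theorem L17511 : sm gh N1394 = N2013 := rfl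
theorem L17513 : sm gb N2013 = N1399 := ded_25_1 (flp_h L12233) (flp_b L12193) L17511
theorem L17515 : sm gf N2013 = N1395 := ded_47_1 (flp_h L12200) L12191 L17511
theorem L17517 : sm gj N2013 = N2013 := ded_52_1 (flp_h L17511) L12197 L17511
theorem L17518 : sm gd N2013 = N2013 := ded_38_1 (flp_h L17511) L12195 L8514 (flp_d L12195) L17511
theorem L17519 : sm gi N2013 = N2013 := ded_54_2 (flp_h L17511) L12198 L8581 (flp_i L12198) L17511
theorem L17520 : sm gj N1396 = N2014 := rfl
theorem L17522 : sm gb N2014 = N1400 := ded_24_1 (flp_j L12241) (flp_b L12211) L17520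
theorem L17524 : sm gc N2014 = N2014 := ded_31_1 (flp_j L17520) L12213 L17520
theorem L17525 : sm gf N2014 = N2014 := ded_46_1 (flp_j L17520) L12217 L17520
theorem L17526 : sm gh N2014 = N2014 := ded_52_2 (flp_j L17520) L12214 L17520
theorem L17527 : sm gi N2014 = N1407 := ded_53_2 (flp_j L12298) (flp_i L12215) L17520
theorem L17529 : sm gg N2014 = N2014 := ded_49_1 (flp_j L17520) (flp_g L12209) L8513 L12209 L17520
theorem L17530 : sm gg N1397 = N2015 := rfl
theorem L17532 : sm gc N2015 = N2015 := ded_30_1 (flp_g L17530) L12220 L17530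
theorem L17533 : sm ge N2015 = N1398 := ded_41_1 (flp_g L12225) L12218 L17530
theorem L17535 : sm gi N2015 = N1408 := ded_51_2 (flp_g L12307) (flp_i L12222) L17530
theorem L17537 : sm gh N1397 = N2016 := rfl
theorem L17539 : sm gc N2016 = N2016 := ded_32_1 (flp_h L17537) L12220 L17537
theorem L17540 : sm ge N2016 = N1399 := ded_43_1 (flp_h L12233) L12218 L17537
theorem L17542 : sm gf N2016 = N2016 := ded_47_1 (flp_h L17537) L12224 L17537
theorem L17543 : sm gj N2016 = N2016 := ded_52_1 (flp_h L17537) L12221 L17537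
theorem L17544 : sm gi N2016 = N2016 := ded_54_2 (flp_h L17537) L12222 L8594 (flp_i L12222) L17537
theorem L17545 : sm gj N1398 = N2017 := rfl
theorem L17547 : sm gc N2017 = N2017 := ded_31_1 (flp_j L17545) L12227 L17545
theorem L17548 : sm gd N2017 = N1400 := ded_37_1 (flp_j L12241) (flp_d L12228) L17545
theorem L17550 : sm gf N2017 = N2017 := ded_46_1 (flp_j L17545) L12232 L17545
theorem L17551 : sm gi N2017 = N1409 := ded_53_2 (flp_j L12313) (flp_i L12230) L17545
theorem L17553 : sm gg N2017 = N2017 := ded_49_1 (flp_j L17545) (flp_g L12225) L8522 L12225 L17545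
theorem L17554 : sm gh N1398 = N2018 := rfl
theorem L17556 : sm gc N2018 = N2018 := ded_32_1 (flp_h L17554) L12227 L17554
theorem L17557 : sm gf N2018 = N2018 := ded_47_1 (flp_h L17554) L12232 L17554
theorem L17558 : sm gg N2018 = N1399 := ded_50_1 (flp_h L12233) L12225 L17554
theorem L17560 : sm gd N2018 = N2018 := ded_38_1 (flp_h L17554) L12228 L8537 (flp_d L12228) L17554
theorem L17561 : sm gi N2018 = N2018 := ded_54_2 (flp_h L17554) L12230 L8601 (flp_i L12230) L17554
theorem L17562 : sm gb N1401 = N2019 := rfl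
theorem L17564 : sm gd N2019 = N2019 := ded_20_2 (flp_b L17562) L12258 L17562
theorem L17565 : sm ge N2019 = N2019 := ded_21_2 (flp_b L17562) L12254 L17562
theorem L17566 : sm gg N2019 = N2019 := ded_23_2 (flp_b L17562) L12255 L17562
theorem L17567 : sm gj N2019 = N2019 := ded_24_2 (flp_b L17562) L12256 L17562
theorem L17568 : sm gh N2019 = N2019 := ded_25_2 (flp_b L17562) L12257 L17562
theorem L17569 : sm ga N2019 = N2019 := ded_10_1 (flp_b L17562) L12252 L8572 (flp_a L12252) L17562
theorem L17570 : sm gf N1401 = N2020 := rfl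
theorem L17572 : sm ga N2020 = N1404 := ded_14_1 (flp_f L12275) (flp_a L12252) L17570
theorem L17574 : sm gc N2020 = N1402 := ded_29_1 (flp_f L12259) L12250 L17570
theorem L17576 : sm gd N2020 = N2020 := ded_35_1 (flp_f L17570) L12258 L17570
theorem L17577 : sm gj N2020 = N2020 := ded_46_2 (flp_f L17570) L12256 L17570
theorem L17578 : sm gh N2020 = N2020 := ded_47_2 (flp_f L17570) L12257 L17570
theorem L17579 : sm ge N1402 = N2021 := rfl
theorem L17581 : sm ga N2021 = N1405 := ded_13_1 (flp_e L12283) (flp_a L12261) L17579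
theorem L17583 : sm gj N2021 = N2021 := ded_42_2 (flp_e L17579) L12265 L17579
theorem L17584 : sm gh N2021 = N2021 := ded_43_2 (flp_e L17579) L12266 L17579
theorem L17585 : sm gf N2021 = N2021 := ded_40_2 (flp_e L17579) (flp_f L12259) L8556 L12259 L17579
theorem L17586 : sm gg N1402 = N2022 := rfl
theorem L17588 : sm ga N2022 = N1406 := ded_15_1 (flp_g L12290) (flp_a L12261) L17586
theorem L17590 : sm gd N2022 = N1403 := ded_36_1 (flp_g L12267) (flp_d L12263) L17586
theorem L17592 : sm gh N2022 = N2022 := ded_50_2 (flp_g L17586) L12266 L17586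
theorem L17593 : sm gf N2022 = N2022 := ded_45_1 (flp_g L17586) (flp_f L12259) L8554 L12259 L17586
theorem L17594 : sm gj N1403 = N2023 := rfl
theorem L17596 : sm ga N2023 = N1407 := ded_16_1 (flp_j L12298) (flp_a L12269) L17594
theorem L17598 : sm gc N2023 = N2023 := ded_31_1 (flp_j L17594) L12271 L17594
theorem L17599 : sm gf N2023 = N2023 := ded_46_1 (flp_j L17594) L12274 L17594
theorem L17600 : sm gh N2023 = N1441 := ded_52_2 (flp_j L12571) (flp_h L12272) L17594
theorem L17602 : sm gg N2023 = N2023 := ded_49_1 (flp_j L17594) (flp_g L12267) L8563 L12267 L17594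
theorem L17603 : sm ge N1404 = N2024 := rfl
theorem L17605 : sm gb N2024 = N2024 := ded_21_1 (flp_e L17603) L12277 L17603
theorem L17606 : sm gc N2024 = N1405 := ded_28_1 (flp_e L12283) (flp_c L12278) L17603
theorem L17608 : sm gj N2024 = N2024 := ded_42_2 (flp_e L17603) L12281 L17603
theorem L17609 : sm gh N2024 = N2024 := ded_43_2 (flp_e L17603) L12282 L17603
theorem L17610 : sm gf N2024 = N2024 := ded_40_2 (flp_e L17603) (flp_f L12275) L8568 L12275 L17603
theorem L17611 : sm gg N1404 = N2025 := rfl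
theorem L17613 : sm gb N2025 = N2025 := ded_23_1 (flp_g L17611) L12277 L17611
theorem L17614 : sm gc N2025 = N1406 := ded_30_1 (flp_g L12290) (flp_c L12278) L17611
theorem L17616 : sm gd N2025 = N2025 := ded_36_1 (flp_g L17611) L12280 L17611
theorem L17617 : sm gh N2025 = N2025 := ded_50_2 (flp_g L17611) L12282 L17611
theorem L17618 : sm gf N2025 = N2025 := ded_45_1 (flp_g L17611) (flp_f L12275) L8569 L12275 L17611
theorem L17619 : sm gg N1405 = N2026 := rfl
theorem L17621 : sm gb N2026 = N1408 := ded_23_1 (flp_g L12307) (flp_b L12285) L17619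
theorem L17623 : sm ge N2026 = N1406 := ded_41_1 (flp_g L12290) L12283 L17619
theorem L17625 : sm gh N2026 = N2026 := ded_50_2 (flp_g L17619) L12288 L17619
theorem L17626 : sm gj N1406 = N2027 := rfl
theorem L17628 : sm gb N2027 = N1409 := ded_24_1 (flp_j L12313) (flp_b L12292) L17626
theorem L17630 : sm gd N2027 = N1407 := ded_37_1 (flp_j L12298) (flp_d L12294) L17626
theorem L17632 : sm gf N2027 = N2027 := ded_46_1 (flp_j L17626) L12297 L17626
theorem L17633 : sm gh N2027 = N2027 := ded_52_2 (flp_j L17626) L12296 L17626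
theorem L17634 : sm gg N2027 = N2027 := ded_49_1 (flp_j L17626) (flp_g L12290) L8580 L12290 L17626
theorem L17635 : sm gf N1408 = N2028 := rfl
theorem L17637 : sm gc N2028 = N2028 := ded_29_1 (flp_f L17635) L12309 L17635
theorem L17638 : sm gh N2028 = N2028 := ded_47_2 (flp_f L17635) L12312 L17635
theorem L17639 : sm ge N2028 = N2028 := ded_40_1 (flp_f L17635) L12310 L8602 (flp_e L12310) L17635
theorem L17640 : sm gg N2028 = N2028 := ded_45_2 (flp_f L17635) (flp_g L12307) L8595 L12307 L17635
theorem L17641 : sm gj N1408 = N2029 := rfl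
theorem L17643 : sm gc N2029 = N2029 := ded_31_1 (flp_j L17641) L12309 L17641
theorem L17644 : sm ge N2029 = N1409 := ded_42_1 (flp_j L12313) (flp_e L12310) L17641
theorem L17646 : sm gh N2029 = N2029 := ded_52_2 (flp_j L17641) L12312 L17641
theorem L17647 : sm gg N2029 = N2029 := ded_49_1 (flp_j L17641) (flp_g L12307) L8593 L12307 L17641
theorem L17648 : sm gd N1410 = N2030 := rfl
theorem L17650 : sm ga N2030 = N1411 := ded_12_1 (flp_d L12330) (flp_a L12323) L17648
theorem L17652 : sm gg N2030 = N2030 := ded_36_2 (flp_d L17648) L12326 L17648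
theorem L17653 : sm gj N2030 = N1417 := ded_37_2 (flp_d L12381) (flp_j L12327) L17648
theorem L17655 : sm gi N2030 = N2030 := ded_39_2 (flp_d L17648) L12329 L17648
theorem L17656 : sm ge N2030 = N1442 := ded_34_2 (flp_d L12580) (flp_e L8802) (flp_d L8614) L12321 L17648
theorem L17658 : sm gf N1410 = N2031 := rfl
theorem L17660 : sm ga N2031 = N1412 := ded_14_1 (flp_f L12340) (flp_a L12323) L17658
theorem L17662 : sm gc N2031 = N2031 := ded_29_1 (flp_f L17658) L12325 L17658
theorem L17663 : sm gj N2031 = N1418 := ded_46_2 (flp_f L12390) (flp_j L12327) L17658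
theorem L17665 : sm gi N2031 = N2031 := ded_48_2 (flp_f L17658) L12329 L17658
theorem L17666 : sm ge N2031 = N2031 := ded_40_1 (flp_f L17658) (flp_e L12321) L8616 L12321 L17658
theorem L17667 : sm gc N1411 = N2032 := rfl
theorem L17669 : sm ge N2032 = N1444 := ded_28_2 (flp_c L12599) (flp_e L12338) L17667
theorem L17672 : sm gj N2032 = N1419 := ded_31_2 (flp_c L12397) (flp_j L12335) L17667
theorem L17677 : sm gf N1411 = N2033 := rfl
theorem L17679 : sm gb N2033 = N1413 := ded_22_1 (flp_f L12349) (flp_b L12332) L17677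
theorem L17681 : sm gd N2033 = N1412 := ded_35_1 (flp_f L12340) L12330 L17677
theorem L17683 : sm gj N2033 = N1420 := ded_46_2 (flp_f L12406) (flp_j L12335) L17677
theorem L17685 : sm gi N2033 = N2033 := ded_48_2 (flp_f L17677) L12337 L17677
theorem L17686 : sm gh N1411 = N2034 := rfl
theorem L17695 : sm gg N1412 = N2035 := rfl
theorem L17697 : sm gb N2035 = N1415 := ded_23_1 (flp_g L12365) (flp_b L12342) L17695
theorem L17699 : sm gc N2035 = N2035 := ded_30_1 (flp_g L17695) L12344 L17695
theorem L17700 : sm ge N2035 = N2035 := ded_41_1 (flp_g L17695) L12348 L17695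
theorem L17701 : sm gi N2035 = N2035 := ded_51_2 (flp_g L17695) L12347 L17695
theorem L17702 : sm gf N2035 = N2035 := ded_45_1 (flp_g L17695) (flp_f L12340) L8626 L12340 L17695
theorem L17703 : sm ge N1413 = N2036 := rfl
theorem L17705 : sm gc N2036 = N2036 := ded_28_1 (flp_e L17703) L12351 L17703
theorem L17706 : sm gj N2036 = N1423 := ded_42_2 (flp_e L12430) (flp_j L12354) L17703
theorem L17708 : sm gi N2036 = N2036 := ded_44_2 (flp_e L17703) L12356 L17703
theorem L17709 : sm gd N2036 = N2036 := ded_34_1 (flp_e L17703) L12352 L8646 (flp_d L12352) L17703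
theorem L17710 : sm gf N2036 = N1448 := ded_40_2 (flp_e L12636) (flp_f L8832) (flp_e L8637) L12349 L17703
theorem L17712 : sm gg N1413 = N2037 := rfl
theorem L17714 : sm gc N2037 = N2037 := ded_30_1 (flp_g L17712) L12351 L17712
theorem L17715 : sm gd N2037 = N1415 := ded_36_1 (flp_g L12365) (flp_d L12352) L17712
theorem L17717 : sm gi N2037 = N2037 := ded_51_2 (flp_g L17712) L12356 L17712
theorem L17718 : sm gf N2037 = N2037 := ded_45_1 (flp_g L17712) (flp_f L12349) L8632 L12349 L17712
theorem L17719 : sm gh N1413 = N2038 := rfl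
theorem L17721 : sm gc N2038 = N2038 := ded_32_1 (flp_h L17719) L12351 L17719
theorem L17722 : sm gf N2038 = N1414 := ded_47_1 (flp_h L12357) L12349 L17719
theorem L17724 : sm gj N2038 = N1425 := ded_52_1 (flp_h L12445) (flp_j L12354) L17719
theorem L17726 : sm gi N1414 = N2039 := rfl
theorem L17729 : sm ge N2039 = N1451 := ded_44_1 (flp_i L12659) (flp_e L12360) L17726
theorem L17732 : sm gj N2039 = N1426 := ded_53_1 (flp_i L12450) (flp_j L12363) L17726
theorem L17735 : sm gj N1415 = N2040 := rfl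
theorem L17737 : sm gc N2040 = N1416 := ded_31_1 (flp_j L12372) (flp_c L12367) L17735
theorem L17739 : sm ge N2040 = N2040 := ded_42_1 (flp_j L17735) L12369 L17735
theorem L17740 : sm gf N2040 = N2040 := ded_46_1 (flp_j L17735) L12371 L17735
theorem L17741 : sm gi N2040 = N2040 := ded_53_2 (flp_j L17735) L12370 L17735
theorem L17742 : sm gg N2040 = N1427 := ded_49_1 (flp_j L12458) (flp_g L8691) (flp_j L8643) L12365 L17735
theorem L17744 : sm gc N1417 = N2041 := rfl
theorem L17746 : sm ga N2041 = N1419 := ded_11_1 (flp_c L12397) (flp_a L12383) L17744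
theorem L17748 : sm ge N2041 = N1452 := ded_28_2 (flp_c L12667) (flp_e L12388) L17744
theorem L17750 : sm gg N2041 = N1428 := ded_30_2 (flp_c L12466) (flp_g L12385) L17744
theorem L17754 : sm gf N1417 = N2042 := rfl
theorem L17756 : sm ga N2042 = N1420 := ded_14_1 (flp_f L12406) (flp_a L12383) L17754
theorem L17758 : sm gd N2042 = N1418 := ded_35_1 (flp_f L12390) L12381 L17754
theorem L17760 : sm gi N2042 = N2042 := ded_48_2 (flp_f L17754) L12387 L17754
theorem L17761 : sm gh N1417 = N2043 := rfl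
theorem L17769 : sm gg N1418 = N2044 := rfl
theorem L17771 : sm ga N2044 = N1422 := ded_15_1 (flp_g L12421) (flp_a L12392) L17769
theorem L17773 : sm gc N2044 = N2044 := ded_30_1 (flp_g L17769) L12394 L17769
theorem L17774 : sm ge N2044 = N2044 := ded_41_1 (flp_g L17769) L12396 L17769
theorem L17775 : sm gi N2044 = N2044 := ded_51_2 (flp_g L17769) L12395 L17769
theorem L17776 : sm gf N2044 = N1431 := ded_45_1 (flp_g L12491) (flp_f L8715) (flp_g L8659) L12390 L17769
theorem L17778 : sm gf N1419 = N2045 := rfl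
theorem L17781 : sm gc N2045 = N1420 := ded_29_1 (flp_f L12406) L12397 L17778
theorem L17785 : sm gh N1419 = N2046 := rfl
theorem L17790 : sm ge N2046 = N1456 := ded_43_1 (flp_h L12700) (flp_e L12399) L17785
theorem L17792 : sm gg N2046 = N1433 := ded_50_1 (flp_h L12508) (flp_g L12401) L17785
theorem L17794 : sm ge N1420 = N2047 := rfl
theorem L17796 : sm gb N2047 = N1423 := ded_21_1 (flp_e L12430) (flp_b L12408) L17794
theorem L17798 : sm gi N2047 = N2047 := ded_44_2 (flp_e L17794) L12412 L17794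
theorem L17799 : sm gd N2047 = N2047 := ded_34_1 (flp_e L17794) L12410 L8677 (flp_d L12410) L17794
theorem L17800 : sm gf N2047 = N1457 := ded_40_2 (flp_e L12707) (flp_f L8881) (flp_e L8669) L12406 L17794
theorem L17802 : sm gg N1420 = N2048 := rfl
theorem L17804 : sm gb N2048 = N1424 := ded_23_1 (flp_g L12437) (flp_b L12408) L17802
theorem L17806 : sm gd N2048 = N1422 := ded_36_1 (flp_g L12421) (flp_d L12410) L17802
theorem L17808 : sm gi N2048 = N2048 := ded_51_2 (flp_g L17802) L12412 L17802
theorem L17809 : sm gf N2048 = N1434 := ded_45_1 (flp_g L12516) (flp_f L8732) (flp_g L8666) L12406 L17802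
theorem L17811 : sm gh N1420 = N2049 := rfl
theorem L17826 : sm gj N1422 = N2051 := rfl
theorem L17828 : sm gb N2051 = N1427 := ded_24_1 (flp_j L12458) (flp_b L12423) L17826
theorem L17830 : sm gc N2051 = N2051 := ded_31_1 (flp_j L17826) L12425 L17826
theorem L17831 : sm ge N2051 = N2051 := ded_42_1 (flp_j L17826) L12426 L17826
theorem L17832 : sm gf N2051 = N1437 := ded_46_1 (flp_j L12540) (flp_f L12428) L17826
theorem L17834 : sm gi N2051 = N2051 := ded_53_2 (flp_j L17826) L12427 L17826
theorem L17835 : sm gg N1423 = N2052 := rfl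
theorem L17837 : sm gc N2052 = N2052 := ded_30_1 (flp_g L17835) L12432 L17835
theorem L17838 : sm gd N2052 = N2052 := ded_36_1 (flp_g L17835) L12434 L17835
theorem L17839 : sm ge N2052 = N1424 := ded_41_1 (flp_g L12437) L12430 L17835
theorem L17841 : sm gi N2052 = N2052 := ded_51_2 (flp_g L17835) L12433 L17835
theorem L17842 : sm gf N2052 = N2052 := ded_45_1 (flp_g L17835) L12435 L8899 (flp_f L12435) L17835
theorem L17843 : sm gh N1423 = N2053 := rfl
theorem L17845 : sm gc N2053 = N2053 := ded_32_1 (flp_h L17843) L12432 L17843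
theorem L17846 : sm ge N2053 = N1425 := ded_43_1 (flp_h L12445) L12430 L17843
theorem L17848 : sm gf N2053 = N1460 := ded_47_1 (flp_h L12730) (flp_f L12435) L17843
theorem L17850 : sm gj N1424 = N2054 := rfl
theorem L17852 : sm gc N2054 = N2054 := ded_31_1 (flp_j L17850) L12439 L17850
theorem L17853 : sm gd N2054 = N1427 := ded_37_1 (flp_j L12458) (flp_d L12440) L17850
theorem L17855 : sm gf N2054 = N1438 := ded_46_1 (flp_j L12549) (flp_f L12443) L17850
theorem L17857 : sm gi N2054 = N2054 := ded_53_2 (flp_j L17850) L12442 L17850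
theorem L17858 : sm gh N1424 = N2055 := rfl
theorem L17860 : sm gc N2055 = N2055 := ded_32_1 (flp_h L17858) L12439 L17858
theorem L17861 : sm gf N2055 = N1439 := ded_47_1 (flp_h L12557) (flp_f L12443) L17858
theorem L17863 : sm gg N2055 = N1425 := ded_50_1 (flp_h L12445) L12437 L17858
theorem L17865 : sm gi N1425 = N2056 := rfl
theorem L17868 : sm gf N2056 = N1426 := ded_48_1 (flp_i L12450) (flp_f L12448) L17865
theorem L17871 : sm gb N1428 = N2057 := rfl
theorem L17874 : sm ge N2057 = N1462 := ded_21_2 (flp_b L12744) (flp_e L12470) L17871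
theorem L17879 : sm gf N1428 = N2058 := rfl
theorem L17881 : sm ga N2058 = N1432 := ded_14_1 (flp_f L12499) (flp_a L12468) L17879
theorem L17883 : sm gc N2058 = N1429 := ded_29_1 (flp_f L12475) L12466 L17879
theorem L17889 : sm gh N1428 = N2059 := rfl
theorem L17898 : sm gg N1429 = N2060 := rfl
theorem L17900 : sm ga N2060 = N1434 := ded_15_1 (flp_g L12516) (flp_a L12477) L17898
theorem L17902 : sm gd N2060 = N1431 := ded_36_1 (flp_g L12491) (flp_d L12479) L17898
theorem L17904 : sm ge N2060 = N2060 := ded_41_1 (flp_g L17898) L12483 L17898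
theorem L17905 : sm gi N2060 = N2060 := ded_51_2 (flp_g L17898) L12482 L17898
theorem L17906 : sm gh N1429 = N2061 := rfl
theorem L17908 : sm ga N2061 = N1435 := ded_17_1 (flp_h L12524) (flp_a L12477) L17906
theorem L17922 : sm gj N1431 = N2063 := rfl
theorem L17924 : sm ga N2063 = N1437 := ded_16_1 (flp_j L12540) (flp_a L12493) L17922
theorem L17926 : sm gc N2063 = N2063 := ded_31_1 (flp_j L17922) L12495 L17922
theorem L17927 : sm ge N2063 = N1441 := ded_42_1 (flp_j L12571) (flp_e L12496) L17922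
theorem L17929 : sm gi N2063 = N2063 := ded_53_2 (flp_j L17922) L12498 L17922
theorem L17930 : sm gg N2063 = N2063 := ded_49_1 (flp_j L17922) (flp_g L12491) L8720 L12491 L17922
theorem L17931 : sm gg N1432 = N2064 := rfl
theorem L17934 : sm gc N2064 = N1434 := ded_30_1 (flp_g L12516) (flp_c L12502) L17931
theorem L17948 : sm gd N1433 = N2066 := rfl
theorem L17953 : sm gi N1433 = N2067 := rfl
theorem L17962 : sm gj N1434 = N2068 := rfl
theorem L17964 : sm gb N2068 = N1438 := ded_24_1 (flp_j L12549) (flp_b L12518) L17962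
theorem L17966 : sm gd N2068 = N1437 := ded_37_1 (flp_j L12540) (flp_d L12520) L17962
theorem L17968 : sm ge N2068 = N2068 := ded_42_1 (flp_j L17962) L12522 L17962
theorem L17969 : sm gi N2068 = N2068 := ded_53_2 (flp_j L17962) L12523 L17962
theorem L17970 : sm gg N2068 = N2068 := ded_49_1 (flp_j L17962) (flp_g L12516) L8738 L12516 L17962
theorem L17971 : sm gh N1434 = N2069 := rfl
theorem L17973 : sm gb N2069 = N1439 := ded_25_1 (flp_h L12557) (flp_b L12518) L17971
theorem L17978 : sm gi N1435 = N2070 := rfl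
theorem L17987 : sm gh N1438 = N2071 := rfl
theorem L17989 : sm gc N2071 = N2071 := ded_32_1 (flp_h L17987) L12551 L17987
theorem L17990 : sm ge N2071 = N2071 := ded_43_1 (flp_h L17987) L12554 L17987
theorem L17991 : sm gg N2071 = N2071 := ded_50_1 (flp_h L17987) L12556 L17987
theorem L17992 : sm gj N2071 = N1439 := ded_52_1 (flp_h L12557) L12549 L17987
theorem L17994 : sm gi N1439 = N2072 := rfl
theorem L18001 : sm gc N1442 = N2073 := rfl
theorem L18003 : sm ga N2073 = N1444 := ded_11_1 (flp_c L12599) (flp_a L12582) L18001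
theorem L18006 : sm gj N2073 = N1452 := ded_31_2 (flp_c L12667) (flp_j L12585) L18001
theorem L18009 : sm gd N2073 = N1467 := ded_27_2 (flp_c L12784) (flp_d L8947) (flp_c L8806) L12580 L18001
theorem L18011 : sm gf N1442 = N2074 := rfl
theorem L18013 : sm ga N2074 = N1445 := ded_14_1 (flp_f L12608) (flp_a L12582) L18011
theorem L18015 : sm gd N2074 = N1443 := ded_35_1 (flp_f L12588) L12580 L18011
theorem L18017 : sm gj N2074 = N1453 := ded_46_2 (flp_f L12676) (flp_j L12585) L18011
theorem L18019 : sm gi N2074 = N2074 := ded_48_2 (flp_f L18011) L12587 L18011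
theorem L18020 : sm gh N1442 = N2075 := rfl
theorem L18028 : sm gg N1443 = N2076 := rfl
theorem L18030 : sm ga N2076 = N1447 := ded_15_1 (flp_g L12625) (flp_a L12590) L18028
theorem L18032 : sm gc N2076 = N1470 := ded_30_1 (flp_g L12813) (flp_c L12592) L18028
theorem L18034 : sm ge N2076 = N2076 := ded_41_1 (flp_g L18028) L12598 L18028
theorem L18035 : sm gh N2076 = N2076 := ded_50_2 (flp_g L18028) L12596 L18028
theorem L18036 : sm gi N2076 = N2076 := ded_51_2 (flp_g L18028) L12597 L18028
theorem L18037 : sm gf N2076 = N2076 := ded_45_1 (flp_g L18028) (flp_f L12588) L8808 L12588 L18028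
theorem L18038 : sm gj N2076 = N2076 := ded_49_2 (flp_g L18028) L12594 L8872 (flp_j L12594) L18028
theorem L18039 : sm gf N1444 = N2077 := rfl
theorem L18042 : sm gc N2077 = N1445 := ded_29_1 (flp_f L12608) L12599 L18039
theorem L18044 : sm gd N2077 = N1471 := ded_35_1 (flp_f L12823) (flp_d L12606) L18039
theorem L18046 : sm gj N2077 = N1455 := ded_46_2 (flp_f L12691) (flp_j L12602) L18039
theorem L18049 : sm gh N1444 = N2078 := rfl
theorem L18055 : sm gj N2078 = N1456 := ded_52_1 (flp_h L12700) (flp_j L12602) L18049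
theorem L18057 : sm ge N1445 = N2079 := rfl
theorem L18059 : sm gb N2079 = N1448 := ded_21_1 (flp_e L12636) (flp_b L12610) L18057
theorem L18061 : sm gj N2079 = N1457 := ded_42_2 (flp_e L12707) (flp_j L12614) L18057
theorem L18063 : sm gi N2079 = N2079 := ded_44_2 (flp_e L18057) L12616 L18057
theorem L18064 : sm gd N2079 = N2079 := ded_34_1 (flp_e L18057) L12612 L8831 (flp_d L12612) L18057
theorem L18065 : sm gg N1445 = N2080 := rfl
theorem L18067 : sm gb N2080 = N1449 := ded_23_1 (flp_g L12643) (flp_b L12610) L18065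
theorem L18069 : sm gd N2080 = N1447 := ded_36_1 (flp_g L12625) (flp_d L12612) L18065
theorem L18071 : sm gi N2080 = N2080 := ded_51_2 (flp_g L18065) L12616 L18065
theorem L18072 : sm gf N2080 = N2080 := ded_45_1 (flp_g L18065) (flp_f L12608) L8817 L12608 L18065
theorem L18073 : sm gj N2080 = N2080 := ded_49_2 (flp_g L18065) L12614 L8888 (flp_j L12614) L18065
theorem L18074 : sm gh N1445 = N2081 := rfl
theorem L18076 : sm gb N2081 = N1450 := ded_25_1 (flp_h L12651) (flp_b L12610) L18074
theorem L18083 : sm gi N1446 = N2082 := rfl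
theorem L18089 : sm gj N2082 = N1459 := ded_53_1 (flp_i L12722) (flp_j L12622) L18083
theorem L18092 : sm gg N1448 = N2083 := rfl
theorem L18094 : sm gc N2083 = N2083 := ded_30_1 (flp_g L18092) L12638 L18092
theorem L18095 : sm gd N2083 = N2083 := ded_36_1 (flp_g L18092) L12642 L18092
theorem L18096 : sm ge N2083 = N1449 := ded_41_1 (flp_g L12643) L12636 L18092
theorem L18098 : sm gi N2083 = N2083 := ded_51_2 (flp_g L18092) L12641 L18092
theorem L18099 : sm gj N2083 = N2083 := ded_49_2 (flp_g L18092) L12639 L8899 (flp_j L12639) L18092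
theorem L18100 : sm gh N1448 = N2084 := rfl
theorem L18102 : sm gc N2084 = N2084 := ded_32_1 (flp_h L18100) L12638 L18100
theorem L18103 : sm ge N2084 = N1450 := ded_43_1 (flp_h L12651) L12636 L18100
theorem L18105 : sm gj N2084 = N1460 := ded_52_1 (flp_h L12730) (flp_j L12639) L18100
theorem L18107 : sm gh N1449 = N2085 := rfl
theorem L18109 : sm gc N2085 = N2085 := ded_32_1 (flp_h L18107) L12645 L18107
theorem L18110 : sm gf N2085 = N2085 := ded_47_1 (flp_h L18107) L12649 L18107
theorem L18111 : sm gg N2085 = N1450 := ded_50_1 (flp_h L12651) L12643 L18107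
theorem L18113 : sm gj N2085 = N2085 := ded_52_1 (flp_h L18107) L12650 L18107
theorem L18114 : sm gd N2085 = N2085 := ded_38_1 (flp_h L18107) L12646 L8852 (flp_d L12646) L18107
theorem L18115 : sm gi N1450 = N2086 := rfl
theorem L18121 : sm gj N2086 = N1461 := ded_53_1 (flp_i L12736) (flp_j L12656) L18115
theorem L18124 : sm gb N1452 = N2087 := rfl
theorem L18126 : sm gd N2087 = N1481 := ded_20_2 (flp_b L12914) (flp_d L12674) L18124
theorem L18128 : sm gg N2087 = N1462 := ded_23_2 (flp_b L12744) (flp_g L12671) L18124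
theorem L18132 : sm gf N1452 = N2088 := rfl
theorem L18134 : sm ga N2088 = N1455 := ded_14_1 (flp_f L12691) (flp_a L12669) L18132
theorem L18136 : sm gc N2088 = N1453 := ded_29_1 (flp_f L12676) L12667 L18132
theorem L18138 : sm gd N2088 = N1482 := ded_35_1 (flp_f L12922) (flp_d L12674) L18132
theorem L18142 : sm gh N1452 = N2089 := rfl
theorem L18148 : sm gg N2089 = N1463 := ded_50_1 (flp_h L12752) (flp_g L12671) L18142
theorem L18150 : sm ge N1453 = N2090 := rfl
theorem L18152 : sm ga N2090 = N1457 := ded_13_1 (flp_e L12707) (flp_a L12678) L18150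
theorem L18154 : sm gg N2090 = N2090 := ded_41_2 (flp_e L18150) L12683 L18150
theorem L18155 : sm gi N2090 = N2090 := ded_44_2 (flp_e L18150) L12682 L18150
theorem L18156 : sm gd N2090 = N2090 := ded_34_1 (flp_e L18150) L12680 L8871 (flp_d L12680) L18150
theorem L18157 : sm gh N1453 = N2091 := rfl
theorem L18173 : sm ge N1455 = N2093 := rfl
theorem L18176 : sm gc N2093 = N1457 := ded_28_1 (flp_e L12707) (flp_c L12694) L18173
theorem L18180 : sm gh N1455 = N2094 := rfl
theorem L18183 : sm gc N2094 = N1458 := ded_32_1 (flp_h L12714) (flp_c L12694) L18180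
theorem L18185 : sm gf N2094 = N1456 := ded_47_1 (flp_h L12700) L12691 L18180
theorem L18188 : sm gd N1456 = N2095 := rfl
theorem L18194 : sm gh N2095 = N1489 := ded_38_2 (flp_d L12983) (flp_h L9072) (flp_d L8879) L12700 L18188
theorem L18204 : sm gh N1457 = N2097 := rfl
theorem L18206 : sm gb N2097 = N1460 := ded_25_1 (flp_h L12730) (flp_b L12709) L18204
theorem L18220 : sm gd N1460 = N2099 := rfl
theorem L18222 : sm gg N2099 = N2099 := ded_36_2 (flp_d L18220) L12735 L18220
theorem L18223 : sm ge N2099 = N2099 := ded_34_2 (flp_d L18220) L12733 L8908 (flp_e L12733) L18220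
theorem L18224 : sm gh N2099 = N2099 := ded_38_2 (flp_d L18220) (flp_h L12730) L8901 L12730 L18220
theorem L18225 : sm gi N1460 = N2100 := rfl
theorem L18228 : sm ge N2100 = N1461 := ded_44_1 (flp_i L12736) (flp_e L12733) L18225
theorem L18232 : sm gh N1462 = N2101 := rfl
theorem L18239 : sm gd N1463 = N2102 := rfl
theorem L18246 : sm gh N2102 = N1496 := ded_38_2 (flp_d L13040) (flp_h L9130) (flp_d L8923) L12752 L18239
theorem L18248 : sm gi N1463 = N2103 := rfl
theorem L18257 : sm ge N1465 = N2104 := rfl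
theorem L18262 : sm gh N2104 = N1498 := ded_43_2 (flp_e L13057) (flp_h L12774) L18257
theorem L18272 : sm gb N1467 = N2106 := rfl
theorem L18276 : sm gj N2106 = N1481 := ded_24_2 (flp_b L12914) (flp_j L12790) L18272
theorem L18281 : sm gf N1467 = N2107 := rfl
theorem L18283 : sm ga N2107 = N1471 := ded_14_1 (flp_f L12823) (flp_a L12786) L18281

end Cfsg.Agent.Helper28.FicA
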