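import Cfsg.Agent.Helper28.FicC0

/-!
# The Fi₂₃ presentation, cosets of the subgroup generated by a, …, i: the action of the generator a (helper28; generated)
-/

set_option autoImplicit false
set_option maxRecDepth 100000
set_option linter.unusedSimpArgs false
set_option linter.constructorNameAsVariable false

noncomputable section

namespace Cfsg.Agent.Helper28.FicA

open Cfsg.Spor Cfsg.Spor.Fi23 Cfsg.Agent.Helper28.CosetTable

theorem ce_a_0 : ∀ r, r < 64 → sm ga (Qf (0 + r)) = Qf (tab Gen.a (0 + r)) :=
  edges_tab (sm ga) Qf (tab Gen.a) 0 [(0, 0), (1, 1), (2, 2), (3, 3), (4, 4), (5, 5), (6, 6), (7, 7), (8, 11), (9, 9), (10, 10), (11, 8), (12, 15), (13, 13), (14, 14), (15, 12), (16, 20), (17, 21), (18, 18), (19, 19), (20, 16), (21, 17), (22, 28), (23, 29), (24, 30), (25, 25), (26, 26), (27, 27), (28, 22), (29, 23), (30, 24), (31, 40), (32, 41), (33, 42), (34, 43), (35, 44), (36, 36), (37, 37), (38, 38), (39, 39), (40, 31), (41, 32), (42, 33), (43, 34), (44, 35), (45, 58), (46, 59), (47, 60), (48, 61), (49, 62), (50, 63),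 (51, 64), (52, 52), (53, 53), (54, 54), (55, 55), (56, 56), (57, 57), (58, 45), (59, 46), (60, 47), (61, 48), (62, 49), (63, 50)]
    ⟨e3 q0 L0 q0, e3 q1 L11 q1, e3 q2 L21 q2, e3 q3 L31 q3, e3 q4 L41 q4, e3 q5 L51 q5, e3 q6 L60 q6, e3 q7 L69 q7, e3 q8 L104 q11, e3 q9 L87 q9, e3 q10 L96 q10, e3 q11 (flp_a L104) q8, e3 q12 (flp_a L143) q15, e3 q13 L125 q13, e3 q14 L133 q14, e3 q15 L143 q12, e3 q16 (flp_a L188) q20, e3 q17 (flp_a L197) q21, e3 q18 L171 q18, e3 q19 L179 q19, e3 q20 L188 q16, e3 q21 L197 q17, e3 q22 (flp_a L259) q28, e3 q23 (flp_a L268) q29, e3 q24 (flp_a L277) q30, e3 q25 L233 q25, e3 q26 L241 q26, e3 q27 L250 q27, e3 q28 L259 q22, e3 q29 L268 q23, e3 q30 L277 q24, e3 q31 (flp_a L365) q40, e3 q32 (flp_a L374) q41, e3 q33 (flp_a L384) q42, e3 q34 (flp_a L393) q43, e3 q35 (flp_a L403) q44, e3 q36 L330 q36, e3 q37 L338 q37, e3 q38 L347 q38, e3 q39 L361 q39, e3 q40 L365 q31, e3 q41 L374 q32, e3 q42 L384 q33, e3 q43 L393 q34, e3 q44 L403 q35, e3 q45 (flp_a L526) q58, e3 q46 (flp_a L534) q59, e3 q47 (flp_a L543) q60,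 e3 q48 (flp_a L553) q61, e3 q49 (flp_a L563) q62, e3 q50 (flp_a L572) q63, e3 q51 (flp_a L582) q64, e3 q52 L472 q52, e3 q53 L481 q53, e3 q54 L490 q54, e3 q55 L499 q55, e3 q56 L507 q56, e3 q57 L516 q57, e3 q58 L526 q45, e3 q59 L534 q46, e3 q60 L543 q47, e3 q61 L553 q48, e3 q62 L563 q49, e3 q63 L572 q50, trivial⟩ (by decide +kernel)

theorem ce_a_1 : ∀ r, r < 64 → sm ga (Qf (64 + r)) = Qf (tab Gen.a (64 + r)) :=
  edges_tab (sm ga) Qf (tab Gen.a) 64 [(64, 51), (65, 84), (66, 85), (67, 86), (68, 87), (69, 88), (70, 89), (71, 90), (72, 91), (73, 92), (74, 93), (75, 94), (76, 76), (77, 77), (78, 78), (79, 79), (80, 80), (81, 81), (82, 82), (83, 83), (84, 65), (85, 66), (86, 67), (87, 68), (88, 69), (89, 70), (90, 71), (91, 72), (92, 73), (93, 74), (94, 75), (95, 123), (96, 124), (97, 125), (98, 126), (99, 127), (100, 128), (101, 129), (102, 130), (103, 131), (104, 132), (105, 133), (106, 134), (107, 135), (108, 136), (109, 137), (110, 110), (111, 111), (112, 112), (113, 113), (114, 164), (115, 115), (116, 116), (117, 117), (118,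 118), (119, 119), (120, 120), (121, 121), (122, 122), (123, 95), (124, 96), (125, 97), (126, 98), (127, 99)]
    ⟨e3 q64 L582 q51, e3 q65 (flp_a L761) q84, e3 q66 (flp_a L769) q85, e3 q67 (flp_a L778) q86, e3 q68 (flp_a L788) q87, e3 q69 (flp_a L797) q88, e3 q70 (flp_a L807) q89, e3 q71 (flp_a L818) q90, e3 q72 (flp_a L828) q91, e3 q73 (flp_a L838) q92, e3 q74 (flp_a L848) q93, e3 q75 (flp_a L858) q94, e3 q76 L688 q76, e3 q77 L698 q77, e3 q78 L707 q78, e3 q79 L715 q79, e3 q80 L724 q80, e3 q81 L732 q81, e3 q82 L741 q82, e3 q83 L751 q83, e3 q84 L761 q65, e3 q85 L769 q66, e3 q86 L778 q67, e3 q87 L788 q68, e3 q88 L797 q69, e3 q89 L807 q70, e3 q90 L818 q71, e3 q91 L828 q72, e3 q92 L838 q73, e3 q93 L848 q74, e3 q94 L858 q75, e3 q95 (flp_a L1109) q123, e3 q96 (flp_a L1117) q124, e3 q97 (flp_a L1125) q125, e3 q98 (flp_a L1134) q126, e3 q99 (flp_a L1144) q127, e3 q100 (flp_a L1153) q128, e3 q101 (flp_a L1161) q129, e3 q102 (flp_a L1171) q130, e3 q103 (flp_a L1181) q131, e3 q104 (flp_a L1192) q132, e3 q105 (flp_a L1199) q133, e3 q106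 (flp_a L1208) q134, e3 q107 (flp_a L1219) q135, e3 q108 (flp_a L1229) q136, e3 q109 (flp_a L1239) q137, e3 q110 L991 q110, e3 q111 L1001 q111, e3 q112 L1009 q112, e3 q113 L1018 q113, e3 q114 L1463 q164, e3 q115 L1034 q115, e3 q116 L1042 q116, e3 q117 L1050 q117, e3 q118 L1059 q118, e3 q119 L1069 q119, e3 q120 L1078 q120, e3 q121 L1088 q121, e3 q122 L1099 q122, e3 q123 L1109 q95, e3 q124 L1117 q96, e3 q125 L1125 q97, e3 q126 L1134 q98, e3 q127 L1144 q99, trivial⟩ (by decide +kernel)

theorem ce_a_2 : ∀ r, r < 64 → sm ga (Qf (128 + r)) = Qf (tab Gen.a (128 + r)) :=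
  edges_tab (sm ga) Qf (tab Gen.a) 128 [(128, 100), (129, 101), (130, 102), (131, 103), (132, 104), (133, 105), (134, 106), (135, 107), (136, 108), (137, 109), (138, 180), (139, 181), (140, 182), (141, 183), (142, 184), (143, 185), (144, 186), (145, 187), (146, 188), (147, 189), (148, 190), (149, 191), (150, 192), (151, 193), (152, 194), (153, 195), (154, 196), (155, 197), (156, 198), (157, 199), (158, 230), (159, 159), (160, 160), (161, 161), (162, 236), (163, 163), (164, 114), (165, 165), (166, 166), (167, 167), (168, 168), (169, 169), (170, 170), (171, 171), (172, 172), (173, 173), (174, 174), (175, 175), (176, 176), (177, 177), (178, 178), (179, 179), (180, 138), (181, 139), (182, 140), (183, 141), (184, 142), (185, 143), (186, 144), (187, 145), (188, 146), (189, 147), (190, 148), (191, 149)]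
    ⟨e3 q128 L1153 q100, e3 q129 L1161 q101, e3 q130 L1171 q102, e3 q131 L1181 q103, e3 q132 L1192 q104, e3 q133 L1199 q105, e3 q134 L1208 q106, e3 q135 L1219 q107, e3 q136 L1229 q108, e3 q137 L1239 q109, e3 q138 (flp_a L1611) q180, e3 q139 (flp_a L1619) q181, e3 q140 (flp_a L1628) q182, e3 q141 (flp_a L1638) q183, e3 q142 (flp_a L1647) q184, e3 q143 (flp_a L1656) q185, e3 q144 (flp_a L1666) q186, e3 q145 (flp_a L1675) q187, e3 q146 (flp_a L1683) q188, e3 q147 (flp_a L1693) q189, e3 q148 (flp_a L1701) q190, e3 q149 (flp_a L1712) q191, e3 q150 (flp_a L1723) q192, e3 q151 (flp_a L1731) q193, e3 q152 (flp_a L1740) q194, e3 q153 (flp_a L1749) q195, e3 q154 (flp_a L1758) q196, e3 q155 (flp_a L1769) q197, e3 q156 (flp_a L1779) q198, e3 q157 (flp_a L1788) q199, e3 q158 L2039 q230, e3 q159 L1422 q159, e3 q160 L1431 q160, e3 q161 L1440 q161, e3 q162 L2092 q236, e3 q163 L1456 q163, e3 q164 (flp_a L1463) q114, e3 q165 L1474 q165, e3 q166 L1482 q166, e3 q167 L1491 q167, e3 q168 L1501 q168, e3 q169 L1509 q169, e3 q170 L1517 q170, e3 q171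 L1526 q171, e3 q172 L1536 q172, e3 q173 L1545 q173, e3 q174 L1553 q174, e3 q175 L1563 q175, e3 q176 L1573 q176, e3 q177 L1584 q177, e3 q178 L1592 q178, e3 q179 L1602 q179, e3 q180 L1611 q138, e3 q181 L1619 q139, e3 q182 L1628 q140, e3 q183 L1638 q141, e3 q184 L1647 q142, e3 q185 L1656 q143, e3 q186 L1666 q144, e3 q187 L1675 q145, e3 q188 L1683 q146, e3 q189 L1693 q147, e3 q190 L1701 q148, e3 q191 L1712 q149, trivial⟩ (by decide +kernel)

theorem ce_a_3 : ∀ r, r < 64 → sm ga (Qf (192 + r)) = Qf (tab Gen.a (192 + r)) :=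
  edges_tab (sm ga) Qf (tab Gen.a) 192 [(192, 150), (193, 151), (194, 152), (195, 153), (196, 154), (197, 155), (198, 156), (199, 157), (200, 292), (201, 263), (202, 264), (203, 265), (204, 266), (205, 267), (206, 268), (207, 269), (208, 270), (209, 271), (210, 272), (211, 273), (212, 274), (213, 275), (214, 276), (215, 277), (216, 278), (217, 279), (218, 280), (219, 281), (220, 282), (221, 323), (222, 284), (223, 285), (224, 286), (225, 287), (226, 288), (227, 289), (228, 333), (229, 291), (230, 158), (231, 231), (232, 232), (233, 339), (234, 234), (235, 235), (236, 162), (237, 343), (238, 238), (239, 239), (240, 240), (241, 241), (242, 242), (243, 243), (244, 244), (245, 245), (246, 246), (247, 247), (248, 248), (249, 249), (250, 250), (251, 251), (252, 252), (253, 253), (254, 254), (255, 255)]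
    ⟨e3 q192 L1723 q150, e3 q193 L1731 q151, e3 q194 L1740 q152, e3 q195 L1749 q153, e3 q196 L1758 q154, e3 q197 L1769 q155, e3 q198 L1779 q156, e3 q199 L1788 q157, e3 q200 L2601 q292, e3 q201 (flp_a L2338) q263, e3 q202 (flp_a L2346) q264, e3 q203 (flp_a L2355) q265, e3 q204 (flp_a L2364) q266, e3 q205 (flp_a L2374) q267, e3 q206 (flp_a L2382) q268, e3 q207 (flp_a L2391) q269, e3 q208 (flp_a L2400) q270, e3 q209 (flp_a L2410) q271, e3 q210 (flp_a L2421) q272, e3 q211 (flp_a L2430) q273, e3 q212 (flp_a L2438) q274, e3 q213 (flp_a L2448) q275, e3 q214 (flp_a L2457) q276, e3 q215 (flp_a L2466) q277, e3 q216 (flp_a L2475) q278, e3 q217 (flp_a L2484) q279, e3 q218 (flp_a L2496) q280, e3 q219 (flp_a L2504) q281, e3 q220 (flp_a L2514) q282, e3 q221 L2852 q323, e3 q222 (flp_a L2528) q284, e3 q223 (flp_a L2538) q285, e3 q224 (flp_a L2546) q286, e3 q225 (flp_a L2555) q287, e3 q226 (flp_a L2566) q288, e3 q227 (flp_a L2575) q289, e3 q228 L2936 q333, e3 q229 (flp_a L2593) q291, e3 q230 (flp_a L2039) q158, e3 q231 L2050 q231, e3 q232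 L2060 q232, e3 q233 L2989 q339, e3 q234 L2077 q234, e3 q235 L2086 q235, e3 q236 (flp_a L2092) q162, e3 q237 (flp_a L3025) q343, e3 q238 L2111 q238, e3 q239 L2119 q239, e3 q240 L2127 q240, e3 q241 L2135 q241, e3 q242 L2144 q242, e3 q243 L2154 q243, e3 q244 L2162 q244, e3 q245 L2171 q245, e3 q246 L2180 q246, e3 q247 L2188 q247, e3 q248 L2197 q248, e3 q249 L2207 q249, e3 q250 L2216 q250, e3 q251 L2225 q251, e3 q252 L2235 q252, e3 q253 L2244 q253, e3 q254 L2252 q254, e3 q255 L2262 q255, trivial⟩ (by decide +kernel)

theorem ce_a_4 : ∀ r, r < 64 → sm ga (Qf (256 + r)) = Qf (tab Gen.a (256 + r)) :=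
  edges_tab (sm ga) Qf (tab Gen.a) 256 [(256, 256), (257, 257), (258, 258), (259, 259), (260, 260), (261, 261), (262, 262), (263, 201), (264, 202), (265, 203), (266, 204), (267, 205), (268, 206), (269, 207), (270, 208), (271, 209), (272, 210), (273, 211), (274, 212), (275, 213), (276, 214), (277, 215), (278, 216), (279, 217), (280, 218), (281, 219), (282, 220), (283, 416), (284, 222), (285, 223), (286, 224), (287, 225), (288, 226), (289, 227), (290, 426), (291, 229), (292, 200), (293, 386), (294, 387), (295, 388), (296, 389), (297, 390), (298, 391), (299, 392), (300, 393), (301, 394), (302, 395), (303, 396), (304, 397), (305, 398), (306, 399), (307, 400), (308, 401), (309, 402), (310, 403), (311, 404), (312, 405), (313, 406), (314, 461), (315, 408), (316, 409), (317, 410), (318, 411), (319, 412)]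
    ⟨e3 q256 L2271 q256, e3 q257 L2282 q257, e3 q258 L2293 q258, e3 q259 L2302 q259, e3 q260 L2309 q260, e3 q261 L2319 q261, e3 q262 L2329 q262, e3 q263 L2338 q201, e3 q264 L2346 q202, e3 q265 L2355 q203, e3 q266 L2364 q204, e3 q267 L2374 q205, e3 q268 L2382 q206, e3 q269 L2391 q207, e3 q270 L2400 q208, e3 q271 L2410 q209, e3 q272 L2421 q210, e3 q273 L2430 q211, e3 q274 L2438 q212, e3 q275 L2448 q213, e3 q276 L2457 q214, e3 q277 L2466 q215, e3 q278 L2475 q216, e3 q279 L2484 q217, e3 q280 L2496 q218, e3 q281 L2504 q219, e3 q282 L2514 q220, e3 q283 L3691 q416, e3 q284 L2528 q222, e3 q285 L2538 q223, e3 q286 L2546 q224, e3 q287 L2555 q225, e3 q288 L2566 q226, e3 q289 L2575 q227, e3 q290 L3784 q426, e3 q291 L2593 q229, e3 q292 (flp_a L2601) q200, e3 q293 (flp_a L3419) q386, e3 q294 (flp_a L3428) q387, e3 q295 (flp_a L3437) q388, e3 q296 (flp_a L3447) q389, e3 q297 (flp_a L3457) q390, e3 q298 (flp_a L3468) q391, e3 q299 (flp_a L3476) q392, e3 q300 (flp_a L3485) q393, e3 q301 (flp_a L3494) q394, e3 q302 (flp_a L3504) q395, e3 q303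 (flp_a L3513) q396, e3 q304 (flp_a L3524) q397, e3 q305 (flp_a L3531) q398, e3 q306 (flp_a L3541) q399, e3 q307 (flp_a L3550) q400, e3 q308 (flp_a L3560) q401, e3 q309 (flp_a L3569) q402, e3 q310 (flp_a L3579) q403, e3 q311 (flp_a L3589) q404, e3 q312 (flp_a L3596) q405, e3 q313 (flp_a L3606) q406, e3 q314 L4071 q461, e3 q315 (flp_a L3623) q408, e3 q316 (flp_a L3633) q409, e3 q317 (flp_a L3641) q410, e3 q318 (flp_a L3650) q411, e3 q319 (flp_a L3660) q412, trivial⟩ (by decide +kernel)

theorem ce_a_5 : ∀ r, r < 64 → sm ga (Qf (320 + r)) = Qf (tab Gen.a (320 + r)) :=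
  edges_tab (sm ga) Qf (tab Gen.a) 320 [(320, 471), (321, 414), (322, 415), (323, 221), (324, 476), (325, 418), (326, 419), (327, 420), (328, 421), (329, 422), (330, 483), (331, 424), (332, 425), (333, 228), (334, 487), (335, 428), (336, 490), (337, 337), (338, 338), (339, 233), (340, 495), (341, 341), (342, 342), (343, 237), (344, 500), (345, 345), (346, 346), (347, 347), (348, 348), (349, 349), (350, 350), (351, 351), (352, 352), (353, 353), (354, 354), (355, 355), (356, 356), (357, 357), (358, 358), (359, 359), (360, 360), (361, 361), (362, 362), (363, 363), (364, 364), (365, 365), (366, 366), (367, 367), (368, 368), (369, 369), (370, 370), (371, 371), (372, 372), (373, 373), (374, 374), (375, 375), (376, 376), (377, 377), (378, 378), (379, 379), (380, 551), (381, 381), (382, 382), (383, 383)]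
    ⟨e3 q320 L4148 q471, e3 q321 (flp_a L3676) q414, e3 q322 (flp_a L3684) q415, e3 q323 (flp_a L2852) q221, e3 q324 (flp_a L4188) q476, e3 q325 (flp_a L3710) q418, e3 q326 (flp_a L3719) q419, e3 q327 (flp_a L3727) q420, e3 q328 (flp_a L3737) q421, e3 q329 (flp_a L3747) q422, e3 q330 L4247 q483, e3 q331 (flp_a L3766) q424, e3 q332 (flp_a L3776) q425, e3 q333 (flp_a L2936) q228, e3 q334 (flp_a L4282) q487, e3 q335 (flp_a L3805) q428, e3 q336 L4303 q490, e3 q337 L2972 q337, e3 q338 L2982 q338, e3 q339 (flp_a L2989) q233, e3 q340 (flp_a L4352) q495, e3 q341 L3008 q341, e3 q342 L3016 q342, e3 q343 L3025 q237, e3 q344 (flp_a L4393) q500, e3 q345 L3042 q345, e3 q346 L3050 q346, e3 q347 L3059 q347, e3 q348 L3067 q348, e3 q349 L3078 q349, e3 q350 L3088 q350, e3 q351 L3097 q351, e3 q352 L3106 q352, e3 q353 L3116 q353, e3 q354 L3126 q354, e3 q355 L3135 q355, e3 q356 L3144 q356, e3 q357 L3154 q357, e3 q358 L3163 q358, e3 q359 L3174 q359, e3 q360 L3181 q360, e3 q361 L3189 q361, e3 q362 L3198 q362, e3 q363 L3207 q363, e3 q364 L3217 q364,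 e3 q365 L3227 q365, e3 q366 L3236 q366, e3 q367 L3245 q367, e3 q368 L3255 q368, e3 q369 L3266 q369, e3 q370 L3275 q370, e3 q371 L3283 q371, e3 q372 L3293 q372, e3 q373 L3303 q373, e3 q374 L3313 q374, e3 q375 L3320 q375, e3 q376 L3330 q376, e3 q377 L3342 q377, e3 q378 L3351 q378, e3 q379 L3359 q379, e3 q380 L4895 q551, e3 q381 L3375 q381, e3 q382 L3383 q382, e3 q383 L3392 q383, trivial⟩ (by decide +kernel)

theorem ce_a_6 : ∀ r, r < 64 → sm ga (Qf (384 + r)) = Qf (tab Gen.a (384 + r)) :=
  edges_tab (sm ga) Qf (tab Gen.a) 384 [(384, 384), (385, 385), (386, 293), (387, 294), (388, 295), (389, 296), (390, 297), (391, 298), (392, 299), (393, 300), (394, 301), (395, 302), (396, 303), (397, 304), (398, 305), (399, 306), (400, 307), (401, 308), (402, 309), (403, 310), (404, 311), (405, 312), (406, 313), (407, 591), (408, 315), (409, 316), (410, 317), (411, 318), (412, 319), (413, 601), (414, 321), (415, 322), (416, 283), (417, 606), (418, 325), (419, 326), (420, 327), (421, 328), (422, 329), (423, 613), (424, 331), (425, 332), (426,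 290), (427, 617), (428, 335), (429, 560), (430, 561), (431, 562), (432, 563), (433, 564), (434, 565), (435, 566), (436, 567), (437, 568), (438, 569), (439, 570), (440, 571), (441, 572), (442, 442), (443, 573), (444, 574), (445, 575), (446, 576), (447, 577)]
    ⟨e3 q384 L3400 q384, e3 q385 L3410 q385, e3 q386 L3419 q293, e3 q387 L3428 q294, e3 q388 L3437 q295, e3 q389 L3447 q296, e3 q390 L3457 q297, e3 q391 L3468 q298, e3 q392 L3476 q299, e3 q393 L3485 q300, e3 q394 L3494 q301, e3 q395 L3504 q302, e3 q396 L3513 q303, e3 q397 L3524 q304, e3 q398 L3531 q305, e3 q399 L3541 q306, e3 q400 L3550 q307, e3 q401 L3560 q308, e3 q402 L3569 q309, e3 q403 L3579 q310, e3 q404 L3589 q311, e3 q405 L3596 q312, e3 q406 L3606 q313, e3 q407 L5261 q591, e3 q408 L3623 q315, e3 q409 L3633 q316, e3 q410 L3641 q317, e3 q411 L3650 q318, e3 q412 L3660 q319, e3 q413 L5348 q601, e3 q414 L3676 q321, e3 q415 L3684 q322, e3 q416 (flp_a L3691) q283, e3 q417 (flp_a L5393) q606, e3 q418 L3710 q325, e3 q419 L3719 q326, e3 q420 L3727 q327, e3 q421 L3737 q328,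 e3 q422 L3747 q329, e3 q423 L5457 q613, e3 q424 L3766 q331, e3 q425 L3776 q332, e3 q426 (flp_a L3784) q290, e3 q427 (flp_a L5496) q617, e3 q428 L3805 q335, e3 q429 (flp_a L4976) q560, e3 q430 (flp_a L4985) q561, e3 q431 (flp_a L4995) q562, e3 q432 (flp_a L5006) q563, e3 q433 (flp_a L5014) q564, e3 q434 (flp_a L5023) q565, e3 q435 (flp_a L5032) q566, e3 q436 (flp_a L5041) q567, e3 q437 (flp_a L5051) q568, e3 q438 (flp_a L5061) q569, e3 q439 (flp_a L5071) q570, e3 q440 (flp_a L5080) q571, e3 q441 (flp_a L5091) q572, e3 q442 L3925 q442, e3 q443 (flp_a L5098) q573, e3 q444 (flp_a L5109) q574, e3 q445 (flp_a L5117) q575, e3 q446 (flp_a L5125) q576, e3 q447 (flp_a L5133) q577, trivial⟩ (by decide +kernel)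

theorem ce_a_7 : ∀ r, r < 64 → sm ga (Qf (448 + r)) = Qf (tab Gen.a (448 + r)) :=
  edges_tab (sm ga) Qf (tab Gen.a) 448 [(448, 578), (449, 579), (450, 580), (451, 581), (452, 582), (453, 583), (454, 584), (455, 657), (456, 586), (457, 587), (458, 662), (459, 589), (460, 590), (461, 314), (462, 667), (463, 593), (464, 594), (465, 595), (466, 596), (467, 597), (468, 676), (469, 599), (470, 600), (471, 320), (472, 681), (473, 603), (474, 604), (475, 605), (476, 324), (477, 688), (478, 608), (479, 609), (480, 691), (481, 611), (482, 612), (483, 330), (484, 696), (485, 615), (486, 616), (487, 334), (488, 701), (489, 619), (490, 336), (491, 702), (492, 492), (493, 493), (494, 494), (495, 340), (496, 708), (497, 709), (498, 498), (499, 499), (500, 344), (501, 501), (502, 502), (503, 503), (504, 504), (505, 505), (506, 506), (507, 507), (508, 508), (509, 509), (510, 510), (511, 511)]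
    ⟨e3 q448 (flp_a L5141) q578, e3 q449 (flp_a L5152) q579, e3 q450 (flp_a L5162) q580, e3 q451 (flp_a L5172) q581, e3 q452 (flp_a L5182) q582, e3 q453 (flp_a L5190) q583, e3 q454 (flp_a L5201) q584, e3 q455 L5840 q657, e3 q456 (flp_a L5217) q586, e3 q457 (flp_a L5226) q587, e3 q458 L5877 q662, e3 q459 (flp_a L5243) q589, e3 q460 (flp_a L5254) q590, e3 q461 (flp_a L4071) q314, e3 q462 (flp_a L5922) q667, e3 q463 (flp_a L5280) q593, e3 q464 (flp_a L5289) q594, e3 q465 (flp_a L5298) q595, e3 q466 (flp_a L5306) q596, e3 q467 (flp_a L5317) q597, e3 q468 L5993 q676, e3 q469 (flp_a L5334) q599, e3 q470 (flp_a L5343) q600, e3 q471 (flp_a L4148) q320, e3 q472 (flp_a L6034) q681, e3 q473 (flp_a L5366) q603, e3 q474 (flp_a L5375) q604, e3 q475 (flp_a L5385) q605, e3 q476 L4188 q324, e3 q477 (flp_a L6087) q688, e3 q478 (flp_a L5410) q608, e3 q479 (flp_a L5419) q609, e3 q480 L6109 q691, e3 q481 (flp_a L5437) q611, e3 q482 (flp_a L5448) q612, e3 q483 (flp_a L4247) q330, e3 q484 (flp_a L6158) q696, e3 q485 (flp_a L5478) q615, e3 q486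 (flp_a L5486) q616, e3 q487 L4282 q334, e3 q488 (flp_a L6198) q701, e3 q489 (flp_a L5514) q619, e3 q490 (flp_a L4303) q336, e3 q491 (flp_a L6227) q702, e3 q492 L4324 q492, e3 q493 L4333 q493, e3 q494 L4343 q494, e3 q495 L4352 q340, e3 q496 (flp_a L6283) q708, e3 q497 (flp_a L6292) q709, e3 q498 L4377 q498, e3 q499 L4385 q499, e3 q500 L4393 q344, e3 q501 L4426 q501, e3 q502 L4435 q502, e3 q503 L4445 q503, e3 q504 L4453 q504, e3 q505 L4462 q505, e3 q506 L4473 q506, e3 q507 L4483 q507, e3 q508 L4494 q508, e3 q509 L4504 q509, e3 q510 L4514 q510, e3 q511 L4525 q511, trivial⟩ (by decide +kernel)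

theorem ce_a_8 : ∀ r, r < 64 → sm ga (Qf (512 + r)) = Qf (tab Gen.a (512 + r)) :=
  edges_tab (sm ga) Qf (tab Gen.a) 512 [(512, 512), (513, 513), (514, 514), (515, 515), (516, 516), (517, 517), (518, 518), (519, 519), (520, 520), (521, 521), (522, 522), (523, 523), (524, 524), (525, 525), (526, 526), (527, 527), (528, 528), (529, 529), (530, 530), (531, 531), (532, 532), (533, 533), (534, 534), (535, 535), (536, 536), (537, 537), (538, 538), (539, 539), (540, 540), (541, 541), (542, 772), (543, 543), (544, 544), (545, 545), (546, 546), (547, 547), (548, 782), (549, 549), (550, 550), (551, 380), (552, 787), (553, 553), (554, 554), (555, 555), (556, 556), (557, 557), (558, 558), (559, 559), (560, 429), (561, 430), (562, 431), (563, 432), (564, 433), (565, 434), (566, 435), (567, 436), (568, 437), (569, 438), (570, 439), (571, 440), (572, 441), (573, 443), (574, 444), (575, 445)]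
    ⟨e3 q512 L4535 q512, e3 q513 L4544 q513, e3 q514 L4553 q514, e3 q515 L4564 q515, e3 q516 L4575 q516, e3 q517 L4583 q517, e3 q518 L4594 q518, e3 q519 L4602 q519, e3 q520 L4610 q520, e3 q521 L4618 q521, e3 q522 L4626 q522, e3 q523 L4635 q523, e3 q524 L4644 q524, e3 q525 L4654 q525, e3 q526 L4664 q526, e3 q527 L4675 q527, e3 q528 L4685 q528, e3 q529 L4694 q529, e3 q530 L4703 q530, e3 q531 L4714 q531, e3 q532 L4725 q532, e3 q533 L4733 q533, e3 q534 L4743 q534, e3 q535 L4752 q535, e3 q536 L4762 q536, e3 q537 L4772 q537, e3 q538 L4783 q538, e3 q539 L4791 q539, e3 q540 L4799 q540, e3 q541 L4807 q541, e3 q542 L6944 q772, e3 q543 L4826 q543, e3 q544 L4835 q544, e3 q545 L4844 q545, e3 q546 L4854 q546, e3 q547 L4862 q547, e3 q548 L7030 q782, e3 q549 L4880 q549, e3 q550 L4887 q550, e3 q551 (flp_a L4895) q380, e3 q552 (flp_a L7075) q787, e3 q553 L4915 q553, e3 q554 L4924 q554, e3 q555 L4931 q555, e3 q556 L4940 q556, e3 q557 L4948 q557, e3 q558 L4956 q558, e3 q559 L4966 q559, e3 q560 L4976 q429, e3 q561 L4985 q430, e3 q562 L4995 q431,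 e3 q563 L5006 q432, e3 q564 L5014 q433, e3 q565 L5023 q434, e3 q566 L5032 q435, e3 q567 L5041 q436, e3 q568 L5051 q437, e3 q569 L5061 q438, e3 q570 L5071 q439, e3 q571 L5080 q440, e3 q572 L5091 q441, e3 q573 L5098 q443, e3 q574 L5109 q444, e3 q575 L5117 q445, trivial⟩ (by decide +kernel)

theorem ce_a_9 : ∀ r, r < 64 → sm ga (Qf (576 + r)) = Qf (tab Gen.a (576 + r)) :=
  edges_tab (sm ga) Qf (tab Gen.a) 576 [(576, 446), (577, 447), (578, 448), (579, 449), (580, 450), (581, 451), (582, 452), (583, 453), (584, 454), (585, 835), (586, 456), (587, 457), (588, 840), (589, 459), (590, 460), (591, 407), (592, 845), (593, 463), (594, 464), (595, 465), (596, 466), (597, 467), (598, 854), (599, 469), (600, 470), (601, 413), (602, 859), (603, 473), (604, 474), (605, 475), (606, 417), (607, 866), (608, 478), (609, 479), (610, 869), (611, 481), (612, 482), (613, 423), (614, 874), (615, 485), (616, 486), (617, 427), (618, 879), (619, 489), (620, 799), (621, 800), (622, 801), (623, 802), (624, 803), (625, 804), (626, 805), (627, 806), (628,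 807), (629, 808), (630, 809), (631, 810), (632, 811), (633, 812), (634, 634), (635, 813), (636, 814), (637, 815), (638, 816), (639, 817)]
    ⟨e3 q576 L5125 q446, e3 q577 L5133 q447, e3 q578 L5141 q448, e3 q579 L5152 q449, e3 q580 L5162 q450, e3 q581 L5172 q451, e3 q582 L5182 q452, e3 q583 L5190 q453, e3 q584 L5201 q454, e3 q585 L7525 q835, e3 q586 L5217 q456, e3 q587 L5226 q457, e3 q588 L7567 q840, e3 q589 L5243 q459, e3 q590 L5254 q460, e3 q591 (flp_a L5261) q407, e3 q592 (flp_a L7617) q845, e3 q593 L5280 q463, e3 q594 L5289 q464, e3 q595 L5298 q465, e3 q596 L5306 q466, e3 q597 L5317 q467, e3 q598 L7695 q854, e3 q599 L5334 q469, e3 q600 L5343 q470, e3 q601 (flp_a L5348) q413, e3 q602 (flp_a L7741) q859, e3 q603 L5366 q473, e3 q604 L5375 q474, e3 q605 L5385 q475, e3 q606 L5393 q417, e3 q607 (flp_a L7801) q866, e3 q608 L5410 q478, e3 q609 L5419 q479, e3 q610 L7825 q869, e3 q611 L5437 q481, e3 q612 L5448 q482, e3 q613 (flp_a L5457) q423, e3 q614 (flp_a L7879) q874, e3 q615 L5478 q485, e3 q616 L5486 q486, e3 q617 L5496 q427,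 e3 q618 (flp_a L7923) q879, e3 q619 L5514 q489, e3 q620 (flp_a L7180) q799, e3 q621 (flp_a L7190) q800, e3 q622 (flp_a L7201) q801, e3 q623 (flp_a L7210) q802, e3 q624 (flp_a L7220) q803, e3 q625 (flp_a L7230) q804, e3 q626 (flp_a L7240) q805, e3 q627 (flp_a L7248) q806, e3 q628 (flp_a L7257) q807, e3 q629 (flp_a L7268) q808, e3 q630 (flp_a L7276) q809, e3 q631 (flp_a L7287) q810, e3 q632 (flp_a L7297) q811, e3 q633 (flp_a L7309) q812, e3 q634 L5646 q634, e3 q635 (flp_a L7317) q813, e3 q636 (flp_a L7328) q814, e3 q637 (flp_a L7336) q815, e3 q638 (flp_a L7344) q816, e3 q639 (flp_a L7352) q817, trivial⟩ (by decide +kernel)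

theorem ce_a_10 : ∀ r, r < 64 → sm ga (Qf (640 + r)) = Qf (tab Gen.a (640 + r)) :=
  edges_tab (sm ga) Qf (tab Gen.a) 640 [(640, 818), (641, 819), (642, 820), (643, 882), (644, 822), (645, 823), (646, 824), (647, 825), (648, 826), (649, 827), (650, 828), (651, 926), (652, 830), (653, 831), (654, 931), (655, 833), (656, 834), (657, 455), (658, 936), (659, 837), (660, 838), (661, 839), (662, 458), (663, 943), (664, 842), (665, 843), (666, 844), (667, 462), (668, 950), (669, 951), (670, 848), (671, 849), (672, 850), (673, 958), (674, 852), (675, 853), (676, 468), (677, 963), (678, 856), (679, 857), (680, 858), (681, 472), (682, 970), (683, 971), (684, 862), (685, 863), (686, 864), (687, 865), (688, 477), (689, 977), (690, 868), (691, 480), (692, 979), (693, 871), (694, 872), (695, 873), (696, 484), (697, 985), (698, 986), (699, 877), (700, 878), (701, 488), (702, 491), (703, 990)]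
    ⟨e3 q640 (flp_a L7372) q818, e3 q641 (flp_a L7381) q819, e3 q642 (flp_a L7390) q820, e3 q643 L594479 q882, e3 q644 (flp_a L7405) q822, e3 q645 (flp_a L7413) q823, e3 q646 (flp_a L7422) q824, e3 q647 (flp_a L7433) q825, e3 q648 (flp_a L7444) q826, e3 q649 (flp_a L7453) q827, e3 q650 (flp_a L7464) q828, e3 q651 L8357 q926, e3 q652 (flp_a L7481) q830, e3 q653 (flp_a L7491) q831, e3 q654 L8395 q931, e3 q655 (flp_a L7507) q833, e3 q656 (flp_a L7517) q834, e3 q657 (flp_a L5840) q455, e3 q658 (flp_a L8440) q936, e3 q659 (flp_a L7544) q837, e3 q660 (flp_a L7550) q838, e3 q661 (flp_a L7561) q839, e3 q662 (flp_a L5877) q458, e3 q663 (flp_a L8491) q943, e3 q664 (flp_a L7588) q842, e3 q665 (flp_a L7598) q843, e3 q666 (flp_a L7608) q844, e3 q667 L5922 q462, e3 q668 (flp_a L8552) q950, e3 q669 (flp_a L8560) q951, e3 q670 (flp_a L7642) q848, e3 q671 (flp_a L7651) q849, e3 q672 (flp_a L7660) q850, e3 q673 L8611 q958, e3 q674 (flp_a L7678) q852, e3 q675 (flp_a L7688) q853, e3 q676 (flp_a L5993) q468, e3 q677 (flp_a L8656) q963, e3 q678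 (flp_a L7714) q856, e3 q679 (flp_a L7724) q857, e3 q680 (flp_a L7732) q858, e3 q681 L6034 q472, e3 q682 (flp_a L8709) q970, e3 q683 (flp_a L8717) q971, e3 q684 (flp_a L7765) q862, e3 q685 (flp_a L7775) q863, e3 q686 (flp_a L7783) q864, e3 q687 (flp_a L7792) q865, e3 q688 L6087 q477, e3 q689 (flp_a L8787) q977, e3 q690 (flp_a L7817) q868, e3 q691 (flp_a L6109) q480, e3 q692 (flp_a L8804) q979, e3 q693 (flp_a L7848) q871, e3 q694 (flp_a L7857) q872, e3 q695 (flp_a L7868) q873, e3 q696 L6158 q484, e3 q697 (flp_a L8858) q985, e3 q698 (flp_a L8865) q986, e3 q699 (flp_a L7906) q877, e3 q700 (flp_a L7915) q878, e3 q701 L6198 q488, e3 q702 L6227 q491, e3 q703 (flp_a L8949) q990, trivial⟩ (by decide +kernel)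

theorem ce_a_11 : ∀ r, r < 64 → sm ga (Qf (704 + r)) = Qf (tab Gen.a (704 + r)) :=
  edges_tab (sm ga) Qf (tab Gen.a) 704 [(704, 991), (705, 705), (706, 706), (707, 707), (708, 496), (709, 497), (710, 997), (711, 711), (712, 712), (713, 713), (714, 714), (715, 715), (716, 716), (717, 717), (718, 718), (719, 719), (720, 720), (721, 721), (722, 722), (723, 723), (724, 724), (725, 725), (726, 726), (727, 727), (728, 728), (729, 729), (730, 730), (731, 731), (732, 732), (733, 733), (734, 734), (735, 735), (736, 736), (737, 737), (738, 738), (739, 739), (740, 1037), (741, 741), (742, 742), (743, 743), (744, 744), (745, 745), (746, 746), (747, 747), (748, 748), (749, 749), (750, 750), (751, 751), (752, 752), (753, 753), (754, 754), (755, 755), (756, 756), (757, 757), (758, 758), (759, 759), (760, 760), (761, 761), (762, 762), (763, 763), (764, 764), (765, 765), (766, 1075), (767, 767)]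
    ⟨e3 q704 (flp_a L8959) q991, e3 q705 L6255 q705, e3 q706 L6264 q706, e3 q707 L6273 q707, e3 q708 L6283 q496, e3 q709 L6292 q497, e3 q710 (flp_a L9049) q997, e3 q711 L6324 q711, e3 q712 L6332 q712, e3 q713 L6383 q713, e3 q714 L6392 q714, e3 q715 L6402 q715, e3 q716 L6412 q716, e3 q717 L6421 q717, e3 q718 L6430 q718, e3 q719 L6441 q719, e3 q720 L6451 q720, e3 q721 L6463 q721, e3 q722 L6474 q722, e3 q723 L6485 q723, e3 q724 L6495 q724, e3 q725 L6507 q725, e3 q726 L6513 q726, e3 q727 L6524 q727, e3 q728 L6534 q728, e3 q729 L6544 q729, e3 q730 L6555 q730, e3 q731 L6566 q731, e3 q732 L6574 q732, e3 q733 L6584 q733, e3 q734 L6593 q734, e3 q735 L6602 q735, e3 q736 L6608 q736, e3 q737 L6619 q737, e3 q738 L6628 q738, e3 q739 L6637 q739, e3 q740 L9511 q1037, e3 q741 L6654 q741, e3 q742 L6662 q742, e3 q743 L6669 q743, e3 q744 L6678 q744, e3 q745 L6688 q745, e3 q746 L6699 q746, e3 q747 L6709 q747, e3 q748 L6718 q748, e3 q749 L6727 q749, e3 q750 L6738 q750, e3 q751 L6748 q751, e3 q752 L6758 q752, e3 q753 L6769 q753, e3 q754 L6780 q754,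 e3 q755 L6788 q755, e3 q756 L6798 q756, e3 q757 L6807 q757, e3 q758 L6813 q758, e3 q759 L6822 q759, e3 q760 L6833 q760, e3 q761 L6844 q761, e3 q762 L6855 q762, e3 q763 L6863 q763, e3 q764 L6872 q764, e3 q765 L6881 q765, e3 q766 L9868 q1075, e3 q767 L6899 q767, trivial⟩ (by decide +kernel)

theorem ce_a_12 : ∀ r, r < 64 → sm ga (Qf (768 + r)) = Qf (tab Gen.a (768 + r)) :=
  edges_tab (sm ga) Qf (tab Gen.a) 768 [(768, 768), (769, 1080), (770, 770), (771, 771), (772, 542), (773, 1085), (774, 774), (775, 775), (776, 776), (777, 777), (778, 778), (779, 1095), (780, 780), (781, 781), (782, 548), (783, 1100), (784, 784), (785, 785), (786, 786), (787, 552), (788, 1107), (789, 1108), (790, 790), (791, 791), (792, 792), (793, 793), (794, 794), (795, 795), (796, 796), (797, 797), (798, 798), (799, 620), (800, 621), (801, 622), (802, 623), (803, 624), (804, 625), (805, 626), (806, 627), (807, 628), (808, 629), (809, 630), (810, 631), (811, 632), (812, 633), (813, 635), (814, 636), (815, 637), (816, 638), (817, 639), (818, 640), (819,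 641), (820, 642), (821, 1152), (822, 644), (823, 645), (824, 646), (825, 647), (826, 648), (827, 649), (828, 650), (829, 1165), (830, 652), (831, 653)]
    ⟨e3 q768 L6907 q768, e3 q769 L9910 q1080, e3 q770 L6926 q770, e3 q771 L6936 q771, e3 q772 (flp_a L6944) q542, e3 q773 (flp_a L9960) q1085, e3 q774 L6965 q774, e3 q775 L6971 q775, e3 q776 L6979 q776, e3 q777 L6988 q777, e3 q778 L6997 q778, e3 q779 L10046 q1095, e3 q780 L7016 q780, e3 q781 L7024 q781, e3 q782 (flp_a L7030) q548, e3 q783 (flp_a L10092) q1100, e3 q784 L7050 q784, e3 q785 L7057 q785, e3 q786 L7066 q786, e3 q787 L7075 q552, e3 q788 (flp_a L10150) q1107, e3 q789 (flp_a L10160) q1108, e3 q790 L7102 q790, e3 q791 L7111 q791, e3 q792 L7119 q792, e3 q793 L7126 q793, e3 q794 L7136 q794, e3 q795 L7144 q795, e3 q796 L7152 q796, e3 q797 L7160 q797, e3 q798 L7169 q798, e3 q799 L7180 q620, e3 q800 L7190 q621, e3 q801 L7201 q622, e3 q802 L7210 q623, e3 q803 L7220 q624, e3 q804 L7230 q625, e3 q805 L7240 q626, e3 q806 L7248 q627, e3 q807 L7257 q628, e3 q808 L7268 q629, e3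 q809 L7276 q630, e3 q810 L7287 q631, e3 q811 L7297 q632, e3 q812 L7309 q633, e3 q813 L7317 q635, e3 q814 L7328 q636, e3 q815 L7336 q637, e3 q816 L7344 q638, e3 q817 L7352 q639, e3 q818 L7372 q640, e3 q819 L7381 q641, e3 q820 L7390 q642, e3 q821 L10582 q1152, e3 q822 L7405 q644, e3 q823 L7413 q645, e3 q824 L7422 q646, e3 q825 L7433 q647, e3 q826 L7444 q648, e3 q827 L7453 q649, e3 q828 L7464 q650, e3 q829 L10700 q1165, e3 q830 L7481 q652, e3 q831 L7491 q653, trivial⟩ (by decide +kernel)

theorem ce_a_13 : ∀ r, r < 64 → sm ga (Qf (832 + r)) = Qf (tab Gen.a (832 + r)) :=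
  edges_tab (sm ga) Qf (tab Gen.a) 832 [(832, 1170), (833, 655), (834, 656), (835, 585), (836, 1175), (837, 659), (838, 660), (839, 661), (840, 588), (841, 1182), (842, 664), (843, 665), (844, 666), (845, 592), (846, 1189), (847, 1190), (848, 670), (849, 671), (850, 672), (851, 1197), (852, 674), (853, 675), (854, 598), (855, 1202), (856, 678), (857, 679), (858, 680), (859, 602), (860, 1209), (861, 1210), (862, 684), (863, 685), (864, 686), (865, 687), (866, 607), (867, 1219), (868, 690), (869, 610), (870, 1221), (871, 693), (872, 694), (873, 695), (874, 614), (875, 1227), (876, 1228), (877, 699), (878, 700), (879, 618), (880, 1235), (881, 1149), (882, 643), (883, 1122), (884, 1123), (885, 1124), (886, 1125), (887, 1126), (888, 1127), (889, 1128), (890, 1129), (891, 891), (892, 1130), (893, 1131), (894, 1132), (895, 1133)]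
    ⟨e3 q832 L10743 q1170, e3 q833 L7507 q655, e3 q834 L7517 q656, e3 q835 (flp_a L7525) q585, e3 q836 (flp_a L10793) q1175, e3 q837 L7544 q659, e3 q838 L7550 q660, e3 q839 L7561 q661, e3 q840 (flp_a L7567) q588, e3 q841 (flp_a L10851) q1182, e3 q842 L7588 q664, e3 q843 L7598 q665, e3 q844 L7608 q666, e3 q845 L7617 q592, e3 q846 (flp_a L10919) q1189, e3 q847 (flp_a L10929) q1190, e3 q848 L7642 q670, e3 q849 L7651 q671, e3 q850 L7660 q672, e3 q851 L10985 q1197, e3 q852 L7678 q674, e3 q853 L7688 q675, e3 q854 (flp_a L7695) q598, e3 q855 (flp_a L11035) q1202, e3 q856 L7714 q678, e3 q857 L7724 q679, e3 q858 L7732 q680, e3 q859 L7741 q602, e3 q860 (flp_a L11095) q1209, e3 q861 (flp_a L11105) q1210, e3 q862 L7765 q684, e3 q863 L7775 q685, e3 q864 L7783 q686, e3 q865 L7792 q687, e3 q866 L7801 q607, e3 q867 (flp_a L11182) q1219, e3 q868 L7817 q690, e3 q869 (flp_a L7825) q610, e3 q870 (flp_a L11199) q1221, e3 q871 L7848 q693, e3 q872 L7857 q694, e3 q873 L7868 q695, e3 q874 L7879 q614, e3 q875 (flp_a L11259) q1227, e3 q876 (flp_a L11268)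 q1228, e3 q877 L7906 q699, e3 q878 L7915 q700, e3 q879 L7923 q618, e3 q880 (flp_a L11327) q1235, e3 q881 L594444 q1149, e3 q882 (flp_a L594479) q643, e3 q883 (flp_a L10278) q1122, e3 q884 (flp_a L10287) q1123, e3 q885 (flp_a L10297) q1124, e3 q886 (flp_a L10307) q1125, e3 q887 (flp_a L10318) q1126, e3 q888 (flp_a L10327) q1127, e3 q889 (flp_a L10337) q1128, e3 q890 (flp_a L10349) q1129, e3 q891 L8030 q891, e3 q892 (flp_a L10358) q1130, e3 q893 (flp_a L10368) q1131, e3 q894 (flp_a L10379) q1132, e3 q895 (flp_a L10388) q1133, trivial⟩ (by decide +kernel)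

theorem ce_a_14 : ∀ r, r < 64 → sm ga (Qf (896 + r)) = Qf (tab Gen.a (896 + r)) :=
  edges_tab (sm ga) Qf (tab Gen.a) 896 [(896, 1134), (897, 1135), (898, 1136), (899, 899), (900, 1137), (901, 1138), (902, 1139), (903, 1140), (904, 1141), (905, 1142), (906, 1143), (907, 1144), (908, 1234), (909, 1146), (910, 1147), (911, 1148), (912, 1150), (913, 1151), (914, 1217), (915, 1154), (916, 1155), (917, 1156), (918, 1157), (919, 1158), (920, 1286), (921, 1160), (922, 1161), (923, 1291), (924, 1163), (925, 1164), (926, 651), (927, 1296), (928, 1167), (929, 1168), (930, 1169), (931, 654), (932, 1303), (933, 1172), (934, 1173), (935, 1174), (936, 658), (937, 1310), (938, 1311), (939, 1178), (940, 1179), (941, 1180), (942, 1181), (943, 663), (944, 1318), (945, 1319), (946, 1185), (947, 1186), (948, 1187), (949, 1188), (950, 668), (951, 669), (952, 1328), (953, 1329), (954, 1330), (955, 1194), (956, 1195), (957, 1196), (958, 673), (959, 1337)]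
    ⟨e3 q896 (flp_a L10396) q1134, e3 q897 (flp_a L10405) q1135, e3 q898 (flp_a L10414) q1136, e3 q899 L8091 q899, e3 q900 (flp_a L10421) q1137, e3 q901 (flp_a L10433) q1138, e3 q902 (flp_a L10442) q1139, e3 q903 (flp_a L10451) q1140, e3 q904 (flp_a L10460) q1141, e3 q905 (flp_a L10481) q1142, e3 q906 (flp_a L10490) q1143, e3 q907 (flp_a L10499) q1144, e3 q908 L598118 q1234, e3 q909 (flp_a L10515) q1146, e3 q910 (flp_a L10524) q1147, e3 q911 (flp_a L10549) q1148, e3 q912 (flp_a L10565) q1150, e3 q913 (flp_a L10574) q1151, e3 q914 L598209 q1217, e3 q915 (flp_a L10598) q1154, e3 q916 (flp_a L10606) q1155, e3 q917 (flp_a L10615) q1156, e3 q918 (flp_a L10623) q1157, e3 q919 (flp_a L10635) q1158, e3 q920 L11891 q1286, e3 q921 (flp_a L10654) q1160, e3 q922 (flp_a L10665) q1161, e3 q923 L11933 q1291, e3 q924 (flp_a L10683) q1163, e3 q925 (flp_a L10694) q1164, e3 q926 (flp_a L8357) q651, e3 q927 (flp_a L11979) q1296, e3 q928 (flp_a L10720) q1167, e3 q929 (flp_a L10727) q1168, e3 q930 (flp_a L10736) q1169, e3 q931 (flp_a L8395) q654,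 e3 q932 (flp_a L12031) q1303, e3 q933 (flp_a L10764) q1172, e3 q934 (flp_a L10772) q1173, e3 q935 (flp_a L10784) q1174, e3 q936 L8440 q658, e3 q937 (flp_a L12089) q1310, e3 q938 (flp_a L12095) q1311, e3 q939 (flp_a L10817) q1178, e3 q940 (flp_a L10824) q1179, e3 q941 (flp_a L10832) q1180, e3 q942 (flp_a L10842) q1181, e3 q943 L8491 q663, e3 q944 (flp_a L12166) q1318, e3 q945 (flp_a L12175) q1319, e3 q946 (flp_a L10879) q1185, e3 q947 (flp_a L10889) q1186, e3 q948 (flp_a L10899) q1187, e3 q949 (flp_a L10909) q1188, e3 q950 L8552 q668, e3 q951 L8560 q669, e3 q952 (flp_a L12252) q1328, e3 q953 (flp_a L12261) q1329, e3 q954 (flp_a L12269) q1330, e3 q955 (flp_a L10960) q1194, e3 q956 (flp_a L10968) q1195, e3 q957 (flp_a L10977) q1196, e3 q958 (flp_a L8611) q673, e3 q959 (flp_a L12323) q1337, trivial⟩ (by decide +kernel)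

theorem ce_a_15 : ∀ r, r < 64 → sm ga (Qf (960 + r)) = Qf (tab Gen.a (960 + r)) :=
  edges_tab (sm ga) Qf (tab Gen.a) 960 [(960, 1199), (961, 1200), (962, 1201), (963, 677), (964, 1344), (965, 1345), (966, 1205), (967, 1206), (968, 1207), (969, 1208), (970, 682), (971, 683), (972, 1352), (973, 1353), (974, 1215), (975, 1216), (976, 1218), (977, 689), (978, 1358), (979, 692), (980, 1359), (981, 1360), (982, 1224), (983, 1225), (984, 1226), (985, 697), (986, 698), (987, 1366), (988, 1232), (989, 1233), (990, 703), (991, 704), (992, 1369), (993, 1370), (994, 994), (995, 995), (996, 996), (997, 710), (998, 1376), (999, 999), (1000, 1000), (1001, 1001), (1002, 1002), (1003, 1003), (1004, 1004), (1005, 1005), (1006, 1006), (1007, 1007), (1008, 1008), (1009, 1009), (1010, 1010), (1011, 1011), (1012, 1012), (1013, 1013), (1014, 1014), (1015, 1015), (1016, 1016), (1017, 1017), (1018, 1018), (1019, 1019), (1020, 1020), (1021, 1021), (1022, 1022), (1023, 1023)]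
    ⟨e3 q960 (flp_a L11006) q1199, e3 q961 (flp_a L11017) q1200, e3 q962 (flp_a L11027) q1201, e3 q963 L8656 q677, e3 q964 (flp_a L12383) q1344, e3 q965 (flp_a L12392) q1345, e3 q966 (flp_a L11059) q1205, e3 q967 (flp_a L11067) q1206, e3 q968 (flp_a L11076) q1207, e3 q969 (flp_a L11086) q1208, e3 q970 L8709 q682, e3 q971 L8717 q683, e3 q972 (flp_a L12477) q1352, e3 q973 (flp_a L12493) q1353, e3 q974 (flp_a L11145) q1215, e3 q975 (flp_a L11154) q1216, e3 q976 (flp_a L11172) q1218, e3 q977 L8787 q689, e3 q978 (flp_a L12573) q1358, e3 q979 L8804 q692, e3 q980 (flp_a L12582) q1359, e3 q981 (flp_a L12590) q1360, e3 q982 (flp_a L11229) q1224, e3 q983 (flp_a L11239) q1225, e3 q984 (flp_a L11248) q1226, e3 q985 L8858 q697, e3 q986 L8865 q698, e3 q987 (flp_a L12678) q1366, e3 q988 (flp_a L11301) q1232, e3 q989 (flp_a L11309) q1233, e3 q990 L8949 q703, e3 q991 L8959 q704, e3 q992 (flp_a L12795) q1369, e3 q993 (flp_a L12815) q1370, e3 q994 L9004 q994, e3 q995 L9013 q995, e3 q996 L9022 q996, e3 q997 L9049 q710, e3 q998 (flp_a L12941)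 q1376, e3 q999 L9107 q999, e3 q1000 L9166 q1000, e3 q1001 L9175 q1001, e3 q1002 L9185 q1002, e3 q1003 L9195 q1003, e3 q1004 L9206 q1004, e3 q1005 L9215 q1005, e3 q1006 L9224 q1006, e3 q1007 L9233 q1007, e3 q1008 L9245 q1008, e3 q1009 L9256 q1009, e3 q1010 L9267 q1010, e3 q1011 L9277 q1011, e3 q1012 L9289 q1012, e3 q1013 L9300 q1013, e3 q1014 L9312 q1014, e3 q1015 L9318 q1015, e3 q1016 L9327 q1016, e3 q1017 L9334 q1017, e3 q1018 L9341 q1018, e3 q1019 L9353 q1019, e3 q1020 L9365 q1020, e3 q1021 L9374 q1021, e3 q1022 L9384 q1022, e3 q1023 L9393 q1023, trivial⟩ (by decide +kernel)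

theorem ce_a_16 : ∀ r, r < 64 → sm ga (Qf (1024 + r)) = Qf (tab Gen.a (1024 + r)) :=
  edges_tab (sm ga) Qf (tab Gen.a) 1024 [(1024, 1024), (1025, 1025), (1026, 1026), (1027, 1027), (1028, 1418), (1029, 1029), (1030, 1030), (1031, 1031), (1032, 1032), (1033, 1033), (1034, 1428), (1035, 1035), (1036, 1036), (1037, 740), (1038, 1433), (1039, 1039), (1040, 1040), (1041, 1041), (1042, 1042), (1043, 1043), (1044, 1044), (1045, 1045), (1046, 1046), (1047, 1047), (1048, 1048), (1049, 1049), (1050, 1050), (1051, 1051), (1052, 1052), (1053, 1053), (1054, 1054), (1055, 1055), (1056, 1056), (1057, 1057), (1058, 1058), (1059, 1059), (1060, 1060), (1061, 1467), (1062, 1062), (1063, 1063), (1064, 1064), (1065, 1065), (1066, 1066), (1067, 1067), (1068, 1068), (1069, 1480), (1070, 1070), (1071, 1071), (1072, 1485), (1073, 1073), (1074, 1074), (1075, 766), (1076, 1490), (1077, 1077), (1078, 1078), (1079, 1079), (1080, 769), (1081, 1497), (1082, 1082), (1083, 1083), (1084, 1084), (1085, 773), (1086, 1504), (1087, 1505)]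
    ⟨e3 q1024 L9402 q1024, e3 q1025 L9409 q1025, e3 q1026 L9419 q1026, e3 q1027 L9429 q1027, e3 q1028 L13444 q1418, e3 q1029 L9445 q1029, e3 q1030 L9452 q1030, e3 q1031 L9460 q1031, e3 q1032 L9469 q1032, e3 q1033 L9478 q1033, e3 q1034 L13529 q1428, e3 q1035 L9496 q1035, e3 q1036 L9505 q1036, e3 q1037 (flp_a L9511) q740, e3 q1038 (flp_a L13576) q1433, e3 q1039 L9530 q1039, e3 q1040 L9538 q1040, e3 q1041 L9545 q1041, e3 q1042 L9552 q1042, e3 q1043 L9562 q1043, e3 q1044 L9573 q1044, e3 q1045 L9584 q1045, e3 q1046 L9594 q1046, e3 q1047 L9604 q1047, e3 q1048 L9614 q1048, e3 q1049 L9625 q1049, e3 q1050 L9636 q1050, e3 q1051 L9645 q1051, e3 q1052 L9657 q1052, e3 q1053 L9669 q1053, e3 q1054 L9678 q1054, e3 q1055 L9688 q1055, e3 q1056 L9697 q1056, e3 q1057 L9703 q1057, e3 q1058 L9713 q1058, e3 q1059 L9723 q1059, e3 q1060 L9730 q1060, e3 q1061 L13887 q1467, e3 q1062 L9747 q1062, e3 q1063 L9754 q1063, e3 q1064 L9764 q1064, e3 q1065 L9776 q1065, e3 q1066 L9785 q1066, e3 q1067 L9795 q1067, e3 q1068 L9804 q1068, e3 q1069 L14006 q1480,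 e3 q1070 L9823 q1070, e3 q1071 L9832 q1071, e3 q1072 L14049 q1485, e3 q1073 L9850 q1073, e3 q1074 L9859 q1074, e3 q1075 (flp_a L9868) q766, e3 q1076 (flp_a L14099) q1490, e3 q1077 L9889 q1077, e3 q1078 L9893 q1078, e3 q1079 L9903 q1079, e3 q1080 (flp_a L9910) q769, e3 q1081 (flp_a L14156) q1497, e3 q1082 L9933 q1082, e3 q1083 L9941 q1083, e3 q1084 L9950 q1084, e3 q1085 L9960 q773, e3 q1086 (flp_a L14222) q1504, e3 q1087 (flp_a L14229) q1505, trivial⟩ (by decide +kernel)

theorem ce_a_17 : ∀ r, r < 64 → sm ga (Qf (1088 + r)) = Qf (tab Gen.a (1088 + r)) :=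
  edges_tab (sm ga) Qf (tab Gen.a) 1088 [(1088, 1088), (1089, 1089), (1090, 1090), (1091, 1091), (1092, 1515), (1093, 1093), (1094, 1094), (1095, 779), (1096, 1520), (1097, 1097), (1098, 1098), (1099, 1099), (1100, 783), (1101, 1527), (1102, 1528), (1103, 1103), (1104, 1104), (1105, 1105), (1106, 1106), (1107, 788), (1108, 789), (1109, 1538), (1110, 1539), (1111, 1540), (1112, 1112), (1113, 1113), (1114, 1114), (1115, 1115), (1116, 1116), (1117, 1117), (1118, 1118), (1119, 1119), (1120, 1120), (1121, 1121), (1122, 883), (1123, 884), (1124, 885), (1125, 886), (1126, 887), (1127, 888), (1128, 889), (1129, 890), (1130, 892), (1131, 893), (1132, 894), (1133, 895), (1134, 896), (1135, 897), (1136, 898), (1137, 900), (1138, 901), (1139, 902), (1140, 903), (1141, 904), (1142, 905), (1143, 906), (1144, 907), (1145, 1589), (1146, 909), (1147, 910), (1148, 911), (1149, 881), (1150, 912), (1151, 913)]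
    ⟨e3 q1088 L9986 q1088, e3 q1089 L9993 q1089, e3 q1090 L10001 q1090, e3 q1091 L10009 q1091, e3 q1092 L14306 q1515, e3 q1093 L10029 q1093, e3 q1094 L10038 q1094, e3 q1095 (flp_a L10046) q779, e3 q1096 (flp_a L14356) q1520, e3 q1097 L10067 q1097, e3 q1098 L10075 q1098, e3 q1099 L10082 q1099, e3 q1100 L10092 q783, e3 q1101 (flp_a L14415) q1527, e3 q1102 (flp_a L14423) q1528, e3 q1103 L10118 q1103, e3 q1104 L10126 q1104, e3 q1105 L10132 q1105, e3 q1106 L10140 q1106, e3 q1107 L10150 q788, e3 q1108 L10160 q789, e3 q1109 (flp_a L14504) q1538, e3 q1110 (flp_a L14514) q1539, e3 q1111 (flp_a L14523) q1540, e3 q1112 L10194 q1112, e3 q1113 L10202 q1113, e3 q1114 L10211 q1114, e3 q1115 L10219 q1115, e3 q1116 L10228 q1116, e3 q1117 L10236 q1117, e3 q1118 L10244 q1118, e3 q1119 L10252 q1119, e3 q1120 L10261 q1120, e3 q1121 L10269 q1121, e3 q1122 L10278 q883, e3 q1123 L10287 q884, e3 q1124 L10297 q885, e3 q1125 L10307 q886, e3 q1126 L10318 q887, e3 q1127 L10327 q888, e3 q1128 L10337 q889, e3 q1129 L10349 q890, e3 q1130 L10358 q892, e3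 q1131 L10368 q893, e3 q1132 L10379 q894, e3 q1133 L10388 q895, e3 q1134 L10396 q896, e3 q1135 L10405 q897, e3 q1136 L10414 q898, e3 q1137 L10421 q900, e3 q1138 L10433 q901, e3 q1139 L10442 q902, e3 q1140 L10451 q903, e3 q1141 L10460 q904, e3 q1142 L10481 q905, e3 q1143 L10490 q906, e3 q1144 L10499 q907, e3 q1145 L15011 q1589, e3 q1146 L10515 q909, e3 q1147 L10524 q910, e3 q1148 L10549 q911, e3 q1149 (flp_a L594444) q881, e3 q1150 L10565 q912, e3 q1151 L10574 q913, trivial⟩ (by decide +kernel)

theorem ce_a_18 : ∀ r, r < 64 → sm ga (Qf (1152 + r)) = Qf (tab Gen.a (1152 + r)) :=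
  edges_tab (sm ga) Qf (tab Gen.a) 1152 [(1152, 821), (1153, 1599), (1154, 915), (1155, 916), (1156, 917), (1157, 918), (1158, 919), (1159, 1609), (1160, 921), (1161, 922), (1162, 1614), (1163, 924), (1164, 925), (1165, 829), (1166, 1619), (1167, 928), (1168, 929), (1169, 930), (1170, 832), (1171, 1626), (1172, 933), (1173, 934), (1174, 935), (1175, 836), (1176, 1633), (1177, 1634), (1178, 939), (1179, 940), (1180, 941), (1181, 942), (1182, 841), (1183, 1644), (1184, 1645), (1185, 946), (1186, 947), (1187, 948), (1188, 949), (1189, 846), (1190, 847), (1191, 1654), (1192, 1655), (1193, 1656), (1194, 955), (1195, 956), (1196, 957), (1197, 851), (1198, 1663), (1199, 960), (1200, 961), (1201, 962), (1202, 855), (1203, 1670), (1204, 1671), (1205, 966), (1206, 967), (1207, 968), (1208, 969), (1209, 860), (1210, 861), (1211, 1681), (1212, 1682), (1213, 1595), (1214, 1683), (1215, 974)]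
    ⟨e3 q1152 (flp_a L10582) q821, e3 q1153 (flp_a L15144) q1599, e3 q1154 L10598 q915, e3 q1155 L10606 q916, e3 q1156 L10615 q917, e3 q1157 L10623 q918, e3 q1158 L10635 q919, e3 q1159 L15230 q1609, e3 q1160 L10654 q921, e3 q1161 L10665 q922, e3 q1162 L15277 q1614, e3 q1163 L10683 q924, e3 q1164 L10694 q925, e3 q1165 (flp_a L10700) q829, e3 q1166 (flp_a L15328) q1619, e3 q1167 L10720 q928, e3 q1168 L10727 q929, e3 q1169 L10736 q930, e3 q1170 (flp_a L10743) q832, e3 q1171 (flp_a L15387) q1626, e3 q1172 L10764 q933, e3 q1173 L10772 q934, e3 q1174 L10784 q935, e3 q1175 L10793 q836, e3 q1176 (flp_a L15452) q1633, e3 q1177 (flp_a L15460) q1634, e3 q1178 L10817 q939, e3 q1179 L10824 q940, e3 q1180 L10832 q941, e3 q1181 L10842 q942, e3 q1182 L10851 q841, e3 q1183 (flp_a L15540) q1644, e3 q1184 (flp_a L15551) q1645, e3 q1185 L10879 q946, e3 q1186 L10889 q947, e3 q1187 L10899 q948, e3 q1188 L10909 q949, e3 q1189 L10919 q846, e3 q1190 L10929 q847, e3 q1191 (flp_a L15635) q1654, e3 q1192 (flp_a L15643) q1655, e3 q1193 (flp_a L15653)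 q1656, e3 q1194 L10960 q955, e3 q1195 L10968 q956, e3 q1196 L10977 q957, e3 q1197 (flp_a L10985) q851, e3 q1198 (flp_a L15710) q1663, e3 q1199 L11006 q960, e3 q1200 L11017 q961, e3 q1201 L11027 q962, e3 q1202 L11035 q855, e3 q1203 (flp_a L15777) q1670, e3 q1204 (flp_a L15788) q1671, e3 q1205 L11059 q966, e3 q1206 L11067 q967, e3 q1207 L11076 q968, e3 q1208 L11086 q969, e3 q1209 L11095 q860, e3 q1210 L11105 q861, e3 q1211 (flp_a L15873) q1681, e3 q1212 (flp_a L15881) q1682, e3 q1213 L594145 q1595, e3 q1214 (flp_a L15901) q1683, e3 q1215 L11145 q974, trivial⟩ (by decide +kernel)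

theorem ce_a_19 : ∀ r, r < 64 → sm ga (Qf (1216 + r)) = Qf (tab Gen.a (1216 + r)) :=
  edges_tab (sm ga) Qf (tab Gen.a) 1216 [(1216, 975), (1217, 914), (1218, 976), (1219, 867), (1220, 1692), (1221, 870), (1222, 1693), (1223, 1694), (1224, 982), (1225, 983), (1226, 984), (1227, 875), (1228, 876), (1229, 1703), (1230, 1704), (1231, 1586), (1232, 988), (1233, 989), (1234, 908), (1235, 880), (1236, 1464), (1237, 1558), (1238, 1559), (1239, 1560), (1240, 1561), (1241, 1562), (1242, 1242), (1243, 1563), (1244, 1564), (1245, 1565), (1246, 1566), (1247, 1567), (1248, 1568), (1249, 1569), (1250, 1250), (1251, 1570), (1252, 1571), (1253, 1572), (1254, 1573), (1255, 1574), (1256, 1575), (1257, 1710), (1258, 1577), (1259, 1578), (1260, 1579), (1261, 1580), (1262, 1581), (1263, 1702), (1264, 1583), (1265, 1584), (1266, 1585), (1267, 1587), (1268, 1588), (1269, 1679), (1270, 1591), (1271, 1592), (1272, 1593), (1273, 1594), (1274, 1596), (1275, 1597), (1276, 1598), (1277, 1642), (1278, 1691), (1279, 1602)]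
    ⟨e3 q1216 L11154 q975, e3 q1217 (flp_a L598209) q914, e3 q1218 L11172 q976, e3 q1219 L11182 q867, e3 q1220 (flp_a L15986) q1692, e3 q1221 L11199 q870, e3 q1222 (flp_a L15996) q1693, e3 q1223 (flp_a L16006) q1694, e3 q1224 L11229 q982, e3 q1225 L11239 q983, e3 q1226 L11248 q984, e3 q1227 L11259 q875, e3 q1228 L11268 q876, e3 q1229 (flp_a L16092) q1703, e3 q1230 (flp_a L16100) q1704, e3 q1231 L594356 q1586, e3 q1232 L11301 q988, e3 q1233 L11309 q989, e3 q1234 (flp_a L598118) q908, e3 q1235 L11327 q880, e3 q1236 (flp_a L593288) q1464, e3 q1237 (flp_a L14679) q1558, e3 q1238 (flp_a L14690) q1559, e3 q1239 (flp_a L14699) q1560, e3 q1240 (flp_a L14709) q1561, e3 q1241 (flp_a L14721) q1562, e3 q1242 L11409 q1242, e3 q1243 (flp_a L14730) q1563, e3 q1244 (flp_a L14741) q1564, e3 q1245 (flp_a L14753) q1565, e3 q1246 (flp_a L14763) q1566, e3 q1247 (flp_a L14772) q1567, e3 q1248 (flp_a L14782) q1568, e3 q1249 (flp_a L14792) q1569, e3 q1250 L11471 q1250, e3 q1251 (flp_a L14800) q1570, e3 q1252 (flp_a L14809) q1571, e3 q1253 (flp_a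 L14831) q1572, e3 q1254 (flp_a L14840) q1573, e3 q1255 (flp_a L14850) q1574, e3 q1256 (flp_a L14860) q1575, e3 q1257 (flp_a L597572) q1710, e3 q1258 (flp_a L14875) q1577, e3 q1259 (flp_a L14883) q1578, e3 q1260 (flp_a L14903) q1579, e3 q1261 (flp_a L14913) q1580, e3 q1262 (flp_a L14923) q1581, e3 q1263 L598082 q1702, e3 q1264 (flp_a L14941) q1583, e3 q1265 (flp_a L14951) q1584, e3 q1266 (flp_a L14978) q1585, e3 q1267 (flp_a L14995) q1587, e3 q1268 (flp_a L15005) q1588, e3 q1269 (flp_a L598127) q1679, e3 q1270 (flp_a L15028) q1591, e3 q1271 (flp_a L15037) q1592, e3 q1272 (flp_a L15044) q1593, e3 q1273 (flp_a L15089) q1594, e3 q1274 (flp_a L15115) q1596, e3 q1275 (flp_a L15125) q1597, e3 q1276 (flp_a L15135) q1598, e3 q1277 (flp_a L598229) q1642, e3 q1278 L598244 q1691, e3 q1279 (flp_a L15165) q1602, trivial⟩ (by decide +kernel)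

theorem ce_a_20 : ∀ r, r < 64 → sm ga (Qf (1280 + r)) = Qf (tab Gen.a (1280 + r)) :=
  edges_tab (sm ga) Qf (tab Gen.a) 1280 [(1280, 1603), (1281, 1604), (1282, 1605), (1283, 1771), (1284, 1607), (1285, 1608), (1286, 920), (1287, 1776), (1288, 1611), (1289, 1612), (1290, 1613), (1291, 923), (1292, 1783), (1293, 1616), (1294, 1617), (1295, 1618), (1296, 927), (1297, 1790), (1298, 1791), (1299, 1622), (1300, 1623), (1301, 1624), (1302, 1625), (1303, 932), (1304, 1798), (1305, 1799), (1306, 1629), (1307, 1630), (1308, 1631), (1309, 1632), (1310, 937), (1311, 938), (1312, 1806), (1313, 1807), (1314, 1639), (1315, 1640), (1316, 1641), (1317, 1643), (1318, 944), (1319, 945), (1320, 1815), (1321, 1816), (1322, 1817), (1323, 1818), (1324, 1650), (1325, 1651), (1326, 1652), (1327, 1653), (1328, 952), (1329, 953), (1330, 954), (1331, 1830), (1332, 1831), (1333, 1832), (1334, 1833), (1335, 1661), (1336, 1662), (1337, 959), (1338, 1840), (1339, 1841), (1340, 1666), (1341, 1667), (1342, 1668), (1343, 1669)]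
    ⟨e3 q1280 (flp_a L15174) q1603, e3 q1281 (flp_a L15183) q1604, e3 q1282 (flp_a L15191) q1605, e3 q1283 L16991 q1771, e3 q1284 (flp_a L15210) q1607, e3 q1285 (flp_a L15222) q1608, e3 q1286 (flp_a L11891) q920, e3 q1287 (flp_a L17041) q1776, e3 q1288 (flp_a L15252) q1611, e3 q1289 (flp_a L15260) q1612, e3 q1290 (flp_a L15271) q1613, e3 q1291 (flp_a L11933) q923, e3 q1292 (flp_a L17100) q1783, e3 q1293 (flp_a L15299) q1616, e3 q1294 (flp_a L15308) q1617, e3 q1295 (flp_a L15318) q1618, e3 q1296 L11979 q927, e3 q1297 (flp_a L17159) q1790, e3 q1298 (flp_a L17166) q1791, e3 q1299 (flp_a L15352) q1622, e3 q1300 (flp_a L15358) q1623, e3 q1301 (flp_a L15367) q1624, e3 q1302 (flp_a L15378) q1625, e3 q1303 L12031 q932, e3 q1304 (flp_a L17237) q1798, e3 q1305 (flp_a L17245) q1799, e3 q1306 (flp_a L15415) q1629, e3 q1307 (flp_a L15424) q1630, e3 q1308 (flp_a L15431) q1631, e3 q1309 (flp_a L15442) q1632, e3 q1310 L12089 q937, e3 q1311 L12095 q938, e3 q1312 (flp_a L17333) q1806, e3 q1313 (flp_a L17348) q1807, e3 q1314 (flp_a L15498)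 q1639, e3 q1315 (flp_a L15506) q1640, e3 q1316 (flp_a L15512) q1641, e3 q1317 (flp_a L15529) q1643, e3 q1318 L12166 q944, e3 q1319 L12175 q945, e3 q1320 (flp_a L17441) q1815, e3 q1321 (flp_a L17451) q1816, e3 q1322 (flp_a L17460) q1817, e3 q1323 (flp_a L17469) q1818, e3 q1324 (flp_a L15595) q1650, e3 q1325 (flp_a L15604) q1651, e3 q1326 (flp_a L15614) q1652, e3 q1327 (flp_a L15624) q1653, e3 q1328 L12252 q952, e3 q1329 L12261 q953, e3 q1330 L12269 q954, e3 q1331 (flp_a L17572) q1830, e3 q1332 (flp_a L17581) q1831, e3 q1333 (flp_a L17588) q1832, e3 q1334 (flp_a L17596) q1833, e3 q1335 (flp_a L15692) q1661, e3 q1336 (flp_a L15700) q1662, e3 q1337 L12323 q959, e3 q1338 (flp_a L17650) q1840, e3 q1339 (flp_a L17660) q1841, e3 q1340 (flp_a L15738) q1666, e3 q1341 (flp_a L15748) q1667, e3 q1342 (flp_a L15758) q1668, e3 q1343 (flp_a L15767) q1669, trivial⟩ (by decide +kernel)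

theorem ce_a_21 : ∀ r, r < 64 → sm ga (Qf (1344 + r)) = Qf (tab Gen.a (1344 + r)) :=
  edges_tab (sm ga) Qf (tab Gen.a) 1344 [(1344, 964), (1345, 965), (1346, 1848), (1347, 1849), (1348, 1676), (1349, 1677), (1350, 1678), (1351, 1680), (1352, 972), (1353, 973), (1354, 1857), (1355, 1858), (1356, 1689), (1357, 1690), (1358, 978), (1359, 980), (1360, 981), (1361, 1861), (1362, 1862), (1363, 1699), (1364, 1700), (1365, 1701), (1366, 987), (1367, 1868), (1368, 1709), (1369, 992), (1370, 993), (1371, 1870), (1372, 1871), (1373, 1373), (1374, 1374), (1375, 1375), (1376, 998), (1377, 1377), (1378, 1378), (1379, 1379), (1380, 1380), (1381, 1381), (1382, 1382), (1383, 1383), (1384, 1384), (1385, 1385), (1386, 1386), (1387, 1387), (1388, 1388), (1389, 1389), (1390, 1390), (1391, 1391), (1392, 1392), (1393, 1393), (1394, 1394), (1395, 1395), (1396, 1396), (1397, 1397), (1398, 1398), (1399, 1399), (1400, 1907), (1401, 1401), (1402, 1402), (1403, 1403), (1404, 1404), (1405, 1405), (1406, 1406), (1407, 1407)]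
    ⟨e3 q1344 L12383 q964, e3 q1345 L12392 q965, e3 q1346 (flp_a L17756) q1848, e3 q1347 (flp_a L17771) q1849, e3 q1348 (flp_a L15827) q1676, e3 q1349 (flp_a L15836) q1677, e3 q1350 (flp_a L15846) q1678, e3 q1351 (flp_a L15863) q1680, e3 q1352 L12477 q972, e3 q1353 L12493 q973, e3 q1354 (flp_a L17900) q1857, e3 q1355 (flp_a L17924) q1858, e3 q1356 (flp_a L15958) q1689, e3 q1357 (flp_a L15968) q1690, e3 q1358 L12573 q978, e3 q1359 L12582 q980, e3 q1360 L12590 q981, e3 q1361 (flp_a L18013) q1861, e3 q1362 (flp_a L18030) q1862, e3 q1363 (flp_a L16053) q1699, e3 q1364 (flp_a L16062) q1700, e3 q1365 (flp_a L16072) q1701, e3 q1366 L12678 q987, e3 q1367 (flp_a L18152) q1868, e3 q1368 (flp_a L16157) q1709, e3 q1369 L12795 q992, e3 q1370 L12815 q993, e3 q1371 (flp_a L18302) q1870, e3 q1372 (flp_a L18312) q1871, e3 q1373 L12879 q1373, e3 q1374 L12888 q1374, e3 q1375 L12897 q1375, e3 q1376 L12941 q998, e3 q1377 L13017 q1377, e3 q1378 L13073 q1378, e3 q1379 L13083 q1379, e3 q1380 L13093 q1380, e3 q1381 L13103 q1381, e3 q1382 L13114 q1382,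 e3 q1383 L13123 q1383, e3 q1384 L13133 q1384, e3 q1385 L13142 q1385, e3 q1386 L13151 q1386, e3 q1387 L13160 q1387, e3 q1388 L13172 q1388, e3 q1389 L13183 q1389, e3 q1390 L13195 q1390, e3 q1391 L13206 q1391, e3 q1392 L13218 q1392, e3 q1393 L13225 q1393, e3 q1394 L13238 q1394, e3 q1395 L13245 q1395, e3 q1396 L13254 q1396, e3 q1397 L13261 q1397, e3 q1398 L13269 q1398, e3 q1399 L13279 q1399, e3 q1400 L18958 q1907, e3 q1401 L13296 q1401, e3 q1402 L13302 q1402, e3 q1403 L13310 q1403, e3 q1404 L13321 q1404, e3 q1405 L13331 q1405, e3 q1406 L13341 q1406, e3 q1407 L13349 q1407, trivial⟩ (by decide +kernel)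

theorem ce_a_22 : ∀ r, r < 64 → sm ga (Qf (1408 + r)) = Qf (tab Gen.a (1408 + r)) :=
  edges_tab (sm ga) Qf (tab Gen.a) 1408 [(1408, 1408), (1409, 1409), (1410, 1923), (1411, 1411), (1412, 1412), (1413, 1413), (1414, 1414), (1415, 1931), (1416, 1416), (1417, 1417), (1418, 1028), (1419, 1936), (1420, 1420), (1421, 1421), (1422, 1422), (1423, 1423), (1424, 1424), (1425, 1946), (1426, 1426), (1427, 1427), (1428, 1034), (1429, 1951), (1430, 1430), (1431, 1431), (1432, 1432), (1433, 1038), (1434, 1958), (1435, 1959), (1436, 1436), (1437, 1437), (1438, 1438), (1439, 1439), (1440, 1440), (1441, 1441), (1442, 1442), (1443, 1443), (1444, 1444), (1445, 1445), (1446, 1446), (1447, 1447), (1448, 1448), (1449, 1449), (1450, 1450), (1451, 1451), (1452, 1452), (1453, 1453), (1454, 1454), (1455, 1455), (1456, 1456), (1457, 1457), (1458, 1458), (1459, 1996), (1460, 1460), (1461, 1461), (1462, 1462), (1463, 1463), (1464, 1236), (1465, 1465), (1466, 1466), (1467, 1061), (1468, 2007), (1469, 1469), (1470, 1470), (1471, 1471)]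
    ⟨e3 q1408 L13359 q1408, e3 q1409 L13369 q1409, e3 q1410 L19098 q1923, e3 q1411 L13386 q1411, e3 q1412 L13394 q1412, e3 q1413 L13400 q1413, e3 q1414 L13410 q1414, e3 q1415 L19168 q1931, e3 q1416 L13429 q1416, e3 q1417 L13437 q1417, e3 q1418 (flp_a L13444) q1028, e3 q1419 (flp_a L19215) q1936, e3 q1420 L13463 q1420, e3 q1421 L13469 q1421, e3 q1422 L13478 q1422, e3 q1423 L13485 q1423, e3 q1424 L13494 q1424, e3 q1425 L19294 q1946, e3 q1426 L13513 q1426, e3 q1427 L13523 q1427, e3 q1428 (flp_a L13529) q1034, e3 q1429 (flp_a L19340) q1951, e3 q1430 L13550 q1430, e3 q1431 L13560 q1431, e3 q1432 L13568 q1432, e3 q1433 L13576 q1038, e3 q1434 (flp_a L19402) q1958, e3 q1435 (flp_a L19411) q1959, e3 q1436 L13600 q1436, e3 q1437 L13607 q1437, e3 q1438 L13616 q1438, e3 q1439 L13623 q1439, e3 q1440 L13631 q1440, e3 q1441 L13642 q1441, e3 q1442 L13652 q1442, e3 q1443 L13662 q1443, e3 q1444 L13673 q1444, e3 q1445 L13685 q1445, e3 q1446 L13697 q1446, e3 q1447 L13707 q1447, e3 q1448 L13718 q1448, e3 q1449 L13728 q1449, e3 q1450 L13738 q1450,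 e3 q1451 L13745 q1451, e3 q1452 L13753 q1452, e3 q1453 L13764 q1453, e3 q1454 L13774 q1454, e3 q1455 L13781 q1455, e3 q1456 L13792 q1456, e3 q1457 L13802 q1457, e3 q1458 L13809 q1458, e3 q1459 L19750 q1996, e3 q1460 L13827 q1460, e3 q1461 L13835 q1461, e3 q1462 L13843 q1462, e3 q1463 L13852 q1463, e3 q1464 L593288 q1236, e3 q1465 L13870 q1465, e3 q1466 L13878 q1466, e3 q1467 (flp_a L13887) q1061, e3 q1468 (flp_a L19867) q2007, e3 q1469 L13905 q1469, e3 q1470 L13911 q1470, e3 q1471 L13919 q1471, trivial⟩ (by decide +kernel)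

theorem ce_a_23 : ∀ r, r < 64 → sm ga (Qf (1472 + r)) = Qf (tab Gen.a (1472 + r)) :=
  edges_tab (sm ga) Qf (tab Gen.a) 1472 [(1472, 1472), (1473, 1473), (1474, 2017), (1475, 1475), (1476, 1476), (1477, 2022), (1478, 1478), (1479, 1479), (1480, 1069), (1481, 2027), (1482, 1482), (1483, 1483), (1484, 1484), (1485, 1072), (1486, 2034), (1487, 1487), (1488, 1488), (1489, 1489), (1490, 1076), (1491, 2041), (1492, 2042), (1493, 1493), (1494, 1494), (1495, 1495), (1496, 1496), (1497, 1081), (1498, 2052), (1499, 2053), (1500, 1500), (1501, 1501), (1502, 1502), (1503, 1503), (1504, 1086), (1505, 1087), (1506, 2063), (1507, 2064), (1508, 2065), (1509, 2066), (1510, 1510), (1511, 1511), (1512, 1512), (1513, 1513), (1514, 1514), (1515, 1092), (1516, 2079), (1517, 1517), (1518, 1518), (1519, 1519), (1520, 1096), (1521, 2086), (1522, 2087), (1523, 1523), (1524, 1524), (1525, 1525), (1526, 1526), (1527, 1101), (1528, 1102), (1529, 2097), (1530, 2098), (1531, 2099), (1532, 2100), (1533, 1533), (1534, 1534), (1535, 1535)]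
    ⟨e3 q1472 L13928 q1472, e3 q1473 L13938 q1473, e3 q1474 L19953 q2017, e3 q1475 L13959 q1475, e3 q1476 L13969 q1476, e3 q1477 L20000 q2022, e3 q1478 L13989 q1478, e3 q1479 L13999 q1479, e3 q1480 (flp_a L14006) q1069, e3 q1481 (flp_a L20051) q2027, e3 q1482 L14028 q1482, e3 q1483 L14033 q1483, e3 q1484 L14041 q1484, e3 q1485 (flp_a L14049) q1072, e3 q1486 (flp_a L20109) q2034, e3 q1487 L14072 q1487, e3 q1488 L14078 q1488, e3 q1489 L14089 q1489, e3 q1490 L14099 q1076, e3 q1491 (flp_a L20173) q2041, e3 q1492 (flp_a L20179) q2042, e3 q1493 L14125 q1493, e3 q1494 L14131 q1494, e3 q1495 L14137 q1495, e3 q1496 L14146 q1496, e3 q1497 L14156 q1081, e3 q1498 (flp_a L20255) q2052, e3 q1499 (flp_a L20264) q2053, e3 q1500 L14186 q1500, e3 q1501 L14195 q1501, e3 q1502 L14202 q1502, e3 q1503 L14211 q1503, e3 q1504 L14222 q1086, e3 q1505 L14229 q1087, e3 q1506 (flp_a L20353) q2063, e3 q1507 (flp_a L20361) q2064, e3 q1508 (flp_a L20369) q2065, e3 q1509 (flp_a L20378) q2066, e3 q1510 L14270 q1510, e3 q1511 L14275 q1511, e3 q1512 L14282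 q1512, e3 q1513 L14291 q1513, e3 q1514 L14299 q1514, e3 q1515 (flp_a L14306) q1092, e3 q1516 (flp_a L20482) q2079, e3 q1517 L14329 q1517, e3 q1518 L14338 q1518, e3 q1519 L14347 q1519, e3 q1520 L14356 q1096, e3 q1521 (flp_a L20548) q2086, e3 q1522 (flp_a L20557) q2087, e3 q1523 L14382 q1523, e3 q1524 L14389 q1524, e3 q1525 L14396 q1525, e3 q1526 L14405 q1526, e3 q1527 L14415 q1101, e3 q1528 L14423 q1102, e3 q1529 (flp_a L20638) q2097, e3 q1530 (flp_a L20647) q2098, e3 q1531 (flp_a L20656) q2099, e3 q1532 (flp_a L20663) q2100, e3 q1533 L14465 q1533, e3 q1534 L14474 q1534, e3 q1535 L14481 q1535, trivial⟩ (by decide +kernel)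

theorem ce_a_24 : ∀ r, r < 64 → sm ga (Qf (1536 + r)) = Qf (tab Gen.a (1536 + r)) :=
  edges_tab (sm ga) Qf (tab Gen.a) 1536 [(1536, 1536), (1537, 1537), (1538, 1109), (1539, 1110), (1540, 1111), (1541, 2113), (1542, 2114), (1543, 2115), (1544, 2116), (1545, 2117), (1546, 1546), (1547, 1547), (1548, 1548), (1549, 1549), (1550, 1550), (1551, 1551), (1552, 1552), (1553, 1553), (1554, 1554), (1555, 1555), (1556, 1556), (1557, 1557), (1558, 1237), (1559, 1238), (1560, 1239), (1561, 1240), (1562, 1241), (1563, 1243), (1564, 1244), (1565, 1245), (1566, 1246), (1567, 1247), (1568, 1248), (1569, 1249), (1570, 1251), (1571, 1252), (1572, 1253), (1573, 1254), (1574, 1255), (1575, 1256), (1576, 2162), (1577, 1258), (1578, 1259), (1579, 1260), (1580, 1261), (1581, 1262), (1582, 2171), (1583, 1264), (1584, 1265), (1585, 1266), (1586, 1231), (1587, 1267), (1588, 1268), (1589, 1145), (1590, 2181), (1591, 1270), (1592, 1271), (1593, 1272), (1594, 1273), (1595, 1213), (1596, 1274), (1597, 1275), (1598, 1276), (1599, 1153)]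
    ⟨e3 q1536 L14488 q1536, e3 q1537 L14495 q1537, e3 q1538 L14504 q1109, e3 q1539 L14514 q1110, e3 q1540 L14523 q1111, e3 q1541 (flp_a L20768) q2113, e3 q1542 (flp_a L20777) q2114, e3 q1543 (flp_a L20787) q2115, e3 q1544 (flp_a L20796) q2116, e3 q1545 (flp_a L20806) q2117, e3 q1546 L14575 q1546, e3 q1547 L14583 q1547, e3 q1548 L14592 q1548, e3 q1549 L14602 q1549, e3 q1550 L14610 q1550, e3 q1551 L14619 q1551, e3 q1552 L14627 q1552, e3 q1553 L14636 q1553, e3 q1554 L14644 q1554, e3 q1555 L14652 q1555, e3 q1556 L14661 q1556, e3 q1557 L14670 q1557, e3 q1558 L14679 q1237, e3 q1559 L14690 q1238, e3 q1560 L14699 q1239, e3 q1561 L14709 q1240, e3 q1562 L14721 q1241, e3 q1563 L14730 q1243, e3 q1564 L14741 q1244, e3 q1565 L14753 q1245, e3 q1566 L14763 q1246, e3 q1567 L14772 q1247, e3 q1568 L14782 q1248, e3 q1569 L14792 q1249, e3 q1570 L14800 q1251, e3 q1571 L14809 q1252, e3 q1572 L14831 q1253, e3 q1573 L14840 q1254, e3 q1574 L14850 q1255, e3 q1575 L14860 q1256, e3 q1576 L21263 q2162, e3 q1577 L14875 q1258, e3 q1578 L14883 q1259, e3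 q1579 L14903 q1260, e3 q1580 L14913 q1261, e3 q1581 L14923 q1262, e3 q1582 L21363 q2171, e3 q1583 L14941 q1264, e3 q1584 L14951 q1265, e3 q1585 L14978 q1266, e3 q1586 (flp_a L594356) q1231, e3 q1587 L14995 q1267, e3 q1588 L15005 q1268, e3 q1589 (flp_a L15011) q1145, e3 q1590 (flp_a L21501) q2181, e3 q1591 L15028 q1270, e3 q1592 L15037 q1271, e3 q1593 L15044 q1272, e3 q1594 L15089 q1273, e3 q1595 (flp_a L594145) q1213, e3 q1596 L15115 q1274, e3 q1597 L15125 q1275, e3 q1598 L15135 q1276, e3 q1599 L15144 q1153, trivial⟩ (by decide +kernel)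

theorem ce_a_25 : ∀ r, r < 64 → sm ga (Qf (1600 + r)) = Qf (tab Gen.a (1600 + r)) :=
  edges_tab (sm ga) Qf (tab Gen.a) 1600 [(1600, 2194), (1601, 2195), (1602, 1279), (1603, 1280), (1604, 1281), (1605, 1282), (1606, 2205), (1607, 1284), (1608, 1285), (1609, 1159), (1610, 2210), (1611, 1288), (1612, 1289), (1613, 1290), (1614, 1162), (1615, 2217), (1616, 1293), (1617, 1294), (1618, 1295), (1619, 1166), (1620, 2224), (1621, 2225), (1622, 1299), (1623, 1300), (1624, 1301), (1625, 1302), (1626, 1171), (1627, 2235), (1628, 2236), (1629, 1306), (1630, 1307), (1631, 1308), (1632, 1309), (1633, 1176), (1634, 1177), (1635, 2246), (1636, 2247), (1637, 2189), (1638, 2248), (1639, 1314), (1640, 1315), (1641, 1316), (1642, 1277), (1643, 1317), (1644, 1183), (1645, 1184), (1646, 2260), (1647, 2261), (1648, 2262), (1649, 2263), (1650, 1324), (1651, 1325), (1652, 1326), (1653, 1327), (1654, 1191), (1655, 1192), (1656, 1193), (1657, 2275), (1658, 2276), (1659, 2277), (1660, 2278), (1661, 1335), (1662, 1336), (1663, 1198)]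
    ⟨e3 q1600 (flp_a L21693) q2194, e3 q1601 (flp_a L21701) q2195, e3 q1602 L15165 q1279, e3 q1603 L15174 q1280, e3 q1604 L15183 q1281, e3 q1605 L15191 q1282, e3 q1606 L21779 q2205, e3 q1607 L15210 q1284, e3 q1608 L15222 q1285, e3 q1609 (flp_a L15230) q1159, e3 q1610 (flp_a L21834) q2210, e3 q1611 L15252 q1288, e3 q1612 L15260 q1289, e3 q1613 L15271 q1290, e3 q1614 (flp_a L15277) q1162, e3 q1615 (flp_a L21900) q2217, e3 q1616 L15299 q1293, e3 q1617 L15308 q1294, e3 q1618 L15318 q1295, e3 q1619 L15328 q1166, e3 q1620 (flp_a L21966) q2224, e3 q1621 (flp_a L21975) q2225, e3 q1622 L15352 q1299, e3 q1623 L15358 q1300, e3 q1624 L15367 q1301, e3 q1625 L15378 q1302, e3 q1626 L15387 q1171, e3 q1627 (flp_a L22055) q2235, e3 q1628 (flp_a L22065) q2236, e3 q1629 L15415 q1306, e3 q1630 L15424 q1307, e3 q1631 L15431 q1308, e3 q1632 L15442 q1309, e3 q1633 L15452 q1176, e3 q1634 L15460 q1177, e3 q1635 (flp_a L22155) q2246, e3 q1636 (flp_a L22161) q2247, e3 q1637 L591023 q2189, e3 q1638 (flp_a L22180) q2248, e3 q1639 L15498 q1314, e3 q1640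 L15506 q1315, e3 q1641 L15512 q1316, e3 q1642 L598229 q1277, e3 q1643 L15529 q1317, e3 q1644 L15540 q1183, e3 q1645 L15551 q1184, e3 q1646 (flp_a L22282) q2260, e3 q1647 (flp_a L22291) q2261, e3 q1648 (flp_a L22302) q2262, e3 q1649 (flp_a L22313) q2263, e3 q1650 L15595 q1324, e3 q1651 L15604 q1325, e3 q1652 L15614 q1326, e3 q1653 L15624 q1327, e3 q1654 L15635 q1191, e3 q1655 L15643 q1192, e3 q1656 L15653 q1193, e3 q1657 (flp_a L22424) q2275, e3 q1658 (flp_a L22432) q2276, e3 q1659 (flp_a L22441) q2277, e3 q1660 (flp_a L22451) q2278, e3 q1661 L15692 q1335, e3 q1662 L15700 q1336, e3 q1663 L15710 q1198, trivial⟩ (by decide +kernel)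

theorem ce_a_26 : ∀ r, r < 64 → sm ga (Qf (1664 + r)) = Qf (tab Gen.a (1664 + r)) :=
  edges_tab (sm ga) Qf (tab Gen.a) 1664 [(1664, 2285), (1665, 2286), (1666, 1340), (1667, 1341), (1668, 1342), (1669, 1343), (1670, 1203), (1671, 1204), (1672, 2296), (1673, 2297), (1674, 2177), (1675, 2298), (1676, 1348), (1677, 1349), (1678, 1350), (1679, 1269), (1680, 1351), (1681, 1211), (1682, 1212), (1683, 1214), (1684, 2310), (1685, 2003), (1686, 2311), (1687, 2190), (1688, 2312), (1689, 1356), (1690, 1357), (1691, 1278), (1692, 1220), (1693, 1222), (1694, 1223), (1695, 2320), (1696, 2321), (1697, 2168), (1698, 2322), (1699, 1363), (1700, 1364), (1701, 1365), (1702, 1263), (1703, 1229), (1704, 1230), (1705, 2332), (1706, 1993), (1707, 2333), (1708, 2159), (1709, 1368), (1710, 1257), (1711, 1904), (1712, 1712), (1713, 2138), (1714, 2139), (1715, 2140), (1716, 2141), (1717, 2142), (1718, 2143), (1719, 2144), (1720, 2145), (1721, 1721), (1722, 2146), (1723, 2147), (1724, 2148), (1725, 2149), (1726, 2150), (1727, 2151)]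
    ⟨e3 q1664 (flp_a L22509) q2285, e3 q1665 (flp_a L22521) q2286, e3 q1666 L15738 q1340, e3 q1667 L15748 q1341, e3 q1668 L15758 q1342, e3 q1669 L15767 q1343, e3 q1670 L15777 q1203, e3 q1671 L15788 q1204, e3 q1672 (flp_a L22616) q2296, e3 q1673 (flp_a L22625) q2297, e3 q1674 (flp_a L594173) q2177, e3 q1675 (flp_a L22644) q2298, e3 q1676 L15827 q1348, e3 q1677 L15836 q1349, e3 q1678 L15846 q1350, e3 q1679 L598127 q1269, e3 q1680 L15863 q1351, e3 q1681 L15873 q1211, e3 q1682 L15881 q1212, e3 q1683 L15901 q1214, e3 q1684 (flp_a L22764) q2310, e3 q1685 L593336 q2003, e3 q1686 (flp_a L22782) q2311, e3 q1687 L593351 q2190, e3 q1688 (flp_a L22812) q2312, e3 q1689 L15958 q1356, e3 q1690 L15968 q1357, e3 q1691 (flp_a L598244) q1278, e3 q1692 L15986 q1220, e3 q1693 L15996 q1222, e3 q1694 L16006 q1223, e3 q1695 (flp_a L22894) q2320, e3 q1696 (flp_a L22903) q2321, e3 q1697 L594514 q2168, e3 q1698 (flp_a L22924) q2322, e3 q1699 L16053 q1363, e3 q1700 L16062 q1364, e3 q1701 L16072 q1365, e3 q1702 (flp_a L598082) q1263, e3 q1703 L16092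 q1229, e3 q1704 L16100 q1230, e3 q1705 (flp_a L23037) q2332, e3 q1706 L593271 q1993, e3 q1707 (flp_a L23054) q2333, e3 q1708 (flp_a L594377) q2159, e3 q1709 L16157 q1368, e3 q1710 L597572 q1257, e3 q1711 L593279 q1904, e3 q1712 L16223 q1712, e3 q1713 (flp_a L20988) q2138, e3 q1714 (flp_a L20999) q2139, e3 q1715 (flp_a L21011) q2140, e3 q1716 (flp_a L21020) q2141, e3 q1717 (flp_a L21030) q2142, e3 q1718 (flp_a L21039) q2143, e3 q1719 (flp_a L21049) q2144, e3 q1720 (flp_a L21059) q2145, e3 q1721 L16294 q1721, e3 q1722 (flp_a L21068) q2146, e3 q1723 (flp_a L21078) q2147, e3 q1724 (flp_a L21102) q2148, e3 q1725 (flp_a L21112) q2149, e3 q1726 (flp_a L21123) q2150, e3 q1727 (flp_a L21134) q2151, trivial⟩ (by decide +kernel)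

theorem ce_a_27 : ∀ r, r < 64 → sm ga (Qf (1728 + r)) = Qf (tab Gen.a (1728 + r)) :=
  edges_tab (sm ga) Qf (tab Gen.a) 1728 [(1728, 2331), (1729, 2153), (1730, 2154), (1731, 1731), (1732, 2155), (1733, 2156), (1734, 2157), (1735, 2158), (1736, 2160), (1737, 2161), (1738, 2339), (1739, 2164), (1740, 2165), (1741, 2166), (1742, 2167), (1743, 2169), (1744, 2170), (1745, 2294), (1746, 2173), (1747, 2174), (1748, 2175), (1749, 2176), (1750, 2178), (1751, 2179), (1752, 2180), (1753, 2233), (1754, 2309), (1755, 2184), (1756, 2185), (1757, 2186), (1758, 2187), (1759, 2188), (1760, 2191), (1761, 2192), (1762, 2193), (1763, 2203), (1764, 2259), (1765, 2244), (1766, 2319), (1767, 2200), (1768, 2201), (1769, 2202), (1770, 2204), (1771, 1283), (1772, 2412), (1773, 2207), (1774, 2208), (1775, 2209), (1776, 1287), (1777, 2419), (1778, 2420), (1779, 2213), (1780, 2214), (1781, 2215), (1782, 2216), (1783, 1292), (1784, 2427), (1785, 2428), (1786, 2220), (1787, 2221), (1788, 2222), (1789, 2223), (1790, 1297), (1791, 1298)]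
    ⟨e3 q1728 (flp_a L597584) q2331, e3 q1729 (flp_a L21151) q2153, e3 q1730 (flp_a L21160) q2154, e3 q1731 L16401 q1731, e3 q1732 (flp_a L21170) q2155, e3 q1733 (flp_a L21180) q2156, e3 q1734 (flp_a L21213) q2157, e3 q1735 (flp_a L21231) q2158, e3 q1736 (flp_a L21247) q2160, e3 q1737 (flp_a L21256) q2161, e3 q1738 (flp_a L597560) q2339, e3 q1739 (flp_a L21280) q2164, e3 q1740 (flp_a L21287) q2165, e3 q1741 (flp_a L21296) q2166, e3 q1742 (flp_a L21325) q2167, e3 q1743 (flp_a L21344) q2169, e3 q1744 (flp_a L21355) q2170, e3 q1745 (flp_a L598102) q2294, e3 q1746 (flp_a L21382) q2173, e3 q1747 (flp_a L21392) q2174, e3 q1748 (flp_a L21401) q2175, e3 q1749 (flp_a L21447) q2176, e3 q1750 (flp_a L21472) q2178, e3 q1751 (flp_a L21483) q2179, e3 q1752 (flp_a L21491) q2180, e3 q1753 L598203 q2233, e3 q1754 L598110 q2309, e3 q1755 (flp_a L21522) q2184, e3 q1756 (flp_a L21530) q2185, e3 q1757 (flp_a L21540) q2186, e3 q1758 (flp_a L21549) q2187, e3 q1759 (flp_a L21621) q2188, e3 q1760 (flp_a L21655) q2191, e3 q1761 (flp_a L21674) q2192,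 e3 q1762 (flp_a L21683) q2193, e3 q1763 L598217 q2203, e3 q1764 (flp_a L598262) q2259, e3 q1765 L598268 q2244, e3 q1766 (flp_a L594652) q2319, e3 q1767 (flp_a L21736) q2200, e3 q1768 (flp_a L21745) q2201, e3 q1769 (flp_a L21753) q2202, e3 q1770 (flp_a L21772) q2204, e3 q1771 (flp_a L16991) q1283, e3 q1772 (flp_a L24370) q2412, e3 q1773 (flp_a L21803) q2207, e3 q1774 (flp_a L21813) q2208, e3 q1775 (flp_a L21825) q2209, e3 q1776 L17041 q1287, e3 q1777 (flp_a L24436) q2419, e3 q1778 (flp_a L24444) q2420, e3 q1779 (flp_a L21862) q2213, e3 q1780 (flp_a L21870) q2214, e3 q1781 (flp_a L21880) q2215, e3 q1782 (flp_a L21890) q2216, e3 q1783 L17100 q1292, e3 q1784 (flp_a L24525) q2427, e3 q1785 (flp_a L24534) q2428, e3 q1786 (flp_a L21928) q2220, e3 q1787 (flp_a L21936) q2221, e3 q1788 (flp_a L21944) q2222, e3 q1789 (flp_a L21956) q2223, e3 q1790 L17159 q1297, e3 q1791 L17166 q1298, trivial⟩ (by decide +kernel)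

theorem ce_a_28 : ∀ r, r < 64 → sm ga (Qf (1792 + r)) = Qf (tab Gen.a (1792 + r)) :=
  edges_tab (sm ga) Qf (tab Gen.a) 1792 [(1792, 2435), (1793, 2436), (1794, 2230), (1795, 2231), (1796, 2232), (1797, 2234), (1798, 1304), (1799, 1305), (1800, 2444), (1801, 2445), (1802, 2241), (1803, 2242), (1804, 2243), (1805, 2245), (1806, 1312), (1807, 1313), (1808, 2453), (1809, 2454), (1810, 2455), (1811, 2255), (1812, 2256), (1813, 2257), (1814, 2258), (1815, 1320), (1816, 1321), (1817, 1322), (1818, 1323), (1819, 2463), (1820, 2464), (1821, 2465), (1822, 2466), (1823, 2467), (1824, 2468), (1825, 2270), (1826, 2271), (1827, 2272), (1828, 2273), (1829, 1829), (1830, 1331), (1831, 1332), (1832, 1333), (1833, 1334), (1834, 2483), (1835, 2484), (1836, 2485), (1837, 2486), (1838, 2283), (1839, 2284), (1840, 1338), (1841, 1339), (1842, 2493), (1843, 2494), (1844, 2291), (1845, 2292), (1846, 2293), (1847, 2295), (1848, 1346), (1849, 1347), (1850, 2502), (1851, 2503), (1852, 2504), (1853, 2305), (1854, 2306), (1855, 2307)]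
    ⟨e3 q1792 (flp_a L24623) q2435, e3 q1793 (flp_a L24638) q2436, e3 q1794 (flp_a L22013) q2230, e3 q1795 (flp_a L22019) q2231, e3 q1796 (flp_a L22027) q2232, e3 q1797 (flp_a L22044) q2234, e3 q1798 L17237 q1304, e3 q1799 L17245 q1305, e3 q1800 (flp_a L24740) q2444, e3 q1801 (flp_a L24756) q2445, e3 q1802 (flp_a L22108) q2241, e3 q1803 (flp_a L22118) q2242, e3 q1804 (flp_a L22126) q2243, e3 q1805 (flp_a L22143) q2245, e3 q1806 L17333 q1312, e3 q1807 L17348 q1313, e3 q1808 (flp_a L24881) q2453, e3 q1809 (flp_a L24889) q2454, e3 q1810 (flp_a L24912) q2455, e3 q1811 (flp_a L22241) q2255, e3 q1812 (flp_a L22249) q2256, e3 q1813 (flp_a L22258) q2257, e3 q1814 (flp_a L22265) q2258, e3 q1815 L17441 q1320, e3 q1816 L17451 q1321, e3 q1817 L17460 q1322, e3 q1818 L17469 q1323, e3 q1819 (flp_a L25041) q2463, e3 q1820 (flp_a L25051) q2464, e3 q1821 (flp_a L25061) q2465, e3 q1822 (flp_a L25069) q2466, e3 q1823 (flp_a L25078) q2467, e3 q1824 (flp_a L25087) q2468, e3 q1825 (flp_a L22375) q2270, e3 q1826 (flp_a L22384) q2271, e3 q1827 (flp_a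 L22394) q2272, e3 q1828 (flp_a L22405) q2273, e3 q1829 L17569 q1829, e3 q1830 L17572 q1331, e3 q1831 L17581 q1332, e3 q1832 L17588 q1333, e3 q1833 L17596 q1334, e3 q1834 (flp_a L25214) q2483, e3 q1835 (flp_a L25223) q2484, e3 q1836 (flp_a L25232) q2485, e3 q1837 (flp_a L25239) q2486, e3 q1838 (flp_a L22492) q2283, e3 q1839 (flp_a L22500) q2284, e3 q1840 L17650 q1338, e3 q1841 L17660 q1339, e3 q1842 (flp_a L25304) q2493, e3 q1843 (flp_a L25322) q2494, e3 q1844 (flp_a L22565) q2291, e3 q1845 (flp_a L22576) q2292, e3 q1846 (flp_a L22585) q2293, e3 q1847 (flp_a L22605) q2295, e3 q1848 L17756 q1346, e3 q1849 L17771 q1347, e3 q1850 (flp_a L25461) q2502, e3 q1851 (flp_a L25469) q2503, e3 q1852 (flp_a L25493) q2504, e3 q1853 (flp_a L22709) q2305, e3 q1854 (flp_a L22719) q2306, e3 q1855 (flp_a L22728) q2307, trivial⟩ (by decide +kernel)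

theorem ce_a_29 : ∀ r, r < 64 → sm ga (Qf (1856 + r)) = Qf (tab Gen.a (1856 + r)) :=
  edges_tab (sm ga) Qf (tab Gen.a) 1856 [(1856, 2308), (1857, 1354), (1858, 1355), (1859, 2511), (1860, 2318), (1861, 1361), (1862, 1362), (1863, 2512), (1864, 2513), (1865, 2328), (1866, 2329), (1867, 2330), (1868, 1367), (1869, 2338), (1870, 1371), (1871, 1372), (1872, 2519), (1873, 1873), (1874, 1874), (1875, 1875), (1876, 1876), (1877, 1877), (1878, 1878), (1879, 1879), (1880, 1880), (1881, 1881), (1882, 1882), (1883, 1883), (1884, 1884), (1885, 1885), (1886, 2537), (1887, 1887), (1888, 1888), (1889, 1889), (1890, 1890), (1891, 1891), (1892, 1892), (1893, 1893), (1894, 1894), (1895, 1895), (1896, 1896), (1897, 1897), (1898, 1898), (1899, 1899), (1900, 1900), (1901, 2560), (1902, 1902), (1903, 1903), (1904, 1711), (1905, 1905), (1906, 1906), (1907, 1400), (1908, 2569), (1909, 1909), (1910, 1910), (1911, 1911), (1912, 1912), (1913, 1913), (1914, 1914), (1915, 2581), (1916, 1916), (1917, 1917), (1918, 1918), (1919, 1919)]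
    ⟨e3 q1856 (flp_a L22738) q2308, e3 q1857 L17900 q1354, e3 q1858 L17924 q1355, e3 q1859 (flp_a L25679) q2511, e3 q1860 (flp_a L22876) q2318, e3 q1861 L18013 q1361, e3 q1862 L18030 q1362, e3 q1863 (flp_a L25804) q2512, e3 q1864 (flp_a L25812) q2513, e3 q1865 (flp_a L22988) q2328, e3 q1866 (flp_a L22998) q2329, e3 q1867 (flp_a L23007) q2330, e3 q1868 L18152 q1367, e3 q1869 (flp_a L23129) q2338, e3 q1870 L18302 q1371, e3 q1871 L18312 q1372, e3 q1872 (flp_a L26227) q2519, e3 q1873 L18423 q1873, e3 q1874 L18432 q1874, e3 q1875 L18441 q1875, e3 q1876 L18604 q1876, e3 q1877 L18675 q1877, e3 q1878 L18685 q1878, e3 q1879 L18696 q1879, e3 q1880 L18706 q1880, e3 q1881 L18717 q1881, e3 q1882 L18727 q1882, e3 q1883 L18737 q1883, e3 q1884 L18747 q1884, e3 q1885 L18756 q1885, e3 q1886 L26828 q2537, e3 q1887 L18775 q1887, e3 q1888 L18784 q1888, e3 q1889 L18794 q1889, e3 q1890 L18806 q1890, e3 q1891 L18817 q1891, e3 q1892 L18830 q1892, e3 q1893 L18838 q1893, e3 q1894 L18848 q1894, e3 q1895 L18856 q1895, e3 q1896 L18862 q1896, e3 q1897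 L18872 q1897, e3 q1898 L18880 q1898, e3 q1899 L18889 q1899, e3 q1900 L18899 q1900, e3 q1901 L27038 q2560, e3 q1902 L18917 q1902, e3 q1903 L18924 q1903, e3 q1904 (flp_a L593279) q1711, e3 q1905 L18940 q1905, e3 q1906 L18949 q1906, e3 q1907 (flp_a L18958) q1400, e3 q1908 (flp_a L27127) q2569, e3 q1909 L18974 q1909, e3 q1910 L18982 q1910, e3 q1911 L18989 q1911, e3 q1912 L18996 q1912, e3 q1913 L19007 q1913, e3 q1914 L19018 q1914, e3 q1915 L27228 q2581, e3 q1916 L19037 q1916, e3 q1917 L19046 q1917, e3 q1918 L19054 q1918, e3 q1919 L19064 q1919, trivial⟩ (by decide +kernel)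

theorem ce_a_30 : ∀ r, r < 64 → sm ga (Qf (1920 + r)) = Qf (tab Gen.a (1920 + r)) :=
  edges_tab (sm ga) Qf (tab Gen.a) 1920 [(1920, 2589), (1921, 1921), (1922, 1922), (1923, 1410), (1924, 2594), (1925, 1925), (1926, 1926), (1927, 1927), (1928, 2601), (1929, 1929), (1930, 1930), (1931, 1415), (1932, 2606), (1933, 1933), (1934, 1934), (1935, 1935), (1936, 1419), (1937, 2613), (1938, 2614), (1939, 1939), (1940, 1940), (1941, 1941), (1942, 1942), (1943, 2624), (1944, 1944), (1945, 1945), (1946, 1425), (1947, 2629), (1948, 1948), (1949, 1949), (1950, 1950), (1951, 1429), (1952, 2636), (1953, 2637), (1954, 1954), (1955, 1955), (1956, 1956), (1957, 1957), (1958, 1434), (1959, 1435), (1960, 2647), (1961, 2648), (1962, 2649), (1963, 2650), (1964, 1964), (1965, 1965), (1966, 1966), (1967, 1967), (1968, 1968), (1969, 1969), (1970, 1970), (1971, 1971), (1972, 1972), (1973, 1973), (1974, 1974), (1975, 1975), (1976, 1976), (1977, 1977), (1978, 1978), (1979, 1979), (1980, 1980), (1981, 1981), (1982, 2682), (1983, 1983)]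
    ⟨e3 q1920 L27301 q2589, e3 q1921 L19084 q1921, e3 q1922 L19093 q1922, e3 q1923 (flp_a L19098) q1410, e3 q1924 (flp_a L27349) q2594, e3 q1925 L19118 q1925, e3 q1926 L19125 q1926, e3 q1927 L19132 q1927, e3 q1928 L27401 q2601, e3 q1929 L19150 q1929, e3 q1930 L19159 q1930, e3 q1931 (flp_a L19168) q1415, e3 q1932 (flp_a L27451) q2606, e3 q1933 L19189 q1933, e3 q1934 L19197 q1934, e3 q1935 L19207 q1935, e3 q1936 L19215 q1419, e3 q1937 (flp_a L27511) q2613, e3 q1938 (flp_a L27519) q2614, e3 q1939 L19239 q1939, e3 q1940 L19245 q1940, e3 q1941 L19252 q1941, e3 q1942 L19260 q1942, e3 q1943 L27592 q2624, e3 q1944 L19277 q1944, e3 q1945 L19286 q1945, e3 q1946 (flp_a L19294) q1425, e3 q1947 (flp_a L27641) q2629, e3 q1948 L19316 q1948, e3 q1949 L19323 q1949, e3 q1950 L19332 q1950, e3 q1951 L19340 q1429, e3 q1952 (flp_a L27702) q2636, e3 q1953 (flp_a L27713) q2637, e3 q1954 L19368 q1954, e3 q1955 L19377 q1955, e3 q1956 L19385 q1956, e3 q1957 L19393 q1957, e3 q1958 L19402 q1434, e3 q1959 L19411 q1435, e3 q1960 (flp_a L27801) q2647, e3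 q1961 (flp_a L27810) q2648, e3 q1962 (flp_a L27818) q2649, e3 q1963 (flp_a L27828) q2650, e3 q1964 L19450 q1964, e3 q1965 L19457 q1965, e3 q1966 L19464 q1966, e3 q1967 L19472 q1967, e3 q1968 L19481 q1968, e3 q1969 L19489 q1969, e3 q1970 L19500 q1970, e3 q1971 L19512 q1971, e3 q1972 L19524 q1972, e3 q1973 L19534 q1973, e3 q1974 L19546 q1974, e3 q1975 L19557 q1975, e3 q1976 L19568 q1976, e3 q1977 L19576 q1977, e3 q1978 L19585 q1978, e3 q1979 L19596 q1979, e3 q1980 L19607 q1980, e3 q1981 L19615 q1981, e3 q1982 L28117 q2682, e3 q1983 L19632 q1983, trivial⟩ (by decide +kernel)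

theorem ce_a_31 : ∀ r, r < 64 → sm ga (Qf (1984 + r)) = Qf (tab Gen.a (1984 + r)) :=
  edges_tab (sm ga) Qf (tab Gen.a) 1984 [(1984, 1984), (1985, 1985), (1986, 1986), (1987, 1987), (1988, 2692), (1989, 1989), (1990, 1990), (1991, 1991), (1992, 1992), (1993, 1706), (1994, 1994), (1995, 1995), (1996, 1459), (1997, 2703), (1998, 1998), (1999, 1999), (2000, 2000), (2001, 2001), (2002, 2002), (2003, 1685), (2004, 2004), (2005, 2005), (2006, 2006), (2007, 1468), (2008, 2719), (2009, 2720), (2010, 2010), (2011, 2011), (2012, 2012), (2013, 2013), (2014, 2730), (2015, 2015), (2016, 2016), (2017, 1474), (2018, 2735), (2019, 2019), (2020, 2020), (2021, 2021), (2022, 1477), (2023, 2742), (2024, 2024), (2025, 2025), (2026, 2026), (2027, 1481), (2028, 2749), (2029, 2750), (2030, 2030), (2031, 2031), (2032, 2032), (2033, 2033), (2034, 1486), (2035, 2760), (2036, 2761), (2037, 2037), (2038, 2038), (2039, 2039), (2040, 2040), (2041, 1491), (2042, 1492), (2043, 2771), (2044, 2772), (2045, 2773), (2046, 2774), (2047, 2047)]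
    ⟨e3 q1984 L19639 q1984, e3 q1985 L19648 q1985, e3 q1986 L19659 q1986, e3 q1987 L19667 q1987, e3 q1988 L28209 q2692, e3 q1989 L19687 q1989, e3 q1990 L19696 q1990, e3 q1991 L19706 q1991, e3 q1992 L19715 q1992, e3 q1993 (flp_a L593271) q1706, e3 q1994 L19734 q1994, e3 q1995 L19743 q1995, e3 q1996 (flp_a L19750) q1459, e3 q1997 (flp_a L28330) q2703, e3 q1998 L19769 q1998, e3 q1999 L19776 q1999, e3 q2000 L19782 q2000, e3 q2001 L19802 q2001, e3 q2002 L19811 q2002, e3 q2003 (flp_a L593336) q1685, e3 q2004 L19840 q2004, e3 q2005 L19848 q2005, e3 q2006 L19857 q2006, e3 q2007 L19867 q1468, e3 q2008 (flp_a L28496) q2719, e3 q2009 (flp_a L28502) q2720, e3 q2010 L19890 q2010, e3 q2011 L19898 q2011, e3 q2012 L19905 q2012, e3 q2013 L19912 q2013, e3 q2014 L28576 q2730, e3 q2015 L19933 q2015, e3 q2016 L19944 q2016, e3 q2017 (flp_a L19953) q1474, e3 q2018 (flp_a L28631) q2735, e3 q2019 L19977 q2019, e3 q2020 L19983 q2020, e3 q2021 L19993 q2021, e3 q2022 (flp_a L20000) q1477, e3 q2023 (flp_a L28696) q2742, e3 q2024 L20024 q2024, e3 q2025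 L20031 q2025, e3 q2026 L20040 q2026, e3 q2027 L20051 q1481, e3 q2028 (flp_a L28761) q2749, e3 q2029 (flp_a L28768) q2750, e3 q2030 L20077 q2030, e3 q2031 L20082 q2031, e3 q2032 L20089 q2032, e3 q2033 L20099 q2033, e3 q2034 L20109 q1486, e3 q2035 (flp_a L28844) q2760, e3 q2036 (flp_a L28852) q2761, e3 q2037 L20139 q2037, e3 q2038 L20147 q2038, e3 q2039 L20152 q2039, e3 q2040 L20162 q2040, e3 q2041 L20173 q1491, e3 q2042 L20179 q1492, e3 q2043 (flp_a L28938) q2771, e3 q2044 (flp_a L28945) q2772, e3 q2045 (flp_a L28953) q2773, e3 q2046 (flp_a L28961) q2774, e3 q2047 L20220 q2047, trivial⟩ (by decide +kernel)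

theorem ce_a_32 : ∀ r, r < 64 → sm ga (Qf (2048 + r)) = Qf (tab Gen.a (2048 + r)) :=
  edges_tab (sm ga) Qf (tab Gen.a) 2048 [(2048, 2048), (2049, 2049), (2050, 2050), (2051, 2051), (2052, 1498), (2053, 1499), (2054, 2640), (2055, 2787), (2056, 2638), (2057, 2788), (2058, 2058), (2059, 2059), (2060, 2060), (2061, 2061), (2062, 2062), (2063, 1506), (2064, 1507), (2065, 1508), (2066, 1509), (2067, 2799), (2068, 2656), (2069, 2800), (2070, 2801), (2071, 2802), (2072, 2652), (2073, 2803), (2074, 2074), (2075, 2075), (2076, 2076), (2077, 2077), (2078, 2078), (2079, 1516), (2080, 2819), (2081, 2820), (2082, 2082), (2083, 2083), (2084, 2084), (2085, 2085), (2086, 1521), (2087, 1522), (2088, 2830), (2089, 2831), (2090, 2832), (2091, 2833), (2092, 2092), (2093, 2093), (2094, 2094), (2095, 2095), (2096, 2096), (2097, 1529), (2098, 1530), (2099, 1531), (2100, 1532), (2101, 2846), (2102, 2847), (2103, 2848), (2104, 2849), (2105, 2850), (2106, 2851), (2107, 2852), (2108, 2108), (2109, 2109), (2110, 2110), (2111, 2111)]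
    ⟨e3 q2048 L20226 q2048, e3 q2049 L20231 q2049, e3 q2050 L20239 q2050, e3 q2051 L20245 q2051, e3 q2052 L20255 q1498, e3 q2053 L20264 q1499, e3 q2054 (flp_a L563390) q2640, e3 q2055 (flp_a L29068) q2787, e3 q2056 L536680 q2638, e3 q2057 (flp_a L29086) q2788, e3 q2058 L20310 q2058, e3 q2059 L20317 q2059, e3 q2060 L20326 q2060, e3 q2061 L20334 q2061, e3 q2062 L20343 q2062, e3 q2063 L20353 q1506, e3 q2064 L20361 q1507, e3 q2065 L20369 q1508, e3 q2066 L20378 q1509, e3 q2067 (flp_a L29209) q2799, e3 q2068 (flp_a L563429) q2656, e3 q2069 (flp_a L29227) q2800, e3 q2070 (flp_a L29233) q2801, e3 q2071 (flp_a L29241) q2802, e3 q2072 L563439 q2652, e3 q2073 (flp_a L29260) q2803, e3 q2074 L20443 q2074, e3 q2075 L20449 q2075, e3 q2076 L20456 q2076, e3 q2077 L20464 q2077, e3 q2078 L20473 q2078, e3 q2079 L20482 q1516, e3 q2080 (flp_a L29393) q2819, e3 q2081 (flp_a L29403) q2820, e3 q2082 L20512 q2082, e3 q2083 L20521 q2083, e3 q2084 L20529 q2084, e3 q2085 L20537 q2085, e3 q2086 L20548 q1521, e3 q2087 L20557 q1522, e3 q2088 (flp_a L29494)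 q2830, e3 q2089 (flp_a L29504) q2831, e3 q2090 (flp_a L29512) q2832, e3 q2091 (flp_a L29520) q2833, e3 q2092 L20599 q2092, e3 q2093 L20606 q2093, e3 q2094 L20615 q2094, e3 q2095 L20621 q2095, e3 q2096 L20629 q2096, e3 q2097 L20638 q1529, e3 q2098 L20647 q1530, e3 q2099 L20656 q1531, e3 q2100 L20663 q1532, e3 q2101 (flp_a L29635) q2846, e3 q2102 (flp_a L29645) q2847, e3 q2103 (flp_a L29653) q2848, e3 q2104 (flp_a L29663) q2849, e3 q2105 (flp_a L29671) q2850, e3 q2106 (flp_a L29679) q2851, e3 q2107 (flp_a L29687) q2852, e3 q2108 L20729 q2108, e3 q2109 L20738 q2109, e3 q2110 L20746 q2110, e3 q2111 L20754 q2111, trivial⟩ (by decide +kernel)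

theorem ce_a_33 : ∀ r, r < 64 → sm ga (Qf (2112 + r)) = Qf (tab Gen.a (2112 + r)) :=
  edges_tab (sm ga) Qf (tab Gen.a) 2112 [(2112, 2112), (2113, 1541), (2114, 1542), (2115, 1543), (2116, 1544), (2117, 1545), (2118, 2870), (2119, 2871), (2120, 2872), (2121, 2873), (2122, 2874), (2123, 2123), (2124, 2124), (2125, 2125), (2126, 2126), (2127, 2127), (2128, 2128), (2129, 2129), (2130, 2130), (2131, 2131), (2132, 2132), (2133, 2133), (2134, 2134), (2135, 2135), (2136, 2136), (2137, 2137), (2138, 1713), (2139, 1714), (2140, 1715), (2141, 1716), (2142, 1717), (2143, 1718), (2144, 1719), (2145, 1720), (2146, 1722), (2147, 1723), (2148, 1724), (2149, 1725), (2150, 1726), (2151, 1727), (2152, 2915), (2153, 1729), (2154, 1730), (2155, 1732), (2156, 1733), (2157, 1734), (2158, 1735), (2159, 1708), (2160, 1736), (2161, 1737), (2162, 1576), (2163, 2926), (2164, 1739), (2165, 1740), (2166, 1741), (2167, 1742), (2168, 1697), (2169, 1743), (2170, 1744), (2171, 1582), (2172, 2938), (2173, 1746), (2174, 1747), (2175, 1748)]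
    ⟨e3 q2112 L20760 q2112, e3 q2113 L20768 q1541, e3 q2114 L20777 q1542, e3 q2115 L20787 q1543, e3 q2116 L20796 q1544, e3 q2117 L20806 q1545, e3 q2118 (flp_a L29832) q2870, e3 q2119 (flp_a L29841) q2871, e3 q2120 (flp_a L29851) q2872, e3 q2121 (flp_a L29862) q2873, e3 q2122 (flp_a L29871) q2874, e3 q2123 L20860 q2123, e3 q2124 L20868 q2124, e3 q2125 L20877 q2125, e3 q2126 L20886 q2126, e3 q2127 L20891 q2127, e3 q2128 L20901 q2128, e3 q2129 L20910 q2129, e3 q2130 L20919 q2130, e3 q2131 L20928 q2131, e3 q2132 L20936 q2132, e3 q2133 L20945 q2133, e3 q2134 L20953 q2134, e3 q2135 L20962 q2135, e3 q2136 L20969 q2136, e3 q2137 L20978 q2137, e3 q2138 L20988 q1713, e3 q2139 L20999 q1714, e3 q2140 L21011 q1715, e3 q2141 L21020 q1716, e3 q2142 L21030 q1717, e3 q2143 L21039 q1718, e3 q2144 L21049 q1719, e3 q2145 L21059 q1720, e3 q2146 L21068 q1722, e3 q2147 L21078 q1723, e3 q2148 L21102 q1724, e3 q2149 L21112 q1725, e3 q2150 L21123 q1726, e3 q2151 L21134 q1727, e3 q2152 L30329 q2915, e3 q2153 L21151 q1729, e3 q2154 L21160 q1730, e3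 q2155 L21170 q1732, e3 q2156 L21180 q1733, e3 q2157 L21213 q1734, e3 q2158 L21231 q1735, e3 q2159 L594377 q1708, e3 q2160 L21247 q1736, e3 q2161 L21256 q1737, e3 q2162 (flp_a L21263) q1576, e3 q2163 (flp_a L30511) q2926, e3 q2164 L21280 q1739, e3 q2165 L21287 q1740, e3 q2166 L21296 q1741, e3 q2167 L21325 q1742, e3 q2168 (flp_a L594514) q1697, e3 q2169 L21344 q1743, e3 q2170 L21355 q1744, e3 q2171 (flp_a L21363) q1582, e3 q2172 (flp_a L30668) q2938, e3 q2173 L21382 q1746, e3 q2174 L21392 q1747, e3 q2175 L21401 q1748, trivial⟩ (by decide +kernel)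

theorem ce_a_34 : ∀ r, r < 64 → sm ga (Qf (2176 + r)) = Qf (tab Gen.a (2176 + r)) :=
  edges_tab (sm ga) Qf (tab Gen.a) 2176 [(2176, 1749), (2177, 1674), (2178, 1750), (2179, 1751), (2180, 1752), (2181, 1590), (2182, 2951), (2183, 2952), (2184, 1755), (2185, 1756), (2186, 1757), (2187, 1758), (2188, 1759), (2189, 1637), (2190, 1687), (2191, 1760), (2192, 1761), (2193, 1762), (2194, 1600), (2195, 1601), (2196, 2969), (2197, 2970), (2198, 2971), (2199, 2972), (2200, 1767), (2201, 1768), (2202, 1769), (2203, 1763), (2204, 1770), (2205, 1606), (2206, 2985), (2207, 1773), (2208, 1774), (2209, 1775), (2210, 1610), (2211, 2992), (2212, 2993), (2213, 1779), (2214, 1780), (2215, 1781), (2216, 1782), (2217, 1615), (2218, 3003), (2219, 3004), (2220, 1786), (2221, 1787), (2222, 1788), (2223, 1789), (2224, 1620), (2225, 1621), (2226, 3014), (2227, 3015), (2228, 2946), (2229, 3016), (2230, 1794), (2231, 1795), (2232, 1796), (2233, 1753), (2234, 1797), (2235, 1627), (2236, 1628), (2237, 3028), (2238, 3029), (2239, 2978)]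
    ⟨e3 q2176 L21447 q1749, e3 q2177 L594173 q1674, e3 q2178 L21472 q1750, e3 q2179 L21483 q1751, e3 q2180 L21491 q1752, e3 q2181 L21501 q1590, e3 q2182 (flp_a L30868) q2951, e3 q2183 (flp_a L30877) q2952, e3 q2184 L21522 q1755, e3 q2185 L21530 q1756, e3 q2186 L21540 q1757, e3 q2187 L21549 q1758, e3 q2188 L21621 q1759, e3 q2189 (flp_a L591023) q1637, e3 q2190 (flp_a L593351) q1687, e3 q2191 L21655 q1760, e3 q2192 L21674 q1761, e3 q2193 L21683 q1762, e3 q2194 L21693 q1600, e3 q2195 L21701 q1601, e3 q2196 (flp_a L31166) q2969, e3 q2197 (flp_a L31172) q2970, e3 q2198 (flp_a L31181) q2971, e3 q2199 (flp_a L31190) q2972, e3 q2200 L21736 q1767, e3 q2201 L21745 q1768, e3 q2202 L21753 q1769, e3 q2203 (flp_a L598217) q1763, e3 q2204 L21772 q1770, e3 q2205 (flp_a L21779) q1606, e3 q2206 (flp_a L31295) q2985, e3 q2207 L21803 q1773, e3 q2208 L21813 q1774, e3 q2209 L21825 q1775, e3 q2210 L21834 q1610, e3 q2211 (flp_a L31368) q2992, e3 q2212 (flp_a L31378) q2993, e3 q2213 L21862 q1779, e3 q2214 L21870 q1780, e3 q2215 L21880 q1781, e3 q2216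 L21890 q1782, e3 q2217 L21900 q1615, e3 q2218 (flp_a L31468) q3003, e3 q2219 (flp_a L31479) q3004, e3 q2220 L21928 q1786, e3 q2221 L21936 q1787, e3 q2222 L21944 q1788, e3 q2223 L21956 q1789, e3 q2224 L21966 q1620, e3 q2225 L21975 q1621, e3 q2226 (flp_a L31569) q3014, e3 q2227 (flp_a L31576) q3015, e3 q2228 L594161 q2946, e3 q2229 (flp_a L31595) q3016, e3 q2230 L22013 q1794, e3 q2231 L22019 q1795, e3 q2232 L22027 q1796, e3 q2233 (flp_a L598203) q1753, e3 q2234 L22044 q1797, e3 q2235 L22055 q1627, e3 q2236 L22065 q1628, e3 q2237 (flp_a L31697) q3028, e3 q2238 (flp_a L31705) q3029, e3 q2239 (flp_a L589579) q2978, trivial⟩ (by decide +kernel)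

theorem ce_a_35 : ∀ r, r < 64 → sm ga (Qf (2240 + r)) = Qf (tab Gen.a (2240 + r)) :=
  edges_tab (sm ga) Qf (tab Gen.a) 2240 [(2240, 3030), (2241, 1802), (2242, 1803), (2243, 1804), (2244, 1765), (2245, 1805), (2246, 1635), (2247, 1636), (2248, 1638), (2249, 3042), (2250, 2963), (2251, 3043), (2252, 3044), (2253, 2964), (2254, 3045), (2255, 1811), (2256, 1812), (2257, 1813), (2258, 1814), (2259, 1764), (2260, 1646), (2261, 1647), (2262, 1648), (2263, 1649), (2264, 3060), (2265, 2630), (2266, 3061), (2267, 3062), (2268, 3063), (2269, 3064), (2270, 1825), (2271, 1826), (2272, 1827), (2273, 1828), (2274, 2274), (2275, 1657), (2276, 1658), (2277, 1659), (2278, 1660), (2279, 3078), (2280, 3079), (2281, 3080), (2282, 3081), (2283, 1838), (2284, 1839), (2285, 1664), (2286, 1665), (2287, 3088), (2288, 3089), (2289, 2934), (2290, 3090), (2291, 1844), (2292, 1845), (2293, 1846), (2294, 1745), (2295, 1847), (2296, 1672), (2297, 1673), (2298, 1675), (2299, 3102), (2300, 2699), (2301, 3103), (2302, 3104), (2303, 2947)]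
    ⟨e3 q2240 (flp_a L31725) q3030, e3 q2241 L22108 q1802, e3 q2242 L22118 q1803, e3 q2243 L22126 q1804, e3 q2244 (flp_a L598268) q1765, e3 q2245 L22143 q1805, e3 q2246 L22155 q1635, e3 q2247 L22161 q1636, e3 q2248 L22180 q1638, e3 q2249 (flp_a L31844) q3042, e3 q2250 (flp_a L591036) q2963, e3 q2251 (flp_a L31859) q3043, e3 q2252 (flp_a L31869) q3044, e3 q2253 L580473 q2964, e3 q2254 (flp_a L31898) q3045, e3 q2255 L22241 q1811, e3 q2256 L22249 q1812, e3 q2257 L22258 q1813, e3 q2258 L22265 q1814, e3 q2259 L598262 q1764, e3 q2260 L22282 q1646, e3 q2261 L22291 q1647, e3 q2262 L22302 q1648, e3 q2263 L22313 q1649, e3 q2264 (flp_a L32039) q3060, e3 q2265 (flp_a L536433) q2630, e3 q2266 (flp_a L32058) q3061, e3 q2267 (flp_a L32068) q3062, e3 q2268 (flp_a L32079) q3063, e3 q2269 (flp_a L32090) q3064, e3 q2270 L22375 q1825, e3 q2271 L22384 q1826, e3 q2272 L22394 q1827, e3 q2273 L22405 q1828, e3 q2274 L22419 q2274, e3 q2275 L22424 q1657, e3 q2276 L22432 q1658, e3 q2277 L22441 q1659, e3 q2278 L22451 q1660, e3 q2279 (flp_a L32227) q3078,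 e3 q2280 (flp_a L32236) q3079, e3 q2281 (flp_a L32244) q3080, e3 q2282 (flp_a L32253) q3081, e3 q2283 L22492 q1838, e3 q2284 L22500 q1839, e3 q2285 L22509 q1664, e3 q2286 L22521 q1665, e3 q2287 (flp_a L32309) q3088, e3 q2288 (flp_a L32319) q3089, e3 q2289 L594526 q2934, e3 q2290 (flp_a L32341) q3090, e3 q2291 L22565 q1844, e3 q2292 L22576 q1845, e3 q2293 L22585 q1846, e3 q2294 L598102 q1745, e3 q2295 L22605 q1847, e3 q2296 L22616 q1672, e3 q2297 L22625 q1673, e3 q2298 L22644 q1675, e3 q2299 (flp_a L32472) q3102, e3 q2300 L594167 q2699, e3 q2301 (flp_a L32489) q3103, e3 q2302 (flp_a L32499) q3104, e3 q2303 L594153 q2947, trivial⟩ (by decide +kernel)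

theorem ce_a_36 : ∀ r, r < 64 → sm ga (Qf (2304 + r)) = Qf (tab Gen.a (2304 + r)) :=
  edges_tab (sm ga) Qf (tab Gen.a) 2304 [(2304, 3105), (2305, 1853), (2306, 1854), (2307, 1855), (2308, 1856), (2309, 1754), (2310, 1684), (2311, 1686), (2312, 1688), (2313, 3120), (2314, 2714), (2315, 2713), (2316, 3121), (2317, 2965), (2318, 1860), (2319, 1766), (2320, 1695), (2321, 1696), (2322, 1698), (2323, 3128), (2324, 2689), (2325, 3129), (2326, 3130), (2327, 2912), (2328, 1865), (2329, 1866), (2330, 1867), (2331, 1728), (2332, 1705), (2333, 1707), (2334, 3143), (2335, 2679), (2336, 2557), (2337, 2922), (2338, 1869), (2339, 1738), (2340, 2565), (2341, 2341), (2342, 2897), (2343, 2898), (2344, 2899), (2345, 2900), (2346, 2901), (2347, 2902), (2348, 2903), (2349, 2904), (2350, 3142), (2351, 2906), (2352, 2907), (2353, 2353), (2354, 2908), (2355, 2909), (2356, 2910), (2357, 2911), (2358, 2913), (2359, 2914), (2360, 3141), (2361, 2917), (2362, 2918), (2363, 2919), (2364, 2364), (2365, 2365), (2366, 2920), (2367, 2921)]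
    ⟨e3 q2304 (flp_a L32529) q3105, e3 q2305 L22709 q1853, e3 q2306 L22719 q1854, e3 q2307 L22728 q1855, e3 q2308 L22738 q1856, e3 q2309 (flp_a L598110) q1754, e3 q2310 L22764 q1684, e3 q2311 L22782 q1686, e3 q2312 L22812 q1688, e3 q2313 (flp_a L32694) q3120, e3 q2314 (flp_a L593359) q2714, e3 q2315 L592279 q2713, e3 q2316 (flp_a L32727) q3121, e3 q2317 L580500 q2965, e3 q2318 L22876 q1860, e3 q2319 L594652 q1766, e3 q2320 L22894 q1695, e3 q2321 L22903 q1696, e3 q2322 L22924 q1698, e3 q2323 (flp_a L32838) q3128, e3 q2324 (flp_a L593196) q2689, e3 q2325 (flp_a L32857) q3129, e3 q2326 (flp_a L32867) q3130, e3 q2327 L594349 q2912, e3 q2328 L22988 q1865, e3 q2329 L22998 q1866, e3 q2330 L23007 q1867, e3 q2331 L597584 q1728, e3 q2332 L23037 q1705, e3 q2333 L23054 q1707, e3 q2334 (flp_a L33046) q3143, e3 q2335 L594371 q2679, e3 q2336 (flp_a L593214) q2557, e3 q2337 L594365 q2922, e3 q2338 L23129 q1869, e3 q2339 L597560 q1738, e3 q2340 L574910 q2565, e3 q2341 L23185 q2341, e3 q2342 (flp_a L30102) q2897, e3 q2343 (flp_a L30112) q2898,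 e3 q2344 (flp_a L30123) q2899, e3 q2345 (flp_a L30147) q2900, e3 q2346 (flp_a L30157) q2901, e3 q2347 (flp_a L30167) q2902, e3 q2348 (flp_a L30178) q2903, e3 q2349 (flp_a L30189) q2904, e3 q2350 L597693 q3142, e3 q2351 (flp_a L30207) q2906, e3 q2352 (flp_a L30217) q2907, e3 q2353 L23309 q2353, e3 q2354 (flp_a L30225) q2908, e3 q2355 (flp_a L30236) q2909, e3 q2356 (flp_a L30272) q2910, e3 q2357 (flp_a L30292) q2911, e3 q2358 (flp_a L30310) q2913, e3 q2359 (flp_a L30320) q2914, e3 q2360 L598053 q3141, e3 q2361 (flp_a L30348) q2917, e3 q2362 (flp_a L30356) q2918, e3 q2363 (flp_a L30367) q2919, e3 q2364 L23467 q2364, e3 q2365 L23475 q2365, e3 q2366 (flp_a L30429) q2920, e3 q2367 (flp_a L30456) q2921, trivial⟩ (by decide +kernel)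

theorem ce_a_37 : ∀ r, r < 64 → sm ga (Qf (2368 + r)) = Qf (tab Gen.a (2368 + r)) :=
  edges_tab (sm ga) Qf (tab Gen.a) 2368 [(2368, 2923), (2369, 2924), (2370, 2925), (2371, 3150), (2372, 3117), (2373, 2929), (2374, 2930), (2375, 2931), (2376, 2932), (2377, 2933), (2378, 2935), (2379, 2936), (2380, 2937), (2381, 3001), (2382, 3101), (2383, 2941), (2384, 2942), (2385, 2943), (2386, 2944), (2387, 2945), (2388, 2948), (2389, 2949), (2390, 2950), (2391, 2960), (2392, 3027), (2393, 3012), (2394, 3119), (2395, 2957), (2396, 2958), (2397, 2959), (2398, 2961), (2399, 2962), (2400, 2966), (2401, 2967), (2402, 2968), (2403, 2984), (2404, 3057), (2405, 3059), (2406, 3041), (2407, 3127), (2408, 2980), (2409, 2981), (2410, 2982), (2411, 2983), (2412, 1772), (2413, 3232), (2414, 3233), (2415, 2988), (2416, 2989), (2417, 2990), (2418, 2991), (2419, 1777), (2420, 1778), (2421, 3240), (2422, 3241), (2423, 2998), (2424, 2999), (2425, 3000), (2426, 3002), (2427, 1784), (2428, 1785), (2429, 3245), (2430, 3246), (2431, 3009)]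
    ⟨e3 q2368 (flp_a L30482) q2923, e3 q2369 (flp_a L30491) q2924, e3 q2370 (flp_a L30501) q2925, e3 q2371 L597551 q3150, e3 q2372 L598039 q3117, e3 q2373 (flp_a L30532) q2929, e3 q2374 (flp_a L30539) q2930, e3 q2375 (flp_a L30547) q2931, e3 q2376 (flp_a L30557) q2932, e3 q2377 (flp_a L30608) q2933, e3 q2378 (flp_a L30637) q2935, e3 q2379 (flp_a L30649) q2936, e3 q2380 (flp_a L30659) q2937, e3 q2381 L598091 q3001, e3 q2382 (flp_a L598075) q3101, e3 q2383 (flp_a L30693) q2941, e3 q2384 (flp_a L30703) q2942, e3 q2385 (flp_a L30714) q2943, e3 q2386 (flp_a L30722) q2944, e3 q2387 (flp_a L30794) q2945, e3 q2388 (flp_a L30829) q2948, e3 q2389 (flp_a L30848) q2949, e3 q2390 (flp_a L30858) q2950, e3 q2391 (flp_a L587384) q2960, e3 q2392 L598512 q3027, e3 q2393 (flp_a L588951) q3012, e3 q2394 L598525 q3119, e3 q2395 (flp_a L30912) q2957, e3 q2396 (flp_a L30919) q2958, e3 q2397 (flp_a L30929) q2959, e3 q2398 (flp_a L30948) q2961, e3 q2399 (flp_a L31056) q2962, e3 q2400 (flp_a L31116) q2966, e3 q2401 (flp_a L31127) q2967, e3 q2402 (flp_a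 L31156) q2968, e3 q2403 L598252 q2984, e3 q2404 L598236 q3057, e3 q2405 L598520 q3059, e3 q2406 (flp_a L598294) q3041, e3 q2407 L598445 q3127, e3 q2408 (flp_a L31248) q2980, e3 q2409 (flp_a L31257) q2981, e3 q2410 (flp_a L31267) q2982, e3 q2411 (flp_a L31276) q2983, e3 q2412 L24370 q1772, e3 q2413 (flp_a L35030) q3232, e3 q2414 (flp_a L35040) q3233, e3 q2415 (flp_a L31327) q2988, e3 q2416 (flp_a L31337) q2989, e3 q2417 (flp_a L31346) q2990, e3 q2418 (flp_a L31357) q2991, e3 q2419 L24436 q1777, e3 q2420 L24444 q1778, e3 q2421 (flp_a L35140) q3240, e3 q2422 (flp_a L35158) q3241, e3 q2423 (flp_a L31421) q2998, e3 q2424 (flp_a L31429) q2999, e3 q2425 (flp_a L31436) q3000, e3 q2426 (flp_a L31456) q3002, e3 q2427 L24525 q1784, e3 q2428 L24534 q1785, e3 q2429 (flp_a L35272) q3245, e3 q2430 (flp_a L35288) q3246, e3 q2431 (flp_a L31522) q3009, trivial⟩ (by decide +kernel)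

theorem ce_a_38 : ∀ r, r < 64 → sm ga (Qf (2432 + r)) = Qf (tab Gen.a (2432 + r)) :=
  edges_tab (sm ga) Qf (tab Gen.a) 2432 [(2432, 3010), (2433, 3011), (2434, 3013), (2435, 1792), (2436, 1793), (2437, 3254), (2438, 3255), (2439, 3256), (2440, 3023), (2441, 3024), (2442, 3025), (2443, 3026), (2444, 1800), (2445, 1801), (2446, 3259), (2447, 3260), (2448, 3261), (2449, 3037), (2450, 3038), (2451, 3039), (2452, 3040), (2453, 1808), (2454, 1809), (2455, 1810), (2456, 3269), (2457, 3270), (2458, 3054), (2459, 3055), (2460, 3056), (2461, 3058), (2462, 2462), (2463, 1819), (2464, 1820), (2465, 1821), (2466, 1822), (2467, 1823), (2468, 1824), (2469, 3274), (2470, 3275), (2471, 3276), (2472, 2625), (2473, 3277), (2474, 3278), (2475, 3279), (2476, 3280), (2477, 3072), (2478, 3073), (2479, 3074), (2480, 3075), (2481, 3076), (2482, 2482), (2483, 1834), (2484, 1835), (2485, 1836), (2486, 1837), (2487, 3299), (2488, 3300), (2489, 3301), (2490, 3302), (2491, 3303), (2492, 3087), (2493, 1842), (2494, 1843), (2495, 3308)]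
    ⟨e3 q2432 (flp_a L31530) q3010, e3 q2433 (flp_a L31540) q3011, e3 q2434 (flp_a L31557) q3013, e3 q2435 L24623 q1792, e3 q2436 L24638 q1793, e3 q2437 (flp_a L35415) q3254, e3 q2438 (flp_a L35421) q3255, e3 q2439 (flp_a L35446) q3256, e3 q2440 (flp_a L31657) q3023, e3 q2441 (flp_a L31664) q3024, e3 q2442 (flp_a L31671) q3025, e3 q2443 (flp_a L31679) q3026, e3 q2444 L24740 q1800, e3 q2445 L24756 q1801, e3 q2446 (flp_a L35597) q3259, e3 q2447 (flp_a L35607) q3260, e3 q2448 (flp_a L35632) q3261, e3 q2449 (flp_a L31794) q3037, e3 q2450 (flp_a L31804) q3038, e3 q2451 (flp_a L31812) q3039, e3 q2452 (flp_a L31821) q3040, e3 q2453 L24881 q1808, e3 q2454 L24889 q1809, e3 q2455 L24912 q1810, e3 q2456 (flp_a L35824) q3269, e3 q2457 (flp_a L35841) q3270, e3 q2458 (flp_a L31978) q3054, e3 q2459 (flp_a L31985) q3055, e3 q2460 (flp_a L31994) q3056, e3 q2461 (flp_a L32012) q3058, e3 q2462 L25038 q2462, e3 q2463 L25041 q1819, e3 q2464 L25051 q1820, e3 q2465 L25061 q1821, e3 q2466 L25069 q1822, e3 q2467 L25078 q1823, e3 q2468 L25087 q1824,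 e3 q2469 (flp_a L36030) q3274, e3 q2470 (flp_a L36040) q3275, e3 q2471 (flp_a L36050) q3276, e3 q2472 (flp_a L527903) q2625, e3 q2473 (flp_a L36069) q3277, e3 q2474 (flp_a L36077) q3278, e3 q2475 (flp_a L36086) q3279, e3 q2476 (flp_a L36096) q3280, e3 q2477 (flp_a L32170) q3072, e3 q2478 (flp_a L32179) q3073, e3 q2479 (flp_a L32189) q3074, e3 q2480 (flp_a L32199) q3075, e3 q2481 (flp_a L32207) q3076, e3 q2482 L25206 q2482, e3 q2483 L25214 q1834, e3 q2484 L25223 q1835, e3 q2485 L25232 q1836, e3 q2486 L25239 q1837, e3 q2487 (flp_a L36267) q3299, e3 q2488 (flp_a L36274) q3300, e3 q2489 (flp_a L36283) q3301, e3 q2490 (flp_a L36293) q3302, e3 q2491 (flp_a L36300) q3303, e3 q2492 (flp_a L32300) q3087, e3 q2493 L25304 q1842, e3 q2494 L25322 q1843, e3 q2495 (flp_a L36384) q3308, trivial⟩ (by decide +kernel)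

theorem ce_a_39 : ∀ r, r < 64 → sm ga (Qf (2496 + r)) = Qf (tab Gen.a (2496 + r)) :=
  edges_tab (sm ga) Qf (tab Gen.a) 2496 [(2496, 3309), (2497, 3310), (2498, 3097), (2499, 3098), (2500, 3099), (2501, 3100), (2502, 1850), (2503, 1851), (2504, 1852), (2505, 3313), (2506, 3314), (2507, 3114), (2508, 3115), (2509, 3116), (2510, 3118), (2511, 1859), (2512, 1863), (2513, 1864), (2514, 3316), (2515, 3138), (2516, 3139), (2517, 3140), (2518, 3149), (2519, 1872), (2520, 3318), (2521, 2521), (2522, 2522), (2523, 2523), (2524, 2524), (2525, 2525), (2526, 2526), (2527, 2527), (2528, 2528), (2529, 2529), (2530, 2530), (2531, 2531), (2532, 2532), (2533, 2533), (2534, 3335), (2535, 2535), (2536, 2536), (2537, 1886), (2538, 3340), (2539, 2539), (2540, 2540), (2541, 2541), (2542, 2542), (2543, 2543), (2544, 2544), (2545, 2545), (2546, 2546), (2547, 2547), (2548, 2548), (2549, 3358), (2550, 2550), (2551, 2551), (2552, 2552), (2553, 2553), (2554, 3366), (2555, 2555), (2556, 2556), (2557, 2336), (2558, 2558), (2559, 2559)]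
    ⟨e3 q2496 (flp_a L36394) q3309, e3 q2497 (flp_a L36420) q3310, e3 q2498 (flp_a L32413) q3097, e3 q2499 (flp_a L32422) q3098, e3 q2500 (flp_a L32433) q3099, e3 q2501 (flp_a L32444) q3100, e3 q2502 L25461 q1850, e3 q2503 L25469 q1851, e3 q2504 L25493 q1852, e3 q2505 (flp_a L36636) q3313, e3 q2506 (flp_a L36653) q3314, e3 q2507 (flp_a L32618) q3114, e3 q2508 (flp_a L32628) q3115, e3 q2509 (flp_a L32638) q3116, e3 q2510 (flp_a L32655) q3118, e3 q2511 L25679 q1859, e3 q2512 L25804 q1863, e3 q2513 L25812 q1864, e3 q2514 (flp_a L37082) q3316, e3 q2515 (flp_a L32979) q3138, e3 q2516 (flp_a L32988) q3139, e3 q2517 (flp_a L32998) q3140, e3 q2518 (flp_a L33162) q3149, e3 q2519 L26227 q1872, e3 q2520 (flp_a L37670) q3318, e3 q2521 L26386 q2521, e3 q2522 L26395 q2522, e3 q2523 L26413 q2523, e3 q2524 L26703 q2524, e3 q2525 L26713 q2525, e3 q2526 L26724 q2526, e3 q2527 L26735 q2527, e3 q2528 L26743 q2528, e3 q2529 L26753 q2529, e3 q2530 L26764 q2530, e3 q2531 L26774 q2531, e3 q2532 L26782 q2532, e3 q2533 L26792 q2533, e3 q2534 L38438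 q3335, e3 q2535 L26812 q2535, e3 q2536 L26822 q2536, e3 q2537 (flp_a L26828) q1886, e3 q2538 (flp_a L38486) q3340, e3 q2539 L26849 q2539, e3 q2540 L26856 q2540, e3 q2541 L26866 q2541, e3 q2542 L26875 q2542, e3 q2543 L26888 q2543, e3 q2544 L26896 q2544, e3 q2545 L26907 q2545, e3 q2546 L26916 q2546, e3 q2547 L26923 q2547, e3 q2548 L26934 q2548, e3 q2549 L38651 q3358, e3 q2550 L26951 q2550, e3 q2551 L26957 q2551, e3 q2552 L26964 q2552, e3 q2553 L26975 q2553, e3 q2554 L38721 q3366, e3 q2555 L26995 q2555, e3 q2556 L27003 q2556, e3 q2557 L593214 q2336, e3 q2558 L27021 q2558, e3 q2559 L27031 q2559, trivial⟩ (by decide +kernel)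

theorem ce_a_40 : ∀ r, r < 64 → sm ga (Qf (2560 + r)) = Qf (tab Gen.a (2560 + r)) :=
  edges_tab (sm ga) Qf (tab Gen.a) 2560 [(2560, 1901), (2561, 3375), (2562, 2562), (2563, 2563), (2564, 2564), (2565, 2340), (2566, 2566), (2567, 2567), (2568, 2568), (2569, 1908), (2570, 3388), (2571, 3389), (2572, 2572), (2573, 2573), (2574, 2574), (2575, 2575), (2576, 2576), (2577, 2577), (2578, 3402), (2579, 2579), (2580, 2580), (2581, 1915), (2582, 3407), (2583, 2583), (2584, 2584), (2585, 2585), (2586, 3414), (2587, 2587), (2588, 2588), (2589, 1920), (2590, 3419), (2591, 2591), (2592, 2592), (2593, 2593), (2594, 1924), (2595, 3426), (2596, 3427), (2597, 2597), (2598, 2598), (2599, 2599), (2600, 2600), (2601, 1928), (2602, 3437), (2603, 2603), (2604, 2604), (2605, 2605), (2606, 1932), (2607, 3444), (2608, 3445), (2609, 2609), (2610, 2610), (2611, 2611), (2612, 2612), (2613, 1937), (2614, 1938), (2615, 3455), (2616, 3456), (2617, 3457), (2618, 3458), (2619, 2619), (2620, 2620), (2621, 2621), (2622, 2622), (2623, 2623)]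
    ⟨e3 q2560 (flp_a L27038) q1901, e3 q2561 (flp_a L38815) q3375, e3 q2562 L27055 q2562, e3 q2563 L27064 q2563, e3 q2564 L27069 q2564, e3 q2565 (flp_a L574910) q2340, e3 q2566 L27097 q2566, e3 q2567 L27107 q2567, e3 q2568 L27117 q2568, e3 q2569 L27127 q1908, e3 q2570 (flp_a L38935) q3388, e3 q2571 (flp_a L38943) q3389, e3 q2572 L27148 q2572, e3 q2573 L27156 q2573, e3 q2574 L27164 q2574, e3 q2575 L27170 q2575, e3 q2576 L27178 q2576, e3 q2577 L27189 q2577, e3 q2578 L39049 q3402, e3 q2579 L27211 q2579, e3 q2580 L27221 q2580, e3 q2581 (flp_a L27228) q1915, e3 q2582 (flp_a L39101) q3407, e3 q2583 L27250 q2583, e3 q2584 L27258 q2584, e3 q2585 L27267 q2585, e3 q2586 L39160 q3414, e3 q2587 L27284 q2587, e3 q2588 L27294 q2588, e3 q2589 (flp_a L27301) q1920, e3 q2590 (flp_a L39211) q3419, e3 q2591 L27323 q2591, e3 q2592 L27332 q2592, e3 q2593 L27340 q2593, e3 q2594 L27349 q1924, e3 q2595 (flp_a L39272) q3426, e3 q2596 (flp_a L39281) q3427, e3 q2597 L27373 q2597, e3 q2598 L27378 q2598, e3 q2599 L27386 q2599, e3 q2600 L27395 q2600,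 e3 q2601 (flp_a L27401) q1928, e3 q2602 (flp_a L39356) q3437, e3 q2603 L27423 q2603, e3 q2604 L27430 q2604, e3 q2605 L27441 q2605, e3 q2606 L27451 q1932, e3 q2607 (flp_a L39421) q3444, e3 q2608 (flp_a L39431) q3445, e3 q2609 L27479 q2609, e3 q2610 L27487 q2610, e3 q2611 L27493 q2611, e3 q2612 L27502 q2612, e3 q2613 L27511 q1937, e3 q2614 L27519 q1938, e3 q2615 (flp_a L39516) q3455, e3 q2616 (flp_a L39524) q3456, e3 q2617 (flp_a L39532) q3457, e3 q2618 (flp_a L39541) q3458, e3 q2619 L27558 q2619, e3 q2620 L27566 q2620, e3 q2621 L27571 q2621, e3 q2622 L27578 q2622, e3 q2623 L27585 q2623, trivial⟩ (by decide +kernel)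

theorem ce_a_41 : ∀ r, r < 64 → sm ga (Qf (2624 + r)) = Qf (tab Gen.a (2624 + r)) :=
  edges_tab (sm ga) Qf (tab Gen.a) 2624 [(2624, 1943), (2625, 2472), (2626, 2626), (2627, 2627), (2628, 2628), (2629, 1947), (2630, 2265), (2631, 3475), (2632, 2632), (2633, 2633), (2634, 2634), (2635, 2635), (2636, 1952), (2637, 1953), (2638, 2056), (2639, 3482), (2640, 2054), (2641, 3483), (2642, 2642), (2643, 2643), (2644, 2644), (2645, 2645), (2646, 2646), (2647, 1960), (2648, 1961), (2649, 1962), (2650, 1963), (2651, 3494), (2652, 2072), (2653, 3495), (2654, 3496), (2655, 3497), (2656, 2068), (2657, 3498), (2658, 2658), (2659, 2659), (2660, 2660), (2661, 2661), (2662, 2662), (2663, 2663), (2664, 2664), (2665, 2665), (2666, 2666), (2667, 2667), (2668, 2668), (2669, 2669), (2670, 2670), (2671, 2671), (2672, 2672), (2673, 3528), (2674, 2674), (2675, 2675), (2676, 2676), (2677, 2677), (2678, 2678), (2679, 2335), (2680, 2680), (2681, 2681), (2682, 1982), (2683, 3541), (2684, 2684), (2685, 2685), (2686, 2686), (2687, 2687)]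
    ⟨e3 q2624 (flp_a L27592) q1943, e3 q2625 L527903 q2472, e3 q2626 L27613 q2626, e3 q2627 L27622 q2627, e3 q2628 L27631 q2628, e3 q2629 L27641 q1947, e3 q2630 L536433 q2265, e3 q2631 (flp_a L39711) q3475, e3 q2632 L27669 q2632, e3 q2633 L27676 q2633, e3 q2634 L27684 q2634, e3 q2635 L27693 q2635, e3 q2636 L27702 q1952, e3 q2637 L27713 q1953, e3 q2638 (flp_a L536680) q2056, e3 q2639 (flp_a L39805) q3482, e3 q2640 L563390 q2054, e3 q2641 (flp_a L39824) q3483, e3 q2642 L27757 q2642, e3 q2643 L27766 q2643, e3 q2644 L27775 q2644, e3 q2645 L27782 q2645, e3 q2646 L27792 q2646, e3 q2647 L27801 q1960, e3 q2648 L27810 q1961, e3 q2649 L27818 q1962, e3 q2650 L27828 q1963, e3 q2651 (flp_a L39947) q3494, e3 q2652 (flp_a L563439) q2072, e3 q2653 (flp_a L39965) q3495, e3 q2654 (flp_a L39973) q3496, e3 q2655 (flp_a L39981) q3497, e3 q2656 L563429 q2068, e3 q2657 (flp_a L40000) q3498, e3 q2658 L27891 q2658, e3 q2659 L27897 q2659, e3 q2660 L27906 q2660, e3 q2661 L27914 q2661, e3 q2662 L27922 q2662, e3 q2663 L27930 q2663, e3 q2664 L27941 q2664,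 e3 q2665 L27953 q2665, e3 q2666 L27964 q2666, e3 q2667 L27975 q2667, e3 q2668 L27983 q2668, e3 q2669 L27993 q2669, e3 q2670 L28005 q2670, e3 q2671 L28017 q2671, e3 q2672 L28026 q2672, e3 q2673 L40286 q3528, e3 q2674 L28045 q2674, e3 q2675 L28053 q2675, e3 q2676 L28064 q2676, e3 q2677 L28073 q2677, e3 q2678 L28083 q2678, e3 q2679 (flp_a L594371) q2335, e3 q2680 L28101 q2680, e3 q2681 L28109 q2681, e3 q2682 (flp_a L28117) q1982, e3 q2683 (flp_a L40426) q3541, e3 q2684 L28136 q2684, e3 q2685 L28141 q2685, e3 q2686 L28149 q2686, e3 q2687 L28159 q2687, trivial⟩ (by decide +kernel)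

theorem ce_a_42 : ∀ r, r < 64 → sm ga (Qf (2688 + r)) = Qf (tab Gen.a (2688 + r)) :=
  edges_tab (sm ga) Qf (tab Gen.a) 2688 [(2688, 2688), (2689, 2324), (2690, 2690), (2691, 2691), (2692, 1988), (2693, 3554), (2694, 2694), (2695, 2695), (2696, 2696), (2697, 2697), (2698, 2698), (2699, 2300), (2700, 2700), (2701, 2701), (2702, 2702), (2703, 1997), (2704, 3570), (2705, 3571), (2706, 2706), (2707, 2707), (2708, 2708), (2709, 2709), (2710, 2710), (2711, 2711), (2712, 2712), (2713, 2315), (2714, 2314), (2715, 2715), (2716, 2716), (2717, 2717), (2718, 2718), (2719, 2008), (2720, 2009), (2721, 3594), (2722, 3595), (2723, 3596), (2724, 3597), (2725, 2725), (2726, 2726), (2727, 2727), (2728, 2728), (2729, 2729), (2730, 2014), (2731, 3610), (2732, 2732), (2733, 2733), (2734, 2734), (2735, 2018), (2736, 3617), (2737, 3618), (2738, 2738), (2739, 2739), (2740, 2740), (2741, 2741), (2742, 2023), (2743, 3628), (2744, 3629), (2745, 2745), (2746, 2746), (2747, 2747), (2748, 2748), (2749, 2028), (2750, 2029), (2751, 3639)]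
    ⟨e3 q2688 L28169 q2688, e3 q2689 L593196 q2324, e3 q2690 L28190 q2690, e3 q2691 L28200 q2691, e3 q2692 (flp_a L28209) q1988, e3 q2693 (flp_a L40563) q3554, e3 q2694 L28230 q2694, e3 q2695 L28238 q2695, e3 q2696 L28246 q2696, e3 q2697 L28265 q2697, e3 q2698 L28275 q2698, e3 q2699 (flp_a L594167) q2300, e3 q2700 L28303 q2700, e3 q2701 L28312 q2701, e3 q2702 L28319 q2702, e3 q2703 L28330 q1997, e3 q2704 (flp_a L40738) q3570, e3 q2705 (flp_a L40745) q3571, e3 q2706 L28353 q2706, e3 q2707 L28360 q2707, e3 q2708 L28368 q2708, e3 q2709 L28376 q2709, e3 q2710 L28407 q2710, e3 q2711 L28414 q2711, e3 q2712 L28424 q2712, e3 q2713 (flp_a L592279) q2315, e3 q2714 L593359 q2314, e3 q2715 L28461 q2715, e3 q2716 L28471 q2716, e3 q2717 L28477 q2717, e3 q2718 L28485 q2718, e3 q2719 L28496 q2008, e3 q2720 L28502 q2009, e3 q2721 (flp_a L40980) q3594, e3 q2722 (flp_a L40987) q3595, e3 q2723 (flp_a L40995) q3596, e3 q2724 (flp_a L41002) q3597, e3 q2725 L28540 q2725, e3 q2726 L28547 q2726, e3 q2727 L28554 q2727, e3 q2728 L28563 q2728, e3 q2729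 L28570 q2729, e3 q2730 (flp_a L28576) q2014, e3 q2731 (flp_a L41103) q3610, e3 q2732 L28602 q2732, e3 q2733 L28610 q2733, e3 q2734 L28621 q2734, e3 q2735 L28631 q2018, e3 q2736 (flp_a L41175) q3617, e3 q2737 (flp_a L41183) q3618, e3 q2738 L28661 q2738, e3 q2739 L28668 q2739, e3 q2740 L28676 q2740, e3 q2741 L28685 q2741, e3 q2742 L28696 q2023, e3 q2743 (flp_a L41269) q3628, e3 q2744 (flp_a L41278) q3629, e3 q2745 L28726 q2745, e3 q2746 L28733 q2746, e3 q2747 L28739 q2747, e3 q2748 L28750 q2748, e3 q2749 L28761 q2028, e3 q2750 L28768 q2029, e3 q2751 (flp_a L41364) q3639, trivial⟩ (by decide +kernel)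

theorem ce_a_43 : ∀ r, r < 64 → sm ga (Qf (2752 + r)) = Qf (tab Gen.a (2752 + r)) :=
  edges_tab (sm ga) Qf (tab Gen.a) 2752 [(2752, 3640), (2753, 3641), (2754, 3642), (2755, 2755), (2756, 2756), (2757, 2757), (2758, 2758), (2759, 2759), (2760, 2035), (2761, 2036), (2762, 3655), (2763, 3656), (2764, 3657), (2765, 3658), (2766, 2766), (2767, 2767), (2768, 2768), (2769, 2769), (2770, 2770), (2771, 2043), (2772, 2044), (2773, 2045), (2774, 2046), (2775, 3672), (2776, 3673), (2777, 3674), (2778, 3675), (2779, 3676), (2780, 3677), (2781, 3678), (2782, 2782), (2783, 2783), (2784, 2784), (2785, 2785), (2786, 2786), (2787, 2055), (2788, 2057), (2789, 3487), (2790, 3696), (2791, 3697), (2792, 3484), (2793, 3698), (2794, 2794), (2795, 2795), (2796, 2796), (2797, 2797), (2798, 2798), (2799, 2067), (2800, 2069), (2801, 2070), (2802, 2071), (2803, 2073), (2804, 3712), (2805, 3713), (2806, 3506), (2807, 3714), (2808, 3715), (2809, 3716), (2810, 3717), (2811, 3501), (2812, 2812), (2813, 2813), (2814, 2814), (2815, 2815)]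
    ⟨e3 q2752 (flp_a L41372) q3640, e3 q2753 (flp_a L41379) q3641, e3 q2754 (flp_a L41388) q3642, e3 q2755 L28809 q2755, e3 q2756 L28813 q2756, e3 q2757 L28820 q2757, e3 q2758 L28827 q2758, e3 q2759 L28834 q2759, e3 q2760 L28844 q2035, e3 q2761 L28852 q2036, e3 q2762 (flp_a L41486) q3655, e3 q2763 (flp_a L41495) q3656, e3 q2764 (flp_a L41505) q3657, e3 q2765 (flp_a L41512) q3658, e3 q2766 L28898 q2766, e3 q2767 L28906 q2767, e3 q2768 L28913 q2768, e3 q2769 L28920 q2769, e3 q2770 L28927 q2770, e3 q2771 L28938 q2043, e3 q2772 L28945 q2044, e3 q2773 L28953 q2045, e3 q2774 L28961 q2046, e3 q2775 (flp_a L41627) q3672, e3 q2776 (flp_a L41636) q3673, e3 q2777 (flp_a L41643) q3674, e3 q2778 (flp_a L41651) q3675, e3 q2779 (flp_a L41658) q3676, e3 q2780 (flp_a L41668) q3677, e3 q2781 (flp_a L41676) q3678, e3 q2782 L29024 q2782, e3 q2783 L29031 q2783, e3 q2784 L29037 q2784, e3 q2785 L29043 q2785, e3 q2786 L29050 q2786, e3 q2787 L29068 q2055, e3 q2788 L29086 q2057, e3 q2789 (flp_a L563370) q3487, e3 q2790 (flp_a L41835) q3696, e3 q2791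 (flp_a L41843) q3697, e3 q2792 L563489 q3484, e3 q2793 (flp_a L41872) q3698, e3 q2794 L29158 q2794, e3 q2795 L29166 q2795, e3 q2796 L29173 q2796, e3 q2797 L29183 q2797, e3 q2798 L29191 q2798, e3 q2799 L29209 q2067, e3 q2800 L29227 q2069, e3 q2801 L29233 q2070, e3 q2802 L29241 q2071, e3 q2803 L29260 q2073, e3 q2804 (flp_a L42045) q3712, e3 q2805 (flp_a L42052) q3713, e3 q2806 (flp_a L536490) q3506, e3 q2807 (flp_a L42080) q3714, e3 q2808 (flp_a L42087) q3715, e3 q2809 (flp_a L42095) q3716, e3 q2810 (flp_a L42104) q3717, e3 q2811 L562727 q3501, e3 q2812 L29341 q2812, e3 q2813 L29346 q2813, e3 q2814 L29353 q2814, e3 q2815 L29361 q2815, trivial⟩ (by decide +kernel)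

theorem ce_a_44 : ∀ r, r < 64 → sm ga (Qf (2816 + r)) = Qf (tab Gen.a (2816 + r)) :=
  edges_tab (sm ga) Qf (tab Gen.a) 2816 [(2816, 2816), (2817, 2817), (2818, 2818), (2819, 2080), (2820, 2081), (2821, 3738), (2822, 3739), (2823, 3740), (2824, 3741), (2825, 2825), (2826, 2826), (2827, 2827), (2828, 2828), (2829, 2829), (2830, 2088), (2831, 2089), (2832, 2090), (2833, 2091), (2834, 3754), (2835, 3755), (2836, 3756), (2837, 3757), (2838, 3758), (2839, 3759), (2840, 3760), (2841, 2841), (2842, 2842), (2843, 2843), (2844, 2844), (2845, 2845), (2846, 2101), (2847, 2102), (2848, 2103), (2849, 2104), (2850, 2105), (2851, 2106), (2852, 2107), (2853, 3778), (2854, 3779), (2855, 3780), (2856, 3587), (2857, 3781), (2858, 3782), (2859, 3783), (2860, 3784), (2861, 3785), (2862, 3786), (2863, 2863), (2864, 2864), (2865, 2865), (2866, 2866), (2867, 2867), (2868, 2868), (2869, 2869), (2870, 2118), (2871, 2119), (2872, 2120), (2873, 2121), (2874, 2122), (2875, 3810), (2876, 3811), (2877, 3812), (2878, 3813), (2879, 3814)]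
    ⟨e3 q2816 L29367 q2816, e3 q2817 L29374 q2817, e3 q2818 L29384 q2818, e3 q2819 L29393 q2080, e3 q2820 L29403 q2081, e3 q2821 (flp_a L42288) q3738, e3 q2822 (flp_a L42299) q3739, e3 q2823 (flp_a L42309) q3740, e3 q2824 (flp_a L42318) q3741, e3 q2825 L29450 q2825, e3 q2826 L29459 q2826, e3 q2827 L29467 q2827, e3 q2828 L29475 q2828, e3 q2829 L29484 q2829, e3 q2830 L29494 q2088, e3 q2831 L29504 q2089, e3 q2832 L29512 q2090, e3 q2833 L29520 q2091, e3 q2834 (flp_a L42445) q3754, e3 q2835 (flp_a L42454) q3755, e3 q2836 (flp_a L42463) q3756, e3 q2837 (flp_a L42471) q3757, e3 q2838 (flp_a L42481) q3758, e3 q2839 (flp_a L42488) q3759, e3 q2840 (flp_a L42497) q3760, e3 q2841 L29587 q2841, e3 q2842 L29595 q2842, e3 q2843 L29602 q2843, e3 q2844 L29611 q2844, e3 q2845 L29619 q2845, e3 q2846 L29635 q2101, e3 q2847 L29645 q2102, e3 q2848 L29653 q2103, e3 q2849 L29663 q2104, e3 q2850 L29671 q2105, e3 q2851 L29679 q2106, e3 q2852 L29687 q2107, e3 q2853 (flp_a L42660) q3778, e3 q2854 (flp_a L42670) q3779, e3 q2855 (flp_a L42679) q3780,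 e3 q2856 (flp_a L592358) q3587, e3 q2857 (flp_a L42695) q3781, e3 q2858 (flp_a L42704) q3782, e3 q2859 (flp_a L42714) q3783, e3 q2860 (flp_a L42723) q3784, e3 q2861 (flp_a L42732) q3785, e3 q2862 (flp_a L42739) q3786, e3 q2863 L29776 q2863, e3 q2864 L29784 q2864, e3 q2865 L29794 q2865, e3 q2866 L29802 q2866, e3 q2867 L29809 q2867, e3 q2868 L29818 q2868, e3 q2869 L29825 q2869, e3 q2870 L29832 q2118, e3 q2871 L29841 q2119, e3 q2872 L29851 q2120, e3 q2873 L29862 q2121, e3 q2874 L29871 q2122, e3 q2875 (flp_a L42933) q3810, e3 q2876 (flp_a L42942) q3811, e3 q2877 (flp_a L42952) q3812, e3 q2878 (flp_a L42962) q3813, e3 q2879 (flp_a L42969) q3814, trivial⟩ (by decide +kernel)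

theorem ce_a_45 : ∀ r, r < 64 → sm ga (Qf (2880 + r)) = Qf (tab Gen.a (2880 + r)) :=
  edges_tab (sm ga) Qf (tab Gen.a) 2880 [(2880, 3815), (2881, 3816), (2882, 2882), (2883, 2883), (2884, 2884), (2885, 2885), (2886, 2886), (2887, 2887), (2888, 2888), (2889, 2889), (2890, 2890), (2891, 2891), (2892, 2892), (2893, 2893), (2894, 2894), (2895, 3837), (2896, 2896), (2897, 2342), (2898, 2343), (2899, 2344), (2900, 2345), (2901, 2346), (2902, 2347), (2903, 2348), (2904, 2349), (2905, 3849), (2906, 2351), (2907, 2352), (2908, 2354), (2909, 2355), (2910, 2356), (2911, 2357), (2912, 2327), (2913, 2358), (2914, 2359), (2915, 2152), (2916, 3860), (2917, 2361), (2918, 2362), (2919, 2363), (2920, 2366), (2921, 2367), (2922, 2337), (2923, 2368), (2924, 2369), (2925, 2370), (2926, 2163), (2927, 3874), (2928, 3875), (2929, 2373), (2930, 2374), (2931, 2375), (2932, 2376), (2933, 2377), (2934, 2289), (2935, 2378), (2936, 2379), (2937, 2380), (2938, 2172), (2939, 3890), (2940, 3891), (2941, 2383), (2942, 2384), (2943, 2385)]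
    ⟨e3 q2880 (flp_a L42980) q3815, e3 q2881 (flp_a L42990) q3816, e3 q2882 L29941 q2882, e3 q2883 L29950 q2883, e3 q2884 L29959 q2884, e3 q2885 L29969 q2885, e3 q2886 L29974 q2886, e3 q2887 L29984 q2887, e3 q2888 L29991 q2888, e3 q2889 L29998 q2889, e3 q2890 L30008 q2890, e3 q2891 L30017 q2891, e3 q2892 L30026 q2892, e3 q2893 L30034 q2893, e3 q2894 L30062 q2894, e3 q2895 L43246 q3837, e3 q2896 L30085 q2896, e3 q2897 L30102 q2342, e3 q2898 L30112 q2343, e3 q2899 L30123 q2344, e3 q2900 L30147 q2345, e3 q2901 L30157 q2346, e3 q2902 L30167 q2347, e3 q2903 L30178 q2348, e3 q2904 L30189 q2349, e3 q2905 L43409 q3849, e3 q2906 L30207 q2351, e3 q2907 L30217 q2352, e3 q2908 L30225 q2354, e3 q2909 L30236 q2355, e3 q2910 L30272 q2356, e3 q2911 L30292 q2357, e3 q2912 (flp_a L594349) q2327, e3 q2913 L30310 q2358, e3 q2914 L30320 q2359, e3 q2915 (flp_a L30329) q2152, e3 q2916 (flp_a L43607) q3860, e3 q2917 L30348 q2361, e3 q2918 L30356 q2362, e3 q2919 L30367 q2363, e3 q2920 L30429 q2366, e3 q2921 L30456 q2367, e3 q2922 (flp_a L594365)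 q2337, e3 q2923 L30482 q2368, e3 q2924 L30491 q2369, e3 q2925 L30501 q2370, e3 q2926 L30511 q2163, e3 q2927 (flp_a L43866) q3874, e3 q2928 (flp_a L43874) q3875, e3 q2929 L30532 q2373, e3 q2930 L30539 q2374, e3 q2931 L30547 q2375, e3 q2932 L30557 q2376, e3 q2933 L30608 q2377, e3 q2934 (flp_a L594526) q2289, e3 q2935 L30637 q2378, e3 q2936 L30649 q2379, e3 q2937 L30659 q2380, e3 q2938 L30668 q2172, e3 q2939 (flp_a L44102) q3890, e3 q2940 (flp_a L44112) q3891, e3 q2941 L30693 q2383, e3 q2942 L30703 q2384, e3 q2943 L30714 q2385, trivial⟩ (by decide +kernel)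

theorem ce_a_46 : ∀ r, r < 64 → sm ga (Qf (2944 + r)) = Qf (tab Gen.a (2944 + r)) :=
  edges_tab (sm ga) Qf (tab Gen.a) 2944 [(2944, 2386), (2945, 2387), (2946, 2228), (2947, 2303), (2948, 2388), (2949, 2389), (2950, 2390), (2951, 2182), (2952, 2183), (2953, 3908), (2954, 3909), (2955, 3910), (2956, 3911), (2957, 2395), (2958, 2396), (2959, 2397), (2960, 2391), (2961, 2398), (2962, 2399), (2963, 2250), (2964, 2253), (2965, 2317), (2966, 2400), (2967, 2401), (2968, 2402), (2969, 2196), (2970, 2197), (2971, 2198), (2972, 2199), (2973, 3931), (2974, 3932), (2975, 3933), (2976, 3934), (2977, 3935), (2978, 2239), (2979, 3936), (2980, 2408), (2981, 2409), (2982, 2410), (2983, 2411), (2984, 2403), (2985, 2206), (2986, 3953), (2987, 3954), (2988, 2415), (2989, 2416), (2990, 2417), (2991, 2418), (2992, 2211), (2993, 2212), (2994, 3964), (2995, 3965), (2996, 3885), (2997, 3966), (2998, 2423), (2999, 2424), (3000, 2425), (3001, 2381), (3002, 2426), (3003, 2218), (3004, 2219), (3005, 3974), (3006, 3975), (3007, 3917)]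
    ⟨e3 q2944 L30722 q2386, e3 q2945 L30794 q2387, e3 q2946 (flp_a L594161) q2228, e3 q2947 (flp_a L594153) q2303, e3 q2948 L30829 q2388, e3 q2949 L30848 q2389, e3 q2950 L30858 q2390, e3 q2951 L30868 q2182, e3 q2952 L30877 q2183, e3 q2953 (flp_a L44414) q3908, e3 q2954 (flp_a L44421) q3909, e3 q2955 (flp_a L44429) q3910, e3 q2956 (flp_a L44439) q3911, e3 q2957 L30912 q2395, e3 q2958 L30919 q2396, e3 q2959 L30929 q2397, e3 q2960 L587384 q2391, e3 q2961 L30948 q2398, e3 q2962 L31056 q2399, e3 q2963 L591036 q2250, e3 q2964 (flp_a L580473) q2253, e3 q2965 (flp_a L580500) q2317, e3 q2966 L31116 q2400, e3 q2967 L31127 q2401, e3 q2968 L31156 q2402, e3 q2969 L31166 q2196, e3 q2970 L31172 q2197, e3 q2971 L31181 q2198, e3 q2972 L31190 q2199, e3 q2973 (flp_a L44854) q3931, e3 q2974 (flp_a L44861) q3932, e3 q2975 (flp_a L44869) q3933, e3 q2976 (flp_a L44878) q3934, e3 q2977 (flp_a L44886) q3935, e3 q2978 L589579 q2239, e3 q2979 (flp_a L44905) q3936, e3 q2980 L31248 q2408, e3 q2981 L31257 q2409, e3 q2982 L31267 q2410, e3 q2983 L31276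 q2411, e3 q2984 (flp_a L598252) q2403, e3 q2985 L31295 q2206, e3 q2986 (flp_a L45054) q3953, e3 q2987 (flp_a L45066) q3954, e3 q2988 L31327 q2415, e3 q2989 L31337 q2416, e3 q2990 L31346 q2417, e3 q2991 L31357 q2418, e3 q2992 L31368 q2211, e3 q2993 L31378 q2212, e3 q2994 (flp_a L45166) q3964, e3 q2995 (flp_a L45174) q3965, e3 q2996 L551771 q3885, e3 q2997 (flp_a L45196) q3966, e3 q2998 L31421 q2423, e3 q2999 L31429 q2424, e3 q3000 L31436 q2425, e3 q3001 (flp_a L598091) q2381, e3 q3002 L31456 q2426, e3 q3003 L31468 q2218, e3 q3004 L31479 q2219, e3 q3005 (flp_a L45309) q3974, e3 q3006 (flp_a L45318) q3975, e3 q3007 L601113 q3917, trivial⟩ (by decide +kernel)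

theorem ce_a_47 : ∀ r, r < 64 → sm ga (Qf (3008 + r)) = Qf (tab Gen.a (3008 + r)) :=
  edges_tab (sm ga) Qf (tab Gen.a) 3008 [(3008, 3976), (3009, 2431), (3010, 2432), (3011, 2433), (3012, 2393), (3013, 2434), (3014, 2226), (3015, 2227), (3016, 2229), (3017, 3988), (3018, 3902), (3019, 3989), (3020, 3990), (3021, 3903), (3022, 3991), (3023, 2440), (3024, 2441), (3025, 2442), (3026, 2443), (3027, 2392), (3028, 2237), (3029, 2238), (3030, 2240), (3031, 4002), (3032, 3930), (3033, 4003), (3034, 4004), (3035, 3945), (3036, 4005), (3037, 2449), (3038, 2450), (3039, 2451), (3040, 2452), (3041, 2406), (3042, 2249), (3043, 2251), (3044, 2252), (3045, 2254), (3046, 4020), (3047, 4021), (3048, 3924), (3049, 3585), (3050, 4022), (3051, 3925), (3052, 4023), (3053, 3926), (3054, 2458), (3055, 2459), (3056, 2460), (3057, 2404), (3058, 2461), (3059, 2405), (3060, 2264), (3061, 2266), (3062, 2267), (3063, 2268), (3064, 2269), (3065, 4037), (3066, 4038), (3067, 3476), (3068, 4039), (3069, 4040), (3070, 4041), (3071, 4042)]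
    ⟨e3 q3008 (flp_a L45338) q3976, e3 q3009 L31522 q2431, e3 q3010 L31530 q2432, e3 q3011 L31540 q2433, e3 q3012 L588951 q2393, e3 q3013 L31557 q2434, e3 q3014 L31569 q2226, e3 q3015 L31576 q2227, e3 q3016 L31595 q2229, e3 q3017 (flp_a L45459) q3988, e3 q3018 L591309 q3902, e3 q3019 (flp_a L45474) q3989, e3 q3020 (flp_a L45482) q3990, e3 q3021 L591320 q3903, e3 q3022 (flp_a L45513) q3991, e3 q3023 L31657 q2440, e3 q3024 L31664 q2441, e3 q3025 L31671 q2442, e3 q3026 L31679 q2443, e3 q3027 (flp_a L598512) q2392, e3 q3028 L31697 q2237, e3 q3029 L31705 q2238, e3 q3030 L31725 q2240, e3 q3031 (flp_a L45660) q4002, e3 q3032 (flp_a L545274) q3930, e3 q3033 (flp_a L45677) q4003, e3 q3034 (flp_a L45689) q4004, e3 q3035 L590801 q3945, e3 q3036 (flp_a L45720) q4005, e3 q3037 L31794 q2449, e3 q3038 L31804 q2450, e3 q3039 L31812 q2451, e3 q3040 L31821 q2452, e3 q3041 L598294 q2406, e3 q3042 L31844 q2249, e3 q3043 L31859 q2251, e3 q3044 L31869 q2252, e3 q3045 L31898 q2254, e3 q3046 (flp_a L45888) q4020, e3 q3047 (flp_a L45896) q4021, e3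 q3048 L591012 q3924, e3 q3049 (flp_a L592271) q3585, e3 q3050 (flp_a L45926) q4022, e3 q3051 (flp_a L589692) q3925, e3 q3052 (flp_a L45947) q4023, e3 q3053 (flp_a L580527) q3926, e3 q3054 L31978 q2458, e3 q3055 L31985 q2459, e3 q3056 L31994 q2460, e3 q3057 (flp_a L598236) q2404, e3 q3058 L32012 q2461, e3 q3059 (flp_a L598520) q2405, e3 q3060 L32039 q2264, e3 q3061 L32058 q2266, e3 q3062 L32068 q2267, e3 q3063 L32079 q2268, e3 q3064 L32090 q2269, e3 q3065 (flp_a L46151) q4037, e3 q3066 (flp_a L46161) q4038, e3 q3067 (flp_a L536392) q3476, e3 q3068 (flp_a L46188) q4039, e3 q3069 (flp_a L46198) q4040, e3 q3070 (flp_a L46209) q4041, e3 q3071 (flp_a L46221) q4042, trivial⟩ (by decide +kernel)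

theorem ce_a_48 : ∀ r, r < 64 → sm ga (Qf (3072 + r)) = Qf (tab Gen.a (3072 + r)) :=
  edges_tab (sm ga) Qf (tab Gen.a) 3072 [(3072, 2477), (3073, 2478), (3074, 2479), (3075, 2480), (3076, 2481), (3077, 3077), (3078, 2279), (3079, 2280), (3080, 2281), (3081, 2282), (3082, 4060), (3083, 4061), (3084, 4062), (3085, 4063), (3086, 4064), (3087, 2492), (3088, 2287), (3089, 2288), (3090, 2290), (3091, 4070), (3092, 3550), (3093, 4071), (3094, 4072), (3095, 3886), (3096, 4073), (3097, 2498), (3098, 2499), (3099, 2500), (3100, 2501), (3101, 2382), (3102, 2299), (3103, 2301), (3104, 2302), (3105, 2304), (3106, 4084), (3107, 4085), (3108, 3565), (3109, 3564), (3110, 4086), (3111, 3870), (3112, 4087), (3113, 3904), (3114, 2507), (3115, 2508), (3116, 2509), (3117, 2372), (3118, 2510), (3119, 2394), (3120, 2313), (3121, 2316), (3122, 4102), (3123, 3588), (3124, 3586), (3125, 3382), (3126, 3927), (3127, 2407), (3128, 2323), (3129, 2325), (3130, 2326), (3131, 4107), (3132, 4108), (3133, 3525), (3134, 3363), (3135, 4109)]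
    ⟨e3 q3072 L32170 q2477, e3 q3073 L32179 q2478, e3 q3074 L32189 q2479, e3 q3075 L32199 q2480, e3 q3076 L32207 q2481, e3 q3077 L32218 q3077, e3 q3078 L32227 q2279, e3 q3079 L32236 q2280, e3 q3080 L32244 q2281, e3 q3081 L32253 q2282, e3 q3082 (flp_a L46403) q4060, e3 q3083 (flp_a L46409) q4061, e3 q3084 (flp_a L46418) q4062, e3 q3085 (flp_a L46427) q4063, e3 q3086 (flp_a L46436) q4064, e3 q3087 L32300 q2492, e3 q3088 L32309 q2287, e3 q3089 L32319 q2288, e3 q3090 L32341 q2290, e3 q3091 (flp_a L46502) q4070, e3 q3092 L593530 q3550, e3 q3093 (flp_a L46522) q4071, e3 q3094 (flp_a L46534) q4072, e3 q3095 L594532 q3886, e3 q3096 (flp_a L46566) q4073, e3 q3097 L32413 q2498, e3 q3098 L32422 q2499, e3 q3099 L32433 q2500, e3 q3100 L32444 q2501, e3 q3101 L598075 q2382, e3 q3102 L32472 q2299, e3 q3103 L32489 q2301, e3 q3104 L32499 q2302, e3 q3105 L32529 q2304, e3 q3106 (flp_a L46753) q4084, e3 q3107 (flp_a L46762) q4085, e3 q3108 (flp_a L593525) q3565, e3 q3109 L592250 q3564, e3 q3110 (flp_a L46796) q4086, e3 q3111 (flp_a L593849) q3870,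 e3 q3112 (flp_a L46817) q4087, e3 q3113 L594676 q3904, e3 q3114 L32618 q2507, e3 q3115 L32628 q2508, e3 q3116 L32638 q2509, e3 q3117 (flp_a L598039) q2372, e3 q3118 L32655 q2510, e3 q3119 (flp_a L598525) q2394, e3 q3120 L32694 q2313, e3 q3121 L32727 q2316, e3 q3122 (flp_a L47059) q4102, e3 q3123 L593446 q3588, e3 q3124 L593345 q3586, e3 q3125 (flp_a L592258) q3382, e3 q3126 L593459 q3927, e3 q3127 (flp_a L598445) q2407, e3 q3128 L32838 q2323, e3 q3129 L32857 q2325, e3 q3130 L32867 q2326, e3 q3131 (flp_a L47214) q4107, e3 q3132 (flp_a L47223) q4108, e3 q3133 L593124 q3525, e3 q3134 L574763 q3363, e3 q3135 (flp_a L47262) q4109, trivial⟩ (by decide +kernel)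

theorem ce_a_49 : ∀ r, r < 64 → sm ga (Qf (3136 + r)) = Qf (tab Gen.a (3136 + r)) :=
  edges_tab (sm ga) Qf (tab Gen.a) 3136 [(3136, 3856), (3137, 3846), (3138, 2515), (3139, 2516), (3140, 2517), (3141, 2360), (3142, 2350), (3143, 2334), (3144, 4121), (3145, 3537), (3146, 3355), (3147, 3371), (3148, 3869), (3149, 2518), (3150, 2371), (3151, 3383), (3152, 3152), (3153, 3153), (3154, 3839), (3155, 3840), (3156, 3841), (3157, 3842), (3158, 3843), (3159, 3844), (3160, 3845), (3161, 3847), (3162, 3848), (3163, 4119), (3164, 3851), (3165, 3852), (3166, 3853), (3167, 3167), (3168, 3168), (3169, 3854), (3170, 3855), (3171, 3857), (3172, 3858), (3173, 3859), (3174, 4120), (3175, 4082), (3176, 3863), (3177, 3864), (3178, 3865), (3179, 3866), (3180, 3180), (3181, 3867), (3182, 3868), (3183, 3871), (3184, 3872), (3185, 3873), (3186, 4128), (3187, 4100), (3188, 4129), (3189, 4099), (3190, 3880), (3191, 3881), (3192, 3882), (3193, 3883), (3194, 3884), (3195, 3887), (3196, 3888), (3197, 3889), (3198, 3899), (3199, 3973)]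
    ⟨e3 q3136 L578244 q3856, e3 q3137 (flp_a L594282) q3846, e3 q3138 L32979 q2515, e3 q3139 L32988 q2516, e3 q3140 L32998 q2517, e3 q3141 (flp_a L598053) q2360, e3 q3142 (flp_a L597693) q2350, e3 q3143 L33046 q2334, e3 q3144 (flp_a L47505) q4121, e3 q3145 (flp_a L593790) q3537, e3 q3146 (flp_a L565679) q3355, e3 q3147 L574895 q3371, e3 q3148 L578195 q3869, e3 q3149 L33162 q2518, e3 q3150 (flp_a L597551) q2371, e3 q3151 (flp_a L476160) q3383, e3 q3152 L33234 q3152, e3 q3153 L33243 q3153, e3 q3154 (flp_a L43273) q3839, e3 q3155 (flp_a L43283) q3840, e3 q3156 (flp_a L43294) q3841, e3 q3157 (flp_a L43306) q3842, e3 q3158 (flp_a L43342) q3843, e3 q3159 (flp_a L43352) q3844, e3 q3160 (flp_a L43372) q3845, e3 q3161 (flp_a L43391) q3847, e3 q3162 (flp_a L43402) q3848, e3 q3163 (flp_a L597712) q4119, e3 q3164 (flp_a L43429) q3851, e3 q3165 (flp_a L43438) q3852, e3 q3166 (flp_a L43447) q3853, e3 q3167 L33428 q3167, e3 q3168 L33437 q3168, e3 q3169 (flp_a L43516) q3854, e3 q3170 (flp_a L43546) q3855, e3 q3171 (flp_a L43576) q3857, e3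 q3172 (flp_a L43586) q3858, e3 q3173 (flp_a L43598) q3859, e3 q3174 (flp_a L597496) q4120, e3 q3175 (flp_a L598065) q4082, e3 q3176 (flp_a L43632) q3863, e3 q3177 (flp_a L43641) q3864, e3 q3178 (flp_a L43650) q3865, e3 q3179 (flp_a L43659) q3866, e3 q3180 L33663 q3180, e3 q3181 (flp_a L43750) q3867, e3 q3182 (flp_a L43794) q3868, e3 q3183 (flp_a L43829) q3871, e3 q3184 (flp_a L43845) q3872, e3 q3185 (flp_a L43856) q3873, e3 q3186 (flp_a L588316) q4128, e3 q3187 (flp_a L597410) q4100, e3 q3188 (flp_a L597450) q4129, e3 q3189 (flp_a L597917) q4099, e3 q3190 (flp_a L43909) q3880, e3 q3191 (flp_a L43917) q3881, e3 q3192 (flp_a L43925) q3882, e3 q3193 (flp_a L43941) q3883, e3 q3194 (flp_a L44022) q3884, e3 q3195 (flp_a L44060) q3887, e3 q3196 (flp_a L44082) q3888, e3 q3197 (flp_a L44091) q3889, e3 q3198 L587192 q3899, e3 q3199 L598679 q3973, trivial⟩ (by decide +kernel)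

theorem ce_a_50 : ∀ r, r < 64 → sm ga (Qf (3200 + r)) = Qf (tab Gen.a (3200 + r)) :=
  edges_tab (sm ga) Qf (tab Gen.a) 3200 [(3200, 3962), (3201, 4083), (3202, 3896), (3203, 3897), (3204, 3898), (3205, 3900), (3206, 3901), (3207, 3905), (3208, 3906), (3209, 3907), (3210, 3923), (3211, 4000), (3212, 4001), (3213, 3987), (3214, 4101), (3215, 3919), (3216, 3920), (3217, 3921), (3218, 3922), (3219, 3928), (3220, 3929), (3221, 3950), (3222, 3952), (3223, 4035), (3224, 4017), (3225, 4036), (3226, 4019), (3227, 3946), (3228, 3947), (3229, 3948), (3230, 3949), (3231, 3951), (3232, 2413), (3233, 2414), (3234, 4178), (3235, 4179), (3236, 3959), (3237, 3960), (3238, 3961), (3239, 3963), (3240, 2421), (3241, 2422), (3242, 4183), (3243, 4184), (3244, 4185), (3245, 2429), (3246, 2430), (3247, 4186), (3248, 4187), (3249, 4188), (3250, 3983), (3251, 3984), (3252, 3985), (3253, 3986), (3254, 2437), (3255, 2438), (3256, 2439), (3257, 4191), (3258, 4192), (3259, 2446), (3260, 2447), (3261, 2448), (3262, 4193), (3263, 4194)]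
    ⟨e3 q3200 (flp_a L588931) q3962, e3 q3201 L598687 q4083, e3 q3202 (flp_a L44152) q3896, e3 q3203 (flp_a L44161) q3897, e3 q3204 (flp_a L44170) q3898, e3 q3205 (flp_a L44192) q3900, e3 q3206 (flp_a L44303) q3901, e3 q3207 (flp_a L44364) q3905, e3 q3208 (flp_a L44373) q3906, e3 q3209 (flp_a L44404) q3907, e3 q3210 L599358 q3923, e3 q3211 L599375 q4000, e3 q3212 (flp_a L598531) q4001, e3 q3213 L598547 q3987, e3 q3214 L597883 q4101, e3 q3215 (flp_a L44498) q3919, e3 q3216 (flp_a L44506) q3920, e3 q3217 (flp_a L44515) q3921, e3 q3218 (flp_a L44525) q3922, e3 q3219 (flp_a L44795) q3928, e3 q3220 (flp_a L44816) q3929, e3 q3221 (flp_a L587715) q3950, e3 q3222 L587424 q3952, e3 q3223 L541908 q4035, e3 q3224 L598275 q4017, e3 q3225 (flp_a L598453) q4036, e3 q3226 L598553 q4019, e3 q3227 (flp_a L44988) q3946, e3 q3228 (flp_a L44996) q3947, e3 q3229 (flp_a L45006) q3948, e3 q3230 (flp_a L45016) q3949, e3 q3231 (flp_a L45035) q3951, e3 q3232 L35030 q2413, e3 q3233 L35040 q2414, e3 q3234 (flp_a L50466) q4178, e3 q3235 (flp_a L50485)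 q4179, e3 q3236 (flp_a L45114) q3959, e3 q3237 (flp_a L45124) q3960, e3 q3238 (flp_a L45133) q3961, e3 q3239 (flp_a L45153) q3963, e3 q3240 L35140 q2421, e3 q3241 L35158 q2422, e3 q3242 (flp_a L50627) q4183, e3 q3243 (flp_a L50635) q4184, e3 q3244 (flp_a L50662) q4185, e3 q3245 L35272 q2429, e3 q3246 L35288 q2430, e3 q3247 (flp_a L50829) q4186, e3 q3248 (flp_a L50837) q4187, e3 q3249 (flp_a L50864) q4188, e3 q3250 (flp_a L45408) q3983, e3 q3251 (flp_a L45417) q3984, e3 q3252 (flp_a L45424) q3985, e3 q3253 (flp_a L45434) q3986, e3 q3254 L35415 q2437, e3 q3255 L35421 q2438, e3 q3256 L35446 q2439, e3 q3257 (flp_a L51059) q4191, e3 q3258 (flp_a L51073) q4192, e3 q3259 L35597 q2446, e3 q3260 L35607 q2447, e3 q3261 L35632 q2448, e3 q3262 (flp_a L51332) q4193, e3 q3263 (flp_a L51350) q4194, trivial⟩ (by decide +kernel)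

theorem ce_a_51 : ∀ r, r < 64 → sm ga (Qf (3264 + r)) = Qf (tab Gen.a (3264 + r)) :=
  edges_tab (sm ga) Qf (tab Gen.a) 3264 [(3264, 4013), (3265, 4014), (3266, 4015), (3267, 4016), (3268, 4018), (3269, 2456), (3270, 2457), (3271, 4198), (3272, 4199), (3273, 3273), (3274, 2469), (3275, 2470), (3276, 2471), (3277, 2473), (3278, 2474), (3279, 2475), (3280, 2476), (3281, 4202), (3282, 4203), (3283, 4204), (3284, 4205), (3285, 4206), (3286, 3471), (3287, 4207), (3288, 4208), (3289, 4209), (3290, 4210), (3291, 4211), (3292, 4053), (3293, 4054), (3294, 4055), (3295, 4056), (3296, 4057), (3297, 3297), (3298, 3298), (3299, 2487), (3300, 2488), (3301, 2489), (3302, 2490), (3303, 2491), (3304, 4225), (3305, 4226), (3306, 4227), (3307, 4228), (3308, 2495), (3309, 2496), (3310, 2497), (3311, 4229), (3312, 4230), (3313, 2505), (3314, 2506), (3315, 4231), (3316, 2514), (3317, 4232), (3318, 2520), (3319, 3319), (3320, 3320), (3321, 3321), (3322, 3322), (3323, 3323), (3324, 3324), (3325, 3325), (3326, 3326), (3327, 3327)]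
    ⟨e3 q3264 (flp_a L45809) q4013, e3 q3265 (flp_a L45818) q4014, e3 q3266 (flp_a L45829) q4015, e3 q3267 (flp_a L45837) q4016, e3 q3268 (flp_a L45856) q4018, e3 q3269 L35824 q2456, e3 q3270 L35841 q2457, e3 q3271 (flp_a L51675) q4198, e3 q3272 (flp_a L51682) q4199, e3 q3273 L36012 q3273, e3 q3274 L36030 q2469, e3 q3275 L36040 q2470, e3 q3276 L36050 q2471, e3 q3277 L36069 q2473, e3 q3278 L36077 q2474, e3 q3279 L36086 q2475, e3 q3280 L36096 q2476, e3 q3281 (flp_a L51936) q4202, e3 q3282 (flp_a L51945) q4203, e3 q3283 (flp_a L51955) q4204, e3 q3284 (flp_a L51966) q4205, e3 q3285 (flp_a L51977) q4206, e3 q3286 (flp_a L527805) q3471, e3 q3287 (flp_a L52007) q4207, e3 q3288 (flp_a L52015) q4208, e3 q3289 (flp_a L52024) q4209, e3 q3290 (flp_a L52033) q4210, e3 q3291 (flp_a L52041) q4211, e3 q3292 (flp_a L46336) q4053, e3 q3293 (flp_a L46346) q4054, e3 q3294 (flp_a L46356) q4055, e3 q3295 (flp_a L46367) q4056, e3 q3296 (flp_a L46375) q4057, e3 q3297 L36251 q3297, e3 q3298 L36259 q3298, e3 q3299 L36267 q2487, e3 q3300 L36274 q2488,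 e3 q3301 L36283 q2489, e3 q3302 L36293 q2490, e3 q3303 L36300 q2491, e3 q3304 (flp_a L52245) q4225, e3 q3305 (flp_a L52260) q4226, e3 q3306 (flp_a L52269) q4227, e3 q3307 (flp_a L52279) q4228, e3 q3308 L36384 q2495, e3 q3309 L36394 q2496, e3 q3310 L36420 q2497, e3 q3311 (flp_a L52400) q4229, e3 q3312 (flp_a L52418) q4230, e3 q3313 L36636 q2505, e3 q3314 L36653 q2506, e3 q3315 (flp_a L52778) q4231, e3 q3316 L37082 q2514, e3 q3317 (flp_a L53373) q4232, e3 q3318 L37670 q2520, e3 q3319 L37877 q3319, e3 q3320 L37895 q3320, e3 q3321 L38302 q3321, e3 q3322 L38313 q3322, e3 q3323 L38324 q3323, e3 q3324 L38333 q3324, e3 q3325 L38341 q3325, e3 q3326 L38350 q3326, e3 q3327 L38361 q3327, trivial⟩ (by decide +kernel)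

theorem ce_a_52 : ∀ r, r < 64 → sm ga (Qf (3328 + r)) = Qf (tab Gen.a (3328 + r)) :=
  edges_tab (sm ga) Qf (tab Gen.a) 3328 [(3328, 3328), (3329, 4247), (3330, 3330), (3331, 3331), (3332, 4252), (3333, 3333), (3334, 3334), (3335, 2534), (3336, 4257), (3337, 3337), (3338, 3338), (3339, 3339), (3340, 2538), (3341, 4264), (3342, 4265), (3343, 3343), (3344, 3344), (3345, 3345), (3346, 3346), (3347, 3347), (3348, 3348), (3349, 3349), (3350, 3350), (3351, 3351), (3352, 4283), (3353, 3353), (3354, 3354), (3355, 3146), (3356, 3356), (3357, 3357), (3358, 2549), (3359, 4292), (3360, 3360), (3361, 3361), (3362, 3362), (3363, 3134), (3364, 3364), (3365, 3365), (3366, 2554), (3367, 4303), (3368, 3368), (3369, 3369), (3370, 3370), (3371, 3147), (3372, 3372), (3373, 3373), (3374, 3374), (3375, 2561), (3376, 4316), (3377, 4317), (3378, 3378), (3379, 3379), (3380, 3380), (3381, 3381), (3382, 3125), (3383, 3151), (3384, 3384), (3385, 3385), (3386, 3386), (3387, 3387), (3388, 2570), (3389, 2571), (3390, 4336), (3391, 4337)]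
    ⟨e3 q3328 L38372 q3328, e3 q3329 L55155 q4247, e3 q3330 L38391 q3330, e3 q3331 L38400 q3331, e3 q3332 L55201 q4252, e3 q3333 L38419 q3333, e3 q3334 L38430 q3334, e3 q3335 (flp_a L38438) q2534, e3 q3336 (flp_a L55253) q4257, e3 q3337 L38460 q3337, e3 q3338 L38468 q3338, e3 q3339 L38476 q3339, e3 q3340 L38486 q2538, e3 q3341 (flp_a L55316) q4264, e3 q3342 (flp_a L55324) q4265, e3 q3343 L38513 q3343, e3 q3344 L38521 q3344, e3 q3345 L38529 q3345, e3 q3346 L38538 q3346, e3 q3347 L38548 q3347, e3 q3348 L38559 q3348, e3 q3349 L38568 q3349, e3 q3350 L38576 q3350, e3 q3351 L38588 q3351, e3 q3352 L55489 q4283, e3 q3353 L38607 q3353, e3 q3354 L38614 q3354, e3 q3355 L565679 q3146, e3 q3356 L38634 q3356, e3 q3357 L38643 q3357, e3 q3358 (flp_a L38651) q2549, e3 q3359 (flp_a L55583) q4292, e3 q3360 L38668 q3360, e3 q3361 L38675 q3361, e3 q3362 L38682 q3362, e3 q3363 (flp_a L574763) q3134, e3 q3364 L38701 q3364, e3 q3365 L38712 q3365, e3 q3366 (flp_a L38721) q2554, e3 q3367 (flp_a L55688) q4303, e3 q3368 L38740 q3368, e3 q3369 L38750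 q3369, e3 q3370 L38757 q3370, e3 q3371 (flp_a L574895) q3147, e3 q3372 L38785 q3372, e3 q3373 L38796 q3373, e3 q3374 L38804 q3374, e3 q3375 L38815 q2561, e3 q3376 (flp_a L55816) q4316, e3 q3377 (flp_a L55825) q4317, e3 q3378 L38836 q3378, e3 q3379 L38843 q3379, e3 q3380 L38852 q3380, e3 q3381 L38859 q3381, e3 q3382 L592258 q3125, e3 q3383 L476160 q3151, e3 q3384 L38896 q3384, e3 q3385 L38906 q3385, e3 q3386 L38915 q3386, e3 q3387 L38924 q3387, e3 q3388 L38935 q2570, e3 q3389 L38943 q2571, e3 q3390 (flp_a L56007) q4336, e3 q3391 (flp_a L56015) q4337, trivial⟩ (by decide +kernel)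

theorem ce_a_53 : ∀ r, r < 64 → sm ga (Qf (3392 + r)) = Qf (tab Gen.a (3392 + r)) :=
  edges_tab (sm ga) Qf (tab Gen.a) 3392 [(3392, 4338), (3393, 4339), (3394, 3394), (3395, 3395), (3396, 3396), (3397, 3397), (3398, 3398), (3399, 4352), (3400, 3400), (3401, 3401), (3402, 2578), (3403, 4357), (3404, 3404), (3405, 3405), (3406, 3406), (3407, 2582), (3408, 4364), (3409, 4365), (3410, 3410), (3411, 3411), (3412, 3412), (3413, 3413), (3414, 2586), (3415, 4375), (3416, 3416), (3417, 3417), (3418, 3418), (3419, 2590), (3420, 4382), (3421, 4383), (3422, 3422), (3423, 3423), (3424, 3424), (3425, 3425), (3426, 2595), (3427, 2596), (3428, 4393), (3429, 4394), (3430, 4395), (3431, 4396), (3432, 3432), (3433, 3433), (3434, 3434), (3435, 3435), (3436, 3436), (3437, 2602), (3438, 4409), (3439, 4410), (3440, 3440), (3441, 3441), (3442, 3442), (3443, 3443), (3444, 2607), (3445, 2608), (3446, 4420), (3447, 4421), (3448, 4422), (3449, 4423), (3450, 3450), (3451, 3451), (3452, 3452), (3453, 3453), (3454, 3454), (3455, 2615)]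
    ⟨e3 q3392 (flp_a L56023) q4338, e3 q3393 (flp_a L56031) q4339, e3 q3394 L38979 q3394, e3 q3395 L38988 q3395, e3 q3396 L38995 q3396, e3 q3397 L39003 q3397, e3 q3398 L39011 q3398, e3 q3399 L56129 q4352, e3 q3400 L39029 q3400, e3 q3401 L39040 q3401, e3 q3402 (flp_a L39049) q2578, e3 q3403 (flp_a L56184) q4357, e3 q3404 L39073 q3404, e3 q3405 L39083 q3405, e3 q3406 L39093 q3406, e3 q3407 L39101 q2582, e3 q3408 (flp_a L56252) q4364, e3 q3409 (flp_a L56262) q4365, e3 q3410 L39129 q3410, e3 q3411 L39136 q3411, e3 q3412 L39145 q3412, e3 q3413 L39153 q3413, e3 q3414 (flp_a L39160) q2586, e3 q3415 (flp_a L56347) q4375, e3 q3416 L39183 q3416, e3 q3417 L39191 q3417, e3 q3418 L39200 q3418, e3 q3419 L39211 q2590, e3 q3420 (flp_a L56413) q4382, e3 q3421 (flp_a L56424) q4383, e3 q3422 L39239 q3422, e3 q3423 L39246 q3423, e3 q3424 L39253 q3424, e3 q3425 L39263 q3425, e3 q3426 L39272 q2595, e3 q3427 L39281 q2596, e3 q3428 (flp_a L56509) q4393, e3 q3429 (flp_a L56518) q4394, e3 q3430 (flp_a L56525) q4395, e3 q3431 (flp_a L56535) q4396,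 e3 q3432 L39320 q3432, e3 q3433 L39326 q3433, e3 q3434 L39333 q3434, e3 q3435 L39339 q3435, e3 q3436 L39347 q3436, e3 q3437 L39356 q2602, e3 q3438 (flp_a L56632) q4409, e3 q3439 (flp_a L56640) q4410, e3 q3440 L39384 q3440, e3 q3441 L39392 q3441, e3 q3442 L39400 q3442, e3 q3443 L39410 q3443, e3 q3444 L39421 q2607, e3 q3445 L39431 q2608, e3 q3446 (flp_a L56730) q4420, e3 q3447 (flp_a L56740) q4421, e3 q3448 (flp_a L56750) q4422, e3 q3449 (flp_a L56758) q4423, e3 q3450 L39475 q3450, e3 q3451 L39485 q3451, e3 q3452 L39492 q3452, e3 q3453 L39498 q3453, e3 q3454 L39506 q3454, e3 q3455 L39516 q2615, trivial⟩ (by decide +kernel)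

theorem ce_a_54 : ∀ r, r < 64 → sm ga (Qf (3456 + r)) = Qf (tab Gen.a (3456 + r)) :=
  edges_tab (sm ga) Qf (tab Gen.a) 3456 [(3456, 2616), (3457, 2617), (3458, 2618), (3459, 4437), (3460, 4438), (3461, 4439), (3462, 4440), (3463, 4441), (3464, 4442), (3465, 4443), (3466, 3466), (3467, 3467), (3468, 3468), (3469, 3469), (3470, 3470), (3471, 3286), (3472, 3472), (3473, 3473), (3474, 3474), (3475, 2631), (3476, 3067), (3477, 4465), (3478, 3478), (3479, 3479), (3480, 3480), (3481, 3481), (3482, 2639), (3483, 2641), (3484, 2792), (3485, 4473), (3486, 4474), (3487, 2789), (3488, 4475), (3489, 3489), (3490, 3490), (3491, 3491), (3492, 3492), (3493, 3493), (3494, 2651), (3495, 2653), (3496, 2654), (3497, 2655), (3498, 2657), (3499, 4489), (3500, 4490), (3501, 2811), (3502, 4491), (3503, 4492), (3504, 4493), (3505, 4494), (3506, 2806), (3507, 3507), (3508, 3508), (3509, 3509), (3510, 3510), (3511, 3511), (3512, 3512), (3513, 3513), (3514, 3514), (3515, 3515), (3516, 3516), (3517, 3517), (3518, 3518), (3519, 4522)]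
    ⟨e3 q3456 L39524 q2616, e3 q3457 L39532 q2617, e3 q3458 L39541 q2618, e3 q3459 (flp_a L56873) q4437, e3 q3460 (flp_a L56881) q4438, e3 q3461 (flp_a L56890) q4439, e3 q3462 (flp_a L56900) q4440, e3 q3463 (flp_a L56907) q4441, e3 q3464 (flp_a L56916) q4442, e3 q3465 (flp_a L56925) q4443, e3 q3466 L39603 q3466, e3 q3467 L39610 q3467, e3 q3468 L39618 q3468, e3 q3469 L39624 q3469, e3 q3470 L39630 q3470, e3 q3471 L527805 q3286, e3 q3472 L39664 q3472, e3 q3473 L39682 q3473, e3 q3474 L39691 q3474, e3 q3475 L39711 q2631, e3 q3476 L536392 q3067, e3 q3477 (flp_a L57185) q4465, e3 q3478 L39754 q3478, e3 q3479 L39760 q3479, e3 q3480 L39767 q3480, e3 q3481 L39784 q3481, e3 q3482 L39805 q2639, e3 q3483 L39824 q2641, e3 q3484 (flp_a L563489) q2792, e3 q3485 (flp_a L57322) q4473, e3 q3486 (flp_a L57332) q4474, e3 q3487 L563370 q2789, e3 q3488 (flp_a L57361) q4475, e3 q3489 L39895 q3489, e3 q3490 L39903 q3490, e3 q3491 L39912 q3491, e3 q3492 L39922 q3492, e3 q3493 L39929 q3493, e3 q3494 L39947 q2651, e3 q3495 L39965 q2653, e3 q3496 L39973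 q2654, e3 q3497 L39981 q2655, e3 q3498 L40000 q2657, e3 q3499 (flp_a L57536) q4489, e3 q3500 (flp_a L57545) q4490, e3 q3501 (flp_a L562727) q2811, e3 q3502 (flp_a L57581) q4491, e3 q3503 (flp_a L57588) q4492, e3 q3504 (flp_a L57598) q4493, e3 q3505 (flp_a L57607) q4494, e3 q3506 L536490 q2806, e3 q3507 L40088 q3507, e3 q3508 L40095 q3508, e3 q3509 L40102 q3509, e3 q3510 L40110 q3510, e3 q3511 L40117 q3511, e3 q3512 L40126 q3512, e3 q3513 L40135 q3513, e3 q3514 L40143 q3514, e3 q3515 L40155 q3515, e3 q3516 L40167 q3516, e3 q3517 L40179 q3517, e3 q3518 L40188 q3518, e3 q3519 L57883 q4522, trivial⟩ (by decide +kernel)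

theorem ce_a_55 : ∀ r, r < 64 → sm ga (Qf (3520 + r)) = Qf (tab Gen.a (3520 + r)) :=
  edges_tab (sm ga) Qf (tab Gen.a) 3520 [(3520, 3520), (3521, 3521), (3522, 3522), (3523, 3523), (3524, 3524), (3525, 3133), (3526, 3526), (3527, 3527), (3528, 2673), (3529, 4535), (3530, 3530), (3531, 3531), (3532, 3532), (3533, 3533), (3534, 3534), (3535, 3535), (3536, 3536), (3537, 3145), (3538, 3538), (3539, 3539), (3540, 3540), (3541, 2683), (3542, 4553), (3543, 4554), (3544, 3544), (3545, 3545), (3546, 3546), (3547, 3547), (3548, 3548), (3549, 3549), (3550, 3092), (3551, 3551), (3552, 3552), (3553, 3553), (3554, 2693), (3555, 4573), (3556, 4574), (3557, 3557), (3558, 3558), (3559, 3559), (3560, 3560), (3561, 3561), (3562, 3562), (3563, 3563), (3564, 3109), (3565, 3108), (3566, 3566), (3567, 3567), (3568, 3568), (3569, 3569), (3570, 2704), (3571, 2705), (3572, 4597), (3573, 4598), (3574, 4599), (3575, 4600), (3576, 3576), (3577, 3577), (3578, 3578), (3579, 3579), (3580, 3580), (3581, 3581), (3582, 3582), (3583, 3583)]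
    ⟨e3 q3520 L40208 q3520, e3 q3521 L40217 q3521, e3 q3522 L40226 q3522, e3 q3523 L40236 q3523, e3 q3524 L40247 q3524, e3 q3525 (flp_a L593124) q3133, e3 q3526 L40267 q3526, e3 q3527 L40276 q3527, e3 q3528 (flp_a L40286) q2673, e3 q3529 (flp_a L58034) q4535, e3 q3530 L40307 q3530, e3 q3531 L40313 q3531, e3 q3532 L40323 q3532, e3 q3533 L40332 q3533, e3 q3534 L40340 q3534, e3 q3535 L40361 q3535, e3 q3536 L40370 q3536, e3 q3537 L593790 q3145, e3 q3538 L40399 q3538, e3 q3539 L40406 q3539, e3 q3540 L40415 q3540, e3 q3541 L40426 q2683, e3 q3542 (flp_a L58232) q4553, e3 q3543 (flp_a L58238) q4554, e3 q3544 L40449 q3544, e3 q3545 L40455 q3545, e3 q3546 L40461 q3546, e3 q3547 L40470 q3547, e3 q3548 L40491 q3548, e3 q3549 L40502 q3549, e3 q3550 (flp_a L593530) q3092, e3 q3551 L40534 q3551, e3 q3552 L40544 q3552, e3 q3553 L40553 q3553, e3 q3554 L40563 q2693, e3 q3555 (flp_a L58434) q4573, e3 q3556 (flp_a L58442) q4574, e3 q3557 L40590 q3557, e3 q3558 L40599 q3558, e3 q3559 L40608 q3559, e3 q3560 L40615 q3560, e3 q3561 L40648 q3561,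 e3 q3562 L40656 q3562, e3 q3563 L40664 q3563, e3 q3564 (flp_a L592250) q3109, e3 q3565 L593525 q3108, e3 q3566 L40702 q3566, e3 q3567 L40711 q3567, e3 q3568 L40718 q3568, e3 q3569 L40727 q3569, e3 q3570 L40738 q2704, e3 q3571 L40745 q2705, e3 q3572 (flp_a L58689) q4597, e3 q3573 (flp_a L58697) q4598, e3 q3574 (flp_a L58704) q4599, e3 q3575 (flp_a L58712) q4600, e3 q3576 L40783 q3576, e3 q3577 L40788 q3577, e3 q3578 L40797 q3578, e3 q3579 L40805 q3579, e3 q3580 L40813 q3580, e3 q3581 L40850 q3581, e3 q3582 L40858 q3582, e3 q3583 L40866 q3583, trivial⟩ (by decide +kernel)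

theorem ce_a_56 : ∀ r, r < 64 → sm ga (Qf (3584 + r)) = Qf (tab Gen.a (3584 + r)) :=
  edges_tab (sm ga) Qf (tab Gen.a) 3584 [(3584, 3584), (3585, 3049), (3586, 3124), (3587, 2856), (3588, 3123), (3589, 3589), (3590, 3590), (3591, 3591), (3592, 3592), (3593, 3593), (3594, 2721), (3595, 2722), (3596, 2723), (3597, 2724), (3598, 4631), (3599, 4632), (3600, 4633), (3601, 4634), (3602, 4635), (3603, 4636), (3604, 4637), (3605, 3605), (3606, 3606), (3607, 3607), (3608, 3608), (3609, 3609), (3610, 2731), (3611, 4655), (3612, 4656), (3613, 3613), (3614, 3614), (3615, 3615), (3616, 3616), (3617, 2736), (3618, 2737), (3619, 4666), (3620, 4667), (3621, 4668), (3622, 4669), (3623, 3623), (3624, 3624), (3625, 3625), (3626, 3626), (3627, 3627), (3628, 2743), (3629, 2744), (3630, 4682), (3631, 4683), (3632, 4684), (3633, 4685), (3634, 3634), (3635, 3635), (3636, 3636), (3637, 3637), (3638, 3638), (3639, 2751), (3640, 2752), (3641, 2753), (3642, 2754), (3643, 4699), (3644, 4700), (3645, 4701), (3646, 4702), (3647, 4703)]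
    ⟨e3 q3584 L40875 q3584, e3 q3585 L592271 q3049, e3 q3586 (flp_a L593345) q3124, e3 q3587 L592358 q2856, e3 q3588 (flp_a L593446) q3123, e3 q3589 L40937 q3589, e3 q3590 L40946 q3590, e3 q3591 L40955 q3591, e3 q3592 L40963 q3592, e3 q3593 L40971 q3593, e3 q3594 L40980 q2721, e3 q3595 L40987 q2722, e3 q3596 L40995 q2723, e3 q3597 L41002 q2724, e3 q3598 (flp_a L59057) q4631, e3 q3599 (flp_a L59066) q4632, e3 q3600 (flp_a L59073) q4633, e3 q3601 (flp_a L59080) q4634, e3 q3602 (flp_a L59087) q4635, e3 q3603 (flp_a L59096) q4636, e3 q3604 (flp_a L59103) q4637, e3 q3605 L41062 q3605, e3 q3606 L41070 q3606, e3 q3607 L41078 q3607, e3 q3608 L41086 q3608, e3 q3609 L41094 q3609, e3 q3610 L41103 q2731, e3 q3611 (flp_a L59243) q4655, e3 q3612 (flp_a L59253) q4656, e3 q3613 L41137 q3613, e3 q3614 L41146 q3614, e3 q3615 L41153 q3615, e3 q3616 L41163 q3616, e3 q3617 L41175 q2736, e3 q3618 L41183 q2737, e3 q3619 (flp_a L59349) q4666, e3 q3620 (flp_a L59358) q4667, e3 q3621 (flp_a L59367) q4668, e3 q3622 (flp_a L59377) q4669, e3 q3623 L41229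 q3623, e3 q3624 L41235 q3624, e3 q3625 L41241 q3625, e3 q3626 L41250 q3626, e3 q3627 L41258 q3627, e3 q3628 L41269 q2743, e3 q3629 L41278 q2744, e3 q3630 (flp_a L59486) q4682, e3 q3631 (flp_a L59496) q4683, e3 q3632 (flp_a L59505) q4684, e3 q3633 (flp_a L59513) q4685, e3 q3634 L41324 q3634, e3 q3635 L41330 q3635, e3 q3636 L41339 q3636, e3 q3637 L41345 q3637, e3 q3638 L41353 q3638, e3 q3639 L41364 q2751, e3 q3640 L41372 q2752, e3 q3641 L41379 q2753, e3 q3642 L41388 q2754, e3 q3643 (flp_a L59630) q4699, e3 q3644 (flp_a L59638) q4700, e3 q3645 (flp_a L59646) q4701, e3 q3646 (flp_a L59652) q4702, e3 q3647 (flp_a L59661) q4703, trivial⟩ (by decide +kernel)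

theorem ce_a_57 : ∀ r, r < 64 → sm ga (Qf (3648 + r)) = Qf (tab Gen.a (3648 + r)) :=
  edges_tab (sm ga) Qf (tab Gen.a) 3648 [(3648, 4704), (3649, 4705), (3650, 3650), (3651, 3651), (3652, 3652), (3653, 3653), (3654, 3654), (3655, 2762), (3656, 2763), (3657, 2764), (3658, 2765), (3659, 4724), (3660, 4725), (3661, 4726), (3662, 4727), (3663, 4728), (3664, 4729), (3665, 4730), (3666, 3666), (3667, 3667), (3668, 3668), (3669, 3669), (3670, 3670), (3671, 4630), (3672, 2775), (3673, 2776), (3674, 2777), (3675, 2778), (3676, 2779), (3677, 2780), (3678, 2781), (3679, 4749), (3680, 4750), (3681, 4751), (3682, 4619), (3683, 4752), (3684, 4753), (3685, 4754), (3686, 4755), (3687, 4756), (3688, 4757), (3689, 3689), (3690, 3690), (3691, 3691), (3692, 3692), (3693, 3693), (3694, 3694), (3695, 3695), (3696, 2790), (3697, 2791), (3698, 2793), (3699, 4479), (3700, 4481), (3701, 4782), (3702, 4476), (3703, 4783), (3704, 4477), (3705, 3705), (3706, 3706), (3707, 3707), (3708, 3708), (3709, 3709), (3710, 3710), (3711, 3711)]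
    ⟨e3 q3648 (flp_a L59670) q4704, e3 q3649 (flp_a L59679) q4705, e3 q3650 L41452 q3650, e3 q3651 L41458 q3651, e3 q3652 L41463 q3652, e3 q3653 L41470 q3653, e3 q3654 L41479 q3654, e3 q3655 L41486 q2762, e3 q3656 L41495 q2763, e3 q3657 L41505 q2764, e3 q3658 L41512 q2765, e3 q3659 (flp_a L59818) q4724, e3 q3660 (flp_a L59829) q4725, e3 q3661 (flp_a L59836) q4726, e3 q3662 (flp_a L59846) q4727, e3 q3663 (flp_a L59855) q4728, e3 q3664 (flp_a L59864) q4729, e3 q3665 (flp_a L59873) q4730, e3 q3666 L41583 q3666, e3 q3667 L41592 q3667, e3 q3668 L41598 q3668, e3 q3669 L41606 q3669, e3 q3670 L41612 q3670, e3 q3671 (flp_a L59052) q4630, e3 q3672 L41627 q2775, e3 q3673 L41636 q2776, e3 q3674 L41643 q2777, e3 q3675 L41651 q2778, e3 q3676 L41658 q2779, e3 q3677 L41668 q2780, e3 q3678 L41676 q2781, e3 q3679 (flp_a L60032) q4749, e3 q3680 (flp_a L60039) q4750, e3 q3681 (flp_a L60047) q4751, e3 q3682 (flp_a L575528) q4619, e3 q3683 (flp_a L60065) q4752, e3 q3684 (flp_a L60072) q4753, e3 q3685 (flp_a L60081) q4754, e3 q3686 (flp_a L60089)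 q4755, e3 q3687 (flp_a L60097) q4756, e3 q3688 (flp_a L60106) q4757, e3 q3689 L41757 q3689, e3 q3690 L41762 q3690, e3 q3691 L41770 q3691, e3 q3692 L41777 q3692, e3 q3693 L41785 q3693, e3 q3694 L41791 q3694, e3 q3695 L41799 q3695, e3 q3696 L41835 q2790, e3 q3697 L41843 q2791, e3 q3698 L41872 q2793, e3 q3699 L562604 q4479, e3 q3700 (flp_a L536596) q4481, e3 q3701 (flp_a L60362) q4782, e3 q3702 L562802 q4476, e3 q3703 (flp_a L60379) q4783, e3 q3704 L562812 q4477, e3 q3705 L41970 q3705, e3 q3706 L41977 q3706, e3 q3707 L41986 q3707, e3 q3708 L41994 q3708, e3 q3709 L41999 q3709, e3 q3710 L42008 q3710, e3 q3711 L42017 q3711, trivial⟩ (by decide +kernel)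

theorem ce_a_58 : ∀ r, r < 64 → sm ga (Qf (3712 + r)) = Qf (tab Gen.a (3712 + r)) :=
  edges_tab (sm ga) Qf (tab Gen.a) 3712 [(3712, 2804), (3713, 2805), (3714, 2807), (3715, 2808), (3716, 2809), (3717, 2810), (3718, 4800), (3719, 4801), (3720, 4504), (3721, 4802), (3722, 4506), (3723, 4803), (3724, 4804), (3725, 4805), (3726, 4806), (3727, 4497), (3728, 4807), (3729, 4499), (3730, 3730), (3731, 3731), (3732, 3732), (3733, 3733), (3734, 3734), (3735, 3735), (3736, 3736), (3737, 3737), (3738, 2821), (3739, 2822), (3740, 2823), (3741, 2824), (3742, 4834), (3743, 4835), (3744, 4836), (3745, 4837), (3746, 4838), (3747, 4839), (3748, 4840), (3749, 3749), (3750, 3750), (3751, 3751), (3752, 3752), (3753, 3753), (3754, 2834), (3755, 2835), (3756, 2836), (3757, 2837), (3758, 2838), (3759, 2839), (3760, 2840), (3761, 4858), (3762, 4859), (3763, 4860), (3764, 4590), (3765, 4861), (3766, 4862), (3767, 4863), (3768, 4864), (3769, 4865), (3770, 4866), (3771, 3771), (3772, 3772), (3773, 3773), (3774, 3774), (3775, 3775)]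
    ⟨e3 q3712 L42045 q2804, e3 q3713 L42052 q2805, e3 q3714 L42080 q2807, e3 q3715 L42087 q2808, e3 q3716 L42095 q2809, e3 q3717 L42104 q2810, e3 q3718 (flp_a L60648) q4800, e3 q3719 (flp_a L60655) q4801, e3 q3720 (flp_a L562720) q4504, e3 q3721 (flp_a L60672) q4802, e3 q3722 (flp_a L563300) q4506, e3 q3723 (flp_a L60702) q4803, e3 q3724 (flp_a L60708) q4804, e3 q3725 (flp_a L60716) q4805, e3 q3726 (flp_a L60725) q4806, e3 q3727 (flp_a L562755) q4497, e3 q3728 (flp_a L60741) q4807, e3 q3729 L562762 q4499, e3 q3730 L42225 q3730, e3 q3731 L42232 q3731, e3 q3732 L42239 q3732, e3 q3733 L42248 q3733, e3 q3734 L42255 q3734, e3 q3735 L42263 q3735, e3 q3736 L42270 q3736, e3 q3737 L42278 q3737, e3 q3738 L42288 q2821, e3 q3739 L42299 q2822, e3 q3740 L42309 q2823, e3 q3741 L42318 q2824, e3 q3742 (flp_a L60986) q4834, e3 q3743 (flp_a L60997) q4835, e3 q3744 (flp_a L61007) q4836, e3 q3745 (flp_a L61017) q4837, e3 q3746 (flp_a L61026) q4838, e3 q3747 (flp_a L61035) q4839, e3 q3748 (flp_a L61045) q4840, e3 q3749 L42392 q3749, e3 q3750 L42400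 q3750, e3 q3751 L42409 q3751, e3 q3752 L42419 q3752, e3 q3753 L42426 q3753, e3 q3754 L42445 q2834, e3 q3755 L42454 q2835, e3 q3756 L42463 q2836, e3 q3757 L42471 q2837, e3 q3758 L42481 q2838, e3 q3759 L42488 q2839, e3 q3760 L42497 q2840, e3 q3761 (flp_a L61223) q4858, e3 q3762 (flp_a L61231) q4859, e3 q3763 (flp_a L61242) q4860, e3 q3764 L592237 q4590, e3 q3765 (flp_a L61258) q4861, e3 q3766 (flp_a L61268) q4862, e3 q3767 (flp_a L61277) q4863, e3 q3768 (flp_a L61285) q4864, e3 q3769 (flp_a L61295) q4865, e3 q3770 (flp_a L61304) q4866, e3 q3771 L42587 q3771, e3 q3772 L42596 q3772, e3 q3773 L42604 q3773, e3 q3774 L42612 q3774, e3 q3775 L42617 q3775, trivial⟩ (by decide +kernel)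

theorem ce_a_59 : ∀ r, r < 64 → sm ga (Qf (3776 + r)) = Qf (tab Gen.a (3776 + r)) :=
  edges_tab (sm ga) Qf (tab Gen.a) 3776 [(3776, 3776), (3777, 3777), (3778, 2853), (3779, 2854), (3780, 2855), (3781, 2857), (3782, 2858), (3783, 2859), (3784, 2860), (3785, 2861), (3786, 2862), (3787, 4891), (3788, 4892), (3789, 4893), (3790, 4894), (3791, 4622), (3792, 4895), (3793, 4329), (3794, 4623), (3795, 4896), (3796, 4897), (3797, 4898), (3798, 4899), (3799, 4900), (3800, 4901), (3801, 4902), (3802, 3802), (3803, 3803), (3804, 3804), (3805, 3805), (3806, 3806), (3807, 3807), (3808, 3808), (3809, 3809), (3810, 2875), (3811, 2876), (3812, 2877), (3813, 2878), (3814, 2879), (3815, 2880), (3816, 2881), (3817, 4934), (3818, 4935), (3819, 4936), (3820, 4937), (3821, 4938), (3822, 4939), (3823, 4940), (3824, 4941), (3825, 3825), (3826, 3826), (3827, 3827), (3828, 3828), (3829, 3829), (3830, 3830), (3831, 3831), (3832, 3832), (3833, 4959), (3834, 3834), (3835, 3835), (3836, 4962), (3837, 2895), (3838, 4963), (3839, 3154)]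
    ⟨e3 q3776 L42625 q3776, e3 q3777 L42633 q3777, e3 q3778 L42660 q2853, e3 q3779 L42670 q2854, e3 q3780 L42679 q2855, e3 q3781 L42695 q2857, e3 q3782 L42704 q2858, e3 q3783 L42714 q2859, e3 q3784 L42723 q2860, e3 q3785 L42732 q2861, e3 q3786 L42739 q2862, e3 q3787 (flp_a L61549) q4891, e3 q3788 (flp_a L61559) q4892, e3 q3789 (flp_a L61569) q4893, e3 q3790 (flp_a L61579) q4894, e3 q3791 L592383 q4622, e3 q3792 (flp_a L61596) q4895, e3 q3793 (flp_a L575546) q4329, e3 q3794 (flp_a L592328) q4623, e3 q3795 (flp_a L61621) q4896, e3 q3796 (flp_a L61630) q4897, e3 q3797 (flp_a L61641) q4898, e3 q3798 (flp_a L61650) q4899, e3 q3799 (flp_a L61659) q4900, e3 q3800 (flp_a L61669) q4901, e3 q3801 (flp_a L61677) q4902, e3 q3802 L42869 q3802, e3 q3803 L42878 q3803, e3 q3804 L42885 q3804, e3 q3805 L42894 q3805, e3 q3806 L42901 q3806, e3 q3807 L42910 q3807, e3 q3808 L42918 q3808, e3 q3809 L42925 q3809, e3 q3810 L42933 q2875, e3 q3811 L42942 q2876, e3 q3812 L42952 q2877, e3 q3813 L42962 q2878, e3 q3814 L42969 q2879, e3 q3815 L42980 q2880,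 e3 q3816 L42990 q2881, e3 q3817 (flp_a L61939) q4934, e3 q3818 (flp_a L61949) q4935, e3 q3819 (flp_a L61959) q4936, e3 q3820 (flp_a L61970) q4937, e3 q3821 (flp_a L61977) q4938, e3 q3822 (flp_a L61988) q4939, e3 q3823 (flp_a L61995) q4940, e3 q3824 (flp_a L62004) q4941, e3 q3825 L43067 q3825, e3 q3826 L43076 q3826, e3 q3827 L43086 q3827, e3 q3828 L43092 q3828, e3 q3829 L43102 q3829, e3 q3830 L43108 q3830, e3 q3831 L43119 q3831, e3 q3832 L43126 q3832, e3 q3833 L62187 q4959, e3 q3834 L43139 q3834, e3 q3835 L43148 q3835, e3 q3836 L62323 q4962, e3 q3837 (flp_a L43246) q2895, e3 q3838 (flp_a L62350) q4963, e3 q3839 L43273 q3154, trivial⟩ (by decide +kernel)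

theorem ce_a_60 : ∀ r, r < 64 → sm ga (Qf (3840 + r)) = Qf (tab Gen.a (3840 + r)) :=
  edges_tab (sm ga) Qf (tab Gen.a) 3840 [(3840, 3155), (3841, 3156), (3842, 3157), (3843, 3158), (3844, 3159), (3845, 3160), (3846, 3137), (3847, 3161), (3848, 3162), (3849, 2905), (3850, 4974), (3851, 3164), (3852, 3165), (3853, 3166), (3854, 3169), (3855, 3170), (3856, 3136), (3857, 3171), (3858, 3172), (3859, 3173), (3860, 2916), (3861, 4984), (3862, 4985), (3863, 3176), (3864, 3177), (3865, 3178), (3866, 3179), (3867, 3181), (3868, 3182), (3869, 3148), (3870, 3111), (3871, 3183), (3872, 3184), (3873, 3185), (3874, 2927), (3875, 2928), (3876, 4998), (3877, 4999), (3878, 5000), (3879, 5001), (3880, 3190), (3881, 3191), (3882, 3192), (3883, 3193), (3884, 3194), (3885, 2996), (3886, 3095), (3887, 3195), (3888, 3196), (3889, 3197), (3890, 2939), (3891, 2940), (3892, 5015), (3893, 5016), (3894, 5017), (3895, 5018), (3896, 3202), (3897, 3203), (3898, 3204), (3899, 3198), (3900, 3205), (3901, 3206), (3902, 3018), (3903, 3021)]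
    ⟨e3 q3840 L43283 q3155, e3 q3841 L43294 q3156, e3 q3842 L43306 q3157, e3 q3843 L43342 q3158, e3 q3844 L43352 q3159, e3 q3845 L43372 q3160, e3 q3846 L594282 q3137, e3 q3847 L43391 q3161, e3 q3848 L43402 q3162, e3 q3849 (flp_a L43409) q2905, e3 q3850 (flp_a L62584) q4974, e3 q3851 L43429 q3164, e3 q3852 L43438 q3165, e3 q3853 L43447 q3166, e3 q3854 L43516 q3169, e3 q3855 L43546 q3170, e3 q3856 (flp_a L578244) q3136, e3 q3857 L43576 q3171, e3 q3858 L43586 q3172, e3 q3859 L43598 q3173, e3 q3860 L43607 q2916, e3 q3861 (flp_a L62867) q4984, e3 q3862 (flp_a L62876) q4985, e3 q3863 L43632 q3176, e3 q3864 L43641 q3177, e3 q3865 L43650 q3178, e3 q3866 L43659 q3179, e3 q3867 L43750 q3181, e3 q3868 L43794 q3182, e3 q3869 (flp_a L578195) q3148, e3 q3870 L593849 q3111, e3 q3871 L43829 q3183, e3 q3872 L43845 q3184, e3 q3873 L43856 q3185, e3 q3874 L43866 q2927, e3 q3875 L43874 q2928, e3 q3876 (flp_a L63264) q4998, e3 q3877 (flp_a L63270) q4999, e3 q3878 (flp_a L63278) q5000, e3 q3879 (flp_a L63287) q5001, e3 q3880 L43909 q3190, e3 q3881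 L43917 q3191, e3 q3882 L43925 q3192, e3 q3883 L43941 q3193, e3 q3884 L44022 q3194, e3 q3885 (flp_a L551771) q2996, e3 q3886 (flp_a L594532) q3095, e3 q3887 L44060 q3195, e3 q3888 L44082 q3196, e3 q3889 L44091 q3197, e3 q3890 L44102 q2939, e3 q3891 L44112 q2940, e3 q3892 (flp_a L63621) q5015, e3 q3893 (flp_a L63629) q5016, e3 q3894 (flp_a L63639) q5017, e3 q3895 (flp_a L63650) q5018, e3 q3896 L44152 q3202, e3 q3897 L44161 q3203, e3 q3898 L44170 q3204, e3 q3899 (flp_a L587192) q3198, e3 q3900 L44192 q3205, e3 q3901 L44303 q3206, e3 q3902 (flp_a L591309) q3018, e3 q3903 (flp_a L591320) q3021, trivial⟩ (by decide +kernel)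

theorem ce_a_61 : ∀ r, r < 64 → sm ga (Qf (3904 + r)) = Qf (tab Gen.a (3904 + r)) :=
  edges_tab (sm ga) Qf (tab Gen.a) 3904 [(3904, 3113), (3905, 3207), (3906, 3208), (3907, 3209), (3908, 2953), (3909, 2954), (3910, 2955), (3911, 2956), (3912, 5034), (3913, 5035), (3914, 5036), (3915, 5037), (3916, 5038), (3917, 3007), (3918, 5039), (3919, 3215), (3920, 3216), (3921, 3217), (3922, 3218), (3923, 3210), (3924, 3048), (3925, 3051), (3926, 3053), (3927, 3126), (3928, 3219), (3929, 3220), (3930, 3032), (3931, 2973), (3932, 2974), (3933, 2975), (3934, 2976), (3935, 2977), (3936, 2979), (3937, 5058), (3938, 5059), (3939, 5060), (3940, 4723), (3941, 5061), (3942, 5062), (3943, 5063), (3944, 5064), (3945, 3035), (3946, 3227), (3947, 3228), (3948, 3229), (3949, 3230), (3950, 3221), (3951, 3231), (3952, 3222), (3953, 2986), (3954, 2987), (3955, 5082), (3956, 5083), (3957, 5024), (3958, 5084), (3959, 3236), (3960, 3237), (3961, 3238), (3962, 3200), (3963, 3239), (3964, 2994), (3965, 2995), (3966, 2997), (3967, 5094)]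
    ⟨e3 q3904 (flp_a L594676) q3113, e3 q3905 L44364 q3207, e3 q3906 L44373 q3208, e3 q3907 L44404 q3209, e3 q3908 L44414 q2953, e3 q3909 L44421 q2954, e3 q3910 L44429 q2955, e3 q3911 L44439 q2956, e3 q3912 (flp_a L64081) q5034, e3 q3913 (flp_a L64087) q5035, e3 q3914 (flp_a L64096) q5036, e3 q3915 (flp_a L64103) q5037, e3 q3916 (flp_a L64113) q5038, e3 q3917 (flp_a L601113) q3007, e3 q3918 (flp_a L64132) q5039, e3 q3919 L44498 q3215, e3 q3920 L44506 q3216, e3 q3921 L44515 q3217, e3 q3922 L44525 q3218, e3 q3923 (flp_a L599358) q3210, e3 q3924 (flp_a L591012) q3048, e3 q3925 L589692 q3051, e3 q3926 L580527 q3053, e3 q3927 (flp_a L593459) q3126, e3 q3928 L44795 q3219, e3 q3929 L44816 q3220, e3 q3930 L545274 q3032, e3 q3931 L44854 q2973, e3 q3932 L44861 q2974, e3 q3933 L44869 q2975, e3 q3934 L44878 q2976, e3 q3935 L44886 q2977, e3 q3936 L44905 q2979, e3 q3937 (flp_a L64764) q5058, e3 q3938 (flp_a L64772) q5059, e3 q3939 (flp_a L64778) q5060, e3 q3940 (flp_a L576275) q4723, e3 q3941 (flp_a L64801) q5061, e3 q3942 (flp_a L64810)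 q5062, e3 q3943 (flp_a L64820) q5063, e3 q3944 (flp_a L64829) q5064, e3 q3945 (flp_a L590801) q3035, e3 q3946 L44988 q3227, e3 q3947 L44996 q3228, e3 q3948 L45006 q3229, e3 q3949 L45016 q3230, e3 q3950 L587715 q3221, e3 q3951 L45035 q3231, e3 q3952 (flp_a L587424) q3222, e3 q3953 L45054 q2986, e3 q3954 L45066 q2987, e3 q3955 (flp_a L65041) q5082, e3 q3956 (flp_a L65051) q5083, e3 q3957 L591144 q5024, e3 q3958 (flp_a L65074) q5084, e3 q3959 L45114 q3236, e3 q3960 L45124 q3237, e3 q3961 L45133 q3238, e3 q3962 L588931 q3200, e3 q3963 L45153 q3239, e3 q3964 L45166 q2994, e3 q3965 L45174 q2995, e3 q3966 L45196 q2997, e3 q3967 (flp_a L65207) q5094, trivial⟩ (by decide +kernel)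

theorem ce_a_62 : ∀ r, r < 64 → sm ga (Qf (3968 + r)) = Qf (tab Gen.a (3968 + r)) :=
  edges_tab (sm ga) Qf (tab Gen.a) 3968 [(3968, 5009), (3969, 5095), (3970, 5096), (3971, 5010), (3972, 5097), (3973, 3199), (3974, 3005), (3975, 3006), (3976, 3008), (3977, 5102), (3978, 5033), (3979, 5103), (3980, 5104), (3981, 5048), (3982, 5105), (3983, 3250), (3984, 3251), (3985, 3252), (3986, 3253), (3987, 3213), (3988, 3017), (3989, 3019), (3990, 3020), (3991, 3022), (3992, 5118), (3993, 5119), (3994, 5027), (3995, 4588), (3996, 5120), (3997, 5028), (3998, 5121), (3999, 5029), (4000, 3211), (4001, 3212), (4002, 3031), (4003, 3033), (4004, 3034), (4005, 3036), (4006, 5129), (4007, 5130), (4008, 5057), (4009, 5131), (4010, 5076), (4011, 5132), (4012, 5078), (4013, 3264), (4014, 3265), (4015, 3266), (4016, 3267), (4017, 3224), (4018, 3268), (4019, 3226), (4020, 3046), (4021, 3047), (4022, 3050), (4023, 3052), (4024, 5149), (4025, 5150), (4026, 5051), (4027, 5151), (4028, 5052), (4029, 4618), (4030, 4327), (4031, 5152)]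
    ⟨e3 q3968 L591277 q5009, e3 q3969 (flp_a L65225) q5095, e3 q3970 (flp_a L65235) q5096, e3 q3971 L591290 q5010, e3 q3972 (flp_a L65268) q5097, e3 q3973 (flp_a L598679) q3199, e3 q3974 L45309 q3005, e3 q3975 L45318 q3006, e3 q3976 L45338 q3008, e3 q3977 (flp_a L65431) q5102, e3 q3978 (flp_a L591134) q5033, e3 q3979 (flp_a L65448) q5103, e3 q3980 (flp_a L65458) q5104, e3 q3981 (flp_a L577641) q5048, e3 q3982 (flp_a L65491) q5105, e3 q3983 L45408 q3250, e3 q3984 L45417 q3251, e3 q3985 L45424 q3252, e3 q3986 L45434 q3253, e3 q3987 (flp_a L598547) q3213, e3 q3988 L45459 q3017, e3 q3989 L45474 q3019, e3 q3990 L45482 q3020, e3 q3991 L45513 q3022, e3 q3992 (flp_a L65660) q5118, e3 q3993 (flp_a L65667) q5119, e3 q3994 (flp_a L591330) q5027, e3 q3995 (flp_a L592247) q4588, e3 q3996 (flp_a L65700) q5120, e3 q3997 L577750 q5028, e3 q3998 (flp_a L65718) q5121, e3 q3999 L580481 q5029, e3 q4000 (flp_a L599375) q3211, e3 q4001 L598531 q3212, e3 q4002 L45660 q3031, e3 q4003 L45677 q3033, e3 q4004 L45689 q3034, e3 q4005 L45720 q3036, e3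 q4006 (flp_a L65953) q5129, e3 q4007 (flp_a L65963) q5130, e3 q4008 L590939 q5057, e3 q4009 (flp_a L65996) q5131, e3 q4010 (flp_a L589764) q5076, e3 q4011 (flp_a L66018) q5132, e3 q4012 L601094 q5078, e3 q4013 L45809 q3264, e3 q4014 L45818 q3265, e3 q4015 L45829 q3266, e3 q4016 L45837 q3267, e3 q4017 (flp_a L598275) q3224, e3 q4018 L45856 q3268, e3 q4019 (flp_a L598553) q3226, e3 q4020 L45888 q3046, e3 q4021 L45896 q3047, e3 q4022 L45926 q3050, e3 q4023 L45947 q3052, e3 q4024 (flp_a L66287) q5149, e3 q4025 (flp_a L66295) q5150, e3 q4026 L551463 q5051, e3 q4027 (flp_a L66313) q5151, e3 q4028 L580511 q5052, e3 q4029 (flp_a L575810) q4618, e3 q4030 L575515 q4327, e3 q4031 (flp_a L66363) q5152, trivial⟩ (by decide +kernel)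

theorem ce_a_63 : ∀ r, r < 64 → sm ga (Qf (4032 + r)) = Qf (tab Gen.a (4032 + r)) :=
  edges_tab (sm ga) Qf (tab Gen.a) 4032 [(4032, 5153), (4033, 5053), (4034, 5054), (4035, 3223), (4036, 3225), (4037, 3065), (4038, 3066), (4039, 3068), (4040, 3069), (4041, 3070), (4042, 3071), (4043, 5164), (4044, 5165), (4045, 4466), (4046, 5166), (4047, 4467), (4048, 5167), (4049, 5168), (4050, 5169), (4051, 5170), (4052, 5171), (4053, 3292), (4054, 3293), (4055, 3294), (4056, 3295), (4057, 3296), (4058, 4058), (4059, 4059), (4060, 3082), (4061, 3083), (4062, 3084), (4063, 3085), (4064, 3086), (4065, 5192), (4066, 5193), (4067, 5194), (4068, 5195), (4069, 5196), (4070, 3091), (4071, 3093), (4072, 3094), (4073, 3096), (4074, 5202), (4075, 5203), (4076, 4568), (4077, 4567), (4078, 5204), (4079, 4980), (4080, 5205), (4081, 5011), (4082, 3175), (4083, 3201), (4084, 3106), (4085, 3107), (4086, 3110), (4087, 3112), (4088, 5213), (4089, 5214), (4090, 4548), (4091, 5215), (4092, 4591), (4093, 4589), (4094, 4310), (4095, 5216)]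
    ⟨e3 q4032 (flp_a L66372) q5153, e3 q4033 L580491 q5053, e3 q4034 (flp_a L580532) q5054, e3 q4035 (flp_a L541908) q3223, e3 q4036 L598453 q3225, e3 q4037 L46151 q3065, e3 q4038 L46161 q3066, e3 q4039 L46188 q3068, e3 q4040 L46198 q3069, e3 q4041 L46209 q3070, e3 q4042 L46221 q3071, e3 q4043 (flp_a L66642) q5164, e3 q4044 (flp_a L66650) q5165, e3 q4045 (flp_a L543936) q4466, e3 q4046 (flp_a L66671) q5166, e3 q4047 (flp_a L543917) q4467, e3 q4048 (flp_a L66709) q5167, e3 q4049 (flp_a L66719) q5168, e3 q4050 (flp_a L66730) q5169, e3 q4051 (flp_a L66741) q5170, e3 q4052 (flp_a L66751) q5171, e3 q4053 L46336 q3292, e3 q4054 L46346 q3293, e3 q4055 L46356 q3294, e3 q4056 L46367 q3295, e3 q4057 L46375 q3296, e3 q4058 L46384 q4058, e3 q4059 L46394 q4059, e3 q4060 L46403 q3082, e3 q4061 L46409 q3083, e3 q4062 L46418 q3084, e3 q4063 L46427 q3085, e3 q4064 L46436 q3086, e3 q4065 (flp_a L66964) q5192, e3 q4066 (flp_a L66970) q5193, e3 q4067 (flp_a L66977) q5194, e3 q4068 (flp_a L66986) q5195, e3 q4069 (flp_a L66996) q5196, e3 q4070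 L46502 q3091, e3 q4071 L46522 q3093, e3 q4072 L46534 q3094, e3 q4073 L46566 q3096, e3 q4074 (flp_a L67069) q5202, e3 q4075 (flp_a L67080) q5203, e3 q4076 (flp_a L593554) q4568, e3 q4077 (flp_a L592241) q4567, e3 q4078 (flp_a L67117) q5204, e3 q4079 L594013 q4980, e3 q4080 (flp_a L67139) q5205, e3 q4081 (flp_a L594060) q5011, e3 q4082 L598065 q3175, e3 q4083 (flp_a L598687) q3201, e3 q4084 L46753 q3106, e3 q4085 L46762 q3107, e3 q4086 L46796 q3110, e3 q4087 L46817 q3112, e3 q4088 (flp_a L67441) q5213, e3 q4089 (flp_a L67449) q5214, e3 q4090 L593836 q4548, e3 q4091 (flp_a L67469) q5215, e3 q4092 L593512 q4591, e3 q4093 L593519 q4589, e3 q4094 (flp_a L592244) q4310, e3 q4095 (flp_a L67519) q5216, trivial⟩ (by decide +kernel)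

theorem ce_a_64 : ∀ r, r < 64 → sm ga (Qf (4096 + r)) = Qf (tab Gen.a (4096 + r)) :=
  edges_tab (sm ga) Qf (tab Gen.a) 4096 [(4096, 4994), (4097, 4993), (4098, 5030), (4099, 3189), (4100, 3187), (4101, 3214), (4102, 3122), (4103, 4624), (4104, 4621), (4105, 4620), (4106, 4328), (4107, 3131), (4108, 3132), (4109, 3135), (4110, 5232), (4111, 5233), (4112, 4531), (4113, 4519), (4114, 4280), (4115, 4299), (4116, 5234), (4117, 4970), (4118, 4979), (4119, 3163), (4120, 3174), (4121, 3144), (4122, 5245), (4123, 4547), (4124, 4288), (4125, 4311), (4126, 4992), (4127, 4127), (4128, 3186), (4129, 3188), (4130, 4330), (4131, 4131), (4132, 4132), (4133, 4133), (4134, 4964), (4135, 4965), (4136, 4966), (4137, 4967), (4138, 4968), (4139, 4969), (4140, 4971), (4141, 4972), (4142, 4973), (4143, 4143), (4144, 4977), (4145, 4978), (4146, 4981), (4147, 4982), (4148, 4983), (4149, 5244), (4150, 4150), (4151, 4990), (4152, 4991), (4153, 4995), (4154, 4996), (4155, 4997), (4156, 5254), (4157, 5014), (4158, 5227), (4159, 5008)]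
    ⟨e3 q4096 L593912 q4994, e3 q4097 L593831 q4993, e3 q4098 L593920 q5030, e3 q4099 L597917 q3189, e3 q4100 L597410 q3187, e3 q4101 (flp_a L597883) q3214, e3 q4102 L47059 q3122, e3 q4103 (flp_a L593466) q4624, e3 q4104 L592423 q4621, e3 q4105 (flp_a L575825) q4620, e3 q4106 L575067 q4328, e3 q4107 L47214 q3131, e3 q4108 L47223 q3132, e3 q4109 L47262 q3135, e3 q4110 (flp_a L68052) q5232, e3 q4111 (flp_a L68061) q5233, e3 q4112 L593778 q4531, e3 q4113 L594266 q4519, e3 q4114 (flp_a L593109) q4280, e3 q4115 (flp_a L574785) q4299, e3 q4116 (flp_a L68131) q5234, e3 q4117 L594260 q4970, e3 q4118 (flp_a L578240) q4979, e3 q4119 L597712 q3163, e3 q4120 L597496 q3174, e3 q4121 L47505 q3144, e3 q4122 (flp_a L68465) q5245, e3 q4123 L593784 q4547, e3 q4124 (flp_a L548717) q4288, e3 q4125 (flp_a L575238) q4311, e3 q4126 (flp_a L578183) q4992, e3 q4127 L539852 q4127, e3 q4128 L588316 q3186, e3 q4129 L597450 q3188, e3 q4130 L575079 q4330, e3 q4131 L47740 q4131, e3 q4132 L47749 q4132, e3 q4133 L47758 q4133, e3 q4134 (flp_a L62375) q4964,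 e3 q4135 (flp_a L62385) q4965, e3 q4136 (flp_a L62396) q4966, e3 q4137 (flp_a L62473) q4967, e3 q4138 (flp_a L62492) q4968, e3 q4139 (flp_a L62524) q4969, e3 q4140 (flp_a L62553) q4971, e3 q4141 (flp_a L62564) q4972, e3 q4142 (flp_a L62574) q4973, e3 q4143 L48041 q4143, e3 q4144 (flp_a L62738) q4977, e3 q4145 (flp_a L62789) q4978, e3 q4146 (flp_a L62827) q4981, e3 q4147 (flp_a L62846) q4982, e3 q4148 (flp_a L62856) q4983, e3 q4149 (flp_a L597480) q5244, e3 q4150 L48383 q4150, e3 q4151 (flp_a L63096) q4990, e3 q4152 (flp_a L63157) q4991, e3 q4153 (flp_a L63217) q4995, e3 q4154 (flp_a L63227) q4996, e3 q4155 (flp_a L63253) q4997, e3 q4156 L597439 q5254, e3 q4157 (flp_a L626852) q5014, e3 q4158 (flp_a L597432) q5227, e3 q4159 (flp_a L63498) q5008, trivial⟩ (by decide +kernel)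

theorem ce_a_65 : ∀ r, r < 64 → sm ga (Qf (4160 + r)) = Qf (tab Gen.a (4160 + r)) :=
  edges_tab (sm ga) Qf (tab Gen.a) 4160 [(4160, 5012), (4161, 5013), (4162, 5026), (4163, 5093), (4164, 5031), (4165, 5032), (4166, 5049), (4167, 5050), (4168, 5115), (4169, 5117), (4170, 5055), (4171, 5056), (4172, 5080), (4173, 5079), (4174, 5081), (4175, 5146), (4176, 5147), (4177, 5148), (4178, 3234), (4179, 3235), (4180, 5092), (4181, 5091), (4182, 5114), (4183, 3242), (4184, 3243), (4185, 3244), (4186, 3247), (4187, 3248), (4188, 3249), (4189, 5116), (4190, 5113), (4191, 3257), (4192, 3258), (4193, 3262), (4194, 3263), (4195, 5144), (4196, 5143), (4197, 5145), (4198, 3271), (4199, 3272), (4200, 4200), (4201, 4201), (4202, 3281), (4203, 3282), (4204, 3283), (4205, 3284), (4206, 3285), (4207, 3287), (4208, 3288), (4209, 3289), (4210, 3290), (4211, 3291), (4212, 5274), (4213, 5275), (4214, 5276), (4215, 5277), (4216, 5278), (4217, 4461), (4218, 5186), (4219, 5185), (4220, 5184), (4221, 5187), (4222, 4222), (4223, 4223)]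
    ⟨e3 q4160 (flp_a L63566) q5012, e3 q4161 (flp_a L63577) q5013, e3 q4162 L600631 q5026, e3 q4163 L598707 q5093, e3 q4164 (flp_a L64021) q5031, e3 q4165 (flp_a L64040) q5032, e3 q4166 (flp_a L599382) q5049, e3 q4167 L600497 q5050, e3 q4168 L596818 q5115, e3 q4169 (flp_a L598559) q5117, e3 q4170 (flp_a L64675) q5055, e3 q4171 (flp_a L64685) q5056, e3 q4172 L587724 q5080, e3 q4173 (flp_a L587733) q5079, e3 q4174 L600373 q5081, e3 q4175 (flp_a L587575) q5146, e3 q4176 L560732 q5147, e3 q4177 (flp_a L598431) q5148, e3 q4178 L50466 q3234, e3 q4179 L50485 q3235, e3 q4180 L626253 q5092, e3 q4181 L626242 q5091, e3 q4182 L626047 q5114, e3 q4183 L50627 q3242, e3 q4184 L50635 q3243, e3 q4185 L50662 q3244, e3 q4186 L50829 q3247, e3 q4187 L50837 q3248, e3 q4188 L50864 q3249, e3 q4189 L625906 q5116, e3 q4190 L626536 q5113, e3 q4191 L51059 q3257, e3 q4192 L51073 q3258, e3 q4193 L51332 q3262, e3 q4194 L51350 q3263, e3 q4195 (flp_a L624722) q5144, e3 q4196 L626547 q5143, e3 q4197 (flp_a L66203) q5145, e3 q4198 L51675 q3271, e3 q4199 L51682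 q3272, e3 q4200 L51900 q4200, e3 q4201 L51909 q4201, e3 q4202 L51936 q3281, e3 q4203 L51945 q3282, e3 q4204 L51955 q3283, e3 q4205 L51966 q3284, e3 q4206 L51977 q3285, e3 q4207 L52007 q3287, e3 q4208 L52015 q3288, e3 q4209 L52024 q3289, e3 q4210 L52033 q3290, e3 q4211 L52041 q3291, e3 q4212 (flp_a L75052) q5274, e3 q4213 (flp_a L75068) q5275, e3 q4214 (flp_a L75078) q5276, e3 q4215 (flp_a L75089) q5277, e3 q4216 (flp_a L75107) q5278, e3 q4217 L560964 q4461, e3 q4218 L624345 q5186, e3 q4219 (flp_a L624501) q5185, e3 q4220 L605150 q5184, e3 q4221 (flp_a L66921) q5187, e3 q4222 L52220 q4222, e3 q4223 L52228 q4223, trivial⟩ (by decide +kernel)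

theorem ce_a_66 : ∀ r, r < 64 → sm ga (Qf (4224 + r)) = Qf (tab Gen.a (4224 + r)) :=
  edges_tab (sm ga) Qf (tab Gen.a) 4224 [(4224, 4224), (4225, 3304), (4226, 3305), (4227, 3306), (4228, 3307), (4229, 3311), (4230, 3312), (4231, 3315), (4232, 3317), (4233, 4233), (4234, 4234), (4235, 4235), (4236, 4236), (4237, 4237), (4238, 4238), (4239, 5293), (4240, 4240), (4241, 4241), (4242, 4242), (4243, 4243), (4244, 5301), (4245, 4245), (4246, 4246), (4247, 3329), (4248, 5306), (4249, 4249), (4250, 4250), (4251, 4251), (4252, 3332), (4253, 5313), (4254, 4254), (4255, 4255), (4256, 4256), (4257, 3336), (4258, 5320), (4259, 5321), (4260, 4260), (4261, 4261), (4262, 4262), (4263, 4263), (4264, 3341), (4265, 3342), (4266, 5331), (4267, 5332), (4268, 5333), (4269, 5334), (4270, 4270), (4271, 4271), (4272, 4272), (4273, 4273), (4274, 4274), (4275, 4275), (4276, 4276), (4277, 5350), (4278, 4278), (4279, 4279), (4280, 4114), (4281, 4281), (4282, 4282), (4283, 3352), (4284, 5359), (4285, 4285), (4286, 4286), (4287, 4287)]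
    ⟨e3 q4224 L52236 q4224, e3 q4225 L52245 q3304, e3 q4226 L52260 q3305, e3 q4227 L52269 q3306, e3 q4228 L52279 q3307, e3 q4229 L52400 q3311, e3 q4230 L52418 q3312, e3 q4231 L52778 q3315, e3 q4232 L53373 q3317, e3 q4233 L54466 q4233, e3 q4234 L54475 q4234, e3 q4235 L55040 q4235, e3 q4236 L55051 q4236, e3 q4237 L55060 q4237, e3 q4238 L55069 q4238, e3 q4239 L79395 q5293, e3 q4240 L55087 q4240, e3 q4241 L55095 q4241, e3 q4242 L55104 q4242, e3 q4243 L55115 q4243, e3 q4244 L79469 q5301, e3 q4245 L55136 q4245, e3 q4246 L55146 q4246, e3 q4247 (flp_a L55155) q3329, e3 q4248 (flp_a L79521) q5306, e3 q4249 L55177 q4249, e3 q4250 L55183 q4250, e3 q4251 L55193 q4251, e3 q4252 (flp_a L55201) q3332, e3 q4253 (flp_a L79582) q5313, e3 q4254 L55225 q4254, e3 q4255 L55234 q4255, e3 q4256 L55244 q4256, e3 q4257 L55253 q3336, e3 q4258 (flp_a L79652) q5320, e3 q4259 (flp_a L79661) q5321, e3 q4260 L55280 q4260, e3 q4261 L55287 q4261, e3 q4262 L55296 q4262, e3 q4263 L55306 q4263, e3 q4264 L55316 q3341, e3 q4265 L55324 q3342, e3 q4266 (flp_a L79747)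 q5331, e3 q4267 (flp_a L79755) q5332, e3 q4268 (flp_a L79764) q5333, e3 q4269 (flp_a L79773) q5334, e3 q4270 L55367 q4270, e3 q4271 L55375 q4271, e3 q4272 L55382 q4272, e3 q4273 L55391 q4273, e3 q4274 L55400 q4274, e3 q4275 L55410 q4275, e3 q4276 L55422 q4276, e3 q4277 L79914 q5350, e3 q4278 L55442 q4278, e3 q4279 L55450 q4279, e3 q4280 L593109 q4114, e3 q4281 L55469 q4281, e3 q4282 L55479 q4282, e3 q4283 (flp_a L55489) q3352, e3 q4284 (flp_a L80013) q5359, e3 q4285 L55508 q4285, e3 q4286 L55516 q4286, e3 q4287 L55525 q4287, trivial⟩ (by decide +kernel)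

theorem ce_a_67 : ∀ r, r < 64 → sm ga (Qf (4288 + r)) = Qf (tab Gen.a (4288 + r)) :=
  edges_tab (sm ga) Qf (tab Gen.a) 4288 [(4288, 4124), (4289, 4289), (4290, 4290), (4291, 4291), (4292, 3359), (4293, 5372), (4294, 5373), (4295, 4295), (4296, 4296), (4297, 4297), (4298, 4298), (4299, 4115), (4300, 4300), (4301, 4301), (4302, 4302), (4303, 3367), (4304, 5389), (4305, 5390), (4306, 4306), (4307, 4307), (4308, 4308), (4309, 4309), (4310, 4094), (4311, 4125), (4312, 4312), (4313, 4313), (4314, 4314), (4315, 4315), (4316, 3376), (4317, 3377), (4318, 5409), (4319, 5410), (4320, 5411), (4321, 5412), (4322, 4322), (4323, 4323), (4324, 4324), (4325, 4325), (4326, 4326), (4327, 4030), (4328, 4106), (4329, 3793), (4330, 4130), (4331, 4331), (4332, 4332), (4333, 4333), (4334, 4334), (4335, 4335), (4336, 3390), (4337, 3391), (4338, 3392), (4339, 3393), (4340, 5438), (4341, 5439), (4342, 5440), (4343, 5441), (4344, 5442), (4345, 5443), (4346, 5444), (4347, 4347), (4348, 4348), (4349, 4349), (4350, 4350), (4351, 4351)]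
    ⟨e3 q4288 L548717 q4124, e3 q4289 L55553 q4289, e3 q4290 L55562 q4290, e3 q4291 L55572 q4291, e3 q4292 L55583 q3359, e3 q4293 (flp_a L80137) q5372, e3 q4294 (flp_a L80145) q5373, e3 q4295 L55604 q4295, e3 q4296 L55610 q4296, e3 q4297 L55617 q4297, e3 q4298 L55625 q4298, e3 q4299 L574785 q4115, e3 q4300 L55656 q4300, e3 q4301 L55668 q4301, e3 q4302 L55678 q4302, e3 q4303 L55688 q3367, e3 q4304 (flp_a L80293) q5389, e3 q4305 (flp_a L80303) q5390, e3 q4306 L55713 q4306, e3 q4307 L55722 q4307, e3 q4308 L55732 q4308, e3 q4309 L55738 q4309, e3 q4310 L592244 q4094, e3 q4311 L575238 q4125, e3 q4312 L55776 q4312, e3 q4313 L55785 q4313, e3 q4314 L55795 q4314, e3 q4315 L55805 q4315, e3 q4316 L55816 q3376, e3 q4317 L55825 q3377, e3 q4318 (flp_a L80496) q5409, e3 q4319 (flp_a L80505) q5410, e3 q4320 (flp_a L80512) q5411, e3 q4321 (flp_a L80521) q5412, e3 q4322 L55861 q4322, e3 q4323 L55868 q4323, e3 q4324 L55877 q4324, e3 q4325 L55884 q4325, e3 q4326 L55893 q4326, e3 q4327 (flp_a L575515) q4030, e3 q4328 (flp_a L575067) q4106, e3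 q4329 L575546 q3793, e3 q4330 (flp_a L575079) q4130, e3 q4331 L55957 q4331, e3 q4332 L55968 q4332, e3 q4333 L55977 q4333, e3 q4334 L55986 q4334, e3 q4335 L55997 q4335, e3 q4336 L56007 q3390, e3 q4337 L56015 q3391, e3 q4338 L56023 q3392, e3 q4339 L56031 q3393, e3 q4340 (flp_a L80784) q5438, e3 q4341 (flp_a L80792) q5439, e3 q4342 (flp_a L80801) q5440, e3 q4343 (flp_a L80810) q5441, e3 q4344 (flp_a L80817) q5442, e3 q4345 (flp_a L80825) q5443, e3 q4346 (flp_a L80833) q5444, e3 q4347 L56090 q4347, e3 q4348 L56098 q4348, e3 q4349 L56108 q4349, e3 q4350 L56116 q4350, e3 q4351 L56123 q4351, trivial⟩ (by decide +kernel)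

theorem ce_a_68 : ∀ r, r < 64 → sm ga (Qf (4352 + r)) = Qf (tab Gen.a (4352 + r)) :=
  edges_tab (sm ga) Qf (tab Gen.a) 4352 [(4352, 3399), (4353, 5462), (4354, 4354), (4355, 4355), (4356, 4356), (4357, 3403), (4358, 5469), (4359, 5470), (4360, 4360), (4361, 4361), (4362, 4362), (4363, 4363), (4364, 3408), (4365, 3409), (4366, 5480), (4367, 5481), (4368, 5482), (4369, 5483), (4370, 4370), (4371, 4371), (4372, 4372), (4373, 4373), (4374, 4374), (4375, 3415), (4376, 5496), (4377, 5497), (4378, 4378), (4379, 4379), (4380, 4380), (4381, 4381), (4382, 3420), (4383, 3421), (4384, 5507), (4385, 5508), (4386, 5509), (4387, 5510), (4388, 4388), (4389, 4389), (4390, 4390), (4391, 4391), (4392, 4392), (4393, 3428), (4394, 3429), (4395, 3430), (4396, 3431), (4397, 5524), (4398, 5525), (4399, 5526), (4400, 5527), (4401, 5528), (4402, 5529), (4403, 5530), (4404, 4404), (4405, 4405), (4406, 4406), (4407, 4407), (4408, 4408), (4409, 3438), (4410, 3439), (4411, 5548), (4412, 5549), (4413, 5550), (4414, 5551), (4415, 4415)]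
    ⟨e3 q4352 (flp_a L56129) q3399, e3 q4353 (flp_a L80975) q5462, e3 q4354 L56154 q4354, e3 q4355 L56163 q4355, e3 q4356 L56174 q4356, e3 q4357 L56184 q3403, e3 q4358 (flp_a L81048) q5469, e3 q4359 (flp_a L81060) q5470, e3 q4360 L56216 q4360, e3 q4361 L56225 q4361, e3 q4362 L56233 q4362, e3 q4363 L56242 q4363, e3 q4364 L56252 q3408, e3 q4365 L56262 q3409, e3 q4366 (flp_a L81155) q5480, e3 q4367 (flp_a L81165) q5481, e3 q4368 (flp_a L81174) q5482, e3 q4369 (flp_a L81185) q5483, e3 q4370 L56306 q4370, e3 q4371 L56314 q4371, e3 q4372 L56320 q4372, e3 q4373 L56328 q4373, e3 q4374 L56337 q4374, e3 q4375 L56347 q3415, e3 q4376 (flp_a L81293) q5496, e3 q4377 (flp_a L81302) q5497, e3 q4378 L56375 q4378, e3 q4379 L56382 q4379, e3 q4380 L56391 q4380, e3 q4381 L56402 q4381, e3 q4382 L56413 q3420, e3 q4383 L56424 q3421, e3 q4384 (flp_a L81392) q5507, e3 q4385 (flp_a L81403) q5508, e3 q4386 (flp_a L81412) q5509, e3 q4387 (flp_a L81421) q5510, e3 q4388 L56468 q4388, e3 q4389 L56476 q4389, e3 q4390 L56485 q4390, e3 q4391 L56490 q4391,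 e3 q4392 L56499 q4392, e3 q4393 L56509 q3428, e3 q4394 L56518 q3429, e3 q4395 L56525 q3430, e3 q4396 L56535 q3431, e3 q4397 (flp_a L81538) q5524, e3 q4398 (flp_a L81545) q5525, e3 q4399 (flp_a L81555) q5526, e3 q4400 (flp_a L81563) q5527, e3 q4401 (flp_a L81572) q5528, e3 q4402 (flp_a L81580) q5529, e3 q4403 (flp_a L81590) q5530, e3 q4404 L56598 q4404, e3 q4405 L56604 q4405, e3 q4406 L56611 q4406, e3 q4407 L56618 q4407, e3 q4408 L56626 q4408, e3 q4409 L56632 q3438, e3 q4410 L56640 q3439, e3 q4411 (flp_a L81723) q5548, e3 q4412 (flp_a L81731) q5549, e3 q4413 (flp_a L81740) q5550, e3 q4414 (flp_a L81749) q5551, e3 q4415 L56685 q4415, trivial⟩ (by decide +kernel)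

theorem ce_a_69 : ∀ r, r < 64 → sm ga (Qf (4416 + r)) = Qf (tab Gen.a (4416 + r)) :=
  edges_tab (sm ga) Qf (tab Gen.a) 4416 [(4416, 4416), (4417, 4417), (4418, 4418), (4419, 4419), (4420, 3446), (4421, 3447), (4422, 3448), (4423, 3449), (4424, 5565), (4425, 5566), (4426, 5567), (4427, 5568), (4428, 5569), (4429, 5570), (4430, 5571), (4431, 4431), (4432, 4432), (4433, 4433), (4434, 4434), (4435, 4435), (4436, 5437), (4437, 3459), (4438, 3460), (4439, 3461), (4440, 3462), (4441, 3463), (4442, 3464), (4443, 3465), (4444, 5591), (4445, 5592), (4446, 5593), (4447, 5594), (4448, 5595), (4449, 5596), (4450, 5597), (4451, 5598), (4452, 5599), (4453, 5600), (4454, 4454), (4455, 4455), (4456, 4456), (4457, 4457), (4458, 4458), (4459, 4459), (4460, 4460), (4461, 4217), (4462, 4462), (4463, 4463), (4464, 4464), (4465, 3477), (4466, 4045), (4467, 4047), (4468, 5628), (4469, 4469), (4470, 4470), (4471, 4471), (4472, 4472), (4473, 3485), (4474, 3486), (4475, 3488), (4476, 3702), (4477, 3704), (4478, 5636), (4479, 3699)]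
    ⟨e3 q4416 L56694 q4416, e3 q4417 L56701 q4417, e3 q4418 L56710 q4418, e3 q4419 L56719 q4419, e3 q4420 L56730 q3446, e3 q4421 L56740 q3447, e3 q4422 L56750 q3448, e3 q4423 L56758 q3449, e3 q4424 (flp_a L81872) q5565, e3 q4425 (flp_a L81882) q5566, e3 q4426 (flp_a L81891) q5567, e3 q4427 (flp_a L81903) q5568, e3 q4428 (flp_a L81912) q5569, e3 q4429 (flp_a L81920) q5570, e3 q4430 (flp_a L81930) q5571, e3 q4431 L56828 q4431, e3 q4432 L56837 q4432, e3 q4433 L56845 q4433, e3 q4434 L56853 q4434, e3 q4435 L56858 q4435, e3 q4436 (flp_a L80779) q5437, e3 q4437 L56873 q3459, e3 q4438 L56881 q3460, e3 q4439 L56890 q3461, e3 q4440 L56900 q3462, e3 q4441 L56907 q3463, e3 q4442 L56916 q3464, e3 q4443 L56925 q3465, e3 q4444 (flp_a L82092) q5591, e3 q4445 (flp_a L82101) q5592, e3 q4446 (flp_a L82108) q5593, e3 q4447 (flp_a L82117) q5594, e3 q4448 (flp_a L82124) q5595, e3 q4449 (flp_a L82133) q5596, e3 q4450 (flp_a L82142) q5597, e3 q4451 (flp_a L82152) q5598, e3 q4452 (flp_a L82160) q5599, e3 q4453 (flp_a L82168) q5600, e3 q4454 L57005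 q4454, e3 q4455 L57012 q4455, e3 q4456 L57020 q4456, e3 q4457 L57027 q4457, e3 q4458 L57036 q4458, e3 q4459 L57044 q4459, e3 q4460 L57051 q4460, e3 q4461 (flp_a L560964) q4217, e3 q4462 L57110 q4462, e3 q4463 L57119 q4463, e3 q4464 L57147 q4464, e3 q4465 L57185 q3477, e3 q4466 L543936 q4045, e3 q4467 L543917 q4047, e3 q4468 (flp_a L82569) q5628, e3 q4469 L57253 q4469, e3 q4470 L57259 q4470, e3 q4471 L57266 q4471, e3 q4472 L57274 q4472, e3 q4473 L57322 q3485, e3 q4474 L57332 q3486, e3 q4475 L57361 q3488, e3 q4476 (flp_a L562802) q3702, e3 q4477 (flp_a L562812) q3704, e3 q4478 (flp_a L82781) q5636, e3 q4479 (flp_a L562604) q3699, trivial⟩ (by decide +kernel)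

theorem ce_a_70 : ∀ r, r < 64 → sm ga (Qf (4480 + r)) = Qf (tab Gen.a (4480 + r)) :=
  edges_tab (sm ga) Qf (tab Gen.a) 4480 [(4480, 5637), (4481, 3700), (4482, 4482), (4483, 4483), (4484, 4484), (4485, 4485), (4486, 4486), (4487, 4487), (4488, 4488), (4489, 3499), (4490, 3500), (4491, 3502), (4492, 3503), (4493, 3504), (4494, 3505), (4495, 5654), (4496, 5655), (4497, 3727), (4498, 5656), (4499, 3729), (4500, 5657), (4501, 5658), (4502, 5659), (4503, 5660), (4504, 3720), (4505, 5661), (4506, 3722), (4507, 4507), (4508, 4508), (4509, 4509), (4510, 4510), (4511, 4511), (4512, 4512), (4513, 4513), (4514, 4514), (4515, 4515), (4516, 4516), (4517, 4517), (4518, 4518), (4519, 4113), (4520, 4520), (4521, 4521), (4522, 3519), (4523, 5697), (4524, 4524), (4525, 4525), (4526, 4526), (4527, 4527), (4528, 4528), (4529, 4529), (4530, 4530), (4531, 4112), (4532, 4532), (4533, 4533), (4534, 4534), (4535, 3529), (4536, 5714), (4537, 5715), (4538, 4538), (4539, 4539), (4540, 4540), (4541, 4541), (4542, 4542), (4543, 4543)]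
    ⟨e3 q4480 (flp_a L82800) q5637, e3 q4481 L536596 q3700, e3 q4482 L57458 q4482, e3 q4483 L57467 q4483, e3 q4484 L57476 q4484, e3 q4485 L57484 q4485, e3 q4486 L57490 q4486, e3 q4487 L57501 q4487, e3 q4488 L57509 q4488, e3 q4489 L57536 q3499, e3 q4490 L57545 q3500, e3 q4491 L57581 q3502, e3 q4492 L57588 q3503, e3 q4493 L57598 q3504, e3 q4494 L57607 q3505, e3 q4495 (flp_a L83080) q5654, e3 q4496 (flp_a L83088) q5655, e3 q4497 L562755 q3727, e3 q4498 (flp_a L83107) q5656, e3 q4499 (flp_a L562762) q3729, e3 q4500 (flp_a L83153) q5657, e3 q4501 (flp_a L83161) q5658, e3 q4502 (flp_a L83169) q5659, e3 q4503 (flp_a L83178) q5660, e3 q4504 L562720 q3720, e3 q4505 (flp_a L83197) q5661, e3 q4506 L563300 q3722, e3 q4507 L57746 q4507, e3 q4508 L57753 q4508, e3 q4509 L57762 q4509, e3 q4510 L57771 q4510, e3 q4511 L57777 q4511, e3 q4512 L57785 q4512, e3 q4513 L57793 q4513, e3 q4514 L57802 q4514, e3 q4515 L57811 q4515, e3 q4516 L57823 q4516, e3 q4517 L57833 q4517, e3 q4518 L57844 q4518, e3 q4519 (flp_a L594266) q4113, e3 q4520 L57865 q4520,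 e3 q4521 L57875 q4521, e3 q4522 (flp_a L57883) q3519, e3 q4523 (flp_a L83588) q5697, e3 q4524 L57905 q4524, e3 q4525 L57912 q4525, e3 q4526 L57920 q4526, e3 q4527 L57930 q4527, e3 q4528 L57939 q4528, e3 q4529 L57962 q4529, e3 q4530 L57972 q4530, e3 q4531 (flp_a L593778) q4112, e3 q4532 L58005 q4532, e3 q4533 L58013 q4533, e3 q4534 L58024 q4534, e3 q4535 L58034 q3529, e3 q4536 (flp_a L83802) q5714, e3 q4537 (flp_a L83809) q5715, e3 q4538 L58061 q4538, e3 q4539 L58069 q4539, e3 q4540 L58076 q4540, e3 q4541 L58084 q4541, e3 q4542 L58104 q4542, e3 q4543 L58112 q4543, trivial⟩ (by decide +kernel)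

theorem ce_a_71 : ∀ r, r < 64 → sm ga (Qf (4544 + r)) = Qf (tab Gen.a (4544 + r)) :=
  edges_tab (sm ga) Qf (tab Gen.a) 4544 [(4544, 4544), (4545, 4545), (4546, 4546), (4547, 4123), (4548, 4090), (4549, 4549), (4550, 4550), (4551, 4551), (4552, 4552), (4553, 3542), (4554, 3543), (4555, 5376), (4556, 5741), (4557, 5374), (4558, 5742), (4559, 4559), (4560, 4560), (4561, 4561), (4562, 4562), (4563, 4563), (4564, 4564), (4565, 4565), (4566, 4566), (4567, 4077), (4568, 4076), (4569, 4569), (4570, 4570), (4571, 4571), (4572, 4572), (4573, 3555), (4574, 3556), (4575, 5767), (4576, 5768), (4577, 5769), (4578, 5770), (4579, 4579), (4580, 4580), (4581, 4581), (4582, 4582), (4583, 4583), (4584, 4584), (4585, 4585), (4586, 4586), (4587, 4587), (4588, 3995), (4589, 4093), (4590, 3764), (4591, 4092), (4592, 4592), (4593, 4593), (4594, 4594), (4595, 4595), (4596, 4596), (4597, 3572), (4598, 3573), (4599, 3574), (4600, 3575), (4601, 5801), (4602, 5802), (4603, 5803), (4604, 5804), (4605, 5805), (4606, 5806), (4607, 5807)]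
    ⟨e3 q4544 L58144 q4544, e3 q4545 L58150 q4545, e3 q4546 L58160 q4546, e3 q4547 (flp_a L593784) q4123, e3 q4548 (flp_a L593836) q4090, e3 q4549 L58198 q4549, e3 q4550 L58206 q4550, e3 q4551 L58211 q4551, e3 q4552 L58221 q4552, e3 q4553 L58232 q3542, e3 q4554 L58238 q3543, e3 q4555 (flp_a L644648) q5376, e3 q4556 (flp_a L84100) q5741, e3 q4557 L641711 q5374, e3 q4558 (flp_a L84114) q5742, e3 q4559 L58276 q4559, e3 q4560 L58282 q4560, e3 q4561 L58289 q4561, e3 q4562 L58296 q4562, e3 q4563 L58302 q4563, e3 q4564 L58335 q4564, e3 q4565 L58344 q4565, e3 q4566 L58354 q4566, e3 q4567 L592241 q4077, e3 q4568 L593554 q4076, e3 q4569 L58395 q4569, e3 q4570 L58406 q4570, e3 q4571 L58414 q4571, e3 q4572 L58422 q4572, e3 q4573 L58434 q3555, e3 q4574 L58442 q3556, e3 q4575 (flp_a L84389) q5767, e3 q4576 (flp_a L84398) q5768, e3 q4577 (flp_a L84407) q5769, e3 q4578 (flp_a L84416) q5770, e3 q4579 L58485 q4579, e3 q4580 L58492 q4580, e3 q4581 L58500 q4581, e3 q4582 L58510 q4582, e3 q4583 L58519 q4583, e3 q4584 L58557 q4584, e3 q4585 L58564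 q4585, e3 q4586 L58573 q4586, e3 q4587 L58583 q4587, e3 q4588 L592247 q3995, e3 q4589 (flp_a L593519) q4093, e3 q4590 (flp_a L592237) q3764, e3 q4591 (flp_a L593512) q4092, e3 q4592 L58646 q4592, e3 q4593 L58653 q4593, e3 q4594 L58664 q4594, e3 q4595 L58671 q4595, e3 q4596 L58680 q4596, e3 q4597 L58689 q3572, e3 q4598 L58697 q3573, e3 q4599 L58704 q3574, e3 q4600 L58712 q3575, e3 q4601 (flp_a L84776) q5801, e3 q4602 (flp_a L84784) q5802, e3 q4603 (flp_a L84792) q5803, e3 q4604 (flp_a L84797) q5804, e3 q4605 (flp_a L84806) q5805, e3 q4606 (flp_a L84814) q5806, e3 q4607 (flp_a L84822) q5807, trivial⟩ (by decide +kernel)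

theorem ce_a_72 : ∀ r, r < 64 → sm ga (Qf (4608 + r)) = Qf (tab Gen.a (4608 + r)) :=
  edges_tab (sm ga) Qf (tab Gen.a) 4608 [(4608, 4608), (4609, 4609), (4610, 4610), (4611, 4611), (4612, 4612), (4613, 4613), (4614, 4614), (4615, 4615), (4616, 4616), (4617, 4617), (4618, 4029), (4619, 3682), (4620, 4105), (4621, 4104), (4622, 3791), (4623, 3794), (4624, 4103), (4625, 4625), (4626, 4626), (4627, 4627), (4628, 4628), (4629, 4629), (4630, 3671), (4631, 3598), (4632, 3599), (4633, 3600), (4634, 3601), (4635, 3602), (4636, 3603), (4637, 3604), (4638, 5848), (4639, 5849), (4640, 5850), (4641, 5851), (4642, 5852), (4643, 5853), (4644, 5854), (4645, 5855), (4646, 5856), (4647, 5857), (4648, 4648), (4649, 4649), (4650, 4650), (4651, 4651), (4652, 4652), (4653, 4653), (4654, 4654), (4655, 3611), (4656, 3612), (4657, 5882), (4658, 5883), (4659, 5884), (4660, 5885), (4661, 4661), (4662, 4662), (4663, 4663), (4664, 4664), (4665, 4665), (4666, 3619), (4667, 3620), (4668, 3621), (4669, 3622), (4670, 5899), (4671, 5900)]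
    ⟨e3 q4608 L58773 q4608, e3 q4609 L58780 q4609, e3 q4610 L58787 q4610, e3 q4611 L58796 q4611, e3 q4612 L58806 q4612, e3 q4613 L58868 q4613, e3 q4614 L58876 q4614, e3 q4615 L58883 q4615, e3 q4616 L58892 q4616, e3 q4617 L58901 q4617, e3 q4618 L575810 q4029, e3 q4619 L575528 q3682, e3 q4620 L575825 q4105, e3 q4621 (flp_a L592423) q4104, e3 q4622 (flp_a L592383) q3791, e3 q4623 L592328 q3794, e3 q4624 L593466 q4103, e3 q4625 L59004 q4625, e3 q4626 L59014 q4626, e3 q4627 L59022 q4627, e3 q4628 L59032 q4628, e3 q4629 L59039 q4629, e3 q4630 L59052 q3671, e3 q4631 L59057 q3598, e3 q4632 L59066 q3599, e3 q4633 L59073 q3600, e3 q4634 L59080 q3601, e3 q4635 L59087 q3602, e3 q4636 L59096 q3603, e3 q4637 L59103 q3604, e3 q4638 (flp_a L85338) q5848, e3 q4639 (flp_a L85345) q5849, e3 q4640 (flp_a L85353) q5850, e3 q4641 (flp_a L85362) q5851, e3 q4642 (flp_a L85370) q5852, e3 q4643 (flp_a L85377) q5853, e3 q4644 (flp_a L85385) q5854, e3 q4645 (flp_a L85393) q5855, e3 q4646 (flp_a L85401) q5856, e3 q4647 (flp_a L85409) q5857, e3 q4648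 L59188 q4648, e3 q4649 L59194 q4649, e3 q4650 L59203 q4650, e3 q4651 L59212 q4651, e3 q4652 L59218 q4652, e3 q4653 L59226 q4653, e3 q4654 L59235 q4654, e3 q4655 L59243 q3611, e3 q4656 L59253 q3612, e3 q4657 (flp_a L85610) q5882, e3 q4658 (flp_a L85621) q5883, e3 q4659 (flp_a L85632) q5884, e3 q4660 (flp_a L85641) q5885, e3 q4661 L59304 q4661, e3 q4662 L59312 q4662, e3 q4663 L59320 q4663, e3 q4664 L59328 q4664, e3 q4665 L59337 q4665, e3 q4666 L59349 q3619, e3 q4667 L59358 q3620, e3 q4668 L59367 q3621, e3 q4669 L59377 q3622, e3 q4670 (flp_a L85770) q5899, e3 q4671 (flp_a L85780) q5900, trivial⟩ (by decide +kernel)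

theorem ce_a_73 : ∀ r, r < 64 → sm ga (Qf (4672 + r)) = Qf (tab Gen.a (4672 + r)) :=
  edges_tab (sm ga) Qf (tab Gen.a) 4672 [(4672, 5901), (4673, 5902), (4674, 5903), (4675, 5904), (4676, 5905), (4677, 4677), (4678, 4678), (4679, 4679), (4680, 4680), (4681, 4681), (4682, 3630), (4683, 3631), (4684, 3632), (4685, 3633), (4686, 5924), (4687, 5925), (4688, 5926), (4689, 5927), (4690, 5928), (4691, 5929), (4692, 5930), (4693, 4693), (4694, 4694), (4695, 4695), (4696, 4696), (4697, 4697), (4698, 5800), (4699, 3643), (4700, 3644), (4701, 3645), (4702, 3646), (4703, 3647), (4704, 3648), (4705, 3649), (4706, 5949), (4707, 5950), (4708, 5951), (4709, 5789), (4710, 5952), (4711, 5953), (4712, 5954), (4713, 5955), (4714, 5956), (4715, 5957), (4716, 4716), (4717, 4717), (4718, 4718), (4719, 4719), (4720, 4720), (4721, 4721), (4722, 4722), (4723, 3940), (4724, 3659), (4725, 3660), (4726, 3661), (4727, 3662), (4728, 3663), (4729, 3664), (4730, 3665), (4731, 5983), (4732, 5984), (4733, 5985), (4734, 5847), (4735, 5986)]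
    ⟨e3 q4672 (flp_a L85789) q5901, e3 q4673 (flp_a L85797) q5902, e3 q4674 (flp_a L85805) q5903, e3 q4675 (flp_a L85816) q5904, e3 q4676 (flp_a L85826) q5905, e3 q4677 L59448 q4677, e3 q4678 L59454 q4678, e3 q4679 L59461 q4679, e3 q4680 L59469 q4680, e3 q4681 L59477 q4681, e3 q4682 L59486 q3630, e3 q4683 L59496 q3631, e3 q4684 L59505 q3632, e3 q4685 L59513 q3633, e3 q4686 (flp_a L85981) q5924, e3 q4687 (flp_a L85991) q5925, e3 q4688 (flp_a L85999) q5926, e3 q4689 (flp_a L86007) q5927, e3 q4690 (flp_a L86018) q5928, e3 q4691 (flp_a L86026) q5929, e3 q4692 (flp_a L86036) q5930, e3 q4693 L59585 q4693, e3 q4694 L59593 q4694, e3 q4695 L59598 q4695, e3 q4696 L59607 q4696, e3 q4697 L59615 q4697, e3 q4698 (flp_a L84771) q5800, e3 q4699 L59630 q3643, e3 q4700 L59638 q3644, e3 q4701 L59646 q3645, e3 q4702 L59652 q3646, e3 q4703 L59661 q3647, e3 q4704 L59670 q3648, e3 q4705 L59679 q3649, e3 q4706 (flp_a L86196) q5949, e3 q4707 (flp_a L86202) q5950, e3 q4708 (flp_a L86212) q5951, e3 q4709 (flp_a L592227) q5789, e3 q4710 (flp_a L86230)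 q5952, e3 q4711 (flp_a L86238) q5953, e3 q4712 (flp_a L86246) q5954, e3 q4713 (flp_a L86253) q5955, e3 q4714 (flp_a L86262) q5956, e3 q4715 (flp_a L86273) q5957, e3 q4716 L59762 q4716, e3 q4717 L59768 q4717, e3 q4718 L59774 q4718, e3 q4719 L59781 q4719, e3 q4720 L59787 q4720, e3 q4721 L59792 q4721, e3 q4722 L59801 q4722, e3 q4723 L576275 q3940, e3 q4724 L59818 q3659, e3 q4725 L59829 q3660, e3 q4726 L59836 q3661, e3 q4727 L59846 q3662, e3 q4728 L59855 q3663, e3 q4729 L59864 q3664, e3 q4730 L59873 q3665, e3 q4731 (flp_a L86475) q5983, e3 q4732 (flp_a L86484) q5984, e3 q4733 (flp_a L86494) q5985, e3 q4734 L553606 q5847, e3 q4735 (flp_a L86511) q5986, trivial⟩ (by decide +kernel)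

theorem ce_a_74 : ∀ r, r < 64 → sm ga (Qf (4736 + r)) = Qf (tab Gen.a (4736 + r)) :=
  edges_tab (sm ga) Qf (tab Gen.a) 4736 [(4736, 5987), (4737, 5988), (4738, 5989), (4739, 5990), (4740, 5991), (4741, 4741), (4742, 4742), (4743, 4743), (4744, 4744), (4745, 4745), (4746, 4746), (4747, 4747), (4748, 5846), (4749, 3679), (4750, 3680), (4751, 3681), (4752, 3683), (4753, 3684), (4754, 3685), (4755, 3686), (4756, 3687), (4757, 3688), (4758, 6017), (4759, 6018), (4760, 6019), (4761, 6020), (4762, 6021), (4763, 5832), (4764, 6022), (4765, 5426), (4766, 5833), (4767, 6023), (4768, 6024), (4769, 6025), (4770, 6026), (4771, 6027), (4772, 6028), (4773, 6029), (4774, 4774), (4775, 4775), (4776, 4776), (4777, 4777), (4778, 4778), (4779, 4779), (4780, 4780), (4781, 4781), (4782, 3701), (4783, 3703), (4784, 5644), (4785, 5643), (4786, 5645), (4787, 6063), (4788, 6064), (4789, 5639), (4790, 5638), (4791, 5640), (4792, 4792), (4793, 4793), (4794, 4794), (4795, 4795), (4796, 4796), (4797, 4797), (4798, 4798), (4799, 4799)]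
    ⟨e3 q4736 (flp_a L86520) q5987, e3 q4737 (flp_a L86531) q5988, e3 q4738 (flp_a L86539) q5989, e3 q4739 (flp_a L86549) q5990, e3 q4740 (flp_a L86557) q5991, e3 q4741 L59964 q4741, e3 q4742 L59971 q4742, e3 q4743 L59981 q4743, e3 q4744 L59988 q4744, e3 q4745 L59995 q4745, e3 q4746 L60003 q4746, e3 q4747 L60010 q4747, e3 q4748 (flp_a L85320) q5846, e3 q4749 L60032 q3679, e3 q4750 L60039 q3680, e3 q4751 L60047 q3681, e3 q4752 L60065 q3683, e3 q4753 L60072 q3684, e3 q4754 L60081 q3685, e3 q4755 L60089 q3686, e3 q4756 L60097 q3687, e3 q4757 L60106 q3688, e3 q4758 (flp_a L86793) q6017, e3 q4759 (flp_a L86802) q6018, e3 q4760 (flp_a L86810) q6019, e3 q4761 (flp_a L86819) q6020, e3 q4762 (flp_a L86828) q6021, e3 q4763 (flp_a L592373) q5832, e3 q4764 (flp_a L86847) q6022, e3 q4765 L575556 q5426, e3 q4766 (flp_a L575565) q5833, e3 q4767 (flp_a L86874) q6023, e3 q4768 (flp_a L86881) q6024, e3 q4769 (flp_a L86891) q6025, e3 q4770 (flp_a L86900) q6026, e3 q4771 (flp_a L86910) q6027, e3 q4772 (flp_a L86918) q6028, e3 q4773 (flp_a L86928)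 q6029, e3 q4774 L60235 q4774, e3 q4775 L60242 q4775, e3 q4776 L60247 q4776, e3 q4777 L60255 q4777, e3 q4778 L60264 q4778, e3 q4779 L60271 q4779, e3 q4780 L60279 q4780, e3 q4781 L60287 q4781, e3 q4782 L60362 q3701, e3 q4783 L60379 q3703, e3 q4784 (flp_a L562587) q5644, e3 q4785 L562856 q5643, e3 q4786 (flp_a L563238) q5645, e3 q4787 (flp_a L87326) q6063, e3 q4788 (flp_a L87334) q6064, e3 q4789 (flp_a L562834) q5639, e3 q4790 L562034 q5638, e3 q4791 L563557 q5640, e3 q4792 L60548 q4792, e3 q4793 L60557 q4793, e3 q4794 L60564 q4794, e3 q4795 L60573 q4795, e3 q4796 L60579 q4796, e3 q4797 L60589 q4797, e3 q4798 L60595 q4798, e3 q4799 L60602 q4799, trivial⟩ (by decide +kernel)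

theorem ce_a_75 : ∀ r, r < 64 → sm ga (Qf (4800 + r)) = Qf (tab Gen.a (4800 + r)) :=
  edges_tab (sm ga) Qf (tab Gen.a) 4800 [(4800, 3718), (4801, 3719), (4802, 3721), (4803, 3723), (4804, 3724), (4805, 3725), (4806, 3726), (4807, 3728), (4808, 6085), (4809, 6086), (4810, 6087), (4811, 6088), (4812, 5673), (4813, 5675), (4814, 5676), (4815, 6089), (4816, 6090), (4817, 6091), (4818, 6092), (4819, 5666), (4820, 6093), (4821, 5667), (4822, 5668), (4823, 4823), (4824, 4824), (4825, 4825), (4826, 4826), (4827, 4827), (4828, 4828), (4829, 4829), (4830, 4830), (4831, 6126), (4832, 4832), (4833, 4833), (4834, 3742), (4835, 3743), (4836, 3744), (4837, 3745), (4838, 3746), (4839, 3747), (4840, 3748), (4841, 6129), (4842, 6130), (4843, 6131), (4844, 5760), (4845, 6132), (4846, 6133), (4847, 6134), (4848, 6135), (4849, 6136), (4850, 6137), (4851, 4851), (4852, 4852), (4853, 4853), (4854, 4854), (4855, 4855), (4856, 4856), (4857, 4857), (4858, 3761), (4859, 3762), (4860, 3763), (4861, 3765), (4862, 3766), (4863, 3767)]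
    ⟨e3 q4800 L60648 q3718, e3 q4801 L60655 q3719, e3 q4802 L60672 q3721, e3 q4803 L60702 q3723, e3 q4804 L60708 q3724, e3 q4805 L60716 q3725, e3 q4806 L60725 q3726, e3 q4807 L60741 q3728, e3 q4808 (flp_a L87712) q6085, e3 q4809 (flp_a L87720) q6086, e3 q4810 (flp_a L87727) q6087, e3 q4811 (flp_a L87734) q6088, e3 q4812 L562513 q5673, e3 q4813 L546630 q5675, e3 q4814 (flp_a L524254) q5676, e3 q4815 (flp_a L87789) q6089, e3 q4816 (flp_a L87797) q6090, e3 q4817 (flp_a L87805) q6091, e3 q4818 (flp_a L87815) q6092, e3 q4819 (flp_a L562779) q5666, e3 q4820 (flp_a L87833) q6093, e3 q4821 L562738 q5667, e3 q4822 (flp_a L546006) q5668, e3 q4823 L60893 q4823, e3 q4824 L60899 q4824, e3 q4825 L60908 q4825, e3 q4826 L60913 q4826, e3 q4827 L60920 q4827, e3 q4828 L60928 q4828, e3 q4829 L60937 q4829, e3 q4830 L60945 q4830, e3 q4831 L88125 q6126, e3 q4832 L60960 q4832, e3 q4833 L60969 q4833, e3 q4834 L60986 q3742, e3 q4835 L60997 q3743, e3 q4836 L61007 q3744, e3 q4837 L61017 q3745, e3 q4838 L61026 q3746, e3 q4839 L61035 q3747, e3 q4840 L61045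 q3748, e3 q4841 (flp_a L88171) q6129, e3 q4842 (flp_a L88181) q6130, e3 q4843 (flp_a L88191) q6131, e3 q4844 (flp_a L592201) q5760, e3 q4845 (flp_a L88210) q6132, e3 q4846 (flp_a L88221) q6133, e3 q4847 (flp_a L88230) q6134, e3 q4848 (flp_a L88240) q6135, e3 q4849 (flp_a L88251) q6136, e3 q4850 (flp_a L88259) q6137, e3 q4851 L61145 q4851, e3 q4852 L61153 q4852, e3 q4853 L61163 q4853, e3 q4854 L61171 q4854, e3 q4855 L61178 q4855, e3 q4856 L61188 q4856, e3 q4857 L61197 q4857, e3 q4858 L61223 q3761, e3 q4859 L61231 q3762, e3 q4860 L61242 q3763, e3 q4861 L61258 q3765, e3 q4862 L61268 q3766, e3 q4863 L61277 q3767, trivial⟩ (by decide +kernel)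

theorem ce_a_76 : ∀ r, r < 64 → sm ga (Qf (4864 + r)) = Qf (tab Gen.a (4864 + r)) :=
  edges_tab (sm ga) Qf (tab Gen.a) 4864 [(4864, 3768), (4865, 3769), (4866, 3770), (4867, 6162), (4868, 6163), (4869, 6164), (4870, 6165), (4871, 6166), (4872, 5792), (4873, 6167), (4874, 5402), (4875, 5793), (4876, 6168), (4877, 6169), (4878, 6170), (4879, 6171), (4880, 6172), (4881, 6173), (4882, 6174), (4883, 4883), (4884, 4884), (4885, 4885), (4886, 4886), (4887, 4887), (4888, 4888), (4889, 4889), (4890, 4890), (4891, 3787), (4892, 3788), (4893, 3789), (4894, 3790), (4895, 3792), (4896, 3795), (4897, 3796), (4898, 3797), (4899, 3798), (4900, 3799), (4901, 3800), (4902, 3801), (4903, 6208), (4904, 6209), (4905, 6210), (4906, 6211), (4907, 6212), (4908, 6213), (4909, 5837), (4910, 6214), (4911, 5835), (4912, 5838), (4913, 5429), (4914, 5430), (4915, 6215), (4916, 6216), (4917, 6217), (4918, 6218), (4919, 6219), (4920, 6220), (4921, 6221), (4922, 6222), (4923, 4923), (4924, 4924), (4925, 4925), (4926, 4926), (4927, 4927)]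
    ⟨e3 q4864 L61285 q3768, e3 q4865 L61295 q3769, e3 q4866 L61304 q3770, e3 q4867 (flp_a L88527) q6162, e3 q4868 (flp_a L88536) q6163, e3 q4869 (flp_a L88545) q6164, e3 q4870 (flp_a L88554) q6165, e3 q4871 (flp_a L88565) q6166, e3 q4872 (flp_a L592209) q5792, e3 q4873 (flp_a L88583) q6167, e3 q4874 (flp_a L592218) q5402, e3 q4875 L592195 q5793, e3 q4876 (flp_a L88609) q6168, e3 q4877 (flp_a L88619) q6169, e3 q4878 (flp_a L88628) q6170, e3 q4879 (flp_a L88637) q6171, e3 q4880 (flp_a L88644) q6172, e3 q4881 (flp_a L88653) q6173, e3 q4882 (flp_a L88662) q6174, e3 q4883 L61441 q4883, e3 q4884 L61451 q4884, e3 q4885 L61460 q4885, e3 q4886 L61468 q4886, e3 q4887 L61474 q4887, e3 q4888 L61483 q4888, e3 q4889 L61489 q4889, e3 q4890 L61495 q4890, e3 q4891 L61549 q3787, e3 q4892 L61559 q3788, e3 q4893 L61569 q3789, e3 q4894 L61579 q3790, e3 q4895 L61596 q3792, e3 q4896 L61621 q3795, e3 q4897 L61630 q3796, e3 q4898 L61641 q3797, e3 q4899 L61650 q3798, e3 q4900 L61659 q3799, e3 q4901 L61669 q3800, e3 q4902 L61677 q3801, e3 q4903 (flp_a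 L89017) q6208, e3 q4904 (flp_a L89026) q6209, e3 q4905 (flp_a L89037) q6210, e3 q4906 (flp_a L89047) q6211, e3 q4907 (flp_a L89054) q6212, e3 q4908 (flp_a L89065) q6213, e3 q4909 L592401 q5837, e3 q4910 (flp_a L89082) q6214, e3 q4911 (flp_a L592363) q5835, e3 q4912 L592351 q5838, e3 q4913 (flp_a L575049) q5429, e3 q4914 (flp_a L575580) q5430, e3 q4915 (flp_a L89131) q6215, e3 q4916 (flp_a L89141) q6216, e3 q4917 (flp_a L89149) q6217, e3 q4918 (flp_a L89159) q6218, e3 q4919 (flp_a L89168) q6219, e3 q4920 (flp_a L89178) q6220, e3 q4921 (flp_a L89186) q6221, e3 q4922 (flp_a L89195) q6222, e3 q4923 L61850 q4923, e3 q4924 L61859 q4924, e3 q4925 L61867 q4925, e3 q4926 L61875 q4926, e3 q4927 L61883 q4927, trivial⟩ (by decide +kernel)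

theorem ce_a_77 : ∀ r, r < 64 → sm ga (Qf (4928 + r)) = Qf (tab Gen.a (4928 + r)) :=
  edges_tab (sm ga) Qf (tab Gen.a) 4928 [(4928, 4928), (4929, 4929), (4930, 4930), (4931, 6261), (4932, 4932), (4933, 4933), (4934, 3817), (4935, 3818), (4936, 3819), (4937, 3820), (4938, 3821), (4939, 3822), (4940, 3823), (4941, 3824), (4942, 6264), (4943, 6265), (4944, 6266), (4945, 6267), (4946, 6268), (4947, 6269), (4948, 6270), (4949, 6271), (4950, 6284), (4951, 6273), (4952, 6274), (4953, 4953), (4954, 4954), (4955, 4955), (4956, 4956), (4957, 6287), (4958, 4958), (4959, 3833), (4960, 6288), (4961, 4961), (4962, 3836), (4963, 3838), (4964, 4134), (4965, 4135), (4966, 4136), (4967, 4137), (4968, 4138), (4969, 4139), (4970, 4117), (4971, 4140), (4972, 4141), (4973, 4142), (4974, 3850), (4975, 6296), (4976, 6295), (4977, 4144), (4978, 4145), (4979, 4118), (4980, 4079), (4981, 4146), (4982, 4147), (4983, 4148), (4984, 3861), (4985, 3862), (4986, 6303), (4987, 6302), (4988, 6304), (4989, 6301), (4990, 4151), (4991, 4152)]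
    ⟨e3 q4928 L61891 q4928, e3 q4929 L61901 q4929, e3 q4930 L61909 q4930, e3 q4931 L89520 q6261, e3 q4932 L61923 q4932, e3 q4933 L61931 q4933, e3 q4934 L61939 q3817, e3 q4935 L61949 q3818, e3 q4936 L61959 q3819, e3 q4937 L61970 q3820, e3 q4938 L61977 q3821, e3 q4939 L61988 q3822, e3 q4940 L61995 q3823, e3 q4941 L62004 q3824, e3 q4942 (flp_a L89546) q6264, e3 q4943 (flp_a L89556) q6265, e3 q4944 (flp_a L89567) q6266, e3 q4945 (flp_a L89575) q6267, e3 q4946 (flp_a L89586) q6268, e3 q4947 (flp_a L89594) q6269, e3 q4948 (flp_a L89606) q6270, e3 q4949 (flp_a L89613) q6271, e3 q4950 L89729 q6284, e3 q4951 (flp_a L89628) q6273, e3 q4952 (flp_a L89637) q6274, e3 q4953 L62113 q4953, e3 q4954 L62131 q4954, e3 q4955 L62139 q4955, e3 q4956 L62144 q4956, e3 q4957 L89854 q6287, e3 q4958 L62183 q4958, e3 q4959 (flp_a L62187) q3833, e3 q4960 (flp_a L89878) q6288, e3 q4961 L62204 q4961, e3 q4962 (flp_a L62323) q3836, e3 q4963 L62350 q3838, e3 q4964 L62375 q4134, e3 q4965 L62385 q4135, e3 q4966 L62396 q4136, e3 q4967 L62473 q4137, e3 q4968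 L62492 q4138, e3 q4969 L62524 q4139, e3 q4970 (flp_a L594260) q4117, e3 q4971 L62553 q4140, e3 q4972 L62564 q4141, e3 q4973 L62574 q4142, e3 q4974 L62584 q3850, e3 q4975 L625445 q6296, e3 q4976 (flp_a L625397) q6295, e3 q4977 L62738 q4144, e3 q4978 L62789 q4145, e3 q4979 L578240 q4118, e3 q4980 (flp_a L594013) q4079, e3 q4981 L62827 q4146, e3 q4982 L62846 q4147, e3 q4983 L62856 q4148, e3 q4984 L62867 q3861, e3 q4985 L62876 q3862, e3 q4986 (flp_a L90833) q6303, e3 q4987 L625454 q6302, e3 q4988 (flp_a L90850) q6304, e3 q4989 L626921 q6301, e3 q4990 L63096 q4151, e3 q4991 L63157 q4152, trivial⟩ (by decide +kernel)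

theorem ce_a_78 : ∀ r, r < 64 → sm ga (Qf (4992 + r)) = Qf (tab Gen.a (4992 + r)) :=
  edges_tab (sm ga) Qf (tab Gen.a) 4992 [(4992, 4126), (4993, 4097), (4994, 4096), (4995, 4153), (4996, 4154), (4997, 4155), (4998, 3876), (4999, 3877), (5000, 3878), (5001, 3879), (5002, 6312), (5003, 5307), (5004, 6313), (5005, 6311), (5006, 6314), (5007, 6310), (5008, 4159), (5009, 3968), (5010, 3971), (5011, 4081), (5012, 4160), (5013, 4161), (5014, 4157), (5015, 3892), (5016, 3893), (5017, 3894), (5018, 3895), (5019, 6322), (5020, 6323), (5021, 6320), (5022, 6319), (5023, 6324), (5024, 3957), (5025, 6309), (5026, 4162), (5027, 3994), (5028, 3997), (5029, 3999), (5030, 4098), (5031, 4164), (5032, 4165), (5033, 3978), (5034, 3912), (5035, 3913), (5036, 3914), (5037, 3915), (5038, 3916), (5039, 3918), (5040, 6335), (5041, 6336), (5042, 6337), (5043, 5923), (5044, 6333), (5045, 6338), (5046, 6332), (5047, 6339), (5048, 3981), (5049, 4166), (5050, 4167), (5051, 4026), (5052, 4028), (5053, 4033), (5054, 4034), (5055, 4170)]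
    ⟨e3 q4992 L578183 q4126, e3 q4993 (flp_a L593831) q4097, e3 q4994 (flp_a L593912) q4096, e3 q4995 L63217 q4153, e3 q4996 L63227 q4154, e3 q4997 L63253 q4155, e3 q4998 L63264 q3876, e3 q4999 L63270 q3877, e3 q5000 L63278 q3878, e3 q5001 L63287 q3879, e3 q5002 (flp_a L91419) q6312, e3 q5003 (flp_a L639992) q5307, e3 q5004 (flp_a L91433) q6313, e3 q5005 L625313 q6311, e3 q5006 (flp_a L91451) q6314, e3 q5007 (flp_a L625341) q6310, e3 q5008 L63498 q4159, e3 q5009 (flp_a L591277) q3968, e3 q5010 (flp_a L591290) q3971, e3 q5011 L594060 q4081, e3 q5012 L63566 q4160, e3 q5013 L63577 q4161, e3 q5014 L626852 q4157, e3 q5015 L63621 q3892, e3 q5016 L63629 q3893, e3 q5017 L63639 q3894, e3 q5018 L63650 q3895, e3 q5019 (flp_a L91956) q6322, e3 q5020 (flp_a L91964) q6323, e3 q5021 (flp_a L622684) q6320, e3 q5022 L623324 q6319, e3 q5023 (flp_a L91992) q6324, e3 q5024 (flp_a L591144) q3957, e3 q5025 (flp_a L625353) q6309, e3 q5026 (flp_a L600631) q4162, e3 q5027 L591330 q3994, e3 q5028 (flp_a L577750) q3997, e3 q5029 (flp_a L580481) q3999,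 e3 q5030 (flp_a L593920) q4098, e3 q5031 L64021 q4164, e3 q5032 L64040 q4165, e3 q5033 L591134 q3978, e3 q5034 L64081 q3912, e3 q5035 L64087 q3913, e3 q5036 L64096 q3914, e3 q5037 L64103 q3915, e3 q5038 L64113 q3916, e3 q5039 L64132 q3918, e3 q5040 (flp_a L92666) q6335, e3 q5041 (flp_a L92673) q6336, e3 q5042 (flp_a L92681) q6337, e3 q5043 L576300 q5923, e3 q5044 L625061 q6333, e3 q5045 (flp_a L92713) q6338, e3 q5046 (flp_a L625045) q6332, e3 q5047 (flp_a L92732) q6339, e3 q5048 L577641 q3981, e3 q5049 L599382 q4166, e3 q5050 (flp_a L600497) q4167, e3 q5051 (flp_a L551463) q4026, e3 q5052 (flp_a L580511) q4028, e3 q5053 (flp_a L580491) q4033, e3 q5054 L580532 q4034, e3 q5055 L64675 q4170, trivial⟩ (by decide +kernel)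

theorem ce_a_79 : ∀ r, r < 64 → sm ga (Qf (5056 + r)) = Qf (tab Gen.a (5056 + r)) :=
  edges_tab (sm ga) Qf (tab Gen.a) 5056 [(5056, 4171), (5057, 4008), (5058, 3937), (5059, 3938), (5060, 3939), (5061, 3941), (5062, 3942), (5063, 3943), (5064, 3944), (5065, 6356), (5066, 6357), (5067, 6358), (5068, 6359), (5069, 6360), (5070, 5982), (5071, 5564), (5072, 6353), (5073, 6352), (5074, 6361), (5075, 6362), (5076, 4010), (5077, 6363), (5078, 4012), (5079, 4173), (5080, 4172), (5081, 4174), (5082, 3955), (5083, 3956), (5084, 3958), (5085, 6378), (5086, 6321), (5087, 6379), (5088, 6380), (5089, 6329), (5090, 6381), (5091, 4181), (5092, 4180), (5093, 4163), (5094, 3967), (5095, 3969), (5096, 3970), (5097, 3972), (5098, 6385), (5099, 6386), (5100, 6318), (5101, 5758), (5102, 3977), (5103, 3979), (5104, 3980), (5105, 3982), (5106, 6390), (5107, 6391), (5108, 6334), (5109, 6392), (5110, 6347), (5111, 6393), (5112, 6348), (5113, 4190), (5114, 4182), (5115, 4168), (5116, 4189), (5117, 4169), (5118, 3992), (5119, 3993)]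
    ⟨e3 q5056 L64685 q4171, e3 q5057 (flp_a L590939) q4008, e3 q5058 L64764 q3937, e3 q5059 L64772 q3938, e3 q5060 L64778 q3939, e3 q5061 L64801 q3941, e3 q5062 L64810 q3942, e3 q5063 L64820 q3943, e3 q5064 L64829 q3944, e3 q5065 (flp_a L93677) q6356, e3 q5066 (flp_a L93684) q6357, e3 q5067 (flp_a L93692) q6358, e3 q5068 (flp_a L93702) q6359, e3 q5069 (flp_a L93709) q6360, e3 q5070 (flp_a L590844) q5982, e3 q5071 L554541 q5564, e3 q5072 (flp_a L624855) q6353, e3 q5073 L624819 q6352, e3 q5074 (flp_a L93767) q6361, e3 q5075 (flp_a L93777) q6362, e3 q5076 L589764 q4010, e3 q5077 (flp_a L93797) q6363, e3 q5078 (flp_a L601094) q4012, e3 q5079 L587733 q4173, e3 q5080 (flp_a L587724) q4172, e3 q5081 (flp_a L600373) q4174, e3 q5082 L65041 q3955, e3 q5083 L65051 q3956, e3 q5084 L65074 q3958, e3 q5085 (flp_a L94084) q6378, e3 q5086 L591217 q6321, e3 q5087 (flp_a L94104) q6379, e3 q5088 (flp_a L94116) q6380, e3 q5089 L601200 q6329, e3 q5090 (flp_a L94151) q6381, e3 q5091 (flp_a L626242) q4181, e3 q5092 (flp_a L626253) q4180, e3 q5093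 (flp_a L598707) q4163, e3 q5094 L65207 q3967, e3 q5095 L65225 q3969, e3 q5096 L65235 q3970, e3 q5097 L65268 q3972, e3 q5098 (flp_a L94338) q6385, e3 q5099 (flp_a L94347) q6386, e3 q5100 (flp_a L591303) q6318, e3 q5101 L576126 q5758, e3 q5102 L65431 q3977, e3 q5103 L65448 q3979, e3 q5104 L65458 q3980, e3 q5105 L65491 q3982, e3 q5106 (flp_a L94660) q6390, e3 q5107 (flp_a L94669) q6391, e3 q5108 L591427 q6334, e3 q5109 (flp_a L94705) q6392, e3 q5110 L601119 q6347, e3 q5111 (flp_a L94725) q6393, e3 q5112 (flp_a L589057) q6348, e3 q5113 (flp_a L626536) q4190, e3 q5114 (flp_a L626047) q4182, e3 q5115 (flp_a L596818) q4168, e3 q5116 (flp_a L625906) q4189, e3 q5117 L598559 q4169, e3 q5118 L65660 q3992, e3 q5119 L65667 q3993, trivial⟩ (by decide +kernel)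

theorem ce_a_80 : ∀ r, r < 64 → sm ga (Qf (5120 + r)) = Qf (tab Gen.a (5120 + r)) :=
  edges_tab (sm ga) Qf (tab Gen.a) 5120 [(5120, 3996), (5121, 3998), (5122, 6399), (5123, 6400), (5124, 6330), (5125, 6401), (5126, 6331), (5127, 5788), (5128, 5400), (5129, 4006), (5130, 4007), (5131, 4009), (5132, 4011), (5133, 6408), (5134, 6409), (5135, 6354), (5136, 6410), (5137, 6355), (5138, 6411), (5139, 6412), (5140, 6374), (5141, 6376), (5142, 6377), (5143, 4196), (5144, 4195), (5145, 4197), (5146, 4175), (5147, 4176), (5148, 4177), (5149, 4024), (5150, 4025), (5151, 4027), (5152, 4031), (5153, 4032), (5154, 6422), (5155, 6423), (5156, 6424), (5157, 6425), (5158, 6350), (5159, 6349), (5160, 6351), (5161, 5831), (5162, 5830), (5163, 5425), (5164, 4043), (5165, 4044), (5166, 4046), (5167, 4048), (5168, 4049), (5169, 4050), (5170, 4051), (5171, 4052), (5172, 6437), (5173, 6438), (5174, 6439), (5175, 6440), (5176, 5629), (5177, 5554), (5178, 5630), (5179, 6420), (5180, 6441), (5181, 6442), (5182, 6443), (5183, 6444)]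
    ⟨e3 q5120 L65700 q3996, e3 q5121 L65718 q3998, e3 q5122 (flp_a L94995) q6399, e3 q5123 (flp_a L95001) q6400, e3 q5124 L591315 q6330, e3 q5125 (flp_a L95018) q6401, e3 q5126 L591500 q6331, e3 q5127 L591807 q5788, e3 q5128 (flp_a L575504) q5400, e3 q5129 L65953 q4006, e3 q5130 L65963 q4007, e3 q5131 L65996 q4009, e3 q5132 L66018 q4011, e3 q5133 (flp_a L95444) q6408, e3 q5134 (flp_a L95454) q6409, e3 q5135 L551475 q6354, e3 q5136 (flp_a L95474) q6410, e3 q5137 L591437 q6355, e3 q5138 (flp_a L95525) q6411, e3 q5139 (flp_a L95536) q6412, e3 q5140 L590276 q6374, e3 q5141 (flp_a L580355) q6376, e3 q5142 L590757 q6377, e3 q5143 (flp_a L626547) q4196, e3 q5144 L624722 q4195, e3 q5145 L66203 q4197, e3 q5146 L587575 q4175, e3 q5147 (flp_a L560732) q4176, e3 q5148 L598431 q4177, e3 q5149 L66287 q4024, e3 q5150 L66295 q4025, e3 q5151 L66313 q4027, e3 q5152 L66363 q4031, e3 q5153 L66372 q4032, e3 q5154 (flp_a L95945) q6422, e3 q5155 (flp_a L95953) q6423, e3 q5156 (flp_a L95961) q6424, e3 q5157 (flp_a L95968) q6425, e3 q5158 L590651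 q6350, e3 q5159 L590561 q6349, e3 q5160 L591504 q6351, e3 q5161 (flp_a L592420) q5831, e3 q5162 L575835 q5830, e3 q5163 (flp_a L575668) q5425, e3 q5164 L66642 q4043, e3 q5165 L66650 q4044, e3 q5166 L66671 q4046, e3 q5167 L66709 q4048, e3 q5168 L66719 q4049, e3 q5169 L66730 q4050, e3 q5170 L66741 q4051, e3 q5171 L66751 q4052, e3 q5172 (flp_a L96410) q6437, e3 q5173 (flp_a L96418) q6438, e3 q5174 (flp_a L96424) q6439, e3 q5175 (flp_a L96434) q6440, e3 q5176 L543929 q5629, e3 q5177 (flp_a L543775) q5554, e3 q5178 (flp_a L543892) q5630, e3 q5179 L624664 q6420, e3 q5180 (flp_a L96509) q6441, e3 q5181 (flp_a L96520) q6442, e3 q5182 (flp_a L96532) q6443, e3 q5183 (flp_a L96542) q6444, trivial⟩ (by decide +kernel)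

theorem ce_a_81 : ∀ r, r < 64 → sm ga (Qf (5184 + r)) = Qf (tab Gen.a (5184 + r)) :=
  edges_tab (sm ga) Qf (tab Gen.a) 5184 [(5184, 4220), (5185, 4219), (5186, 4218), (5187, 4221), (5188, 5188), (5189, 5189), (5190, 5190), (5191, 5191), (5192, 4065), (5193, 4066), (5194, 4067), (5195, 4068), (5196, 4069), (5197, 6465), (5198, 6466), (5199, 6467), (5200, 6468), (5201, 6469), (5202, 4074), (5203, 4075), (5204, 4078), (5205, 4080), (5206, 6475), (5207, 6476), (5208, 5709), (5209, 6477), (5210, 5761), (5211, 5759), (5212, 5383), (5213, 4088), (5214, 4089), (5215, 4091), (5216, 4095), (5217, 6484), (5218, 6485), (5219, 6486), (5220, 5735), (5221, 5733), (5222, 5794), (5223, 5791), (5224, 5790), (5225, 5401), (5226, 6308), (5227, 4158), (5228, 5836), (5229, 5834), (5230, 5427), (5231, 5428), (5232, 4110), (5233, 4111), (5234, 4116), (5235, 6502), (5236, 6503), (5237, 6504), (5238, 5693), (5239, 5708), (5240, 5347), (5241, 5355), (5242, 5384), (5243, 6300), (5244, 4149), (5245, 4122), (5246, 5734), (5247, 6515)]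
    ⟨e3 q5184 (flp_a L605150) q4220, e3 q5185 L624501 q4219, e3 q5186 (flp_a L624345) q4218, e3 q5187 L66921 q4221, e3 q5188 L418357 q5188, e3 q5189 L66937 q5189, e3 q5190 L66944 q5190, e3 q5191 L66954 q5191, e3 q5192 L66964 q4065, e3 q5193 L66970 q4066, e3 q5194 L66977 q4067, e3 q5195 L66986 q4068, e3 q5196 L66996 q4069, e3 q5197 (flp_a L96823) q6465, e3 q5198 (flp_a L96830) q6466, e3 q5199 (flp_a L96837) q6467, e3 q5200 (flp_a L96844) q6468, e3 q5201 (flp_a L96851) q6469, e3 q5202 L67069 q4074, e3 q5203 L67080 q4075, e3 q5204 L67117 q4078, e3 q5205 L67139 q4080, e3 q5206 (flp_a L96965) q6475, e3 q5207 (flp_a L96975) q6476, e3 q5208 L593539 q5709, e3 q5209 (flp_a L96996) q6477, e3 q5210 L594054 q5761, e3 q5211 L593549 q5759, e3 q5212 (flp_a L575372) q5383, e3 q5213 L67441 q4088, e3 q5214 L67449 q4089, e3 q5215 L67469 q4091, e3 q5216 L67519 q4095, e3 q5217 (flp_a L97517) q6484, e3 q5218 (flp_a L97526) q6485, e3 q5219 (flp_a L97533) q6486, e3 q5220 (flp_a L538248) q5735, e3 q5221 L566999 q5733, e3 q5222 L593603 q5794, e3 q5223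 (flp_a L592613) q5791, e3 q5224 (flp_a L592059) q5790, e3 q5225 L575244 q5401, e3 q5226 (flp_a L578179) q6308, e3 q5227 L597432 q4158, e3 q5228 L593453 q5836, e3 q5229 (flp_a L592409) q5834, e3 q5230 L501403 q5427, e3 q5231 (flp_a L575683) q5428, e3 q5232 L68052 q4110, e3 q5233 L68061 q4111, e3 q5234 L68131 q4116, e3 q5235 (flp_a L98305) q6502, e3 q5236 (flp_a L98315) q6503, e3 q5237 (flp_a L98323) q6504, e3 q5238 (flp_a L593738) q5693, e3 q5239 (flp_a L567468) q5708, e3 q5240 L567201 q5347, e3 q5241 L567446 q5355, e3 q5242 (flp_a L574755) q5384, e3 q5243 L566326 q6300, e3 q5244 L597480 q4149, e3 q5245 L68465 q4122, e3 q5246 L567473 q5734, e3 q5247 (flp_a L98876) q6515, trivial⟩ (by decide +kernel)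

theorem ce_a_82 : ∀ r, r < 64 → sm ga (Qf (5248 + r)) = Qf (tab Gen.a (5248 + r)) :=
  edges_tab (sm ga) Qf (tab Gen.a) 5248 [(5248, 5732), (5249, 5366), (5250, 5367), (5251, 5403), (5252, 5252), (5253, 5253), (5254, 4156), (5255, 5431), (5256, 5256), (5257, 5257), (5258, 5258), (5259, 5259), (5260, 6290), (5261, 6291), (5262, 6292), (5263, 6293), (5264, 6294), (5265, 5265), (5266, 6298), (5267, 6299), (5268, 5268), (5269, 6307), (5270, 5294), (5271, 5271), (5272, 5272), (5273, 5273), (5274, 4212), (5275, 4213), (5276, 4214), (5277, 4215), (5278, 4216), (5279, 6458), (5280, 6457), (5281, 5625), (5282, 5282), (5283, 5283), (5284, 5284), (5285, 5285), (5286, 5286), (5287, 5287), (5288, 5288), (5289, 5289), (5290, 6543), (5291, 5291), (5292, 5292), (5293, 4239), (5294, 5270), (5295, 5295), (5296, 5296), (5297, 5297), (5298, 6552), (5299, 5299), (5300, 5300), (5301, 4244), (5302, 6557), (5303, 5303), (5304, 5304), (5305, 5305), (5306, 4248), (5307, 5003), (5308, 6564), (5309, 5309), (5310, 5310), (5311, 5311)]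
    ⟨e3 q5248 (flp_a L566649) q5732, e3 q5249 L567425 q5366, e3 q5250 L574724 q5367, e3 q5251 (flp_a L575219) q5403, e3 q5252 L566529 q5252, e3 q5253 L539835 q5253, e3 q5254 (flp_a L597439) q4156, e3 q5255 (flp_a L575168) q5431, e3 q5256 L68762 q5256, e3 q5257 L68771 q5257, e3 q5258 L68792 q5258, e3 q5259 L68801 q5259, e3 q5260 (flp_a L90108) q6290, e3 q5261 (flp_a L90119) q6291, e3 q5262 (flp_a L90246) q6292, e3 q5263 (flp_a L90273) q6293, e3 q5264 (flp_a L90322) q6294, e3 q5265 L69213 q5265, e3 q5266 (flp_a L90648) q6298, e3 q5267 (flp_a L90714) q6299, e3 q5268 L69724 q5268, e3 q5269 (flp_a L91174) q6307, e3 q5270 L639477 q5294, e3 q5271 L74976 q5271, e3 q5272 L74986 q5272, e3 q5273 L75005 q5273, e3 q5274 L75052 q4212, e3 q5275 L75068 q4213, e3 q5276 L75078 q4214, e3 q5277 L75089 q4215, e3 q5278 L75107 q4216, e3 q5279 (flp_a L624333) q6458, e3 q5280 L616789 q6457, e3 q5281 L560923 q5625, e3 q5282 L75414 q5282, e3 q5283 L75420 q5283, e3 q5284 L75437 q5284, e3 q5285 L75445 q5285, e3 q5286 L78567 q5286, e3 q5287 L79338 q5287,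 e3 q5288 L79348 q5288, e3 q5289 L79357 q5289, e3 q5290 L114624 q6543, e3 q5291 L79377 q5291, e3 q5292 L79386 q5292, e3 q5293 (flp_a L79395) q4239, e3 q5294 (flp_a L639477) q5270, e3 q5295 L79414 q5295, e3 q5296 L79422 q5296, e3 q5297 L79430 q5297, e3 q5298 L114730 q6552, e3 q5299 L79451 q5299, e3 q5300 L79462 q5300, e3 q5301 (flp_a L79469) q4244, e3 q5302 (flp_a L114783) q6557, e3 q5303 L79493 q5303, e3 q5304 L79500 q5304, e3 q5305 L79512 q5305, e3 q5306 L79521 q4248, e3 q5307 L639992 q5003, e3 q5308 (flp_a L114859) q6564, e3 q5309 L79548 q5309, e3 q5310 L79554 q5310, e3 q5311 L79561 q5311, trivial⟩ (by decide +kernel)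

theorem ce_a_83 : ∀ r, r < 64 → sm ga (Qf (5312 + r)) = Qf (tab Gen.a (5312 + r)) :=
  edges_tab (sm ga) Qf (tab Gen.a) 5312 [(5312, 5312), (5313, 4253), (5314, 6571), (5315, 6572), (5316, 5316), (5317, 5317), (5318, 5318), (5319, 5319), (5320, 4258), (5321, 4259), (5322, 6582), (5323, 6583), (5324, 6584), (5325, 6585), (5326, 5326), (5327, 5327), (5328, 5328), (5329, 5329), (5330, 5330), (5331, 4266), (5332, 4267), (5333, 4268), (5334, 4269), (5335, 6599), (5336, 6600), (5337, 6601), (5338, 6602), (5339, 6603), (5340, 6604), (5341, 6605), (5342, 5342), (5343, 5343), (5344, 5344), (5345, 5345), (5346, 5346), (5347, 5240), (5348, 5348), (5349, 5349), (5350, 4277), (5351, 6627), (5352, 5352), (5353, 5353), (5354, 5354), (5355, 5241), (5356, 5356), (5357, 5357), (5358, 5358), (5359, 4284), (5360, 6640), (5361, 6641), (5362, 5362), (5363, 5363), (5364, 5364), (5365, 5365), (5366, 5249), (5367, 5250), (5368, 5368), (5369, 5369), (5370, 5370), (5371, 5371), (5372, 4293), (5373, 4294), (5374, 4557), (5375, 6660)]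
    ⟨e3 q5312 L79572 q5312, e3 q5313 L79582 q4253, e3 q5314 (flp_a L114942) q6571, e3 q5315 (flp_a L114952) q6572, e3 q5316 L79613 q5316, e3 q5317 L79622 q5317, e3 q5318 L79632 q5318, e3 q5319 L79641 q5319, e3 q5320 L79652 q4258, e3 q5321 L79661 q4259, e3 q5322 (flp_a L115048) q6582, e3 q5323 (flp_a L115057) q6583, e3 q5324 (flp_a L115065) q6584, e3 q5325 (flp_a L115075) q6585, e3 q5326 L79704 q5326, e3 q5327 L79710 q5327, e3 q5328 L79719 q5328, e3 q5329 L79727 q5329, e3 q5330 L79737 q5330, e3 q5331 L79747 q4266, e3 q5332 L79755 q4267, e3 q5333 L79764 q4268, e3 q5334 L79773 q4269, e3 q5335 (flp_a L115194) q6599, e3 q5336 (flp_a L115203) q6600, e3 q5337 (flp_a L115211) q6601, e3 q5338 (flp_a L115220) q6602, e3 q5339 (flp_a L115228) q6603, e3 q5340 (flp_a L115238) q6604, e3 q5341 (flp_a L115248) q6605, e3 q5342 L79841 q5342, e3 q5343 L79849 q5343, e3 q5344 L79857 q5344, e3 q5345 L79865 q5345, e3 q5346 L79873 q5346, e3 q5347 (flp_a L567201) q5240, e3 q5348 L79895 q5348, e3 q5349 L79906 q5349, e3 q5350 (flp_a L79914) q4277, e3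 q5351 (flp_a L115454) q6627, e3 q5352 L79934 q5352, e3 q5353 L79943 q5353, e3 q5354 L79950 q5354, e3 q5355 (flp_a L567446) q5241, e3 q5356 L79981 q5356, e3 q5357 L79991 q5357, e3 q5358 L80003 q5358, e3 q5359 L80013 q4284, e3 q5360 (flp_a L115586) q6640, e3 q5361 (flp_a L115595) q6641, e3 q5362 L80038 q5362, e3 q5363 L80046 q5363, e3 q5364 L80054 q5364, e3 q5365 L80061 q5365, e3 q5366 (flp_a L567425) q5249, e3 q5367 (flp_a L574724) q5250, e3 q5368 L80099 q5368, e3 q5369 L80107 q5369, e3 q5370 L80115 q5370, e3 q5371 L80126 q5371, e3 q5372 L80137 q4293, e3 q5373 L80145 q4294, e3 q5374 (flp_a L641711) q4557, e3 q5375 (flp_a L115789) q6660, trivial⟩ (by decide +kernel)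

theorem ce_a_84 : ∀ r, r < 64 → sm ga (Qf (5376 + r)) = Qf (tab Gen.a (5376 + r)) :=
  edges_tab (sm ga) Qf (tab Gen.a) 5376 [(5376, 4555), (5377, 6661), (5378, 5378), (5379, 5379), (5380, 5380), (5381, 5381), (5382, 5382), (5383, 5212), (5384, 5242), (5385, 5385), (5386, 5386), (5387, 5387), (5388, 5388), (5389, 4304), (5390, 4305), (5391, 6681), (5392, 6682), (5393, 6683), (5394, 6684), (5395, 5395), (5396, 5396), (5397, 5397), (5398, 5398), (5399, 5399), (5400, 5128), (5401, 5225), (5402, 4874), (5403, 5251), (5404, 5404), (5405, 5405), (5406, 5406), (5407, 5407), (5408, 5408), (5409, 4318), (5410, 4319), (5411, 4320), (5412, 4321), (5413, 6710), (5414, 6711), (5415, 6712), (5416, 6713), (5417, 6714), (5418, 6715), (5419, 6716), (5420, 5420), (5421, 5421), (5422, 5422), (5423, 5423), (5424, 5424), (5425, 5163), (5426, 4765), (5427, 5230), (5428, 5231), (5429, 4913), (5430, 4914), (5431, 5255), (5432, 5432), (5433, 5433), (5434, 5434), (5435, 5435), (5436, 5436), (5437, 4436), (5438, 4340), (5439, 4341)]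
    ⟨e3 q5376 L644648 q4555, e3 q5377 (flp_a L115804) q6661, e3 q5378 L80181 q5378, e3 q5379 L80189 q5379, e3 q5380 L80196 q5380, e3 q5381 L80202 q5381, e3 q5382 L80209 q5382, e3 q5383 L575372 q5212, e3 q5384 L574755 q5242, e3 q5385 L80250 q5385, e3 q5386 L80261 q5386, e3 q5387 L80272 q5387, e3 q5388 L80281 q5388, e3 q5389 L80293 q4304, e3 q5390 L80303 q4305, e3 q5391 (flp_a L116018) q6681, e3 q5392 (flp_a L116028) q6682, e3 q5393 (flp_a L116037) q6683, e3 q5394 (flp_a L116047) q6684, e3 q5395 L80344 q5395, e3 q5396 L80353 q5396, e3 q5397 L80361 q5397, e3 q5398 L80370 q5398, e3 q5399 L80380 q5399, e3 q5400 L575504 q5128, e3 q5401 (flp_a L575244) q5225, e3 q5402 L592218 q4874, e3 q5403 L575219 q5251, e3 q5404 L80446 q5404, e3 q5405 L80455 q5405, e3 q5406 L80466 q5406, e3 q5407 L80474 q5407, e3 q5408 L80486 q5408, e3 q5409 L80496 q4318, e3 q5410 L80505 q4319, e3 q5411 L80512 q4320, e3 q5412 L80521 q4321, e3 q5413 (flp_a L116324) q6710, e3 q5414 (flp_a L116331) q6711, e3 q5415 (flp_a L116341) q6712, e3 q5416 (flp_a L116348)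 q6713, e3 q5417 (flp_a L116357) q6714, e3 q5418 (flp_a L116364) q6715, e3 q5419 (flp_a L116373) q6716, e3 q5420 L80581 q5420, e3 q5421 L80588 q5421, e3 q5422 L80597 q5422, e3 q5423 L80606 q5423, e3 q5424 L80615 q5424, e3 q5425 L575668 q5163, e3 q5426 (flp_a L575556) q4765, e3 q5427 (flp_a L501403) q5230, e3 q5428 L575683 q5231, e3 q5429 L575049 q4913, e3 q5430 L575580 q4914, e3 q5431 L575168 q5255, e3 q5432 L80726 q5432, e3 q5433 L80736 q5433, e3 q5434 L80746 q5434, e3 q5435 L80756 q5435, e3 q5436 L80764 q5436, e3 q5437 L80779 q4436, e3 q5438 L80784 q4340, e3 q5439 L80792 q4341, trivial⟩ (by decide +kernel)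

theorem ce_a_85 : ∀ r, r < 64 → sm ga (Qf (5440 + r)) = Qf (tab Gen.a (5440 + r)) :=
  edges_tab (sm ga) Qf (tab Gen.a) 5440 [(5440, 4342), (5441, 4343), (5442, 4344), (5443, 4345), (5444, 4346), (5445, 6753), (5446, 6754), (5447, 6755), (5448, 6756), (5449, 6757), (5450, 6758), (5451, 6759), (5452, 6760), (5453, 6761), (5454, 6762), (5455, 5455), (5456, 5456), (5457, 5457), (5458, 5458), (5459, 5459), (5460, 5460), (5461, 5461), (5462, 4353), (5463, 6787), (5464, 6788), (5465, 5465), (5466, 5466), (5467, 5467), (5468, 5468), (5469, 4358), (5470, 4359), (5471, 6798), (5472, 6799), (5473, 6800), (5474, 6801), (5475, 5475), (5476, 5476), (5477, 5477), (5478, 5478), (5479, 5479), (5480, 4366), (5481, 4367), (5482, 4368), (5483, 4369), (5484, 6815), (5485, 6816), (5486, 6817), (5487, 6818), (5488, 6819), (5489, 6820), (5490, 6821), (5491, 5491), (5492, 5492), (5493, 5493), (5494, 5494), (5495, 5495), (5496, 4376), (5497, 4377), (5498, 6839), (5499, 6840), (5500, 6841), (5501, 6842), (5502, 5502), (5503, 5503)]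
    ⟨e3 q5440 L80801 q4342, e3 q5441 L80810 q4343, e3 q5442 L80817 q4344, e3 q5443 L80825 q4345, e3 q5444 L80833 q4346, e3 q5445 (flp_a L116776) q6753, e3 q5446 (flp_a L116785) q6754, e3 q5447 (flp_a L116792) q6755, e3 q5448 (flp_a L116801) q6756, e3 q5449 (flp_a L116807) q6757, e3 q5450 (flp_a L116816) q6758, e3 q5451 (flp_a L116824) q6759, e3 q5452 (flp_a L116834) q6760, e3 q5453 (flp_a L116842) q6761, e3 q5454 (flp_a L116849) q6762, e3 q5455 L80917 q5455, e3 q5456 L80925 q5456, e3 q5457 L80934 q5457, e3 q5458 L80943 q5458, e3 q5459 L80950 q5459, e3 q5460 L80960 q5460, e3 q5461 L80968 q5461, e3 q5462 L80975 q4353, e3 q5463 (flp_a L117053) q6787, e3 q5464 (flp_a L117063) q6788, e3 q5465 L81007 q5465, e3 q5466 L81016 q5466, e3 q5467 L81026 q5467, e3 q5468 L81036 q5468, e3 q5469 L81048 q4358, e3 q5470 L81060 q4359, e3 q5471 (flp_a L117163) q6798, e3 q5472 (flp_a L117175) q6799, e3 q5473 (flp_a L117186) q6800, e3 q5474 (flp_a L117196) q6801, e3 q5475 L81109 q5475, e3 q5476 L81119 q5476, e3 q5477 L81127 q5477, e3 q5478 L81134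 q5478, e3 q5479 L81144 q5479, e3 q5480 L81155 q4366, e3 q5481 L81165 q4367, e3 q5482 L81174 q4368, e3 q5483 L81185 q4369, e3 q5484 (flp_a L117325) q6815, e3 q5485 (flp_a L117334) q6816, e3 q5486 (flp_a L117345) q6817, e3 q5487 (flp_a L117355) q6818, e3 q5488 (flp_a L117363) q6819, e3 q5489 (flp_a L117373) q6820, e3 q5490 (flp_a L117384) q6821, e3 q5491 L81255 q5491, e3 q5492 L81261 q5492, e3 q5493 L81270 q5493, e3 q5494 L81278 q5494, e3 q5495 L81285 q5495, e3 q5496 L81293 q4376, e3 q5497 L81302 q4377, e3 q5498 (flp_a L117532) q6839, e3 q5499 (flp_a L117541) q6840, e3 q5500 (flp_a L117549) q6841, e3 q5501 (flp_a L117559) q6842, e3 q5502 L81347 q5502, e3 q5503 L81354 q5503, trivial⟩ (by decide +kernel)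

theorem ce_a_86 : ∀ r, r < 64 → sm ga (Qf (5504 + r)) = Qf (tab Gen.a (5504 + r)) :=
  edges_tab (sm ga) Qf (tab Gen.a) 5504 [(5504, 5504), (5505, 5505), (5506, 5506), (5507, 4384), (5508, 4385), (5509, 4386), (5510, 4387), (5511, 6856), (5512, 6857), (5513, 6858), (5514, 6859), (5515, 6860), (5516, 6861), (5517, 6862), (5518, 5518), (5519, 5519), (5520, 5520), (5521, 5521), (5522, 5522), (5523, 6709), (5524, 4397), (5525, 4398), (5526, 4399), (5527, 4400), (5528, 4401), (5529, 4402), (5530, 4403), (5531, 6882), (5532, 6883), (5533, 6884), (5534, 6885), (5535, 6886), (5536, 6887), (5537, 6888), (5538, 6889), (5539, 6890), (5540, 6891), (5541, 5541), (5542, 5542), (5543, 5543), (5544, 5544), (5545, 5545), (5546, 5546), (5547, 5547), (5548, 4411), (5549, 4412), (5550, 4413), (5551, 4414), (5552, 6917), (5553, 6918), (5554, 5177), (5555, 6919), (5556, 6920), (5557, 6921), (5558, 6922), (5559, 5559), (5560, 5560), (5561, 5561), (5562, 5562), (5563, 5563), (5564, 5071), (5565, 4424), (5566, 4425), (5567, 4426)]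
    ⟨e3 q5504 L81363 q5504, e3 q5505 L81371 q5505, e3 q5506 L81381 q5506, e3 q5507 L81392 q4384, e3 q5508 L81403 q4385, e3 q5509 L81412 q4386, e3 q5510 L81421 q4387, e3 q5511 (flp_a L117684) q6856, e3 q5512 (flp_a L117693) q6857, e3 q5513 (flp_a L117703) q6858, e3 q5514 (flp_a L117713) q6859, e3 q5515 (flp_a L117724) q6860, e3 q5516 (flp_a L117731) q6861, e3 q5517 (flp_a L117742) q6862, e3 q5518 L81492 q5518, e3 q5519 L81500 q5519, e3 q5520 L81507 q5520, e3 q5521 L81516 q5521, e3 q5522 L81523 q5522, e3 q5523 (flp_a L116319) q6709, e3 q5524 L81538 q4397, e3 q5525 L81545 q4398, e3 q5526 L81555 q4399, e3 q5527 L81563 q4400, e3 q5528 L81572 q4401, e3 q5529 L81580 q4402, e3 q5530 L81590 q4403, e3 q5531 (flp_a L117905) q6882, e3 q5532 (flp_a L117913) q6883, e3 q5533 (flp_a L117922) q6884, e3 q5534 (flp_a L117930) q6885, e3 q5535 (flp_a L117938) q6886, e3 q5536 (flp_a L117948) q6887, e3 q5537 (flp_a L117956) q6888, e3 q5538 (flp_a L117965) q6889, e3 q5539 (flp_a L117974) q6890, e3 q5540 (flp_a L117984) q6891, e3 q5541 L81672 q5541,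 e3 q5542 L81680 q5542, e3 q5543 L81686 q5543, e3 q5544 L81693 q5544, e3 q5545 L81700 q5545, e3 q5546 L81707 q5546, e3 q5547 L81715 q5547, e3 q5548 L81723 q4411, e3 q5549 L81731 q4412, e3 q5550 L81740 q4413, e3 q5551 L81749 q4414, e3 q5552 (flp_a L118181) q6917, e3 q5553 (flp_a L118190) q6918, e3 q5554 L543775 q5177, e3 q5555 (flp_a L118208) q6919, e3 q5556 (flp_a L118216) q6920, e3 q5557 (flp_a L118226) q6921, e3 q5558 (flp_a L118236) q6922, e3 q5559 L81820 q5559, e3 q5560 L81829 q5560, e3 q5561 L81837 q5561, e3 q5562 L81845 q5562, e3 q5563 L81853 q5563, e3 q5564 (flp_a L554541) q5071, e3 q5565 L81872 q4424, e3 q5566 L81882 q4425, e3 q5567 L81891 q4426, trivial⟩ (by decide +kernel)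

theorem ce_a_87 : ∀ r, r < 64 → sm ga (Qf (5568 + r)) = Qf (tab Gen.a (5568 + r)) :=
  edges_tab (sm ga) Qf (tab Gen.a) 5568 [(5568, 4427), (5569, 4428), (5570, 4429), (5571, 4430), (5572, 6942), (5573, 6943), (5574, 6944), (5575, 6945), (5576, 6946), (5577, 6947), (5578, 6948), (5579, 6949), (5580, 6950), (5581, 6951), (5582, 5582), (5583, 5583), (5584, 5584), (5585, 5585), (5586, 5586), (5587, 5587), (5588, 5588), (5589, 6751), (5590, 6752), (5591, 4444), (5592, 4445), (5593, 4446), (5594, 4447), (5595, 4448), (5596, 4449), (5597, 4450), (5598, 4451), (5599, 4452), (5600, 4453), (5601, 6980), (5602, 6981), (5603, 6982), (5604, 6983), (5605, 6984), (5606, 6985), (5607, 6986), (5608, 6737), (5609, 6987), (5610, 6988), (5611, 6989), (5612, 6990), (5613, 6991), (5614, 6992), (5615, 6993), (5616, 6994), (5617, 5617), (5618, 5618), (5619, 5619), (5620, 5620), (5621, 5621), (5622, 5622), (5623, 5623), (5624, 5624), (5625, 5281), (5626, 5626), (5627, 5627), (5628, 4468), (5629, 5176), (5630, 5178), (5631, 5631)]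
    ⟨e3 q5568 L81903 q4427, e3 q5569 L81912 q4428, e3 q5570 L81920 q4429, e3 q5571 L81930 q4430, e3 q5572 (flp_a L118408) q6942, e3 q5573 (flp_a L118419) q6943, e3 q5574 (flp_a L118428) q6944, e3 q5575 (flp_a L118437) q6945, e3 q5576 (flp_a L118443) q6946, e3 q5577 (flp_a L118454) q6947, e3 q5578 (flp_a L118465) q6948, e3 q5579 (flp_a L118475) q6949, e3 q5580 (flp_a L118485) q6950, e3 q5581 (flp_a L118492) q6951, e3 q5582 L82020 q5582, e3 q5583 L82029 q5583, e3 q5584 L82039 q5584, e3 q5585 L82046 q5585, e3 q5586 L82054 q5586, e3 q5587 L82064 q5587, e3 q5588 L82070 q5588, e3 q5589 (flp_a L116757) q6751, e3 q5590 (flp_a L116766) q6752, e3 q5591 L82092 q4444, e3 q5592 L82101 q4445, e3 q5593 L82108 q4446, e3 q5594 L82117 q4447, e3 q5595 L82124 q4448, e3 q5596 L82133 q4449, e3 q5597 L82142 q4450, e3 q5598 L82152 q4451, e3 q5599 L82160 q4452, e3 q5600 L82168 q4453, e3 q5601 (flp_a L118733) q6980, e3 q5602 (flp_a L118743) q6981, e3 q5603 (flp_a L118751) q6982, e3 q5604 (flp_a L118762) q6983, e3 q5605 (flp_a L118770) q6984, e3 q5606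 (flp_a L118778) q6985, e3 q5607 (flp_a L118787) q6986, e3 q5608 (flp_a L575538) q6737, e3 q5609 (flp_a L118805) q6987, e3 q5610 (flp_a L118813) q6988, e3 q5611 (flp_a L118822) q6989, e3 q5612 (flp_a L118832) q6990, e3 q5613 (flp_a L118841) q6991, e3 q5614 (flp_a L118852) q6992, e3 q5615 (flp_a L118862) q6993, e3 q5616 (flp_a L118871) q6994, e3 q5617 L82298 q5617, e3 q5618 L82305 q5618, e3 q5619 L82312 q5619, e3 q5620 L82320 q5620, e3 q5621 L82328 q5621, e3 q5622 L82335 q5622, e3 q5623 L82344 q5623, e3 q5624 L82353 q5624, e3 q5625 (flp_a L560923) q5281, e3 q5626 L82458 q5626, e3 q5627 L82476 q5627, e3 q5628 L82569 q4468, e3 q5629 (flp_a L543929) q5176, e3 q5630 L543892 q5178, e3 q5631 L82659 q5631, trivial⟩ (by decide +kernel)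

theorem ce_a_88 : ∀ r, r < 64 → sm ga (Qf (5632 + r)) = Qf (tab Gen.a (5632 + r)) :=
  edges_tab (sm ga) Qf (tab Gen.a) 5632 [(5632, 5632), (5633, 5633), (5634, 5634), (5635, 5635), (5636, 4478), (5637, 4480), (5638, 4790), (5639, 4789), (5640, 4791), (5641, 7038), (5642, 7039), (5643, 4785), (5644, 4784), (5645, 4786), (5646, 5646), (5647, 5647), (5648, 5648), (5649, 5649), (5650, 5650), (5651, 5651), (5652, 5652), (5653, 5653), (5654, 4495), (5655, 4496), (5656, 4498), (5657, 4500), (5658, 4501), (5659, 4502), (5660, 4503), (5661, 4505), (5662, 7060), (5663, 7061), (5664, 7062), (5665, 7063), (5666, 4819), (5667, 4821), (5668, 4822), (5669, 7064), (5670, 7065), (5671, 7066), (5672, 7067), (5673, 4812), (5674, 7068), (5675, 4813), (5676, 4814), (5677, 5677), (5678, 5678), (5679, 5679), (5680, 5680), (5681, 5681), (5682, 5682), (5683, 5683), (5684, 5684), (5685, 7101), (5686, 5686), (5687, 5687), (5688, 5688), (5689, 5689), (5690, 5690), (5691, 5691), (5692, 5692), (5693, 5238), (5694, 5694), (5695, 5695)]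
    ⟨e3 q5632 L82665 q5632, e3 q5633 L82672 q5633, e3 q5634 L82679 q5634, e3 q5635 L82694 q5635, e3 q5636 L82781 q4478, e3 q5637 L82800 q4480, e3 q5638 (flp_a L562034) q4790, e3 q5639 L562834 q4789, e3 q5640 (flp_a L563557) q4791, e3 q5641 (flp_a L119805) q7038, e3 q5642 (flp_a L119815) q7039, e3 q5643 (flp_a L562856) q4785, e3 q5644 L562587 q4784, e3 q5645 L563238 q4786, e3 q5646 L82968 q5646, e3 q5647 L82977 q5647, e3 q5648 L82986 q5648, e3 q5649 L82995 q5649, e3 q5650 L83000 q5650, e3 q5651 L83010 q5651, e3 q5652 L83017 q5652, e3 q5653 L83025 q5653, e3 q5654 L83080 q4495, e3 q5655 L83088 q4496, e3 q5656 L83107 q4498, e3 q5657 L83153 q4500, e3 q5658 L83161 q4501, e3 q5659 L83169 q4502, e3 q5660 L83178 q4503, e3 q5661 L83197 q4505, e3 q5662 (flp_a L120238) q7060, e3 q5663 (flp_a L120245) q7061, e3 q5664 (flp_a L120253) q7062, e3 q5665 (flp_a L120262) q7063, e3 q5666 L562779 q4819, e3 q5667 (flp_a L562738) q4821, e3 q5668 L546006 q4822, e3 q5669 (flp_a L120354) q7064, e3 q5670 (flp_a L120362) q7065, e3 q5671 (flp_a L120372)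 q7066, e3 q5672 (flp_a L120382) q7067, e3 q5673 (flp_a L562513) q4812, e3 q5674 (flp_a L120399) q7068, e3 q5675 (flp_a L546630) q4813, e3 q5676 L524254 q4814, e3 q5677 L83384 q5677, e3 q5678 L83392 q5678, e3 q5679 L83401 q5679, e3 q5680 L83408 q5680, e3 q5681 L83417 q5681, e3 q5682 L83424 q5682, e3 q5683 L83433 q5683, e3 q5684 L83440 q5684, e3 q5685 L120752 q7101, e3 q5686 L83455 q5686, e3 q5687 L83465 q5687, e3 q5688 L83472 q5688, e3 q5689 L83483 q5689, e3 q5690 L83492 q5690, e3 q5691 L83516 q5691, e3 q5692 L83527 q5692, e3 q5693 L593738 q5238, e3 q5694 L83559 q5694, e3 q5695 L83568 q5695, trivial⟩ (by decide +kernel)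

theorem ce_a_89 : ∀ r, r < 64 → sm ga (Qf (5696 + r)) = Qf (tab Gen.a (5696 + r)) :=
  edges_tab (sm ga) Qf (tab Gen.a) 5696 [(5696, 5696), (5697, 4523), (5698, 7106), (5699, 7107), (5700, 5700), (5701, 5701), (5702, 5702), (5703, 5703), (5704, 5704), (5705, 5705), (5706, 5706), (5707, 5707), (5708, 5239), (5709, 5208), (5710, 5710), (5711, 5711), (5712, 5712), (5713, 5713), (5714, 4536), (5715, 4537), (5716, 6644), (5717, 7119), (5718, 6642), (5719, 7120), (5720, 5720), (5721, 5721), (5722, 5722), (5723, 5723), (5724, 5724), (5725, 5725), (5726, 5726), (5727, 5727), (5728, 5728), (5729, 5729), (5730, 5730), (5731, 5731), (5732, 5248), (5733, 5221), (5734, 5246), (5735, 5220), (5736, 5736), (5737, 5737), (5738, 5738), (5739, 5739), (5740, 5740), (5741, 4556), (5742, 4558), (5743, 6665), (5744, 7141), (5745, 7142), (5746, 6662), (5747, 6651), (5748, 7143), (5749, 5749), (5750, 5750), (5751, 5751), (5752, 5752), (5753, 5753), (5754, 5754), (5755, 5755), (5756, 5756), (5757, 5757), (5758, 5101), (5759, 5211)]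
    ⟨e3 q5696 L83577 q5696, e3 q5697 L83588 q4523, e3 q5698 (flp_a L120953) q7106, e3 q5699 (flp_a L120961) q7107, e3 q5700 L83615 q5700, e3 q5701 L83622 q5701, e3 q5702 L83630 q5702, e3 q5703 L83660 q5703, e3 q5704 L83669 q5704, e3 q5705 L83705 q5705, e3 q5706 L83712 q5706, e3 q5707 L83724 q5707, e3 q5708 L567468 q5239, e3 q5709 (flp_a L593539) q5208, e3 q5710 L83765 q5710, e3 q5711 L83775 q5711, e3 q5712 L83781 q5712, e3 q5713 L83790 q5713, e3 q5714 L83802 q4536, e3 q5715 L83809 q4537, e3 q5716 (flp_a L639958) q6644, e3 q5717 (flp_a L121275) q7119, e3 q5718 (flp_a L641893) q6642, e3 q5719 (flp_a L121292) q7120, e3 q5720 L83852 q5720, e3 q5721 L83860 q5721, e3 q5722 L83866 q5722, e3 q5723 L83875 q5723, e3 q5724 L83882 q5724, e3 q5725 L83911 q5725, e3 q5726 L83919 q5726, e3 q5727 L83927 q5727, e3 q5728 L83967 q5728, e3 q5729 L83973 q5729, e3 q5730 L83980 q5730, e3 q5731 L83991 q5731, e3 q5732 L566649 q5248, e3 q5733 (flp_a L566999) q5221, e3 q5734 (flp_a L567473) q5246, e3 q5735 L538248 q5220, e3 q5736 L84053 q5736, e3 q5737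 L84061 q5737, e3 q5738 L84070 q5738, e3 q5739 L84076 q5739, e3 q5740 L84083 q5740, e3 q5741 L84100 q4556, e3 q5742 L84114 q4558, e3 q5743 L644683 q6665, e3 q5744 (flp_a L121709) q7141, e3 q5745 (flp_a L121716) q7142, e3 q5746 (flp_a L644702) q6662, e3 q5747 L641672 q6651, e3 q5748 (flp_a L121739) q7143, e3 q5749 L84174 q5749, e3 q5750 L84182 q5750, e3 q5751 L84188 q5751, e3 q5752 L84195 q5752, e3 q5753 L84203 q5753, e3 q5754 L84243 q5754, e3 q5755 L84252 q5755, e3 q5756 L84262 q5756, e3 q5757 L84271 q5757, e3 q5758 (flp_a L576126) q5101, e3 q5759 (flp_a L593549) q5211, trivial⟩ (by decide +kernel)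

theorem ce_a_90 : ∀ r, r < 64 → sm ga (Qf (5760 + r)) = Qf (tab Gen.a (5760 + r)) :=
  edges_tab (sm ga) Qf (tab Gen.a) 5760 [(5760, 4844), (5761, 5210), (5762, 5762), (5763, 5763), (5764, 5764), (5765, 5765), (5766, 5766), (5767, 4575), (5768, 4576), (5769, 4577), (5770, 4578), (5771, 7173), (5772, 7174), (5773, 7175), (5774, 7176), (5775, 7177), (5776, 7178), (5777, 7179), (5778, 5778), (5779, 5779), (5780, 5780), (5781, 5781), (5782, 5782), (5783, 5783), (5784, 5784), (5785, 5785), (5786, 5786), (5787, 5787), (5788, 5127), (5789, 4709), (5790, 5224), (5791, 5223), (5792, 4872), (5793, 4875), (5794, 5222), (5795, 5795), (5796, 5796), (5797, 5797), (5798, 5798), (5799, 5799), (5800, 4698), (5801, 4601), (5802, 4602), (5803, 4603), (5804, 4604), (5805, 4605), (5806, 4606), (5807, 4607), (5808, 7218), (5809, 7219), (5810, 7220), (5811, 7221), (5812, 7222), (5813, 7223), (5814, 7224), (5815, 7225), (5816, 7226), (5817, 7227), (5818, 5818), (5819, 5819), (5820, 5820), (5821, 5821), (5822, 5822), (5823, 5823)]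
    ⟨e3 q5760 L592201 q4844, e3 q5761 (flp_a L594054) q5210, e3 q5762 L84341 q5762, e3 q5763 L84350 q5763, e3 q5764 L84360 q5764, e3 q5765 L84369 q5765, e3 q5766 L84379 q5766, e3 q5767 L84389 q4575, e3 q5768 L84398 q4576, e3 q5769 L84407 q4577, e3 q5770 L84416 q4578, e3 q5771 (flp_a L122144) q7173, e3 q5772 (flp_a L122154) q7174, e3 q5773 (flp_a L122163) q7175, e3 q5774 (flp_a L122170) q7176, e3 q5775 (flp_a L122178) q7177, e3 q5776 (flp_a L122188) q7178, e3 q5777 (flp_a L122197) q7179, e3 q5778 L84484 q5778, e3 q5779 L84491 q5779, e3 q5780 L84500 q5780, e3 q5781 L84510 q5781, e3 q5782 L84519 q5782, e3 q5783 L84584 q5783, e3 q5784 L84590 q5784, e3 q5785 L84599 q5785, e3 q5786 L84607 q5786, e3 q5787 L84617 q5787, e3 q5788 (flp_a L591807) q5127, e3 q5789 L592227 q4709, e3 q5790 L592059 q5224, e3 q5791 L592613 q5223, e3 q5792 L592209 q4872, e3 q5793 (flp_a L592195) q4875, e3 q5794 (flp_a L593603) q5222, e3 q5795 L84722 q5795, e3 q5796 L84731 q5796, e3 q5797 L84738 q5797, e3 q5798 L84749 q5798, e3 q5799 L84758 q5799, e3 q5800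 L84771 q4698, e3 q5801 L84776 q4601, e3 q5802 L84784 q4602, e3 q5803 L84792 q4603, e3 q5804 L84797 q4604, e3 q5805 L84806 q4605, e3 q5806 L84814 q4606, e3 q5807 L84822 q4607, e3 q5808 (flp_a L122732) q7218, e3 q5809 (flp_a L122738) q7219, e3 q5810 (flp_a L122748) q7220, e3 q5811 (flp_a L122756) q7221, e3 q5812 (flp_a L122765) q7222, e3 q5813 (flp_a L122773) q7223, e3 q5814 (flp_a L122780) q7224, e3 q5815 (flp_a L122787) q7225, e3 q5816 (flp_a L122796) q7226, e3 q5817 (flp_a L122806) q7227, e3 q5818 L84909 q5818, e3 q5819 L84916 q5819, e3 q5820 L84923 q5820, e3 q5821 L84932 q5821, e3 q5822 L84936 q5822, e3 q5823 L84943 q5823, trivial⟩ (by decide +kernel)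

theorem ce_a_91 : ∀ r, r < 64 → sm ga (Qf (5824 + r)) = Qf (tab Gen.a (5824 + r)) :=
  edges_tab (sm ga) Qf (tab Gen.a) 5824 [(5824, 5824), (5825, 5825), (5826, 5826), (5827, 5827), (5828, 5828), (5829, 5829), (5830, 5162), (5831, 5161), (5832, 4763), (5833, 4766), (5834, 5229), (5835, 4911), (5836, 5228), (5837, 4909), (5838, 4912), (5839, 5839), (5840, 5840), (5841, 5841), (5842, 5842), (5843, 5843), (5844, 5844), (5845, 5845), (5846, 4748), (5847, 4734), (5848, 4638), (5849, 4639), (5850, 4640), (5851, 4641), (5852, 4642), (5853, 4643), (5854, 4644), (5855, 4645), (5856, 4646), (5857, 4647), (5858, 7282), (5859, 7283), (5860, 7284), (5861, 7285), (5862, 7286), (5863, 7287), (5864, 7288), (5865, 6941), (5866, 7289), (5867, 7290), (5868, 7291), (5869, 7292), (5870, 7293), (5871, 7294), (5872, 7295), (5873, 7296), (5874, 5874), (5875, 5875), (5876, 5876), (5877, 5877), (5878, 5878), (5879, 5879), (5880, 5880), (5881, 5881), (5882, 4657), (5883, 4658), (5884, 4659), (5885, 4660), (5886, 7331), (5887, 7332)]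
    ⟨e3 q5824 L84953 q5824, e3 q5825 L85061 q5825, e3 q5826 L85069 q5826, e3 q5827 L85077 q5827, e3 q5828 L85085 q5828, e3 q5829 L85093 q5829, e3 q5830 (flp_a L575835) q5162, e3 q5831 L592420 q5161, e3 q5832 L592373 q4763, e3 q5833 L575565 q4766, e3 q5834 L592409 q5229, e3 q5835 L592363 q4911, e3 q5836 (flp_a L593453) q5228, e3 q5837 (flp_a L592401) q4909, e3 q5838 (flp_a L592351) q4912, e3 q5839 L85260 q5839, e3 q5840 L85268 q5840, e3 q5841 L85279 q5841, e3 q5842 L85288 q5842, e3 q5843 L85293 q5843, e3 q5844 L85303 q5844, e3 q5845 L85311 q5845, e3 q5846 L85320 q4748, e3 q5847 (flp_a L553606) q4734, e3 q5848 L85338 q4638, e3 q5849 L85345 q4639, e3 q5850 L85353 q4640, e3 q5851 L85362 q4641, e3 q5852 L85370 q4642, e3 q5853 L85377 q4643, e3 q5854 L85385 q4644, e3 q5855 L85393 q4645, e3 q5856 L85401 q4646, e3 q5857 L85409 q4647, e3 q5858 (flp_a L123578) q7282, e3 q5859 (flp_a L123586) q7283, e3 q5860 (flp_a L123594) q7284, e3 q5861 (flp_a L123603) q7285, e3 q5862 (flp_a L123612) q7286, e3 q5863 (flp_a L123620) q7287, e3 q5864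 (flp_a L123630) q7288, e3 q5865 L554525 q6941, e3 q5866 (flp_a L123647) q7289, e3 q5867 (flp_a L123655) q7290, e3 q5868 (flp_a L123661) q7291, e3 q5869 (flp_a L123670) q7292, e3 q5870 (flp_a L123679) q7293, e3 q5871 (flp_a L123687) q7294, e3 q5872 (flp_a L123695) q7295, e3 q5873 (flp_a L123704) q7296, e3 q5874 L85545 q5874, e3 q5875 L85553 q5875, e3 q5876 L85560 q5876, e3 q5877 L85570 q5877, e3 q5878 L85577 q5878, e3 q5879 L85586 q5879, e3 q5880 L85594 q5880, e3 q5881 L85601 q5881, e3 q5882 L85610 q4657, e3 q5883 L85621 q4658, e3 q5884 L85632 q4659, e3 q5885 L85641 q4660, e3 q5886 (flp_a L123991) q7331, e3 q5887 (flp_a L124003) q7332, trivial⟩ (by decide +kernel)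

theorem ce_a_92 : ∀ r, r < 64 → sm ga (Qf (5888 + r)) = Qf (tab Gen.a (5888 + r)) :=
  edges_tab (sm ga) Qf (tab Gen.a) 5888 [(5888, 7333), (5889, 7334), (5890, 7335), (5891, 7336), (5892, 7337), (5893, 5893), (5894, 5894), (5895, 5895), (5896, 5896), (5897, 5897), (5898, 7172), (5899, 4670), (5900, 4671), (5901, 4672), (5902, 4673), (5903, 4674), (5904, 4675), (5905, 4676), (5906, 7356), (5907, 7357), (5908, 7358), (5909, 7161), (5910, 7359), (5911, 7360), (5912, 7361), (5913, 7362), (5914, 7363), (5915, 7364), (5916, 5916), (5917, 5917), (5918, 5918), (5919, 5919), (5920, 5920), (5921, 5921), (5922, 5922), (5923, 5043), (5924, 4686), (5925, 4687), (5926, 4688), (5927, 4689), (5928, 4690), (5929, 4691), (5930, 4692), (5931, 7390), (5932, 7391), (5933, 7392), (5934, 7217), (5935, 7393), (5936, 7394), (5937, 7395), (5938, 7396), (5939, 7397), (5940, 7398), (5941, 5941), (5942, 5942), (5943, 5943), (5944, 5944), (5945, 5945), (5946, 5946), (5947, 5947), (5948, 7216), (5949, 4706), (5950, 4707), (5951, 4708)]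
    ⟨e3 q5888 (flp_a L124012) q7333, e3 q5889 (flp_a L124022) q7334, e3 q5890 (flp_a L124032) q7335, e3 q5891 (flp_a L124042) q7336, e3 q5892 (flp_a L124053) q7337, e3 q5893 L85720 q5893, e3 q5894 L85728 q5894, e3 q5895 L85735 q5895, e3 q5896 L85745 q5896, e3 q5897 L85752 q5897, e3 q5898 (flp_a L122139) q7172, e3 q5899 L85770 q4670, e3 q5900 L85780 q4671, e3 q5901 L85789 q4672, e3 q5902 L85797 q4673, e3 q5903 L85805 q4674, e3 q5904 L85816 q4675, e3 q5905 L85826 q4676, e3 q5906 (flp_a L124231) q7356, e3 q5907 (flp_a L124239) q7357, e3 q5908 (flp_a L124248) q7358, e3 q5909 L591654 q7161, e3 q5910 (flp_a L124269) q7359, e3 q5911 (flp_a L124278) q7360, e3 q5912 (flp_a L124286) q7361, e3 q5913 (flp_a L124295) q7362, e3 q5914 (flp_a L124305) q7363, e3 q5915 (flp_a L124315) q7364, e3 q5916 L85919 q5916, e3 q5917 L85924 q5917, e3 q5918 L85932 q5918, e3 q5919 L85939 q5919, e3 q5920 L85947 q5920, e3 q5921 L85954 q5921, e3 q5922 L85964 q5922, e3 q5923 (flp_a L576300) q5043, e3 q5924 L85981 q4686, e3 q5925 L85991 q4687, e3 q5926 L85999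 q4688, e3 q5927 L86007 q4689, e3 q5928 L86018 q4690, e3 q5929 L86026 q4691, e3 q5930 L86036 q4692, e3 q5931 (flp_a L124539) q7390, e3 q5932 (flp_a L124547) q7391, e3 q5933 (flp_a L124559) q7392, e3 q5934 L576562 q7217, e3 q5935 (flp_a L124576) q7393, e3 q5936 (flp_a L124586) q7394, e3 q5937 (flp_a L124596) q7395, e3 q5938 (flp_a L124603) q7396, e3 q5939 (flp_a L124614) q7397, e3 q5940 (flp_a L124624) q7398, e3 q5941 L86129 q5941, e3 q5942 L86137 q5942, e3 q5943 L86145 q5943, e3 q5944 L86152 q5944, e3 q5945 L86157 q5945, e3 q5946 L86164 q5946, e3 q5947 L86172 q5947, e3 q5948 (flp_a L122714) q7216, e3 q5949 L86196 q4706, e3 q5950 L86202 q4707, e3 q5951 L86212 q4708, trivial⟩ (by decide +kernel)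

theorem ce_a_93 : ∀ r, r < 64 → sm ga (Qf (5952 + r)) = Qf (tab Gen.a (5952 + r)) :=
  edges_tab (sm ga) Qf (tab Gen.a) 5952 [(5952, 4710), (5953, 4711), (5954, 4712), (5955, 4713), (5956, 4714), (5957, 4715), (5958, 7424), (5959, 7425), (5960, 7426), (5961, 7427), (5962, 7428), (5963, 7202), (5964, 7429), (5965, 6698), (5966, 7203), (5967, 7430), (5968, 7431), (5969, 7432), (5970, 7433), (5971, 7434), (5972, 7435), (5973, 7436), (5974, 5974), (5975, 5975), (5976, 5976), (5977, 5977), (5978, 5978), (5979, 5979), (5980, 5980), (5981, 5981), (5982, 5070), (5983, 4731), (5984, 4732), (5985, 4733), (5986, 4735), (5987, 4736), (5988, 4737), (5989, 4738), (5990, 4739), (5991, 4740), (5992, 7048), (5993, 7472), (5994, 7473), (5995, 7474), (5996, 7475), (5997, 7280), (5998, 7476), (5999, 7281), (6000, 7477), (6001, 7478), (6002, 7479), (6003, 7041), (6004, 7480), (6005, 7481), (6006, 7482), (6007, 6007), (6008, 6008), (6009, 6009), (6010, 6010), (6011, 6011), (6012, 6012), (6013, 6013), (6014, 6014), (6015, 7278)]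
    ⟨e3 q5952 L86230 q4710, e3 q5953 L86238 q4711, e3 q5954 L86246 q4712, e3 q5955 L86253 q4713, e3 q5956 L86262 q4714, e3 q5957 L86273 q4715, e3 q5958 (flp_a L124859) q7424, e3 q5959 (flp_a L124866) q7425, e3 q5960 (flp_a L124874) q7426, e3 q5961 (flp_a L124882) q7427, e3 q5962 (flp_a L124892) q7428, e3 q5963 L591848 q7202, e3 q5964 (flp_a L124912) q7429, e3 q5965 (flp_a L575523) q6698, e3 q5966 (flp_a L592190) q7203, e3 q5967 (flp_a L124940) q7430, e3 q5968 (flp_a L124948) q7431, e3 q5969 (flp_a L124956) q7432, e3 q5970 (flp_a L124965) q7433, e3 q5971 (flp_a L124973) q7434, e3 q5972 (flp_a L124980) q7435, e3 q5973 (flp_a L124991) q7436, e3 q5974 L86400 q5974, e3 q5975 L86408 q5975, e3 q5976 L86415 q5976, e3 q5977 L86422 q5977, e3 q5978 L86430 q5978, e3 q5979 L86437 q5979, e3 q5980 L86443 q5980, e3 q5981 L86450 q5981, e3 q5982 L590844 q5070, e3 q5983 L86475 q4731, e3 q5984 L86484 q4732, e3 q5985 L86494 q4733, e3 q5986 L86511 q4735, e3 q5987 L86520 q4736, e3 q5988 L86531 q4737, e3 q5989 L86539 q4738, e3 q5990 L86549 q4739,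 e3 q5991 L86557 q4740, e3 q5992 L590606 q7048, e3 q5993 (flp_a L125298) q7472, e3 q5994 (flp_a L125308) q7473, e3 q5995 (flp_a L125317) q7474, e3 q5996 (flp_a L125328) q7475, e3 q5997 (flp_a L553176) q7280, e3 q5998 (flp_a L125346) q7476, e3 q5999 L526889 q7281, e3 q6000 (flp_a L125373) q7477, e3 q6001 (flp_a L125382) q7478, e3 q6002 (flp_a L125394) q7479, e3 q6003 (flp_a L562057) q7041, e3 q6004 (flp_a L125412) q7480, e3 q6005 (flp_a L125422) q7481, e3 q6006 (flp_a L125431) q7482, e3 q6007 L86697 q6007, e3 q6008 L86706 q6008, e3 q6009 L86711 q6009, e3 q6010 L86719 q6010, e3 q6011 L86727 q6011, e3 q6012 L86736 q6012, e3 q6013 L86743 q6013, e3 q6014 L86750 q6014, e3 q6015 (flp_a L123534) q7278, trivial⟩ (by decide +kernel)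

theorem ce_a_94 : ∀ r, r < 64 → sm ga (Qf (6016 + r)) = Qf (tab Gen.a (6016 + r)) :=
  edges_tab (sm ga) Qf (tab Gen.a) 6016 [(6016, 7279), (6017, 4758), (6018, 4759), (6019, 4760), (6020, 4761), (6021, 4762), (6022, 4764), (6023, 4767), (6024, 4768), (6025, 4769), (6026, 4770), (6027, 4771), (6028, 4772), (6029, 4773), (6030, 7517), (6031, 7518), (6032, 7519), (6033, 7520), (6034, 7521), (6035, 7522), (6036, 7523), (6037, 7524), (6038, 7261), (6039, 7525), (6040, 7259), (6041, 7262), (6042, 6736), (6043, 6738), (6044, 7526), (6045, 7527), (6046, 7528), (6047, 7529), (6048, 7530), (6049, 7531), (6050, 7532), (6051, 7533), (6052, 6052), (6053, 6053), (6054, 6054), (6055, 6055), (6056, 6056), (6057, 6057), (6058, 6058), (6059, 6059), (6060, 7577), (6061, 6061), (6062, 6062), (6063, 4787), (6064, 4788), (6065, 7047), (6066, 6964), (6067, 7045), (6068, 7046), (6069, 7580), (6070, 7042), (6071, 7043), (6072, 7040), (6073, 6952), (6074, 6074), (6075, 6075), (6076, 6076), (6077, 6077), (6078, 6078), (6079, 6079)]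
    ⟨e3 q6016 (flp_a L123542) q7279, e3 q6017 L86793 q4758, e3 q6018 L86802 q4759, e3 q6019 L86810 q4760, e3 q6020 L86819 q4761, e3 q6021 L86828 q4762, e3 q6022 L86847 q4764, e3 q6023 L86874 q4767, e3 q6024 L86881 q4768, e3 q6025 L86891 q4769, e3 q6026 L86900 q4770, e3 q6027 L86910 q4771, e3 q6028 L86918 q4772, e3 q6029 L86928 q4773, e3 q6030 (flp_a L125779) q7517, e3 q6031 (flp_a L125789) q7518, e3 q6032 (flp_a L125798) q7519, e3 q6033 (flp_a L125804) q7520, e3 q6034 (flp_a L125813) q7521, e3 q6035 (flp_a L125823) q7522, e3 q6036 (flp_a L125828) q7523, e3 q6037 (flp_a L125837) q7524, e3 q6038 (flp_a L592396) q7261, e3 q6039 (flp_a L125856) q7525, e3 q6040 L575802 q7259, e3 q6041 (flp_a L592345) q7262, e3 q6042 (flp_a L575772) q6736, e3 q6043 L575589 q6738, e3 q6044 (flp_a L125911) q7526, e3 q6045 (flp_a L125920) q7527, e3 q6046 (flp_a L125927) q7528, e3 q6047 (flp_a L125937) q7529, e3 q6048 (flp_a L125948) q7530, e3 q6049 (flp_a L125957) q7531, e3 q6050 (flp_a L125966) q7532, e3 q6051 (flp_a L125976) q7533, e3 q6052 L87105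 q6052, e3 q6053 L87111 q6053, e3 q6054 L87118 q6054, e3 q6055 L87125 q6055, e3 q6056 L87130 q6056, e3 q6057 L87140 q6057, e3 q6058 L87148 q6058, e3 q6059 L87157 q6059, e3 q6060 L126327 q7577, e3 q6061 L87173 q6061, e3 q6062 L87181 q6062, e3 q6063 L87326 q4787, e3 q6064 L87334 q4788, e3 q6065 (flp_a L561881) q7047, e3 q6066 (flp_a L561933) q6964, e3 q6067 (flp_a L546343) q7045, e3 q6068 L562877 q7046, e3 q6069 (flp_a L126584) q7580, e3 q6070 L563046 q7042, e3 q6071 L563011 q7043, e3 q6072 L562824 q7040, e3 q6073 (flp_a L562028) q6952, e3 q6074 L87573 q6074, e3 q6075 L87581 q6075, e3 q6076 L87590 q6076, e3 q6077 L87595 q6077, e3 q6078 L87604 q6078, e3 q6079 L87611 q6079, trivial⟩ (by decide +kernel)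

theorem ce_a_95 : ∀ r, r < 64 → sm ga (Qf (6080 + r)) = Qf (tab Gen.a (6080 + r)) :=
  edges_tab (sm ga) Qf (tab Gen.a) 6080 [(6080, 6080), (6081, 6081), (6082, 7603), (6083, 6083), (6084, 6084), (6085, 4808), (6086, 4809), (6087, 4810), (6088, 4811), (6089, 4815), (6090, 4816), (6091, 4817), (6092, 4818), (6093, 4820), (6094, 7606), (6095, 7607), (6096, 7608), (6097, 7089), (6098, 7609), (6099, 7610), (6100, 7082), (6101, 7084), (6102, 7086), (6103, 7088), (6104, 7611), (6105, 7612), (6106, 7613), (6107, 7075), (6108, 7614), (6109, 7076), (6110, 7615), (6111, 7077), (6112, 7642), (6113, 7078), (6114, 7072), (6115, 6115), (6116, 6116), (6117, 6117), (6118, 6118), (6119, 6119), (6120, 6120), (6121, 6121), (6122, 6122), (6123, 7654), (6124, 6124), (6125, 6125), (6126, 4831), (6127, 7657), (6128, 6128), (6129, 4841), (6130, 4842), (6131, 4843), (6132, 4845), (6133, 4846), (6134, 4847), (6135, 4848), (6136, 4849), (6137, 4850), (6138, 6576), (6139, 6574), (6140, 7660), (6141, 6588), (6142, 7661), (6143, 7164)]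
    ⟨e3 q6080 L87622 q6080, e3 q6081 L87629 q6081, e3 q6082 L126995 q7603, e3 q6083 L87642 q6083, e3 q6084 L87650 q6084, e3 q6085 L87712 q4808, e3 q6086 L87720 q4809, e3 q6087 L87727 q4810, e3 q6088 L87734 q4811, e3 q6089 L87789 q4815, e3 q6090 L87797 q4816, e3 q6091 L87805 q4817, e3 q6092 L87815 q4818, e3 q6093 L87833 q4820, e3 q6094 (flp_a L127104) q7606, e3 q6095 (flp_a L127110) q7607, e3 q6096 (flp_a L127119) q7608, e3 q6097 (flp_a L562382) q7089, e3 q6098 (flp_a L127135) q7609, e3 q6099 (flp_a L127142) q7610, e3 q6100 (flp_a L562490) q7082, e3 q6101 (flp_a L563184) q7084, e3 q6102 (flp_a L562501) q7086, e3 q6103 (flp_a L546518) q7088, e3 q6104 (flp_a L127215) q7611, e3 q6105 (flp_a L127222) q7612, e3 q6106 (flp_a L127232) q7613, e3 q6107 L563079 q7075, e3 q6108 (flp_a L127247) q7614, e3 q6109 L562935 q7076, e3 q6110 (flp_a L127267) q7615, e3 q6111 L562771 q7077, e3 q6112 L127529 q7642, e3 q6113 (flp_a L546645) q7078, e3 q6114 L546666 q7072, e3 q6115 L88041 q6115, e3 q6116 L88049 q6116, e3 q6117 L88056 q6117, e3 q6118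 L88065 q6118, e3 q6119 L88071 q6119, e3 q6120 L88077 q6120, e3 q6121 L88084 q6121, e3 q6122 L88093 q6122, e3 q6123 L127651 q7654, e3 q6124 L88110 q6124, e3 q6125 L88120 q6125, e3 q6126 (flp_a L88125) q4831, e3 q6127 (flp_a L127679) q7657, e3 q6128 L88142 q6128, e3 q6129 L88171 q4841, e3 q6130 L88181 q4842, e3 q6131 L88191 q4843, e3 q6132 L88210 q4845, e3 q6133 L88221 q4846, e3 q6134 L88230 q4847, e3 q6135 L88240 q4848, e3 q6136 L88251 q4849, e3 q6137 L88259 q4850, e3 q6138 (flp_a L643974) q6576, e3 q6139 (flp_a L645291) q6574, e3 q6140 (flp_a L127771) q7660, e3 q6141 (flp_a L645255) q6588, e3 q6142 (flp_a L127794) q7661, e3 q6143 (flp_a L592702) q7164, trivial⟩ (by decide +kernel)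

theorem ce_a_96 : ∀ r, r < 64 → sm ga (Qf (6144 + r)) = Qf (tab Gen.a (6144 + r)) :=
  edges_tab (sm ga) Qf (tab Gen.a) 6144 [(6144, 7662), (6145, 6674), (6146, 7165), (6147, 6573), (6148, 6586), (6149, 7663), (6150, 7664), (6151, 7665), (6152, 7666), (6153, 7667), (6154, 6154), (6155, 6155), (6156, 6156), (6157, 6157), (6158, 6158), (6159, 6159), (6160, 6160), (6161, 6161), (6162, 4867), (6163, 4868), (6164, 4869), (6165, 4870), (6166, 4871), (6167, 4873), (6168, 4876), (6169, 4877), (6170, 4878), (6171, 4879), (6172, 4880), (6173, 4881), (6174, 4882), (6175, 6592), (6176, 6691), (6177, 6613), (6178, 6589), (6179, 7695), (6180, 7696), (6181, 7697), (6182, 7698), (6183, 7207), (6184, 7699), (6185, 7205), (6186, 7208), (6187, 6701), (6188, 6702), (6189, 6607), (6190, 7700), (6191, 7701), (6192, 7702), (6193, 7703), (6194, 7704), (6195, 7705), (6196, 7706), (6197, 6197), (6198, 6198), (6199, 6199), (6200, 6200), (6201, 6201), (6202, 6202), (6203, 6203), (6204, 6204), (6205, 7745), (6206, 6206), (6207, 6207)]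
    ⟨e3 q6144 (flp_a L127813) q7662, e3 q6145 (flp_a L575413) q6674, e3 q6146 (flp_a L592171) q7165, e3 q6147 (flp_a L647941) q6573, e3 q6148 L647886 q6586, e3 q6149 (flp_a L127863) q7663, e3 q6150 (flp_a L127872) q7664, e3 q6151 (flp_a L127881) q7665, e3 q6152 (flp_a L127892) q7666, e3 q6153 (flp_a L127902) q7667, e3 q6154 L88413 q6154, e3 q6155 L88422 q6155, e3 q6156 L88430 q6156, e3 q6157 L88440 q6157, e3 q6158 L88446 q6158, e3 q6159 L88455 q6159, e3 q6160 L88463 q6160, e3 q6161 L88471 q6161, e3 q6162 L88527 q4867, e3 q6163 L88536 q4868, e3 q6164 L88545 q4869, e3 q6165 L88554 q4870, e3 q6166 L88565 q4871, e3 q6167 L88583 q4873, e3 q6168 L88609 q4876, e3 q6169 L88619 q4877, e3 q6170 L88628 q4878, e3 q6171 L88637 q4879, e3 q6172 L88644 q4880, e3 q6173 L88653 q4881, e3 q6174 L88662 q4882, e3 q6175 (flp_a L643895) q6592, e3 q6176 (flp_a L642186) q6691, e3 q6177 (flp_a L640674) q6613, e3 q6178 L645361 q6589, e3 q6179 (flp_a L128332) q7695, e3 q6180 (flp_a L128342) q7696, e3 q6181 (flp_a L128347) q7697, e3 q6182 (flp_a L128357)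 q7698, e3 q6183 (flp_a L592598) q7207, e3 q6184 (flp_a L128377) q7699, e3 q6185 (flp_a L592037) q7205, e3 q6186 (flp_a L592672) q7208, e3 q6187 L575279 q6701, e3 q6188 (flp_a L592179) q6702, e3 q6189 L647698 q6607, e3 q6190 (flp_a L128438) q7700, e3 q6191 (flp_a L128448) q7701, e3 q6192 (flp_a L128457) q7702, e3 q6193 (flp_a L128465) q7703, e3 q6194 (flp_a L128475) q7704, e3 q6195 (flp_a L128481) q7705, e3 q6196 (flp_a L128489) q7706, e3 q6197 L88852 q6197, e3 q6198 L88861 q6198, e3 q6199 L88871 q6199, e3 q6200 L88878 q6200, e3 q6201 L88888 q6201, e3 q6202 L88894 q6202, e3 q6203 L88903 q6203, e3 q6204 L88910 q6204, e3 q6205 L128845 q7745, e3 q6206 L88922 q6206, e3 q6207 L88929 q6207, trivial⟩ (by decide +kernel)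

theorem ce_a_97 : ∀ r, r < 64 → sm ga (Qf (6208 + r)) = Qf (tab Gen.a (6208 + r)) :=
  edges_tab (sm ga) Qf (tab Gen.a) 6208 [(6208, 4903), (6209, 4904), (6210, 4905), (6211, 4906), (6212, 4907), (6213, 4908), (6214, 4910), (6215, 4915), (6216, 4916), (6217, 4917), (6218, 4918), (6219, 4919), (6220, 4920), (6221, 4921), (6222, 4922), (6223, 6611), (6224, 7748), (6225, 7749), (6226, 7750), (6227, 7751), (6228, 7752), (6229, 7266), (6230, 7753), (6231, 7268), (6232, 7754), (6233, 7265), (6234, 7269), (6235, 6740), (6236, 7267), (6237, 6742), (6238, 6743), (6239, 6606), (6240, 7755), (6241, 7756), (6242, 7757), (6243, 7758), (6244, 7759), (6245, 7760), (6246, 7761), (6247, 7798), (6248, 7763), (6249, 7764), (6250, 6250), (6251, 6251), (6252, 6252), (6253, 6253), (6254, 6254), (6255, 6255), (6256, 6256), (6257, 6257), (6258, 7808), (6259, 6259), (6260, 6260), (6261, 4931), (6262, 7810), (6263, 6263), (6264, 4942), (6265, 4943), (6266, 4944), (6267, 4945), (6268, 4946), (6269, 4947), (6270, 4948), (6271, 4949)]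
    ⟨e3 q6208 L89017 q4903, e3 q6209 L89026 q4904, e3 q6210 L89037 q4905, e3 q6211 L89047 q4906, e3 q6212 L89054 q4907, e3 q6213 L89065 q4908, e3 q6214 L89082 q4910, e3 q6215 L89131 q4915, e3 q6216 L89141 q4916, e3 q6217 L89149 q4917, e3 q6218 L89159 q4918, e3 q6219 L89168 q4919, e3 q6220 L89178 q4920, e3 q6221 L89186 q4921, e3 q6222 L89195 q4922, e3 q6223 L647710 q6611, e3 q6224 (flp_a L129021) q7748, e3 q6225 (flp_a L129030) q7749, e3 q6226 (flp_a L129041) q7750, e3 q6227 (flp_a L129048) q7751, e3 q6228 (flp_a L129059) q7752, e3 q6229 (flp_a L547467) q7266, e3 q6230 (flp_a L129076) q7753, e3 q6231 (flp_a L592571) q7268, e3 q6232 (flp_a L129093) q7754, e3 q6233 (flp_a L592389) q7265, e3 q6234 (flp_a L592538) q7269, e3 q6235 (flp_a L575781) q6740, e3 q6236 (flp_a L592334) q7267, e3 q6237 (flp_a L575716) q6742, e3 q6238 (flp_a L575021) q6743, e3 q6239 L647685 q6606, e3 q6240 (flp_a L129179) q7755, e3 q6241 (flp_a L129188) q7756, e3 q6242 (flp_a L129198) q7757, e3 q6243 (flp_a L129207) q7758, e3 q6244 (flp_a L129217) q7759,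 e3 q6245 (flp_a L129228) q7760, e3 q6246 (flp_a L129236) q7761, e3 q6247 L129564 q7798, e3 q6248 (flp_a L129252) q7763, e3 q6249 (flp_a L129260) q7764, e3 q6250 L89433 q6250, e3 q6251 L89441 q6251, e3 q6252 L89450 q6252, e3 q6253 L89459 q6253, e3 q6254 L89468 q6254, e3 q6255 L89474 q6255, e3 q6256 L89482 q6256, e3 q6257 L89491 q6257, e3 q6258 L129698 q7808, e3 q6259 L89506 q6259, e3 q6260 L89514 q6260, e3 q6261 (flp_a L89520) q4931, e3 q6262 (flp_a L129724) q7810, e3 q6263 L89537 q6263, e3 q6264 L89546 q4942, e3 q6265 L89556 q4943, e3 q6266 L89567 q4944, e3 q6267 L89575 q4945, e3 q6268 L89586 q4946, e3 q6269 L89594 q4947, e3 q6270 L89606 q4948, e3 q6271 L89613 q4949, trivial⟩ (by decide +kernel)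

theorem ce_a_98 : ∀ r, r < 64 → sm ga (Qf (6272 + r)) = Qf (tab Gen.a (6272 + r)) :=
  edges_tab (sm ga) Qf (tab Gen.a) 6272 [(6272, 7821), (6273, 4951), (6274, 4952), (6275, 7812), (6276, 7813), (6277, 7814), (6278, 7815), (6279, 7816), (6280, 7817), (6281, 7828), (6282, 7819), (6283, 7820), (6284, 4950), (6285, 7830), (6286, 7823), (6287, 4957), (6288, 4960), (6289, 7833), (6290, 5260), (6291, 5261), (6292, 5262), (6293, 5263), (6294, 5264), (6295, 4976), (6296, 4975), (6297, 7105), (6298, 5266), (6299, 5267), (6300, 5243), (6301, 4989), (6302, 4987), (6303, 4986), (6304, 4988), (6305, 7116), (6306, 6558), (6307, 5269), (6308, 5226), (6309, 5025), (6310, 5007), (6311, 5005), (6312, 5002), (6313, 5004), (6314, 5006), (6315, 7166), (6316, 7137), (6317, 6565), (6318, 5100), (6319, 5022), (6320, 5021), (6321, 5086), (6322, 5019), (6323, 5020), (6324, 5023), (6325, 7837), (6326, 7836), (6327, 7839), (6328, 7330), (6329, 5089), (6330, 5124), (6331, 5126), (6332, 5046), (6333, 5044), (6334, 5108), (6335, 5040)]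
    ⟨e3 q6272 L129845 q7821, e3 q6273 L89628 q4951, e3 q6274 L89637 q4952, e3 q6275 (flp_a L129760) q7812, e3 q6276 (flp_a L129781) q7813, e3 q6277 (flp_a L129789) q7814, e3 q6278 (flp_a L129796) q7815, e3 q6279 (flp_a L129806) q7816, e3 q6280 (flp_a L129814) q7817, e3 q6281 L129973 q7828, e3 q6282 (flp_a L129830) q7819, e3 q6283 (flp_a L129839) q7820, e3 q6284 (flp_a L89729) q4950, e3 q6285 (flp_a L129997) q7830, e3 q6286 (flp_a L129863) q7823, e3 q6287 (flp_a L89854) q4957, e3 q6288 L89878 q4960, e3 q6289 (flp_a L130186) q7833, e3 q6290 L90108 q5260, e3 q6291 L90119 q5261, e3 q6292 L90246 q5262, e3 q6293 L90273 q5263, e3 q6294 L90322 q5264, e3 q6295 L625397 q4976, e3 q6296 (flp_a L625445) q4975, e3 q6297 (flp_a L619894) q7105, e3 q6298 L90648 q5266, e3 q6299 L90714 q5267, e3 q6300 (flp_a L566326) q5243, e3 q6301 (flp_a L626921) q4989, e3 q6302 (flp_a L625454) q4987, e3 q6303 L90833 q4986, e3 q6304 L90850 q4988, e3 q6305 L621774 q7116, e3 q6306 L640007 q6558, e3 q6307 L91174 q5269, e3 q6308 L578179 q5226, e3 q6309 L625353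 q5025, e3 q6310 L625341 q5007, e3 q6311 (flp_a L625313) q5005, e3 q6312 L91419 q5002, e3 q6313 L91433 q5004, e3 q6314 L91451 q5006, e3 q6315 L621750 q7166, e3 q6316 (flp_a L621272) q7137, e3 q6317 (flp_a L639808) q6565, e3 q6318 L591303 q5100, e3 q6319 (flp_a L623324) q5022, e3 q6320 L622684 q5021, e3 q6321 (flp_a L591217) q5086, e3 q6322 L91956 q5019, e3 q6323 L91964 q5020, e3 q6324 L91992 q5023, e3 q6325 L622532 q7837, e3 q6326 (flp_a L622500) q7836, e3 q6327 (flp_a L133296) q7839, e3 q6328 (flp_a L576265) q7330, e3 q6329 (flp_a L601200) q5089, e3 q6330 (flp_a L591315) q5124, e3 q6331 (flp_a L591500) q5126, e3 q6332 L625045 q5046, e3 q6333 (flp_a L625061) q5044, e3 q6334 (flp_a L591427) q5108, e3 q6335 L92666 q5040, trivial⟩ (by decide +kernel)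

theorem ce_a_99 : ∀ r, r < 64 → sm ga (Qf (6336 + r)) = Qf (tab Gen.a (6336 + r)) :=
  edges_tab (sm ga) Qf (tab Gen.a) 6336 [(6336, 5041), (6337, 5042), (6338, 5045), (6339, 5047), (6340, 7848), (6341, 7845), (6342, 7849), (6343, 7844), (6344, 7850), (6345, 7389), (6346, 6855), (6347, 5110), (6348, 5112), (6349, 5159), (6350, 5158), (6351, 5160), (6352, 5073), (6353, 5072), (6354, 5135), (6355, 5137), (6356, 5065), (6357, 5066), (6358, 5067), (6359, 5068), (6360, 5069), (6361, 5074), (6362, 5075), (6363, 5077), (6364, 7863), (6365, 7864), (6366, 7859), (6367, 7858), (6368, 7865), (6369, 7866), (6370, 7867), (6371, 7471), (6372, 7470), (6373, 6940), (6374, 5140), (6375, 7868), (6376, 5141), (6377, 5142), (6378, 5085), (6379, 5087), (6380, 5088), (6381, 5090), (6382, 7882), (6383, 7883), (6384, 7838), (6385, 5098), (6386, 5099), (6387, 7885), (6388, 7160), (6389, 6672), (6390, 5106), (6391, 5107), (6392, 5109), (6393, 5111), (6394, 7889), (6395, 7890), (6396, 7846), (6397, 7891), (6398, 7847), (6399, 5122)]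
    ⟨e3 q6336 L92673 q5041, e3 q6337 L92681 q5042, e3 q6338 L92713 q5045, e3 q6339 L92732 q5047, e3 q6340 (flp_a L134326) q7848, e3 q6341 (flp_a L622743) q7845, e3 q6342 (flp_a L134339) q7849, e3 q6343 (flp_a L622317) q7844, e3 q6344 (flp_a L134356) q7850, e3 q6345 (flp_a L576483) q7389, e3 q6346 (flp_a L576284) q6855, e3 q6347 (flp_a L601119) q5110, e3 q6348 L589057 q5112, e3 q6349 (flp_a L590561) q5159, e3 q6350 (flp_a L590651) q5158, e3 q6351 (flp_a L591504) q5160, e3 q6352 (flp_a L624819) q5073, e3 q6353 L624855 q5072, e3 q6354 (flp_a L551475) q5135, e3 q6355 (flp_a L591437) q5137, e3 q6356 L93677 q5065, e3 q6357 L93684 q5066, e3 q6358 L93692 q5067, e3 q6359 L93702 q5068, e3 q6360 L93709 q5069, e3 q6361 L93767 q5074, e3 q6362 L93777 q5075, e3 q6363 L93797 q5077, e3 q6364 (flp_a L135857) q7863, e3 q6365 (flp_a L135864) q7864, e3 q6366 L624838 q7859, e3 q6367 (flp_a L624804) q7858, e3 q6368 (flp_a L135887) q7865, e3 q6369 (flp_a L135897) q7866, e3 q6370 (flp_a L135913) q7867, e3 q6371 (flp_a L576490) q7471, e3 q6372 (flp_a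 L554374) q7470, e3 q6373 (flp_a L554531) q6940, e3 q6374 (flp_a L590276) q5140, e3 q6375 (flp_a L136024) q7868, e3 q6376 L580355 q5141, e3 q6377 (flp_a L590757) q5142, e3 q6378 L94084 q5085, e3 q6379 L94104 q5087, e3 q6380 L94116 q5088, e3 q6381 L94151 q5090, e3 q6382 (flp_a L136405) q7882, e3 q6383 (flp_a L136416) q7883, e3 q6384 (flp_a L591239) q7838, e3 q6385 L94338 q5098, e3 q6386 L94347 q5099, e3 q6387 (flp_a L136774) q7885, e3 q6388 (flp_a L592092) q7160, e3 q6389 L575384 q6672, e3 q6390 L94660 q5106, e3 q6391 L94669 q5107, e3 q6392 L94705 q5109, e3 q6393 L94725 q5111, e3 q6394 (flp_a L137267) q7889, e3 q6395 (flp_a L137275) q7890, e3 q6396 (flp_a L577654) q7846, e3 q6397 (flp_a L137294) q7891, e3 q6398 (flp_a L591459) q7847, e3 q6399 L94995 q5122, trivial⟩ (by decide +kernel)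

theorem ce_a_100 : ∀ r, r < 64 → sm ga (Qf (6400 + r)) = Qf (tab Gen.a (6400 + r)) :=
  edges_tab (sm ga) Qf (tab Gen.a) 6400 [(6400, 5123), (6401, 5125), (6402, 7895), (6403, 7896), (6404, 7843), (6405, 7201), (6406, 7200), (6407, 6697), (6408, 5133), (6409, 5134), (6410, 5136), (6411, 5138), (6412, 5139), (6413, 7904), (6414, 7905), (6415, 7906), (6416, 7907), (6417, 7861), (6418, 7860), (6419, 7862), (6420, 5179), (6421, 7881), (6422, 5154), (6423, 5155), (6424, 5156), (6425, 5157), (6426, 7916), (6427, 7917), (6428, 7918), (6429, 7857), (6430, 7919), (6431, 7856), (6432, 7257), (6433, 7260), (6434, 7258), (6435, 6734), (6436, 6735), (6437, 5172), (6438, 5173), (6439, 5174), (6440, 5175), (6441, 5180), (6442, 5181), (6443, 5182), (6444, 5183), (6445, 7933), (6446, 7934), (6447, 7935), (6448, 6929), (6449, 7936), (6450, 7915), (6451, 7031), (6452, 7032), (6453, 6928), (6454, 6923), (6455, 7937), (6456, 6456), (6457, 5280), (6458, 5279), (6459, 6459), (6460, 6460), (6461, 6461), (6462, 6462), (6463, 6463)]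
    ⟨e3 q6400 L95001 q5123, e3 q6401 L95018 q5125, e3 q6402 (flp_a L137770) q7895, e3 q6403 (flp_a L137777) q7896, e3 q6404 (flp_a L576813) q7843, e3 q6405 (flp_a L576061) q7201, e3 q6406 (flp_a L591832) q7200, e3 q6407 (flp_a L575337) q6697, e3 q6408 L95444 q5133, e3 q6409 L95454 q5134, e3 q6410 L95474 q5136, e3 q6411 L95525 q5138, e3 q6412 L95536 q5139, e3 q6413 (flp_a L138421) q7904, e3 q6414 (flp_a L138431) q7905, e3 q6415 (flp_a L138439) q7906, e3 q6416 (flp_a L138448) q7907, e3 q6417 (flp_a L551507) q7861, e3 q6418 L551404 q7860, e3 q6419 (flp_a L590768) q7862, e3 q6420 (flp_a L624664) q5179, e3 q6421 L580344 q7881, e3 q6422 L95945 q5154, e3 q6423 L95953 q5155, e3 q6424 L95961 q5156, e3 q6425 L95968 q5157, e3 q6426 (flp_a L139142) q7916, e3 q6427 (flp_a L139151) q7917, e3 q6428 (flp_a L139160) q7918, e3 q6429 (flp_a L590577) q7857, e3 q6430 (flp_a L139177) q7919, e3 q6431 (flp_a L590417) q7856, e3 q6432 (flp_a L575820) q7257, e3 q6433 (flp_a L592435) q7260, e3 q6434 (flp_a L575956) q7258, e3 q6435 (flp_a L575806) q6734,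 e3 q6436 L575689 q6735, e3 q6437 L96410 q5172, e3 q6438 L96418 q5173, e3 q6439 L96424 q5174, e3 q6440 L96434 q5175, e3 q6441 L96509 q5180, e3 q6442 L96520 q5181, e3 q6443 L96532 q5182, e3 q6444 L96542 q5183, e3 q6445 (flp_a L139738) q7933, e3 q6446 (flp_a L139747) q7934, e3 q6447 (flp_a L139756) q7935, e3 q6448 L537051 q6929, e3 q6449 (flp_a L139770) q7936, e3 q6450 L616554 q7915, e3 q6451 (flp_a L543908) q7031, e3 q6452 L580283 q7032, e3 q6453 (flp_a L543925) q6928, e3 q6454 L537090 q6923, e3 q6455 (flp_a L139915) q7937, e3 q6456 L428971 q6456, e3 q6457 (flp_a L616789) q5280, e3 q6458 L624333 q5279, e3 q6459 L429047 q6459, e3 q6460 L96780 q6460, e3 q6461 L96787 q6461, e3 q6462 L96794 q6462, e3 q6463 L96802 q6463, trivial⟩ (by decide +kernel)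

theorem ce_a_101 : ∀ r, r < 64 → sm ga (Qf (6464 + r)) = Qf (tab Gen.a (6464 + r)) :=
  edges_tab (sm ga) Qf (tab Gen.a) 6464 [(6464, 6464), (6465, 5197), (6466, 5198), (6467, 5199), (6468, 5200), (6469, 5201), (6470, 7957), (6471, 7958), (6472, 7959), (6473, 7960), (6474, 7961), (6475, 5206), (6476, 5207), (6477, 5209), (6478, 6559), (6479, 6645), (6480, 7114), (6481, 7163), (6482, 7162), (6483, 6673), (6484, 5217), (6485, 5218), (6486, 5219), (6487, 6566), (6488, 6666), (6489, 7135), (6490, 7973), (6491, 7134), (6492, 7131), (6493, 7133), (6494, 7206), (6495, 7204), (6496, 6699), (6497, 6700), (6498, 7264), (6499, 7263), (6500, 6739), (6501, 6741), (6502, 5235), (6503, 5236), (6504, 5237), (6505, 6553), (6506, 6629), (6507, 7115), (6508, 7989), (6509, 7104), (6510, 7113), (6511, 6634), (6512, 6623), (6513, 6635), (6514, 6675), (6515, 5247), (6516, 7132), (6517, 6653), (6518, 7136), (6519, 6652), (6520, 6654), (6521, 6703), (6522, 6522), (6523, 6523), (6524, 6524), (6525, 6525), (6526, 7834), (6527, 6540)]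
    ⟨e3 q6464 L96812 q6464, e3 q6465 L96823 q5197, e3 q6466 L96830 q5198, e3 q6467 L96837 q5199, e3 q6468 L96844 q5200, e3 q6469 L96851 q5201, e3 q6470 (flp_a L140269) q7957, e3 q6471 (flp_a L140275) q7958, e3 q6472 (flp_a L140283) q7959, e3 q6473 (flp_a L140291) q7960, e3 q6474 (flp_a L140299) q7961, e3 q6475 L96965 q5206, e3 q6476 L96975 q5207, e3 q6477 L96996 q5209, e3 q6478 (flp_a L637789) q6559, e3 q6479 L644842 q6645, e3 q6480 L567575 q7114, e3 q6481 (flp_a L592722) q7163, e3 q6482 L592086 q7162, e3 q6483 (flp_a L575351) q6673, e3 q6484 L97517 q5217, e3 q6485 L97526 q5218, e3 q6486 L97533 q5219, e3 q6487 (flp_a L643625) q6566, e3 q6488 L642294 q6666, e3 q6489 L567646 q7135, e3 q6490 (flp_a L141276) q7973, e3 q6491 L567678 q7134, e3 q6492 (flp_a L566995) q7131, e3 q6493 L567672 q7133, e3 q6494 L592460 q7206, e3 q6495 L591976 q7204, e3 q6496 (flp_a L575232) q6699, e3 q6497 L575226 q6700, e3 q6498 (flp_a L592431) q7264, e3 q6499 L567935 q7263, e3 q6500 L575073 q6739, e3 q6501 L575178 q6741, e3 q6502 L98305 q5235, e3 q6503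 L98315 q5236, e3 q6504 L98323 q5237, e3 q6505 (flp_a L643537) q6553, e3 q6506 (flp_a L643463) q6629, e3 q6507 (flp_a L567496) q7115, e3 q6508 (flp_a L142344) q7989, e3 q6509 L593732 q7104, e3 q6510 L567463 q7113, e3 q6511 (flp_a L567460) q6634, e3 q6512 (flp_a L567211) q6623, e3 q6513 L574740 q6635, e3 q6514 L574732 q6675, e3 q6515 L98876 q5247, e3 q6516 L566752 q7132, e3 q6517 (flp_a L567353) q6653, e3 q6518 L567364 q7136, e3 q6519 (flp_a L567319) q6652, e3 q6520 L567060 q6654, e3 q6521 (flp_a L574574) q6703, e3 q6522 L99257 q6522, e3 q6523 L99266 q6523, e3 q6524 L99287 q6524, e3 q6525 L99316 q6525, e3 q6526 (flp_a L130494) q7834, e3 q6527 L639281 q6540, trivial⟩ (by decide +kernel)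

theorem ce_a_102 : ∀ r, r < 64 → sm ga (Qf (6528 + r)) = Qf (tab Gen.a (6528 + r)) :=
  edges_tab (sm ga) Qf (tab Gen.a) 6528 [(6528, 6544), (6529, 6529), (6530, 6548), (6531, 6531), (6532, 6532), (6533, 6533), (6534, 6534), (6535, 6535), (6536, 6536), (6537, 6537), (6538, 6538), (6539, 6539), (6540, 6527), (6541, 6541), (6542, 6542), (6543, 5290), (6544, 6528), (6545, 6545), (6546, 6546), (6547, 6547), (6548, 6530), (6549, 6549), (6550, 6550), (6551, 6551), (6552, 5298), (6553, 6505), (6554, 6554), (6555, 6555), (6556, 6556), (6557, 5302), (6558, 6306), (6559, 6478), (6560, 6560), (6561, 6561), (6562, 6562), (6563, 6563), (6564, 5308), (6565, 6317), (6566, 6487), (6567, 6567), (6568, 6568), (6569, 6569), (6570, 6570), (6571, 5314), (6572, 5315), (6573, 6147), (6574, 6139), (6575, 8008), (6576, 6138), (6577, 6577), (6578, 6578), (6579, 6579), (6580, 6580), (6581, 6581), (6582, 5322), (6583, 5323), (6584, 5324), (6585, 5325), (6586, 6148), (6587, 8015), (6588, 6141), (6589, 6178), (6590, 8016), (6591, 8017)]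
    ⟨e3 q6528 (flp_a L639553) q6544, e3 q6529 L99935 q6529, e3 q6530 L639456 q6548, e3 q6531 L100704 q6531, e3 q6532 L108499 q6532, e3 q6533 L108507 q6533, e3 q6534 L108525 q6534, e3 q6535 L108534 q6535, e3 q6536 L109087 q6536, e3 q6537 L113547 q6537, e3 q6538 L114579 q6538, e3 q6539 L114589 q6539, e3 q6540 (flp_a L639281) q6527, e3 q6541 L114607 q6541, e3 q6542 L114617 q6542, e3 q6543 (flp_a L114624) q5290, e3 q6544 L639553 q6528, e3 q6545 L114645 q6545, e3 q6546 L114654 q6546, e3 q6547 L114664 q6547, e3 q6548 (flp_a L639456) q6530, e3 q6549 L114697 q6549, e3 q6550 L114713 q6550, e3 q6551 L114722 q6551, e3 q6552 (flp_a L114730) q5298, e3 q6553 L643537 q6505, e3 q6554 L114755 q6554, e3 q6555 L114763 q6555, e3 q6556 L114773 q6556, e3 q6557 L114783 q5302, e3 q6558 (flp_a L640007) q6306, e3 q6559 L637789 q6478, e3 q6560 L114814 q6560, e3 q6561 L114822 q6561, e3 q6562 L114830 q6562, e3 q6563 L114840 q6563, e3 q6564 L114859 q5308, e3 q6565 L639808 q6317, e3 q6566 L643625 q6487, e3 q6567 L114902 q6567, e3 q6568 L114909 q6568, e3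 q6569 L114916 q6569, e3 q6570 L114931 q6570, e3 q6571 L114942 q5314, e3 q6572 L114952 q5315, e3 q6573 L647941 q6147, e3 q6574 L645291 q6139, e3 q6575 (flp_a L166497) q8008, e3 q6576 L643974 q6138, e3 q6577 L115000 q6577, e3 q6578 L115008 q6578, e3 q6579 L115016 q6579, e3 q6580 L115026 q6580, e3 q6581 L115037 q6581, e3 q6582 L115048 q5322, e3 q6583 L115057 q5323, e3 q6584 L115065 q5324, e3 q6585 L115075 q5325, e3 q6586 (flp_a L647886) q6148, e3 q6587 (flp_a L166647) q8015, e3 q6588 L645255 q6141, e3 q6589 (flp_a L645361) q6178, e3 q6590 (flp_a L166673) q8016, e3 q6591 (flp_a L166682) q8017, trivial⟩ (by decide +kernel)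

theorem ce_a_103 : ∀ r, r < 64 → sm ga (Qf (6592 + r)) = Qf (tab Gen.a (6592 + r)) :=
  edges_tab (sm ga) Qf (tab Gen.a) 6592 [(6592, 6175), (6593, 6593), (6594, 6594), (6595, 6595), (6596, 6596), (6597, 6597), (6598, 6598), (6599, 5335), (6600, 5336), (6601, 5337), (6602, 5338), (6603, 5339), (6604, 5340), (6605, 5341), (6606, 6239), (6607, 6189), (6608, 8030), (6609, 8031), (6610, 8032), (6611, 6223), (6612, 8033), (6613, 6177), (6614, 8034), (6615, 8035), (6616, 6616), (6617, 6617), (6618, 6618), (6619, 6619), (6620, 6620), (6621, 6621), (6622, 6622), (6623, 6512), (6624, 6624), (6625, 6625), (6626, 6626), (6627, 5351), (6628, 8060), (6629, 6506), (6630, 6630), (6631, 6631), (6632, 6632), (6633, 6633), (6634, 6511), (6635, 6513), (6636, 6636), (6637, 6637), (6638, 6638), (6639, 6639), (6640, 5360), (6641, 5361), (6642, 5718), (6643, 8073), (6644, 5716), (6645, 6479), (6646, 6646), (6647, 6647), (6648, 6648), (6649, 6649), (6650, 6650), (6651, 5747), (6652, 6519), (6653, 6517), (6654, 6520), (6655, 6655)]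
    ⟨e3 q6592 L643895 q6175, e3 q6593 L115144 q6593, e3 q6594 L115151 q6594, e3 q6595 L115158 q6595, e3 q6596 L115167 q6596, e3 q6597 L115177 q6597, e3 q6598 L115190 q6598, e3 q6599 L115194 q5335, e3 q6600 L115203 q5336, e3 q6601 L115211 q5337, e3 q6602 L115220 q5338, e3 q6603 L115228 q5339, e3 q6604 L115238 q5340, e3 q6605 L115248 q5341, e3 q6606 (flp_a L647685) q6239, e3 q6607 (flp_a L647698) q6189, e3 q6608 (flp_a L166878) q8030, e3 q6609 (flp_a L166887) q8031, e3 q6610 (flp_a L166895) q8032, e3 q6611 (flp_a L647710) q6223, e3 q6612 (flp_a L166913) q8033, e3 q6613 L640674 q6177, e3 q6614 (flp_a L166931) q8034, e3 q6615 (flp_a L166940) q8035, e3 q6616 L115339 q6616, e3 q6617 L115346 q6617, e3 q6618 L115355 q6618, e3 q6619 L115363 q6619, e3 q6620 L115371 q6620, e3 q6621 L115380 q6621, e3 q6622 L115389 q6622, e3 q6623 L567211 q6512, e3 q6624 L115422 q6624, e3 q6625 L115433 q6625, e3 q6626 L115443 q6626, e3 q6627 L115454 q5351, e3 q6628 (flp_a L167229) q8060, e3 q6629 L643463 q6506, e3 q6630 L115479 q6630, e3 q6631 L115486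 q6631, e3 q6632 L115495 q6632, e3 q6633 L115503 q6633, e3 q6634 L567460 q6511, e3 q6635 (flp_a L574740) q6513, e3 q6636 L115545 q6636, e3 q6637 L115555 q6637, e3 q6638 L115564 q6638, e3 q6639 L115574 q6639, e3 q6640 L115586 q5360, e3 q6641 L115595 q5361, e3 q6642 L641893 q5718, e3 q6643 (flp_a L167445) q8073, e3 q6644 L639958 q5716, e3 q6645 (flp_a L644842) q6479, e3 q6646 L115636 q6646, e3 q6647 L115646 q6647, e3 q6648 L115652 q6648, e3 q6649 L115660 q6649, e3 q6650 L115668 q6650, e3 q6651 (flp_a L641672) q5747, e3 q6652 L567319 q6519, e3 q6653 L567353 q6517, e3 q6654 (flp_a L567060) q6520, e3 q6655 L115734 q6655, trivial⟩ (by decide +kernel)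

theorem ce_a_104 : ∀ r, r < 64 → sm ga (Qf (6656 + r)) = Qf (tab Gen.a (6656 + r)) :=
  edges_tab (sm ga) Qf (tab Gen.a) 6656 [(6656, 6656), (6657, 6657), (6658, 6658), (6659, 6659), (6660, 5375), (6661, 5377), (6662, 5746), (6663, 8090), (6664, 8091), (6665, 5743), (6666, 6488), (6667, 6667), (6668, 6668), (6669, 6669), (6670, 6670), (6671, 6671), (6672, 6389), (6673, 6483), (6674, 6145), (6675, 6514), (6676, 6676), (6677, 6677), (6678, 6678), (6679, 6679), (6680, 6680), (6681, 5391), (6682, 5392), (6683, 5393), (6684, 5394), (6685, 8116), (6686, 8117), (6687, 8118), (6688, 8119), (6689, 8120), (6690, 8121), (6691, 6176), (6692, 6692), (6693, 6693), (6694, 6694), (6695, 6695), (6696, 6696), (6697, 6407), (6698, 5965), (6699, 6496), (6700, 6497), (6701, 6187), (6702, 6188), (6703, 6521), (6704, 6704), (6705, 6705), (6706, 6706), (6707, 6707), (6708, 6708), (6709, 5523), (6710, 5413), (6711, 5414), (6712, 5415), (6713, 5416), (6714, 5417), (6715, 5418), (6716, 5419), (6717, 8158), (6718, 8159), (6719, 8160)]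
    ⟨e3 q6656 L115744 q6656, e3 q6657 L115753 q6657, e3 q6658 L115760 q6658, e3 q6659 L115770 q6659, e3 q6660 L115789 q5375, e3 q6661 L115804 q5377, e3 q6662 L644702 q5746, e3 q6663 (flp_a L167740) q8090, e3 q6664 (flp_a L167749) q8091, e3 q6665 (flp_a L644683) q5743, e3 q6666 (flp_a L642294) q6488, e3 q6667 L115863 q6667, e3 q6668 L115871 q6668, e3 q6669 L115879 q6669, e3 q6670 L115886 q6670, e3 q6671 L115893 q6671, e3 q6672 (flp_a L575384) q6389, e3 q6673 L575351 q6483, e3 q6674 L575413 q6145, e3 q6675 (flp_a L574732) q6514, e3 q6676 L115963 q6676, e3 q6677 L115974 q6677, e3 q6678 L115984 q6678, e3 q6679 L115994 q6679, e3 q6680 L116007 q6680, e3 q6681 L116018 q5391, e3 q6682 L116028 q5392, e3 q6683 L116037 q5393, e3 q6684 L116047 q5394, e3 q6685 (flp_a L168086) q8116, e3 q6686 (flp_a L168095) q8117, e3 q6687 (flp_a L168106) q8118, e3 q6688 (flp_a L168115) q8119, e3 q6689 (flp_a L168123) q8120, e3 q6690 (flp_a L168132) q8121, e3 q6691 L642186 q6176, e3 q6692 L116114 q6692, e3 q6693 L116121 q6693, e3 q6694 L116132 q6694,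 e3 q6695 L116142 q6695, e3 q6696 L116150 q6696, e3 q6697 L575337 q6407, e3 q6698 L575523 q5965, e3 q6699 L575232 q6496, e3 q6700 (flp_a L575226) q6497, e3 q6701 (flp_a L575279) q6187, e3 q6702 L592179 q6188, e3 q6703 L574574 q6521, e3 q6704 L116265 q6704, e3 q6705 L116274 q6705, e3 q6706 L116283 q6706, e3 q6707 L116294 q6707, e3 q6708 L116304 q6708, e3 q6709 L116319 q5523, e3 q6710 L116324 q5413, e3 q6711 L116331 q5414, e3 q6712 L116341 q5415, e3 q6713 L116348 q5416, e3 q6714 L116357 q5417, e3 q6715 L116364 q5418, e3 q6716 L116373 q5419, e3 q6717 (flp_a L168562) q8158, e3 q6718 (flp_a L168570) q8159, e3 q6719 (flp_a L168579) q8160, trivial⟩ (by decide +kernel)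

theorem ce_a_105 : ∀ r, r < 64 → sm ga (Qf (6720 + r)) = Qf (tab Gen.a (6720 + r)) :=
  edges_tab (sm ga) Qf (tab Gen.a) 6720 [(6720, 8161), (6721, 8162), (6722, 8163), (6723, 8164), (6724, 8165), (6725, 8166), (6726, 8167), (6727, 6727), (6728, 6728), (6729, 6729), (6730, 6730), (6731, 6731), (6732, 6732), (6733, 6733), (6734, 6435), (6735, 6436), (6736, 6042), (6737, 5608), (6738, 6043), (6739, 6500), (6740, 6235), (6741, 6501), (6742, 6237), (6743, 6238), (6744, 6744), (6745, 6745), (6746, 6746), (6747, 6747), (6748, 6748), (6749, 6749), (6750, 6750), (6751, 5589), (6752, 5590), (6753, 5445), (6754, 5446), (6755, 5447), (6756, 5448), (6757, 5449), (6758, 5450), (6759, 5451), (6760, 5452), (6761, 5453), (6762, 5454), (6763, 8220), (6764, 8221), (6765, 8222), (6766, 8223), (6767, 8224), (6768, 8225), (6769, 8226), (6770, 8227), (6771, 8228), (6772, 8229), (6773, 8230), (6774, 8231), (6775, 8232), (6776, 8233), (6777, 8234), (6778, 8235), (6779, 6779), (6780, 6780), (6781, 6781), (6782, 6782), (6783, 6783)]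
    ⟨e3 q6720 (flp_a L168587) q8161, e3 q6721 (flp_a L168594) q8162, e3 q6722 (flp_a L168604) q8163, e3 q6723 (flp_a L168611) q8164, e3 q6724 (flp_a L168620) q8165, e3 q6725 (flp_a L168629) q8166, e3 q6726 (flp_a L168638) q8167, e3 q6727 L116459 q6727, e3 q6728 L116468 q6728, e3 q6729 L116475 q6729, e3 q6730 L116484 q6730, e3 q6731 L116489 q6731, e3 q6732 L116498 q6732, e3 q6733 L116507 q6733, e3 q6734 L575806 q6435, e3 q6735 (flp_a L575689) q6436, e3 q6736 L575772 q6042, e3 q6737 L575538 q5608, e3 q6738 (flp_a L575589) q6043, e3 q6739 (flp_a L575073) q6500, e3 q6740 L575781 q6235, e3 q6741 (flp_a L575178) q6501, e3 q6742 L575716 q6237, e3 q6743 L575021 q6238, e3 q6744 L116688 q6744, e3 q6745 L116698 q6745, e3 q6746 L116709 q6746, e3 q6747 L116718 q6747, e3 q6748 L116726 q6748, e3 q6749 L116738 q6749, e3 q6750 L116747 q6750, e3 q6751 L116757 q5589, e3 q6752 L116766 q5590, e3 q6753 L116776 q5445, e3 q6754 L116785 q5446, e3 q6755 L116792 q5447, e3 q6756 L116801 q5448, e3 q6757 L116807 q5449, e3 q6758 L116816 q5450, e3 q6759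 L116824 q5451, e3 q6760 L116834 q5452, e3 q6761 L116842 q5453, e3 q6762 L116849 q5454, e3 q6763 (flp_a L169230) q8220, e3 q6764 (flp_a L169239) q8221, e3 q6765 (flp_a L169247) q8222, e3 q6766 (flp_a L169258) q8223, e3 q6767 (flp_a L169266) q8224, e3 q6768 (flp_a L169274) q8225, e3 q6769 (flp_a L169282) q8226, e3 q6770 (flp_a L169291) q8227, e3 q6771 (flp_a L169299) q8228, e3 q6772 (flp_a L169306) q8229, e3 q6773 (flp_a L169314) q8230, e3 q6774 (flp_a L169323) q8231, e3 q6775 (flp_a L169332) q8232, e3 q6776 (flp_a L169341) q8233, e3 q6777 (flp_a L169351) q8234, e3 q6778 (flp_a L169359) q8235, e3 q6779 L116986 q6779, e3 q6780 L116994 q6780, e3 q6781 L117003 q6781, e3 q6782 L117013 q6782, e3 q6783 L117019 q6783, trivial⟩ (by decide +kernel)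

theorem ce_a_106 : ∀ r, r < 64 → sm ga (Qf (6784 + r)) = Qf (tab Gen.a (6784 + r)) :=
  edges_tab (sm ga) Qf (tab Gen.a) 6784 [(6784, 6784), (6785, 6785), (6786, 6786), (6787, 5463), (6788, 5464), (6789, 8270), (6790, 8271), (6791, 8272), (6792, 8273), (6793, 6793), (6794, 6794), (6795, 6795), (6796, 6796), (6797, 6797), (6798, 5471), (6799, 5472), (6800, 5473), (6801, 5474), (6802, 8287), (6803, 8288), (6804, 8289), (6805, 8290), (6806, 8291), (6807, 8292), (6808, 8293), (6809, 6809), (6810, 6810), (6811, 6811), (6812, 6812), (6813, 6813), (6814, 8115), (6815, 5484), (6816, 5485), (6817, 5486), (6818, 5487), (6819, 5488), (6820, 5489), (6821, 5490), (6822, 8313), (6823, 8314), (6824, 8315), (6825, 8316), (6826, 8317), (6827, 8318), (6828, 8319), (6829, 8320), (6830, 8321), (6831, 8322), (6832, 6832), (6833, 6833), (6834, 6834), (6835, 6835), (6836, 6836), (6837, 6837), (6838, 6838), (6839, 5498), (6840, 5499), (6841, 5500), (6842, 5501), (6843, 8348), (6844, 8349), (6845, 8350), (6846, 8351), (6847, 8352)]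
    ⟨e3 q6784 L117028 q6784, e3 q6785 L117037 q6785, e3 q6786 L117045 q6786, e3 q6787 L117053 q5463, e3 q6788 L117063 q5464, e3 q6789 (flp_a L169643) q8270, e3 q6790 (flp_a L169653) q8271, e3 q6791 (flp_a L169663) q8272, e3 q6792 (flp_a L169674) q8273, e3 q6793 L117113 q6793, e3 q6794 L117122 q6794, e3 q6795 L117130 q6795, e3 q6796 L117140 q6796, e3 q6797 L117151 q6797, e3 q6798 L117163 q5471, e3 q6799 L117175 q5472, e3 q6800 L117186 q5473, e3 q6801 L117196 q5474, e3 q6802 (flp_a L169811) q8287, e3 q6803 (flp_a L169822) q8288, e3 q6804 (flp_a L169833) q8289, e3 q6805 (flp_a L169845) q8290, e3 q6806 (flp_a L169855) q8291, e3 q6807 (flp_a L169864) q8292, e3 q6808 (flp_a L169876) q8293, e3 q6809 L117274 q6809, e3 q6810 L117282 q6810, e3 q6811 L117291 q6811, e3 q6812 L117301 q6812, e3 q6813 L117307 q6813, e3 q6814 (flp_a L168081) q8115, e3 q6815 L117325 q5484, e3 q6816 L117334 q5485, e3 q6817 L117345 q5486, e3 q6818 L117355 q5487, e3 q6819 L117363 q5488, e3 q6820 L117373 q5489, e3 q6821 L117384 q5490, e3 q6822 (flp_a L170057)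 q8313, e3 q6823 (flp_a L170067) q8314, e3 q6824 (flp_a L170075) q8315, e3 q6825 (flp_a L170085) q8316, e3 q6826 (flp_a L170094) q8317, e3 q6827 (flp_a L170105) q8318, e3 q6828 (flp_a L170113) q8319, e3 q6829 (flp_a L170124) q8320, e3 q6830 (flp_a L170134) q8321, e3 q6831 (flp_a L170143) q8322, e3 q6832 L117476 q6832, e3 q6833 L117483 q6833, e3 q6834 L117491 q6834, e3 q6835 L117498 q6835, e3 q6836 L117507 q6836, e3 q6837 L117516 q6837, e3 q6838 L117525 q6838, e3 q6839 L117532 q5498, e3 q6840 L117541 q5499, e3 q6841 L117549 q5500, e3 q6842 L117559 q5501, e3 q6843 (flp_a L170363) q8348, e3 q6844 (flp_a L170371) q8349, e3 q6845 (flp_a L170380) q8350, e3 q6846 (flp_a L170388) q8351, e3 q6847 (flp_a L170398) q8352, trivial⟩ (by decide +kernel)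

theorem ce_a_107 : ∀ r, r < 64 → sm ga (Qf (6848 + r)) = Qf (tab Gen.a (6848 + r)) :=
  edges_tab (sm ga) Qf (tab Gen.a) 6848 [(6848, 8353), (6849, 8354), (6850, 6850), (6851, 6851), (6852, 6852), (6853, 6853), (6854, 6854), (6855, 6346), (6856, 5511), (6857, 5512), (6858, 5513), (6859, 5514), (6860, 5515), (6861, 5516), (6862, 5517), (6863, 8374), (6864, 8375), (6865, 8376), (6866, 8377), (6867, 8378), (6868, 8379), (6869, 8380), (6870, 8381), (6871, 8382), (6872, 8383), (6873, 6873), (6874, 6874), (6875, 6875), (6876, 6876), (6877, 6877), (6878, 6878), (6879, 6879), (6880, 8156), (6881, 8157), (6882, 5531), (6883, 5532), (6884, 5533), (6885, 5534), (6886, 5535), (6887, 5536), (6888, 5537), (6889, 5538), (6890, 5539), (6891, 5540), (6892, 8412), (6893, 8413), (6894, 8414), (6895, 8415), (6896, 8416), (6897, 8417), (6898, 8418), (6899, 8142), (6900, 8419), (6901, 8420), (6902, 8421), (6903, 8422), (6904, 8423), (6905, 8424), (6906, 8425), (6907, 8426), (6908, 6908), (6909, 6909), (6910, 6910), (6911, 6911)]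
    ⟨e3 q6848 (flp_a L170407) q8353, e3 q6849 (flp_a L170418) q8354, e3 q6850 L117631 q6850, e3 q6851 L117639 q6851, e3 q6852 L117646 q6852, e3 q6853 L117655 q6853, e3 q6854 L117665 q6854, e3 q6855 L576284 q6346, e3 q6856 L117684 q5511, e3 q6857 L117693 q5512, e3 q6858 L117703 q5513, e3 q6859 L117713 q5514, e3 q6860 L117724 q5515, e3 q6861 L117731 q5516, e3 q6862 L117742 q5517, e3 q6863 (flp_a L170591) q8374, e3 q6864 (flp_a L170601) q8375, e3 q6865 (flp_a L170612) q8376, e3 q6866 (flp_a L170620) q8377, e3 q6867 (flp_a L170627) q8378, e3 q6868 (flp_a L170639) q8379, e3 q6869 (flp_a L170649) q8380, e3 q6870 (flp_a L170658) q8381, e3 q6871 (flp_a L170669) q8382, e3 q6872 (flp_a L170678) q8383, e3 q6873 L117834 q6873, e3 q6874 L117844 q6874, e3 q6875 L117852 q6875, e3 q6876 L117859 q6876, e3 q6877 L117865 q6877, e3 q6878 L117874 q6878, e3 q6879 L117881 q6879, e3 q6880 (flp_a L168543) q8156, e3 q6881 (flp_a L168551) q8157, e3 q6882 L117905 q5531, e3 q6883 L117913 q5532, e3 q6884 L117922 q5533, e3 q6885 L117930 q5534, e3 q6886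 L117938 q5535, e3 q6887 L117948 q5536, e3 q6888 L117956 q5537, e3 q6889 L117965 q5538, e3 q6890 L117974 q5539, e3 q6891 L117984 q5540, e3 q6892 (flp_a L170918) q8412, e3 q6893 (flp_a L170926) q8413, e3 q6894 (flp_a L170934) q8414, e3 q6895 (flp_a L170944) q8415, e3 q6896 (flp_a L170953) q8416, e3 q6897 (flp_a L170963) q8417, e3 q6898 (flp_a L170971) q8418, e3 q6899 (flp_a L550539) q8142, e3 q6900 (flp_a L170989) q8419, e3 q6901 (flp_a L170998) q8420, e3 q6902 (flp_a L171008) q8421, e3 q6903 (flp_a L171016) q8422, e3 q6904 (flp_a L171025) q8423, e3 q6905 (flp_a L171034) q8424, e3 q6906 (flp_a L171043) q8425, e3 q6907 (flp_a L171053) q8426, e3 q6908 L118112 q6908, e3 q6909 L118120 q6909, e3 q6910 L118129 q6910, e3 q6911 L118136 q6911, trivial⟩ (by decide +kernel)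

theorem ce_a_108 : ∀ r, r < 64 → sm ga (Qf (6912 + r)) = Qf (tab Gen.a (6912 + r)) :=
  edges_tab (sm ga) Qf (tab Gen.a) 6912 [(6912, 6912), (6913, 6913), (6914, 6914), (6915, 6915), (6916, 6916), (6917, 5552), (6918, 5553), (6919, 5555), (6920, 5556), (6921, 5557), (6922, 5558), (6923, 6454), (6924, 8463), (6925, 8464), (6926, 8465), (6927, 8466), (6928, 6453), (6929, 6448), (6930, 8467), (6931, 8468), (6932, 8469), (6933, 6933), (6934, 6934), (6935, 6935), (6936, 6936), (6937, 6937), (6938, 6938), (6939, 6939), (6940, 6373), (6941, 5865), (6942, 5572), (6943, 5573), (6944, 5574), (6945, 5575), (6946, 5576), (6947, 5577), (6948, 5578), (6949, 5579), (6950, 5580), (6951, 5581), (6952, 6073), (6953, 8496), (6954, 8497), (6955, 8498), (6956, 8499), (6957, 8500), (6958, 8501), (6959, 8218), (6960, 8502), (6961, 8503), (6962, 8504), (6963, 8505), (6964, 6066), (6965, 8506), (6966, 8507), (6967, 8508), (6968, 6968), (6969, 6969), (6970, 6970), (6971, 6971), (6972, 6972), (6973, 6973), (6974, 6974), (6975, 6975)]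
    ⟨e3 q6912 L118143 q6912, e3 q6913 L118150 q6913, e3 q6914 L118157 q6914, e3 q6915 L118165 q6915, e3 q6916 L118177 q6916, e3 q6917 L118181 q5552, e3 q6918 L118190 q5553, e3 q6919 L118208 q5555, e3 q6920 L118216 q5556, e3 q6921 L118226 q5557, e3 q6922 L118236 q5558, e3 q6923 (flp_a L537090) q6454, e3 q6924 (flp_a L171342) q8463, e3 q6925 (flp_a L171350) q8464, e3 q6926 (flp_a L171359) q8465, e3 q6927 (flp_a L171367) q8466, e3 q6928 L543925 q6453, e3 q6929 (flp_a L537051) q6448, e3 q6930 (flp_a L171395) q8467, e3 q6931 (flp_a L171404) q8468, e3 q6932 (flp_a L171413) q8469, e3 q6933 L118329 q6933, e3 q6934 L118337 q6934, e3 q6935 L118347 q6935, e3 q6936 L118355 q6936, e3 q6937 L118364 q6937, e3 q6938 L118373 q6938, e3 q6939 L118382 q6939, e3 q6940 L554531 q6373, e3 q6941 (flp_a L554525) q5865, e3 q6942 L118408 q5572, e3 q6943 L118419 q5573, e3 q6944 L118428 q5574, e3 q6945 L118437 q5575, e3 q6946 L118443 q5576, e3 q6947 L118454 q5577, e3 q6948 L118465 q5578, e3 q6949 L118475 q5579, e3 q6950 L118485 q5580, e3 q6951 L118492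 q5581, e3 q6952 L562028 q6073, e3 q6953 (flp_a L171688) q8496, e3 q6954 (flp_a L171698) q8497, e3 q6955 (flp_a L171709) q8498, e3 q6956 (flp_a L171719) q8499, e3 q6957 (flp_a L171727) q8500, e3 q6958 (flp_a L171735) q8501, e3 q6959 L553617 q8218, e3 q6960 (flp_a L171754) q8502, e3 q6961 (flp_a L171761) q8503, e3 q6962 (flp_a L171772) q8504, e3 q6963 (flp_a L171784) q8505, e3 q6964 L561933 q6066, e3 q6965 (flp_a L171803) q8506, e3 q6966 (flp_a L171815) q8507, e3 q6967 (flp_a L171823) q8508, e3 q6968 L118633 q6968, e3 q6969 L118642 q6969, e3 q6970 L118649 q6970, e3 q6971 L118657 q6971, e3 q6972 L118664 q6972, e3 q6973 L118673 q6973, e3 q6974 L118681 q6974, e3 q6975 L118689 q6975, trivial⟩ (by decide +kernel)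

theorem ce_a_109 : ∀ r, r < 64 → sm ga (Qf (6976 + r)) = Qf (tab Gen.a (6976 + r)) :=
  edges_tab (sm ga) Qf (tab Gen.a) 6976 [(6976, 8215), (6977, 8216), (6978, 8217), (6979, 8219), (6980, 5601), (6981, 5602), (6982, 5603), (6983, 5604), (6984, 5605), (6985, 5606), (6986, 5607), (6987, 5609), (6988, 5610), (6989, 5611), (6990, 5612), (6991, 5613), (6992, 5614), (6993, 5615), (6994, 5616), (6995, 8549), (6996, 8550), (6997, 8551), (6998, 8552), (6999, 8553), (7000, 8554), (7001, 8555), (7002, 8556), (7003, 8557), (7004, 8558), (7005, 8559), (7006, 8560), (7007, 8197), (7008, 8199), (7009, 8561), (7010, 8562), (7011, 8563), (7012, 8564), (7013, 8565), (7014, 8566), (7015, 8567), (7016, 8568), (7017, 8569), (7018, 7018), (7019, 7019), (7020, 7020), (7021, 7021), (7022, 7022), (7023, 7023), (7024, 7024), (7025, 7025), (7026, 8615), (7027, 7027), (7028, 7028), (7029, 7029), (7030, 7030), (7031, 6451), (7032, 6452), (7033, 7033), (7034, 7034), (7035, 7035), (7036, 7036), (7037, 7037), (7038, 5641), (7039, 5642)]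
    ⟨e3 q6976 (flp_a L169184) q8215, e3 q6977 (flp_a L169194) q8216, e3 q6978 (flp_a L169202) q8217, e3 q6979 (flp_a L169220) q8219, e3 q6980 L118733 q5601, e3 q6981 L118743 q5602, e3 q6982 L118751 q5603, e3 q6983 L118762 q5604, e3 q6984 L118770 q5605, e3 q6985 L118778 q5606, e3 q6986 L118787 q5607, e3 q6987 L118805 q5609, e3 q6988 L118813 q5610, e3 q6989 L118822 q5611, e3 q6990 L118832 q5612, e3 q6991 L118841 q5613, e3 q6992 L118852 q5614, e3 q6993 L118862 q5615, e3 q6994 L118871 q5616, e3 q6995 (flp_a L172178) q8549, e3 q6996 (flp_a L172187) q8550, e3 q6997 (flp_a L172197) q8551, e3 q6998 (flp_a L172205) q8552, e3 q6999 (flp_a L172214) q8553, e3 q7000 (flp_a L172224) q8554, e3 q7001 (flp_a L172231) q8555, e3 q7002 (flp_a L172242) q8556, e3 q7003 (flp_a L172251) q8557, e3 q7004 (flp_a L172259) q8558, e3 q7005 (flp_a L172267) q8559, e3 q7006 (flp_a L172274) q8560, e3 q7007 (flp_a L550633) q8197, e3 q7008 (flp_a L575574) q8199, e3 q7009 (flp_a L172303) q8561, e3 q7010 (flp_a L172310) q8562, e3 q7011 (flp_a L172319) q8563,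 e3 q7012 (flp_a L172328) q8564, e3 q7013 (flp_a L172338) q8565, e3 q7014 (flp_a L172348) q8566, e3 q7015 (flp_a L172357) q8567, e3 q7016 (flp_a L172367) q8568, e3 q7017 (flp_a L172378) q8569, e3 q7018 L119049 q7018, e3 q7019 L119057 q7019, e3 q7020 L119064 q7020, e3 q7021 L119073 q7021, e3 q7022 L119080 q7022, e3 q7023 L119089 q7023, e3 q7024 L119097 q7024, e3 q7025 L119105 q7025, e3 q7026 L172734 q8615, e3 q7027 L119121 q7027, e3 q7028 L119130 q7028, e3 q7029 L119302 q7029, e3 q7030 L119311 q7030, e3 q7031 L543908 q6451, e3 q7032 (flp_a L580283) q6452, e3 q7033 L119605 q7033, e3 q7034 L119612 q7034, e3 q7035 L119619 q7035, e3 q7036 L119627 q7036, e3 q7037 L119642 q7037, e3 q7038 L119805 q5641, e3 q7039 L119815 q5642, trivial⟩ (by decide +kernel)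

theorem ce_a_110 : ∀ r, r < 64 → sm ga (Qf (7040 + r)) = Qf (tab Gen.a (7040 + r)) :=
  edges_tab (sm ga) Qf (tab Gen.a) 7040 [(7040, 6072), (7041, 6003), (7042, 6070), (7043, 6071), (7044, 8622), (7045, 6067), (7046, 6068), (7047, 6065), (7048, 5992), (7049, 7049), (7050, 7050), (7051, 7051), (7052, 7052), (7053, 7053), (7054, 7054), (7055, 7055), (7056, 7056), (7057, 8645), (7058, 7058), (7059, 7059), (7060, 5662), (7061, 5663), (7062, 5664), (7063, 5665), (7064, 5669), (7065, 5670), (7066, 5671), (7067, 5672), (7068, 5674), (7069, 8648), (7070, 8649), (7071, 8650), (7072, 6114), (7073, 8651), (7074, 8652), (7075, 6107), (7076, 6109), (7077, 6111), (7078, 6113), (7079, 8653), (7080, 8654), (7081, 8655), (7082, 6100), (7083, 8656), (7084, 6101), (7085, 8657), (7086, 6102), (7087, 8684), (7088, 6103), (7089, 6097), (7090, 7090), (7091, 7091), (7092, 7092), (7093, 7093), (7094, 7094), (7095, 7095), (7096, 7096), (7097, 7097), (7098, 8700), (7099, 7099), (7100, 7100), (7101, 5685), (7102, 8703), (7103, 7103)]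
    ⟨e3 q7040 (flp_a L562824) q6072, e3 q7041 L562057 q6003, e3 q7042 (flp_a L563046) q6070, e3 q7043 (flp_a L563011) q6071, e3 q7044 (flp_a L173789) q8622, e3 q7045 L546343 q6067, e3 q7046 (flp_a L562877) q6068, e3 q7047 L561881 q6065, e3 q7048 (flp_a L590606) q5992, e3 q7049 L120065 q7049, e3 q7050 L120075 q7050, e3 q7051 L120084 q7051, e3 q7052 L120091 q7052, e3 q7053 L120102 q7053, e3 q7054 L120108 q7054, e3 q7055 L120119 q7055, e3 q7056 L120125 q7056, e3 q7057 L174227 q8645, e3 q7058 L120138 q7058, e3 q7059 L120147 q7059, e3 q7060 L120238 q5662, e3 q7061 L120245 q5663, e3 q7062 L120253 q5664, e3 q7063 L120262 q5665, e3 q7064 L120354 q5669, e3 q7065 L120362 q5670, e3 q7066 L120372 q5671, e3 q7067 L120382 q5672, e3 q7068 L120399 q5674, e3 q7069 (flp_a L174398) q8648, e3 q7070 (flp_a L174406) q8649, e3 q7071 (flp_a L174414) q8650, e3 q7072 (flp_a L546666) q6114, e3 q7073 (flp_a L174430) q8651, e3 q7074 (flp_a L174438) q8652, e3 q7075 (flp_a L563079) q6107, e3 q7076 (flp_a L562935) q6109, e3 q7077 (flp_a L562771) q6111,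 e3 q7078 L546645 q6113, e3 q7079 (flp_a L174567) q8653, e3 q7080 (flp_a L174576) q8654, e3 q7081 (flp_a L174586) q8655, e3 q7082 L562490 q6100, e3 q7083 (flp_a L174605) q8656, e3 q7084 L563184 q6101, e3 q7085 (flp_a L174624) q8657, e3 q7086 L562501 q6102, e3 q7087 L174978 q8684, e3 q7088 L546518 q6103, e3 q7089 L562382 q6097, e3 q7090 L120666 q7090, e3 q7091 L120676 q7091, e3 q7092 L120683 q7092, e3 q7093 L120692 q7093, e3 q7094 L120700 q7094, e3 q7095 L120707 q7095, e3 q7096 L120716 q7096, e3 q7097 L120724 q7097, e3 q7098 L175111 q8700, e3 q7099 L120739 q7099, e3 q7100 L120748 q7100, e3 q7101 (flp_a L120752) q5685, e3 q7102 (flp_a L175136) q8703, e3 q7103 L120771 q7103, trivial⟩ (by decide +kernel)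

theorem ce_a_111 : ∀ r, r < 64 → sm ga (Qf (7104 + r)) = Qf (tab Gen.a (7104 + r)) :=
  edges_tab (sm ga) Qf (tab Gen.a) 7104 [(7104, 6509), (7105, 6297), (7106, 5698), (7107, 5699), (7108, 8063), (7109, 8706), (7110, 8061), (7111, 7111), (7112, 7112), (7113, 6510), (7114, 6480), (7115, 6507), (7116, 6305), (7117, 7117), (7118, 7118), (7119, 5717), (7120, 5719), (7121, 8077), (7122, 8713), (7123, 8709), (7124, 8074), (7125, 8064), (7126, 7126), (7127, 7127), (7128, 7128), (7129, 7129), (7130, 7130), (7131, 6492), (7132, 6516), (7133, 6493), (7134, 6491), (7135, 6489), (7136, 6518), (7137, 6316), (7138, 7138), (7139, 7139), (7140, 7140), (7141, 5744), (7142, 5745), (7143, 5748), (7144, 8095), (7145, 8097), (7146, 8730), (7147, 8092), (7148, 8723), (7149, 8093), (7150, 8080), (7151, 7151), (7152, 7152), (7153, 7153), (7154, 7154), (7155, 7155), (7156, 7156), (7157, 7157), (7158, 7158), (7159, 7159), (7160, 6388), (7161, 5909), (7162, 6482), (7163, 6481), (7164, 6143), (7165, 6146), (7166, 6315), (7167, 7167)]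
    ⟨e3 q7104 (flp_a L593732) q6509, e3 q7105 L619894 q6297, e3 q7106 L120953 q5698, e3 q7107 L120961 q5699, e3 q7108 (flp_a L643401) q8063, e3 q7109 L621002 q8706, e3 q7110 L641916 q8061, e3 q7111 L121004 q7111, e3 q7112 L121018 q7112, e3 q7113 (flp_a L567463) q6510, e3 q7114 (flp_a L567575) q6480, e3 q7115 L567496 q6507, e3 q7116 (flp_a L621774) q6305, e3 q7117 L121222 q7117, e3 q7118 L121248 q7118, e3 q7119 L121275 q5717, e3 q7120 L121292 q5719, e3 q7121 L644968 q8077, e3 q7122 (flp_a L175899) q8713, e3 q7123 L621199 q8709, e3 q7124 (flp_a L644962) q8074, e3 q7125 (flp_a L641867) q8064, e3 q7126 L121359 q7126, e3 q7127 L121367 q7127, e3 q7128 L121383 q7128, e3 q7129 L121390 q7129, e3 q7130 L121536 q7130, e3 q7131 L566995 q6492, e3 q7132 (flp_a L566752) q6516, e3 q7133 (flp_a L567672) q6493, e3 q7134 (flp_a L567678) q6491, e3 q7135 (flp_a L567646) q6489, e3 q7136 (flp_a L567364) q6518, e3 q7137 L621272 q6316, e3 q7138 L121647 q7138, e3 q7139 L121657 q7139, e3 q7140 L121679 q7140, e3 q7141 L121709 q5744, e3 q7142 L121716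 q5745, e3 q7143 L121739 q5748, e3 q7144 L645160 q8095, e3 q7145 L644641 q8097, e3 q7146 (flp_a L176566) q8730, e3 q7147 (flp_a L645147) q8092, e3 q7148 (flp_a L621347) q8723, e3 q7149 L641696 q8093, e3 q7150 (flp_a L645110) q8080, e3 q7151 L121819 q7151, e3 q7152 L121826 q7152, e3 q7153 L121834 q7153, e3 q7154 L121842 q7154, e3 q7155 L121848 q7155, e3 q7156 L121854 q7156, e3 q7157 L121862 q7157, e3 q7158 L121947 q7158, e3 q7159 L121957 q7159, e3 q7160 L592092 q6388, e3 q7161 (flp_a L591654) q5909, e3 q7162 (flp_a L592086) q6482, e3 q7163 L592722 q6481, e3 q7164 L592702 q6143, e3 q7165 L592171 q6146, e3 q7166 (flp_a L621750) q6315, e3 q7167 L122085 q7167, trivial⟩ (by decide +kernel)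

theorem ce_a_112 : ∀ r, r < 64 → sm ga (Qf (7168 + r)) = Qf (tab Gen.a (7168 + r)) :=
  edges_tab (sm ga) Qf (tab Gen.a) 7168 [(7168, 7168), (7169, 7169), (7170, 7170), (7171, 7171), (7172, 5898), (7173, 5771), (7174, 5772), (7175, 5773), (7176, 5774), (7177, 5775), (7178, 5776), (7179, 5777), (7180, 8761), (7181, 8762), (7182, 8763), (7183, 8764), (7184, 8765), (7185, 8766), (7186, 8767), (7187, 8768), (7188, 8769), (7189, 8770), (7190, 7190), (7191, 7191), (7192, 7192), (7193, 7193), (7194, 7194), (7195, 7195), (7196, 7196), (7197, 7197), (7198, 7198), (7199, 7199), (7200, 6406), (7201, 6405), (7202, 5963), (7203, 5966), (7204, 6495), (7205, 6185), (7206, 6494), (7207, 6183), (7208, 6186), (7209, 7209), (7210, 7210), (7211, 7211), (7212, 7212), (7213, 7213), (7214, 7214), (7215, 7215), (7216, 5948), (7217, 5934), (7218, 5808), (7219, 5809), (7220, 5810), (7221, 5811), (7222, 5812), (7223, 5813), (7224, 5814), (7225, 5815), (7226, 5816), (7227, 5817), (7228, 8817), (7229, 8818), (7230, 8819), (7231, 8820)]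
    ⟨e3 q7168 L122094 q7168, e3 q7169 L122103 q7169, e3 q7170 L122115 q7170, e3 q7171 L122123 q7171, e3 q7172 L122139 q5898, e3 q7173 L122144 q5771, e3 q7174 L122154 q5772, e3 q7175 L122163 q5773, e3 q7176 L122170 q5774, e3 q7177 L122178 q5775, e3 q7178 L122188 q5776, e3 q7179 L122197 q5777, e3 q7180 (flp_a L177206) q8761, e3 q7181 (flp_a L177214) q8762, e3 q7182 (flp_a L177223) q8763, e3 q7183 (flp_a L177233) q8764, e3 q7184 (flp_a L177243) q8765, e3 q7185 (flp_a L177252) q8766, e3 q7186 (flp_a L177259) q8767, e3 q7187 (flp_a L177268) q8768, e3 q7188 (flp_a L177278) q8769, e3 q7189 (flp_a L177287) q8770, e3 q7190 L122294 q7190, e3 q7191 L122300 q7191, e3 q7192 L122309 q7192, e3 q7193 L122318 q7193, e3 q7194 L122324 q7194, e3 q7195 L122333 q7195, e3 q7196 L122344 q7196, e3 q7197 L122460 q7197, e3 q7198 L122476 q7198, e3 q7199 L122486 q7199, e3 q7200 L591832 q6406, e3 q7201 L576061 q6405, e3 q7202 (flp_a L591848) q5963, e3 q7203 L592190 q5966, e3 q7204 (flp_a L591976) q6495, e3 q7205 L592037 q6185, e3 q7206 (flp_a L592460)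 q6494, e3 q7207 L592598 q6183, e3 q7208 L592672 q6186, e3 q7209 L122655 q7209, e3 q7210 L122664 q7210, e3 q7211 L122673 q7211, e3 q7212 L122682 q7212, e3 q7213 L122685 q7213, e3 q7214 L122694 q7214, e3 q7215 L122703 q7215, e3 q7216 L122714 q5948, e3 q7217 (flp_a L576562) q5934, e3 q7218 L122732 q5808, e3 q7219 L122738 q5809, e3 q7220 L122748 q5810, e3 q7221 L122756 q5811, e3 q7222 L122765 q5812, e3 q7223 L122773 q5813, e3 q7224 L122780 q5814, e3 q7225 L122787 q5815, e3 q7226 L122796 q5816, e3 q7227 L122806 q5817, e3 q7228 (flp_a L178085) q8817, e3 q7229 (flp_a L178091) q8818, e3 q7230 (flp_a L178099) q8819, e3 q7231 (flp_a L178107) q8820, trivial⟩ (by decide +kernel)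

theorem ce_a_113 : ∀ r, r < 64 → sm ga (Qf (7232 + r)) = Qf (tab Gen.a (7232 + r)) :=
  edges_tab (sm ga) Qf (tab Gen.a) 7232 [(7232, 8821), (7233, 8822), (7234, 8823), (7235, 8373), (7236, 8824), (7237, 8825), (7238, 8826), (7239, 8827), (7240, 8828), (7241, 8829), (7242, 8830), (7243, 8831), (7244, 7244), (7245, 7245), (7246, 7246), (7247, 7247), (7248, 7248), (7249, 7249), (7250, 7250), (7251, 7251), (7252, 7252), (7253, 7253), (7254, 7254), (7255, 7255), (7256, 7256), (7257, 6432), (7258, 6434), (7259, 6040), (7260, 6433), (7261, 6038), (7262, 6041), (7263, 6499), (7264, 6498), (7265, 6233), (7266, 6229), (7267, 6236), (7268, 6231), (7269, 6234), (7270, 7270), (7271, 7271), (7272, 7272), (7273, 7273), (7274, 7274), (7275, 7275), (7276, 7276), (7277, 7277), (7278, 6015), (7279, 6016), (7280, 5997), (7281, 5999), (7282, 5858), (7283, 5859), (7284, 5860), (7285, 5861), (7286, 5862), (7287, 5863), (7288, 5864), (7289, 5866), (7290, 5867), (7291, 5868), (7292, 5869), (7293, 5870), (7294, 5871), (7295, 5872)]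
    ⟨e3 q7232 (flp_a L178117) q8821, e3 q7233 (flp_a L178127) q8822, e3 q7234 (flp_a L178136) q8823, e3 q7235 (flp_a L576247) q8373, e3 q7236 (flp_a L178153) q8824, e3 q7237 (flp_a L178162) q8825, e3 q7238 (flp_a L178169) q8826, e3 q7239 (flp_a L178176) q8827, e3 q7240 (flp_a L178185) q8828, e3 q7241 (flp_a L178191) q8829, e3 q7242 (flp_a L178198) q8830, e3 q7243 (flp_a L178208) q8831, e3 q7244 L122940 q7244, e3 q7245 L122949 q7245, e3 q7246 L122958 q7246, e3 q7247 L122967 q7247, e3 q7248 L122973 q7248, e3 q7249 L122982 q7249, e3 q7250 L122988 q7250, e3 q7251 L122994 q7251, e3 q7252 L123178 q7252, e3 q7253 L123186 q7253, e3 q7254 L123194 q7254, e3 q7255 L123203 q7255, e3 q7256 L123212 q7256, e3 q7257 L575820 q6432, e3 q7258 L575956 q6434, e3 q7259 (flp_a L575802) q6040, e3 q7260 L592435 q6433, e3 q7261 L592396 q6038, e3 q7262 L592345 q6041, e3 q7263 (flp_a L567935) q6499, e3 q7264 L592431 q6498, e3 q7265 L592389 q6233, e3 q7266 L547467 q6229, e3 q7267 L592334 q6236, e3 q7268 L592571 q6231, e3 q7269 L592538 q6234, e3 q7270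 L123467 q7270, e3 q7271 L123477 q7271, e3 q7272 L123484 q7272, e3 q7273 L123494 q7273, e3 q7274 L123500 q7274, e3 q7275 L123511 q7275, e3 q7276 L123518 q7276, e3 q7277 L123524 q7277, e3 q7278 L123534 q6015, e3 q7279 L123542 q6016, e3 q7280 L553176 q5997, e3 q7281 (flp_a L526889) q5999, e3 q7282 L123578 q5858, e3 q7283 L123586 q5859, e3 q7284 L123594 q5860, e3 q7285 L123603 q5861, e3 q7286 L123612 q5862, e3 q7287 L123620 q5863, e3 q7288 L123630 q5864, e3 q7289 L123647 q5866, e3 q7290 L123655 q5867, e3 q7291 L123661 q5868, e3 q7292 L123670 q5869, e3 q7293 L123679 q5870, e3 q7294 L123687 q5871, e3 q7295 L123695 q5872, trivial⟩ (by decide +kernel)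

theorem ce_a_114 : ∀ r, r < 64 → sm ga (Qf (7296 + r)) = Qf (tab Gen.a (7296 + r)) :=
  edges_tab (sm ga) Qf (tab Gen.a) 7296 [(7296, 5873), (7297, 8904), (7298, 8905), (7299, 8906), (7300, 8907), (7301, 8908), (7302, 8909), (7303, 8910), (7304, 8911), (7305, 8912), (7306, 8913), (7307, 8914), (7308, 8915), (7309, 8494), (7310, 8495), (7311, 8916), (7312, 8917), (7313, 8918), (7314, 8919), (7315, 8920), (7316, 8921), (7317, 8922), (7318, 8923), (7319, 7319), (7320, 7320), (7321, 7321), (7322, 7322), (7323, 7323), (7324, 7324), (7325, 7325), (7326, 7326), (7327, 8967), (7328, 7328), (7329, 7329), (7330, 6328), (7331, 5886), (7332, 5887), (7333, 5888), (7334, 5889), (7335, 5890), (7336, 5891), (7337, 5892), (7338, 8971), (7339, 8972), (7340, 8973), (7341, 8760), (7342, 8974), (7343, 8975), (7344, 8976), (7345, 8977), (7346, 8978), (7347, 8979), (7348, 7348), (7349, 7349), (7350, 7350), (7351, 7351), (7352, 7352), (7353, 7353), (7354, 7354), (7355, 8759), (7356, 5906), (7357, 5907), (7358, 5908), (7359, 5910)]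
    ⟨e3 q7296 L123704 q5873, e3 q7297 (flp_a L179365) q8904, e3 q7298 (flp_a L179374) q8905, e3 q7299 (flp_a L179382) q8906, e3 q7300 (flp_a L179388) q8907, e3 q7301 (flp_a L179397) q8908, e3 q7302 (flp_a L179407) q8909, e3 q7303 (flp_a L179412) q8910, e3 q7304 (flp_a L179421) q8911, e3 q7305 (flp_a L179430) q8912, e3 q7306 (flp_a L179439) q8913, e3 q7307 (flp_a L179447) q8914, e3 q7308 (flp_a L179455) q8915, e3 q7309 L554509 q8494, e3 q7310 (flp_a L554626) q8495, e3 q7311 (flp_a L179489) q8916, e3 q7312 (flp_a L179497) q8917, e3 q7313 (flp_a L179504) q8918, e3 q7314 (flp_a L179514) q8919, e3 q7315 (flp_a L179523) q8920, e3 q7316 (flp_a L179532) q8921, e3 q7317 (flp_a L179539) q8922, e3 q7318 (flp_a L179548) q8923, e3 q7319 L123895 q7319, e3 q7320 L123902 q7320, e3 q7321 L123911 q7321, e3 q7322 L123917 q7322, e3 q7323 L123924 q7323, e3 q7324 L123932 q7324, e3 q7325 L123942 q7325, e3 q7326 L123951 q7326, e3 q7327 L179917 q8967, e3 q7328 L123966 q7328, e3 q7329 L123975 q7329, e3 q7330 L576265 q6328, e3 q7331 L123991 q5886,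 e3 q7332 L124003 q5887, e3 q7333 L124012 q5888, e3 q7334 L124022 q5889, e3 q7335 L124032 q5890, e3 q7336 L124042 q5891, e3 q7337 L124053 q5892, e3 q7338 (flp_a L179962) q8971, e3 q7339 (flp_a L179972) q8972, e3 q7340 (flp_a L179983) q8973, e3 q7341 L550983 q8760, e3 q7342 (flp_a L180003) q8974, e3 q7343 (flp_a L180014) q8975, e3 q7344 (flp_a L180024) q8976, e3 q7345 (flp_a L180033) q8977, e3 q7346 (flp_a L180045) q8978, e3 q7347 (flp_a L180054) q8979, e3 q7348 L124156 q7348, e3 q7349 L124163 q7349, e3 q7350 L124173 q7350, e3 q7351 L124180 q7351, e3 q7352 L124187 q7352, e3 q7353 L124196 q7353, e3 q7354 L124205 q7354, e3 q7355 (flp_a L177185) q8759, e3 q7356 L124231 q5906, e3 q7357 L124239 q5907, e3 q7358 L124248 q5908, e3 q7359 L124269 q5910, trivial⟩ (by decide +kernel)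

theorem ce_a_115 : ∀ r, r < 64 → sm ga (Qf (7360 + r)) = Qf (tab Gen.a (7360 + r)) :=
  edges_tab (sm ga) Qf (tab Gen.a) 7360 [(7360, 5911), (7361, 5912), (7362, 5913), (7363, 5914), (7364, 5915), (7365, 9000), (7366, 9001), (7367, 9002), (7368, 9003), (7369, 9004), (7370, 8750), (7371, 9005), (7372, 8104), (7373, 8751), (7374, 9006), (7375, 9007), (7376, 9008), (7377, 9009), (7378, 9010), (7379, 9011), (7380, 9012), (7381, 7381), (7382, 7382), (7383, 7383), (7384, 7384), (7385, 7385), (7386, 7386), (7387, 7387), (7388, 7388), (7389, 6345), (7390, 5931), (7391, 5932), (7392, 5933), (7393, 5935), (7394, 5936), (7395, 5937), (7396, 5938), (7397, 5939), (7398, 5940), (7399, 9048), (7400, 9049), (7401, 9050), (7402, 9051), (7403, 9052), (7404, 8815), (7405, 9053), (7406, 8816), (7407, 9054), (7408, 9055), (7409, 9056), (7410, 9057), (7411, 9058), (7412, 9059), (7413, 9060), (7414, 7414), (7415, 7415), (7416, 7416), (7417, 7417), (7418, 7418), (7419, 7419), (7420, 7420), (7421, 7421), (7422, 8813), (7423, 8814)]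
    ⟨e3 q7360 L124278 q5911, e3 q7361 L124286 q5912, e3 q7362 L124295 q5913, e3 q7363 L124305 q5914, e3 q7364 L124315 q5915, e3 q7365 (flp_a L180316) q9000, e3 q7366 (flp_a L180325) q9001, e3 q7367 (flp_a L180333) q9002, e3 q7368 (flp_a L180343) q9003, e3 q7369 (flp_a L180354) q9004, e3 q7370 (flp_a L591665) q8750, e3 q7371 (flp_a L180375) q9005, e3 q7372 L575422 q8104, e3 q7373 L591673 q8751, e3 q7374 (flp_a L180407) q9006, e3 q7375 (flp_a L180414) q9007, e3 q7376 (flp_a L180424) q9008, e3 q7377 (flp_a L180433) q9009, e3 q7378 (flp_a L180443) q9010, e3 q7379 (flp_a L180452) q9011, e3 q7380 (flp_a L180464) q9012, e3 q7381 L124459 q7381, e3 q7382 L124466 q7382, e3 q7383 L124472 q7383, e3 q7384 L124481 q7384, e3 q7385 L124489 q7385, e3 q7386 L124496 q7386, e3 q7387 L124504 q7387, e3 q7388 L124513 q7388, e3 q7389 L576483 q6345, e3 q7390 L124539 q5931, e3 q7391 L124547 q5932, e3 q7392 L124559 q5933, e3 q7393 L124576 q5935, e3 q7394 L124586 q5936, e3 q7395 L124596 q5937, e3 q7396 L124603 q5938, e3 q7397 L124614 q5939, e3 q7398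 L124624 q5940, e3 q7399 (flp_a L180789) q9048, e3 q7400 (flp_a L180798) q9049, e3 q7401 (flp_a L180808) q9050, e3 q7402 (flp_a L180816) q9051, e3 q7403 (flp_a L180828) q9052, e3 q7404 (flp_a L576379) q8815, e3 q7405 (flp_a L180847) q9053, e3 q7406 L576549 q8816, e3 q7407 (flp_a L180875) q9054, e3 q7408 (flp_a L180885) q9055, e3 q7409 (flp_a L180895) q9056, e3 q7410 (flp_a L180904) q9057, e3 q7411 (flp_a L180911) q9058, e3 q7412 (flp_a L180920) q9059, e3 q7413 (flp_a L180930) q9060, e3 q7414 L124762 q7414, e3 q7415 L124772 q7415, e3 q7416 L124779 q7416, e3 q7417 L124786 q7417, e3 q7418 L124793 q7418, e3 q7419 L124802 q7419, e3 q7420 L124807 q7420, e3 q7421 L124813 q7421, e3 q7422 (flp_a L178039) q8813, e3 q7423 (flp_a L178046) q8814, trivial⟩ (by decide +kernel)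

theorem ce_a_116 : ∀ r, r < 64 → sm ga (Qf (7424 + r)) = Qf (tab Gen.a (7424 + r)) :=
  edges_tab (sm ga) Qf (tab Gen.a) 7424 [(7424, 5958), (7425, 5959), (7426, 5960), (7427, 5961), (7428, 5962), (7429, 5964), (7430, 5967), (7431, 5968), (7432, 5969), (7433, 5970), (7434, 5971), (7435, 5972), (7436, 5973), (7437, 9093), (7438, 9094), (7439, 9095), (7440, 9096), (7441, 9097), (7442, 9098), (7443, 9099), (7444, 9100), (7445, 8799), (7446, 9101), (7447, 8797), (7448, 8800), (7449, 8141), (7450, 8143), (7451, 9102), (7452, 9103), (7453, 9104), (7454, 9105), (7455, 9106), (7456, 9107), (7457, 9108), (7458, 9109), (7459, 7459), (7460, 7460), (7461, 7461), (7462, 7462), (7463, 7463), (7464, 7464), (7465, 7465), (7466, 7466), (7467, 9153), (7468, 7468), (7469, 7469), (7470, 6372), (7471, 6371), (7472, 5993), (7473, 5994), (7474, 5995), (7475, 5996), (7476, 5998), (7477, 6000), (7478, 6001), (7479, 6002), (7480, 6004), (7481, 6005), (7482, 6006), (7483, 8632), (7484, 8529), (7485, 9158), (7486, 9159), (7487, 9160)]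
    ⟨e3 q7424 L124859 q5958, e3 q7425 L124866 q5959, e3 q7426 L124874 q5960, e3 q7427 L124882 q5961, e3 q7428 L124892 q5962, e3 q7429 L124912 q5964, e3 q7430 L124940 q5967, e3 q7431 L124948 q5968, e3 q7432 L124956 q5969, e3 q7433 L124965 q5970, e3 q7434 L124973 q5971, e3 q7435 L124980 q5972, e3 q7436 L124991 q5973, e3 q7437 (flp_a L181275) q9093, e3 q7438 (flp_a L181284) q9094, e3 q7439 (flp_a L181291) q9095, e3 q7440 (flp_a L181299) q9096, e3 q7441 (flp_a L181307) q9097, e3 q7442 (flp_a L181317) q9098, e3 q7443 (flp_a L181321) q9099, e3 q7444 (flp_a L181329) q9100, e3 q7445 (flp_a L576052) q8799, e3 q7446 (flp_a L181351) q9101, e3 q7447 (flp_a L591860) q8797, e3 q7448 L591866 q8800, e3 q7449 (flp_a L575269) q8141, e3 q7450 (flp_a L575560) q8143, e3 q7451 (flp_a L181407) q9102, e3 q7452 (flp_a L181417) q9103, e3 q7453 (flp_a L181426) q9104, e3 q7454 (flp_a L181435) q9105, e3 q7455 (flp_a L181445) q9106, e3 q7456 (flp_a L181454) q9107, e3 q7457 (flp_a L181461) q9108, e3 q7458 (flp_a L181470) q9109, e3 q7459 L125169 q7459,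 e3 q7460 L125175 q7460, e3 q7461 L125184 q7461, e3 q7462 L125190 q7462, e3 q7463 L125197 q7463, e3 q7464 L125205 q7464, e3 q7465 L125212 q7465, e3 q7466 L125220 q7466, e3 q7467 L181809 q9153, e3 q7468 L125234 q7468, e3 q7469 L125241 q7469, e3 q7470 L554374 q6372, e3 q7471 L576490 q6371, e3 q7472 L125298 q5993, e3 q7473 L125308 q5994, e3 q7474 L125317 q5995, e3 q7475 L125328 q5996, e3 q7476 L125346 q5998, e3 q7477 L125373 q6000, e3 q7478 L125382 q6001, e3 q7479 L125394 q6002, e3 q7480 L125412 q6004, e3 q7481 L125422 q6005, e3 q7482 L125431 q6006, e3 q7483 L561875 q8632, e3 q7484 L561927 q8529, e3 q7485 (flp_a L181935) q9158, e3 q7486 (flp_a L181943) q9159, e3 q7487 (flp_a L181954) q9160, trivial⟩ (by decide +kernel)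

theorem ce_a_117 : ∀ r, r < 64 → sm ga (Qf (7488 + r)) = Qf (tab Gen.a (7488 + r)) :=
  edges_tab (sm ga) Qf (tab Gen.a) 7488 [(7488, 9161), (7489, 9162), (7490, 9163), (7491, 8902), (7492, 9164), (7493, 8900), (7494, 8903), (7495, 9165), (7496, 9166), (7497, 9167), (7498, 8625), (7499, 9168), (7500, 8510), (7501, 8626), (7502, 9169), (7503, 7503), (7504, 7504), (7505, 7505), (7506, 7506), (7507, 7507), (7508, 7508), (7509, 7509), (7510, 7510), (7511, 9209), (7512, 7512), (7513, 7513), (7514, 8898), (7515, 8899), (7516, 8901), (7517, 6030), (7518, 6031), (7519, 6032), (7520, 6033), (7521, 6034), (7522, 6035), (7523, 6036), (7524, 6037), (7525, 6039), (7526, 6044), (7527, 6045), (7528, 6046), (7529, 6047), (7530, 6048), (7531, 6049), (7532, 6050), (7533, 6051), (7534, 9216), (7535, 9217), (7536, 9218), (7537, 9219), (7538, 9220), (7539, 9221), (7540, 9222), (7541, 9223), (7542, 9224), (7543, 9225), (7544, 9226), (7545, 8875), (7546, 9227), (7547, 8877), (7548, 9228), (7549, 8874), (7550, 8878), (7551, 8194)]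
    ⟨e3 q7488 (flp_a L181964) q9161, e3 q7489 (flp_a L181969) q9162, e3 q7490 (flp_a L181980) q9163, e3 q7491 L554133 q8902, e3 q7492 (flp_a L181998) q9164, e3 q7493 L553275 q8900, e3 q7494 (flp_a L553200) q8903, e3 q7495 (flp_a L182052) q9165, e3 q7496 (flp_a L182063) q9166, e3 q7497 (flp_a L182070) q9167, e3 q7498 L562081 q8625, e3 q7499 (flp_a L182090) q9168, e3 q7500 L543031 q8510, e3 q7501 (flp_a L562093) q8626, e3 q7502 (flp_a L182118) q9169, e3 q7503 L125617 q7503, e3 q7504 L125625 q7504, e3 q7505 L125632 q7505, e3 q7506 L125639 q7506, e3 q7507 L125646 q7507, e3 q7508 L125655 q7508, e3 q7509 L125665 q7509, e3 q7510 L125673 q7510, e3 q7511 L182475 q9209, e3 q7512 L125687 q7512, e3 q7513 L125694 q7513, e3 q7514 (flp_a L179270) q8898, e3 q7515 (flp_a L179279) q8899, e3 q7516 (flp_a L179298) q8901, e3 q7517 L125779 q6030, e3 q7518 L125789 q6031, e3 q7519 L125798 q6032, e3 q7520 L125804 q6033, e3 q7521 L125813 q6034, e3 q7522 L125823 q6035, e3 q7523 L125828 q6036, e3 q7524 L125837 q6037, e3 q7525 L125856 q6039, e3 q7526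 L125911 q6044, e3 q7527 L125920 q6045, e3 q7528 L125927 q6046, e3 q7529 L125937 q6047, e3 q7530 L125948 q6048, e3 q7531 L125957 q6049, e3 q7532 L125966 q6050, e3 q7533 L125976 q6051, e3 q7534 (flp_a L182644) q9216, e3 q7535 (flp_a L182652) q9217, e3 q7536 (flp_a L182663) q9218, e3 q7537 (flp_a L182673) q9219, e3 q7538 (flp_a L182680) q9220, e3 q7539 (flp_a L182689) q9221, e3 q7540 (flp_a L182697) q9222, e3 q7541 (flp_a L182705) q9223, e3 q7542 (flp_a L182716) q9224, e3 q7543 (flp_a L182722) q9225, e3 q7544 (flp_a L182732) q9226, e3 q7545 (flp_a L575794) q8875, e3 q7546 (flp_a L182746) q9227, e3 q7547 (flp_a L575929) q8877, e3 q7548 (flp_a L182764) q9228, e3 q7549 (flp_a L575921) q8874, e3 q7550 (flp_a L575884) q8878, e3 q7551 L575790 q8194, trivial⟩ (by decide +kernel)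

theorem ce_a_118 : ∀ r, r < 64 → sm ga (Qf (7552 + r)) = Qf (tab Gen.a (7552 + r)) :=
  edges_tab (sm ga) Qf (tab Gen.a) 7552 [(7552, 8876), (7553, 8196), (7554, 8198), (7555, 9229), (7556, 9230), (7557, 9231), (7558, 9232), (7559, 9233), (7560, 9234), (7561, 9235), (7562, 9236), (7563, 9282), (7564, 9238), (7565, 8666), (7566, 7566), (7567, 7567), (7568, 7568), (7569, 7569), (7570, 7570), (7571, 7571), (7572, 7572), (7573, 7573), (7574, 9298), (7575, 7575), (7576, 7576), (7577, 6060), (7578, 9301), (7579, 7579), (7580, 6069), (7581, 8630), (7582, 8631), (7583, 8527), (7584, 8530), (7585, 8629), (7586, 9304), (7587, 8627), (7588, 8623), (7589, 8624), (7590, 8509), (7591, 9317), (7592, 7592), (7593, 7593), (7594, 7594), (7595, 7595), (7596, 7596), (7597, 7597), (7598, 7598), (7599, 7599), (7600, 9331), (7601, 7601), (7602, 7602), (7603, 6082), (7604, 9334), (7605, 7605), (7606, 6094), (7607, 6095), (7608, 6096), (7609, 6098), (7610, 6099), (7611, 6104), (7612, 6105), (7613, 6106), (7614, 6108), (7615, 6110)]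
    ⟨e3 q7552 (flp_a L575877) q8876, e3 q7553 L575721 q8196, e3 q7554 (flp_a L575743) q8198, e3 q7555 (flp_a L182852) q9229, e3 q7556 (flp_a L182860) q9230, e3 q7557 (flp_a L182869) q9231, e3 q7558 (flp_a L182878) q9232, e3 q7559 (flp_a L182885) q9233, e3 q7560 (flp_a L182897) q9234, e3 q7561 (flp_a L182907) q9235, e3 q7562 (flp_a L182917) q9236, e3 q7563 L183292 q9282, e3 q7564 (flp_a L182936) q9238, e3 q7565 L546688 q8666, e3 q7566 L126240 q7566, e3 q7567 L126246 q7567, e3 q7568 L126255 q7568, e3 q7569 L126262 q7569, e3 q7570 L126269 q7570, e3 q7571 L126276 q7571, e3 q7572 L126283 q7572, e3 q7573 L126293 q7573, e3 q7574 L183425 q9298, e3 q7575 L126311 q7575, e3 q7576 L126320 q7576, e3 q7577 (flp_a L126327) q6060, e3 q7578 (flp_a L183455) q9301, e3 q7579 L126344 q7579, e3 q7580 L126584 q6069, e3 q7581 L561864 q8630, e3 q7582 (flp_a L561856) q8631, e3 q7583 (flp_a L561911) q8527, e3 q7584 (flp_a L561955) q8530, e3 q7585 (flp_a L563123) q8629, e3 q7586 (flp_a L183843) q9304, e3 q7587 (flp_a L563031) q8627, e3 q7588 (flp_a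 L562216) q8623, e3 q7589 (flp_a L562219) q8624, e3 q7590 (flp_a L562043) q8509, e3 q7591 L184267 q9317, e3 q7592 L126913 q7592, e3 q7593 L126921 q7593, e3 q7594 L126928 q7594, e3 q7595 L126939 q7595, e3 q7596 L126945 q7596, e3 q7597 L126950 q7597, e3 q7598 L126957 q7598, e3 q7599 L126965 q7599, e3 q7600 L184386 q9331, e3 q7601 L126980 q7601, e3 q7602 L126989 q7602, e3 q7603 (flp_a L126995) q6082, e3 q7604 (flp_a L184411) q9334, e3 q7605 L127010 q7605, e3 q7606 L127104 q6094, e3 q7607 L127110 q6095, e3 q7608 L127119 q6096, e3 q7609 L127135 q6098, e3 q7610 L127142 q6099, e3 q7611 L127215 q6104, e3 q7612 L127222 q6105, e3 q7613 L127232 q6106, e3 q7614 L127247 q6108, e3 q7615 L127267 q6110, trivial⟩ (by decide +kernel)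

theorem ce_a_119 : ∀ r, r < 64 → sm ga (Qf (7616 + r)) = Qf (tab Gen.a (7616 + r)) :=
  edges_tab (sm ga) Qf (tab Gen.a) 7616 [(7616, 9349), (7617, 9337), (7618, 9338), (7619, 9339), (7620, 9340), (7621, 8683), (7622, 9341), (7623, 8686), (7624, 8603), (7625, 9342), (7626, 8675), (7627, 8678), (7628, 8680), (7629, 8682), (7630, 9368), (7631, 9343), (7632, 9344), (7633, 8668), (7634, 9345), (7635, 9346), (7636, 8669), (7637, 9347), (7638, 8670), (7639, 9382), (7640, 8671), (7641, 8663), (7642, 6112), (7643, 9385), (7644, 8665), (7645, 7645), (7646, 7646), (7647, 7647), (7648, 7648), (7649, 7649), (7650, 9388), (7651, 7651), (7652, 9389), (7653, 7653), (7654, 6123), (7655, 9390), (7656, 7656), (7657, 6127), (7658, 9393), (7659, 7659), (7660, 6140), (7661, 6142), (7662, 6144), (7663, 6149), (7664, 6150), (7665, 6151), (7666, 6152), (7667, 6153), (7668, 8010), (7669, 8130), (7670, 9396), (7671, 8021), (7672, 8755), (7673, 9397), (7674, 8753), (7675, 8756), (7676, 8107), (7677, 8108), (7678, 8009), (7679, 8018)]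
    ⟨e3 q7616 L184816 q9349, e3 q7617 (flp_a L184564) q9337, e3 q7618 (flp_a L184571) q9338, e3 q7619 (flp_a L184579) q9339, e3 q7620 (flp_a L184585) q9340, e3 q7621 L562407 q8683, e3 q7622 (flp_a L184603) q9341, e3 q7623 (flp_a L546535) q8686, e3 q7624 (flp_a L562418) q8603, e3 q7625 (flp_a L184627) q9342, e3 q7626 (flp_a L563172) q8675, e3 q7627 (flp_a L562314) q8678, e3 q7628 L562346 q8680, e3 q7629 (flp_a L546499) q8682, e3 q7630 L185017 q9368, e3 q7631 (flp_a L184720) q9343, e3 q7632 (flp_a L184729) q9344, e3 q7633 (flp_a L562951) q8668, e3 q7634 (flp_a L184748) q9345, e3 q7635 (flp_a L184754) q9346, e3 q7636 L546240 q8669, e3 q7637 (flp_a L184771) q9347, e3 q7638 (flp_a L546153) q8670, e3 q7639 L185139 q9382, e3 q7640 L546453 q8671, e3 q7641 (flp_a L562163) q8663, e3 q7642 (flp_a L127529) q6112, e3 q7643 (flp_a L185167) q9385, e3 q7644 (flp_a L546660) q8665, e3 q7645 L127554 q7645, e3 q7646 L127560 q7646, e3 q7647 L127568 q7647, e3 q7648 L127576 q7648, e3 q7649 L127584 q7649, e3 q7650 L185250 q9388, e3 q7651 L127621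 q7651, e3 q7652 L185299 q9389, e3 q7653 L127645 q7653, e3 q7654 (flp_a L127651) q6123, e3 q7655 (flp_a L185330) q9390, e3 q7656 L127670 q7656, e3 q7657 L127679 q6127, e3 q7658 (flp_a L185354) q9393, e3 q7659 L127695 q7659, e3 q7660 L127771 q6140, e3 q7661 L127794 q6142, e3 q7662 L127813 q6144, e3 q7663 L127863 q6149, e3 q7664 L127872 q6150, e3 q7665 L127881 q6151, e3 q7666 L127892 q6152, e3 q7667 L127902 q6153, e3 q7668 (flp_a L645323) q8010, e3 q7669 L642738 q8130, e3 q7670 (flp_a L185536) q9396, e3 q7671 (flp_a L645218) q8021, e3 q7672 (flp_a L592712) q8755, e3 q7673 (flp_a L185568) q9397, e3 q7674 L592055 q8753, e3 q7675 (flp_a L592686) q8756, e3 q7676 (flp_a L575250) q8107, e3 q7677 (flp_a L575444) q8108, e3 q7678 (flp_a L648166) q8009, e3 q7679 (flp_a L648126) q8018, trivial⟩ (by decide +kernel)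

theorem ce_a_120 : ∀ r, r < 64 → sm ga (Qf (7680 + r)) = Qf (tab Gen.a (7680 + r)) :=
  edges_tab (sm ga) Qf (tab Gen.a) 7680 [(7680, 9398), (7681, 9399), (7682, 9400), (7683, 9401), (7684, 9402), (7685, 7685), (7686, 7686), (7687, 7687), (7688, 7688), (7689, 7689), (7690, 7690), (7691, 7691), (7692, 9434), (7693, 7693), (7694, 7694), (7695, 6179), (7696, 6180), (7697, 6181), (7698, 6182), (7699, 6184), (7700, 6190), (7701, 6191), (7702, 6192), (7703, 6193), (7704, 6194), (7705, 6195), (7706, 6196), (7707, 8129), (7708, 8109), (7709, 8045), (7710, 8022), (7711, 8182), (7712, 9437), (7713, 9438), (7714, 8804), (7715, 9439), (7716, 8806), (7717, 9440), (7718, 8803), (7719, 8807), (7720, 8145), (7721, 8805), (7722, 8147), (7723, 8148), (7724, 8037), (7725, 9441), (7726, 9442), (7727, 9443), (7728, 9444), (7729, 9445), (7730, 9446), (7731, 9482), (7732, 9448), (7733, 9449), (7734, 7734), (7735, 7735), (7736, 7736), (7737, 7737), (7738, 7738), (7739, 7739), (7740, 7740), (7741, 7741), (7742, 9496), (7743, 7743)]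
    ⟨e3 q7680 (flp_a L185655) q9398, e3 q7681 (flp_a L185663) q9399, e3 q7682 (flp_a L185673) q9400, e3 q7683 (flp_a L185681) q9401, e3 q7684 (flp_a L185691) q9402, e3 q7685 L128120 q7685, e3 q7686 L128129 q7686, e3 q7687 L128136 q7687, e3 q7688 L128145 q7688, e3 q7689 L128153 q7689, e3 q7690 L128164 q7690, e3 q7691 L128171 q7691, e3 q7692 L186080 q9434, e3 q7693 L128185 q7693, e3 q7694 L128194 q7694, e3 q7695 L128332 q6179, e3 q7696 L128342 q6180, e3 q7697 L128347 q6181, e3 q7698 L128357 q6182, e3 q7699 L128377 q6184, e3 q7700 L128438 q6190, e3 q7701 L128448 q6191, e3 q7702 L128457 q6192, e3 q7703 L128465 q6193, e3 q7704 L128475 q6194, e3 q7705 L128481 q6195, e3 q7706 L128489 q6196, e3 q7707 (flp_a L644023) q8129, e3 q7708 (flp_a L644009) q8109, e3 q7709 (flp_a L648058) q8045, e3 q7710 (flp_a L645389) q8022, e3 q7711 L642667 q8182, e3 q7712 (flp_a L186363) q9437, e3 q7713 (flp_a L186374) q9438, e3 q7714 (flp_a L521726) q8804, e3 q7715 (flp_a L186387) q9439, e3 q7716 (flp_a L592582) q8806, e3 q7717 (flp_a L186404) q9440,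 e3 q7718 L591963 q8803, e3 q7719 L568066 q8807, e3 q7720 (flp_a L575264) q8145, e3 q7721 L592022 q8805, e3 q7722 (flp_a L575258) q8147, e3 q7723 L575302 q8148, e3 q7724 (flp_a L648076) q8037, e3 q7725 (flp_a L186503) q9441, e3 q7726 (flp_a L186512) q9442, e3 q7727 (flp_a L186523) q9443, e3 q7728 (flp_a L186531) q9444, e3 q7729 (flp_a L186541) q9445, e3 q7730 (flp_a L186548) q9446, e3 q7731 L186922 q9482, e3 q7732 (flp_a L186562) q9448, e3 q7733 (flp_a L186569) q9449, e3 q7734 L128761 q7734, e3 q7735 L128770 q7735, e3 q7736 L128778 q7736, e3 q7737 L128789 q7737, e3 q7738 L128797 q7738, e3 q7739 L128804 q7739, e3 q7740 L128812 q7740, e3 q7741 L128819 q7741, e3 q7742 L187044 q9496, e3 q7743 L128832 q7743, trivial⟩ (by decide +kernel)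

theorem ce_a_121 : ∀ r, r < 64 → sm ga (Qf (7744 + r)) = Qf (tab Gen.a (7744 + r)) :=
  edges_tab (sm ga) Qf (tab Gen.a) 7744 [(7744, 7744), (7745, 6205), (7746, 9499), (7747, 7747), (7748, 6224), (7749, 6225), (7750, 6226), (7751, 6227), (7752, 6228), (7753, 6230), (7754, 6232), (7755, 6240), (7756, 6241), (7757, 6242), (7758, 6243), (7759, 6244), (7760, 6245), (7761, 6246), (7762, 9521), (7763, 6248), (7764, 6249), (7765, 8042), (7766, 9502), (7767, 9503), (7768, 9504), (7769, 9505), (7770, 9506), (7771, 8882), (7772, 9507), (7773, 9538), (7774, 8884), (7775, 9509), (7776, 8203), (7777, 8885), (7778, 9510), (7779, 8881), (7780, 8886), (7781, 8880), (7782, 8883), (7783, 8202), (7784, 8204), (7785, 8205), (7786, 8206), (7787, 8036), (7788, 9511), (7789, 9512), (7790, 9513), (7791, 9514), (7792, 9515), (7793, 9516), (7794, 9517), (7795, 9565), (7796, 9519), (7797, 9520), (7798, 6247), (7799, 9568), (7800, 9523), (7801, 7801), (7802, 7802), (7803, 9571), (7804, 7804), (7805, 7805), (7806, 7806), (7807, 9572)]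
    ⟨e3 q7744 L128840 q7744, e3 q7745 (flp_a L128845) q6205, e3 q7746 (flp_a L187068) q9499, e3 q7747 L128859 q7747, e3 q7748 L129021 q6224, e3 q7749 L129030 q6225, e3 q7750 L129041 q6226, e3 q7751 L129048 q6227, e3 q7752 L129059 q6228, e3 q7753 L129076 q6230, e3 q7754 L129093 q6232, e3 q7755 L129179 q6240, e3 q7756 L129188 q6241, e3 q7757 L129198 q6242, e3 q7758 L129207 q6243, e3 q7759 L129217 q6244, e3 q7760 L129228 q6245, e3 q7761 L129236 q6246, e3 q7762 L187645 q9521, e3 q7763 L129252 q6248, e3 q7764 L129260 q6249, e3 q7765 L647740 q8042, e3 q7766 (flp_a L187331) q9502, e3 q7767 (flp_a L187339) q9503, e3 q7768 (flp_a L187349) q9504, e3 q7769 (flp_a L187357) q9505, e3 q7770 (flp_a L187369) q9506, e3 q7771 L567969 q8882, e3 q7772 (flp_a L187387) q9507, e3 q7773 L187789 q9538, e3 q7774 L547456 q8884, e3 q7775 (flp_a L187410) q9509, e3 q7776 (flp_a L547433) q8203, e3 q7777 (flp_a L549231) q8885, e3 q7778 (flp_a L187438) q9510, e3 q7779 (flp_a L575943) q8881, e3 q7780 (flp_a L592550) q8886, e3 q7781 L567965 q8880, e3 q7782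 (flp_a L575898) q8883, e3 q7783 L575063 q8202, e3 q7784 (flp_a L575751) q8204, e3 q7785 L575157 q8205, e3 q7786 (flp_a L575732) q8206, e3 q7787 L647819 q8036, e3 q7788 (flp_a L187555) q9511, e3 q7789 (flp_a L187566) q9512, e3 q7790 (flp_a L187576) q9513, e3 q7791 (flp_a L187585) q9514, e3 q7792 (flp_a L187593) q9515, e3 q7793 (flp_a L187603) q9516, e3 q7794 (flp_a L187612) q9517, e3 q7795 L188075 q9565, e3 q7796 (flp_a L187629) q9519, e3 q7797 (flp_a L187637) q9520, e3 q7798 (flp_a L129564) q6247, e3 q7799 (flp_a L188101) q9568, e3 q7800 (flp_a L187663) q9523, e3 q7801 L129599 q7801, e3 q7802 L129625 q7802, e3 q7803 L188196 q9571, e3 q7804 L129650 q7804, e3 q7805 L129659 q7805, e3 q7806 L129665 q7806, e3 q7807 L188251 q9572, trivial⟩ (by decide +kernel)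

theorem ce_a_122 : ∀ r, r < 64 → sm ga (Qf (7808 + r)) = Qf (tab Gen.a (7808 + r)) :=
  edges_tab (sm ga) Qf (tab Gen.a) 7808 [(7808, 6258), (7809, 9573), (7810, 6262), (7811, 9574), (7812, 6275), (7813, 6276), (7814, 6277), (7815, 6278), (7816, 6279), (7817, 6280), (7818, 9581), (7819, 6282), (7820, 6283), (7821, 6272), (7822, 9584), (7823, 6286), (7824, 9575), (7825, 9580), (7826, 9577), (7827, 9578), (7828, 6281), (7829, 9583), (7830, 6285), (7831, 9589), (7832, 9586), (7833, 6289), (7834, 6526), (7835, 8754), (7836, 6326), (7837, 6325), (7838, 6384), (7839, 6327), (7840, 8749), (7841, 8970), (7842, 8286), (7843, 6404), (7844, 6343), (7845, 6341), (7846, 6396), (7847, 6398), (7848, 6340), (7849, 6342), (7850, 6344), (7851, 8798), (7852, 9595), (7853, 9047), (7854, 9046), (7855, 8372), (7856, 6431), (7857, 6429), (7858, 6367), (7859, 6366), (7860, 6418), (7861, 6417), (7862, 6419), (7863, 6364), (7864, 6365), (7865, 6368), (7866, 6369), (7867, 6370), (7868, 6375), (7869, 9600), (7870, 9599), (7871, 9606)]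
    ⟨e3 q7808 (flp_a L129698) q6258, e3 q7809 (flp_a L188280) q9573, e3 q7810 L129724 q6262, e3 q7811 (flp_a L188305) q9574, e3 q7812 L129760 q6275, e3 q7813 L129781 q6276, e3 q7814 L129789 q6277, e3 q7815 L129796 q6278, e3 q7816 L129806 q6279, e3 q7817 L129814 q6280, e3 q7818 L188446 q9581, e3 q7819 L129830 q6282, e3 q7820 L129839 q6283, e3 q7821 (flp_a L129845) q6272, e3 q7822 (flp_a L188472) q9584, e3 q7823 L129863 q6286, e3 q7824 (flp_a L188352) q9575, e3 q7825 L646216 q9580, e3 q7826 (flp_a L188387) q9577, e3 q7827 (flp_a L188394) q9578, e3 q7828 (flp_a L129973) q6281, e3 q7829 (flp_a L188464) q9583, e3 q7830 L129997 q6285, e3 q7831 (flp_a L188663) q9589, e3 q7832 (flp_a L188489) q9586, e3 q7833 L130186 q6289, e3 q7834 L130494 q6526, e3 q7835 L621691 q8754, e3 q7836 L622500 q6326, e3 q7837 (flp_a L622532) q6325, e3 q7838 L591239 q6384, e3 q7839 L133296 q6327, e3 q7840 (flp_a L622518) q8749, e3 q7841 (flp_a L576102) q8970, e3 q7842 L576112 q8286, e3 q7843 L576813 q6404, e3 q7844 L622317 q6343, e3 q7845 L622743 q6341,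 e3 q7846 L577654 q6396, e3 q7847 L591459 q6398, e3 q7848 L134326 q6340, e3 q7849 L134339 q6342, e3 q7850 L134356 q6344, e3 q7851 L622237 q8798, e3 q7852 (flp_a L195060) q9595, e3 q7853 L576517 q9047, e3 q7854 L591826 q9046, e3 q7855 (flp_a L554678) q8372, e3 q7856 L590417 q6431, e3 q7857 L590577 q6429, e3 q7858 L624804 q6367, e3 q7859 (flp_a L624838) q6366, e3 q7860 (flp_a L551404) q6418, e3 q7861 L551507 q6417, e3 q7862 L590768 q6419, e3 q7863 L135857 q6364, e3 q7864 L135864 q6365, e3 q7865 L135887 q6368, e3 q7866 L135897 q6369, e3 q7867 L135913 q6370, e3 q7868 L136024 q6375, e3 q7869 (flp_a L615281) q9600, e3 q7870 L615261 q9599, e3 q7871 (flp_a L197322) q9606, trivial⟩ (by decide +kernel)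

theorem ce_a_123 : ∀ r, r < 64 → sm ga (Qf (7872 + r)) = Qf (tab Gen.a (7872 + r)) :=
  edges_tab (sm ga) Qf (tab Gen.a) 7872 [(7872, 9607), (7873, 9608), (7874, 9609), (7875, 8621), (7876, 8633), (7877, 9157), (7878, 9156), (7879, 8492), (7880, 8493), (7881, 6421), (7882, 6382), (7883, 6383), (7884, 8999), (7885, 6387), (7886, 9624), (7887, 8748), (7888, 8103), (7889, 6394), (7890, 6395), (7891, 6397), (7892, 9092), (7893, 9628), (7894, 8983), (7895, 6402), (7896, 6403), (7897, 9632), (7898, 9594), (7899, 9633), (7900, 8795), (7901, 8796), (7902, 8139), (7903, 8140), (7904, 6413), (7905, 6414), (7906, 6415), (7907, 6416), (7908, 9641), (7909, 9642), (7910, 9643), (7911, 9605), (7912, 9644), (7913, 9604), (7914, 9603), (7915, 6450), (7916, 6426), (7917, 6427), (7918, 6428), (7919, 6430), (7920, 9653), (7921, 9654), (7922, 9655), (7923, 9601), (7924, 9656), (7925, 8871), (7926, 9602), (7927, 8870), (7928, 8192), (7929, 8873), (7930, 8872), (7931, 8193), (7932, 8195), (7933, 6445), (7934, 6446), (7935, 6447)]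
    ⟨e3 q7872 (flp_a L197329) q9607, e3 q7873 (flp_a L197337) q9608, e3 q7874 (flp_a L197372) q9609, e3 q7875 L542387 q8621, e3 q7876 (flp_a L551331) q8633, e3 q7877 L554237 q9157, e3 q7878 L554263 q9156, e3 q7879 L555046 q8492, e3 q7880 (flp_a L554386) q8493, e3 q7881 (flp_a L580344) q6421, e3 q7882 L136405 q6382, e3 q7883 L136416 q6383, e3 q7884 L621601 q8999, e3 q7885 L136774 q6387, e3 q7886 (flp_a L198646) q9624, e3 q7887 (flp_a L592071) q8748, e3 q7888 L575357 q8103, e3 q7889 L137267 q6394, e3 q7890 L137275 q6395, e3 q7891 L137294 q6397, e3 q7892 (flp_a L622207) q9092, e3 q7893 (flp_a L199365) q9628, e3 q7894 L622602 q8983, e3 q7895 L137770 q6402, e3 q7896 L137777 q6403, e3 q7897 (flp_a L200100) q9632, e3 q7898 (flp_a L576778) q9594, e3 q7899 (flp_a L200114) q9633, e3 q7900 L591813 q8795, e3 q7901 (flp_a L591973) q8796, e3 q7902 L591802 q8139, e3 q7903 (flp_a L575674) q8140, e3 q7904 L138421 q6413, e3 q7905 L138431 q6414, e3 q7906 L138439 q6415, e3 q7907 L138448 q6416, e3 q7908 (flp_a L201030) q9641, e3 q7909 (flp_a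 L201041) q9642, e3 q7910 (flp_a L201052) q9643, e3 q7911 (flp_a L551373) q9605, e3 q7912 (flp_a L201068) q9644, e3 q7913 (flp_a L551379) q9604, e3 q7914 (flp_a L551385) q9603, e3 q7915 (flp_a L616554) q6450, e3 q7916 L139142 q6426, e3 q7917 L139151 q6427, e3 q7918 L139160 q6428, e3 q7919 L139177 q6430, e3 q7920 (flp_a L202066) q9653, e3 q7921 (flp_a L202083) q9654, e3 q7922 (flp_a L202092) q9655, e3 q7923 L590568 q9601, e3 q7924 (flp_a L202110) q9656, e3 q7925 L590571 q8871, e3 q7926 (flp_a L590553) q9602, e3 q7927 L590410 q8870, e3 q7928 L555039 q8192, e3 q7929 L575986 q8873, e3 q7930 (flp_a L567771) q8872, e3 q7931 (flp_a L575678) q8193, e3 q7932 (flp_a L575651) q8195, e3 q7933 L139738 q6445, e3 q7934 L139747 q6446, e3 q7935 L139756 q6447, trivial⟩ (by decide +kernel)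

theorem ce_a_124 : ∀ r, r < 64 → sm ga (Qf (7936 + r)) = Qf (tab Gen.a (7936 + r)) :=
  edges_tab (sm ga) Qf (tab Gen.a) 7936 [(7936, 6449), (7937, 6455), (7938, 9669), (7939, 9652), (7940, 9670), (7941, 9671), (7942, 8480), (7943, 9672), (7944, 8471), (7945, 8481), (7946, 8478), (7947, 8479), (7948, 8470), (7949, 7949), (7950, 7950), (7951, 7951), (7952, 7952), (7953, 7953), (7954, 7954), (7955, 7955), (7956, 7956), (7957, 6470), (7958, 6471), (7959, 6472), (7960, 6473), (7961, 6474), (7962, 8642), (7963, 9689), (7964, 9690), (7965, 9691), (7966, 9692), (7967, 8076), (7968, 8067), (7969, 8711), (7970, 8752), (7971, 8105), (7972, 8106), (7973, 6490), (7974, 8096), (7975, 8084), (7976, 8724), (7977, 8726), (7978, 8727), (7979, 8725), (7980, 8722), (7981, 8081), (7982, 8802), (7983, 8801), (7984, 8144), (7985, 8146), (7986, 8879), (7987, 8200), (7988, 8201), (7989, 6508), (7990, 8062), (7991, 8055), (7992, 8710), (7993, 8066), (7994, 8712), (7995, 8054), (7996, 8065), (7997, 8083), (7998, 8082), (7999, 7999)]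
    ⟨e3 q7936 L139770 q6449, e3 q7937 L139915 q6455, e3 q7938 (flp_a L202841) q9669, e3 q7939 L616269 q9652, e3 q7940 (flp_a L202859) q9670, e3 q7941 (flp_a L202866) q9671, e3 q7942 (flp_a L561751) q8480, e3 q7943 (flp_a L202881) q9672, e3 q7944 (flp_a L537067) q8471, e3 q7945 L537157 q8481, e3 q7946 (flp_a L543784) q8478, e3 q7947 (flp_a L543903) q8479, e3 q7948 (flp_a L537026) q8470, e3 q7949 L420401 q7949, e3 q7950 L140212 q7950, e3 q7951 L140219 q7951, e3 q7952 L140226 q7952, e3 q7953 L140234 q7953, e3 q7954 L140242 q7954, e3 q7955 L140250 q7955, e3 q7956 L140258 q7956, e3 q7957 L140269 q6470, e3 q7958 L140275 q6471, e3 q7959 L140283 q6472, e3 q7960 L140291 q6473, e3 q7961 L140299 q6474, e3 q7962 (flp_a L616208) q8642, e3 q7963 (flp_a L203568) q9689, e3 q7964 (flp_a L203583) q9690, e3 q7965 (flp_a L203592) q9691, e3 q7966 (flp_a L203600) q9692, e3 q7967 (flp_a L644941) q8076, e3 q7968 L644862 q8067, e3 q7969 (flp_a L592069) q8711, e3 q7970 (flp_a L592063) q8752, e3 q7971 (flp_a L592067) q8105, e3 q7972 (flp_a L554804)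 q8106, e3 q7973 L141276 q6490, e3 q7974 (flp_a L644505) q8096, e3 q7975 L642323 q8084, e3 q7976 (flp_a L566761) q8724, e3 q7977 (flp_a L567655) q8726, e3 q7978 L567631 q8727, e3 q7979 (flp_a L591970) q8725, e3 q7980 (flp_a L567010) q8722, e3 q7981 L567305 q8081, e3 q7982 (flp_a L592439) q8802, e3 q7983 (flp_a L591967) q8801, e3 q7984 (flp_a L575216) q8144, e3 q7985 (flp_a L575214) q8146, e3 q7986 (flp_a L567765) q8879, e3 q7987 (flp_a L567851) q8200, e3 q7988 (flp_a L575163) q8201, e3 q7989 L142344 q6508, e3 q7990 (flp_a L641527) q8062, e3 q7991 (flp_a L643445) q8055, e3 q7992 L567492 q8710, e3 q7993 L567484 q8066, e3 q7994 L567516 q8712, e3 q7995 L567432 q8054, e3 q7996 L567439 q8065, e3 q7997 (flp_a L567338) q8083, e3 q7998 L567298 q8082, e3 q7999 L143625 q7999, trivial⟩ (by decide +kernel)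

theorem ce_a_125 : ∀ r, r < 64 → sm ga (Qf (8000 + r)) = Qf (tab Gen.a (8000 + r)) :=
  edges_tab (sm ga) Qf (tab Gen.a) 8000 [(8000, 8000), (8001, 8001), (8002, 8002), (8003, 8003), (8004, 9592), (8005, 8005), (8006, 8006), (8007, 8007), (8008, 6575), (8009, 7678), (8010, 7668), (8011, 9718), (8012, 8012), (8013, 8013), (8014, 8014), (8015, 6587), (8016, 6590), (8017, 6591), (8018, 7679), (8019, 9724), (8020, 9725), (8021, 7671), (8022, 7710), (8023, 9726), (8024, 8024), (8025, 8025), (8026, 8026), (8027, 8027), (8028, 8028), (8029, 8029), (8030, 6608), (8031, 6609), (8032, 6610), (8033, 6612), (8034, 6614), (8035, 6615), (8036, 7787), (8037, 7724), (8038, 9739), (8039, 9740), (8040, 9741), (8041, 9742), (8042, 7765), (8043, 9743), (8044, 9744), (8045, 7709), (8046, 9745), (8047, 8047), (8048, 8048), (8049, 8049), (8050, 8050), (8051, 8051), (8052, 8052), (8053, 8053), (8054, 7995), (8055, 7991), (8056, 8056), (8057, 8057), (8058, 8058), (8059, 8059), (8060, 6628), (8061, 7110), (8062, 7990), (8063, 7108)]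
    ⟨e3 q8000 L143635 q8000, e3 q8001 L143658 q8001, e3 q8002 L143689 q8002, e3 q8003 L143730 q8003, e3 q8004 (flp_a L189318) q9592, e3 q8005 L144662 q8005, e3 q8006 L145827 q8006, e3 q8007 L164519 q8007, e3 q8008 L166497 q6575, e3 q8009 L648166 q7678, e3 q8010 L645323 q7668, e3 q8011 (flp_a L241458) q9718, e3 q8012 L166591 q8012, e3 q8013 L166610 q8013, e3 q8014 L166619 q8014, e3 q8015 L166647 q6587, e3 q8016 L166673 q6590, e3 q8017 L166682 q6591, e3 q8018 L648126 q7679, e3 q8019 (flp_a L241679) q9724, e3 q8020 (flp_a L241688) q9725, e3 q8021 L645218 q7671, e3 q8022 L645389 q7710, e3 q8023 (flp_a L241735) q9726, e3 q8024 L166801 q8024, e3 q8025 L166809 q8025, e3 q8026 L166815 q8026, e3 q8027 L166823 q8027, e3 q8028 L166833 q8028, e3 q8029 L166853 q8029, e3 q8030 L166878 q6608, e3 q8031 L166887 q6609, e3 q8032 L166895 q6610, e3 q8033 L166913 q6612, e3 q8034 L166931 q6614, e3 q8035 L166940 q6615, e3 q8036 (flp_a L647819) q7787, e3 q8037 L648076 q7724, e3 q8038 (flp_a L242033) q9739, e3 q8039 (flp_a L242043) q9740, e3 q8040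 (flp_a L242053) q9741, e3 q8041 (flp_a L242062) q9742, e3 q8042 (flp_a L647740) q7765, e3 q8043 (flp_a L242098) q9743, e3 q8044 (flp_a L242108) q9744, e3 q8045 L648058 q7709, e3 q8046 (flp_a L242128) q9745, e3 q8047 L167093 q8047, e3 q8048 L167100 q8048, e3 q8049 L167109 q8049, e3 q8050 L167117 q8050, e3 q8051 L167126 q8051, e3 q8052 L167135 q8052, e3 q8053 L167144 q8053, e3 q8054 (flp_a L567432) q7995, e3 q8055 L643445 q7991, e3 q8056 L167187 q8056, e3 q8057 L167196 q8057, e3 q8058 L167206 q8058, e3 q8059 L167217 q8059, e3 q8060 L167229 q6628, e3 q8061 (flp_a L641916) q7110, e3 q8062 L641527 q7990, e3 q8063 L643401 q7108, trivial⟩ (by decide +kernel)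

theorem ce_a_126 : ∀ r, r < 64 → sm ga (Qf (8064 + r)) = Qf (tab Gen.a (8064 + r)) :=
  edges_tab (sm ga) Qf (tab Gen.a) 8064 [(8064, 7125), (8065, 7996), (8066, 7993), (8067, 7968), (8068, 8068), (8069, 8069), (8070, 8070), (8071, 8071), (8072, 8072), (8073, 6643), (8074, 7124), (8075, 9778), (8076, 7967), (8077, 7121), (8078, 8078), (8079, 8079), (8080, 7150), (8081, 7981), (8082, 7998), (8083, 7997), (8084, 7975), (8085, 8085), (8086, 8086), (8087, 8087), (8088, 8088), (8089, 8089), (8090, 6663), (8091, 6664), (8092, 7147), (8093, 7149), (8094, 9794), (8095, 7144), (8096, 7974), (8097, 7145), (8098, 8098), (8099, 8099), (8100, 8100), (8101, 8101), (8102, 8102), (8103, 7888), (8104, 7372), (8105, 7971), (8106, 7972), (8107, 7676), (8108, 7677), (8109, 7708), (8110, 8110), (8111, 8111), (8112, 8112), (8113, 8113), (8114, 8114), (8115, 6814), (8116, 6685), (8117, 6686), (8118, 6687), (8119, 6688), (8120, 6689), (8121, 6690), (8122, 9823), (8123, 9824), (8124, 9825), (8125, 9826), (8126, 9827), (8127, 9828)]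
    ⟨e3 q8064 L641867 q7125, e3 q8065 (flp_a L567439) q7996, e3 q8066 (flp_a L567484) q7993, e3 q8067 (flp_a L644862) q7968, e3 q8068 L167384 q8068, e3 q8069 L167396 q8069, e3 q8070 L167404 q8070, e3 q8071 L167413 q8071, e3 q8072 L167424 q8072, e3 q8073 L167445 q6643, e3 q8074 L644962 q7124, e3 q8075 (flp_a L242864) q9778, e3 q8076 L644941 q7967, e3 q8077 (flp_a L644968) q7121, e3 q8078 L167529 q8078, e3 q8079 L167537 q8079, e3 q8080 L645110 q7150, e3 q8081 (flp_a L567305) q7981, e3 q8082 (flp_a L567298) q7998, e3 q8083 L567338 q7997, e3 q8084 (flp_a L642323) q7975, e3 q8085 L167672 q8085, e3 q8086 L167682 q8086, e3 q8087 L167690 q8087, e3 q8088 L167699 q8088, e3 q8089 L167707 q8089, e3 q8090 L167740 q6663, e3 q8091 L167749 q6664, e3 q8092 L645147 q7147, e3 q8093 (flp_a L641696) q7149, e3 q8094 (flp_a L243333) q9794, e3 q8095 (flp_a L645160) q7144, e3 q8096 L644505 q7974, e3 q8097 (flp_a L644641) q7145, e3 q8098 L167851 q8098, e3 q8099 L167860 q8099, e3 q8100 L167868 q8100, e3 q8101 L167876 q8101, e3 q8102 L167883 q8102,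 e3 q8103 (flp_a L575357) q7888, e3 q8104 (flp_a L575422) q7372, e3 q8105 L592067 q7971, e3 q8106 L554804 q7972, e3 q8107 L575250 q7676, e3 q8108 L575444 q7677, e3 q8109 L644009 q7708, e3 q8110 L168022 q8110, e3 q8111 L168031 q8111, e3 q8112 L168042 q8112, e3 q8113 L168054 q8113, e3 q8114 L168063 q8114, e3 q8115 L168081 q6814, e3 q8116 L168086 q6685, e3 q8117 L168095 q6686, e3 q8118 L168106 q6687, e3 q8119 L168115 q6688, e3 q8120 L168123 q6689, e3 q8121 L168132 q6690, e3 q8122 (flp_a L243845) q9823, e3 q8123 (flp_a L243855) q9824, e3 q8124 (flp_a L243863) q9825, e3 q8125 (flp_a L243873) q9826, e3 q8126 (flp_a L243881) q9827, e3 q8127 (flp_a L243892) q9828, trivial⟩ (by decide +kernel)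

theorem ce_a_127 : ∀ r, r < 64 → sm ga (Qf (8128 + r)) = Qf (tab Gen.a (8128 + r)) :=
  edges_tab (sm ga) Qf (tab Gen.a) 8128 [(8128, 9829), (8129, 7707), (8130, 7669), (8131, 9830), (8132, 8132), (8133, 8133), (8134, 8134), (8135, 8135), (8136, 8136), (8137, 8137), (8138, 8138), (8139, 7902), (8140, 7903), (8141, 7449), (8142, 6899), (8143, 7450), (8144, 7984), (8145, 7720), (8146, 7985), (8147, 7722), (8148, 7723), (8149, 8149), (8150, 8150), (8151, 8151), (8152, 8152), (8153, 8153), (8154, 8154), (8155, 8155), (8156, 6880), (8157, 6881), (8158, 6717), (8159, 6718), (8160, 6719), (8161, 6720), (8162, 6721), (8163, 6722), (8164, 6723), (8165, 6724), (8166, 6725), (8167, 6726), (8168, 9877), (8169, 9878), (8170, 9879), (8171, 9880), (8172, 9881), (8173, 9882), (8174, 9883), (8175, 9884), (8176, 9885), (8177, 9886), (8178, 9887), (8179, 9888), (8180, 9889), (8181, 9890), (8182, 7711), (8183, 9891), (8184, 8184), (8185, 8185), (8186, 8186), (8187, 8187), (8188, 8188), (8189, 8189), (8190, 8190), (8191, 8191)]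
    ⟨e3 q8128 (flp_a L243899) q9829, e3 q8129 L644023 q7707, e3 q8130 (flp_a L642738) q7669, e3 q8131 (flp_a L243928) q9830, e3 q8132 L168238 q8132, e3 q8133 L168246 q8133, e3 q8134 L168255 q8134, e3 q8135 L168264 q8135, e3 q8136 L168271 q8136, e3 q8137 L168282 q8137, e3 q8138 L168292 q8138, e3 q8139 (flp_a L591802) q7902, e3 q8140 L575674 q7903, e3 q8141 L575269 q7449, e3 q8142 L550539 q6899, e3 q8143 L575560 q7450, e3 q8144 L575216 q7984, e3 q8145 L575264 q7720, e3 q8146 L575214 q7985, e3 q8147 L575258 q7722, e3 q8148 (flp_a L575302) q7723, e3 q8149 L168475 q8149, e3 q8150 L168486 q8150, e3 q8151 L168495 q8151, e3 q8152 L168504 q8152, e3 q8153 L168510 q8153, e3 q8154 L168521 q8154, e3 q8155 L168531 q8155, e3 q8156 L168543 q6880, e3 q8157 L168551 q6881, e3 q8158 L168562 q6717, e3 q8159 L168570 q6718, e3 q8160 L168579 q6719, e3 q8161 L168587 q6720, e3 q8162 L168594 q6721, e3 q8163 L168604 q6722, e3 q8164 L168611 q6723, e3 q8165 L168620 q6724, e3 q8166 L168629 q6725, e3 q8167 L168638 q6726, e3 q8168 (flp_a L244544) q9877,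 e3 q8169 (flp_a L244551) q9878, e3 q8170 (flp_a L244559) q9879, e3 q8171 (flp_a L244569) q9880, e3 q8172 (flp_a L244578) q9881, e3 q8173 (flp_a L244588) q9882, e3 q8174 (flp_a L244595) q9883, e3 q8175 (flp_a L244603) q9884, e3 q8176 (flp_a L244612) q9885, e3 q8177 (flp_a L244620) q9886, e3 q8178 (flp_a L244629) q9887, e3 q8179 (flp_a L244636) q9888, e3 q8180 (flp_a L244645) q9889, e3 q8181 (flp_a L244652) q9890, e3 q8182 (flp_a L642667) q7711, e3 q8183 (flp_a L244670) q9891, e3 q8184 L168773 q8184, e3 q8185 L168782 q8185, e3 q8186 L168793 q8186, e3 q8187 L168802 q8187, e3 q8188 L168807 q8188, e3 q8189 L168816 q8189, e3 q8190 L168823 q8190, e3 q8191 L168830 q8191, trivial⟩ (by decide +kernel)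

theorem ce_a_128 : ∀ r, r < 64 → sm ga (Qf (8192 + r)) = Qf (tab Gen.a (8192 + r)) :=
  edges_tab (sm ga) Qf (tab Gen.a) 8192 [(8192, 7928), (8193, 7931), (8194, 7551), (8195, 7932), (8196, 7553), (8197, 7007), (8198, 7554), (8199, 7008), (8200, 7987), (8201, 7988), (8202, 7783), (8203, 7776), (8204, 7784), (8205, 7785), (8206, 7786), (8207, 8207), (8208, 8208), (8209, 8209), (8210, 8210), (8211, 8211), (8212, 8212), (8213, 8213), (8214, 8214), (8215, 6976), (8216, 6977), (8217, 6978), (8218, 6959), (8219, 6979), (8220, 6763), (8221, 6764), (8222, 6765), (8223, 6766), (8224, 6767), (8225, 6768), (8226, 6769), (8227, 6770), (8228, 6771), (8229, 6772), (8230, 6773), (8231, 6774), (8232, 6775), (8233, 6776), (8234, 6777), (8235, 6778), (8236, 9965), (8237, 9966), (8238, 9967), (8239, 9968), (8240, 9969), (8241, 9970), (8242, 9971), (8243, 9972), (8244, 9973), (8245, 9974), (8246, 9975), (8247, 9976), (8248, 9977), (8249, 9978), (8250, 9979), (8251, 9980), (8252, 9981), (8253, 9982), (8254, 9983), (8255, 9984)]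
    ⟨e3 q8192 (flp_a L555039) q7928, e3 q8193 L575678 q7931, e3 q8194 (flp_a L575790) q7551, e3 q8195 L575651 q7932, e3 q8196 (flp_a L575721) q7553, e3 q8197 L550633 q7007, e3 q8198 L575743 q7554, e3 q8199 L575574 q7008, e3 q8200 L567851 q7987, e3 q8201 L575163 q7988, e3 q8202 (flp_a L575063) q7783, e3 q8203 L547433 q7776, e3 q8204 L575751 q7784, e3 q8205 (flp_a L575157) q7785, e3 q8206 L575732 q7786, e3 q8207 L169107 q8207, e3 q8208 L169117 q8208, e3 q8209 L169126 q8209, e3 q8210 L169136 q8210, e3 q8211 L169143 q8211, e3 q8212 L169154 q8212, e3 q8213 L169164 q8213, e3 q8214 L169173 q8214, e3 q8215 L169184 q6976, e3 q8216 L169194 q6977, e3 q8217 L169202 q6978, e3 q8218 (flp_a L553617) q6959, e3 q8219 L169220 q6979, e3 q8220 L169230 q6763, e3 q8221 L169239 q6764, e3 q8222 L169247 q6765, e3 q8223 L169258 q6766, e3 q8224 L169266 q6767, e3 q8225 L169274 q6768, e3 q8226 L169282 q6769, e3 q8227 L169291 q6770, e3 q8228 L169299 q6771, e3 q8229 L169306 q6772, e3 q8230 L169314 q6773, e3 q8231 L169323 q6774, e3 q8232 L169332 q6775,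 e3 q8233 L169341 q6776, e3 q8234 L169351 q6777, e3 q8235 L169359 q6778, e3 q8236 (flp_a L245573) q9965, e3 q8237 (flp_a L245581) q9966, e3 q8238 (flp_a L245590) q9967, e3 q8239 (flp_a L245598) q9968, e3 q8240 (flp_a L245607) q9969, e3 q8241 (flp_a L245617) q9970, e3 q8242 (flp_a L245624) q9971, e3 q8243 (flp_a L245635) q9972, e3 q8244 (flp_a L245644) q9973, e3 q8245 (flp_a L245651) q9974, e3 q8246 (flp_a L245659) q9975, e3 q8247 (flp_a L245665) q9976, e3 q8248 (flp_a L245674) q9977, e3 q8249 (flp_a L245682) q9978, e3 q8250 (flp_a L245691) q9979, e3 q8251 (flp_a L245697) q9980, e3 q8252 (flp_a L245705) q9981, e3 q8253 (flp_a L245714) q9982, e3 q8254 (flp_a L245724) q9983, e3 q8255 (flp_a L245732) q9984, trivial⟩ (by decide +kernel)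

theorem ce_a_129 : ∀ r, r < 64 → sm ga (Qf (8256 + r)) = Qf (tab Gen.a (8256 + r)) :=
  edges_tab (sm ga) Qf (tab Gen.a) 8256 [(8256, 9985), (8257, 9986), (8258, 9987), (8259, 8259), (8260, 8260), (8261, 8261), (8262, 8262), (8263, 8263), (8264, 8264), (8265, 8265), (8266, 8266), (8267, 10033), (8268, 8268), (8269, 8269), (8270, 6789), (8271, 6790), (8272, 6791), (8273, 6792), (8274, 10037), (8275, 10038), (8276, 10039), (8277, 10040), (8278, 10041), (8279, 10042), (8280, 10043), (8281, 8281), (8282, 8282), (8283, 8283), (8284, 8284), (8285, 8285), (8286, 7842), (8287, 6802), (8288, 6803), (8289, 6804), (8290, 6805), (8291, 6806), (8292, 6807), (8293, 6808), (8294, 10059), (8295, 10060), (8296, 10061), (8297, 10062), (8298, 10063), (8299, 10064), (8300, 10065), (8301, 10066), (8302, 10067), (8303, 10068), (8304, 8304), (8305, 8305), (8306, 8306), (8307, 8307), (8308, 8308), (8309, 8309), (8310, 8310), (8311, 9821), (8312, 9822), (8313, 6822), (8314, 6823), (8315, 6824), (8316, 6825), (8317, 6826), (8318, 6827), (8319, 6828)]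
    ⟨e3 q8256 (flp_a L245741) q9985, e3 q8257 (flp_a L245749) q9986, e3 q8258 (flp_a L245759) q9987, e3 q8259 L169551 q8259, e3 q8260 L169560 q8260, e3 q8261 L169569 q8261, e3 q8262 L169577 q8262, e3 q8263 L169586 q8263, e3 q8264 L169593 q8264, e3 q8265 L169603 q8265, e3 q8266 L169611 q8266, e3 q8267 L246133 q10033, e3 q8268 L169626 q8268, e3 q8269 L169636 q8269, e3 q8270 L169643 q6789, e3 q8271 L169653 q6790, e3 q8272 L169663 q6791, e3 q8273 L169674 q6792, e3 q8274 (flp_a L246172) q10037, e3 q8275 (flp_a L246182) q10038, e3 q8276 (flp_a L246192) q10039, e3 q8277 (flp_a L246202) q10040, e3 q8278 (flp_a L246211) q10041, e3 q8279 (flp_a L246222) q10042, e3 q8280 (flp_a L246234) q10043, e3 q8281 L169753 q8281, e3 q8282 L169761 q8282, e3 q8283 L169770 q8283, e3 q8284 L169780 q8284, e3 q8285 L169789 q8285, e3 q8286 (flp_a L576112) q7842, e3 q8287 L169811 q6802, e3 q8288 L169822 q6803, e3 q8289 L169833 q6804, e3 q8290 L169845 q6805, e3 q8291 L169855 q6806, e3 q8292 L169864 q6807, e3 q8293 L169876 q6808, e3 q8294 (flp_a L246425)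 q10059, e3 q8295 (flp_a L246437) q10060, e3 q8296 (flp_a L246447) q10061, e3 q8297 (flp_a L246457) q10062, e3 q8298 (flp_a L246465) q10063, e3 q8299 (flp_a L246478) q10064, e3 q8300 (flp_a L246488) q10065, e3 q8301 (flp_a L246499) q10066, e3 q8302 (flp_a L246511) q10067, e3 q8303 (flp_a L246519) q10068, e3 q8304 L169978 q8304, e3 q8305 L169987 q8305, e3 q8306 L169997 q8306, e3 q8307 L170004 q8307, e3 q8308 L170012 q8308, e3 q8309 L170023 q8309, e3 q8310 L170031 q8310, e3 q8311 (flp_a L243823) q9821, e3 q8312 (flp_a L243833) q9822, e3 q8313 L170057 q6822, e3 q8314 L170067 q6823, e3 q8315 L170075 q6824, e3 q8316 L170085 q6825, e3 q8317 L170094 q6826, e3 q8318 L170105 q6827, e3 q8319 L170113 q6828, trivial⟩ (by decide +kernel)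

theorem ce_a_130 : ∀ r, r < 64 → sm ga (Qf (8320 + r)) = Qf (tab Gen.a (8320 + r)) :=
  edges_tab (sm ga) Qf (tab Gen.a) 8320 [(8320, 6829), (8321, 6830), (8322, 6831), (8323, 10097), (8324, 10098), (8325, 10099), (8326, 10100), (8327, 10101), (8328, 10102), (8329, 10103), (8330, 9807), (8331, 10104), (8332, 10105), (8333, 10106), (8334, 10107), (8335, 10108), (8336, 10109), (8337, 10110), (8338, 10111), (8339, 8339), (8340, 8340), (8341, 8341), (8342, 8342), (8343, 8343), (8344, 8344), (8345, 8345), (8346, 8346), (8347, 8347), (8348, 6843), (8349, 6844), (8350, 6845), (8351, 6846), (8352, 6847), (8353, 6848), (8354, 6849), (8355, 10048), (8356, 10143), (8357, 10144), (8358, 10145), (8359, 10146), (8360, 10147), (8361, 10148), (8362, 10149), (8363, 10150), (8364, 10151), (8365, 8365), (8366, 8366), (8367, 8367), (8368, 8368), (8369, 8369), (8370, 8370), (8371, 8371), (8372, 7855), (8373, 7235), (8374, 6863), (8375, 6864), (8376, 6865), (8377, 6866), (8378, 6867), (8379, 6868), (8380, 6869), (8381, 6870), (8382, 6871), (8383,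 6872)]
    ⟨e3 q8320 L170124 q6829, e3 q8321 L170134 q6830, e3 q8322 L170143 q6831, e3 q8323 (flp_a L246786) q10097, e3 q8324 (flp_a L246796) q10098, e3 q8325 (flp_a L246804) q10099, e3 q8326 (flp_a L246816) q10100, e3 q8327 (flp_a L246826) q10101, e3 q8328 (flp_a L246835) q10102, e3 q8329 (flp_a L246845) q10103, e3 q8330 (flp_a L575405) q9807, e3 q8331 (flp_a L246866) q10104, e3 q8332 (flp_a L246876) q10105, e3 q8333 (flp_a L246885) q10106, e3 q8334 (flp_a L246895) q10107, e3 q8335 (flp_a L246904) q10108, e3 q8336 (flp_a L246915) q10109, e3 q8337 (flp_a L246926) q10110, e3 q8338 (flp_a L246937) q10111, e3 q8339 L170288 q8339, e3 q8340 L170295 q8340, e3 q8341 L170303 q8341, e3 q8342 L170312 q8342, e3 q8343 L170319 q8343, e3 q8344 L170326 q8344, e3 q8345 L170335 q8345, e3 q8346 L170345 q8346, e3 q8347 L170359 q8347, e3 q8348 L170363 q6843, e3 q8349 L170371 q6844, e3 q8350 L170380 q6845, e3 q8351 L170388 q6846, e3 q8352 L170398 q6847, e3 q8353 L170407 q6848, e3 q8354 L170418 q6849, e3 q8355 (flp_a L614266) q10048, e3 q8356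 (flp_a L247252) q10143, e3 q8357 (flp_a L247262) q10144, e3 q8358 (flp_a L247270) q10145, e3 q8359 (flp_a L247279) q10146, e3 q8360 (flp_a L247289) q10147, e3 q8361 (flp_a L247298) q10148, e3 q8362 (flp_a L247306) q10149, e3 q8363 (flp_a L247316) q10150, e3 q8364 (flp_a L247327) q10151, e3 q8365 L170513 q8365, e3 q8366 L170522 q8366, e3 q8367 L170530 q8367, e3 q8368 L170538 q8368, e3 q8369 L170545 q8369, e3 q8370 L170553 q8370, e3 q8371 L170563 q8371, e3 q8372 L554678 q7855, e3 q8373 L576247 q7235, e3 q8374 L170591 q6863, e3 q8375 L170601 q6864, e3 q8376 L170612 q6865, e3 q8377 L170620 q6866, e3 q8378 L170627 q6867, e3 q8379 L170639 q6868, e3 q8380 L170649 q6869, e3 q8381 L170658 q6870, e3 q8382 L170669 q6871, e3 q8383 L170678 q6872, trivial⟩ (by decide +kernel)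

theorem ce_a_131 : ∀ r, r < 64 → sm ga (Qf (8384 + r)) = Qf (tab Gen.a (8384 + r)) :=
  edges_tab (sm ga) Qf (tab Gen.a) 8384 [(8384, 10176), (8385, 10177), (8386, 10178), (8387, 10179), (8388, 10180), (8389, 10181), (8390, 10182), (8391, 9875), (8392, 10183), (8393, 10184), (8394, 10185), (8395, 10186), (8396, 10187), (8397, 10188), (8398, 10189), (8399, 10190), (8400, 8400), (8401, 8401), (8402, 8402), (8403, 8403), (8404, 8404), (8405, 8405), (8406, 8406), (8407, 8407), (8408, 9872), (8409, 9873), (8410, 9874), (8411, 9876), (8412, 6892), (8413, 6893), (8414, 6894), (8415, 6895), (8416, 6896), (8417, 6897), (8418, 6898), (8419, 6900), (8420, 6901), (8421, 6902), (8422, 6903), (8423, 6904), (8424, 6905), (8425, 6906), (8426, 6907), (8427, 10231), (8428, 10232), (8429, 10233), (8430, 10234), (8431, 10235), (8432, 10236), (8433, 10237), (8434, 10238), (8435, 10239), (8436, 10240), (8437, 10241), (8438, 10242), (8439, 9854), (8440, 9856), (8441, 10243), (8442, 10244), (8443, 10245), (8444, 10246), (8445, 10247), (8446, 10248),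 (8447, 10249)]
    ⟨e3 q8384 (flp_a L247589) q10176, e3 q8385 (flp_a L247599) q10177, e3 q8386 (flp_a L247609) q10178, e3 q8387 (flp_a L247619) q10179, e3 q8388 (flp_a L247630) q10180, e3 q8389 (flp_a L247640) q10181, e3 q8390 (flp_a L247647) q10182, e3 q8391 L553589 q9875, e3 q8392 (flp_a L247666) q10183, e3 q8393 (flp_a L247674) q10184, e3 q8394 (flp_a L247686) q10185, e3 q8395 (flp_a L247696) q10186, e3 q8396 (flp_a L247705) q10187, e3 q8397 (flp_a L247713) q10188, e3 q8398 (flp_a L247724) q10189, e3 q8399 (flp_a L247733) q10190, e3 q8400 L170817 q8400, e3 q8401 L170827 q8401, e3 q8402 L170836 q8402, e3 q8403 L170843 q8403, e3 q8404 L170849 q8404, e3 q8405 L170858 q8405, e3 q8406 L170864 q8406, e3 q8407 L170871 q8407, e3 q8408 (flp_a L244496) q9872, e3 q8409 (flp_a L244505) q9873, e3 q8410 (flp_a L244515) q9874, e3 q8411 (flp_a L244533) q9876, e3 q8412 L170918 q6892, e3 q8413 L170926 q6893, e3 q8414 L170934 q6894, e3 q8415 L170944 q6895, e3 q8416 L170953 q6896, e3 q8417 L170963 q6897, e3 q8418 L170971 q6898, e3 q8419 L170989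 q6900, e3 q8420 L170998 q6901, e3 q8421 L171008 q6902, e3 q8422 L171016 q6903, e3 q8423 L171025 q6904, e3 q8424 L171034 q6905, e3 q8425 L171043 q6906, e3 q8426 L171053 q6907, e3 q8427 (flp_a L248085) q10231, e3 q8428 (flp_a L248093) q10232, e3 q8429 (flp_a L248101) q10233, e3 q8430 (flp_a L248111) q10234, e3 q8431 (flp_a L248119) q10235, e3 q8432 (flp_a L248129) q10236, e3 q8433 (flp_a L248135) q10237, e3 q8434 (flp_a L248145) q10238, e3 q8435 (flp_a L248155) q10239, e3 q8436 (flp_a L248165) q10240, e3 q8437 (flp_a L248175) q10241, e3 q8438 (flp_a L248181) q10242, e3 q8439 L554838 q9854, e3 q8440 (flp_a L550555) q9856, e3 q8441 (flp_a L248209) q10243, e3 q8442 (flp_a L248217) q10244, e3 q8443 (flp_a L248227) q10245, e3 q8444 (flp_a L248238) q10246, e3 q8445 (flp_a L248247) q10247, e3 q8446 (flp_a L248256) q10248, e3 q8447 (flp_a L248265) q10249, trivial⟩ (by decide +kernel)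

theorem ce_a_132 : ∀ r, r < 64 → sm ga (Qf (8448 + r)) = Qf (tab Gen.a (8448 + r)) :=
  edges_tab (sm ga) Qf (tab Gen.a) 8448 [(8448, 10250), (8449, 10251), (8450, 8450), (8451, 8451), (8452, 8452), (8453, 8453), (8454, 8454), (8455, 8455), (8456, 8456), (8457, 8457), (8458, 10296), (8459, 8459), (8460, 8460), (8461, 8461), (8462, 8462), (8463, 6924), (8464, 6925), (8465, 6926), (8466, 6927), (8467, 6930), (8468, 6931), (8469, 6932), (8470, 7948), (8471, 7944), (8472, 10158), (8473, 10302), (8474, 10303), (8475, 10304), (8476, 9963), (8477, 10305), (8478, 7946), (8479, 7947), (8480, 7942), (8481, 7945), (8482, 10306), (8483, 10307), (8484, 8484), (8485, 8485), (8486, 8486), (8487, 8487), (8488, 8488), (8489, 8489), (8490, 8490), (8491, 8491), (8492, 7879), (8493, 7880), (8494, 7309), (8495, 7310), (8496, 6953), (8497, 6954), (8498, 6955), (8499, 6956), (8500, 6957), (8501, 6958), (8502, 6960), (8503, 6961), (8504, 6962), (8505, 6963), (8506, 6965), (8507, 6966), (8508, 6967), (8509, 7590), (8510, 7500), (8511, 10337)]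
    ⟨e3 q8448 (flp_a L248273) q10250, e3 q8449 (flp_a L248283) q10251, e3 q8450 L171232 q8450, e3 q8451 L171240 q8451, e3 q8452 L171249 q8452, e3 q8453 L171257 q8453, e3 q8454 L171266 q8454, e3 q8455 L171273 q8455, e3 q8456 L171280 q8456, e3 q8457 L171287 q8457, e3 q8458 L248627 q10296, e3 q8459 L171301 q8459, e3 q8460 L171309 q8460, e3 q8461 L171316 q8461, e3 q8462 L171325 q8462, e3 q8463 L171342 q6924, e3 q8464 L171350 q6925, e3 q8465 L171359 q6926, e3 q8466 L171367 q6927, e3 q8467 L171395 q6930, e3 q8468 L171404 q6931, e3 q8469 L171413 q6932, e3 q8470 L537026 q7948, e3 q8471 L537067 q7944, e3 q8472 L616352 q10158, e3 q8473 (flp_a L248732) q10302, e3 q8474 (flp_a L248740) q10303, e3 q8475 (flp_a L248750) q10304, e3 q8476 (flp_a L550449) q9963, e3 q8477 (flp_a L248769) q10305, e3 q8478 L543784 q7946, e3 q8479 L543903 q7947, e3 q8480 L561751 q7942, e3 q8481 (flp_a L537157) q7945, e3 q8482 (flp_a L248828) q10306, e3 q8483 (flp_a L248838) q10307, e3 q8484 L171562 q8484, e3 q8485 L171571 q8485, e3 q8486 L171578 q8486, e3 q8487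 L171587 q8487, e3 q8488 L171596 q8488, e3 q8489 L171605 q8489, e3 q8490 L171615 q8490, e3 q8491 L171624 q8491, e3 q8492 (flp_a L555046) q7879, e3 q8493 L554386 q7880, e3 q8494 (flp_a L554509) q7309, e3 q8495 L554626 q7310, e3 q8496 L171688 q6953, e3 q8497 L171698 q6954, e3 q8498 L171709 q6955, e3 q8499 L171719 q6956, e3 q8500 L171727 q6957, e3 q8501 L171735 q6958, e3 q8502 L171754 q6960, e3 q8503 L171761 q6961, e3 q8504 L171772 q6962, e3 q8505 L171784 q6963, e3 q8506 L171803 q6965, e3 q8507 L171815 q6966, e3 q8508 L171823 q6967, e3 q8509 L562043 q7590, e3 q8510 (flp_a L543031) q7500, e3 q8511 (flp_a L249248) q10337, trivial⟩ (by decide +kernel)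

theorem ce_a_133 : ∀ r, r < 64 → sm ga (Qf (8512 + r)) = Qf (tab Gen.a (8512 + r)) :=
  edges_tab (sm ga) Qf (tab Gen.a) 8512 [(8512, 10338), (8513, 10339), (8514, 10340), (8515, 10341), (8516, 10342), (8517, 10343), (8518, 10344), (8519, 10345), (8520, 10346), (8521, 9961), (8522, 9964), (8523, 10347), (8524, 10348), (8525, 10349), (8526, 10350), (8527, 7583), (8528, 10351), (8529, 7484), (8530, 7584), (8531, 10352), (8532, 8532), (8533, 8533), (8534, 8534), (8535, 8535), (8536, 8536), (8537, 8537), (8538, 8538), (8539, 8539), (8540, 10397), (8541, 8541), (8542, 8542), (8543, 9956), (8544, 9957), (8545, 9958), (8546, 9959), (8547, 9960), (8548, 9962), (8549, 6995), (8550, 6996), (8551, 6997), (8552, 6998), (8553, 6999), (8554, 7000), (8555, 7001), (8556, 7002), (8557, 7003), (8558, 7004), (8559, 7005), (8560, 7006), (8561, 7009), (8562, 7010), (8563, 7011), (8564, 7012), (8565, 7013), (8566, 7014), (8567, 7015), (8568, 7016), (8569, 7017), (8570, 10409), (8571, 10410), (8572, 10411), (8573, 10412), (8574, 10413), (8575,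 10414)]
    ⟨e3 q8512 (flp_a L249258) q10338, e3 q8513 (flp_a L249269) q10339, e3 q8514 (flp_a L249279) q10340, e3 q8515 (flp_a L249286) q10341, e3 q8516 (flp_a L249299) q10342, e3 q8517 (flp_a L249308) q10343, e3 q8518 (flp_a L249315) q10344, e3 q8519 (flp_a L249325) q10345, e3 q8520 (flp_a L249331) q10346, e3 q8521 (flp_a L550710) q9961, e3 q8522 L550757 q9964, e3 q8523 (flp_a L249357) q10347, e3 q8524 (flp_a L249365) q10348, e3 q8525 (flp_a L249376) q10349, e3 q8526 (flp_a L249385) q10350, e3 q8527 L561911 q7583, e3 q8528 (flp_a L249404) q10351, e3 q8529 (flp_a L561927) q7484, e3 q8530 L561955 q7584, e3 q8531 (flp_a L249434) q10352, e3 q8532 L172010 q8532, e3 q8533 L172020 q8533, e3 q8534 L172027 q8534, e3 q8535 L172036 q8535, e3 q8536 L172045 q8536, e3 q8537 L172053 q8537, e3 q8538 L172063 q8538, e3 q8539 L172070 q8539, e3 q8540 L249796 q10397, e3 q8541 L172084 q8541, e3 q8542 L172092 q8542, e3 q8543 (flp_a L245478) q9956, e3 q8544 (flp_a L245488) q9957, e3 q8545 (flp_a L245497) q9958, e3 q8546 (flp_a L245509) q9959,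 e3 q8547 (flp_a L245518) q9960, e3 q8548 (flp_a L245537) q9962, e3 q8549 L172178 q6995, e3 q8550 L172187 q6996, e3 q8551 L172197 q6997, e3 q8552 L172205 q6998, e3 q8553 L172214 q6999, e3 q8554 L172224 q7000, e3 q8555 L172231 q7001, e3 q8556 L172242 q7002, e3 q8557 L172251 q7003, e3 q8558 L172259 q7004, e3 q8559 L172267 q7005, e3 q8560 L172274 q7006, e3 q8561 L172303 q7009, e3 q8562 L172310 q7010, e3 q8563 L172319 q7011, e3 q8564 L172328 q7012, e3 q8565 L172338 q7013, e3 q8566 L172348 q7014, e3 q8567 L172357 q7015, e3 q8568 L172367 q7016, e3 q8569 L172378 q7017, e3 q8570 (flp_a L249970) q10409, e3 q8571 (flp_a L249980) q10410, e3 q8572 (flp_a L249990) q10411, e3 q8573 (flp_a L249999) q10412, e3 q8574 (flp_a L250008) q10413, e3 q8575 (flp_a L250018) q10414, trivial⟩ (by decide +kernel)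

theorem ce_a_134 : ∀ r, r < 64 → sm ga (Qf (8576 + r)) = Qf (tab Gen.a (8576 + r)) :=
  edges_tab (sm ga) Qf (tab Gen.a) 8576 [(8576, 10415), (8577, 10416), (8578, 10417), (8579, 10418), (8580, 10419), (8581, 10420), (8582, 10421), (8583, 10422), (8584, 10423), (8585, 10424), (8586, 10425), (8587, 9934), (8588, 10426), (8589, 10427), (8590, 9932), (8591, 9935), (8592, 9936), (8593, 10428), (8594, 10429), (8595, 10430), (8596, 10431), (8597, 10432), (8598, 10433), (8599, 10434), (8600, 10435), (8601, 10484), (8602, 10437), (8603, 7624), (8604, 8604), (8605, 8605), (8606, 8606), (8607, 8607), (8608, 8608), (8609, 8609), (8610, 8610), (8611, 8611), (8612, 10500), (8613, 8613), (8614, 8614), (8615, 7026), (8616, 10503), (8617, 8617), (8618, 8618), (8619, 8619), (8620, 8620), (8621, 7875), (8622, 7044), (8623, 7588), (8624, 7589), (8625, 7498), (8626, 7501), (8627, 7587), (8628, 10507), (8629, 7585), (8630, 7581), (8631, 7582), (8632, 7483), (8633, 7876), (8634, 8634), (8635, 8635), (8636, 8636), (8637, 8637), (8638, 8638), (8639,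 8639)]
    ⟨e3 q8576 (flp_a L250026) q10415, e3 q8577 (flp_a L250036) q10416, e3 q8578 (flp_a L250047) q10417, e3 q8579 (flp_a L250053) q10418, e3 q8580 (flp_a L250063) q10419, e3 q8581 (flp_a L250072) q10420, e3 q8582 (flp_a L250079) q10421, e3 q8583 (flp_a L250088) q10422, e3 q8584 (flp_a L250097) q10423, e3 q8585 (flp_a L250106) q10424, e3 q8586 (flp_a L250114) q10425, e3 q8587 (flp_a L550647) q9934, e3 q8588 (flp_a L250132) q10426, e3 q8589 (flp_a L250140) q10427, e3 q8590 (flp_a L575711) q9932, e3 q8591 (flp_a L550604) q9935, e3 q8592 L553744 q9936, e3 q8593 (flp_a L250176) q10428, e3 q8594 (flp_a L250186) q10429, e3 q8595 (flp_a L250195) q10430, e3 q8596 (flp_a L250206) q10431, e3 q8597 (flp_a L250215) q10432, e3 q8598 (flp_a L250226) q10433, e3 q8599 (flp_a L250236) q10434, e3 q8600 (flp_a L250245) q10435, e3 q8601 L250628 q10484, e3 q8602 (flp_a L250264) q10437, e3 q8603 L562418 q7624, e3 q8604 L172645 q8604, e3 q8605 L172653 q8605, e3 q8606 L172662 q8606, e3 q8607 L172669 q8607, e3 q8608 L172678 q8608, e3 q8609 L172686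 q8609, e3 q8610 L172695 q8610, e3 q8611 L172704 q8611, e3 q8612 L250772 q10500, e3 q8613 L172720 q8613, e3 q8614 L172728 q8614, e3 q8615 (flp_a L172734) q7026, e3 q8616 (flp_a L250799) q10503, e3 q8617 L172753 q8617, e3 q8618 L173481 q8618, e3 q8619 L173495 q8619, e3 q8620 L173512 q8620, e3 q8621 (flp_a L542387) q7875, e3 q8622 L173789 q7044, e3 q8623 L562216 q7588, e3 q8624 L562219 q7589, e3 q8625 (flp_a L562081) q7498, e3 q8626 L562093 q7501, e3 q8627 L563031 q7587, e3 q8628 (flp_a L252395) q10507, e3 q8629 L563123 q7585, e3 q8630 (flp_a L561864) q7581, e3 q8631 L561856 q7582, e3 q8632 (flp_a L561875) q7483, e3 q8633 L551331 q7876, e3 q8634 L174143 q8634, e3 q8635 L174153 q8635, e3 q8636 L174160 q8636, e3 q8637 L174171 q8637, e3 q8638 L174179 q8638, e3 q8639 L174185 q8639, trivial⟩ (by decide +kernel)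

theorem ce_a_135 : ∀ r, r < 64 → sm ga (Qf (8640 + r)) = Qf (tab Gen.a (8640 + r)) :=
  edges_tab (sm ga) Qf (tab Gen.a) 8640 [(8640, 8640), (8641, 8641), (8642, 7962), (8643, 8643), (8644, 8644), (8645, 7057), (8646, 10530), (8647, 8647), (8648, 7069), (8649, 7070), (8650, 7071), (8651, 7073), (8652, 7074), (8653, 7079), (8654, 7080), (8655, 7081), (8656, 7083), (8657, 7085), (8658, 10545), (8659, 10533), (8660, 10534), (8661, 10535), (8662, 10536), (8663, 7641), (8664, 10537), (8665, 7644), (8666, 7565), (8667, 10538), (8668, 7633), (8669, 7636), (8670, 7638), (8671, 7640), (8672, 10564), (8673, 10539), (8674, 10540), (8675, 7626), (8676, 10541), (8677, 10542), (8678, 7627), (8679, 10543), (8680, 7628), (8681, 10578), (8682, 7629), (8683, 7621), (8684, 7087), (8685, 10581), (8686, 7623), (8687, 8687), (8688, 8688), (8689, 8689), (8690, 8690), (8691, 8691), (8692, 10589), (8693, 8693), (8694, 8694), (8695, 8695), (8696, 8696), (8697, 10594), (8698, 8698), (8699, 8699), (8700, 7098), (8701, 10597), (8702, 8702), (8703, 7102)]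
    ⟨e3 q8640 L174194 q8640, e3 q8641 L174201 q8641, e3 q8642 L616208 q7962, e3 q8643 L174214 q8643, e3 q8644 L174222 q8644, e3 q8645 (flp_a L174227) q7057, e3 q8646 (flp_a L253008) q10530, e3 q8647 L174244 q8647, e3 q8648 L174398 q7069, e3 q8649 L174406 q7070, e3 q8650 L174414 q7071, e3 q8651 L174430 q7073, e3 q8652 L174438 q7074, e3 q8653 L174567 q7079, e3 q8654 L174576 q7080, e3 q8655 L174586 q7081, e3 q8656 L174605 q7083, e3 q8657 L174624 q7085, e3 q8658 L253616 q10545, e3 q8659 (flp_a L253262) q10533, e3 q8660 (flp_a L253270) q10534, e3 q8661 (flp_a L253278) q10535, e3 q8662 (flp_a L253286) q10536, e3 q8663 L562163 q7641, e3 q8664 (flp_a L253302) q10537, e3 q8665 L546660 q7644, e3 q8666 (flp_a L546688) q7565, e3 q8667 (flp_a L253336) q10538, e3 q8668 L562951 q7633, e3 q8669 (flp_a L546240) q7636, e3 q8670 L546153 q7638, e3 q8671 (flp_a L546453) q7640, e3 q8672 L253881 q10564, e3 q8673 (flp_a L253518) q10539, e3 q8674 (flp_a L253529) q10540, e3 q8675 L563172 q7626, e3 q8676 (flp_a L253548) q10541, e3 q8677 (flp_a L253556)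 q10542, e3 q8678 L562314 q7627, e3 q8679 (flp_a L253576) q10543, e3 q8680 (flp_a L562346) q7628, e3 q8681 L254087 q10578, e3 q8682 L546499 q7629, e3 q8683 (flp_a L562407) q7621, e3 q8684 (flp_a L174978) q7087, e3 q8685 (flp_a L254112) q10581, e3 q8686 L546535 q7623, e3 q8687 L175006 q8687, e3 q8688 L175014 q8688, e3 q8689 L175024 q8689, e3 q8690 L175032 q8690, e3 q8691 L175039 q8691, e3 q8692 L254203 q10589, e3 q8693 L175055 q8693, e3 q8694 L175063 q8694, e3 q8695 L175073 q8695, e3 q8696 L175082 q8696, e3 q8697 L254262 q10594, e3 q8698 L175096 q8698, e3 q8699 L175106 q8699, e3 q8700 (flp_a L175111) q7098, e3 q8701 (flp_a L254290) q10597, e3 q8702 L175128 q8702, e3 q8703 L175136 q7102, trivial⟩ (by decide +kernel)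

theorem ce_a_136 : ∀ r, r < 64 → sm ga (Qf (8704 + r)) = Qf (tab Gen.a (8704 + r)) :=
  edges_tab (sm ga) Qf (tab Gen.a) 8704 [(8704, 10600), (8705, 8705), (8706, 7109), (8707, 9768), (8708, 9771), (8709, 7123), (8710, 7992), (8711, 7969), (8712, 7994), (8713, 7122), (8714, 9782), (8715, 10603), (8716, 9779), (8717, 9780), (8718, 9772), (8719, 8719), (8720, 8720), (8721, 8721), (8722, 7980), (8723, 7148), (8724, 7976), (8725, 7979), (8726, 7977), (8727, 7978), (8728, 8728), (8729, 8729), (8730, 7146), (8731, 9801), (8732, 9800), (8733, 10612), (8734, 10608), (8735, 9796), (8736, 9795), (8737, 9783), (8738, 9797), (8739, 9784), (8740, 8740), (8741, 8741), (8742, 8742), (8743, 8743), (8744, 8744), (8745, 8745), (8746, 8746), (8747, 8747), (8748, 7887), (8749, 7840), (8750, 7370), (8751, 7373), (8752, 7970), (8753, 7674), (8754, 7835), (8755, 7672), (8756, 7675), (8757, 8757), (8758, 8758), (8759, 7355), (8760, 7341), (8761, 7180), (8762, 7181), (8763, 7182), (8764, 7183), (8765, 7184), (8766, 7185), (8767, 7186)]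
    ⟨e3 q8704 (flp_a L254312) q10600, e3 q8705 L175154 q8705, e3 q8706 (flp_a L621002) q7109, e3 q8707 L620821 q9768, e3 q8708 (flp_a L641900) q9771, e3 q8709 (flp_a L621199) q7123, e3 q8710 (flp_a L567492) q7992, e3 q8711 L592069 q7969, e3 q8712 (flp_a L567516) q7994, e3 q8713 L175899 q7122, e3 q8714 (flp_a L644973) q9782, e3 q8715 L620654 q10603, e3 q8716 L645008 q9779, e3 q8717 L644950 q9780, e3 q8718 (flp_a L644908) q9772, e3 q8719 L176023 q8719, e3 q8720 L176039 q8720, e3 q8721 L176047 q8721, e3 q8722 L567010 q7980, e3 q8723 L621347 q7148, e3 q8724 L566761 q7976, e3 q8725 L591970 q7979, e3 q8726 L567655 q7977, e3 q8727 (flp_a L567631) q7978, e3 q8728 L176457 q8728, e3 q8729 L176489 q8729, e3 q8730 L176566 q7146, e3 q8731 (flp_a L645165) q9801, e3 q8732 L644613 q9800, e3 q8733 (flp_a L256459) q10612, e3 q8734 L621410 q10608, e3 q8735 L641398 q9796, e3 q8736 L645154 q9795, e3 q8737 L645116 q9783, e3 q8738 L641411 q9797, e3 q8739 L641652 q9784, e3 q8740 L176725 q8740, e3 q8741 L176734 q8741, e3 q8742 L176741 q8742, e3 q8743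 L176749 q8743, e3 q8744 L176757 q8744, e3 q8745 L176765 q8745, e3 q8746 L176772 q8746, e3 q8747 L176932 q8747, e3 q8748 L592071 q7887, e3 q8749 L622518 q7840, e3 q8750 L591665 q7370, e3 q8751 (flp_a L591673) q7373, e3 q8752 L592063 q7970, e3 q8753 (flp_a L592055) q7674, e3 q8754 (flp_a L621691) q7835, e3 q8755 L592712 q7672, e3 q8756 L592686 q7675, e3 q8757 L177154 q8757, e3 q8758 L177175 q8758, e3 q8759 L177185 q7355, e3 q8760 (flp_a L550983) q7341, e3 q8761 L177206 q7180, e3 q8762 L177214 q7181, e3 q8763 L177223 q7182, e3 q8764 L177233 q7183, e3 q8765 L177243 q7184, e3 q8766 L177252 q7185, e3 q8767 L177259 q7186, trivial⟩ (by decide +kernel)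

theorem ce_a_137 : ∀ r, r < 64 → sm ga (Qf (8768 + r)) = Qf (tab Gen.a (8768 + r)) :=
  edges_tab (sm ga) Qf (tab Gen.a) 8768 [(8768, 7187), (8769, 7188), (8770, 7189), (8771, 10629), (8772, 10628), (8773, 10638), (8774, 10639), (8775, 10640), (8776, 10641), (8777, 10058), (8778, 10642), (8779, 10643), (8780, 10607), (8781, 10644), (8782, 10645), (8783, 10646), (8784, 10647), (8785, 10648), (8786, 8786), (8787, 8787), (8788, 8788), (8789, 8789), (8790, 8790), (8791, 8791), (8792, 8792), (8793, 8793), (8794, 8794), (8795, 7900), (8796, 7901), (8797, 7447), (8798, 7851), (8799, 7445), (8800, 7448), (8801, 7983), (8802, 7982), (8803, 7718), (8804, 7714), (8805, 7721), (8806, 7716), (8807, 7719), (8808, 8808), (8809, 8809), (8810, 8810), (8811, 8811), (8812, 8812), (8813, 7422), (8814, 7423), (8815, 7404), (8816, 7406), (8817, 7228), (8818, 7229), (8819, 7230), (8820, 7231), (8821, 7232), (8822, 7233), (8823, 7234), (8824, 7236), (8825, 7237), (8826, 7238), (8827, 7239), (8828, 7240), (8829, 7241), (8830, 7242), (8831, 7243)]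
    ⟨e3 q8768 L177268 q7187, e3 q8769 L177278 q7188, e3 q8770 L177287 q7189, e3 q8771 L621634 q10629, e3 q8772 (flp_a L621584) q10628, e3 q8773 (flp_a L257422) q10638, e3 q8774 (flp_a L257443) q10639, e3 q8775 (flp_a L257452) q10640, e3 q8776 (flp_a L257463) q10641, e3 q8777 (flp_a L576216) q10058, e3 q8778 (flp_a L257483) q10642, e3 q8779 (flp_a L257493) q10643, e3 q8780 (flp_a L621456) q10607, e3 q8781 (flp_a L257508) q10644, e3 q8782 (flp_a L257517) q10645, e3 q8783 (flp_a L257525) q10646, e3 q8784 (flp_a L257534) q10647, e3 q8785 (flp_a L257545) q10648, e3 q8786 L177446 q8786, e3 q8787 L177454 q8787, e3 q8788 L177465 q8788, e3 q8789 L177471 q8789, e3 q8790 L177480 q8790, e3 q8791 L177488 q8791, e3 q8792 L177496 q8792, e3 q8793 L177697 q8793, e3 q8794 L177715 q8794, e3 q8795 (flp_a L591813) q7900, e3 q8796 L591973 q7901, e3 q8797 L591860 q7447, e3 q8798 (flp_a L622237) q7851, e3 q8799 L576052 q7445, e3 q8800 (flp_a L591866) q7448, e3 q8801 L591967 q7983, e3 q8802 L592439 q7982, e3 q8803 (flp_a L591963) q7718, e3 q8804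 L521726 q7714, e3 q8805 (flp_a L592022) q7721, e3 q8806 L592582 q7716, e3 q8807 (flp_a L568066) q7719, e3 q8808 L177973 q8808, e3 q8809 L177984 q8809, e3 q8810 L178007 q8810, e3 q8811 L178023 q8811, e3 q8812 L178028 q8812, e3 q8813 L178039 q7422, e3 q8814 L178046 q7423, e3 q8815 L576379 q7404, e3 q8816 (flp_a L576549) q7406, e3 q8817 L178085 q7228, e3 q8818 L178091 q7229, e3 q8819 L178099 q7230, e3 q8820 L178107 q7231, e3 q8821 L178117 q7232, e3 q8822 L178127 q7233, e3 q8823 L178136 q7234, e3 q8824 L178153 q7236, e3 q8825 L178162 q7237, e3 q8826 L178169 q7238, e3 q8827 L178176 q7239, e3 q8828 L178185 q7240, e3 q8829 L178191 q7241, e3 q8830 L178198 q7242, e3 q8831 L178208 q7243, trivial⟩ (by decide +kernel)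

theorem ce_a_138 : ∀ r, r < 64 → sm ga (Qf (8832 + r)) = Qf (tab Gen.a (8832 + r)) :=
  edges_tab (sm ga) Qf (tab Gen.a) 8832 [(8832, 10674), (8833, 9912), (8834, 10693), (8835, 10671), (8836, 10694), (8837, 10695), (8838, 10696), (8839, 10697), (8840, 10698), (8841, 10699), (8842, 10700), (8843, 10701), (8844, 10174), (8845, 10175), (8846, 10702), (8847, 10703), (8848, 10704), (8849, 10705), (8850, 10706), (8851, 9893), (8852, 10707), (8853, 10708), (8854, 8854), (8855, 8855), (8856, 8856), (8857, 8857), (8858, 8858), (8859, 8859), (8860, 8860), (8861, 8861), (8862, 10750), (8863, 8863), (8864, 8864), (8865, 8865), (8866, 8866), (8867, 8867), (8868, 8868), (8869, 8869), (8870, 7927), (8871, 7925), (8872, 7930), (8873, 7929), (8874, 7549), (8875, 7545), (8876, 7552), (8877, 7547), (8878, 7550), (8879, 7986), (8880, 7781), (8881, 7779), (8882, 7771), (8883, 7782), (8884, 7774), (8885, 7777), (8886, 7780), (8887, 8887), (8888, 8888), (8889, 8889), (8890, 8890), (8891, 8891), (8892, 8892), (8893, 8893), (8894, 8894), (8895,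 10790)]
    ⟨e3 q8832 L617227 q10674, e3 q8833 L645201 q9912, e3 q8834 (flp_a L258739) q10693, e3 q8835 (flp_a L611628) q10671, e3 q8836 (flp_a L258755) q10694, e3 q8837 (flp_a L258765) q10695, e3 q8838 (flp_a L258769) q10696, e3 q8839 (flp_a L258777) q10697, e3 q8840 (flp_a L258787) q10698, e3 q8841 (flp_a L258798) q10699, e3 q8842 (flp_a L258808) q10700, e3 q8843 (flp_a L258815) q10701, e3 q8844 L554842 q10174, e3 q8845 L554641 q10175, e3 q8846 (flp_a L258849) q10702, e3 q8847 (flp_a L258858) q10703, e3 q8848 (flp_a L258867) q10704, e3 q8849 (flp_a L258876) q10705, e3 q8850 (flp_a L258884) q10706, e3 q8851 (flp_a L640417) q9893, e3 q8852 (flp_a L258898) q10707, e3 q8853 (flp_a L258906) q10708, e3 q8854 L178400 q8854, e3 q8855 L178407 q8855, e3 q8856 L178418 q8856, e3 q8857 L178423 q8857, e3 q8858 L178432 q8858, e3 q8859 L178438 q8859, e3 q8860 L178447 q8860, e3 q8861 L178455 q8861, e3 q8862 L259263 q10750, e3 q8863 L178468 q8863, e3 q8864 L178476 q8864, e3 q8865 L178752 q8865, e3 q8866 L178760 q8866, e3 q8867 L178769 q8867,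 e3 q8868 L178778 q8868, e3 q8869 L178787 q8869, e3 q8870 (flp_a L590410) q7927, e3 q8871 (flp_a L590571) q7925, e3 q8872 L567771 q7930, e3 q8873 (flp_a L575986) q7929, e3 q8874 L575921 q7549, e3 q8875 L575794 q7545, e3 q8876 L575877 q7552, e3 q8877 L575929 q7547, e3 q8878 L575884 q7550, e3 q8879 L567765 q7986, e3 q8880 (flp_a L567965) q7781, e3 q8881 L575943 q7779, e3 q8882 (flp_a L567969) q7771, e3 q8883 L575898 q7782, e3 q8884 (flp_a L547456) q7774, e3 q8885 L549231 q7777, e3 q8886 L592550 q7780, e3 q8887 L179182 q8887, e3 q8888 L179191 q8888, e3 q8889 L179200 q8889, e3 q8890 L179206 q8890, e3 q8891 L179215 q8891, e3 q8892 L179222 q8892, e3 q8893 L179234 q8893, e3 q8894 L179242 q8894, e3 q8895 L260440 q10790, trivial⟩ (by decide +kernel)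

theorem ce_a_139 : ∀ r, r < 64 → sm ga (Qf (8896 + r)) = Qf (tab Gen.a (8896 + r)) :=
  edges_tab (sm ga) Qf (tab Gen.a) 8896 [(8896, 8896), (8897, 8897), (8898, 7514), (8899, 7515), (8900, 7493), (8901, 7516), (8902, 7491), (8903, 7494), (8904, 7297), (8905, 7298), (8906, 7299), (8907, 7300), (8908, 7301), (8909, 7302), (8910, 7303), (8911, 7304), (8912, 7305), (8913, 7306), (8914, 7307), (8915, 7308), (8916, 7311), (8917, 7312), (8918, 7313), (8919, 7314), (8920, 7315), (8921, 7316), (8922, 7317), (8923, 7318), (8924, 10802), (8925, 10803), (8926, 10804), (8927, 10805), (8928, 10806), (8929, 10807), (8930, 10808), (8931, 10809), (8932, 10810), (8933, 10811), (8934, 10812), (8935, 10813), (8936, 10814), (8937, 10815), (8938, 10816), (8939, 10817), (8940, 10818), (8941, 10333), (8942, 10819), (8943, 10335), (8944, 10336), (8945, 10820), (8946, 10821), (8947, 10822), (8948, 10823), (8949, 10824), (8950, 10825), (8951, 10826), (8952, 10827), (8953, 10874), (8954, 10829), (8955, 10830), (8956, 8956), (8957, 8957), (8958, 8958),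 (8959, 8959)]
    ⟨e3 q8896 L179255 q8896, e3 q8897 L179263 q8897, e3 q8898 L179270 q7514, e3 q8899 L179279 q7515, e3 q8900 (flp_a L553275) q7493, e3 q8901 L179298 q7516, e3 q8902 (flp_a L554133) q7491, e3 q8903 L553200 q7494, e3 q8904 L179365 q7297, e3 q8905 L179374 q7298, e3 q8906 L179382 q7299, e3 q8907 L179388 q7300, e3 q8908 L179397 q7301, e3 q8909 L179407 q7302, e3 q8910 L179412 q7303, e3 q8911 L179421 q7304, e3 q8912 L179430 q7305, e3 q8913 L179439 q7306, e3 q8914 L179447 q7307, e3 q8915 L179455 q7308, e3 q8916 L179489 q7311, e3 q8917 L179497 q7312, e3 q8918 L179504 q7313, e3 q8919 L179514 q7314, e3 q8920 L179523 q7315, e3 q8921 L179532 q7316, e3 q8922 L179539 q7317, e3 q8923 L179548 q7318, e3 q8924 (flp_a L260642) q10802, e3 q8925 (flp_a L260649) q10803, e3 q8926 (flp_a L260659) q10804, e3 q8927 (flp_a L260668) q10805, e3 q8928 (flp_a L260675) q10806, e3 q8929 (flp_a L260683) q10807, e3 q8930 (flp_a L260691) q10808, e3 q8931 (flp_a L260699) q10809, e3 q8932 (flp_a L260710) q10810, e3 q8933 (flp_a L260716) q10811,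 e3 q8934 (flp_a L260726) q10812, e3 q8935 (flp_a L260733) q10813, e3 q8936 (flp_a L260740) q10814, e3 q8937 (flp_a L260747) q10815, e3 q8938 (flp_a L260757) q10816, e3 q8939 (flp_a L260766) q10817, e3 q8940 (flp_a L260775) q10818, e3 q8941 (flp_a L554484) q10333, e3 q8942 (flp_a L260794) q10819, e3 q8943 (flp_a L554471) q10335, e3 q8944 L554463 q10336, e3 q8945 (flp_a L260837) q10820, e3 q8946 (flp_a L260844) q10821, e3 q8947 (flp_a L260853) q10822, e3 q8948 (flp_a L260861) q10823, e3 q8949 (flp_a L260868) q10824, e3 q8950 (flp_a L260878) q10825, e3 q8951 (flp_a L260888) q10826, e3 q8952 (flp_a L260896) q10827, e3 q8953 L261299 q10874, e3 q8954 (flp_a L260912) q10829, e3 q8955 (flp_a L260920) q10830, e3 q8956 L179830 q8956, e3 q8957 L179838 q8957, e3 q8958 L179846 q8958, e3 q8959 L179855 q8959, trivial⟩ (by decide +kernel)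

theorem ce_a_140 : ∀ r, r < 64 → sm ga (Qf (8960 + r)) = Qf (tab Gen.a (8960 + r)) :=
  edges_tab (sm ga) Qf (tab Gen.a) 8960 [(8960, 8960), (8961, 8961), (8962, 8962), (8963, 8963), (8964, 10890), (8965, 8965), (8966, 8966), (8967, 7327), (8968, 10893), (8969, 8969), (8970, 7841), (8971, 7338), (8972, 7339), (8973, 7340), (8974, 7342), (8975, 7343), (8976, 7344), (8977, 7345), (8978, 7346), (8979, 7347), (8980, 10897), (8981, 10898), (8982, 10899), (8983, 7894), (8984, 10900), (8985, 10636), (8986, 10901), (8987, 10637), (8988, 10902), (8989, 10903), (8990, 10904), (8991, 10905), (8992, 10906), (8993, 10907), (8994, 10908), (8995, 8995), (8996, 8996), (8997, 8997), (8998, 10635), (8999, 7884), (9000, 7365), (9001, 7366), (9002, 7367), (9003, 7368), (9004, 7369), (9005, 7371), (9006, 7374), (9007, 7375), (9008, 7376), (9009, 7377), (9010, 7378), (9011, 7379), (9012, 7380), (9013, 10896), (9014, 10924), (9015, 10925), (9016, 10926), (9017, 10927), (9018, 10928), (9019, 10929), (9020, 10930), (9021, 10631), (9022, 10931),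 (9023, 10630)]
    ⟨e3 q8960 L179863 q8960, e3 q8961 L179868 q8961, e3 q8962 L179875 q8962, e3 q8963 L179885 q8963, e3 q8964 L261425 q10890, e3 q8965 L179902 q8965, e3 q8966 L179912 q8966, e3 q8967 (flp_a L179917) q7327, e3 q8968 (flp_a L261454) q10893, e3 q8969 L179935 q8969, e3 q8970 L576102 q7841, e3 q8971 L179962 q7338, e3 q8972 L179972 q7339, e3 q8973 L179983 q7340, e3 q8974 L180003 q7342, e3 q8975 L180014 q7343, e3 q8976 L180024 q7344, e3 q8977 L180033 q7345, e3 q8978 L180045 q7346, e3 q8979 L180054 q7347, e3 q8980 (flp_a L261524) q10897, e3 q8981 (flp_a L261535) q10898, e3 q8982 (flp_a L261545) q10899, e3 q8983 (flp_a L622602) q7894, e3 q8984 (flp_a L261568) q10900, e3 q8985 L576347 q10636, e3 q8986 (flp_a L261588) q10901, e3 q8987 L553543 q10637, e3 q8988 (flp_a L261620) q10902, e3 q8989 (flp_a L261629) q10903, e3 q8990 (flp_a L261641) q10904, e3 q8991 (flp_a L261650) q10905, e3 q8992 (flp_a L261659) q10906, e3 q8993 (flp_a L261670) q10907, e3 q8994 (flp_a L261681) q10908, e3 q8995 L180240 q8995, e3 q8996 L180256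 q8996, e3 q8997 L180264 q8997, e3 q8998 (flp_a L257355) q10635, e3 q8999 (flp_a L621601) q7884, e3 q9000 L180316 q7365, e3 q9001 L180325 q7366, e3 q9002 L180333 q7367, e3 q9003 L180343 q7368, e3 q9004 L180354 q7369, e3 q9005 L180375 q7371, e3 q9006 L180407 q7374, e3 q9007 L180414 q7375, e3 q9008 L180424 q7376, e3 q9009 L180433 q7377, e3 q9010 L180443 q7378, e3 q9011 L180452 q7379, e3 q9012 L180464 q7380, e3 q9013 (flp_a L612410) q10896, e3 q9014 (flp_a L262073) q10924, e3 q9015 (flp_a L262082) q10925, e3 q9016 (flp_a L262089) q10926, e3 q9017 (flp_a L262099) q10927, e3 q9018 (flp_a L262109) q10928, e3 q9019 (flp_a L262115) q10929, e3 q9020 (flp_a L262125) q10930, e3 q9021 (flp_a L591647) q10631, e3 q9022 (flp_a L262147) q10931, e3 q9023 (flp_a L592052) q10630, trivial⟩ (by decide +kernel)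

theorem ce_a_141 : ∀ r, r < 64 → sm ga (Qf (9024 + r)) = Qf (tab Gen.a (9024 + r)) :=
  edges_tab (sm ga) Qf (tab Gen.a) 9024 [(9024, 10632), (9025, 9806), (9026, 9808), (9027, 10932), (9028, 10933), (9029, 10934), (9030, 10935), (9031, 10936), (9032, 10937), (9033, 10938), (9034, 10939), (9035, 9035), (9036, 9036), (9037, 9037), (9038, 9038), (9039, 9039), (9040, 9040), (9041, 9041), (9042, 9042), (9043, 10977), (9044, 9044), (9045, 9045), (9046, 7854), (9047, 7853), (9048, 7399), (9049, 7400), (9050, 7401), (9051, 7402), (9052, 7403), (9053, 7405), (9054, 7407), (9055, 7408), (9056, 7409), (9057, 7410), (9058, 7411), (9059, 7412), (9060, 7413), (9061, 10981), (9062, 10982), (9063, 10983), (9064, 10984), (9065, 10985), (9066, 10986), (9067, 10987), (9068, 10988), (9069, 10691), (9070, 10989), (9071, 10690), (9072, 10692), (9073, 10990), (9074, 10991), (9075, 10992), (9076, 10993), (9077, 10994), (9078, 10995), (9079, 10996), (9080, 10997), (9081, 9081), (9082, 9082), (9083, 9083), (9084, 9084), (9085, 9085), (9086, 9086),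 (9087, 11029)]
    ⟨e3 q9024 (flp_a L591684) q10632, e3 q9025 (flp_a L575393) q9806, e3 q9026 L575452 q9808, e3 q9027 (flp_a L262210) q10932, e3 q9028 (flp_a L262219) q10933, e3 q9029 (flp_a L262227) q10934, e3 q9030 (flp_a L262238) q10935, e3 q9031 (flp_a L262248) q10936, e3 q9032 (flp_a L262257) q10937, e3 q9033 (flp_a L262266) q10938, e3 q9034 (flp_a L262277) q10939, e3 q9035 L180660 q9035, e3 q9036 L180667 q9036, e3 q9037 L180675 q9037, e3 q9038 L180681 q9038, e3 q9039 L180687 q9039, e3 q9040 L180697 q9040, e3 q9041 L180706 q9041, e3 q9042 L180714 q9042, e3 q9043 L262650 q10977, e3 q9044 L180730 q9044, e3 q9045 L180739 q9045, e3 q9046 (flp_a L591826) q7854, e3 q9047 (flp_a L576517) q7853, e3 q9048 L180789 q7399, e3 q9049 L180798 q7400, e3 q9050 L180808 q7401, e3 q9051 L180816 q7402, e3 q9052 L180828 q7403, e3 q9053 L180847 q7405, e3 q9054 L180875 q7407, e3 q9055 L180885 q7408, e3 q9056 L180895 q7409, e3 q9057 L180904 q7410, e3 q9058 L180911 q7411, e3 q9059 L180920 q7412, e3 q9060 L180930 q7413, e3 q9061 (flp_a L262763)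 q10981, e3 q9062 (flp_a L262774) q10982, e3 q9063 (flp_a L262781) q10983, e3 q9064 (flp_a L262791) q10984, e3 q9065 (flp_a L262801) q10985, e3 q9066 (flp_a L262811) q10986, e3 q9067 (flp_a L262815) q10987, e3 q9068 (flp_a L262825) q10988, e3 q9069 L576355 q10691, e3 q9070 (flp_a L262846) q10989, e3 q9071 L576363 q10690, e3 q9072 (flp_a L576557) q10692, e3 q9073 (flp_a L262901) q10990, e3 q9074 (flp_a L262913) q10991, e3 q9075 (flp_a L262922) q10992, e3 q9076 (flp_a L262931) q10993, e3 q9077 (flp_a L262940) q10994, e3 q9078 (flp_a L262951) q10995, e3 q9079 (flp_a L262957) q10996, e3 q9080 (flp_a L262965) q10997, e3 q9081 L181117 q9081, e3 q9082 L181125 q9082, e3 q9083 L181134 q9083, e3 q9084 L181140 q9084, e3 q9085 L181156 q9085, e3 q9086 L181172 q9086, e3 q9087 L263310 q11029, trivial⟩ (by decide +kernel)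

theorem ce_a_142 : ∀ r, r < 64 → sm ga (Qf (9088 + r)) = Qf (tab Gen.a (9088 + r)) :=
  edges_tab (sm ga) Qf (tab Gen.a) 9088 [(9088, 9088), (9089, 9089), (9090, 10688), (9091, 10689), (9092, 7892), (9093, 7437), (9094, 7438), (9095, 7439), (9096, 7440), (9097, 7441), (9098, 7442), (9099, 7443), (9100, 7444), (9101, 7446), (9102, 7451), (9103, 7452), (9104, 7453), (9105, 7454), (9106, 7455), (9107, 7456), (9108, 7457), (9109, 7458), (9110, 11034), (9111, 10980), (9112, 11035), (9113, 11036), (9114, 11037), (9115, 11038), (9116, 11039), (9117, 11040), (9118, 11041), (9119, 11042), (9120, 11043), (9121, 10676), (9122, 11044), (9123, 10678), (9124, 11045), (9125, 10675), (9126, 10679), (9127, 9851), (9128, 10677), (9129, 9853), (9130, 9855), (9131, 11046), (9132, 11047), (9133, 11048), (9134, 11049), (9135, 11050), (9136, 11051), (9137, 11052), (9138, 11053), (9139, 11098), (9140, 11055), (9141, 11056), (9142, 9142), (9143, 9143), (9144, 9144), (9145, 9145), (9146, 9146), (9147, 9147), (9148, 9148), (9149, 9149), (9150, 11114),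 (9151, 9151)]
    ⟨e3 q9088 L181184 q9088, e3 q9089 L181190 q9089, e3 q9090 (flp_a L258628) q10688, e3 q9091 (flp_a L258636) q10689, e3 q9092 L622207 q7892, e3 q9093 L181275 q7437, e3 q9094 L181284 q7438, e3 q9095 L181291 q7439, e3 q9096 L181299 q7440, e3 q9097 L181307 q7441, e3 q9098 L181317 q7442, e3 q9099 L181321 q7443, e3 q9100 L181329 q7444, e3 q9101 L181351 q7446, e3 q9102 L181407 q7451, e3 q9103 L181417 q7452, e3 q9104 L181426 q7453, e3 q9105 L181435 q7454, e3 q9106 L181445 q7455, e3 q9107 L181454 q7456, e3 q9108 L181461 q7457, e3 q9109 L181470 q7458, e3 q9110 (flp_a L263475) q11034, e3 q9111 (flp_a L622116) q10980, e3 q9112 (flp_a L263491) q11035, e3 q9113 (flp_a L263500) q11036, e3 q9114 (flp_a L263506) q11037, e3 q9115 (flp_a L263513) q11038, e3 q9116 (flp_a L263523) q11039, e3 q9117 (flp_a L263533) q11040, e3 q9118 (flp_a L263543) q11041, e3 q9119 (flp_a L263549) q11042, e3 q9120 (flp_a L263559) q11043, e3 q9121 L591851 q10676, e3 q9122 (flp_a L263571) q11044, e3 q9123 (flp_a L591943) q10678, e3 q9124 (flp_a L263589)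 q11045, e3 q9125 (flp_a L591960) q10675, e3 q9126 (flp_a L576039) q10679, e3 q9127 L591846 q9851, e3 q9128 (flp_a L592019) q10677, e3 q9129 (flp_a L575708) q9853, e3 q9130 (flp_a L575294) q9855, e3 q9131 (flp_a L263679) q11046, e3 q9132 (flp_a L263687) q11047, e3 q9133 (flp_a L263698) q11048, e3 q9134 (flp_a L263706) q11049, e3 q9135 (flp_a L263715) q11050, e3 q9136 (flp_a L263725) q11051, e3 q9137 (flp_a L263734) q11052, e3 q9138 (flp_a L263743) q11053, e3 q9139 L264104 q11098, e3 q9140 (flp_a L263760) q11055, e3 q9141 (flp_a L263768) q11056, e3 q9142 L181725 q9142, e3 q9143 L181732 q9143, e3 q9144 L181740 q9144, e3 q9145 L181749 q9145, e3 q9146 L181755 q9146, e3 q9147 L181763 q9147, e3 q9148 L181770 q9148, e3 q9149 L181778 q9149, e3 q9150 L264225 q11114, e3 q9151 L181794 q9151, trivial⟩ (by decide +kernel)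

theorem ce_a_143 : ∀ r, r < 64 → sm ga (Qf (9152 + r)) = Qf (tab Gen.a (9152 + r)) :=
  edges_tab (sm ga) Qf (tab Gen.a) 9152 [(9152, 9152), (9153, 7467), (9154, 11117), (9155, 9155), (9156, 7878), (9157, 7877), (9158, 7485), (9159, 7486), (9160, 7487), (9161, 7488), (9162, 7489), (9163, 7490), (9164, 7492), (9165, 7495), (9166, 7496), (9167, 7497), (9168, 7499), (9169, 7502), (9170, 10516), (9171, 10518), (9172, 10382), (9173, 10363), (9174, 10385), (9175, 11122), (9176, 11123), (9177, 11124), (9178, 11125), (9179, 11126), (9180, 10356), (9181, 10798), (9182, 11127), (9183, 10800), (9184, 11128), (9185, 10797), (9186, 10801), (9187, 10799), (9188, 11129), (9189, 11130), (9190, 10510), (9191, 11131), (9192, 10511), (9193, 11132), (9194, 10355), (9195, 10512), (9196, 11169), (9197, 10357), (9198, 9198), (9199, 9199), (9200, 9200), (9201, 9201), (9202, 9202), (9203, 9203), (9204, 9204), (9205, 9205), (9206, 11184), (9207, 9207), (9208, 9208), (9209, 7511), (9210, 11187), (9211, 9211), (9212, 10793), (9213, 10794), (9214, 10795),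 (9215, 10796)]
    ⟨e3 q9152 L181803 q9152, e3 q9153 (flp_a L181809) q7467, e3 q9154 (flp_a L264253) q11117, e3 q9155 L181823 q9155, e3 q9156 (flp_a L554263) q7878, e3 q9157 (flp_a L554237) q7877, e3 q9158 L181935 q7485, e3 q9159 L181943 q7486, e3 q9160 L181954 q7487, e3 q9161 L181964 q7488, e3 q9162 L181969 q7489, e3 q9163 L181980 q7490, e3 q9164 L181998 q7492, e3 q9165 L182052 q7495, e3 q9166 L182063 q7496, e3 q9167 L182070 q7497, e3 q9168 L182090 q7499, e3 q9169 L182118 q7502, e3 q9170 (flp_a L546961) q10516, e3 q9171 L561852 q10518, e3 q9172 L561908 q10382, e3 q9173 L546927 q10363, e3 q9174 L561952 q10385, e3 q9175 (flp_a L264478) q11122, e3 q9176 (flp_a L264488) q11123, e3 q9177 (flp_a L264496) q11124, e3 q9178 (flp_a L264507) q11125, e3 q9179 (flp_a L264513) q11126, e3 q9180 L546915 q10356, e3 q9181 L547338 q10798, e3 q9182 (flp_a L264539) q11127, e3 q9183 (flp_a L554166) q10800, e3 q9184 (flp_a L264556) q11128, e3 q9185 L534570 q10797, e3 q9186 L554099 q10801, e3 q9187 L553236 q10799, e3 q9188 (flp_a L264640) q11129,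 e3 q9189 (flp_a L264650) q11130, e3 q9190 (flp_a L562065) q10510, e3 q9191 (flp_a L264668) q11131, e3 q9192 (flp_a L562047) q10511, e3 q9193 (flp_a L264688) q11132, e3 q9194 (flp_a L562077) q10355, e3 q9195 L562112 q10512, e3 q9196 L265086 q11169, e3 q9197 L546992 q10357, e3 q9198 L182390 q9198, e3 q9199 L182396 q9199, e3 q9200 L182405 q9200, e3 q9201 L182414 q9201, e3 q9202 L182421 q9202, e3 q9203 L182427 q9203, e3 q9204 L182434 q9204, e3 q9205 L182443 q9205, e3 q9206 L265216 q11184, e3 q9207 L182459 q9207, e3 q9208 L182467 q9208, e3 q9209 (flp_a L182475) q7511, e3 q9210 (flp_a L265243) q11187, e3 q9211 L182490 q9211, e3 q9212 (flp_a L260472) q10793, e3 q9213 (flp_a L260482) q10794, e3 q9214 (flp_a L260491) q10795, e3 q9215 (flp_a L260498) q10796, trivial⟩ (by decide +kernel)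

theorem ce_a_144 : ∀ r, r < 64 → sm ga (Qf (9216 + r)) = Qf (tab Gen.a (9216 + r)) :=
  edges_tab (sm ga) Qf (tab Gen.a) 9216 [(9216, 7534), (9217, 7535), (9218, 7536), (9219, 7537), (9220, 7538), (9221, 7539), (9222, 7540), (9223, 7541), (9224, 7542), (9225, 7543), (9226, 7544), (9227, 7546), (9228, 7548), (9229, 7555), (9230, 7556), (9231, 7557), (9232, 7558), (9233, 7559), (9234, 7560), (9235, 7561), (9236, 7562), (9237, 11223), (9238, 7564), (9239, 11195), (9240, 11196), (9241, 11197), (9242, 11198), (9243, 11199), (9244, 11200), (9245, 10583), (9246, 10761), (9247, 11201), (9248, 11202), (9249, 11203), (9250, 11204), (9251, 11205), (9252, 11206), (9253, 11207), (9254, 11208), (9255, 10766), (9256, 11209), (9257, 11257), (9258, 10768), (9259, 11211), (9260, 9929), (9261, 10769), (9262, 11212), (9263, 10765), (9264, 10770), (9265, 10764), (9266, 10767), (9267, 9928), (9268, 9930), (9269, 9931), (9270, 9933), (9271, 11213), (9272, 11214), (9273, 11215), (9274, 11216), (9275, 11217), (9276, 11218), (9277, 11219), (9278,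 11220), (9279, 11286)]
    ⟨e3 q9216 L182644 q7534, e3 q9217 L182652 q7535, e3 q9218 L182663 q7536, e3 q9219 L182673 q7537, e3 q9220 L182680 q7538, e3 q9221 L182689 q7539, e3 q9222 L182697 q7540, e3 q9223 L182705 q7541, e3 q9224 L182716 q7542, e3 q9225 L182722 q7543, e3 q9226 L182732 q7544, e3 q9227 L182746 q7546, e3 q9228 L182764 q7548, e3 q9229 L182852 q7555, e3 q9230 L182860 q7556, e3 q9231 L182869 q7557, e3 q9232 L182878 q7558, e3 q9233 L182885 q7559, e3 q9234 L182897 q7560, e3 q9235 L182907 q7561, e3 q9236 L182917 q7562, e3 q9237 L265938 q11223, e3 q9238 L182936 q7564, e3 q9239 (flp_a L265519) q11195, e3 q9240 (flp_a L265527) q11196, e3 q9241 (flp_a L265537) q11197, e3 q9242 (flp_a L265545) q11198, e3 q9243 (flp_a L265556) q11199, e3 q9244 (flp_a L265564) q11200, e3 q9245 L546529 q10583, e3 q9246 (flp_a L547331) q10761, e3 q9247 (flp_a L265592) q11201, e3 q9248 (flp_a L265599) q11202, e3 q9249 (flp_a L265606) q11203, e3 q9250 (flp_a L265616) q11204, e3 q9251 (flp_a L265622) q11205, e3 q9252 (flp_a L265630) q11206, e3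 q9253 (flp_a L265637) q11207, e3 q9254 (flp_a L265648) q11208, e3 q9255 L534711 q10766, e3 q9256 (flp_a L265664) q11209, e3 q9257 L266183 q11257, e3 q9258 (flp_a L547406) q10768, e3 q9259 (flp_a L265686) q11211, e3 q9260 (flp_a L575775) q9929, e3 q9261 L547376 q10769, e3 q9262 (flp_a L265711) q11212, e3 q9263 L575952 q10765, e3 q9264 (flp_a L575909) q10770, e3 q9265 (flp_a L567807) q10764, e3 q9266 L575905 q10767, e3 q9267 (flp_a L575764) q9928, e3 q9268 L575758 q9930, e3 q9269 (flp_a L575695) q9931, e3 q9270 L575736 q9933, e3 q9271 (flp_a L265833) q11213, e3 q9272 (flp_a L265841) q11214, e3 q9273 (flp_a L265852) q11215, e3 q9274 (flp_a L265861) q11216, e3 q9275 (flp_a L265869) q11217, e3 q9276 (flp_a L265878) q11218, e3 q9277 (flp_a L265887) q11219, e3 q9278 (flp_a L265898) q11220, e3 q9279 L266464 q11286, trivial⟩ (by decide +kernel)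

theorem ce_a_145 : ∀ r, r < 64 → sm ga (Qf (9280 + r)) = Qf (tab Gen.a (9280 + r)) :=
  edges_tab (sm ga) Qf (tab Gen.a) 9280 [(9280, 11222), (9281, 10555), (9282, 7563), (9283, 11289), (9284, 10557), (9285, 9285), (9286, 9286), (9287, 9287), (9288, 9288), (9289, 9289), (9290, 11297), (9291, 9291), (9292, 9292), (9293, 9293), (9294, 9294), (9295, 11301), (9296, 9296), (9297, 9297), (9298, 7574), (9299, 11303), (9300, 9300), (9301, 7578), (9302, 11306), (9303, 9303), (9304, 7586), (9305, 10517), (9306, 10515), (9307, 10378), (9308, 10380), (9309, 10383), (9310, 10514), (9311, 10513), (9312, 10509), (9313, 10353), (9314, 10508), (9315, 10354), (9316, 11321), (9317, 7591), (9318, 9318), (9319, 9319), (9320, 9320), (9321, 9321), (9322, 9322), (9323, 11326), (9324, 9324), (9325, 9325), (9326, 9326), (9327, 9327), (9328, 11331), (9329, 9329), (9330, 9330), (9331, 7600), (9332, 11334), (9333, 9333), (9334, 7604), (9335, 11337), (9336, 9336), (9337, 7617), (9338, 7618), (9339, 7619), (9340, 7620), (9341, 7622), (9342, 7625), (9343,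 7631)]
    ⟨e3 q9280 (flp_a L265919) q11222, e3 q9281 (flp_a L562121) q10555, e3 q9282 (flp_a L183292) q7563, e3 q9283 (flp_a L266496) q11289, e3 q9284 (flp_a L546681) q10557, e3 q9285 L183321 q9285, e3 q9286 L183329 q9286, e3 q9287 L183335 q9287, e3 q9288 L183344 q9288, e3 q9289 L183353 q9289, e3 q9290 L266588 q11297, e3 q9291 L183368 q9291, e3 q9292 L183377 q9292, e3 q9293 L183384 q9293, e3 q9294 L183391 q9294, e3 q9295 L266641 q11301, e3 q9296 L183407 q9296, e3 q9297 L183417 q9297, e3 q9298 (flp_a L183425) q7574, e3 q9299 (flp_a L266674) q11303, e3 q9300 L183444 q9300, e3 q9301 L183455 q7578, e3 q9302 (flp_a L266700) q11306, e3 q9303 L183472 q9303, e3 q9304 L183843 q7586, e3 q9305 (flp_a L513228) q10517, e3 q9306 L561844 q10515, e3 q9307 L561896 q10378, e3 q9308 L561890 q10380, e3 q9309 L561940 q10383, e3 q9310 L562261 q10514, e3 q9311 L563003 q10513, e3 q9312 L563020 q10509, e3 q9313 L542845 q10353, e3 q9314 L542823 q10508, e3 q9315 L542929 q10354, e3 q9316 L267856 q11321, e3 q9317 (flp_a L184267) q7591, e3 q9318 L184289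 q9318, e3 q9319 L184295 q9319, e3 q9320 L184305 q9320, e3 q9321 L184313 q9321, e3 q9322 L184320 q9322, e3 q9323 L267964 q11326, e3 q9324 L184334 q9324, e3 q9325 L184340 q9325, e3 q9326 L184348 q9326, e3 q9327 L184355 q9327, e3 q9328 L268009 q11331, e3 q9329 L184369 q9329, e3 q9330 L184379 q9330, e3 q9331 (flp_a L184386) q7600, e3 q9332 (flp_a L268037) q11334, e3 q9333 L184403 q9333, e3 q9334 L184411 q7604, e3 q9335 (flp_a L268061) q11337, e3 q9336 L184425 q9336, e3 q9337 L184564 q7617, e3 q9338 L184571 q7618, e3 q9339 L184579 q7619, e3 q9340 L184585 q7620, e3 q9341 L184603 q7622, e3 q9342 L184627 q7625, e3 q9343 L184720 q7631, trivial⟩ (by decide +kernel)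

theorem ce_a_146 : ∀ r, r < 64 → sm ga (Qf (9344 + r)) = Qf (tab Gen.a (9344 + r)) :=
  edges_tab (sm ga) Qf (tab Gen.a) 9344 [(9344, 7632), (9345, 7634), (9346, 7635), (9347, 7637), (9348, 11350), (9349, 7616), (9350, 10525), (9351, 11340), (9352, 11327), (9353, 11341), (9354, 10574), (9355, 11342), (9356, 10577), (9357, 11343), (9358, 10580), (9359, 10483), (9360, 11364), (9361, 10486), (9362, 10566), (9363, 10569), (9364, 10572), (9365, 10573), (9366, 10576), (9367, 11372), (9368, 7630), (9369, 11344), (9370, 10558), (9371, 11345), (9372, 11346), (9373, 10559), (9374, 11377), (9375, 11348), (9376, 10560), (9377, 10561), (9378, 10550), (9379, 11380), (9380, 10562), (9381, 10552), (9382, 7639), (9383, 11382), (9384, 10554), (9385, 7643), (9386, 11385), (9387, 10444), (9388, 7650), (9389, 7652), (9390, 7655), (9391, 11388), (9392, 9392), (9393, 7658), (9394, 9749), (9395, 9395), (9396, 7670), (9397, 7673), (9398, 7680), (9399, 7681), (9400, 7682), (9401, 7683), (9402, 7684), (9403, 9721), (9404, 9835), (9405, 9842), (9406,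 9845), (9407, 9731)]
    ⟨e3 q9344 L184729 q7632, e3 q9345 L184748 q7634, e3 q9346 L184754 q7635, e3 q9347 L184771 q7637, e3 q9348 L268618 q11350, e3 q9349 (flp_a L184816) q7616, e3 q9350 L616076 q10525, e3 q9351 (flp_a L268291) q11340, e3 q9352 L615823 q11327, e3 q9353 (flp_a L268306) q11341, e3 q9354 (flp_a L562389) q10574, e3 q9355 (flp_a L268322) q11342, e3 q9356 L562376 q10577, e3 q9357 (flp_a L268338) q11343, e3 q9358 (flp_a L562400) q10580, e3 q9359 L562440 q10483, e3 q9360 L268778 q11364, e3 q9361 (flp_a L546542) q10486, e3 q9362 L562277 q10566, e3 q9363 L562332 q10569, e3 q9364 L546479 q10572, e3 q9365 L546247 q10573, e3 q9366 (flp_a L562339) q10576, e3 q9367 L268897 q11372, e3 q9368 (flp_a L185017) q7630, e3 q9369 (flp_a L268507) q11344, e3 q9370 L562927 q10558, e3 q9371 (flp_a L268524) q11345, e3 q9372 (flp_a L268532) q11346, e3 q9373 L562942 q10559, e3 q9374 L269007 q11377, e3 q9375 (flp_a L268558) q11348, e3 q9376 (flp_a L546235) q10560, e3 q9377 (flp_a L546176) q10561, e3 q9378 (flp_a L562177) q10550, e3 q9379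 L269056 q11380, e3 q9380 L546413 q10562, e3 q9381 (flp_a L546092) q10552, e3 q9382 (flp_a L185139) q7639, e3 q9383 (flp_a L269087) q11382, e3 q9384 L543470 q10554, e3 q9385 L185167 q7643, e3 q9386 (flp_a L269111) q11385, e3 q9387 L543473 q10444, e3 q9388 (flp_a L185250) q7650, e3 q9389 (flp_a L185299) q7652, e3 q9390 L185330 q7655, e3 q9391 (flp_a L269336) q11388, e3 q9392 L185348 q9392, e3 q9393 L185354 q7658, e3 q9394 L547970 q9749, e3 q9395 L185368 q9395, e3 q9396 L185536 q7670, e3 q9397 L185568 q7673, e3 q9398 L185655 q7680, e3 q9399 L185663 q7681, e3 q9400 L185673 q7682, e3 q9401 L185681 q7683, e3 q9402 L185691 q7684, e3 q9403 (flp_a L647988) q9721, e3 q9404 (flp_a L642731) q9835, e3 q9405 (flp_a L642715) q9842, e3 q9406 L642694 q9845, e3 q9407 (flp_a L645206) q9731, trivial⟩ (by decide +kernel)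

theorem ce_a_147 : ∀ r, r < 64 → sm ga (Qf (9408 + r)) = Qf (tab Gen.a (9408 + r)) :=
  edges_tab (sm ga) Qf (tab Gen.a) 9408 [(9408, 9732), (9409, 9843), (9410, 10634), (9411, 9810), (9412, 10633), (9413, 9812), (9414, 9813), (9415, 9719), (9416, 9720), (9417, 9727), (9418, 9728), (9419, 9836), (9420, 11390), (9421, 11410), (9422, 11391), (9423, 11392), (9424, 9424), (9425, 9425), (9426, 9426), (9427, 9427), (9428, 9428), (9429, 9429), (9430, 9430), (9431, 11424), (9432, 9432), (9433, 9433), (9434, 7692), (9435, 11427), (9436, 9436), (9437, 7712), (9438, 7713), (9439, 7715), (9440, 7717), (9441, 7725), (9442, 7726), (9443, 7727), (9444, 7728), (9445, 7729), (9446, 7730), (9447, 11437), (9448, 7732), (9449, 7733), (9450, 9834), (9451, 9841), (9452, 9811), (9453, 9758), (9454, 9733), (9455, 9899), (9456, 9909), (9457, 9914), (9458, 11451), (9459, 10683), (9460, 11430), (9461, 9860), (9462, 10684), (9463, 11431), (9464, 9910), (9465, 10685), (9466, 10681), (9467, 10682), (9468, 9859), (9469, 9861), (9470, 9862), (9471, 9863)]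
    ⟨e3 q9408 L645337 q9732, e3 q9409 L645178 q9843, e3 q9410 L549801 q10634, e3 q9411 (flp_a L592045) q9810, e3 q9412 L592031 q10633, e3 q9413 (flp_a L554821) q9812, e3 q9414 (flp_a L575284) q9813, e3 q9415 L648173 q9719, e3 q9416 L627680 q9720, e3 q9417 L648135 q9727, e3 q9418 L648004 q9728, e3 q9419 (flp_a L648149) q9836, e3 q9420 (flp_a L269870) q11390, e3 q9421 L270291 q11410, e3 q9422 (flp_a L269886) q11391, e3 q9423 (flp_a L269895) q11392, e3 q9424 L186003 q9424, e3 q9425 L186011 q9425, e3 q9426 L186021 q9426, e3 q9427 L186029 q9427, e3 q9428 L186035 q9428, e3 q9429 L186043 q9429, e3 q9430 L186052 q9430, e3 q9431 L270426 q11424, e3 q9432 L186067 q9432, e3 q9433 L186075 q9433, e3 q9434 (flp_a L186080) q7692, e3 q9435 (flp_a L270450) q11427, e3 q9436 L186098 q9436, e3 q9437 L186363 q7712, e3 q9438 L186374 q7713, e3 q9439 L186387 q7715, e3 q9440 L186404 q7717, e3 q9441 L186503 q7725, e3 q9442 L186512 q7726, e3 q9443 L186523 q7727, e3 q9444 L186531 q7728, e3 q9445 L186541 q7729, e3 q9446 L186548 q7730, e3 q9447 L271159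 q11437, e3 q9448 L186562 q7732, e3 q9449 L186569 q7733, e3 q9450 (flp_a L642435) q9834, e3 q9451 L641363 q9841, e3 q9452 (flp_a L642552) q9811, e3 q9453 (flp_a L648035) q9758, e3 q9454 (flp_a L648011) q9733, e3 q9455 (flp_a L642653) q9899, e3 q9456 (flp_a L642626) q9909, e3 q9457 L642687 q9914, e3 q9458 L271406 q11451, e3 q9459 (flp_a L521669) q10683, e3 q9460 (flp_a L270928) q11430, e3 q9461 L554729 q9860, e3 q9462 (flp_a L592015) q10684, e3 q9463 (flp_a L270952) q11431, e3 q9464 L645187 q9910, e3 q9465 (flp_a L568093) q10685, e3 q9466 (flp_a L591953) q10681, e3 q9467 (flp_a L592011) q10682, e3 q9468 (flp_a L501809) q9859, e3 q9469 (flp_a L592013) q9861, e3 q9470 (flp_a L575144) q9862, e3 q9471 (flp_a L575289) q9863, trivial⟩ (by decide +kernel)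

theorem ce_a_148 : ∀ r, r < 64 → sm ga (Qf (9472 + r)) = Qf (tab Gen.a (9472 + r)) :=
  edges_tab (sm ga) Qf (tab Gen.a) 9472 [(9472, 9747), (9473, 9748), (9474, 10001), (9475, 11432), (9476, 11433), (9477, 9900), (9478, 11434), (9479, 11475), (9480, 11435), (9481, 11436), (9482, 7731), (9483, 11478), (9484, 11439), (9485, 9485), (9486, 9486), (9487, 9487), (9488, 11484), (9489, 9489), (9490, 9490), (9491, 9491), (9492, 9492), (9493, 11490), (9494, 9494), (9495, 9495), (9496, 7742), (9497, 11493), (9498, 9498), (9499, 7746), (9500, 11496), (9501, 9501), (9502, 7766), (9503, 7767), (9504, 7768), (9505, 7769), (9506, 7770), (9507, 7772), (9508, 11506), (9509, 7775), (9510, 7778), (9511, 7788), (9512, 7789), (9513, 7790), (9514, 7791), (9515, 7792), (9516, 7793), (9517, 7794), (9518, 11519), (9519, 7796), (9520, 7797), (9521, 7762), (9522, 11522), (9523, 7800), (9524, 9754), (9525, 9755), (9526, 11499), (9527, 10015), (9528, 11500), (9529, 11501), (9530, 10775), (9531, 11502), (9532, 11539), (9533, 10777), (9534, 11504), (9535,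 10773)]
    ⟨e3 q9472 L648085 q9747, e3 q9473 L648028 q9748, e3 q9474 (flp_a L648068) q10001, e3 q9475 (flp_a L271103) q11432, e3 q9476 (flp_a L271112) q11433, e3 q9477 (flp_a L648099) q9900, e3 q9478 (flp_a L271129) q11434, e3 q9479 L271677 q11475, e3 q9480 (flp_a L271144) q11435, e3 q9481 (flp_a L271152) q11436, e3 q9482 (flp_a L186922) q7731, e3 q9483 (flp_a L271701) q11478, e3 q9484 (flp_a L271174) q11439, e3 q9485 L186950 q9485, e3 q9486 L186960 q9486, e3 q9487 L186977 q9487, e3 q9488 L271788 q11484, e3 q9489 L186993 q9489, e3 q9490 L187000 q9490, e3 q9491 L187009 q9491, e3 q9492 L187017 q9492, e3 q9493 L271841 q11490, e3 q9494 L187031 q9494, e3 q9495 L187039 q9495, e3 q9496 (flp_a L187044) q7742, e3 q9497 (flp_a L271865) q11493, e3 q9498 L187060 q9498, e3 q9499 L187068 q7746, e3 q9500 (flp_a L271888) q11496, e3 q9501 L187081 q9501, e3 q9502 L187331 q7766, e3 q9503 L187339 q7767, e3 q9504 L187349 q7768, e3 q9505 L187357 q7769, e3 q9506 L187369 q7770, e3 q9507 L187387 q7772, e3 q9508 L272406 q11506, e3 q9509 L187410 q7775,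 e3 q9510 L187438 q7778, e3 q9511 L187555 q7788, e3 q9512 L187566 q7789, e3 q9513 L187576 q7790, e3 q9514 L187585 q7791, e3 q9515 L187593 q7792, e3 q9516 L187603 q7793, e3 q9517 L187612 q7794, e3 q9518 L272728 q11519, e3 q9519 L187629 q7796, e3 q9520 L187637 q7797, e3 q9521 (flp_a L187645) q7762, e3 q9522 (flp_a L272756) q11522, e3 q9523 L187663 q7800, e3 q9524 L635488 q9754, e3 q9525 L635426 q9755, e3 q9526 (flp_a L272303) q11499, e3 q9527 (flp_a L635664) q10015, e3 q9528 (flp_a L272319) q11500, e3 q9529 (flp_a L272328) q11501, e3 q9530 L521060 q10775, e3 q9531 (flp_a L272348) q11502, e3 q9532 L272919 q11539, e3 q9533 L547386 q10777, e3 q9534 (flp_a L272373) q11504, e3 q9535 L567801 q10773, trivial⟩ (by decide +kernel)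

theorem ce_a_149 : ∀ r, r < 64 → sm ga (Qf (9536 + r)) = Qf (tab Gen.a (9536 + r)) :=
  edges_tab (sm ga) Qf (tab Gen.a) 9536 [(9536, 10778), (9537, 11505), (9538, 7773), (9539, 11548), (9540, 11549), (9541, 9942), (9542, 10780), (9543, 11508), (9544, 9940), (9545, 9943), (9546, 10781), (9547, 10772), (9548, 10776), (9549, 9938), (9550, 10774), (9551, 9939), (9552, 9941), (9553, 9944), (9554, 9746), (9555, 11509), (9556, 11510), (9557, 11566), (9558, 11512), (9559, 11513), (9560, 11514), (9561, 11515), (9562, 11571), (9563, 11517), (9564, 11518), (9565, 7795), (9566, 11572), (9567, 11521), (9568, 7799), (9569, 11574), (9570, 11524), (9571, 7803), (9572, 7807), (9573, 7809), (9574, 7811), (9575, 7824), (9576, 11578), (9577, 7826), (9578, 7827), (9579, 11580), (9580, 7825), (9581, 7818), (9582, 11577), (9583, 7829), (9584, 7822), (9585, 11584), (9586, 7832), (9587, 11581), (9588, 11583), (9589, 7831), (9590, 9756), (9591, 11586), (9592, 8004), (9593, 10057), (9594, 7898), (9595, 7852), (9596, 11592), (9597, 10172), (9598,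 10173), (9599, 7870)]
    ⟨e3 q9536 L567999 q10778, e3 q9537 (flp_a L272400) q11505, e3 q9538 (flp_a L187789) q7773, e3 q9539 (flp_a L272989) q11548, e3 q9540 (flp_a L272996) q11549, e3 q9541 (flp_a L507816) q9942, e3 q9542 L547481 q10780, e3 q9543 (flp_a L272449) q11508, e3 q9544 (flp_a L507803) q9940, e3 q9545 L547475 q9943, e3 q9546 L507737 q10781, e3 q9547 (flp_a L567793) q10772, e3 q9548 (flp_a L575916) q10776, e3 q9549 (flp_a L483605) q9938, e3 q9550 L567994 q10774, e3 q9551 (flp_a L575149) q9939, e3 q9552 (flp_a L575740) q9941, e3 q9553 L475481 q9944, e3 q9554 (flp_a L647791) q9746, e3 q9555 (flp_a L272627) q11509, e3 q9556 (flp_a L272646) q11510, e3 q9557 L273284 q11566, e3 q9558 (flp_a L272665) q11512, e3 q9559 (flp_a L272674) q11513, e3 q9560 (flp_a L272683) q11514, e3 q9561 (flp_a L272691) q11515, e3 q9562 L273339 q11571, e3 q9563 (flp_a L272710) q11517, e3 q9564 (flp_a L272719) q11518, e3 q9565 (flp_a L188075) q7795, e3 q9566 (flp_a L273368) q11572, e3 q9567 (flp_a L272746) q11521, e3 q9568 L188101 q7799, e3 q9569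 (flp_a L273393) q11574, e3 q9570 (flp_a L272774) q11524, e3 q9571 (flp_a L188196) q7803, e3 q9572 (flp_a L188251) q7807, e3 q9573 L188280 q7809, e3 q9574 L188305 q7811, e3 q9575 L188352 q7824, e3 q9576 L273777 q11578, e3 q9577 L188387 q7826, e3 q9578 L188394 q7827, e3 q9579 (flp_a L645842) q11580, e3 q9580 (flp_a L646216) q7825, e3 q9581 (flp_a L188446) q7818, e3 q9582 (flp_a L646202) q11577, e3 q9583 L188464 q7829, e3 q9584 L188472 q7822, e3 q9585 (flp_a L273888) q11584, e3 q9586 L188489 q7832, e3 q9587 (flp_a L273803) q11581, e3 q9588 (flp_a L273880) q11583, e3 q9589 L188663 q7831, e3 q9590 L549073 q9756, e3 q9591 (flp_a L273904) q11586, e3 q9592 L189318 q8004, e3 q9593 (flp_a L501933) q10057, e3 q9594 L576778 q7898, e3 q9595 L195060 q7852, e3 q9596 (flp_a L283577) q11592, e3 q9597 (flp_a L554684) q10172, e3 q9598 L554880 q10173, e3 q9599 (flp_a L615261) q7870, trivial⟩ (by decide +kernel)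

theorem ce_a_150 : ∀ r, r < 64 → sm ga (Qf (9600 + r)) = Qf (tab Gen.a (9600 + r)) :=
  edges_tab (sm ga) Qf (tab Gen.a) 9600 [(9600, 7869), (9601, 7923), (9602, 7926), (9603, 7914), (9604, 7913), (9605, 7911), (9606, 7871), (9607, 7872), (9608, 7873), (9609, 7874), (9610, 10759), (9611, 11596), (9612, 11595), (9613, 11600), (9614, 11601), (9615, 10330), (9616, 10384), (9617, 11602), (9618, 10519), (9619, 11121), (9620, 11120), (9621, 10332), (9622, 10334), (9623, 10915), (9624, 7886), (9625, 11613), (9626, 9804), (9627, 9805), (9628, 7893), (9629, 11010), (9630, 10914), (9631, 11615), (9632, 7897), (9633, 7899), (9634, 11618), (9635, 10672), (9636, 11591), (9637, 9849), (9638, 10673), (9639, 9850), (9640, 9852), (9641, 7908), (9642, 7909), (9643, 7910), (9644, 7912), (9645, 11191), (9646, 11624), (9647, 11625), (9648, 11598), (9649, 11626), (9650, 10309), (9651, 11599), (9652, 7939), (9653, 7920), (9654, 7921), (9655, 7922), (9656, 7924), (9657, 11633), (9658, 11634), (9659, 11635), (9660, 10760), (9661, 11597), (9662,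 9925), (9663, 10762)]
    ⟨e3 q9600 L615281 q7869, e3 q9601 (flp_a L590568) q7923, e3 q9602 L590553 q7926, e3 q9603 L551385 q7914, e3 q9604 L551379 q7913, e3 q9605 L551373 q7911, e3 q9606 L197322 q7871, e3 q9607 L197329 q7872, e3 q9608 L197337 q7873, e3 q9609 L197372 q7874, e3 q9610 L617271 q10759, e3 q9611 (flp_a L615010) q11596, e3 q9612 L614944 q11595, e3 q9613 (flp_a L286929) q11600, e3 q9614 (flp_a L286937) q11601, e3 q9615 (flp_a L513594) q10330, e3 q9616 L547055 q10384, e3 q9617 (flp_a L286960) q11602, e3 q9618 (flp_a L554257) q10519, e3 q9619 L554244 q11121, e3 q9620 L567745 q11120, e3 q9621 (flp_a L502367) q10332, e3 q9622 (flp_a L502338) q10334, e3 q9623 L621553 q10915, e3 q9624 L198646 q7886, e3 q9625 (flp_a L288808) q11613, e3 q9626 L591780 q9804, e3 q9627 (flp_a L575343) q9805, e3 q9628 L199365 q7893, e3 q9629 (flp_a L622175) q11010, e3 q9630 L617196 q10914, e3 q9631 (flp_a L289868) q11615, e3 q9632 L200100 q7897, e3 q9633 L200114 q7899, e3 q9634 (flp_a L290945) q11618, e3 q9635 (flp_a L473694) q10672, e3 q9636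 (flp_a L576790) q11591, e3 q9637 (flp_a L576769) q9849, e3 q9638 (flp_a L567726) q10673, e3 q9639 L554875 q9850, e3 q9640 (flp_a L554852) q9852, e3 q9641 L201030 q7908, e3 q9642 L201041 q7909, e3 q9643 L201052 q7910, e3 q9644 L201068 q7912, e3 q9645 L615372 q11191, e3 q9646 (flp_a L292261) q11624, e3 q9647 (flp_a L292270) q11625, e3 q9648 (flp_a L547250) q11598, e3 q9649 (flp_a L292287) q11626, e3 q9650 (flp_a L537043) q10309, e3 q9651 (flp_a L547290) q11599, e3 q9652 (flp_a L616269) q7939, e3 q9653 L202066 q7920, e3 q9654 L202083 q7921, e3 q9655 L202092 q7922, e3 q9656 L202110 q7924, e3 q9657 (flp_a L293752) q11633, e3 q9658 (flp_a L293791) q11634, e3 q9659 (flp_a L293810) q11635, e3 q9660 L534755 q10760, e3 q9661 (flp_a L534061) q11597, e3 q9662 L534171 q9925, e3 q9663 L590546 q10762, trivial⟩ (by decide +kernel)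

theorem ce_a_151 : ∀ r, r < 64 → sm ga (Qf (9664 + r)) = Qf (tab Gen.a (9664 + r)) :=
  edges_tab (sm ga) Qf (tab Gen.a) 9664 [(9664, 10758), (9665, 9924), (9666, 10763), (9667, 9926), (9668, 9927), (9669, 7938), (9670, 7940), (9671, 7941), (9672, 7943), (9673, 10528), (9674, 11646), (9675, 11630), (9676, 10319), (9677, 11647), (9678, 10320), (9679, 11648), (9680, 10308), (9681, 10321), (9682, 9682), (9683, 10310), (9684, 9684), (9685, 9685), (9686, 9686), (9687, 9687), (9688, 9688), (9689, 7963), (9690, 7964), (9691, 7965), (9692, 7966), (9693, 10394), (9694, 11660), (9695, 11661), (9696, 11662), (9697, 9781), (9698, 9774), (9699, 9773), (9700, 10606), (9701, 9809), (9702, 9799), (9703, 9787), (9704, 10609), (9705, 9786), (9706, 10611), (9707, 10610), (9708, 9785), (9709, 10680), (9710, 9857), (9711, 9858), (9712, 10771), (9713, 9937), (9714, 9770), (9715, 9769), (9716, 9775), (9717, 9788), (9718, 8011), (9719, 9415), (9720, 9416), (9721, 9403), (9722, 9722), (9723, 9723), (9724, 8019), (9725, 8020), (9726, 8023), (9727,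 9417)]
    ⟨e3 q9664 L567739 q10758, e3 q9665 L534151 q9924, e3 q9666 (flp_a L575961) q10763, e3 q9667 L567847 q9926, e3 q9668 (flp_a L502296) q9927, e3 q9669 L202841 q7938, e3 q9670 L202859 q7940, e3 q9671 L202866 q7941, e3 q9672 L202881 q7943, e3 q9673 (flp_a L616250) q10528, e3 q9674 (flp_a L294769) q11646, e3 q9675 (flp_a L616232) q11630, e3 q9676 (flp_a L523542) q10319, e3 q9677 (flp_a L294803) q11647, e3 q9678 (flp_a L523502) q10320, e3 q9679 (flp_a L294821) q11648, e3 q9680 (flp_a L537034) q10308, e3 q9681 (flp_a L561771) q10321, e3 q9682 L420394 q9682, e3 q9683 (flp_a L523399) q10310, e3 q9684 L203486 q9684, e3 q9685 L203501 q9685, e3 q9686 L203524 q9686, e3 q9687 L203533 q9687, e3 q9688 L203542 q9688, e3 q9689 L203568 q7963, e3 q9690 L203583 q7964, e3 q9691 L203592 q7965, e3 q9692 L203600 q7966, e3 q9693 (flp_a L616182) q10394, e3 q9694 (flp_a L295722) q11660, e3 q9695 (flp_a L295729) q11661, e3 q9696 (flp_a L295745) q11662, e3 q9697 L644985 q9781, e3 q9698 (flp_a L644917) q9774, e3 q9699 L567570 q9773, e3 q9700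 L645135 q10606, e3 q9701 (flp_a L554786) q9809, e3 q9702 L641371 q9799, e3 q9703 L641436 q9787, e3 q9704 L567653 q10609, e3 q9705 L567643 q9786, e3 q9706 (flp_a L567637) q10611, e3 q9707 (flp_a L567688) q10610, e3 q9708 L567029 q9785, e3 q9709 (flp_a L567715) q10680, e3 q9710 (flp_a L567842) q9857, e3 q9711 (flp_a L501800) q9858, e3 q9712 (flp_a L483773) q10771, e3 q9713 (flp_a L567831) q9937, e3 q9714 L565976 q9770, e3 q9715 (flp_a L641551) q9769, e3 q9716 L567324 q9775, e3 q9717 L567330 q9788, e3 q9718 L241458 q8011, e3 q9719 (flp_a L648173) q9415, e3 q9720 (flp_a L627680) q9416, e3 q9721 L647988 q9403, e3 q9722 L241605 q9722, e3 q9723 L241626 q9723, e3 q9724 L241679 q8019, e3 q9725 L241688 q8020, e3 q9726 L241735 q8023, e3 q9727 (flp_a L648135) q9417, trivial⟩ (by decide +kernel)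

theorem ce_a_152 : ∀ r, r < 64 → sm ga (Qf (9728 + r)) = Qf (tab Gen.a (9728 + r)) :=
  edges_tab (sm ga) Qf (tab Gen.a) 9728 [(9728, 9418), (9729, 11680), (9730, 11681), (9731, 9407), (9732, 9408), (9733, 9454), (9734, 9734), (9735, 9735), (9736, 9736), (9737, 9737), (9738, 9738), (9739, 8038), (9740, 8039), (9741, 8040), (9742, 8041), (9743, 8043), (9744, 8044), (9745, 8046), (9746, 9554), (9747, 9472), (9748, 9473), (9749, 9394), (9750, 11691), (9751, 11692), (9752, 11693), (9753, 11694), (9754, 9524), (9755, 9525), (9756, 9590), (9757, 11695), (9758, 9453), (9759, 9759), (9760, 9760), (9761, 9761), (9762, 9762), (9763, 9763), (9764, 9764), (9765, 11716), (9766, 9766), (9767, 9767), (9768, 8707), (9769, 9715), (9770, 9714), (9771, 8708), (9772, 8718), (9773, 9699), (9774, 9698), (9775, 9716), (9776, 9776), (9777, 9777), (9778, 8075), (9779, 8716), (9780, 8717), (9781, 9697), (9782, 8714), (9783, 8737), (9784, 8739), (9785, 9708), (9786, 9705), (9787, 9703), (9788, 9717), (9789, 9789), (9790, 9790), (9791, 9791)]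
    ⟨e3 q9728 (flp_a L648004) q9418, e3 q9729 (flp_a L351070) q11680, e3 q9730 (flp_a L351080) q11681, e3 q9731 L645206 q9407, e3 q9732 (flp_a L645337) q9408, e3 q9733 L648011 q9454, e3 q9734 L241911 q9734, e3 q9735 L241927 q9735, e3 q9736 L241935 q9736, e3 q9737 L241972 q9737, e3 q9738 L241979 q9738, e3 q9739 L242033 q8038, e3 q9740 L242043 q8039, e3 q9741 L242053 q8040, e3 q9742 L242062 q8041, e3 q9743 L242098 q8043, e3 q9744 L242108 q8044, e3 q9745 L242128 q8046, e3 q9746 L647791 q9554, e3 q9747 (flp_a L648085) q9472, e3 q9748 (flp_a L648028) q9473, e3 q9749 (flp_a L547970) q9394, e3 q9750 (flp_a L351619) q11691, e3 q9751 (flp_a L351630) q11692, e3 q9752 (flp_a L351639) q11693, e3 q9753 (flp_a L351649) q11694, e3 q9754 (flp_a L635488) q9524, e3 q9755 (flp_a L635426) q9525, e3 q9756 (flp_a L549073) q9590, e3 q9757 (flp_a L351714) q11695, e3 q9758 L648035 q9453, e3 q9759 L242344 q9759, e3 q9760 L242351 q9760, e3 q9761 L242359 q9761, e3 q9762 L242368 q9762, e3 q9763 L242378 q9763, e3 q9764 L242387 q9764, e3 q9765 L352111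 q11716, e3 q9766 L242404 q9766, e3 q9767 L242414 q9767, e3 q9768 (flp_a L620821) q8707, e3 q9769 L641551 q9715, e3 q9770 (flp_a L565976) q9714, e3 q9771 L641900 q8708, e3 q9772 L644908 q8718, e3 q9773 (flp_a L567570) q9699, e3 q9774 L644917 q9698, e3 q9775 (flp_a L567324) q9716, e3 q9776 L242788 q9776, e3 q9777 L242798 q9777, e3 q9778 L242864 q8075, e3 q9779 (flp_a L645008) q8716, e3 q9780 (flp_a L644950) q8717, e3 q9781 (flp_a L644985) q9697, e3 q9782 L644973 q8714, e3 q9783 (flp_a L645116) q8737, e3 q9784 (flp_a L641652) q8739, e3 q9785 (flp_a L567029) q9708, e3 q9786 (flp_a L567643) q9705, e3 q9787 (flp_a L641436) q9703, e3 q9788 (flp_a L567330) q9717, e3 q9789 L243213 q9789, e3 q9790 L243224 q9790, e3 q9791 L243234 q9791, trivial⟩ (by decide +kernel)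

theorem ce_a_153 : ∀ r, r < 64 → sm ga (Qf (9792 + r)) = Qf (tab Gen.a (9792 + r)) :=
  edges_tab (sm ga) Qf (tab Gen.a) 9792 [(9792, 9792), (9793, 9793), (9794, 8094), (9795, 8736), (9796, 8735), (9797, 8738), (9798, 11733), (9799, 9702), (9800, 8732), (9801, 8731), (9802, 9802), (9803, 9803), (9804, 9626), (9805, 9627), (9806, 9025), (9807, 8330), (9808, 9026), (9809, 9701), (9810, 9411), (9811, 9452), (9812, 9413), (9813, 9414), (9814, 9814), (9815, 9815), (9816, 9816), (9817, 9817), (9818, 9818), (9819, 9819), (9820, 9820), (9821, 8311), (9822, 8312), (9823, 8122), (9824, 8123), (9825, 8124), (9826, 8125), (9827, 8126), (9828, 8127), (9829, 8128), (9830, 8131), (9831, 11763), (9832, 11764), (9833, 11765), (9834, 9450), (9835, 9404), (9836, 9419), (9837, 11766), (9838, 11767), (9839, 11768), (9840, 11769), (9841, 9451), (9842, 9405), (9843, 9409), (9844, 11770), (9845, 9406), (9846, 9846), (9847, 9847), (9848, 9848), (9849, 9637), (9850, 9639), (9851, 9127), (9852, 9640), (9853, 9129), (9854, 8439), (9855, 9130)]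
    ⟨e3 q9792 L243242 q9792, e3 q9793 L243250 q9793, e3 q9794 L243333 q8094, e3 q9795 (flp_a L645154) q8736, e3 q9796 (flp_a L641398) q8735, e3 q9797 (flp_a L641411) q8738, e3 q9798 (flp_a L353525) q11733, e3 q9799 (flp_a L641371) q9702, e3 q9800 (flp_a L644613) q8732, e3 q9801 L645165 q8731, e3 q9802 L243494 q9802, e3 q9803 L243503 q9803, e3 q9804 (flp_a L591780) q9626, e3 q9805 L575343 q9627, e3 q9806 L575393 q9025, e3 q9807 L575405 q8330, e3 q9808 (flp_a L575452) q9026, e3 q9809 L554786 q9701, e3 q9810 L592045 q9411, e3 q9811 L642552 q9452, e3 q9812 L554821 q9413, e3 q9813 L575284 q9414, e3 q9814 L243750 q9814, e3 q9815 L243760 q9815, e3 q9816 L243771 q9816, e3 q9817 L243780 q9817, e3 q9818 L243788 q9818, e3 q9819 L243801 q9819, e3 q9820 L243812 q9820, e3 q9821 L243823 q8311, e3 q9822 L243833 q8312, e3 q9823 L243845 q8122, e3 q9824 L243855 q8123, e3 q9825 L243863 q8124, e3 q9826 L243873 q8125, e3 q9827 L243881 q8126, e3 q9828 L243892 q8127, e3 q9829 L243899 q8128, e3 q9830 L243928 q8131, e3 q9831 (flp_a L354275) q11763,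 e3 q9832 (flp_a L354284) q11764, e3 q9833 (flp_a L354292) q11765, e3 q9834 L642435 q9450, e3 q9835 L642731 q9404, e3 q9836 L648149 q9419, e3 q9837 (flp_a L354332) q11766, e3 q9838 (flp_a L354342) q11767, e3 q9839 (flp_a L354352) q11768, e3 q9840 (flp_a L354361) q11769, e3 q9841 (flp_a L641363) q9451, e3 q9842 L642715 q9405, e3 q9843 (flp_a L645178) q9409, e3 q9844 (flp_a L354396) q11770, e3 q9845 (flp_a L642694) q9406, e3 q9846 L244114 q9846, e3 q9847 L244132 q9847, e3 q9848 L244141 q9848, e3 q9849 L576769 q9637, e3 q9850 (flp_a L554875) q9639, e3 q9851 (flp_a L591846) q9127, e3 q9852 L554852 q9640, e3 q9853 L575708 q9129, e3 q9854 (flp_a L554838) q8439, e3 q9855 L575294 q9130, trivial⟩ (by decide +kernel)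

theorem ce_a_154 : ∀ r, r < 64 → sm ga (Qf (9856 + r)) = Qf (tab Gen.a (9856 + r)) :=
  edges_tab (sm ga) Qf (tab Gen.a) 9856 [(9856, 8440), (9857, 9710), (9858, 9711), (9859, 9468), (9860, 9461), (9861, 9469), (9862, 9470), (9863, 9471), (9864, 9864), (9865, 9865), (9866, 9866), (9867, 9867), (9868, 9868), (9869, 9869), (9870, 9870), (9871, 9871), (9872, 8408), (9873, 8409), (9874, 8410), (9875, 8391), (9876, 8411), (9877, 8168), (9878, 8169), (9879, 8170), (9880, 8171), (9881, 8172), (9882, 8173), (9883, 8174), (9884, 8175), (9885, 8176), (9886, 8177), (9887, 8178), (9888, 8179), (9889, 8180), (9890, 8181), (9891, 8183), (9892, 11828), (9893, 8851), (9894, 11829), (9895, 11830), (9896, 11831), (9897, 11832), (9898, 11833), (9899, 9455), (9900, 9477), (9901, 11834), (9902, 11835), (9903, 11836), (9904, 11837), (9905, 11838), (9906, 11839), (9907, 11840), (9908, 11841), (9909, 9456), (9910, 9464), (9911, 11842), (9912, 8833), (9913, 11843), (9914, 9457), (9915, 9915), (9916, 9916), (9917, 9917), (9918, 9918), (9919, 9919)]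
    ⟨e3 q9856 L550555 q8440, e3 q9857 L567842 q9710, e3 q9858 L501800 q9711, e3 q9859 L501809 q9468, e3 q9860 (flp_a L554729) q9461, e3 q9861 L592013 q9469, e3 q9862 L575144 q9470, e3 q9863 L575289 q9471, e3 q9864 L244420 q9864, e3 q9865 L244431 q9865, e3 q9866 L244442 q9866, e3 q9867 L244451 q9867, e3 q9868 L244457 q9868, e3 q9869 L244468 q9869, e3 q9870 L244476 q9870, e3 q9871 L244484 q9871, e3 q9872 L244496 q8408, e3 q9873 L244505 q8409, e3 q9874 L244515 q8410, e3 q9875 (flp_a L553589) q8391, e3 q9876 L244533 q8411, e3 q9877 L244544 q8168, e3 q9878 L244551 q8169, e3 q9879 L244559 q8170, e3 q9880 L244569 q8171, e3 q9881 L244578 q8172, e3 q9882 L244588 q8173, e3 q9883 L244595 q8174, e3 q9884 L244603 q8175, e3 q9885 L244612 q8176, e3 q9886 L244620 q8177, e3 q9887 L244629 q8178, e3 q9888 L244636 q8179, e3 q9889 L244645 q8180, e3 q9890 L244652 q8181, e3 q9891 L244670 q8183, e3 q9892 (flp_a L355343) q11828, e3 q9893 L640417 q8851, e3 q9894 (flp_a L355357) q11829, e3 q9895 (flp_a L355367) q11830, e3 q9896 (flp_a L355375) q11831,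 e3 q9897 (flp_a L355385) q11832, e3 q9898 (flp_a L355391) q11833, e3 q9899 L642653 q9455, e3 q9900 L648099 q9477, e3 q9901 (flp_a L355420) q11834, e3 q9902 (flp_a L355430) q11835, e3 q9903 (flp_a L355435) q11836, e3 q9904 (flp_a L355443) q11837, e3 q9905 (flp_a L355450) q11838, e3 q9906 (flp_a L355460) q11839, e3 q9907 (flp_a L355467) q11840, e3 q9908 (flp_a L355476) q11841, e3 q9909 L642626 q9456, e3 q9910 (flp_a L645187) q9464, e3 q9911 (flp_a L355503) q11842, e3 q9912 (flp_a L645201) q8833, e3 q9913 (flp_a L355518) q11843, e3 q9914 (flp_a L642687) q9457, e3 q9915 L244863 q9915, e3 q9916 L244872 q9916, e3 q9917 L244883 q9917, e3 q9918 L244890 q9918, e3 q9919 L244906 q9919, trivial⟩ (by decide +kernel)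

theorem ce_a_155 : ∀ r, r < 64 → sm ga (Qf (9920 + r)) = Qf (tab Gen.a (9920 + r)) :=
  edges_tab (sm ga) Qf (tab Gen.a) 9920 [(9920, 9920), (9921, 11878), (9922, 9922), (9923, 9923), (9924, 9665), (9925, 9662), (9926, 9667), (9927, 9668), (9928, 9267), (9929, 9260), (9930, 9268), (9931, 9269), (9932, 8590), (9933, 9270), (9934, 8587), (9935, 8591), (9936, 8592), (9937, 9713), (9938, 9549), (9939, 9551), (9940, 9544), (9941, 9552), (9942, 9541), (9943, 9545), (9944, 9553), (9945, 9945), (9946, 9946), (9947, 9947), (9948, 9948), (9949, 9949), (9950, 9950), (9951, 9951), (9952, 9952), (9953, 11921), (9954, 9954), (9955, 9955), (9956, 8543), (9957, 8544), (9958, 8545), (9959, 8546), (9960, 8547), (9961, 8521), (9962, 8548), (9963, 8476), (9964, 8522), (9965, 8236), (9966, 8237), (9967, 8238), (9968, 8239), (9969, 8240), (9970, 8241), (9971, 8242), (9972, 8243), (9973, 8244), (9974, 8245), (9975, 8246), (9976, 8247), (9977, 8248), (9978, 8249), (9979, 8250), (9980, 8251), (9981, 8252), (9982, 8253), (9983, 8254)]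
    ⟨e3 q9920 L244922 q9920, e3 q9921 L355889 q11878, e3 q9922 L244935 q9922, e3 q9923 L244944 q9923, e3 q9924 (flp_a L534151) q9665, e3 q9925 (flp_a L534171) q9662, e3 q9926 (flp_a L567847) q9667, e3 q9927 L502296 q9668, e3 q9928 L575764 q9267, e3 q9929 L575775 q9260, e3 q9930 (flp_a L575758) q9268, e3 q9931 L575695 q9269, e3 q9932 L575711 q8590, e3 q9933 (flp_a L575736) q9270, e3 q9934 L550647 q8587, e3 q9935 L550604 q8591, e3 q9936 (flp_a L553744) q8592, e3 q9937 L567831 q9713, e3 q9938 L483605 q9549, e3 q9939 L575149 q9551, e3 q9940 L507803 q9544, e3 q9941 L575740 q9552, e3 q9942 L507816 q9541, e3 q9943 (flp_a L547475) q9545, e3 q9944 (flp_a L475481) q9553, e3 q9945 L245372 q9945, e3 q9946 L245383 q9946, e3 q9947 L245392 q9947, e3 q9948 L245400 q9948, e3 q9949 L245411 q9949, e3 q9950 L245419 q9950, e3 q9951 L245431 q9951, e3 q9952 L245440 q9952, e3 q9953 L356652 q11921, e3 q9954 L245457 q9954, e3 q9955 L245468 q9955, e3 q9956 L245478 q8543, e3 q9957 L245488 q8544, e3 q9958 L245497 q8545, e3 q9959 L245509 q8546, e3 q9960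 L245518 q8547, e3 q9961 L550710 q8521, e3 q9962 L245537 q8548, e3 q9963 L550449 q8476, e3 q9964 (flp_a L550757) q8522, e3 q9965 L245573 q8236, e3 q9966 L245581 q8237, e3 q9967 L245590 q8238, e3 q9968 L245598 q8239, e3 q9969 L245607 q8240, e3 q9970 L245617 q8241, e3 q9971 L245624 q8242, e3 q9972 L245635 q8243, e3 q9973 L245644 q8244, e3 q9974 L245651 q8245, e3 q9975 L245659 q8246, e3 q9976 L245665 q8247, e3 q9977 L245674 q8248, e3 q9978 L245682 q8249, e3 q9979 L245691 q8250, e3 q9980 L245697 q8251, e3 q9981 L245705 q8252, e3 q9982 L245714 q8253, e3 q9983 L245724 q8254, trivial⟩ (by decide +kernel)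

theorem ce_a_156 : ∀ r, r < 64 → sm ga (Qf (9984 + r)) = Qf (tab Gen.a (9984 + r)) :=
  edges_tab (sm ga) Qf (tab Gen.a) 9984 [(9984, 8255), (9985, 8256), (9986, 8257), (9987, 8258), (9988, 11939), (9989, 11940), (9990, 11941), (9991, 11942), (9992, 11943), (9993, 11944), (9994, 11945), (9995, 11946), (9996, 11947), (9997, 11948), (9998, 11949), (9999, 11950), (10000, 11951), (10001, 9474), (10002, 11952), (10003, 11953), (10004, 11954), (10005, 11955), (10006, 11956), (10007, 11957), (10008, 11958), (10009, 11959), (10010, 11960), (10011, 11961), (10012, 11962), (10013, 11963), (10014, 11964), (10015, 9527), (10016, 11965), (10017, 11966), (10018, 11967), (10019, 12016), (10020, 11968), (10021, 11969), (10022, 10022), (10023, 10023), (10024, 10024), (10025, 10025), (10026, 10026), (10027, 10027), (10028, 10028), (10029, 10029), (10030, 12030), (10031, 10031), (10032, 10032), (10033, 8267), (10034, 12033), (10035, 10035), (10036, 10036), (10037, 8274), (10038, 8275), (10039, 8276), (10040, 8277), (10041, 8278), (10042, 8279),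 (10043, 8280), (10044, 12037), (10045, 12038), (10046, 12039), (10047, 12040)]
    ⟨e3 q9984 L245732 q8255, e3 q9985 L245741 q8256, e3 q9986 L245749 q8257, e3 q9987 L245759 q8258, e3 q9988 (flp_a L356865) q11939, e3 q9989 (flp_a L356874) q11940, e3 q9990 (flp_a L356883) q11941, e3 q9991 (flp_a L356891) q11942, e3 q9992 (flp_a L356900) q11943, e3 q9993 (flp_a L356909) q11944, e3 q9994 (flp_a L356917) q11945, e3 q9995 (flp_a L356927) q11946, e3 q9996 (flp_a L356938) q11947, e3 q9997 (flp_a L356944) q11948, e3 q9998 (flp_a L356954) q11949, e3 q9999 (flp_a L356963) q11950, e3 q10000 (flp_a L356970) q11951, e3 q10001 L648068 q9474, e3 q10002 (flp_a L356987) q11952, e3 q10003 (flp_a L356996) q11953, e3 q10004 (flp_a L357003) q11954, e3 q10005 (flp_a L357011) q11955, e3 q10006 (flp_a L357019) q11956, e3 q10007 (flp_a L357026) q11957, e3 q10008 (flp_a L357034) q11958, e3 q10009 (flp_a L357041) q11959, e3 q10010 (flp_a L357050) q11960, e3 q10011 (flp_a L357058) q11961, e3 q10012 (flp_a L357067) q11962, e3 q10013 (flp_a L357076) q11963,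 e3 q10014 (flp_a L357086) q11964, e3 q10015 L635664 q9527, e3 q10016 (flp_a L357104) q11965, e3 q10017 (flp_a L357114) q11966, e3 q10018 (flp_a L357121) q11967, e3 q10019 L357532 q12016, e3 q10020 (flp_a L357137) q11968, e3 q10021 (flp_a L357146) q11969, e3 q10022 L246044 q10022, e3 q10023 L246054 q10023, e3 q10024 L246062 q10024, e3 q10025 L246071 q10025, e3 q10026 L246081 q10026, e3 q10027 L246087 q10027, e3 q10028 L246096 q10028, e3 q10029 L246105 q10029, e3 q10030 L357669 q12030, e3 q10031 L246120 q10031, e3 q10032 L246129 q10032, e3 q10033 (flp_a L246133) q8267, e3 q10034 (flp_a L357695) q12033, e3 q10035 L246153 q10035, e3 q10036 L246168 q10036, e3 q10037 L246172 q8274, e3 q10038 L246182 q8275, e3 q10039 L246192 q8276, e3 q10040 L246202 q8277, e3 q10041 L246211 q8278, e3 q10042 L246222 q8279, e3 q10043 L246234 q8280, e3 q10044 (flp_a L357761) q12037, e3 q10045 (flp_a L357771) q12038, e3 q10046 (flp_a L357781) q12039, e3 q10047 (flp_a L357801) q12040, trivial⟩ (by decide +kernel)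

theorem ce_a_157 : ∀ r, r < 64 → sm ga (Qf (10048 + r)) = Qf (tab Gen.a (10048 + r)) :=
  edges_tab (sm ga) Qf (tab Gen.a) 10048 [(10048, 8355), (10049, 12041), (10050, 12042), (10051, 10051), (10052, 10052), (10053, 10053), (10054, 10054), (10055, 10055), (10056, 10056), (10057, 9593), (10058, 8777), (10059, 8294), (10060, 8295), (10061, 8296), (10062, 8297), (10063, 8298), (10064, 8299), (10065, 8300), (10066, 8301), (10067, 8302), (10068, 8303), (10069, 12061), (10070, 12062), (10071, 12063), (10072, 12064), (10073, 12065), (10074, 12066), (10075, 12067), (10076, 11761), (10077, 12068), (10078, 12069), (10079, 12070), (10080, 12071), (10081, 12072), (10082, 12073), (10083, 12074), (10084, 12075), (10085, 10085), (10086, 10086), (10087, 10087), (10088, 10088), (10089, 10089), (10090, 10090), (10091, 10091), (10092, 10092), (10093, 11758), (10094, 11759), (10095, 11760), (10096, 11762), (10097, 8323), (10098, 8324), (10099, 8325), (10100, 8326), (10101, 8327), (10102, 8328), (10103, 8329), (10104, 8331), (10105, 8332),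 (10106, 8333), (10107, 8334), (10108, 8335), (10109, 8336), (10110, 8337), (10111, 8338)]
    ⟨e3 q10048 L614266 q8355, e3 q10049 (flp_a L357822) q12041, e3 q10050 (flp_a L357832) q12042, e3 q10051 L246347 q10051, e3 q10052 L246357 q10052, e3 q10053 L246365 q10053, e3 q10054 L246374 q10054, e3 q10055 L246384 q10055, e3 q10056 L246395 q10056, e3 q10057 L501933 q9593, e3 q10058 L576216 q8777, e3 q10059 L246425 q8294, e3 q10060 L246437 q8295, e3 q10061 L246447 q8296, e3 q10062 L246457 q8297, e3 q10063 L246465 q8298, e3 q10064 L246478 q8299, e3 q10065 L246488 q8300, e3 q10066 L246499 q8301, e3 q10067 L246511 q8302, e3 q10068 L246519 q8303, e3 q10069 (flp_a L358121) q12061, e3 q10070 (flp_a L358133) q12062, e3 q10071 (flp_a L358143) q12063, e3 q10072 (flp_a L358155) q12064, e3 q10073 (flp_a L358167) q12065, e3 q10074 (flp_a L358176) q12066, e3 q10075 (flp_a L358185) q12067, e3 q10076 (flp_a L550766) q11761, e3 q10077 (flp_a L358207) q12068, e3 q10078 (flp_a L358216) q12069, e3 q10079 (flp_a L358227) q12070, e3 q10080 (flp_a L358239)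 q12071, e3 q10081 (flp_a L358248) q12072, e3 q10082 (flp_a L358258) q12073, e3 q10083 (flp_a L358271) q12074, e3 q10084 (flp_a L358281) q12075, e3 q10085 L246675 q10085, e3 q10086 L246684 q10086, e3 q10087 L246692 q10087, e3 q10088 L246701 q10088, e3 q10089 L246707 q10089, e3 q10090 L246716 q10090, e3 q10091 L246724 q10091, e3 q10092 L246733 q10092, e3 q10093 (flp_a L354222) q11758, e3 q10094 (flp_a L354233) q11759, e3 q10095 (flp_a L354242) q11760, e3 q10096 (flp_a L354263) q11762, e3 q10097 L246786 q8323, e3 q10098 L246796 q8324, e3 q10099 L246804 q8325, e3 q10100 L246816 q8326, e3 q10101 L246826 q8327, e3 q10102 L246835 q8328, e3 q10103 L246845 q8329, e3 q10104 L246866 q8331, e3 q10105 L246876 q8332, e3 q10106 L246885 q8333, e3 q10107 L246895 q8334, e3 q10108 L246904 q8335, e3 q10109 L246915 q8336, e3 q10110 L246926 q8337, e3 q10111 L246937 q8338, trivial⟩ (by decide +kernel)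

theorem ce_a_158 : ∀ r, r < 64 → sm ga (Qf (10112 + r)) = Qf (tab Gen.a (10112 + r)) :=
  edges_tab (sm ga) Qf (tab Gen.a) 10112 [(10112, 12114), (10113, 12115), (10114, 12116), (10115, 12117), (10116, 12118), (10117, 12119), (10118, 12120), (10119, 12121), (10120, 12122), (10121, 12123), (10122, 12124), (10123, 12125), (10124, 11744), (10125, 11746), (10126, 12126), (10127, 12127), (10128, 12128), (10129, 12129), (10130, 12130), (10131, 12131), (10132, 12132), (10133, 12133), (10134, 12134), (10135, 10135), (10136, 10136), (10137, 10137), (10138, 10138), (10139, 12166), (10140, 10140), (10141, 10141), (10142, 10142), (10143, 8356), (10144, 8357), (10145, 8358), (10146, 8359), (10147, 8360), (10148, 8361), (10149, 8362), (10150, 8363), (10151, 8364), (10152, 12049), (10153, 12171), (10154, 12172), (10155, 12173), (10156, 11826), (10157, 12174), (10158, 8472), (10159, 12175), (10160, 12176), (10161, 12177), (10162, 12178), (10163, 12179), (10164, 10164), (10165, 10165), (10166, 10166), (10167, 10167), (10168, 10168), (10169,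 10169), (10170, 10170), (10171, 10171), (10172, 9597), (10173, 9598), (10174, 8844), (10175, 8845)]
    ⟨e3 q10112 (flp_a L358671) q12114, e3 q10113 (flp_a L358679) q12115, e3 q10114 (flp_a L358689) q12116, e3 q10115 (flp_a L358698) q12117, e3 q10116 (flp_a L358708) q12118, e3 q10117 (flp_a L358718) q12119, e3 q10118 (flp_a L358726) q12120, e3 q10119 (flp_a L358738) q12121, e3 q10120 (flp_a L358749) q12122, e3 q10121 (flp_a L358758) q12123, e3 q10122 (flp_a L358767) q12124, e3 q10123 (flp_a L358775) q12125, e3 q10124 (flp_a L550515) q11744, e3 q10125 (flp_a L575438) q11746, e3 q10126 (flp_a L358808) q12126, e3 q10127 (flp_a L358817) q12127, e3 q10128 (flp_a L358826) q12128, e3 q10129 (flp_a L358836) q12129, e3 q10130 (flp_a L358847) q12130, e3 q10131 (flp_a L358856) q12131, e3 q10132 (flp_a L358865) q12132, e3 q10133 (flp_a L358875) q12133, e3 q10134 (flp_a L358887) q12134, e3 q10135 L247134 q10135, e3 q10136 L247159 q10136, e3 q10137 L247176 q10137, e3 q10138 L247192 q10138, e3 q10139 L359265 q12166, e3 q10140 L247208 q10140,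 e3 q10141 L247218 q10141, e3 q10142 L247235 q10142, e3 q10143 L247252 q8356, e3 q10144 L247262 q8357, e3 q10145 L247270 q8358, e3 q10146 L247279 q8359, e3 q10147 L247289 q8360, e3 q10148 L247298 q8361, e3 q10149 L247306 q8362, e3 q10150 L247316 q8363, e3 q10151 L247327 q8364, e3 q10152 (flp_a L614278) q12049, e3 q10153 (flp_a L359376) q12171, e3 q10154 (flp_a L359386) q12172, e3 q10155 (flp_a L359395) q12173, e3 q10156 (flp_a L550786) q11826, e3 q10157 (flp_a L359414) q12174, e3 q10158 (flp_a L616352) q8472, e3 q10159 (flp_a L359443) q12175, e3 q10160 (flp_a L359452) q12176, e3 q10161 (flp_a L359461) q12177, e3 q10162 (flp_a L359470) q12178, e3 q10163 (flp_a L359481) q12179, e3 q10164 L247474 q10164, e3 q10165 L247484 q10165, e3 q10166 L247493 q10166, e3 q10167 L247501 q10167, e3 q10168 L247509 q10168, e3 q10169 L247518 q10169, e3 q10170 L247526 q10170, e3 q10171 L247534 q10171, e3 q10172 L554684 q9597, e3 q10173 (flp_a L554880) q9598, e3 q10174 (flp_a L554842) q8844, e3 q10175 (flp_a L554641) q8845, trivial⟩ (by decide +kernel)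

theorem ce_a_159 : ∀ r, r < 64 → sm ga (Qf (10176 + r)) = Qf (tab Gen.a (10176 + r)) :=
  edges_tab (sm ga) Qf (tab Gen.a) 10176 [(10176, 8384), (10177, 8385), (10178, 8386), (10179, 8387), (10180, 8388), (10181, 8389), (10182, 8390), (10183, 8392), (10184, 8393), (10185, 8394), (10186, 8395), (10187, 8396), (10188, 8397), (10189, 8398), (10190, 8399), (10191, 12210), (10192, 12211), (10193, 12212), (10194, 12213), (10195, 12214), (10196, 12215), (10197, 12216), (10198, 12217), (10199, 12218), (10200, 12219), (10201, 12220), (10202, 12221), (10203, 11824), (10204, 11827), (10205, 12222), (10206, 12223), (10207, 12224), (10208, 12225), (10209, 12226), (10210, 12227), (10211, 12228), (10212, 12229), (10213, 12230), (10214, 10214), (10215, 10215), (10216, 10216), (10217, 10217), (10218, 10218), (10219, 10219), (10220, 10220), (10221, 10221), (10222, 12276), (10223, 10223), (10224, 10224), (10225, 11819), (10226, 11820), (10227, 11821), (10228, 11822), (10229, 11823), (10230, 11825), (10231, 8427), (10232, 8428), (10233, 8429),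 (10234, 8430), (10235, 8431), (10236, 8432), (10237, 8433), (10238, 8434), (10239, 8435)]
    ⟨e3 q10176 L247589 q8384, e3 q10177 L247599 q8385, e3 q10178 L247609 q8386, e3 q10179 L247619 q8387, e3 q10180 L247630 q8388, e3 q10181 L247640 q8389, e3 q10182 L247647 q8390, e3 q10183 L247666 q8392, e3 q10184 L247674 q8393, e3 q10185 L247686 q8394, e3 q10186 L247696 q8395, e3 q10187 L247705 q8396, e3 q10188 L247713 q8397, e3 q10189 L247724 q8398, e3 q10190 L247733 q8399, e3 q10191 (flp_a L359867) q12210, e3 q10192 (flp_a L359877) q12211, e3 q10193 (flp_a L359885) q12212, e3 q10194 (flp_a L359897) q12213, e3 q10195 (flp_a L359907) q12214, e3 q10196 (flp_a L359917) q12215, e3 q10197 (flp_a L359923) q12216, e3 q10198 (flp_a L359935) q12217, e3 q10199 (flp_a L359945) q12218, e3 q10200 (flp_a L359954) q12219, e3 q10201 (flp_a L359966) q12220, e3 q10202 (flp_a L359971) q12221, e3 q10203 L550795 q11824, e3 q10204 L553570 q11827, e3 q10205 (flp_a L359996) q12222, e3 q10206 (flp_a L360005) q12223, e3 q10207 (flp_a L360017) q12224, e3 q10208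 (flp_a L360028) q12225, e3 q10209 (flp_a L360037) q12226, e3 q10210 (flp_a L360045) q12227, e3 q10211 (flp_a L360056) q12228, e3 q10212 (flp_a L360063) q12229, e3 q10213 (flp_a L360072) q12230, e3 q10214 L247921 q10214, e3 q10215 L247931 q10215, e3 q10216 L247940 q10216, e3 q10217 L247948 q10217, e3 q10218 L247959 q10218, e3 q10219 L247965 q10219, e3 q10220 L247974 q10220, e3 q10221 L247980 q10221, e3 q10222 L360422 q12276, e3 q10223 L247992 q10223, e3 q10224 L247999 q10224, e3 q10225 (flp_a L355246) q11819, e3 q10226 (flp_a L355255) q11820, e3 q10227 (flp_a L355264) q11821, e3 q10228 (flp_a L355275) q11822, e3 q10229 (flp_a L355285) q11823, e3 q10230 (flp_a L355305) q11825, e3 q10231 L248085 q8427, e3 q10232 L248093 q8428, e3 q10233 L248101 q8429, e3 q10234 L248111 q8430, e3 q10235 L248119 q8431, e3 q10236 L248129 q8432, e3 q10237 L248135 q8433, e3 q10238 L248145 q8434, e3 q10239 L248155 q8435, trivial⟩ (by decide +kernel)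

theorem ce_a_160 : ∀ r, r < 64 → sm ga (Qf (10240 + r)) = Qf (tab Gen.a (10240 + r)) :=
  edges_tab (sm ga) Qf (tab Gen.a) 10240 [(10240, 8436), (10241, 8437), (10242, 8438), (10243, 8441), (10244, 8442), (10245, 8443), (10246, 8444), (10247, 8445), (10248, 8446), (10249, 8447), (10250, 8448), (10251, 8449), (10252, 12289), (10253, 12290), (10254, 12291), (10255, 12292), (10256, 12293), (10257, 12294), (10258, 12295), (10259, 12296), (10260, 12297), (10261, 12298), (10262, 12299), (10263, 12300), (10264, 12301), (10265, 12302), (10266, 12303), (10267, 12304), (10268, 12305), (10269, 11797), (10270, 12306), (10271, 12307), (10272, 11795), (10273, 11798), (10274, 11799), (10275, 12308), (10276, 12309), (10277, 12310), (10278, 12311), (10279, 12312), (10280, 12313), (10281, 12314), (10282, 12315), (10283, 12365), (10284, 12317), (10285, 12318), (10286, 10286), (10287, 10287), (10288, 10288), (10289, 10289), (10290, 10290), (10291, 10291), (10292, 10292), (10293, 12377), (10294, 10294), (10295, 10295), (10296, 8458), (10297,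 12380), (10298, 10298), (10299, 10299), (10300, 10300), (10301, 10301), (10302, 8473), (10303, 8474)]
    ⟨e3 q10240 L248165 q8436, e3 q10241 L248175 q8437, e3 q10242 L248181 q8438, e3 q10243 L248209 q8441, e3 q10244 L248217 q8442, e3 q10245 L248227 q8443, e3 q10246 L248238 q8444, e3 q10247 L248247 q8445, e3 q10248 L248256 q8446, e3 q10249 L248265 q8447, e3 q10250 L248273 q8448, e3 q10251 L248283 q8449, e3 q10252 (flp_a L360592) q12289, e3 q10253 (flp_a L360601) q12290, e3 q10254 (flp_a L360609) q12291, e3 q10255 (flp_a L360617) q12292, e3 q10256 (flp_a L360625) q12293, e3 q10257 (flp_a L360633) q12294, e3 q10258 (flp_a L360643) q12295, e3 q10259 (flp_a L360655) q12296, e3 q10260 (flp_a L360665) q12297, e3 q10261 (flp_a L360671) q12298, e3 q10262 (flp_a L360681) q12299, e3 q10263 (flp_a L360689) q12300, e3 q10264 (flp_a L360695) q12301, e3 q10265 (flp_a L360703) q12302, e3 q10266 (flp_a L360713) q12303, e3 q10267 (flp_a L360723) q12304, e3 q10268 (flp_a L360731) q12305, e3 q10269 (flp_a L550527) q11797, e3 q10270 (flp_a L360750)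 q12306, e3 q10271 (flp_a L360757) q12307, e3 q10272 (flp_a L550521) q11795, e3 q10273 (flp_a L550510) q11798, e3 q10274 (flp_a L550566) q11799, e3 q10275 (flp_a L360794) q12308, e3 q10276 (flp_a L360804) q12309, e3 q10277 (flp_a L360815) q12310, e3 q10278 (flp_a L360825) q12311, e3 q10279 (flp_a L360836) q12312, e3 q10280 (flp_a L360845) q12313, e3 q10281 (flp_a L360854) q12314, e3 q10282 (flp_a L360862) q12315, e3 q10283 L361231 q12365, e3 q10284 (flp_a L360879) q12317, e3 q10285 (flp_a L360888) q12318, e3 q10286 L248541 q10286, e3 q10287 L248550 q10287, e3 q10288 L248558 q10288, e3 q10289 L248567 q10289, e3 q10290 L248575 q10290, e3 q10291 L248584 q10291, e3 q10292 L248600 q10292, e3 q10293 L361363 q12377, e3 q10294 L248614 q10294, e3 q10295 L248622 q10295, e3 q10296 (flp_a L248627) q8458, e3 q10297 (flp_a L361388) q12380, e3 q10298 L248643 q10298, e3 q10299 L248669 q10299, e3 q10300 L248678 q10300, e3 q10301 L248685 q10301, e3 q10302 L248732 q8473, e3 q10303 L248740 q8474, trivial⟩ (by decide +kernel)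

theorem ce_a_161 : ∀ r, r < 64 → sm ga (Qf (10304 + r)) = Qf (tab Gen.a (10304 + r)) :=
  edges_tab (sm ga) Qf (tab Gen.a) 10304 [(10304, 8475), (10305, 8477), (10306, 8482), (10307, 8483), (10308, 9680), (10309, 9650), (10310, 9683), (10311, 12188), (10312, 12386), (10313, 12387), (10314, 12388), (10315, 12389), (10316, 11934), (10317, 11937), (10318, 12390), (10319, 9676), (10320, 9678), (10321, 9681), (10322, 12391), (10323, 10323), (10324, 10324), (10325, 10325), (10326, 10326), (10327, 10327), (10328, 10328), (10329, 10329), (10330, 9615), (10331, 10331), (10332, 9621), (10333, 8941), (10334, 9622), (10335, 8943), (10336, 8944), (10337, 8511), (10338, 8512), (10339, 8513), (10340, 8514), (10341, 8515), (10342, 8516), (10343, 8517), (10344, 8518), (10345, 8519), (10346, 8520), (10347, 8523), (10348, 8524), (10349, 8525), (10350, 8526), (10351, 8528), (10352, 8531), (10353, 9313), (10354, 9315), (10355, 9194), (10356, 9180), (10357, 9197), (10358, 12420), (10359, 12421), (10360, 12422), (10361, 12423), (10362, 12424),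 (10363, 9173), (10364, 12425), (10365, 12426), (10366, 12427), (10367, 12428)]
    ⟨e3 q10304 L248750 q8475, e3 q10305 L248769 q8477, e3 q10306 L248828 q8482, e3 q10307 L248838 q8483, e3 q10308 L537034 q9680, e3 q10309 L537043 q9650, e3 q10310 L523399 q9683, e3 q10311 (flp_a L613974) q12188, e3 q10312 (flp_a L361571) q12386, e3 q10313 (flp_a L361580) q12387, e3 q10314 (flp_a L361589) q12388, e3 q10315 (flp_a L361597) q12389, e3 q10316 L550695 q11934, e3 q10317 (flp_a L550751) q11937, e3 q10318 (flp_a L361627) q12390, e3 q10319 L523542 q9676, e3 q10320 L523502 q9678, e3 q10321 L561771 q9681, e3 q10322 (flp_a L361706) q12391, e3 q10323 L249052 q10323, e3 q10324 L249060 q10324, e3 q10325 L249068 q10325, e3 q10326 L249076 q10326, e3 q10327 L249086 q10327, e3 q10328 L249096 q10328, e3 q10329 L249106 q10329, e3 q10330 L513594 q9615, e3 q10331 L249124 q10331, e3 q10332 L502367 q9621, e3 q10333 L554484 q8941, e3 q10334 L502338 q9622, e3 q10335 L554471 q8943, e3 q10336 (flp_a L554463) q8944, e3 q10337 L249248 q8511, e3 q10338 L249258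 q8512, e3 q10339 L249269 q8513, e3 q10340 L249279 q8514, e3 q10341 L249286 q8515, e3 q10342 L249299 q8516, e3 q10343 L249308 q8517, e3 q10344 L249315 q8518, e3 q10345 L249325 q8519, e3 q10346 L249331 q8520, e3 q10347 L249357 q8523, e3 q10348 L249365 q8524, e3 q10349 L249376 q8525, e3 q10350 L249385 q8526, e3 q10351 L249404 q8528, e3 q10352 L249434 q8531, e3 q10353 (flp_a L542845) q9313, e3 q10354 (flp_a L542929) q9315, e3 q10355 L562077 q9194, e3 q10356 (flp_a L546915) q9180, e3 q10357 (flp_a L546992) q9197, e3 q10358 (flp_a L362352) q12420, e3 q10359 (flp_a L362362) q12421, e3 q10360 (flp_a L362372) q12422, e3 q10361 (flp_a L362383) q12423, e3 q10362 (flp_a L362389) q12424, e3 q10363 (flp_a L546927) q9173, e3 q10364 (flp_a L362410) q12425, e3 q10365 (flp_a L362417) q12426, e3 q10366 (flp_a L362426) q12427, e3 q10367 (flp_a L362434) q12428, trivial⟩ (by decide +kernel)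

theorem ce_a_162 : ∀ r, r < 64 → sm ga (Qf (10368 + r)) = Qf (tab Gen.a (10368 + r)) :=
  edges_tab (sm ga) Qf (tab Gen.a) 10368 [(10368, 12429), (10369, 12430), (10370, 11935), (10371, 12431), (10372, 12432), (10373, 11932), (10374, 11936), (10375, 11938), (10376, 12433), (10377, 12434), (10378, 9307), (10379, 12435), (10380, 9308), (10381, 12436), (10382, 9172), (10383, 9309), (10384, 9616), (10385, 9174), (10386, 10386), (10387, 10387), (10388, 10388), (10389, 10389), (10390, 10390), (10391, 10391), (10392, 10392), (10393, 10393), (10394, 9693), (10395, 10395), (10396, 10396), (10397, 8540), (10398, 12496), (10399, 10399), (10400, 11924), (10401, 11925), (10402, 11926), (10403, 11927), (10404, 11928), (10405, 11929), (10406, 11930), (10407, 11931), (10408, 11933), (10409, 8570), (10410, 8571), (10411, 8572), (10412, 8573), (10413, 8574), (10414, 8575), (10415, 8576), (10416, 8577), (10417, 8578), (10418, 8579), (10419, 8580), (10420, 8581), (10421, 8582), (10422, 8583), (10423, 8584), (10424, 8585), (10425, 8586), (10426,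 8588), (10427, 8589), (10428, 8593), (10429, 8594), (10430, 8595), (10431, 8596)]
    ⟨e3 q10368 (flp_a L362445) q12429, e3 q10369 (flp_a L362452) q12430, e3 q10370 (flp_a L550688) q11935, e3 q10371 (flp_a L362468) q12431, e3 q10372 (flp_a L362475) q12432, e3 q10373 (flp_a L552030) q11932, e3 q10374 (flp_a L552018) q11936, e3 q10375 L506454 q11938, e3 q10376 (flp_a L362509) q12433, e3 q10377 (flp_a L362521) q12434, e3 q10378 (flp_a L561896) q9307, e3 q10379 (flp_a L362541) q12435, e3 q10380 (flp_a L561890) q9308, e3 q10381 (flp_a L362562) q12436, e3 q10382 (flp_a L561908) q9172, e3 q10383 (flp_a L561940) q9309, e3 q10384 (flp_a L547055) q9616, e3 q10385 (flp_a L561952) q9174, e3 q10386 L249709 q10386, e3 q10387 L249717 q10387, e3 q10388 L249726 q10388, e3 q10389 L249735 q10389, e3 q10390 L249744 q10390, e3 q10391 L249751 q10391, e3 q10392 L249760 q10392, e3 q10393 L249768 q10393, e3 q10394 L616182 q9693, e3 q10395 L249782 q10395, e3 q10396 L249789 q10396, e3 q10397 (flp_a L249796) q8540, e3 q10398 (flp_a L363132) q12496,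 e3 q10399 L249813 q10399, e3 q10400 (flp_a L356694) q11924, e3 q10401 (flp_a L356703) q11925, e3 q10402 (flp_a L356713) q11926, e3 q10403 (flp_a L356722) q11927, e3 q10404 (flp_a L356732) q11928, e3 q10405 (flp_a L356743) q11929, e3 q10406 (flp_a L356752) q11930, e3 q10407 (flp_a L356764) q11931, e3 q10408 (flp_a L356783) q11933, e3 q10409 L249970 q8570, e3 q10410 L249980 q8571, e3 q10411 L249990 q8572, e3 q10412 L249999 q8573, e3 q10413 L250008 q8574, e3 q10414 L250018 q8575, e3 q10415 L250026 q8576, e3 q10416 L250036 q8577, e3 q10417 L250047 q8578, e3 q10418 L250053 q8579, e3 q10419 L250063 q8580, e3 q10420 L250072 q8581, e3 q10421 L250079 q8582, e3 q10422 L250088 q8583, e3 q10423 L250097 q8584, e3 q10424 L250106 q8585, e3 q10425 L250114 q8586, e3 q10426 L250132 q8588, e3 q10427 L250140 q8589, e3 q10428 L250176 q8593, e3 q10429 L250186 q8594, e3 q10430 L250195 q8595, e3 q10431 L250206 q8596, trivial⟩ (by decide +kernel)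

theorem ce_a_163 : ∀ r, r < 64 → sm ga (Qf (10432 + r)) = Qf (tab Gen.a (10432 + r)) :=
  edges_tab (sm ga) Qf (tab Gen.a) 10432 [(10432, 8597), (10433, 8598), (10434, 8599), (10435, 8600), (10436, 12550), (10437, 8602), (10438, 12512), (10439, 12513), (10440, 12514), (10441, 12515), (10442, 12516), (10443, 12517), (10444, 9387), (10445, 12518), (10446, 12519), (10447, 12520), (10448, 12521), (10449, 12522), (10450, 12523), (10451, 12524), (10452, 12525), (10453, 12526), (10454, 12527), (10455, 12528), (10456, 12584), (10457, 12530), (10458, 12531), (10459, 11891), (10460, 12532), (10461, 12533), (10462, 12534), (10463, 12535), (10464, 12536), (10465, 12537), (10466, 12538), (10467, 11895), (10468, 11897), (10469, 12539), (10470, 11893), (10471, 11896), (10472, 11898), (10473, 12540), (10474, 12541), (10475, 12542), (10476, 12543), (10477, 12544), (10478, 12545), (10479, 12546), (10480, 12547), (10481, 12618), (10482, 12549), (10483, 9359), (10484, 8601), (10485, 12621), (10486, 9361), (10487, 10487), (10488, 10488), (10489,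 10489), (10490, 10490), (10491, 10491), (10492, 12632), (10493, 10493), (10494, 10494), (10495, 10495)]
    ⟨e3 q10432 L250215 q8597, e3 q10433 L250226 q8598, e3 q10434 L250236 q8599, e3 q10435 L250245 q8600, e3 q10436 L363835 q12550, e3 q10437 L250264 q8602, e3 q10438 (flp_a L363410) q12512, e3 q10439 (flp_a L363419) q12513, e3 q10440 (flp_a L363429) q12514, e3 q10441 (flp_a L363439) q12515, e3 q10442 (flp_a L363449) q12516, e3 q10443 (flp_a L363457) q12517, e3 q10444 (flp_a L543473) q9387, e3 q10445 (flp_a L363477) q12518, e3 q10446 (flp_a L363485) q12519, e3 q10447 (flp_a L363494) q12520, e3 q10448 (flp_a L363503) q12521, e3 q10449 (flp_a L363513) q12522, e3 q10450 (flp_a L363521) q12523, e3 q10451 (flp_a L363531) q12524, e3 q10452 (flp_a L363538) q12525, e3 q10453 (flp_a L363549) q12526, e3 q10454 (flp_a L363557) q12527, e3 q10455 (flp_a L363565) q12528, e3 q10456 L364099 q12584, e3 q10457 (flp_a L363580) q12530, e3 q10458 (flp_a L363588) q12531, e3 q10459 (flp_a L550665) q11891, e3 q10460 (flp_a L363608) q12532, e3 q10461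 (flp_a L363617) q12533, e3 q10462 (flp_a L363624) q12534, e3 q10463 (flp_a L363633) q12535, e3 q10464 (flp_a L363643) q12536, e3 q10465 (flp_a L363649) q12537, e3 q10466 (flp_a L363658) q12538, e3 q10467 (flp_a L550660) q11895, e3 q10468 (flp_a L550615) q11897, e3 q10469 (flp_a L363684) q12539, e3 q10470 (flp_a L575702) q11893, e3 q10471 (flp_a L575729) q11896, e3 q10472 (flp_a L550588) q11898, e3 q10473 (flp_a L363728) q12540, e3 q10474 (flp_a L363738) q12541, e3 q10475 (flp_a L363749) q12542, e3 q10476 (flp_a L363758) q12543, e3 q10477 (flp_a L363768) q12544, e3 q10478 (flp_a L363778) q12545, e3 q10479 (flp_a L363789) q12546, e3 q10480 (flp_a L363799) q12547, e3 q10481 L364381 q12618, e3 q10482 (flp_a L363818) q12549, e3 q10483 (flp_a L562440) q9359, e3 q10484 (flp_a L250628) q8601, e3 q10485 (flp_a L364410) q12621, e3 q10486 L546542 q9361, e3 q10487 L250660 q10487, e3 q10488 L250670 q10488, e3 q10489 L250678 q10489, e3 q10490 L250687 q10490, e3 q10491 L250695 q10491, e3 q10492 L364510 q12632, e3 q10493 L250712 q10493,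 e3 q10494 L250722 q10494, e3 q10495 L250731 q10495, trivial⟩ (by decide +kernel)

theorem ce_a_164 : ∀ r, r < 64 → sm ga (Qf (10496 + r)) = Qf (tab Gen.a (10496 + r)) :=
  edges_tab (sm ga) Qf (tab Gen.a) 10496 [(10496, 10496), (10497, 12639), (10498, 10498), (10499, 10499), (10500, 8612), (10501, 12642), (10502, 10502), (10503, 8616), (10504, 12645), (10505, 10505), (10506, 10506), (10507, 8628), (10508, 9314), (10509, 9312), (10510, 9190), (10511, 9192), (10512, 9195), (10513, 9311), (10514, 9310), (10515, 9306), (10516, 9170), (10517, 9305), (10518, 9171), (10519, 9618), (10520, 10520), (10521, 10521), (10522, 10522), (10523, 10523), (10524, 10524), (10525, 9350), (10526, 10526), (10527, 10527), (10528, 9673), (10529, 10529), (10530, 8646), (10531, 12393), (10532, 10532), (10533, 8659), (10534, 8660), (10535, 8661), (10536, 8662), (10537, 8664), (10538, 8667), (10539, 8673), (10540, 8674), (10541, 8676), (10542, 8677), (10543, 8679), (10544, 12672), (10545, 8658), (10546, 12661), (10547, 12662), (10548, 12663), (10549,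 12664), (10550, 9378), (10551, 12665), (10552, 9381), (10553, 12666), (10554, 9384), (10555, 9281), (10556, 12687), (10557, 9284), (10558, 9370), (10559, 9373)]
    ⟨e3 q10496 L250739 q10496, e3 q10497 L364573 q12639, e3 q10498 L250756 q10498, e3 q10499 L250765 q10499, e3 q10500 (flp_a L250772) q8612, e3 q10501 (flp_a L364603) q12642, e3 q10502 L250789 q10502, e3 q10503 L250799 q8616, e3 q10504 (flp_a L364627) q12645, e3 q10505 L250818 q10505, e3 q10506 L251921 q10506, e3 q10507 L252395 q8628, e3 q10508 (flp_a L542823) q9314, e3 q10509 (flp_a L563020) q9312, e3 q10510 L562065 q9190, e3 q10511 L562047 q9192, e3 q10512 (flp_a L562112) q9195, e3 q10513 (flp_a L563003) q9311, e3 q10514 (flp_a L562261) q9310, e3 q10515 (flp_a L561844) q9306, e3 q10516 L546961 q9170, e3 q10517 L513228 q9305, e3 q10518 (flp_a L561852) q9171, e3 q10519 L554257 q9618, e3 q10520 L252881 q10520, e3 q10521 L252889 q10521, e3 q10522 L252901 q10522, e3 q10523 L252909 q10523, e3 q10524 L252915 q10524, e3 q10525 (flp_a L616076) q9350, e3 q10526 L252956 q10526,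 e3 q10527 L252980 q10527, e3 q10528 L616250 q9673, e3 q10529 L253001 q10529, e3 q10530 L253008 q8646, e3 q10531 (flp_a L533217) q12393, e3 q10532 L253024 q10532, e3 q10533 L253262 q8659, e3 q10534 L253270 q8660, e3 q10535 L253278 q8661, e3 q10536 L253286 q8662, e3 q10537 L253302 q8664, e3 q10538 L253336 q8667, e3 q10539 L253518 q8673, e3 q10540 L253529 q8674, e3 q10541 L253548 q8676, e3 q10542 L253556 q8677, e3 q10543 L253576 q8679, e3 q10544 L368750 q12672, e3 q10545 (flp_a L253616) q8658, e3 q10546 (flp_a L368252) q12661, e3 q10547 (flp_a L368260) q12662, e3 q10548 (flp_a L368269) q12663, e3 q10549 (flp_a L368278) q12664, e3 q10550 L562177 q9378, e3 q10551 (flp_a L368296) q12665, e3 q10552 L546092 q9381, e3 q10553 (flp_a L368313) q12666, e3 q10554 (flp_a L543470) q9384, e3 q10555 L562121 q9281, e3 q10556 L368948 q12687, e3 q10557 L546681 q9284, e3 q10558 (flp_a L562927) q9370, e3 q10559 (flp_a L562942) q9373, trivial⟩ (by decide +kernel)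

theorem ce_a_165 : ∀ r, r < 64 → sm ga (Qf (10560 + r)) = Qf (tab Gen.a (10560 + r)) :=
  edges_tab (sm ga) Qf (tab Gen.a) 10560 [(10560, 9376), (10561, 9377), (10562, 9380), (10563, 12694), (10564, 8672), (10565, 12667), (10566, 9362), (10567, 12668), (10568, 12669), (10569, 9363), (10570, 12703), (10571, 12671), (10572, 9364), (10573, 9365), (10574, 9354), (10575, 12710), (10576, 9366), (10577, 9356), (10578, 8681), (10579, 12713), (10580, 9358), (10581, 8685), (10582, 12716), (10583, 9245), (10584, 10584), (10585, 10585), (10586, 10586), (10587, 12719), (10588, 10588), (10589, 8692), (10590, 12689), (10591, 12720), (10592, 10592), (10593, 10593), (10594, 8697), (10595, 12724), (10596, 10596), (10597, 8701), (10598, 12727), (10599, 10599), (10600, 8704), (10601, 11698), (10602, 10602), (10603, 8715), (10604, 11719), (10605, 11722), (10606, 9700), (10607, 8780), (10608, 8734), (10609, 9704), (10610, 9707), (10611, 9706), (10612, 8733), (10613, 11738), (10614, 12731), (10615, 11735), (10616, 11736), (10617, 11734), (10618,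 11724), (10619, 11723), (10620, 10620), (10621, 10621), (10622, 10622), (10623, 10623)]
    ⟨e3 q10560 L546235 q9376, e3 q10561 L546176 q9377, e3 q10562 (flp_a L546413) q9380, e3 q10563 L369142 q12694, e3 q10564 (flp_a L253881) q8672, e3 q10565 (flp_a L368631) q12667, e3 q10566 (flp_a L562277) q9362, e3 q10567 (flp_a L368652) q12668, e3 q10568 (flp_a L368660) q12669, e3 q10569 (flp_a L562332) q9363, e3 q10570 L369376 q12703, e3 q10571 (flp_a L368687) q12671, e3 q10572 (flp_a L546479) q9364, e3 q10573 (flp_a L546247) q9365, e3 q10574 L562389 q9354, e3 q10575 L369435 q12710, e3 q10576 L562339 q9366, e3 q10577 (flp_a L562376) q9356, e3 q10578 (flp_a L254087) q8681, e3 q10579 (flp_a L369463) q12713, e3 q10580 L562400 q9358, e3 q10581 L254112 q8685, e3 q10582 (flp_a L369485) q12716, e3 q10583 (flp_a L546529) q9245, e3 q10584 L254137 q10584, e3 q10585 L254146 q10585, e3 q10586 L254154 q10586, e3 q10587 L369558 q12719, e3 q10588 L254198 q10588, e3 q10589 (flp_a L254203) q8692, e3 q10590 (flp_a L646485) q12689, e3 q10591 (flp_a L369627)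 q12720, e3 q10592 L254247 q10592, e3 q10593 L254256 q10593, e3 q10594 (flp_a L254262) q8697, e3 q10595 (flp_a L369705) q12724, e3 q10596 L254281 q10596, e3 q10597 L254290 q8701, e3 q10598 (flp_a L369730) q12727, e3 q10599 L254306 q10599, e3 q10600 L254312 q8704, e3 q10601 (flp_a L547963) q11698, e3 q10602 L254329 q10602, e3 q10603 (flp_a L620654) q8715, e3 q10604 (flp_a L620569) q11719, e3 q10605 (flp_a L631062) q11722, e3 q10606 (flp_a L645135) q9700, e3 q10607 L621456 q8780, e3 q10608 (flp_a L621410) q8734, e3 q10609 (flp_a L567653) q9704, e3 q10610 L567688 q9707, e3 q10611 L567637 q9706, e3 q10612 L256459 q8733, e3 q10613 (flp_a L644434) q11738, e3 q10614 (flp_a L621339) q12731, e3 q10615 (flp_a L634597) q11735, e3 q10616 (flp_a L641404) q11736, e3 q10617 (flp_a L645141) q11734, e3 q10618 (flp_a L645105) q11724, e3 q10619 L645125 q11723, e3 q10620 L256686 q10620, e3 q10621 L256693 q10621, e3 q10622 L256702 q10622, e3 q10623 L256716 q10623, trivial⟩ (by decide +kernel)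

theorem ce_a_166 : ∀ r, r < 64 → sm ga (Qf (10624 + r)) = Qf (tab Gen.a (10624 + r)) :=
  edges_tab (sm ga) Qf (tab Gen.a) 10624 [(10624, 10624), (10625, 10625), (10626, 12279), (10627, 10627), (10628, 8772), (10629, 8771), (10630, 9023), (10631, 9021), (10632, 9024), (10633, 9412), (10634, 9410), (10635, 8998), (10636, 8985), (10637, 8987), (10638, 8773), (10639, 8774), (10640, 8775), (10641, 8776), (10642, 8778), (10643, 8779), (10644, 8781), (10645, 8782), (10646, 8783), (10647, 8784), (10648, 8785), (10649, 11785), (10650, 11739), (10651, 12740), (10652, 12746), (10653, 12747), (10654, 12748), (10655, 12749), (10656, 12750), (10657, 12059), (10658, 12060), (10659, 12751), (10660, 12730), (10661, 12752), (10662, 12753), (10663, 11772), (10664, 12754), (10665, 12755), (10666, 10666), (10667, 10667), (10668, 10668), (10669, 12774), (10670, 10670), (10671, 8835), (10672, 9635), (10673, 9638), (10674, 8832), (10675, 9125), (10676, 9121), (10677, 9128), (10678, 9123), (10679, 9126), (10680, 9709), (10681, 9466), (10682, 9467),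 (10683, 9459), (10684, 9462), (10685, 9465), (10686, 10686), (10687, 10687)]
    ⟨e3 q10624 L256732 q10624, e3 q10625 L256741 q10625, e3 q10626 (flp_a L641116) q12279, e3 q10627 L256762 q10627, e3 q10628 L621584 q8772, e3 q10629 (flp_a L621634) q8771, e3 q10630 L592052 q9023, e3 q10631 L591647 q9021, e3 q10632 L591684 q9024, e3 q10633 (flp_a L592031) q9412, e3 q10634 (flp_a L549801) q9410, e3 q10635 L257355 q8998, e3 q10636 (flp_a L576347) q8985, e3 q10637 (flp_a L553543) q8987, e3 q10638 L257422 q8773, e3 q10639 L257443 q8774, e3 q10640 L257452 q8775, e3 q10641 L257463 q8776, e3 q10642 L257483 q8778, e3 q10643 L257493 q8779, e3 q10644 L257508 q8781, e3 q10645 L257517 q8782, e3 q10646 L257525 q8783, e3 q10647 L257534 q8784, e3 q10648 L257545 q8785, e3 q10649 (flp_a L640401) q11785, e3 q10650 (flp_a L621596) q11739, e3 q10651 (flp_a L621535) q12740, e3 q10652 (flp_a L374435) q12746, e3 q10653 (flp_a L374441) q12747, e3 q10654 (flp_a L374472) q12748, e3 q10655 (flp_a L374481) q12749, e3 q10656 (flp_a L374490) q12750, e3 q10657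 (flp_a L501944) q12059, e3 q10658 (flp_a L576186) q12060, e3 q10659 (flp_a L374538) q12751, e3 q10660 (flp_a L621479) q12730, e3 q10661 (flp_a L374557) q12752, e3 q10662 (flp_a L374565) q12753, e3 q10663 (flp_a L640444) q11772, e3 q10664 (flp_a L374581) q12754, e3 q10665 (flp_a L374591) q12755, e3 q10666 L257778 q10666, e3 q10667 L257786 q10667, e3 q10668 L257813 q10668, e3 q10669 L374982 q12774, e3 q10670 L257828 q10670, e3 q10671 L611628 q8835, e3 q10672 L473694 q9635, e3 q10673 L567726 q9638, e3 q10674 (flp_a L617227) q8832, e3 q10675 L591960 q9125, e3 q10676 (flp_a L591851) q9121, e3 q10677 L592019 q9128, e3 q10678 L591943 q9123, e3 q10679 L576039 q9126, e3 q10680 L567715 q9709, e3 q10681 L591953 q9466, e3 q10682 L592011 q9467, e3 q10683 L521669 q9459, e3 q10684 L592015 q9462, e3 q10685 L568093 q9465, e3 q10686 L258571 q10686, e3 q10687 L258623 q10687, trivial⟩ (by decide +kernel)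

theorem ce_a_167 : ∀ r, r < 64 → sm ga (Qf (10688 + r)) = Qf (tab Gen.a (10688 + r)) :=
  edges_tab (sm ga) Qf (tab Gen.a) 10688 [(10688, 9090), (10689, 9091), (10690, 9071), (10691, 9069), (10692, 9072), (10693, 8834), (10694, 8836), (10695, 8837), (10696, 8838), (10697, 8839), (10698, 8840), (10699, 8841), (10700, 8842), (10701, 8843), (10702, 8846), (10703, 8847), (10704, 8848), (10705, 8849), (10706, 8850), (10707, 8852), (10708, 8853), (10709, 12780), (10710, 11871), (10711, 11854), (10712, 11874), (10713, 12776), (10714, 12795), (10715, 12777), (10716, 12796), (10717, 12797), (10718, 11847), (10719, 12798), (10720, 12799), (10721, 12800), (10722, 12801), (10723, 12802), (10724, 12206), (10725, 12803), (10726, 12208), (10727, 12209), (10728, 12804), (10729, 12805), (10730, 12806), (10731, 12807), (10732, 12808), (10733, 12809), (10734, 11846), (10735, 12810), (10736, 12281), (10737, 11848), (10738, 12811), (10739, 10739), (10740, 10740), (10741, 10741), (10742, 10742), (10743, 10743), (10744, 10744), (10745, 10745),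 (10746, 10746), (10747, 12858), (10748, 10748), (10749, 10749), (10750, 8862), (10751, 12861)]
    ⟨e3 q10688 L258628 q9090, e3 q10689 L258636 q9091, e3 q10690 (flp_a L576363) q9071, e3 q10691 (flp_a L576355) q9069, e3 q10692 L576557 q9072, e3 q10693 L258739 q8834, e3 q10694 L258755 q8836, e3 q10695 L258765 q8837, e3 q10696 L258769 q8838, e3 q10697 L258777 q8839, e3 q10698 L258787 q8840, e3 q10699 L258798 q8841, e3 q10700 L258808 q8842, e3 q10701 L258815 q8843, e3 q10702 L258849 q8846, e3 q10703 L258858 q8847, e3 q10704 L258867 q8848, e3 q10705 L258876 q8849, e3 q10706 L258884 q8850, e3 q10707 L258898 q8852, e3 q10708 L258906 q8853, e3 q10709 (flp_a L611670) q12780, e3 q10710 (flp_a L636007) q11871, e3 q10711 (flp_a L640474) q11854, e3 q10712 (flp_a L636044) q11874, e3 q10713 (flp_a L611660) q12776, e3 q10714 (flp_a L376389) q12795, e3 q10715 (flp_a L611648) q12777, e3 q10716 (flp_a L376409) q12796, e3 q10717 (flp_a L376415) q12797, e3 q10718 (flp_a L640463) q11847, e3 q10719 (flp_a L376431) q12798, e3 q10720 (flp_a L376437)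 q12799, e3 q10721 (flp_a L376454) q12800, e3 q10722 (flp_a L376464) q12801, e3 q10723 (flp_a L376473) q12802, e3 q10724 (flp_a L554650) q12206, e3 q10725 (flp_a L376493) q12803, e3 q10726 (flp_a L554647) q12208, e3 q10727 (flp_a L501971) q12209, e3 q10728 (flp_a L376536) q12804, e3 q10729 (flp_a L376543) q12805, e3 q10730 (flp_a L376554) q12806, e3 q10731 (flp_a L376561) q12807, e3 q10732 (flp_a L376570) q12808, e3 q10733 (flp_a L376578) q12809, e3 q10734 (flp_a L640458) q11846, e3 q10735 (flp_a L376594) q12810, e3 q10736 (flp_a L648207) q12281, e3 q10737 (flp_a L640439) q11848, e3 q10738 (flp_a L376615) q12811, e3 q10739 L259179 q10739, e3 q10740 L259188 q10740, e3 q10741 L259195 q10741, e3 q10742 L259206 q10742, e3 q10743 L259213 q10743, e3 q10744 L259219 q10744, e3 q10745 L259226 q10745, e3 q10746 L259234 q10746, e3 q10747 L377097 q12858, e3 q10748 L259249 q10748, e3 q10749 L259259 q10749, e3 q10750 (flp_a L259263) q8862, e3 q10751 (flp_a L377124) q12861, trivial⟩ (by decide +kernel)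

theorem ce_a_168 : ∀ r, r < 64 → sm ga (Qf (10752 + r)) = Qf (tab Gen.a (10752 + r)) :=
  edges_tab (sm ga) Qf (tab Gen.a) 10752 [(10752, 10752), (10753, 10753), (10754, 10754), (10755, 12867), (10756, 10756), (10757, 10757), (10758, 9664), (10759, 9610), (10760, 9660), (10761, 9246), (10762, 9663), (10763, 9666), (10764, 9265), (10765, 9263), (10766, 9255), (10767, 9266), (10768, 9258), (10769, 9261), (10770, 9264), (10771, 9712), (10772, 9547), (10773, 9535), (10774, 9550), (10775, 9530), (10776, 9548), (10777, 9533), (10778, 9536), (10779, 12896), (10780, 9542), (10781, 9546), (10782, 10782), (10783, 10783), (10784, 10784), (10785, 10785), (10786, 10786), (10787, 12905), (10788, 10788), (10789, 10789), (10790, 8895), (10791, 12908), (10792, 10792), (10793, 9212), (10794, 9213), (10795, 9214), (10796, 9215), (10797, 9185), (10798, 9181), (10799, 9187), (10800, 9183), (10801, 9186), (10802, 8924), (10803, 8925), (10804, 8926), (10805, 8927), (10806, 8928), (10807, 8929), (10808, 8930), (10809, 8931), (10810, 8932), (10811,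 8933), (10812, 8934), (10813, 8935), (10814, 8936), (10815, 8937)]
    ⟨e3 q10752 L259278 q10752, e3 q10753 L259728 q10753, e3 q10754 L259737 q10754, e3 q10755 L377839 q12867, e3 q10756 L259754 q10756, e3 q10757 L259764 q10757, e3 q10758 (flp_a L567739) q9664, e3 q10759 (flp_a L617271) q9610, e3 q10760 (flp_a L534755) q9660, e3 q10761 L547331 q9246, e3 q10762 (flp_a L590546) q9663, e3 q10763 L575961 q9666, e3 q10764 L567807 q9265, e3 q10765 (flp_a L575952) q9263, e3 q10766 (flp_a L534711) q9255, e3 q10767 (flp_a L575905) q9266, e3 q10768 L547406 q9258, e3 q10769 (flp_a L547376) q9261, e3 q10770 L575909 q9264, e3 q10771 L483773 q9712, e3 q10772 L567793 q9547, e3 q10773 (flp_a L567801) q9535, e3 q10774 (flp_a L567994) q9550, e3 q10775 (flp_a L521060) q9530, e3 q10776 L575916 q9548, e3 q10777 (flp_a L547386) q9533, e3 q10778 (flp_a L567999) q9536, e3 q10779 L378727 q12896, e3 q10780 (flp_a L547481) q9542, e3 q10781 (flp_a L507737) q9546, e3 q10782 L260371 q10782, e3 q10783 L260382 q10783, e3 q10784 L260394 q10784, e3 q10785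 L260401 q10785, e3 q10786 L260410 q10786, e3 q10787 L378850 q12905, e3 q10788 L260425 q10788, e3 q10789 L260434 q10789, e3 q10790 (flp_a L260440) q8895, e3 q10791 (flp_a L378876) q12908, e3 q10792 L260456 q10792, e3 q10793 L260472 q9212, e3 q10794 L260482 q9213, e3 q10795 L260491 q9214, e3 q10796 L260498 q9215, e3 q10797 (flp_a L534570) q9185, e3 q10798 (flp_a L547338) q9181, e3 q10799 (flp_a L553236) q9187, e3 q10800 L554166 q9183, e3 q10801 (flp_a L554099) q9186, e3 q10802 L260642 q8924, e3 q10803 L260649 q8925, e3 q10804 L260659 q8926, e3 q10805 L260668 q8927, e3 q10806 L260675 q8928, e3 q10807 L260683 q8929, e3 q10808 L260691 q8930, e3 q10809 L260699 q8931, e3 q10810 L260710 q8932, e3 q10811 L260716 q8933, e3 q10812 L260726 q8934, e3 q10813 L260733 q8935, e3 q10814 L260740 q8936, e3 q10815 L260747 q8937, trivial⟩ (by decide +kernel)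

theorem ce_a_169 : ∀ r, r < 64 → sm ga (Qf (10816 + r)) = Qf (tab Gen.a (10816 + r)) :=
  edges_tab (sm ga) Qf (tab Gen.a) 10816 [(10816, 8938), (10817, 8939), (10818, 8940), (10819, 8942), (10820, 8945), (10821, 8946), (10822, 8947), (10823, 8948), (10824, 8949), (10825, 8950), (10826, 8951), (10827, 8952), (10828, 12956), (10829, 8954), (10830, 8955), (10831, 12871), (10832, 12870), (10833, 12921), (10834, 12922), (10835, 12923), (10836, 12924), (10837, 12925), (10838, 12454), (10839, 12926), (10840, 12927), (10841, 12928), (10842, 12929), (10843, 12930), (10844, 12931), (10845, 12932), (10846, 12933), (10847, 12934), (10848, 12935), (10849, 12990), (10850, 12937), (10851, 12938), (10852, 12416), (10853, 12939), (10854, 12940), (10855, 12941), (10856, 12942), (10857, 12943), (10858, 12944), (10859, 12415), (10860, 12417), (10861, 12418), (10862, 12419), (10863, 12945), (10864, 12946), (10865, 12947), (10866, 12948), (10867, 12949), (10868, 12950), (10869, 12951), (10870, 12952), (10871, 13019), (10872, 12954), (10873,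 12955), (10874, 8953), (10875, 13022), (10876, 12958), (10877, 10877), (10878, 10878), (10879, 10879)]
    ⟨e3 q10816 L260757 q8938, e3 q10817 L260766 q8939, e3 q10818 L260775 q8940, e3 q10819 L260794 q8942, e3 q10820 L260837 q8945, e3 q10821 L260844 q8946, e3 q10822 L260853 q8947, e3 q10823 L260861 q8948, e3 q10824 L260868 q8949, e3 q10825 L260878 q8950, e3 q10826 L260888 q8951, e3 q10827 L260896 q8952, e3 q10828 L379596 q12956, e3 q10829 L260912 q8954, e3 q10830 L260920 q8955, e3 q10831 (flp_a L615087) q12871, e3 q10832 (flp_a L615160) q12870, e3 q10833 (flp_a L379223) q12921, e3 q10834 (flp_a L379230) q12922, e3 q10835 (flp_a L379240) q12923, e3 q10836 (flp_a L379248) q12924, e3 q10837 (flp_a L379257) q12925, e3 q10838 (flp_a L547032) q12454, e3 q10839 (flp_a L379274) q12926, e3 q10840 (flp_a L379281) q12927, e3 q10841 (flp_a L379288) q12928, e3 q10842 (flp_a L379298) q12929, e3 q10843 (flp_a L379304) q12930, e3 q10844 (flp_a L379312) q12931, e3 q10845 (flp_a L379319) q12932, e3 q10846 (flp_a L379330) q12933, e3 q10847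 (flp_a L379338) q12934, e3 q10848 (flp_a L379346) q12935, e3 q10849 L379875 q12990, e3 q10850 (flp_a L379359) q12937, e3 q10851 (flp_a L379367) q12938, e3 q10852 (flp_a L554310) q12416, e3 q10853 (flp_a L379383) q12939, e3 q10854 (flp_a L379392) q12940, e3 q10855 (flp_a L379397) q12941, e3 q10856 (flp_a L379407) q12942, e3 q10857 (flp_a L379417) q12943, e3 q10858 (flp_a L379424) q12944, e3 q10859 (flp_a L502377) q12415, e3 q10860 (flp_a L554447) q12417, e3 q10861 (flp_a L502347) q12418, e3 q10862 (flp_a L554443) q12419, e3 q10863 (flp_a L379503) q12945, e3 q10864 (flp_a L379511) q12946, e3 q10865 (flp_a L379521) q12947, e3 q10866 (flp_a L379530) q12948, e3 q10867 (flp_a L379537) q12949, e3 q10868 (flp_a L379544) q12950, e3 q10869 (flp_a L379553) q12951, e3 q10870 (flp_a L379562) q12952, e3 q10871 L380165 q13019, e3 q10872 (flp_a L379580) q12954, e3 q10873 (flp_a L379589) q12955, e3 q10874 (flp_a L261299) q8953, e3 q10875 (flp_a L380192) q13022, e3 q10876 (flp_a L379613) q12958, e3 q10877 L261323 q10877, e3 q10878 L261330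 q10878, e3 q10879 L261338 q10879, trivial⟩ (by decide +kernel)

theorem ce_a_170 : ∀ r, r < 64 → sm ga (Qf (10880 + r)) = Qf (tab Gen.a (10880 + r)) :=
  edges_tab (sm ga) Qf (tab Gen.a) 10880 [(10880, 10880), (10881, 10881), (10882, 13031), (10883, 10883), (10884, 10884), (10885, 10885), (10886, 10886), (10887, 13038), (10888, 10888), (10889, 10889), (10890, 8964), (10891, 13041), (10892, 10892), (10893, 8968), (10894, 13044), (10895, 10895), (10896, 9013), (10897, 8980), (10898, 8981), (10899, 8982), (10900, 8984), (10901, 8986), (10902, 8988), (10903, 8989), (10904, 8990), (10905, 8991), (10906, 8992), (10907, 8993), (10908, 8994), (10909, 13047), (10910, 12108), (10911, 13048), (10912, 13049), (10913, 13050), (10914, 9630), (10915, 9623), (10916, 13051), (10917, 12744), (10918, 12745), (10919, 13052), (10920, 13053), (10921, 13054), (10922, 13055), (10923, 10923), (10924, 9014), (10925, 9015), (10926, 9016), (10927, 9017), (10928, 9018), (10929, 9019), (10930, 9020), (10931, 9022), (10932, 9027), (10933, 9028), (10934,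 9029), (10935, 9030), (10936, 9031), (10937, 9032), (10938, 9033), (10939, 9034), (10940, 12057), (10941, 13068), (10942, 13069), (10943, 12204)]
    ⟨e3 q10880 L261348 q10880, e3 q10881 L261355 q10881, e3 q10882 L380279 q13031, e3 q10883 L261371 q10883, e3 q10884 L261378 q10884, e3 q10885 L261387 q10885, e3 q10886 L261393 q10886, e3 q10887 L380330 q13038, e3 q10888 L261408 q10888, e3 q10889 L261419 q10889, e3 q10890 (flp_a L261425) q8964, e3 q10891 (flp_a L380362) q13041, e3 q10892 L261445 q10892, e3 q10893 L261454 q8968, e3 q10894 (flp_a L380388) q13044, e3 q10895 L261470 q10895, e3 q10896 L612410 q9013, e3 q10897 L261524 q8980, e3 q10898 L261535 q8981, e3 q10899 L261545 q8982, e3 q10900 L261568 q8984, e3 q10901 L261588 q8986, e3 q10902 L261620 q8988, e3 q10903 L261629 q8989, e3 q10904 L261641 q8990, e3 q10905 L261650 q8991, e3 q10906 L261659 q8992, e3 q10907 L261670 q8993, e3 q10908 L261681 q8994, e3 q10909 (flp_a L380519) q13047, e3 q10910 (flp_a L611914) q12108, e3 q10911 (flp_a L380549) q13048, e3 q10912 (flp_a L380559)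 q13049, e3 q10913 (flp_a L380565) q13050, e3 q10914 (flp_a L617196) q9630, e3 q10915 (flp_a L621553) q9623, e3 q10916 (flp_a L380598) q13051, e3 q10917 L553477 q12744, e3 q10918 L576386 q12745, e3 q10919 (flp_a L380699) q13052, e3 q10920 (flp_a L380710) q13053, e3 q10921 (flp_a L380718) q13054, e3 q10922 (flp_a L380728) q13055, e3 q10923 L261966 q10923, e3 q10924 L262073 q9014, e3 q10925 L262082 q9015, e3 q10926 L262089 q9016, e3 q10927 L262099 q9017, e3 q10928 L262109 q9018, e3 q10929 L262115 q9019, e3 q10930 L262125 q9020, e3 q10931 L262147 q9022, e3 q10932 L262210 q9027, e3 q10933 L262219 q9028, e3 q10934 L262227 q9029, e3 q10935 L262238 q9030, e3 q10936 L262248 q9031, e3 q10937 L262257 q9032, e3 q10938 L262266 q9033, e3 q10939 L262277 q9034, e3 q10940 (flp_a L612420) q12057, e3 q10941 (flp_a L381325) q13068, e3 q10942 (flp_a L381333) q13069, e3 q10943 (flp_a L617580) q12204, trivial⟩ (by decide +kernel)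

theorem ce_a_171 : ∀ r, r < 64 → sm ga (Qf (10944 + r)) = Qf (tab Gen.a (10944 + r)) :=
  edges_tab (sm ga) Qf (tab Gen.a) 10944 [(10944, 13070), (10945, 13071), (10946, 13072), (10947, 13073), (10948, 13074), (10949, 12741), (10950, 13075), (10951, 13076), (10952, 12743), (10953, 11741), (10954, 12742), (10955, 11743), (10956, 11745), (10957, 13077), (10958, 13078), (10959, 13079), (10960, 13080), (10961, 11682), (10962, 13081), (10963, 11779), (10964, 13082), (10965, 13113), (10966, 13083), (10967, 13084), (10968, 10968), (10969, 10969), (10970, 10970), (10971, 10971), (10972, 10972), (10973, 10973), (10974, 13121), (10975, 10975), (10976, 10976), (10977, 9043), (10978, 13124), (10979, 10979), (10980, 9111), (10981, 9061), (10982, 9062), (10983, 9063), (10984, 9064), (10985, 9065), (10986, 9066), (10987, 9067), (10988, 9068), (10989, 9070), (10990, 9073), (10991, 9074), (10992, 9075), (10993, 9076), (10994, 9077), (10995, 9078), (10996, 9079), (10997, 9080), (10998, 13127), (10999, 13128), (11000, 13129), (11001, 13130),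 (11002, 13131), (11003, 13132), (11004, 13133), (11005, 13134), (11006, 13135), (11007, 13136)]
    ⟨e3 q10944 (flp_a L381351) q13070, e3 q10945 (flp_a L381360) q13071, e3 q10946 (flp_a L381372) q13072, e3 q10947 (flp_a L381378) q13073, e3 q10948 (flp_a L381388) q13074, e3 q10949 (flp_a L521713) q12741, e3 q10950 (flp_a L381404) q13075, e3 q10951 (flp_a L381425) q13076, e3 q10952 (flp_a L549794) q12743, e3 q10953 (flp_a L554723) q11741, e3 q10954 (flp_a L592028) q12742, e3 q10955 (flp_a L554829) q11743, e3 q10956 (flp_a L575427) q11745, e3 q10957 (flp_a L381523) q13077, e3 q10958 (flp_a L381532) q13078, e3 q10959 (flp_a L381542) q13079, e3 q10960 (flp_a L381550) q13080, e3 q10961 (flp_a L648116) q11682, e3 q10962 (flp_a L381570) q13081, e3 q10963 (flp_a L648159) q11779, e3 q10964 (flp_a L381590) q13082, e3 q10965 L381990 q13113, e3 q10966 (flp_a L381609) q13083, e3 q10967 (flp_a L381619) q13084, e3 q10968 L262563 q10968, e3 q10969 L262571 q10969, e3 q10970 L262593 q10970, e3 q10971 L262600 q10971, e3 q10972 L262607 q10972,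 e3 q10973 L262617 q10973, e3 q10974 L382124 q13121, e3 q10975 L262635 q10975, e3 q10976 L262644 q10976, e3 q10977 (flp_a L262650) q9043, e3 q10978 (flp_a L382152) q13124, e3 q10979 L262668 q10979, e3 q10980 L622116 q9111, e3 q10981 L262763 q9061, e3 q10982 L262774 q9062, e3 q10983 L262781 q9063, e3 q10984 L262791 q9064, e3 q10985 L262801 q9065, e3 q10986 L262811 q9066, e3 q10987 L262815 q9067, e3 q10988 L262825 q9068, e3 q10989 L262846 q9070, e3 q10990 L262901 q9073, e3 q10991 L262913 q9074, e3 q10992 L262922 q9075, e3 q10993 L262931 q9076, e3 q10994 L262940 q9077, e3 q10995 L262951 q9078, e3 q10996 L262957 q9079, e3 q10997 L262965 q9080, e3 q10998 (flp_a L382333) q13127, e3 q10999 (flp_a L382353) q13128, e3 q11000 (flp_a L382362) q13129, e3 q11001 (flp_a L382368) q13130, e3 q11002 (flp_a L382377) q13131, e3 q11003 (flp_a L382389) q13132, e3 q11004 (flp_a L382399) q13133, e3 q11005 (flp_a L382409) q13134, e3 q11006 (flp_a L382415) q13135, e3 q11007 (flp_a L382427) q13136, trivial⟩ (by decide +kernel)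

theorem ce_a_172 : ∀ r, r < 64 → sm ga (Qf (11008 + r)) = Qf (tab Gen.a (11008 + r)) :=
  edges_tab (sm ga) Qf (tab Gen.a) 11008 [(11008, 12792), (11009, 13137), (11010, 9629), (11011, 13138), (11012, 12791), (11013, 12794), (11014, 12793), (11015, 13139), (11016, 13140), (11017, 13141), (11018, 13142), (11019, 13143), (11020, 13144), (11021, 13145), (11022, 13178), (11023, 13147), (11024, 13148), (11025, 11025), (11026, 11026), (11027, 11027), (11028, 11028), (11029, 9087), (11030, 13183), (11031, 11031), (11032, 11873), (11033, 12790), (11034, 9110), (11035, 9112), (11036, 9113), (11037, 9114), (11038, 9115), (11039, 9116), (11040, 9117), (11041, 9118), (11042, 9119), (11043, 9120), (11044, 9122), (11045, 9124), (11046, 9131), (11047, 9132), (11048, 9133), (11049, 9134), (11050, 9135), (11051, 9136), (11052, 9137), (11053, 9138), (11054, 13213), (11055, 9140), (11056, 9141), (11057, 13187), (11058, 13126), (11059, 13188), (11060, 13189), (11061, 13190), (11062, 13191), (11063, 12778), (11064, 13192), (11065, 13193), (11066,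 13194), (11067, 13195), (11068, 13196), (11069, 13197), (11070, 13198), (11071, 13199)]
    ⟨e3 q11008 (flp_a L552237) q12792, e3 q11009 (flp_a L382439) q13137, e3 q11010 L622175 q9629, e3 q11011 (flp_a L382456) q13138, e3 q11012 (flp_a L552229) q12791, e3 q11013 L576393 q12794, e3 q11014 L576400 q12793, e3 q11015 (flp_a L382542) q13139, e3 q11016 (flp_a L382552) q13140, e3 q11017 (flp_a L382563) q13141, e3 q11018 (flp_a L382571) q13142, e3 q11019 (flp_a L382591) q13143, e3 q11020 (flp_a L382602) q13144, e3 q11021 (flp_a L382610) q13145, e3 q11022 L382973 q13178, e3 q11023 (flp_a L382625) q13147, e3 q11024 (flp_a L382632) q13148, e3 q11025 L263243 q11025, e3 q11026 L263260 q11026, e3 q11027 L263267 q11027, e3 q11028 L263303 q11028, e3 q11029 (flp_a L263310) q9087, e3 q11030 (flp_a L383116) q13183, e3 q11031 L263322 q11031, e3 q11032 (flp_a L640478) q11873, e3 q11033 (flp_a L376190) q12790, e3 q11034 L263475 q9110, e3 q11035 L263491 q9112, e3 q11036 L263500 q9113, e3 q11037 L263506 q9114, e3 q11038 L263513 q9115, e3 q11039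 L263523 q9116, e3 q11040 L263533 q9117, e3 q11041 L263543 q9118, e3 q11042 L263549 q9119, e3 q11043 L263559 q9120, e3 q11044 L263571 q9122, e3 q11045 L263589 q9124, e3 q11046 L263679 q9131, e3 q11047 L263687 q9132, e3 q11048 L263698 q9133, e3 q11049 L263706 q9134, e3 q11050 L263715 q9135, e3 q11051 L263725 q9136, e3 q11052 L263734 q9137, e3 q11053 L263743 q9138, e3 q11054 L383796 q13213, e3 q11055 L263760 q9140, e3 q11056 L263768 q9141, e3 q11057 (flp_a L383386) q13187, e3 q11058 (flp_a L622127) q13126, e3 q11059 (flp_a L383404) q13188, e3 q11060 (flp_a L383420) q13189, e3 q11061 (flp_a L383428) q13190, e3 q11062 (flp_a L383437) q13191, e3 q11063 (flp_a L576774) q12778, e3 q11064 (flp_a L383452) q13192, e3 q11065 (flp_a L383458) q13193, e3 q11066 (flp_a L383466) q13194, e3 q11067 (flp_a L383478) q13195, e3 q11068 (flp_a L383484) q13196, e3 q11069 (flp_a L383494) q13197, e3 q11070 (flp_a L383500) q13198, e3 q11071 (flp_a L383510) q13199, trivial⟩ (by decide +kernel)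

theorem ce_a_173 : ∀ r, r < 64 → sm ga (Qf (11072 + r)) = Qf (tab Gen.a (11072 + r)) :=
  edges_tab (sm ga) Qf (tab Gen.a) 11072 [(11072, 12782), (11073, 13200), (11074, 13241), (11075, 12784), (11076, 13202), (11077, 11792), (11078, 12785), (11079, 13203), (11080, 12786), (11081, 12781), (11082, 12783), (11083, 11791), (11084, 11793), (11085, 11794), (11086, 11796), (11087, 13204), (11088, 13205), (11089, 13206), (11090, 13207), (11091, 13208), (11092, 13209), (11093, 11858), (11094, 13210), (11095, 13268), (11096, 13211), (11097, 13212), (11098, 9139), (11099, 13271), (11100, 13215), (11101, 11101), (11102, 11102), (11103, 11103), (11104, 11104), (11105, 11105), (11106, 13280), (11107, 11107), (11108, 11108), (11109, 11109), (11110, 11110), (11111, 13287), (11112, 11112), (11113, 11113), (11114, 9150), (11115, 13290), (11116, 11116), (11117, 9154), (11118, 13293), (11119, 11119), (11120, 9620), (11121, 9619), (11122, 9175), (11123, 9176), (11124, 9177), (11125, 9178), (11126, 9179), (11127, 9182), (11128, 9184), (11129,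 9188), (11130, 9189), (11131, 9191), (11132, 9193), (11133, 12658), (11134, 12655), (11135, 12474)]
    ⟨e3 q11072 (flp_a L521718) q12782, e3 q11073 (flp_a L383526) q13200, e3 q11074 L384021 q13241, e3 q11075 (flp_a L521682) q12784, e3 q11076 (flp_a L383546) q13202, e3 q11077 (flp_a L521723) q11792, e3 q11078 (flp_a L521708) q12785, e3 q11079 (flp_a L383568) q13203, e3 q11080 (flp_a L568102) q12786, e3 q11081 (flp_a L567734) q12781, e3 q11082 (flp_a L576047) q12783, e3 q11083 (flp_a L501817) q11791, e3 q11084 (flp_a L554718) q11793, e3 q11085 (flp_a L554861) q11794, e3 q11086 (flp_a L575727) q11796, e3 q11087 (flp_a L383694) q13204, e3 q11088 (flp_a L383703) q13205, e3 q11089 (flp_a L383713) q13206, e3 q11090 (flp_a L383724) q13207, e3 q11091 (flp_a L383731) q13208, e3 q11092 (flp_a L383741) q13209, e3 q11093 (flp_a L648109) q11858, e3 q11094 (flp_a L383759) q13210, e3 q11095 L384293 q13268, e3 q11096 (flp_a L383778) q13211, e3 q11097 (flp_a L383788) q13212, e3 q11098 (flp_a L264104) q9139, e3 q11099 (flp_a L384323) q13271,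 e3 q11100 (flp_a L383813) q13215, e3 q11101 L264128 q11101, e3 q11102 L264134 q11102, e3 q11103 L264141 q11103, e3 q11104 L264149 q11104, e3 q11105 L264159 q11105, e3 q11106 L384407 q13280, e3 q11107 L264173 q11107, e3 q11108 L264181 q11108, e3 q11109 L264188 q11109, e3 q11110 L264197 q11110, e3 q11111 L384458 q13287, e3 q11112 L264210 q11112, e3 q11113 L264219 q11113, e3 q11114 (flp_a L264225) q9150, e3 q11115 (flp_a L384486) q13290, e3 q11116 L264243 q11116, e3 q11117 L264253 q9154, e3 q11118 (flp_a L384510) q13293, e3 q11119 L264267 q11119, e3 q11120 (flp_a L567745) q9620, e3 q11121 (flp_a L554244) q9619, e3 q11122 L264478 q9175, e3 q11123 L264488 q9176, e3 q11124 L264496 q9177, e3 q11125 L264507 q9178, e3 q11126 L264513 q9179, e3 q11127 L264539 q9182, e3 q11128 L264556 q9184, e3 q11129 L264640 q9188, e3 q11130 L264650 q9189, e3 q11131 L264668 q9191, e3 q11132 L264688 q9193, e3 q11133 (flp_a L542814) q12658, e3 q11134 (flp_a L561818) q12655, e3 q11135 (flp_a L561796) q12474, trivial⟩ (by decide +kernel)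

theorem ce_a_174 : ∀ r, r < 64 → sm ga (Qf (11136 + r)) = Qf (tab Gen.a (11136 + r)) :=
  edges_tab (sm ga) Qf (tab Gen.a) 11136 [(11136, 12477), (11137, 12451), (11138, 12480), (11139, 12455), (11140, 12456), (11141, 13296), (11142, 13297), (11143, 13298), (11144, 13299), (11145, 13300), (11146, 13301), (11147, 12441), (11148, 12917), (11149, 13302), (11150, 12972), (11151, 12443), (11152, 12444), (11153, 12919), (11154, 13303), (11155, 12916), (11156, 12920), (11157, 12915), (11158, 12918), (11159, 13304), (11160, 12651), (11161, 13305), (11162, 12439), (11163, 12649), (11164, 12652), (11165, 12440), (11166, 12653), (11167, 13351), (11168, 12442), (11169, 9196), (11170, 13353), (11171, 11171), (11172, 11172), (11173, 11173), (11174, 11174), (11175, 11175), (11176, 13359), (11177, 11177), (11178, 11178), (11179, 11179), (11180, 11180), (11181, 13365), (11182, 11182), (11183, 11183), (11184, 9206), (11185, 13368), (11186, 11186), (11187, 9210), (11188, 13371), (11189, 11189), (11190, 12911), (11191, 9645), (11192, 12912),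 (11193, 12913), (11194, 12914), (11195, 9239), (11196, 9240), (11197, 9241), (11198, 9242), (11199, 9243)]
    ⟨e3 q11136 (flp_a L508305) q12477, e3 q11137 (flp_a L508312) q12451, e3 q11138 (flp_a L561782) q12480, e3 q11139 (flp_a L547327) q12455, e3 q11140 (flp_a L547018) q12456, e3 q11141 (flp_a L384877) q13296, e3 q11142 (flp_a L384886) q13297, e3 q11143 (flp_a L384896) q13298, e3 q11144 (flp_a L384902) q13299, e3 q11145 (flp_a L384912) q13300, e3 q11146 (flp_a L384919) q13301, e3 q11147 (flp_a L546910) q12441, e3 q11148 (flp_a L534701) q12917, e3 q11149 (flp_a L384948) q13302, e3 q11150 (flp_a L542370) q12972, e3 q11151 (flp_a L534695) q12443, e3 q11152 (flp_a L543039) q12444, e3 q11153 L547354 q12919, e3 q11154 (flp_a L384994) q13303, e3 q11155 L554149 q12916, e3 q11156 (flp_a L554126) q12920, e3 q11157 L552170 q12915, e3 q11158 (flp_a L534260) q12918, e3 q11159 (flp_a L385111) q13304, e3 q11160 (flp_a L562211) q12651, e3 q11161 (flp_a L385130) q13305, e3 q11162 (flp_a L513188) q12439, e3 q11163 (flp_a L513217) q12649,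 e3 q11164 (flp_a L562101) q12652, e3 q11165 (flp_a L513121) q12440, e3 q11166 (flp_a L562086) q12653, e3 q11167 L385740 q13351, e3 q11168 (flp_a L562109) q12442, e3 q11169 (flp_a L265086) q9196, e3 q11170 (flp_a L385769) q13353, e3 q11171 L265112 q11171, e3 q11172 L265120 q11172, e3 q11173 L265128 q11173, e3 q11174 L265137 q11174, e3 q11175 L265145 q11175, e3 q11176 L385861 q13359, e3 q11177 L265160 q11177, e3 q11178 L265168 q11178, e3 q11179 L265175 q11179, e3 q11180 L265181 q11180, e3 q11181 L385910 q13365, e3 q11182 L265198 q11182, e3 q11183 L265207 q11183, e3 q11184 (flp_a L265216) q9206, e3 q11185 (flp_a L385940) q13368, e3 q11186 L265233 q11186, e3 q11187 L265243 q9210, e3 q11188 (flp_a L385966) q13371, e3 q11189 L265258 q11189, e3 q11190 (flp_a L378919) q12911, e3 q11191 (flp_a L615372) q9645, e3 q11192 (flp_a L378938) q12912, e3 q11193 (flp_a L378957) q12913, e3 q11194 (flp_a L378966) q12914, e3 q11195 L265519 q9239, e3 q11196 L265527 q9240, e3 q11197 L265537 q9241, e3 q11198 L265545 q9242, e3 q11199 L265556 q9243,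 trivial⟩ (by decide +kernel)

theorem ce_a_175 : ∀ r, r < 64 → sm ga (Qf (11200 + r)) = Qf (tab Gen.a (11200 + r)) :=
  edges_tab (sm ga) Qf (tab Gen.a) 11200 [(11200, 9244), (11201, 9247), (11202, 9248), (11203, 9249), (11204, 9250), (11205, 9251), (11206, 9252), (11207, 9253), (11208, 9254), (11209, 9256), (11210, 13398), (11211, 9259), (11212, 9262), (11213, 9271), (11214, 9272), (11215, 9273), (11216, 9274), (11217, 9275), (11218, 9276), (11219, 9277), (11220, 9278), (11221, 13412), (11222, 9280), (11223, 9237), (11224, 13414), (11225, 12657), (11226, 13378), (11227, 13379), (11228, 13380), (11229, 13381), (11230, 13382), (11231, 13383), (11232, 13384), (11233, 12715), (11234, 12874), (11235, 13385), (11236, 13434), (11237, 12718), (11238, 12623), (11239, 11883), (11240, 12876), (11241, 13386), (11242, 13387), (11243, 13388), (11244, 13389), (11245, 13390), (11246, 13391), (11247, 13392), (11248, 13393), (11249, 12881), (11250, 13394), (11251, 13460), (11252, 12883), (11253, 13396), (11254, 12879), (11255, 12884), (11256,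 13397), (11257, 9257), (11258, 13469), (11259, 13470), (11260, 11890), (11261, 12886), (11262, 13400), (11263, 11888)]
    ⟨e3 q11200 L265564 q9244, e3 q11201 L265592 q9247, e3 q11202 L265599 q9248, e3 q11203 L265606 q9249, e3 q11204 L265616 q9250, e3 q11205 L265622 q9251, e3 q11206 L265630 q9252, e3 q11207 L265637 q9253, e3 q11208 L265648 q9254, e3 q11209 L265664 q9256, e3 q11210 L386697 q13398, e3 q11211 L265686 q9259, e3 q11212 L265711 q9262, e3 q11213 L265833 q9271, e3 q11214 L265841 q9272, e3 q11215 L265852 q9273, e3 q11216 L265861 q9274, e3 q11217 L265869 q9275, e3 q11218 L265878 q9276, e3 q11219 L265887 q9277, e3 q11220 L265898 q9278, e3 q11221 L387033 q13412, e3 q11222 L265919 q9280, e3 q11223 (flp_a L265938) q9237, e3 q11224 (flp_a L387067) q13414, e3 q11225 (flp_a L615952) q12657, e3 q11226 (flp_a L386433) q13378, e3 q11227 (flp_a L386443) q13379, e3 q11228 (flp_a L386452) q13380, e3 q11229 (flp_a L386462) q13381, e3 q11230 (flp_a L386470) q13382, e3 q11231 (flp_a L386478) q13383, e3 q11232 (flp_a L386487) q13384,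 e3 q11233 (flp_a L512652) q12715, e3 q11234 (flp_a L534178) q12874, e3 q11235 (flp_a L386518) q13385, e3 q11236 L387231 q13434, e3 q11237 (flp_a L512659) q12718, e3 q11238 (flp_a L512641) q12623, e3 q11239 (flp_a L534166) q11883, e3 q11240 (flp_a L534107) q12876, e3 q11241 (flp_a L386570) q13386, e3 q11242 (flp_a L386577) q13387, e3 q11243 (flp_a L386586) q13388, e3 q11244 (flp_a L386594) q13389, e3 q11245 (flp_a L386604) q13390, e3 q11246 (flp_a L386612) q13391, e3 q11247 (flp_a L386616) q13392, e3 q11248 (flp_a L386624) q13393, e3 q11249 (flp_a L575938) q12881, e3 q11250 (flp_a L386642) q13394, e3 q11251 L387403 q13460, e3 q11252 (flp_a L534705) q12883, e3 q11253 (flp_a L386667) q13396, e3 q11254 (flp_a L534203) q12879, e3 q11255 (flp_a L575894) q12884, e3 q11256 (flp_a L386693) q13397, e3 q11257 (flp_a L266183) q9257, e3 q11258 (flp_a L387467) q13469, e3 q11259 (flp_a L387474) q13470, e3 q11260 (flp_a L547429) q11890, e3 q11261 (flp_a L507857) q12886, e3 q11262 (flp_a L386740) q13400, e3 q11263 (flp_a L575769) q11888,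 trivial⟩ (by decide +kernel)

theorem ce_a_176 : ∀ r, r < 64 → sm ga (Qf (11264 + r)) = Qf (tab Gen.a (11264 + r)) :=
  edges_tab (sm ga) Qf (tab Gen.a) 11264 [(11264, 11892), (11265, 12887), (11266, 12878), (11267, 12882), (11268, 11886), (11269, 12880), (11270, 11887), (11271, 11889), (11272, 11894), (11273, 13401), (11274, 13402), (11275, 13403), (11276, 13404), (11277, 13405), (11278, 13493), (11279, 13407), (11280, 13408), (11281, 13409), (11282, 12682), (11283, 13500), (11284, 13411), (11285, 12684), (11286, 9279), (11287, 13503), (11288, 12686), (11289, 9283), (11290, 13506), (11291, 12565), (11292, 11292), (11293, 12681), (11294, 11294), (11295, 11295), (11296, 11296), (11297, 9290), (11298, 12678), (11299, 13509), (11300, 11300), (11301, 9295), (11302, 13510), (11303, 9299), (11304, 13511), (11305, 11305), (11306, 9302), (11307, 11699), (11308, 11308), (11309, 12656), (11310, 12475), (11311, 12654), (11312, 12472), (11313, 12476), (11314, 12478), (11315, 12650), (11316, 12438), (11317, 12648), (11318, 13415), (11319,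 12437), (11320, 13523), (11321, 9316), (11322, 11322), (11323, 11323), (11324, 11324), (11325, 12673), (11326, 9323), (11327, 9352)]
    ⟨e3 q11264 (flp_a L575747) q11892, e3 q11265 (flp_a L507882) q12887, e3 q11266 (flp_a L575926) q12878, e3 q11267 (flp_a L474656) q12882, e3 q11268 (flp_a L567821) q11886, e3 q11269 (flp_a L575882) q12880, e3 q11270 (flp_a L502305) q11887, e3 q11271 (flp_a L474839) q11889, e3 q11272 (flp_a L575724) q11894, e3 q11273 (flp_a L386909) q13401, e3 q11274 (flp_a L386919) q13402, e3 q11275 (flp_a L386927) q13403, e3 q11276 (flp_a L386937) q13404, e3 q11277 (flp_a L386948) q13405, e3 q11278 L387745 q13493, e3 q11279 (flp_a L386966) q13407, e3 q11280 (flp_a L386976) q13408, e3 q11281 (flp_a L386984) q13409, e3 q11282 (flp_a L562132) q12682, e3 q11283 L387801 q13500, e3 q11284 (flp_a L387012) q13411, e3 q11285 (flp_a L546105) q12684, e3 q11286 (flp_a L266464) q9279, e3 q11287 (flp_a L387836) q13503, e3 q11288 (flp_a L512909) q12686, e3 q11289 L266496 q9283, e3 q11290 (flp_a L387864) q13506, e3 q11291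 (flp_a L512953) q12565, e3 q11292 L266536 q11292, e3 q11293 L646906 q12681, e3 q11294 L266563 q11294, e3 q11295 L266572 q11295, e3 q11296 L266581 q11296, e3 q11297 (flp_a L266588) q9290, e3 q11298 (flp_a L646537) q12678, e3 q11299 (flp_a L388012) q13509, e3 q11300 L266611 q11300, e3 q11301 (flp_a L266641) q9295, e3 q11302 (flp_a L388080) q13510, e3 q11303 L266674 q9299, e3 q11304 (flp_a L388109) q13511, e3 q11305 L266693 q11305, e3 q11306 L266700 q9302, e3 q11307 (flp_a L547957) q11699, e3 q11308 L266717 q11308, e3 q11309 (flp_a L561811) q12656, e3 q11310 (flp_a L561792) q12475, e3 q11311 (flp_a L562249) q12654, e3 q11312 (flp_a L490506) q12472, e3 q11313 (flp_a L490536) q12476, e3 q11314 (flp_a L490564) q12478, e3 q11315 (flp_a L490107) q12650, e3 q11316 (flp_a L562229) q12438, e3 q11317 (flp_a L562224) q12648, e3 q11318 (flp_a L615810) q13415, e3 q11319 (flp_a L513196) q12437, e3 q11320 L389823 q13523, e3 q11321 (flp_a L267856) q9316, e3 q11322 L267902 q11322, e3 q11323 L267909 q11323, e3 q11324 L267915 q11324, e3 q11325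 (flp_a L615791) q12673, e3 q11326 (flp_a L267964) q9323, e3 q11327 (flp_a L615823) q9352, trivial⟩ (by decide +kernel)

theorem ce_a_177 : ∀ r, r < 64 → sm ga (Qf (11328 + r)) = Qf (tab Gen.a (11328 + r)) :=
  edges_tab (sm ga) Qf (tab Gen.a) 11328 [(11328, 13513), (11329, 11329), (11330, 11330), (11331, 9328), (11332, 13525), (11333, 11333), (11334, 9332), (11335, 13527), (11336, 11336), (11337, 9335), (11338, 12399), (11339, 11339), (11340, 9351), (11341, 9353), (11342, 9355), (11343, 9357), (11344, 9369), (11345, 9371), (11346, 9372), (11347, 13535), (11348, 9375), (11349, 13538), (11350, 9348), (11351, 12487), (11352, 13529), (11353, 13530), (11354, 13360), (11355, 12702), (11356, 13531), (11357, 12708), (11358, 12709), (11359, 12614), (11360, 12712), (11361, 12617), (11362, 13555), (11363, 12620), (11364, 9360), (11365, 13557), (11366, 12697), (11367, 12700), (11368, 12701), (11369, 13561), (11370, 12707), (11371, 13564), (11372, 9367), (11373, 13532), (11374, 12692), (11375, 13534), (11376, 12690), (11377, 9374), (11378,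 13537), (11379, 12680), (11380, 9379), (11381, 12683), (11382, 9383), (11383, 13568), (11384, 12560), (11385, 9386), (11386, 11989), (11387, 12564), (11388, 9391), (11389, 11696), (11390, 9420), (11391, 9422)]
    ⟨e3 q11328 (flp_a L615778) q13513, e3 q11329 L267998 q11329, e3 q11330 L268005 q11330, e3 q11331 (flp_a L268009) q9328, e3 q11332 (flp_a L390067) q13525, e3 q11333 L268028 q11333, e3 q11334 L268037 q9332, e3 q11335 (flp_a L390094) q13527, e3 q11336 L268053 q11336, e3 q11337 L268061 q9335, e3 q11338 (flp_a L648448) q12399, e3 q11339 L268074 q11339, e3 q11340 L268291 q9351, e3 q11341 L268306 q9353, e3 q11342 L268322 q9355, e3 q11343 L268338 q9357, e3 q11344 L268507 q9369, e3 q11345 L268524 q9371, e3 q11346 L268532 q9372, e3 q11347 L390828 q13535, e3 q11348 L268558 q9375, e3 q11349 L390883 q13538, e3 q11350 (flp_a L268618) q9348, e3 q11351 (flp_a L615945) q12487, e3 q11352 (flp_a L390465) q13529, e3 q11353 (flp_a L390472) q13530, e3 q11354 (flp_a L615742) q13360, e3 q11355 (flp_a L562355) q12702, e3 q11356 (flp_a L390497)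 q13531, e3 q11357 (flp_a L512837) q12708, e3 q11358 (flp_a L512801) q12709, e3 q11359 (flp_a L562425) q12614, e3 q11360 (flp_a L562366) q12712, e3 q11361 (flp_a L562412) q12617, e3 q11362 L391110 q13555, e3 q11363 (flp_a L562435) q12620, e3 q11364 (flp_a L268778) q9360, e3 q11365 (flp_a L391137) q13557, e3 q11366 (flp_a L562320) q12697, e3 q11367 (flp_a L562327) q12700, e3 q11368 (flp_a L562323) q12701, e3 q11369 L391219 q13561, e3 q11370 (flp_a L512809) q12707, e3 q11371 L391266 q13564, e3 q11372 (flp_a L268897) q9367, e3 q11373 (flp_a L390757) q13532, e3 q11374 L646446 q12692, e3 q11375 (flp_a L390789) q13534, e3 q11376 (flp_a L546171) q12690, e3 q11377 (flp_a L269007) q9374, e3 q11378 (flp_a L390851) q13537, e3 q11379 (flp_a L512924) q12680, e3 q11380 (flp_a L269056) q9379, e3 q11381 (flp_a L512917) q12683, e3 q11382 L269087 q9383, e3 q11383 (flp_a L391545) q13568, e3 q11384 (flp_a L512928) q12560, e3 q11385 L269111 q9386, e3 q11386 (flp_a L648541) q11989, e3 q11387 (flp_a L512960) q12564, e3 q11388 L269336 q9391, e3 q11389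 (flp_a L648546) q11696, e3 q11390 L269870 q9420, e3 q11391 L269886 q9422, trivial⟩ (by decide +kernel)

theorem ce_a_178 : ∀ r, r < 64 → sm ga (Qf (11392 + r)) = Qf (tab Gen.a (11392 + r)) :=
  edges_tab (sm ga) Qf (tab Gen.a) 11392 [(11392, 9423), (11393, 12112), (11394, 11775), (11395, 11778), (11396, 11750), (11397, 11784), (11398, 11753), (11399, 11687), (11400, 11786), (11401, 11749), (11402, 11751), (11403, 11752), (11404, 11678), (11405, 11679), (11406, 11683), (11407, 12088), (11408, 11780), (11409, 13571), (11410, 9421), (11411, 13585), (11412, 13572), (11413, 11413), (11414, 11414), (11415, 11415), (11416, 12045), (11417, 11417), (11418, 11418), (11419, 11419), (11420, 11420), (11421, 12185), (11422, 11422), (11423, 11423), (11424, 9431), (11425, 13597), (11426, 11426), (11427, 9435), (11428, 13600), (11429, 11429), (11430, 9460), (11431, 9463), (11432, 9475), (11433, 9476), (11434, 9478), (11435, 9480), (11436, 9481), (11437, 9447), (11438, 13608), (11439, 9484), (11440, 12111), (11441, 11774), (11442, 11742),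 (11443, 11728), (11444, 11748), (11445, 12287), (11446, 11851), (11447, 11857), (11448, 11867), (11449, 11870), (11450, 11807), (11451, 9458), (11452, 13624), (11453, 13625), (11454, 11805), (11455, 12788)]
    ⟨e3 q11392 L269895 q9423, e3 q11393 L649261 q12112, e3 q11394 L648420 q11775, e3 q11395 (flp_a L649259) q11778, e3 q11396 (flp_a L648656) q11750, e3 q11397 L648787 q11784, e3 q11398 L648746 q11753, e3 q11399 (flp_a L648598) q11687, e3 q11400 (flp_a L648596) q11786, e3 q11401 L648666 q11749, e3 q11402 L648759 q11751, e3 q11403 L648670 q11752, e3 q11404 (flp_a L649343) q11678, e3 q11405 (flp_a L649005) q11679, e3 q11406 (flp_a L649315) q11683, e3 q11407 L648626 q12088, e3 q11408 L649339 q11780, e3 q11409 (flp_a L649409) q13571, e3 q11410 (flp_a L270291) q9421, e3 q11411 (flp_a L649534) q13585, e3 q11412 (flp_a L649418) q13572, e3 q11413 L270338 q11413, e3 q11414 L270347 q11414, e3 q11415 L270354 q11415, e3 q11416 (flp_a L649355) q12045, e3 q11417 L270370 q11417, e3 q11418 L270377 q11418, e3 q11419 L270386 q11419, e3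 q11420 L270393 q11420, e3 q11421 L648674 q12185, e3 q11422 L270409 q11422, e3 q11423 L270419 q11423, e3 q11424 (flp_a L270426) q9431, e3 q11425 (flp_a L649638) q13597, e3 q11426 L270442 q11426, e3 q11427 L270450 q9435, e3 q11428 (flp_a L649661) q13600, e3 q11429 L270467 q11429, e3 q11430 L270928 q9460, e3 q11431 L270952 q9463, e3 q11432 L271103 q9475, e3 q11433 L271112 q9476, e3 q11434 L271129 q9478, e3 q11435 L271144 q9480, e3 q11436 L271152 q9481, e3 q11437 (flp_a L271159) q9447, e3 q11438 (flp_a L649732) q13608, e3 q11439 L271174 q9484, e3 q11440 L649213 q12111, e3 q11441 L648422 q11774, e3 q11442 L648676 q11742, e3 q11443 (flp_a L648658) q11728, e3 q11444 L648312 q11748, e3 q11445 L648991 q12287, e3 q11446 L648418 q11851, e3 q11447 L649253 q11857, e3 q11448 L648783 q11867, e3 q11449 L648785 q11870, e3 q11450 L648236 q11807, e3 q11451 (flp_a L271406) q9458, e3 q11452 (flp_a L649855) q13624, e3 q11453 (flp_a L649860) q13625, e3 q11454 L648416 q11805, e3 q11455 L648424 q12788, trivial⟩ (by decide +kernel)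

theorem ce_a_179 : ∀ r, r < 64 → sm ga (Qf (11456 + r)) = Qf (tab Gen.a (11456 + r)) :=
  edges_tab (sm ga) Qf (tab Gen.a) 11456 [(11456, 13603), (11457, 11803), (11458, 11806), (11459, 12789), (11460, 11868), (11461, 11872), (11462, 11801), (11463, 12787), (11464, 11802), (11465, 11804), (11466, 11697), (11467, 12468), (11468, 11994), (11469, 11995), (11470, 13604), (11471, 13605), (11472, 12251), (11473, 11859), (11474, 13606), (11475, 9479), (11476, 13648), (11477, 13607), (11478, 9483), (11479, 13651), (11480, 13610), (11481, 12402), (11482, 11482), (11483, 11483), (11484, 9488), (11485, 13656), (11486, 13657), (11487, 11487), (11488, 11488), (11489, 11489), (11490, 9493), (11491, 13662), (11492, 11492), (11493, 9497), (11494, 13665), (11495, 11495), (11496, 9500), (11497, 13668), (11498, 11498), (11499, 9526), (11500, 9528), (11501, 9529), (11502, 9531), (11503, 13678), (11504, 9534), (11505, 9537), (11506, 9508), (11507, 13681), (11508, 9543), (11509, 9555), (11510, 9556), (11511, 13686), (11512, 9558), (11513, 9559),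 (11514, 9560), (11515, 9561), (11516, 13692), (11517, 9563), (11518, 9564), (11519, 9518)]
    ⟨e3 q11456 (flp_a L649687) q13603, e3 q11457 L648316 q11803, e3 q11458 (flp_a L648660) q11806, e3 q11459 L648789 q12789, e3 q11460 L648722 q11868, e3 q11461 L648740 q11872, e3 q11462 L648260 q11801, e3 q11463 (flp_a L648732) q12787, e3 q11464 L648314 q11802, e3 q11465 L648318 q11804, e3 q11466 (flp_a L649319) q11697, e3 q11467 L648616 q12468, e3 q11468 L649325 q11994, e3 q11469 L649327 q11995, e3 q11470 (flp_a L649694) q13604, e3 q11471 (flp_a L649704) q13605, e3 q11472 L648362 q12251, e3 q11473 L649335 q11859, e3 q11474 (flp_a L649714) q13606, e3 q11475 (flp_a L271677) q9479, e3 q11476 (flp_a L650028) q13648, e3 q11477 (flp_a L649723) q13607, e3 q11478 L271701 q9483, e3 q11479 (flp_a L650051) q13651, e3 q11480 (flp_a L649747) q13610, e3 q11481 (flp_a L649383) q12402, e3 q11482 L271762 q11482, e3 q11483 L271781 q11483, e3 q11484 (flp_a L271788) q9488, e3 q11485 (flp_a L650088) q13656, e3 q11486 (flp_a L650095) q13657, e3 q11487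 L271819 q11487, e3 q11488 L271827 q11488, e3 q11489 L271836 q11489, e3 q11490 (flp_a L271841) q9493, e3 q11491 (flp_a L650137) q13662, e3 q11492 L271857 q11492, e3 q11493 L271865 q9497, e3 q11494 (flp_a L650160) q13665, e3 q11495 L271880 q11495, e3 q11496 L271888 q9500, e3 q11497 (flp_a L650184) q13668, e3 q11498 L271902 q11498, e3 q11499 L272303 q9526, e3 q11500 L272319 q9528, e3 q11501 L272328 q9529, e3 q11502 L272348 q9531, e3 q11503 L650265 q13678, e3 q11504 L272373 q9534, e3 q11505 L272400 q9537, e3 q11506 (flp_a L272406) q9508, e3 q11507 (flp_a L650293) q13681, e3 q11508 L272449 q9543, e3 q11509 L272627 q9555, e3 q11510 L272646 q9556, e3 q11511 L650345 q13686, e3 q11512 L272665 q9558, e3 q11513 L272674 q9559, e3 q11514 L272683 q9560, e3 q11515 L272691 q9561, e3 q11516 L650400 q13692, e3 q11517 L272710 q9563, e3 q11518 L272719 q9564, e3 q11519 (flp_a L272728) q9518, trivial⟩ (by decide +kernel)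

theorem ce_a_180 : ∀ r, r < 64 → sm ga (Qf (11520 + r)) = Qf (tab Gen.a (11520 + r)) :=
  edges_tab (sm ga) Qf (tab Gen.a) 11520 [(11520, 13695), (11521, 9567), (11522, 9522), (11523, 13698), (11524, 9570), (11525, 11704), (11526, 11705), (11527, 13703), (11528, 12011), (11529, 13673), (11530, 12006), (11531, 12012), (11532, 13674), (11533, 13713), (11534, 12891), (11535, 13676), (11536, 12009), (11537, 12892), (11538, 13677), (11539, 9532), (11540, 13721), (11541, 13722), (11542, 12889), (11543, 12894), (11544, 13680), (11545, 11901), (11546, 12890), (11547, 12895), (11548, 9539), (11549, 9540), (11550, 13733), (11551, 13734), (11552, 13735), (11553, 11905), (11554, 11908), (11555, 12898), (11556, 13683), (11557, 11903), (11558, 11906), (11559, 11909), (11560, 12842), (11561, 12888), (11562, 11900), (11563, 11902), (11564, 11904), (11565, 13685), (11566, 9557), (11567, 13694), (11568, 13689), (11569, 13690), (11570, 13691), (11571, 9562), (11572, 9566), (11573, 13697), (11574, 9569), (11575, 11707), (11576, 13700), (11577,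 9582), (11578, 9576), (11579, 12693), (11580, 9579), (11581, 9587), (11582, 13684), (11583, 9588)]
    ⟨e3 q11520 (flp_a L650435) q13695, e3 q11521 L272746 q9567, e3 q11522 L272756 q9522, e3 q11523 (flp_a L650462) q13698, e3 q11524 L272774 q9570, e3 q11525 (flp_a L648554) q11704, e3 q11526 (flp_a L649093) q11705, e3 q11527 L650510 q13703, e3 q11528 L649105 q12011, e3 q11529 (flp_a L650219) q13673, e3 q11530 (flp_a L648726) q12006, e3 q11531 L649107 q12012, e3 q11532 (flp_a L650230) q13674, e3 q11533 L650590 q13713, e3 q11534 (flp_a L648404) q12891, e3 q11535 (flp_a L650247) q13676, e3 q11536 (flp_a L648406) q12009, e3 q11537 (flp_a L648408) q12892, e3 q11538 (flp_a L650258) q13677, e3 q11539 (flp_a L272919) q9532, e3 q11540 (flp_a L650666) q13721, e3 q11541 (flp_a L650674) q13722, e3 q11542 (flp_a L648525) q12889, e3 q11543 (flp_a L648527) q12894, e3 q11544 (flp_a L650284) q13680, e3 q11545 L648258 q11901, e3 q11546 (flp_a L648728) q12890, e3 q11547 (flp_a L648374) q12895, e3 q11548 L272989 q9539, e3 q11549 L272996 q9540,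 e3 q11550 (flp_a L650759) q13733, e3 q11551 (flp_a L650767) q13734, e3 q11552 (flp_a L650775) q13735, e3 q11553 L648376 q11905, e3 q11554 L648382 q11908, e3 q11555 (flp_a L648370) q12898, e3 q11556 (flp_a L650310) q13683, e3 q11557 L648378 q11903, e3 q11558 L648380 q11906, e3 q11559 (flp_a L648372) q11909, e3 q11560 L648278 q12842, e3 q11561 L648724 q12888, e3 q11562 L648262 q11900, e3 q11563 L648264 q11902, e3 q11564 (flp_a L648228) q11904, e3 q11565 (flp_a L650333) q13685, e3 q11566 (flp_a L273284) q9557, e3 q11567 (flp_a L650422) q13694, e3 q11568 (flp_a L650375) q13689, e3 q11569 (flp_a L650380) q13690, e3 q11570 (flp_a L650389) q13691, e3 q11571 (flp_a L273339) q9562, e3 q11572 L273368 q9566, e3 q11573 (flp_a L650453) q13697, e3 q11574 L273393 q9569, e3 q11575 (flp_a L648556) q11707, e3 q11576 (flp_a L650481) q13700, e3 q11577 L646202 q9582, e3 q11578 (flp_a L273777) q9576, e3 q11579 L648505 q12693, e3 q11580 L645842 q9579, e3 q11581 L273803 q9587, e3 q11582 (flp_a L650328) q13684, e3 q11583 L273880 q9588, trivial⟩ (by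 decide +kernel)

theorem ce_a_181 : ∀ r, r < 64 → sm ga (Qf (11584 + r)) = Qf (tab Gen.a (11584 + r)) :=
  edges_tab (sm ga) Qf (tab Gen.a) 11584 [(11584, 9585), (11585, 11706), (11586, 9591), (11587, 13753), (11588, 13755), (11589, 11589), (11590, 12058), (11591, 9636), (11592, 9596), (11593, 12205), (11594, 12207), (11595, 9612), (11596, 9611), (11597, 9661), (11598, 9648), (11599, 9651), (11600, 9613), (11601, 9614), (11602, 9617), (11603, 12873), (11604, 13760), (11605, 13759), (11606, 12479), (11607, 13762), (11608, 12412), (11609, 12481), (11610, 12413), (11611, 12414), (11612, 13064), (11613, 9625), (11614, 11740), (11615, 9631), (11616, 13169), (11617, 13063), (11618, 9634), (11619, 11788), (11620, 12779), (11621, 11787), (11622, 11789), (11623, 11790), (11624, 9646), (11625, 9647), (11626, 9649), (11627, 13375), (11628, 13769), (11629, 13770), (11630, 9675), (11631, 13761), (11632, 12394), (11633, 9657), (11634, 9658), (11635, 9659), (11636, 13774), (11637, 13775), (11638, 12872), (11639, 12875), (11640, 11882),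 (11641, 11884), (11642, 11880), (11643, 11881), (11644, 12877), (11645, 11885), (11646, 9674), (11647, 9677)]
    ⟨e3 q11584 L273888 q9585, e3 q11585 (flp_a L648558) q11706, e3 q11586 L273904 q9591, e3 q11587 (flp_a L650905) q13753, e3 q11588 (flp_a L650919) q13755, e3 q11589 L275034 q11589, e3 q11590 L648328 q12058, e3 q11591 L576790 q9636, e3 q11592 L283577 q9596, e3 q11593 L648654 q12205, e3 q11594 L648346 q12207, e3 q11595 (flp_a L614944) q9612, e3 q11596 L615010 q9611, e3 q11597 L534061 q9661, e3 q11598 L547250 q9648, e3 q11599 L547290 q9651, e3 q11600 L286929 q9613, e3 q11601 L286937 q9614, e3 q11602 L286960 q9617, e3 q11603 L648457 q12873, e3 q11604 (flp_a L650959) q13760, e3 q11605 (flp_a L650943) q13759, e3 q11606 (flp_a L648384) q12479, e3 q11607 (flp_a L650993) q13762, e3 q11608 L648402 q12412, e3 q11609 L648388 q12481, e3 q11610 L648350 q12413, e3 q11611 L648344 q12414, e3 q11612 L648763 q13064, e3 q11613 L288808 q9625, e3 q11614 L648662 q11740, e3 q11615 L289868 q9631, e3 q11616 (flp_a L648642) q13169, e3 q11617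 (flp_a L648358) q13063, e3 q11618 L290945 q9634, e3 q11619 L648214 q11788, e3 q11620 L648216 q12779, e3 q11621 (flp_a L648678) q11787, e3 q11622 (flp_a L648680) q11789, e3 q11623 L648306 q11790, e3 q11624 L292261 q9646, e3 q11625 L292270 q9647, e3 q11626 L292287 q9649, e3 q11627 (flp_a L648859) q13375, e3 q11628 (flp_a L651058) q13769, e3 q11629 (flp_a L651075) q13770, e3 q11630 L616232 q9675, e3 q11631 (flp_a L650975) q13761, e3 q11632 L648430 q12394, e3 q11633 L293752 q9657, e3 q11634 L293791 q9658, e3 q11635 L293810 q9659, e3 q11636 (flp_a L651122) q13774, e3 q11637 (flp_a L651127) q13775, e3 q11638 (flp_a L648469) q12872, e3 q11639 L648459 q12875, e3 q11640 (flp_a L648463) q11882, e3 q11641 (flp_a L648467) q11884, e3 q11642 (flp_a L648461) q11880, e3 q11643 L648340 q11881, e3 q11644 L648272 q12877, e3 q11645 L648342 q11885, e3 q11646 L294769 q9674, e3 q11647 L294803 q9677, trivial⟩ (by decide +kernel)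

theorem ce_a_182 : ∀ r, r < 64 → sm ga (Qf (11648 + r)) = Qf (tab Gen.a (11648 + r)) :=
  edges_tab (sm ga) Qf (tab Gen.a) 11648 [(11648, 9679), (11649, 12659), (11650, 13784), (11651, 13785), (11652, 13773), (11653, 12405), (11654, 12406), (11655, 12392), (11656, 11656), (11657, 11657), (11658, 11658), (11659, 11659), (11660, 9694), (11661, 9695), (11662, 9696), (11663, 11918), (11664, 12494), (11665, 13788), (11666, 13789), (11667, 11721), (11668, 11720), (11669, 11747), (11670, 11737), (11671, 11726), (11672, 12732), (11673, 11727), (11674, 11725), (11675, 12735), (11676, 11800), (11677, 11899), (11678, 11404), (11679, 11405), (11680, 9729), (11681, 9730), (11682, 10961), (11683, 11406), (11684, 13801), (11685, 13802), (11686, 13803), (11687, 11399), (11688, 11688), (11689, 11689), (11690, 11690), (11691, 9750), (11692, 9751), (11693, 9752), (11694, 9753), (11695, 9757), (11696, 11389), (11697, 11466), (11698, 10601), (11699, 11307), (11700, 13813), (11701, 13814), (11702, 13815), (11703, 13816), (11704, 11525), (11705,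 11526), (11706, 11585), (11707, 11575), (11708, 13817), (11709, 11709), (11710, 11710), (11711, 11711)]
    ⟨e3 q11648 L294821 q9679, e3 q11649 L648487 q12659, e3 q11650 (flp_a L651185) q13784, e3 q11651 (flp_a L651191) q13785, e3 q11652 (flp_a L651104) q13773, e3 q11653 L648436 q12405, e3 q11654 L648434 q12406, e3 q11655 L648432 q12392, e3 q11656 L532932 q11656, e3 q11657 L295631 q11657, e3 q11658 L295688 q11658, e3 q11659 L295697 q11659, e3 q11660 L295722 q9694, e3 q11661 L295729 q9695, e3 q11662 L295745 q9696, e3 q11663 L648877 q11918, e3 q11664 L648879 q12494, e3 q11665 (flp_a L651215) q13788, e3 q11666 (flp_a L651222) q13789, e3 q11667 (flp_a L648712) q11721, e3 q11668 L648284 q11720, e3 q11669 L648664 q11747, e3 q11670 L648718 q11737, e3 q11671 L648308 q11726, e3 q11672 (flp_a L648716) q12732, e3 q11673 (flp_a L648708) q11727, e3 q11674 (flp_a L648706) q11725, e3 q11675 L648274 q12735, e3 q11676 L648310 q11800, e3 q11677 L648276 q11899, e3 q11678 L649343 q11404, e3 q11679 L649005 q11405, e3 q11680 L351070 q9729, e3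 q11681 L351080 q9730, e3 q11682 L648116 q10961, e3 q11683 L649315 q11406, e3 q11684 (flp_a L651327) q13801, e3 q11685 (flp_a L651341) q13802, e3 q11686 (flp_a L651356) q13803, e3 q11687 L648598 q11399, e3 q11688 L351498 q11688, e3 q11689 L351506 q11689, e3 q11690 L351514 q11690, e3 q11691 L351619 q9750, e3 q11692 L351630 q9751, e3 q11693 L351639 q9752, e3 q11694 L351649 q9753, e3 q11695 L351714 q9757, e3 q11696 L648546 q11389, e3 q11697 L649319 q11466, e3 q11698 L547963 q10601, e3 q11699 L547957 q11307, e3 q11700 (flp_a L651485) q13813, e3 q11701 (flp_a L651502) q13814, e3 q11702 (flp_a L651514) q13815, e3 q11703 (flp_a L651528) q13816, e3 q11704 L648554 q11525, e3 q11705 L649093 q11526, e3 q11706 L648558 q11585, e3 q11707 L648556 q11575, e3 q11708 (flp_a L651538) q13817, e3 q11709 L352043 q11709, e3 q11710 L352058 q11710, e3 q11711 L352066 q11711, trivial⟩ (by decide +kernel)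

theorem ce_a_183 : ∀ r, r < 64 → sm ga (Qf (11712 + r)) = Qf (tab Gen.a (11712 + r)) :=
  edges_tab (sm ga) Qf (tab Gen.a) 11712 [(11712, 11712), (11713, 13839), (11714, 11714), (11715, 11715), (11716, 9765), (11717, 13842), (11718, 11718), (11719, 10604), (11720, 11668), (11721, 11667), (11722, 10605), (11723, 10619), (11724, 10618), (11725, 11674), (11726, 11671), (11727, 11673), (11728, 11443), (11729, 11729), (11730, 11730), (11731, 11731), (11732, 11732), (11733, 9798), (11734, 10617), (11735, 10615), (11736, 10616), (11737, 11670), (11738, 10613), (11739, 10650), (11740, 11614), (11741, 10953), (11742, 11442), (11743, 10955), (11744, 10124), (11745, 10956), (11746, 10125), (11747, 11669), (11748, 11444), (11749, 11401), (11750, 11396), (11751, 11402), (11752, 11403), (11753, 11398), (11754, 11754), (11755, 11755), (11756, 11756), (11757, 11757), (11758, 10093), (11759, 10094), (11760, 10095), (11761, 10076), (11762, 10096), (11763, 9831), (11764, 9832), (11765, 9833), (11766, 9837), (11767, 9838), (11768, 9839), (11769,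 9840), (11770, 9844), (11771, 13856), (11772, 10663), (11773, 13854), (11774, 11441), (11775, 11394)]
    ⟨e3 q11712 L352076 q11712, e3 q11713 L651822 q13839, e3 q11714 L352094 q11714, e3 q11715 L352104 q11715, e3 q11716 (flp_a L352111) q9765, e3 q11717 (flp_a L651854) q13842, e3 q11718 L352131 q11718, e3 q11719 L620569 q10604, e3 q11720 (flp_a L648284) q11668, e3 q11721 L648712 q11667, e3 q11722 L631062 q10605, e3 q11723 (flp_a L645125) q10619, e3 q11724 L645105 q10618, e3 q11725 L648706 q11674, e3 q11726 (flp_a L648308) q11671, e3 q11727 L648708 q11673, e3 q11728 L648658 q11443, e3 q11729 L353338 q11729, e3 q11730 L353349 q11730, e3 q11731 L353366 q11731, e3 q11732 L353393 q11732, e3 q11733 L353525 q9798, e3 q11734 L645141 q10617, e3 q11735 L634597 q10615, e3 q11736 L641404 q10616, e3 q11737 (flp_a L648718) q11670, e3 q11738 L644434 q10613, e3 q11739 L621596 q10650, e3 q11740 (flp_a L648662) q11614, e3 q11741 L554723 q10953, e3 q11742 (flp_a L648676) q11442, e3 q11743 L554829 q10955, e3 q11744 L550515 q10124, e3 q11745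 L575427 q10956, e3 q11746 L575438 q10125, e3 q11747 (flp_a L648664) q11669, e3 q11748 (flp_a L648312) q11444, e3 q11749 (flp_a L648666) q11401, e3 q11750 L648656 q11396, e3 q11751 (flp_a L648759) q11402, e3 q11752 (flp_a L648670) q11403, e3 q11753 (flp_a L648746) q11398, e3 q11754 L354161 q11754, e3 q11755 L354178 q11755, e3 q11756 L354199 q11756, e3 q11757 L354209 q11757, e3 q11758 L354222 q10093, e3 q11759 L354233 q10094, e3 q11760 L354242 q10095, e3 q11761 L550766 q10076, e3 q11762 L354263 q10096, e3 q11763 L354275 q9831, e3 q11764 L354284 q9832, e3 q11765 L354292 q9833, e3 q11766 L354332 q9837, e3 q11767 L354342 q9838, e3 q11768 L354352 q9839, e3 q11769 L354361 q9840, e3 q11770 L354396 q9844, e3 q11771 (flp_a L652083) q13856, e3 q11772 L640444 q10663, e3 q11773 (flp_a L652049) q13854, e3 q11774 (flp_a L648422) q11441, e3 q11775 (flp_a L648420) q11394, trivial⟩ (by decide +kernel)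

theorem ce_a_184 : ∀ r, r < 64 → sm ga (Qf (11776 + r)) = Qf (tab Gen.a (11776 + r)) :=
  edges_tab (sm ga) Qf (tab Gen.a) 11776 [(11776, 13875), (11777, 13876), (11778, 11395), (11779, 10963), (11780, 11408), (11781, 13877), (11782, 13878), (11783, 13879), (11784, 11397), (11785, 10649), (11786, 11400), (11787, 11621), (11788, 11619), (11789, 11622), (11790, 11623), (11791, 11083), (11792, 11077), (11793, 11084), (11794, 11085), (11795, 10272), (11796, 11086), (11797, 10269), (11798, 10273), (11799, 10274), (11800, 11676), (11801, 11462), (11802, 11464), (11803, 11457), (11804, 11465), (11805, 11454), (11806, 11458), (11807, 11450), (11808, 11808), (11809, 11809), (11810, 11810), (11811, 11811), (11812, 11812), (11813, 11813), (11814, 11814), (11815, 11815), (11816, 13930), (11817, 11817), (11818, 11818), (11819, 10225), (11820, 10226), (11821, 10227), (11822, 10228), (11823, 10229), (11824, 10203), (11825, 10230), (11826, 10156), (11827, 10204), (11828, 9892), (11829, 9894), (11830, 9895), (11831, 9896), (11832, 9897),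 (11833, 9898), (11834, 9901), (11835, 9902), (11836, 9903), (11837, 9904), (11838, 9905), (11839, 9906)]
    ⟨e3 q11776 (flp_a L652377) q13875, e3 q11777 (flp_a L652393) q13876, e3 q11778 L649259 q11395, e3 q11779 L648159 q10963, e3 q11780 (flp_a L649339) q11408, e3 q11781 (flp_a L652409) q13877, e3 q11782 (flp_a L652424) q13878, e3 q11783 (flp_a L652439) q13879, e3 q11784 (flp_a L648787) q11397, e3 q11785 L640401 q10649, e3 q11786 L648596 q11400, e3 q11787 L648678 q11621, e3 q11788 (flp_a L648214) q11619, e3 q11789 L648680 q11622, e3 q11790 (flp_a L648306) q11623, e3 q11791 L501817 q11083, e3 q11792 L521723 q11077, e3 q11793 L554718 q11084, e3 q11794 L554861 q11085, e3 q11795 L550521 q10272, e3 q11796 L575727 q11086, e3 q11797 L550527 q10269, e3 q11798 L550510 q10273, e3 q11799 L550566 q10274, e3 q11800 (flp_a L648310) q11676, e3 q11801 (flp_a L648260) q11462, e3 q11802 (flp_a L648314) q11464, e3 q11803 (flp_a L648316) q11457, e3 q11804 (flp_a L648318) q11465, e3 q11805 (flp_a L648416) q11454, e3 q11806 L648660 q11458, e3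 q11807 (flp_a L648236) q11450, e3 q11808 L355146 q11808, e3 q11809 L355157 q11809, e3 q11810 L355168 q11810, e3 q11811 L355175 q11811, e3 q11812 L355188 q11812, e3 q11813 L355194 q11813, e3 q11814 L355205 q11814, e3 q11815 L355213 q11815, e3 q11816 L653124 q13930, e3 q11817 L355228 q11817, e3 q11818 L355238 q11818, e3 q11819 L355246 q10225, e3 q11820 L355255 q10226, e3 q11821 L355264 q10227, e3 q11822 L355275 q10228, e3 q11823 L355285 q10229, e3 q11824 (flp_a L550795) q10203, e3 q11825 L355305 q10230, e3 q11826 L550786 q10156, e3 q11827 (flp_a L553570) q10204, e3 q11828 L355343 q9892, e3 q11829 L355357 q9894, e3 q11830 L355367 q9895, e3 q11831 L355375 q9896, e3 q11832 L355385 q9897, e3 q11833 L355391 q9898, e3 q11834 L355420 q9901, e3 q11835 L355430 q9902, e3 q11836 L355435 q9903, e3 q11837 L355443 q9904, e3 q11838 L355450 q9905, e3 q11839 L355460 q9906, trivial⟩ (by decide +kernel)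

theorem ce_a_185 : ∀ r, r < 64 → sm ga (Qf (11840 + r)) = Qf (tab Gen.a (11840 + r)) :=
  edges_tab (sm ga) Qf (tab Gen.a) 11840 [(11840, 9907), (11841, 9908), (11842, 9911), (11843, 9913), (11844, 13944), (11845, 13945), (11846, 10734), (11847, 10718), (11848, 10737), (11849, 13946), (11850, 13947), (11851, 11446), (11852, 13948), (11853, 13949), (11854, 10711), (11855, 13950), (11856, 13951), (11857, 11447), (11858, 11093), (11859, 11473), (11860, 13952), (11861, 13953), (11862, 13954), (11863, 13955), (11864, 13956), (11865, 13957), (11866, 13958), (11867, 11448), (11868, 11460), (11869, 13959), (11870, 11449), (11871, 10710), (11872, 11461), (11873, 11032), (11874, 10712), (11875, 13960), (11876, 11876), (11877, 11877), (11878, 9921), (11879, 13997), (11880, 11642), (11881, 11643), (11882, 11640), (11883, 11239), (11884, 11641), (11885, 11645), (11886, 11268), (11887, 11270), (11888, 11263), (11889, 11271), (11890, 11260), (11891, 10459), (11892, 11264), (11893, 10470), (11894, 11272), (11895, 10467), (11896, 10471),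 (11897, 10468), (11898, 10472), (11899, 11677), (11900, 11562), (11901, 11545), (11902, 11563), (11903, 11557)]
    ⟨e3 q11840 L355467 q9907, e3 q11841 L355476 q9908, e3 q11842 L355503 q9911, e3 q11843 L355518 q9913, e3 q11844 (flp_a L653328) q13944, e3 q11845 (flp_a L653346) q13945, e3 q11846 L640458 q10734, e3 q11847 L640463 q10718, e3 q11848 L640439 q10737, e3 q11849 (flp_a L653361) q13946, e3 q11850 (flp_a L653375) q13947, e3 q11851 (flp_a L648418) q11446, e3 q11852 (flp_a L653389) q13948, e3 q11853 (flp_a L653403) q13949, e3 q11854 L640474 q10711, e3 q11855 (flp_a L653417) q13950, e3 q11856 (flp_a L653431) q13951, e3 q11857 (flp_a L649253) q11447, e3 q11858 L648109 q11093, e3 q11859 (flp_a L649335) q11473, e3 q11860 (flp_a L653441) q13952, e3 q11861 (flp_a L653454) q13953, e3 q11862 (flp_a L653466) q13954, e3 q11863 (flp_a L653481) q13955, e3 q11864 (flp_a L653492) q13956, e3 q11865 (flp_a L653502) q13957, e3 q11866 (flp_a L653515) q13958, e3 q11867 (flp_a L648783) q11448, e3 q11868 (flp_a L648722) q11460, e3 q11869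 (flp_a L653532) q13959, e3 q11870 (flp_a L648785) q11449, e3 q11871 L636007 q10710, e3 q11872 (flp_a L648740) q11461, e3 q11873 L640478 q11032, e3 q11874 L636044 q10712, e3 q11875 (flp_a L653549) q13960, e3 q11876 L355821 q11876, e3 q11877 L355848 q11877, e3 q11878 (flp_a L355889) q9921, e3 q11879 (flp_a L654005) q13997, e3 q11880 L648461 q11642, e3 q11881 (flp_a L648340) q11643, e3 q11882 L648463 q11640, e3 q11883 L534166 q11239, e3 q11884 L648467 q11641, e3 q11885 (flp_a L648342) q11645, e3 q11886 L567821 q11268, e3 q11887 L502305 q11270, e3 q11888 L575769 q11263, e3 q11889 L474839 q11271, e3 q11890 L547429 q11260, e3 q11891 L550665 q10459, e3 q11892 L575747 q11264, e3 q11893 L575702 q10470, e3 q11894 L575724 q11272, e3 q11895 L550660 q10467, e3 q11896 L575729 q10471, e3 q11897 L550615 q10468, e3 q11898 L550588 q10472, e3 q11899 (flp_a L648276) q11677, e3 q11900 (flp_a L648262) q11562, e3 q11901 (flp_a L648258) q11545, e3 q11902 (flp_a L648264) q11563, e3 q11903 (flp_a L648378) q11557, trivial⟩ (by decide +kernel)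

theorem ce_a_186 : ∀ r, r < 64 → sm ga (Qf (11904 + r)) = Qf (tab Gen.a (11904 + r)) :=
  edges_tab (sm ga) Qf (tab Gen.a) 11904 [(11904, 11564), (11905, 11553), (11906, 11558), (11907, 14038), (11908, 11554), (11909, 11559), (11910, 11910), (11911, 11911), (11912, 11912), (11913, 11913), (11914, 11914), (11915, 11915), (11916, 11916), (11917, 11917), (11918, 11663), (11919, 11919), (11920, 11920), (11921, 9953), (11922, 14053), (11923, 11923), (11924, 10400), (11925, 10401), (11926, 10402), (11927, 10403), (11928, 10404), (11929, 10405), (11930, 10406), (11931, 10407), (11932, 10373), (11933, 10408), (11934, 10316), (11935, 10370), (11936, 10374), (11937, 10317), (11938, 10375), (11939, 9988), (11940, 9989), (11941, 9990), (11942, 9991), (11943, 9992), (11944, 9993), (11945, 9994), (11946, 9995), (11947, 9996), (11948, 9997), (11949, 9998), (11950, 9999), (11951, 10000), (11952, 10002), (11953, 10003), (11954, 10004), (11955, 10005), (11956, 10006), (11957, 10007), (11958, 10008), (11959, 10009), (11960, 10010), (11961,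 10011), (11962, 10012), (11963, 10013), (11964, 10014), (11965, 10016), (11966, 10017), (11967, 10018)]
    ⟨e3 q11904 L648228 q11564, e3 q11905 (flp_a L648376) q11553, e3 q11906 (flp_a L648380) q11558, e3 q11907 L654499 q14038, e3 q11908 (flp_a L648382) q11554, e3 q11909 L648372 q11559, e3 q11910 L356553 q11910, e3 q11911 L356563 q11911, e3 q11912 L356571 q11912, e3 q11913 L356582 q11913, e3 q11914 L356592 q11914, e3 q11915 L356599 q11915, e3 q11916 L356608 q11916, e3 q11917 L356618 q11917, e3 q11918 (flp_a L648877) q11663, e3 q11919 L356635 q11919, e3 q11920 L356645 q11920, e3 q11921 (flp_a L356652) q9953, e3 q11922 (flp_a L654686) q14053, e3 q11923 L356674 q11923, e3 q11924 L356694 q10400, e3 q11925 L356703 q10401, e3 q11926 L356713 q10402, e3 q11927 L356722 q10403, e3 q11928 L356732 q10404, e3 q11929 L356743 q10405, e3 q11930 L356752 q10406, e3 q11931 L356764 q10407, e3 q11932 L552030 q10373, e3 q11933 L356783 q10408, e3 q11934 (flp_a L550695) q10316, e3 q11935 L550688 q10370, e3 q11936 L552018 q10374, e3 q11937 L550751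 q10317, e3 q11938 (flp_a L506454) q10375, e3 q11939 L356865 q9988, e3 q11940 L356874 q9989, e3 q11941 L356883 q9990, e3 q11942 L356891 q9991, e3 q11943 L356900 q9992, e3 q11944 L356909 q9993, e3 q11945 L356917 q9994, e3 q11946 L356927 q9995, e3 q11947 L356938 q9996, e3 q11948 L356944 q9997, e3 q11949 L356954 q9998, e3 q11950 L356963 q9999, e3 q11951 L356970 q10000, e3 q11952 L356987 q10002, e3 q11953 L356996 q10003, e3 q11954 L357003 q10004, e3 q11955 L357011 q10005, e3 q11956 L357019 q10006, e3 q11957 L357026 q10007, e3 q11958 L357034 q10008, e3 q11959 L357041 q10009, e3 q11960 L357050 q10010, e3 q11961 L357058 q10011, e3 q11962 L357067 q10012, e3 q11963 L357076 q10013, e3 q11964 L357086 q10014, e3 q11965 L357104 q10016, e3 q11966 L357114 q10017, e3 q11967 L357121 q10018, trivial⟩ (by decide +kernel)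

theorem ce_a_187 : ∀ r, r < 64 → sm ga (Qf (11968 + r)) = Qf (tab Gen.a (11968 + r)) :=
  edges_tab (sm ga) Qf (tab Gen.a) 11968 [(11968, 10020), (11969, 10021), (11970, 14076), (11971, 14077), (11972, 14078), (11973, 14079), (11974, 14080), (11975, 14081), (11976, 14082), (11977, 14083), (11978, 14084), (11979, 14085), (11980, 14086), (11981, 14087), (11982, 14088), (11983, 14089), (11984, 14090), (11985, 14091), (11986, 14092), (11987, 14093), (11988, 14146), (11989, 11386), (11990, 14094), (11991, 14095), (11992, 14096), (11993, 14097), (11994, 11468), (11995, 11469), (11996, 14098), (11997, 14099), (11998, 14100), (11999, 14101), (12000, 14102), (12001, 14103), (12002, 14104), (12003, 14105), (12004, 14106), (12005, 14107), (12006, 11530), (12007, 14108), (12008, 14109), (12009, 11536), (12010, 14110), (12011, 11528), (12012, 11531), (12013, 14178), (12014, 14111), (12015, 14112), (12016, 10019), (12017, 14181), (12018, 14113), (12019, 12019), (12020, 12020), (12021, 12021), (12022, 14187), (12023, 12023), (12024, 12024),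 (12025, 12025), (12026, 12026), (12027, 14193), (12028, 12028), (12029, 12029), (12030, 10030), (12031, 14196)]
    ⟨e3 q11968 L357137 q10020, e3 q11969 L357146 q10021, e3 q11970 (flp_a L654980) q14076, e3 q11971 (flp_a L654994) q14077, e3 q11972 (flp_a L655005) q14078, e3 q11973 (flp_a L655014) q14079, e3 q11974 (flp_a L655023) q14080, e3 q11975 (flp_a L655031) q14081, e3 q11976 (flp_a L655041) q14082, e3 q11977 (flp_a L655055) q14083, e3 q11978 (flp_a L655069) q14084, e3 q11979 (flp_a L655078) q14085, e3 q11980 (flp_a L655089) q14086, e3 q11981 (flp_a L655101) q14087, e3 q11982 (flp_a L655109) q14088, e3 q11983 (flp_a L655121) q14089, e3 q11984 (flp_a L655132) q14090, e3 q11985 (flp_a L655145) q14091, e3 q11986 (flp_a L655159) q14092, e3 q11987 (flp_a L655171) q14093, e3 q11988 L655740 q14146, e3 q11989 L648541 q11386, e3 q11990 (flp_a L655179) q14094, e3 q11991 (flp_a L655194) q14095, e3 q11992 (flp_a L655209) q14096, e3 q11993 (flp_a L655220) q14097, e3 q11994 (flp_a L649325) q11468, e3 q11995 (flp_a L649327) q11469,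 e3 q11996 (flp_a L655229) q14098, e3 q11997 (flp_a L655240) q14099, e3 q11998 (flp_a L655252) q14100, e3 q11999 (flp_a L655267) q14101, e3 q12000 (flp_a L655278) q14102, e3 q12001 (flp_a L655291) q14103, e3 q12002 (flp_a L655301) q14104, e3 q12003 (flp_a L655311) q14105, e3 q12004 (flp_a L655321) q14106, e3 q12005 (flp_a L655333) q14107, e3 q12006 L648726 q11530, e3 q12007 (flp_a L655347) q14108, e3 q12008 (flp_a L655362) q14109, e3 q12009 L648406 q11536, e3 q12010 (flp_a L655377) q14110, e3 q12011 (flp_a L649105) q11528, e3 q12012 (flp_a L649107) q11531, e3 q12013 L656072 q14178, e3 q12014 (flp_a L655392) q14111, e3 q12015 (flp_a L655406) q14112, e3 q12016 (flp_a L357532) q10019, e3 q12017 (flp_a L656100) q14181, e3 q12018 (flp_a L655420) q14113, e3 q12019 L357568 q12019, e3 q12020 L357578 q12020, e3 q12021 L357594 q12021, e3 q12022 L656161 q14187, e3 q12023 L357612 q12023, e3 q12024 L357620 q12024, e3 q12025 L357631 q12025, e3 q12026 L357638 q12026, e3 q12027 L656233 q14193, e3 q12028 L357654 q12028, e3 q12029 L357664 q12029,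 e3 q12030 (flp_a L357669) q10030, e3 q12031 (flp_a L656262) q14196, trivial⟩ (by decide +kernel)

theorem ce_a_188 : ∀ r, r < 64 → sm ga (Qf (12032 + r)) = Qf (tab Gen.a (12032 + r)) :=
  edges_tab (sm ga) Qf (tab Gen.a) 12032 [(12032, 12032), (12033, 10034), (12034, 14199), (12035, 12035), (12036, 12036), (12037, 10044), (12038, 10045), (12039, 10046), (12040, 10047), (12041, 10049), (12042, 10050), (12043, 14203), (12044, 14204), (12045, 11416), (12046, 14205), (12047, 14206), (12048, 14207), (12049, 10152), (12050, 14208), (12051, 12051), (12052, 12052), (12053, 12053), (12054, 12054), (12055, 12055), (12056, 12056), (12057, 10940), (12058, 11590), (12059, 10657), (12060, 10658), (12061, 10069), (12062, 10070), (12063, 10071), (12064, 10072), (12065, 10073), (12066, 10074), (12067, 10075), (12068, 10077), (12069, 10078), (12070, 10079), (12071, 10080), (12072, 10081), (12073, 10082), (12074, 10083), (12075, 10084), (12076, 14227), (12077, 14228), (12078, 14229), (12079, 14230), (12080, 14231), (12081, 14232), (12082, 14233),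 (12083, 14234), (12084, 14213), (12085, 14235), (12086, 14236), (12087, 14237), (12088, 11407), (12089, 13874), (12090, 14238), (12091, 14239), (12092, 14240), (12093, 14241), (12094, 14209), (12095, 14242)]
    ⟨e3 q12032 L357687 q12032, e3 q12033 L357695 q10034, e3 q12034 (flp_a L656286) q14199, e3 q12035 L357713 q12035, e3 q12036 L357732 q12036, e3 q12037 L357761 q10044, e3 q12038 L357771 q10045, e3 q12039 L357781 q10046, e3 q12040 L357801 q10047, e3 q12041 L357822 q10049, e3 q12042 L357832 q10050, e3 q12043 (flp_a L656327) q14203, e3 q12044 (flp_a L656344) q14204, e3 q12045 L649355 q11416, e3 q12046 (flp_a L656361) q14205, e3 q12047 (flp_a L656376) q14206, e3 q12048 (flp_a L656391) q14207, e3 q12049 L614278 q10152, e3 q12050 (flp_a L656406) q14208, e3 q12051 L358013 q12051, e3 q12052 L358023 q12052, e3 q12053 L358031 q12053, e3 q12054 L358040 q12054, e3 q12055 L358050 q12055, e3 q12056 L358060 q12056, e3 q12057 L612420 q10940, e3 q12058 (flp_a L648328) q11590, e3 q12059 L501944 q10657, e3 q12060 L576186 q10658, e3 q12061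 L358121 q10069, e3 q12062 L358133 q10070, e3 q12063 L358143 q10071, e3 q12064 L358155 q10072, e3 q12065 L358167 q10073, e3 q12066 L358176 q10074, e3 q12067 L358185 q10075, e3 q12068 L358207 q10077, e3 q12069 L358216 q10078, e3 q12070 L358227 q10079, e3 q12071 L358239 q10080, e3 q12072 L358248 q10081, e3 q12073 L358258 q10082, e3 q12074 L358271 q10083, e3 q12075 L358281 q10084, e3 q12076 (flp_a L656660) q14227, e3 q12077 (flp_a L656674) q14228, e3 q12078 (flp_a L656686) q14229, e3 q12079 (flp_a L656701) q14230, e3 q12080 (flp_a L656713) q14231, e3 q12081 (flp_a L656723) q14232, e3 q12082 (flp_a L656731) q14233, e3 q12083 (flp_a L656745) q14234, e3 q12084 (flp_a L656475) q14213, e3 q12085 (flp_a L656758) q14235, e3 q12086 (flp_a L656769) q14236, e3 q12087 (flp_a L656784) q14237, e3 q12088 (flp_a L648626) q11407, e3 q12089 (flp_a L652360) q13874, e3 q12090 (flp_a L656794) q14238, e3 q12091 (flp_a L656804) q14239, e3 q12092 (flp_a L656815) q14240, e3 q12093 (flp_a L656827) q14241, e3 q12094 (flp_a L656423) q14209, e3 q12095 (flp_a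 L656840) q14242, trivial⟩ (by decide +kernel)

theorem ce_a_189 : ∀ r, r < 64 → sm ga (Qf (12096 + r)) = Qf (tab Gen.a (12096 + r)) :=
  edges_tab (sm ga) Qf (tab Gen.a) 12096 [(12096, 14243), (12097, 14244), (12098, 14245), (12099, 12099), (12100, 12100), (12101, 12101), (12102, 12102), (12103, 12103), (12104, 12104), (12105, 14277), (12106, 12106), (12107, 12107), (12108, 10910), (12109, 13871), (12110, 13872), (12111, 11440), (12112, 11393), (12113, 13873), (12114, 10112), (12115, 10113), (12116, 10114), (12117, 10115), (12118, 10116), (12119, 10117), (12120, 10118), (12121, 10119), (12122, 10120), (12123, 10121), (12124, 10122), (12125, 10123), (12126, 10126), (12127, 10127), (12128, 10128), (12129, 10129), (12130, 10130), (12131, 10131), (12132, 10132), (12133, 10133), (12134, 10134), (12135, 14222), (12136, 14286), (12137, 14287), (12138, 14288), (12139, 14289), (12140, 14290), (12141, 14291), (12142, 14292), (12143, 14293), (12144, 14294), (12145, 14295), (12146, 14296), (12147, 14297), (12148, 14298), (12149, 14299),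 (12150, 14300), (12151, 13864), (12152, 14301), (12153, 14302), (12154, 13862), (12155, 13865), (12156, 13866), (12157, 14303), (12158, 14304), (12159, 14305)]
    ⟨e3 q12096 (flp_a L656851) q14243, e3 q12097 (flp_a L656864) q14244, e3 q12098 (flp_a L656875) q14245, e3 q12099 L358487 q12099, e3 q12100 L358498 q12100, e3 q12101 L358514 q12101, e3 q12102 L358524 q12102, e3 q12103 L358532 q12103, e3 q12104 L358549 q12104, e3 q12105 L657231 q14277, e3 q12106 L358563 q12106, e3 q12107 L358572 q12107, e3 q12108 L611914 q10910, e3 q12109 (flp_a L652309) q13871, e3 q12110 (flp_a L652328) q13872, e3 q12111 (flp_a L649213) q11440, e3 q12112 (flp_a L649261) q11393, e3 q12113 (flp_a L652343) q13873, e3 q12114 L358671 q10112, e3 q12115 L358679 q10113, e3 q12116 L358689 q10114, e3 q12117 L358698 q10115, e3 q12118 L358708 q10116, e3 q12119 L358718 q10117, e3 q12120 L358726 q10118, e3 q12121 L358738 q10119, e3 q12122 L358749 q10120, e3 q12123 L358758 q10121, e3 q12124 L358767 q10122, e3 q12125 L358775 q10123, e3 q12126 L358808 q10126, e3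 q12127 L358817 q10127, e3 q12128 L358826 q10128, e3 q12129 L358836 q10129, e3 q12130 L358847 q10130, e3 q12131 L358856 q10131, e3 q12132 L358865 q10132, e3 q12133 L358875 q10133, e3 q12134 L358887 q10134, e3 q12135 (flp_a L656596) q14222, e3 q12136 (flp_a L657343) q14286, e3 q12137 (flp_a L657353) q14287, e3 q12138 (flp_a L657361) q14288, e3 q12139 (flp_a L657371) q14289, e3 q12140 (flp_a L657381) q14290, e3 q12141 (flp_a L657390) q14291, e3 q12142 (flp_a L657401) q14292, e3 q12143 (flp_a L657415) q14293, e3 q12144 (flp_a L657421) q14294, e3 q12145 (flp_a L657431) q14295, e3 q12146 (flp_a L657441) q14296, e3 q12147 (flp_a L657449) q14297, e3 q12148 (flp_a L657459) q14298, e3 q12149 (flp_a L657474) q14299, e3 q12150 (flp_a L657486) q14300, e3 q12151 (flp_a L652201) q13864, e3 q12152 (flp_a L657500) q14301, e3 q12153 (flp_a L657509) q14302, e3 q12154 (flp_a L652175) q13862, e3 q12155 (flp_a L652213) q13865, e3 q12156 (flp_a L652226) q13866, e3 q12157 (flp_a L657519) q14303, e3 q12158 (flp_a L657530) q14304, e3 q12159 (flp_a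 L657540) q14305, trivial⟩ (by decide +kernel)

theorem ce_a_190 : ∀ r, r < 64 → sm ga (Qf (12160 + r)) = Qf (tab Gen.a (12160 + r)) :=
  edges_tab (sm ga) Qf (tab Gen.a) 12160 [(12160, 14306), (12161, 14307), (12162, 14343), (12163, 14309), (12164, 14310), (12165, 12165), (12166, 10139), (12167, 14346), (12168, 12168), (12169, 12169), (12170, 12170), (12171, 10153), (12172, 10154), (12173, 10155), (12174, 10157), (12175, 10159), (12176, 10160), (12177, 10161), (12178, 10162), (12179, 10163), (12180, 14215), (12181, 14349), (12182, 14350), (12183, 14269), (12184, 14351), (12185, 11421), (12186, 13942), (12187, 14352), (12188, 10311), (12189, 14353), (12190, 14354), (12191, 14258), (12192, 14355), (12193, 14356), (12194, 12194), (12195, 12195), (12196, 12196), (12197, 12197), (12198, 12198), (12199, 12199), (12200, 12200), (12201, 14381), (12202, 12202), (12203, 12203), (12204, 10943), (12205, 11593), (12206, 10724), (12207, 11594), (12208, 10726), (12209, 10727), (12210, 10191), (12211, 10192), (12212, 10193), (12213, 10194),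 (12214, 10195), (12215, 10196), (12216, 10197), (12217, 10198), (12218, 10199), (12219, 10200), (12220, 10201), (12221, 10202), (12222, 10205), (12223, 10206)]
    ⟨e3 q12160 (flp_a L657553) q14306, e3 q12161 (flp_a L657563) q14307, e3 q12162 L657904 q14343, e3 q12163 (flp_a L657584) q14309, e3 q12164 (flp_a L657595) q14310, e3 q12165 L359260 q12165, e3 q12166 (flp_a L359265) q10139, e3 q12167 (flp_a L657941) q14346, e3 q12168 L359285 q12168, e3 q12169 L359322 q12169, e3 q12170 L359330 q12170, e3 q12171 L359376 q10153, e3 q12172 L359386 q10154, e3 q12173 L359395 q10155, e3 q12174 L359414 q10157, e3 q12175 L359443 q10159, e3 q12176 L359452 q10160, e3 q12177 L359461 q10161, e3 q12178 L359470 q10162, e3 q12179 L359481 q10163, e3 q12180 (flp_a L656500) q14215, e3 q12181 (flp_a L657984) q14349, e3 q12182 (flp_a L658001) q14350, e3 q12183 (flp_a L657135) q14269, e3 q12184 (flp_a L658018) q14351, e3 q12185 (flp_a L648674) q11421, e3 q12186 (flp_a L653298) q13942, e3 q12187 (flp_a L658028) q14352, e3 q12188 L613974 q10311, e3 q12189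 (flp_a L658038) q14353, e3 q12190 (flp_a L658054) q14354, e3 q12191 (flp_a L657005) q14258, e3 q12192 (flp_a L658070) q14355, e3 q12193 (flp_a L658080) q14356, e3 q12194 L359696 q12194, e3 q12195 L359706 q12195, e3 q12196 L359713 q12196, e3 q12197 L359723 q12197, e3 q12198 L359731 q12198, e3 q12199 L359740 q12199, e3 q12200 L359749 q12200, e3 q12201 L658371 q14381, e3 q12202 L359765 q12202, e3 q12203 L359774 q12203, e3 q12204 L617580 q10943, e3 q12205 (flp_a L648654) q11593, e3 q12206 L554650 q10724, e3 q12207 (flp_a L648346) q11594, e3 q12208 L554647 q10726, e3 q12209 L501971 q10727, e3 q12210 L359867 q10191, e3 q12211 L359877 q10192, e3 q12212 L359885 q10193, e3 q12213 L359897 q10194, e3 q12214 L359907 q10195, e3 q12215 L359917 q10196, e3 q12216 L359923 q10197, e3 q12217 L359935 q10198, e3 q12218 L359945 q10199, e3 q12219 L359954 q10200, e3 q12220 L359966 q10201, e3 q12221 L359971 q10202, e3 q12222 L359996 q10205, e3 q12223 L360005 q10206, trivial⟩ (by decide +kernel)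

theorem ce_a_191 : ∀ r, r < 64 → sm ga (Qf (12224 + r)) = Qf (tab Gen.a (12224 + r)) :=
  edges_tab (sm ga) Qf (tab Gen.a) 12224 [(12224, 10207), (12225, 10208), (12226, 10209), (12227, 10210), (12228, 10211), (12229, 10212), (12230, 10213), (12231, 14393), (12232, 14394), (12233, 14395), (12234, 14396), (12235, 14397), (12236, 14398), (12237, 14399), (12238, 14400), (12239, 14401), (12240, 14402), (12241, 14403), (12242, 14404), (12243, 14405), (12244, 14366), (12245, 14406), (12246, 14407), (12247, 14408), (12248, 13940), (12249, 14409), (12250, 14410), (12251, 11472), (12252, 13941), (12253, 13943), (12254, 14411), (12255, 14412), (12256, 14413), (12257, 14414), (12258, 14357), (12259, 14415), (12260, 14416), (12261, 14417), (12262, 14464), (12263, 14419), (12264, 14420), (12265, 12265), (12266, 12266), (12267, 12267), (12268, 12268), (12269, 12269), (12270, 12270), (12271, 12271), (12272, 12272), (12273, 14478), (12274, 12274), (12275, 12275), (12276, 10222), (12277, 14481), (12278, 12278), (12279, 10626), (12280, 13933),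 (12281, 10736), (12282, 13934), (12283, 13935), (12284, 13936), (12285, 13937), (12286, 13938), (12287, 11445)]
    ⟨e3 q12224 L360017 q10207, e3 q12225 L360028 q10208, e3 q12226 L360037 q10209, e3 q12227 L360045 q10210, e3 q12228 L360056 q10211, e3 q12229 L360063 q10212, e3 q12230 L360072 q10213, e3 q12231 (flp_a L658508) q14393, e3 q12232 (flp_a L658523) q14394, e3 q12233 (flp_a L658533) q14395, e3 q12234 (flp_a L658541) q14396, e3 q12235 (flp_a L658549) q14397, e3 q12236 (flp_a L658559) q14398, e3 q12237 (flp_a L658571) q14399, e3 q12238 (flp_a L658583) q14400, e3 q12239 (flp_a L658593) q14401, e3 q12240 (flp_a L658599) q14402, e3 q12241 (flp_a L658611) q14403, e3 q12242 (flp_a L658619) q14404, e3 q12243 (flp_a L658625) q14405, e3 q12244 (flp_a L658209) q14366, e3 q12245 (flp_a L658633) q14406, e3 q12246 (flp_a L658645) q14407, e3 q12247 (flp_a L658656) q14408, e3 q12248 (flp_a L653267) q13940, e3 q12249 (flp_a L658666) q14409, e3 q12250 (flp_a L658672) q14410, e3 q12251 (flp_a L648362) q11472, e3 q12252 (flp_a L653282)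 q13941, e3 q12253 (flp_a L653315) q13943, e3 q12254 (flp_a L658681) q14411, e3 q12255 (flp_a L658693) q14412, e3 q12256 (flp_a L658704) q14413, e3 q12257 (flp_a L658716) q14414, e3 q12258 (flp_a L658098) q14357, e3 q12259 (flp_a L658729) q14415, e3 q12260 (flp_a L658740) q14416, e3 q12261 (flp_a L658751) q14417, e3 q12262 L659136 q14464, e3 q12263 (flp_a L658766) q14419, e3 q12264 (flp_a L658774) q14420, e3 q12265 L360338 q12265, e3 q12266 L360347 q12266, e3 q12267 L360355 q12267, e3 q12268 L360366 q12268, e3 q12269 L360374 q12269, e3 q12270 L360382 q12270, e3 q12271 L360391 q12271, e3 q12272 L360397 q12272, e3 q12273 L659297 q14478, e3 q12274 L360409 q12274, e3 q12275 L360416 q12275, e3 q12276 (flp_a L360422) q10222, e3 q12277 (flp_a L659323) q14481, e3 q12278 L360436 q12278, e3 q12279 L641116 q10626, e3 q12280 (flp_a L653165) q13933, e3 q12281 L648207 q10736, e3 q12282 (flp_a L653182) q13934, e3 q12283 (flp_a L653197) q13935, e3 q12284 (flp_a L653212) q13936, e3 q12285 (flp_a L653225) q13937, e3 q12286 (flp_a L653237) q13938,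 e3 q12287 (flp_a L648991) q11445, trivial⟩ (by decide +kernel)

theorem ce_a_192 : ∀ r, r < 64 → sm ga (Qf (12288 + r)) = Qf (tab Gen.a (12288 + r)) :=
  edges_tab (sm ga) Qf (tab Gen.a) 12288 [(12288, 13939), (12289, 10252), (12290, 10253), (12291, 10254), (12292, 10255), (12293, 10256), (12294, 10257), (12295, 10258), (12296, 10259), (12297, 10260), (12298, 10261), (12299, 10262), (12300, 10263), (12301, 10264), (12302, 10265), (12303, 10266), (12304, 10267), (12305, 10268), (12306, 10270), (12307, 10271), (12308, 10275), (12309, 10276), (12310, 10277), (12311, 10278), (12312, 10279), (12313, 10280), (12314, 10281), (12315, 10282), (12316, 14538), (12317, 10284), (12318, 10285), (12319, 14498), (12320, 14499), (12321, 14500), (12322, 14501), (12323, 14502), (12324, 14503), (12325, 14504), (12326, 14505), (12327, 14506), (12328, 14507), (12329, 14508), (12330, 14509), (12331, 14510), (12332, 14511), (12333, 14512), (12334, 14513), (12335, 14514), (12336, 14515), (12337, 14573), (12338, 14517), (12339, 14518), (12340, 13907),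 (12341, 14519), (12342, 14520), (12343, 14521), (12344, 14522), (12345, 14523), (12346, 14524), (12347, 14525), (12348, 13911), (12349, 13913), (12350, 14526), (12351, 13909)]
    ⟨e3 q12288 (flp_a L653250) q13939, e3 q12289 L360592 q10252, e3 q12290 L360601 q10253, e3 q12291 L360609 q10254, e3 q12292 L360617 q10255, e3 q12293 L360625 q10256, e3 q12294 L360633 q10257, e3 q12295 L360643 q10258, e3 q12296 L360655 q10259, e3 q12297 L360665 q10260, e3 q12298 L360671 q10261, e3 q12299 L360681 q10262, e3 q12300 L360689 q10263, e3 q12301 L360695 q10264, e3 q12302 L360703 q10265, e3 q12303 L360713 q10266, e3 q12304 L360723 q10267, e3 q12305 L360731 q10268, e3 q12306 L360750 q10270, e3 q12307 L360757 q10271, e3 q12308 L360794 q10275, e3 q12309 L360804 q10276, e3 q12310 L360815 q10277, e3 q12311 L360825 q10278, e3 q12312 L360836 q10279, e3 q12313 L360845 q10280, e3 q12314 L360854 q10281, e3 q12315 L360862 q10282, e3 q12316 L659874 q14538, e3 q12317 L360879 q10284, e3 q12318 L360888 q10285, e3 q12319 (flp_a L659505) q14498, e3 q12320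 (flp_a L659519) q14499, e3 q12321 (flp_a L659528) q14500, e3 q12322 (flp_a L659537) q14501, e3 q12323 (flp_a L659545) q14502, e3 q12324 (flp_a L659553) q14503, e3 q12325 (flp_a L659561) q14504, e3 q12326 (flp_a L659570) q14505, e3 q12327 (flp_a L659577) q14506, e3 q12328 (flp_a L659585) q14507, e3 q12329 (flp_a L659595) q14508, e3 q12330 (flp_a L659607) q14509, e3 q12331 (flp_a L659615) q14510, e3 q12332 (flp_a L659627) q14511, e3 q12333 (flp_a L659633) q14512, e3 q12334 (flp_a L659643) q14513, e3 q12335 (flp_a L659651) q14514, e3 q12336 (flp_a L659659) q14515, e3 q12337 L660153 q14573, e3 q12338 (flp_a L659673) q14517, e3 q12339 (flp_a L659680) q14518, e3 q12340 (flp_a L652807) q13907, e3 q12341 (flp_a L659690) q14519, e3 q12342 (flp_a L659698) q14520, e3 q12343 (flp_a L659704) q14521, e3 q12344 (flp_a L659716) q14522, e3 q12345 (flp_a L659731) q14523, e3 q12346 (flp_a L659739) q14524, e3 q12347 (flp_a L659748) q14525, e3 q12348 (flp_a L652855) q13911, e3 q12349 (flp_a L652878) q13913, e3 q12350 (flp_a L659758) q14526, e3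 q12351 (flp_a L652827) q13909, trivial⟩ (by decide +kernel)

theorem ce_a_193 : ∀ r, r < 64 → sm ga (Qf (12352 + r)) = Qf (tab Gen.a (12352 + r)) :=
  edges_tab (sm ga) Qf (tab Gen.a) 12352 [(12352, 13912), (12353, 13914), (12354, 14527), (12355, 14528), (12356, 14529), (12357, 14530), (12358, 14531), (12359, 14532), (12360, 14533), (12361, 14534), (12362, 14605), (12363, 14536), (12364, 14537), (12365, 10283), (12366, 14608), (12367, 14540), (12368, 12368), (12369, 12369), (12370, 12370), (12371, 14613), (12372, 12372), (12373, 12373), (12374, 12374), (12375, 12375), (12376, 12376), (12377, 10293), (12378, 14619), (12379, 12379), (12380, 10297), (12381, 14621), (12382, 12382), (12383, 12383), (12384, 12384), (12385, 12385), (12386, 10312), (12387, 10313), (12388, 10314), (12389, 10315), (12390, 10318), (12391, 10322), (12392, 11655), (12393, 10531), (12394, 11632), (12395, 14364), (12396, 14365), (12397, 14625), (12398, 14626), (12399, 11338), (12400, 14627), (12401, 14628), (12402, 11481), (12403, 14072), (12404, 14075),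 (12405, 11653), (12406, 11654), (12407, 12407), (12408, 12408), (12409, 12409), (12410, 12410), (12411, 12411), (12412, 11608), (12413, 11610), (12414, 11611), (12415, 10859)]
    ⟨e3 q12352 (flp_a L652865) q13912, e3 q12353 (flp_a L652889) q13914, e3 q12354 (flp_a L659766) q14527, e3 q12355 (flp_a L659777) q14528, e3 q12356 (flp_a L659787) q14529, e3 q12357 (flp_a L659798) q14530, e3 q12358 (flp_a L659807) q14531, e3 q12359 (flp_a L659818) q14532, e3 q12360 (flp_a L659829) q14533, e3 q12361 (flp_a L659839) q14534, e3 q12362 L660434 q14605, e3 q12363 (flp_a L659858) q14536, e3 q12364 (flp_a L659867) q14537, e3 q12365 (flp_a L361231) q10283, e3 q12366 (flp_a L660465) q14608, e3 q12367 (flp_a L659893) q14540, e3 q12368 L361266 q12368, e3 q12369 L361283 q12369, e3 q12370 L361292 q12370, e3 q12371 L660509 q14613, e3 q12372 L361308 q12372, e3 q12373 L361317 q12373, e3 q12374 L361326 q12374, e3 q12375 L361336 q12375, e3 q12376 L361358 q12376, e3 q12377 (flp_a L361363) q10293, e3 q12378 (flp_a L660584) q14619, e3 q12379 L361379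 q12379, e3 q12380 L361388 q10297, e3 q12381 (flp_a L660608) q14621, e3 q12382 L361404 q12382, e3 q12383 L361455 q12383, e3 q12384 L361464 q12384, e3 q12385 L361490 q12385, e3 q12386 L361571 q10312, e3 q12387 L361580 q10313, e3 q12388 L361589 q10314, e3 q12389 L361597 q10315, e3 q12390 L361627 q10318, e3 q12391 L361706 q10322, e3 q12392 (flp_a L648432) q11655, e3 q12393 L533217 q10531, e3 q12394 (flp_a L648430) q11632, e3 q12395 (flp_a L658177) q14364, e3 q12396 (flp_a L658193) q14365, e3 q12397 (flp_a L660654) q14625, e3 q12398 (flp_a L660669) q14626, e3 q12399 L648448 q11338, e3 q12400 (flp_a L660679) q14627, e3 q12401 (flp_a L660694) q14628, e3 q12402 L649383 q11481, e3 q12403 (flp_a L654929) q14072, e3 q12404 (flp_a L654970) q14075, e3 q12405 (flp_a L648436) q11653, e3 q12406 (flp_a L648434) q11654, e3 q12407 L362026 q12407, e3 q12408 L362044 q12408, e3 q12409 L362052 q12409, e3 q12410 L362071 q12410, e3 q12411 L362090 q12411, e3 q12412 (flp_a L648402) q11608, e3 q12413 (flp_a L648350) q11610, e3 q12414 (flp_a L648344)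 q11611, e3 q12415 L502377 q10859, trivial⟩ (by decide +kernel)

theorem ce_a_194 : ∀ r, r < 64 → sm ga (Qf (12416 + r)) = Qf (tab Gen.a (12416 + r)) :=
  edges_tab (sm ga) Qf (tab Gen.a) 12416 [(12416, 10852), (12417, 10860), (12418, 10861), (12419, 10862), (12420, 10358), (12421, 10359), (12422, 10360), (12423, 10361), (12424, 10362), (12425, 10364), (12426, 10365), (12427, 10366), (12428, 10367), (12429, 10368), (12430, 10369), (12431, 10371), (12432, 10372), (12433, 10376), (12434, 10377), (12435, 10379), (12436, 10381), (12437, 11319), (12438, 11316), (12439, 11162), (12440, 11165), (12441, 11147), (12442, 11168), (12443, 11151), (12444, 11152), (12445, 14649), (12446, 14650), (12447, 14651), (12448, 14652), (12449, 14653), (12450, 14654), (12451, 11137), (12452, 14655), (12453, 14656), (12454, 10838), (12455, 11139), (12456, 11140), (12457, 14067), (12458, 14657), (12459, 14658), (12460, 14659), (12461, 14660), (12462, 14661), (12463, 14662), (12464, 14663), (12465, 14070), (12466, 14073), (12467, 14664), (12468, 11467),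 (12469, 14071), (12470, 14074), (12471, 14665), (12472, 11312), (12473, 14666), (12474, 11135), (12475, 11310), (12476, 11313), (12477, 11136), (12478, 11314), (12479, 11606)]
    ⟨e3 q12416 L554310 q10852, e3 q12417 L554447 q10860, e3 q12418 L502347 q10861, e3 q12419 L554443 q10862, e3 q12420 L362352 q10358, e3 q12421 L362362 q10359, e3 q12422 L362372 q10360, e3 q12423 L362383 q10361, e3 q12424 L362389 q10362, e3 q12425 L362410 q10364, e3 q12426 L362417 q10365, e3 q12427 L362426 q10366, e3 q12428 L362434 q10367, e3 q12429 L362445 q10368, e3 q12430 L362452 q10369, e3 q12431 L362468 q10371, e3 q12432 L362475 q10372, e3 q12433 L362509 q10376, e3 q12434 L362521 q10377, e3 q12435 L362541 q10379, e3 q12436 L362562 q10381, e3 q12437 L513196 q11319, e3 q12438 L562229 q11316, e3 q12439 L513188 q11162, e3 q12440 L513121 q11165, e3 q12441 L546910 q11147, e3 q12442 L562109 q11168, e3 q12443 L534695 q11151, e3 q12444 L543039 q11152, e3 q12445 (flp_a L660946) q14649, e3 q12446 (flp_a L660959) q14650, e3 q12447 (flp_a L660969) q14651,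 e3 q12448 (flp_a L660981) q14652, e3 q12449 (flp_a L660993) q14653, e3 q12450 (flp_a L661004) q14654, e3 q12451 L508312 q11137, e3 q12452 (flp_a L661017) q14655, e3 q12453 (flp_a L661029) q14656, e3 q12454 L547032 q10838, e3 q12455 L547327 q11139, e3 q12456 L547018 q11140, e3 q12457 (flp_a L654858) q14067, e3 q12458 (flp_a L661039) q14657, e3 q12459 (flp_a L661050) q14658, e3 q12460 (flp_a L661063) q14659, e3 q12461 (flp_a L661073) q14660, e3 q12462 (flp_a L661082) q14661, e3 q12463 (flp_a L661087) q14662, e3 q12464 (flp_a L661095) q14663, e3 q12465 (flp_a L654900) q14070, e3 q12466 (flp_a L654945) q14073, e3 q12467 (flp_a L661104) q14664, e3 q12468 (flp_a L648616) q11467, e3 q12469 (flp_a L654913) q14071, e3 q12470 (flp_a L654958) q14074, e3 q12471 (flp_a L661112) q14665, e3 q12472 L490506 q11312, e3 q12473 (flp_a L661124) q14666, e3 q12474 L561796 q11135, e3 q12475 L561792 q11310, e3 q12476 L490536 q11313, e3 q12477 L508305 q11136, e3 q12478 L490564 q11314, e3 q12479 L648384 q11606, trivial⟩ (by decide +kernel)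

theorem ce_a_195 : ∀ r, r < 64 → sm ga (Qf (12480 + r)) = Qf (tab Gen.a (12480 + r)) :=
  edges_tab (sm ga) Qf (tab Gen.a) 12480 [(12480, 11138), (12481, 11609), (12482, 12482), (12483, 12483), (12484, 12484), (12485, 12485), (12486, 12486), (12487, 11351), (12488, 12488), (12489, 12489), (12490, 12490), (12491, 12491), (12492, 12492), (12493, 12493), (12494, 11664), (12495, 12495), (12496, 10398), (12497, 14629), (12498, 12498), (12499, 14056), (12500, 14057), (12501, 14058), (12502, 14059), (12503, 14060), (12504, 14061), (12505, 14062), (12506, 14063), (12507, 14064), (12508, 14065), (12509, 14066), (12510, 14068), (12511, 14069), (12512, 10438), (12513, 10439), (12514, 10440), (12515, 10441), (12516, 10442), (12517, 10443), (12518, 10445), (12519, 10446), (12520, 10447), (12521, 10448), (12522, 10449), (12523, 10450), (12524, 10451), (12525, 10452), (12526, 10453), (12527, 10454), (12528, 10455), (12529, 14126), (12530, 10457), (12531, 10458), (12532, 10460), (12533, 10461), (12534, 10462), (12535, 10463), (12536, 10464),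 (12537, 10465), (12538, 10466), (12539, 10469), (12540, 10473), (12541, 10474), (12542, 10475), (12543, 10476)]
    ⟨e3 q12480 L561782 q11138, e3 q12481 (flp_a L648388) q11609, e3 q12482 L362996 q12482, e3 q12483 L363006 q12483, e3 q12484 L363016 q12484, e3 q12485 L363025 q12485, e3 q12486 L363032 q12486, e3 q12487 L615945 q11351, e3 q12488 L363049 q12488, e3 q12489 L363058 q12489, e3 q12490 L363067 q12490, e3 q12491 L363074 q12491, e3 q12492 L363092 q12492, e3 q12493 L363100 q12493, e3 q12494 (flp_a L648879) q11664, e3 q12495 L363123 q12495, e3 q12496 L363132 q10398, e3 q12497 (flp_a L660705) q14629, e3 q12498 L363149 q12498, e3 q12499 (flp_a L654719) q14056, e3 q12500 (flp_a L654735) q14057, e3 q12501 (flp_a L654749) q14058, e3 q12502 (flp_a L654760) q14059, e3 q12503 (flp_a L654775) q14060, e3 q12504 (flp_a L654789) q14061, e3 q12505 (flp_a L654800) q14062, e3 q12506 (flp_a L654811) q14063, e3 q12507 (flp_a L654823) q14064, e3 q12508 (flp_a L654831) q14065, e3 q12509 (flp_a L654844) q14066, e3 q12510 (flp_a L654873) q14068,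 e3 q12511 (flp_a L654884) q14069, e3 q12512 L363410 q10438, e3 q12513 L363419 q10439, e3 q12514 L363429 q10440, e3 q12515 L363439 q10441, e3 q12516 L363449 q10442, e3 q12517 L363457 q10443, e3 q12518 L363477 q10445, e3 q12519 L363485 q10446, e3 q12520 L363494 q10447, e3 q12521 L363503 q10448, e3 q12522 L363513 q10449, e3 q12523 L363521 q10450, e3 q12524 L363531 q10451, e3 q12525 L363538 q10452, e3 q12526 L363549 q10453, e3 q12527 L363557 q10454, e3 q12528 L363565 q10455, e3 q12529 (flp_a L655552) q14126, e3 q12530 L363580 q10457, e3 q12531 L363588 q10458, e3 q12532 L363608 q10460, e3 q12533 L363617 q10461, e3 q12534 L363624 q10462, e3 q12535 L363633 q10463, e3 q12536 L363643 q10464, e3 q12537 L363649 q10465, e3 q12538 L363658 q10466, e3 q12539 L363684 q10469, e3 q12540 L363728 q10473, e3 q12541 L363738 q10474, e3 q12542 L363749 q10475, e3 q12543 L363758 q10476, trivial⟩ (by decide +kernel)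

theorem ce_a_196 : ∀ r, r < 64 → sm ga (Qf (12544 + r)) = Qf (tab Gen.a (12544 + r)) :=
  edges_tab (sm ga) Qf (tab Gen.a) 12544 [(12544, 10477), (12545, 10478), (12546, 10479), (12547, 10480), (12548, 14794), (12549, 10482), (12550, 10436), (12551, 14796), (12552, 14747), (12553, 14748), (12554, 14749), (12555, 14750), (12556, 14751), (12557, 14752), (12558, 14753), (12559, 14754), (12560, 11384), (12561, 14755), (12562, 14756), (12563, 14147), (12564, 11387), (12565, 11291), (12566, 14005), (12567, 14757), (12568, 14758), (12569, 14759), (12570, 14760), (12571, 14761), (12572, 14762), (12573, 14763), (12574, 14764), (12575, 14765), (12576, 14766), (12577, 14767), (12578, 14840), (12579, 14769), (12580, 14770), (12581, 14771), (12582, 14772), (12583, 14773), (12584, 10456), (12585, 14125), (12586, 14849), (12587, 14017), (12588, 14775), (12589, 14776), (12590, 14014), (12591, 14019), (12592, 14777), (12593, 14778), (12594, 14779), (12595, 14780), (12596, 14023), (12597, 14781), (12598, 14782), (12599, 14021), (12600, 14024),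 (12601, 14026), (12602, 14783), (12603, 14022), (12604, 14025), (12605, 14784), (12606, 14785), (12607, 14786)]
    ⟨e3 q12544 L363768 q10477, e3 q12545 L363778 q10478, e3 q12546 L363789 q10479, e3 q12547 L363799 q10480, e3 q12548 L662490 q14794, e3 q12549 L363818 q10482, e3 q12550 (flp_a L363835) q10436, e3 q12551 (flp_a L662516) q14796, e3 q12552 (flp_a L662001) q14747, e3 q12553 (flp_a L662016) q14748, e3 q12554 (flp_a L662027) q14749, e3 q12555 (flp_a L662044) q14750, e3 q12556 (flp_a L662054) q14751, e3 q12557 (flp_a L662066) q14752, e3 q12558 (flp_a L662078) q14753, e3 q12559 (flp_a L662089) q14754, e3 q12560 L512928 q11384, e3 q12561 (flp_a L662101) q14755, e3 q12562 (flp_a L662112) q14756, e3 q12563 (flp_a L655757) q14147, e3 q12564 L512960 q11387, e3 q12565 L512953 q11291, e3 q12566 (flp_a L654109) q14005, e3 q12567 (flp_a L662122) q14757, e3 q12568 (flp_a L662132) q14758, e3 q12569 (flp_a L662145) q14759, e3 q12570 (flp_a L662156) q14760, e3 q12571 (flp_a L662164) q14761, e3 q12572 (flp_a L662174) q14762, e3 q12573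 (flp_a L662186) q14763, e3 q12574 (flp_a L662192) q14764, e3 q12575 (flp_a L662202) q14765, e3 q12576 (flp_a L662215) q14766, e3 q12577 (flp_a L662224) q14767, e3 q12578 L662881 q14840, e3 q12579 (flp_a L662243) q14769, e3 q12580 (flp_a L662254) q14770, e3 q12581 (flp_a L662264) q14771, e3 q12582 (flp_a L662270) q14772, e3 q12583 (flp_a L662280) q14773, e3 q12584 (flp_a L364099) q10456, e3 q12585 (flp_a L655544) q14125, e3 q12586 (flp_a L662942) q14849, e3 q12587 (flp_a L654250) q14017, e3 q12588 (flp_a L662295) q14775, e3 q12589 (flp_a L662305) q14776, e3 q12590 (flp_a L654215) q14014, e3 q12591 (flp_a L654275) q14019, e3 q12592 (flp_a L662318) q14777, e3 q12593 (flp_a L662325) q14778, e3 q12594 (flp_a L662333) q14779, e3 q12595 (flp_a L662343) q14780, e3 q12596 (flp_a L654322) q14023, e3 q12597 (flp_a L662352) q14781, e3 q12598 (flp_a L662359) q14782, e3 q12599 (flp_a L654299) q14021, e3 q12600 (flp_a L654332) q14024, e3 q12601 (flp_a L654355) q14026, e3 q12602 (flp_a L662369) q14783, e3 q12603 (flp_a L654310) q14022, e3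 q12604 (flp_a L654343) q14025, e3 q12605 (flp_a L662375) q14784, e3 q12606 (flp_a L662387) q14785, e3 q12607 (flp_a L662397) q14786, trivial⟩ (by decide +kernel)

theorem ce_a_197 : ∀ r, r < 64 → sm ga (Qf (12608 + r)) = Qf (tab Gen.a (12608 + r)) :=
  edges_tab (sm ga) Qf (tab Gen.a) 12608 [(12608, 14787), (12609, 14788), (12610, 14881), (12611, 14790), (12612, 14791), (12613, 14792), (12614, 11359), (12615, 14888), (12616, 14793), (12617, 11361), (12618, 10481), (12619, 14891), (12620, 11363), (12621, 10485), (12622, 14894), (12623, 11238), (12624, 12624), (12625, 12625), (12626, 12626), (12627, 14901), (12628, 12628), (12629, 12629), (12630, 12630), (12631, 12631), (12632, 10492), (12633, 14904), (12634, 14905), (12635, 12635), (12636, 12636), (12637, 12637), (12638, 12638), (12639, 10497), (12640, 14912), (12641, 12641), (12642, 10501), (12643, 14915), (12644, 12644), (12645, 10504), (12646, 13822), (12647, 12647), (12648, 11317), (12649, 11163), (12650, 11315), (12651, 11160), (12652, 11164), (12653, 11166), (12654,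 11311), (12655, 11134), (12656, 11309), (12657, 11225), (12658, 11133), (12659, 11649), (12660, 12660), (12661, 10546), (12662, 10547), (12663, 10548), (12664, 10549), (12665, 10551), (12666, 10553), (12667, 10565), (12668, 10567), (12669, 10568), (12670, 14931), (12671, 10571)]
    ⟨e3 q12608 (flp_a L662409) q14787, e3 q12609 (flp_a L662419) q14788, e3 q12610 L663207 q14881, e3 q12611 (flp_a L662443) q14790, e3 q12612 (flp_a L662454) q14791, e3 q12613 (flp_a L662466) q14792, e3 q12614 L562425 q11359, e3 q12615 L663277 q14888, e3 q12616 (flp_a L662478) q14793, e3 q12617 L562412 q11361, e3 q12618 (flp_a L364381) q10481, e3 q12619 (flp_a L663313) q14891, e3 q12620 L562435 q11363, e3 q12621 L364410 q10485, e3 q12622 (flp_a L663343) q14894, e3 q12623 L512641 q11238, e3 q12624 L364439 q12624, e3 q12625 L364449 q12625, e3 q12626 L364458 q12626, e3 q12627 L663432 q14901, e3 q12628 L364476 q12628, e3 q12629 L364486 q12629, e3 q12630 L364495 q12630, e3 q12631 L364503 q12631, e3 q12632 (flp_a L364510) q10492, e3 q12633 (flp_a L663470)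 q14904, e3 q12634 (flp_a L663484) q14905, e3 q12635 L364538 q12635, e3 q12636 L364544 q12636, e3 q12637 L364554 q12637, e3 q12638 L364565 q12638, e3 q12639 (flp_a L364573) q10497, e3 q12640 (flp_a L663568) q14912, e3 q12641 L364592 q12641, e3 q12642 L364603 q10501, e3 q12643 (flp_a L663595) q14915, e3 q12644 L364620 q12644, e3 q12645 L364627 q10504, e3 q12646 (flp_a L651609) q13822, e3 q12647 L364647 q12647, e3 q12648 L562224 q11317, e3 q12649 L513217 q11163, e3 q12650 L490107 q11315, e3 q12651 L562211 q11160, e3 q12652 L562101 q11164, e3 q12653 L562086 q11166, e3 q12654 L562249 q11311, e3 q12655 L561818 q11134, e3 q12656 L561811 q11309, e3 q12657 L615952 q11225, e3 q12658 L542814 q11133, e3 q12659 (flp_a L648487) q11649, e3 q12660 L367853 q12660, e3 q12661 L368252 q10546, e3 q12662 L368260 q10547, e3 q12663 L368269 q10548, e3 q12664 L368278 q10549, e3 q12665 L368296 q10551, e3 q12666 L368313 q10553, e3 q12667 L368631 q10565, e3 q12668 L368652 q10567, e3 q12669 L368660 q10568, e3 q12670 L663791 q14931, e3 q12671 L368687 q10571,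 trivial⟩ (by decide +kernel)

theorem ce_a_198 : ∀ r, r < 64 → sm ga (Qf (12672 + r)) = Qf (tab Gen.a (12672 + r)) :=
  edges_tab (sm ga) Qf (tab Gen.a) 12672 [(12672, 10544), (12673, 11325), (12674, 14924), (12675, 14925), (12676, 14926), (12677, 14906), (12678, 11298), (12679, 14927), (12680, 11379), (12681, 11293), (12682, 11282), (12683, 11381), (12684, 11285), (12685, 14949), (12686, 11288), (12687, 10556), (12688, 14951), (12689, 10590), (12690, 11376), (12691, 14954), (12692, 11374), (12693, 11579), (12694, 10563), (12695, 14928), (12696, 14929), (12697, 11366), (12698, 14960), (12699, 14930), (12700, 11367), (12701, 11368), (12702, 11355), (12703, 10570), (12704, 14952), (12705, 14963), (12706, 14933), (12707, 11370), (12708, 11357), (12709, 11358), (12710, 10575), (12711, 14970), (12712, 11360), (12713, 10579), (12714, 14973), (12715, 11233), (12716, 10582), (12717, 14149), (12718, 11237), (12719, 10587), (12720, 10591), (12721, 14976), (12722, 12722), (12723, 12723), (12724, 10595), (12725, 14978), (12726, 12726),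 (12727, 10598), (12728, 13821), (12729, 12729), (12730, 10660), (12731, 10614), (12732, 11672), (12733, 13847), (12734, 13853), (12735, 11675)]
    ⟨e3 q12672 (flp_a L368750) q10544, e3 q12673 L615791 q11325, e3 q12674 (flp_a L663693) q14924, e3 q12675 (flp_a L663708) q14925, e3 q12676 (flp_a L663722) q14926, e3 q12677 (flp_a L663493) q14906, e3 q12678 L646537 q11298, e3 q12679 (flp_a L663735) q14927, e3 q12680 L512924 q11379, e3 q12681 (flp_a L646906) q11293, e3 q12682 L562132 q11282, e3 q12683 L512917 q11381, e3 q12684 L546105 q11285, e3 q12685 L664006 q14949, e3 q12686 L512909 q11288, e3 q12687 (flp_a L368948) q10556, e3 q12688 (flp_a L664032) q14951, e3 q12689 L646485 q10590, e3 q12690 L546171 q11376, e3 q12691 L664074 q14954, e3 q12692 (flp_a L646446) q11374, e3 q12693 (flp_a L648505) q11579, e3 q12694 (flp_a L369142) q10563, e3 q12695 (flp_a L663749) q14928, e3 q12696 (flp_a L663764) q14929, e3 q12697 L562320 q11366, e3 q12698 L664169 q14960, e3 q12699 (flp_a L663778) q14930, e3 q12700 L562327 q11367, e3 q12701 L562323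 q11368, e3 q12702 L562355 q11355, e3 q12703 (flp_a L369376) q10570, e3 q12704 (flp_a L664046) q14952, e3 q12705 (flp_a L664211) q14963, e3 q12706 (flp_a L663822) q14933, e3 q12707 L512809 q11370, e3 q12708 L512837 q11357, e3 q12709 L512801 q11358, e3 q12710 (flp_a L369435) q10575, e3 q12711 (flp_a L664296) q14970, e3 q12712 L562366 q11360, e3 q12713 L369463 q10579, e3 q12714 (flp_a L664331) q14973, e3 q12715 L512652 q11233, e3 q12716 L369485 q10582, e3 q12717 (flp_a L655783) q14149, e3 q12718 L512659 q11237, e3 q12719 (flp_a L369558) q10587, e3 q12720 L369627 q10591, e3 q12721 (flp_a L664361) q14976, e3 q12722 L369690 q12722, e3 q12723 L369698 q12723, e3 q12724 L369705 q10595, e3 q12725 (flp_a L664383) q14978, e3 q12726 L369723 q12726, e3 q12727 L369730 q10598, e3 q12728 (flp_a L651597) q13821, e3 q12729 L369745 q12729, e3 q12730 L621479 q10660, e3 q12731 L621339 q10614, e3 q12732 L648716 q11672, e3 q12733 (flp_a L651919) q13847, e3 q12734 (flp_a L652031) q13853, e3 q12735 (flp_a L648274) q11675, trivial⟩ (by decide +kernel)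

theorem ce_a_199 : ∀ r, r < 64 → sm ga (Qf (12736 + r)) = Qf (tab Gen.a (12736 + r)) :=
  edges_tab (sm ga) Qf (tab Gen.a) 12736 [(12736, 13852), (12737, 13845), (12738, 13846), (12739, 14484), (12740, 10651), (12741, 10949), (12742, 10954), (12743, 10952), (12744, 10917), (12745, 10918), (12746, 10652), (12747, 10653), (12748, 10654), (12749, 10655), (12750, 10656), (12751, 10659), (12752, 10661), (12753, 10662), (12754, 10664), (12755, 10665), (12756, 13886), (12757, 13895), (12758, 13855), (12759, 14981), (12760, 14982), (12761, 13882), (12762, 14986), (12763, 14987), (12764, 14223), (12765, 14988), (12766, 14225), (12767, 14226), (12768, 14989), (12769, 14980), (12770, 13881), (12771, 14990), (12772, 14280), (12773, 13883), (12774, 10669), (12775, 15008), (12776, 10713), (12777, 10715), (12778, 11063), (12779, 11620), (12780, 10709), (12781, 11081), (12782, 11072), (12783, 11082), (12784, 11075), (12785, 11078), (12786, 11080), (12787, 11463), (12788, 11455), (12789, 11459), (12790, 11033), (12791, 11012), (12792, 11008),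 (12793, 11014), (12794, 11013), (12795, 10714), (12796, 10716), (12797, 10717), (12798, 10719), (12799, 10720)]
    ⟨e3 q12736 (flp_a L652013) q13852, e3 q12737 (flp_a L651883) q13845, e3 q12738 (flp_a L651901) q13846, e3 q12739 (flp_a L659353) q14484, e3 q12740 L621535 q10651, e3 q12741 L521713 q10949, e3 q12742 L592028 q10954, e3 q12743 L549794 q10952, e3 q12744 (flp_a L553477) q10917, e3 q12745 (flp_a L576386) q10918, e3 q12746 L374435 q10652, e3 q12747 L374441 q10653, e3 q12748 L374472 q10654, e3 q12749 L374481 q10655, e3 q12750 L374490 q10656, e3 q12751 L374538 q10659, e3 q12752 L374557 q10661, e3 q12753 L374565 q10662, e3 q12754 L374581 q10664, e3 q12755 L374591 q10665, e3 q12756 (flp_a L652538) q13886, e3 q12757 (flp_a L652650) q13895, e3 q12758 (flp_a L652068) q13855, e3 q12759 (flp_a L664416) q14981, e3 q12760 (flp_a L664430) q14982, e3 q12761 (flp_a L652483) q13882, e3 q12762 (flp_a L664487) q14986, e3 q12763 (flp_a L664501) q14987, e3 q12764 (flp_a L656611) q14223, e3 q12765 (flp_a L664509) q14988, e3 q12766 (flp_a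 L656637) q14225, e3 q12767 (flp_a L656647) q14226, e3 q12768 (flp_a L664524) q14989, e3 q12769 (flp_a L664400) q14980, e3 q12770 (flp_a L652470) q13881, e3 q12771 (flp_a L664540) q14990, e3 q12772 (flp_a L657271) q14280, e3 q12773 (flp_a L652497) q13883, e3 q12774 (flp_a L374982) q10669, e3 q12775 (flp_a L664738) q15008, e3 q12776 L611660 q10713, e3 q12777 L611648 q10715, e3 q12778 L576774 q11063, e3 q12779 (flp_a L648216) q11620, e3 q12780 L611670 q10709, e3 q12781 L567734 q11081, e3 q12782 L521718 q11072, e3 q12783 L576047 q11082, e3 q12784 L521682 q11075, e3 q12785 L521708 q11078, e3 q12786 L568102 q11080, e3 q12787 L648732 q11463, e3 q12788 (flp_a L648424) q11455, e3 q12789 (flp_a L648789) q11459, e3 q12790 L376190 q11033, e3 q12791 L552229 q11012, e3 q12792 L552237 q11008, e3 q12793 (flp_a L576400) q11014, e3 q12794 (flp_a L576393) q11013, e3 q12795 L376389 q10714, e3 q12796 L376409 q10716, e3 q12797 L376415 q10717, e3 q12798 L376431 q10719, e3 q12799 L376437 q10720, trivial⟩ (by decide +kernel)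

theorem ce_a_200 : ∀ r, r < 64 → sm ga (Qf (12800 + r)) = Qf (tab Gen.a (12800 + r)) :=
  edges_tab (sm ga) Qf (tab Gen.a) 12800 [(12800, 10721), (12801, 10722), (12802, 10723), (12803, 10725), (12804, 10728), (12805, 10729), (12806, 10730), (12807, 10731), (12808, 10732), (12809, 10733), (12810, 10735), (12811, 10738), (12812, 13993), (12813, 13974), (12814, 13995), (12815, 13978), (12816, 13979), (12817, 13896), (12818, 15009), (12819, 15024), (12820, 15025), (12821, 15010), (12822, 15011), (12823, 13964), (12824, 15026), (12825, 15027), (12826, 14488), (12827, 13966), (12828, 13967), (12829, 14389), (12830, 15028), (12831, 15029), (12832, 15030), (12833, 15031), (12834, 14388), (12835, 14390), (12836, 14391), (12837, 14392), (12838, 15032), (12839, 15033), (12840, 15034), (12841, 13962), (12842, 11560), (12843, 15035), (12844, 13963), (12845, 15036), (12846, 14487), (12847, 13965), (12848, 15037), (12849, 14489), (12850, 13900), (12851, 12851), (12852, 12852), (12853, 15084), (12854, 12854), (12855, 12855), (12856, 15086),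 (12857, 12857), (12858, 10747), (12859, 15088), (12860, 12860), (12861, 10751), (12862, 15090), (12863, 12863)]
    ⟨e3 q12800 L376454 q10721, e3 q12801 L376464 q10722, e3 q12802 L376473 q10723, e3 q12803 L376493 q10725, e3 q12804 L376536 q10728, e3 q12805 L376543 q10729, e3 q12806 L376554 q10730, e3 q12807 L376561 q10731, e3 q12808 L376570 q10732, e3 q12809 L376578 q10733, e3 q12810 L376594 q10735, e3 q12811 L376615 q10738, e3 q12812 (flp_a L653937) q13993, e3 q12813 (flp_a L653729) q13974, e3 q12814 (flp_a L653971) q13995, e3 q12815 (flp_a L653785) q13978, e3 q12816 (flp_a L653801) q13979, e3 q12817 (flp_a L652668) q13896, e3 q12818 (flp_a L664752) q15009, e3 q12819 (flp_a L664928) q15024, e3 q12820 (flp_a L664934) q15025, e3 q12821 (flp_a L664766) q15010, e3 q12822 (flp_a L664780) q15011, e3 q12823 (flp_a L653607) q13964, e3 q12824 (flp_a L664946) q15026, e3 q12825 (flp_a L664960) q15027, e3 q12826 (flp_a L659402) q14488, e3 q12827 (flp_a L653630) q13966, e3 q12828 (flp_a L653641) q13967, e3 q12829 (flp_a L658463) q14389,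 e3 q12830 (flp_a L664968) q15028, e3 q12831 (flp_a L664978) q15029, e3 q12832 (flp_a L664984) q15030, e3 q12833 (flp_a L664997) q15031, e3 q12834 (flp_a L658452) q14388, e3 q12835 (flp_a L658471) q14390, e3 q12836 (flp_a L658484) q14391, e3 q12837 (flp_a L658495) q14392, e3 q12838 (flp_a L665012) q15032, e3 q12839 (flp_a L665027) q15033, e3 q12840 (flp_a L665042) q15034, e3 q12841 (flp_a L653582) q13962, e3 q12842 (flp_a L648278) q11560, e3 q12843 (flp_a L665055) q15035, e3 q12844 (flp_a L653596) q13963, e3 q12845 (flp_a L665068) q15036, e3 q12846 (flp_a L659391) q14487, e3 q12847 (flp_a L653619) q13965, e3 q12848 (flp_a L665082) q15037, e3 q12849 (flp_a L659414) q14489, e3 q12850 (flp_a L652724) q13900, e3 q12851 L377007 q12851, e3 q12852 L377033 q12852, e3 q12853 L665518 q15084, e3 q12854 L377054 q12854, e3 q12855 L377063 q12855, e3 q12856 L665545 q15086, e3 q12857 L377083 q12857, e3 q12858 (flp_a L377097) q10747, e3 q12859 (flp_a L665564) q15088, e3 q12860 L377116 q12860, e3 q12861 L377124 q10751, e3 q12862 (flp_a L665585)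 q15090, e3 q12863 L377137 q12863, trivial⟩ (by decide +kernel)

theorem ce_a_201 : ∀ r, r < 64 → sm ga (Qf (12864 + r)) = Qf (tab Gen.a (12864 + r)) :=
  edges_tab (sm ga) Qf (tab Gen.a) 12864 [(12864, 15093), (12865, 12865), (12866, 12866), (12867, 10755), (12868, 15096), (12869, 12869), (12870, 10832), (12871, 10831), (12872, 11638), (12873, 11603), (12874, 11234), (12875, 11639), (12876, 11240), (12877, 11644), (12878, 11266), (12879, 11254), (12880, 11269), (12881, 11249), (12882, 11267), (12883, 11252), (12884, 11255), (12885, 15117), (12886, 11261), (12887, 11265), (12888, 11561), (12889, 11542), (12890, 11546), (12891, 11534), (12892, 11537), (12893, 15126), (12894, 11543), (12895, 11547), (12896, 10779), (12897, 15129), (12898, 11555), (12899, 15132), (12900, 12900), (12901, 12901), (12902, 15135), (12903, 12903), (12904, 12904), (12905, 10787), (12906, 15138), (12907, 12907), (12908, 10791), (12909, 15141), (12910, 12910), (12911, 11190), (12912, 11192), (12913, 11193), (12914, 11194), (12915, 11157), (12916, 11155),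 (12917, 11148), (12918, 11158), (12919, 11153), (12920, 11156), (12921, 10833), (12922, 10834), (12923, 10835), (12924, 10836), (12925, 10837), (12926, 10839), (12927, 10840)]
    ⟨e3 q12864 L665619 q15093, e3 q12865 L377822 q12865, e3 q12866 L377832 q12866, e3 q12867 (flp_a L377839) q10755, e3 q12868 (flp_a L665653) q15096, e3 q12869 L377859 q12869, e3 q12870 L615160 q10832, e3 q12871 L615087 q10831, e3 q12872 L648469 q11638, e3 q12873 (flp_a L648457) q11603, e3 q12874 L534178 q11234, e3 q12875 (flp_a L648459) q11639, e3 q12876 L534107 q11240, e3 q12877 (flp_a L648272) q11644, e3 q12878 L575926 q11266, e3 q12879 L534203 q11254, e3 q12880 L575882 q11269, e3 q12881 L575938 q11249, e3 q12882 L474656 q11267, e3 q12883 L534705 q11252, e3 q12884 L575894 q11255, e3 q12885 L665889 q15117, e3 q12886 L507857 q11261, e3 q12887 L507882 q11265, e3 q12888 (flp_a L648724) q11561, e3 q12889 L648525 q11542, e3 q12890 L648728 q11546, e3 q12891 L648404 q11534, e3 q12892 L648408 q11537, e3 q12893 L665985 q15126, e3 q12894 L648527 q11543, e3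 q12895 L648374 q11547, e3 q12896 (flp_a L378727) q10779, e3 q12897 (flp_a L666019) q15129, e3 q12898 L648370 q11555, e3 q12899 L666046 q15132, e3 q12900 L378803 q12900, e3 q12901 L378817 q12901, e3 q12902 L666072 q15135, e3 q12903 L378833 q12903, e3 q12904 L378843 q12904, e3 q12905 (flp_a L378850) q10787, e3 q12906 (flp_a L666103) q15138, e3 q12907 L378868 q12907, e3 q12908 L378876 q10791, e3 q12909 (flp_a L666133) q15141, e3 q12910 L378890 q12910, e3 q12911 L378919 q11190, e3 q12912 L378938 q11192, e3 q12913 L378957 q11193, e3 q12914 L378966 q11194, e3 q12915 (flp_a L552170) q11157, e3 q12916 (flp_a L554149) q11155, e3 q12917 L534701 q11148, e3 q12918 L534260 q11158, e3 q12919 (flp_a L547354) q11153, e3 q12920 L554126 q11156, e3 q12921 L379223 q10833, e3 q12922 L379230 q10834, e3 q12923 L379240 q10835, e3 q12924 L379248 q10836, e3 q12925 L379257 q10837, e3 q12926 L379274 q10839, e3 q12927 L379281 q10840, trivial⟩ (by decide +kernel)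

theorem ce_a_202 : ∀ r, r < 64 → sm ga (Qf (12928 + r)) = Qf (tab Gen.a (12928 + r)) :=
  edges_tab (sm ga) Qf (tab Gen.a) 12928 [(12928, 10841), (12929, 10842), (12930, 10843), (12931, 10844), (12932, 10845), (12933, 10846), (12934, 10847), (12935, 10848), (12936, 14817), (12937, 10850), (12938, 10851), (12939, 10853), (12940, 10854), (12941, 10855), (12942, 10856), (12943, 10857), (12944, 10858), (12945, 10863), (12946, 10864), (12947, 10865), (12948, 10866), (12949, 10867), (12950, 10868), (12951, 10869), (12952, 10870), (12953, 15196), (12954, 10872), (12955, 10873), (12956, 10828), (12957, 15199), (12958, 10876), (12959, 15100), (12960, 13998), (12961, 15099), (12962, 15153), (12963, 15154), (12964, 15155), (12965, 15156), (12966, 15157), (12967, 14688), (12968, 15158), (12969, 14850), (12970, 14016), (12971, 15159), (12972, 11150), (12973, 14694), (12974, 15160), (12975, 15161), (12976, 15162), (12977, 15163), (12978, 15164), (12979, 15165), (12980, 15166), (12981, 15167), (12982, 15168), (12983, 15169), (12984, 15242),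 (12985, 15171), (12986, 15172), (12987, 15173), (12988, 15174), (12989, 15175), (12990, 10849), (12991, 15251)]
    ⟨e3 q12928 L379288 q10841, e3 q12929 L379298 q10842, e3 q12930 L379304 q10843, e3 q12931 L379312 q10844, e3 q12932 L379319 q10845, e3 q12933 L379330 q10846, e3 q12934 L379338 q10847, e3 q12935 L379346 q10848, e3 q12936 (flp_a L662702) q14817, e3 q12937 L379359 q10850, e3 q12938 L379367 q10851, e3 q12939 L379383 q10853, e3 q12940 L379392 q10854, e3 q12941 L379397 q10855, e3 q12942 L379407 q10856, e3 q12943 L379417 q10857, e3 q12944 L379424 q10858, e3 q12945 L379503 q10863, e3 q12946 L379511 q10864, e3 q12947 L379521 q10865, e3 q12948 L379530 q10866, e3 q12949 L379537 q10867, e3 q12950 L379544 q10868, e3 q12951 L379553 q10869, e3 q12952 L379562 q10870, e3 q12953 L666689 q15196, e3 q12954 L379580 q10872, e3 q12955 L379589 q10873, e3 q12956 (flp_a L379596) q10828, e3 q12957 (flp_a L666718) q15199, e3 q12958 L379613 q10876, e3 q12959 (flp_a L665697) q15100, e3 q12960 (flp_a L654024) q13998, e3 q12961 (flp_a L665684)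 q15099, e3 q12962 (flp_a L666271) q15153, e3 q12963 (flp_a L666279) q15154, e3 q12964 (flp_a L666288) q15155, e3 q12965 (flp_a L666301) q15156, e3 q12966 (flp_a L666315) q15157, e3 q12967 (flp_a L661361) q14688, e3 q12968 (flp_a L666324) q15158, e3 q12969 (flp_a L662951) q14850, e3 q12970 L654244 q14016, e3 q12971 (flp_a L666332) q15159, e3 q12972 L542370 q11150, e3 q12973 (flp_a L661411) q14694, e3 q12974 (flp_a L666340) q15160, e3 q12975 (flp_a L666349) q15161, e3 q12976 (flp_a L666358) q15162, e3 q12977 (flp_a L666366) q15163, e3 q12978 (flp_a L666378) q15164, e3 q12979 (flp_a L666386) q15165, e3 q12980 (flp_a L666390) q15166, e3 q12981 (flp_a L666398) q15167, e3 q12982 (flp_a L666407) q15168, e3 q12983 (flp_a L666420) q15169, e3 q12984 L667098 q15242, e3 q12985 (flp_a L666435) q15171, e3 q12986 (flp_a L666444) q15172, e3 q12987 (flp_a L666454) q15173, e3 q12988 (flp_a L666462) q15174, e3 q12989 (flp_a L666474) q15175, e3 q12990 (flp_a L379875) q10849, e3 q12991 (flp_a L667171) q15251, trivial⟩ (by decide +kernel)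

theorem ce_a_203 : ∀ r, r < 64 → sm ga (Qf (12992 + r)) = Qf (tab Gen.a (12992 + r)) :=
  edges_tab (sm ga) Qf (tab Gen.a) 12992 [(12992, 15252), (12993, 14646), (12994, 15177), (12995, 15178), (12996, 14644), (12997, 14647), (12998, 15179), (12999, 15180), (13000, 15181), (13001, 14642), (13002, 15182), (13003, 14643), (13004, 14645), (13005, 14648), (13006, 15183), (13007, 15184), (13008, 15185), (13009, 15186), (13010, 15187), (13011, 15274), (13012, 15189), (13013, 15190), (13014, 15191), (13015, 15192), (13016, 15281), (13017, 15194), (13018, 15195), (13019, 10871), (13020, 15284), (13021, 15198), (13022, 10875), (13023, 15287), (13024, 15201), (13025, 13025), (13026, 14938), (13027, 13027), (13028, 13028), (13029, 13029), (13030, 13030), (13031, 10882), (13032, 14935), (13033, 15295), (13034, 13034), (13035, 13035), (13036, 13036), (13037, 13037), (13038, 10887), (13039, 15301), (13040, 13040), (13041, 10891), (13042, 15303), (13043, 13043), (13044, 10894), (13045, 13823), (13046, 13046), (13047, 10909), (13048, 10911),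 (13049, 10912), (13050, 10913), (13051, 10916), (13052, 10919), (13053, 10920), (13054, 10921), (13055, 10922)]
    ⟨e3 q12992 (flp_a L667185) q15252, e3 q12993 (flp_a L660909) q14646, e3 q12994 (flp_a L666491) q15177, e3 q12995 (flp_a L666501) q15178, e3 q12996 (flp_a L660886) q14644, e3 q12997 (flp_a L660923) q14647, e3 q12998 (flp_a L666508) q15179, e3 q12999 (flp_a L666519) q15180, e3 q13000 (flp_a L666532) q15181, e3 q13001 (flp_a L660863) q14642, e3 q13002 (flp_a L666546) q15182, e3 q13003 (flp_a L660874) q14643, e3 q13004 (flp_a L660896) q14645, e3 q13005 (flp_a L660934) q14648, e3 q13006 (flp_a L666557) q15183, e3 q13007 (flp_a L666570) q15184, e3 q13008 (flp_a L666580) q15185, e3 q13009 (flp_a L666589) q15186, e3 q13010 (flp_a L666602) q15187, e3 q13011 L667367 q15274, e3 q13012 (flp_a L666621) q15189, e3 q13013 (flp_a L666631) q15190, e3 q13014 (flp_a L666639) q15191, e3 q13015 (flp_a L666651) q15192, e3 q13016 L667415 q15281, e3 q13017 (flp_a L666669) q15194, e3 q13018 (flp_a L666679) q15195, e3 q13019 (flp_a L380165)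 q10871, e3 q13020 (flp_a L667445) q15284, e3 q13021 (flp_a L666708) q15198, e3 q13022 L380192 q10875, e3 q13023 (flp_a L667469) q15287, e3 q13024 (flp_a L666739) q15201, e3 q13025 L380228 q13025, e3 q13026 (flp_a L663876) q14938, e3 q13027 L380245 q13027, e3 q13028 L380254 q13028, e3 q13029 L380265 q13029, e3 q13030 L380273 q13030, e3 q13031 (flp_a L380279) q10882, e3 q13032 (flp_a L663851) q14935, e3 q13033 (flp_a L667541) q15295, e3 q13034 L380303 q13034, e3 q13035 L380309 q13035, e3 q13036 L380317 q13036, e3 q13037 L380325 q13037, e3 q13038 (flp_a L380330) q10887, e3 q13039 (flp_a L667601) q15301, e3 q13040 L380352 q13040, e3 q13041 L380362 q10891, e3 q13042 (flp_a L667623) q15303, e3 q13043 L380380 q13043, e3 q13044 L380388 q10894, e3 q13045 (flp_a L651623) q13823, e3 q13046 L380404 q13046, e3 q13047 L380519 q10909, e3 q13048 L380549 q10911, e3 q13049 L380559 q10912, e3 q13050 L380565 q10913, e3 q13051 L380598 q10916, e3 q13052 L380699 q10919, e3 q13053 L380710 q10920, e3 q13054 L380718 q10921, e3 q13055 L380728 q10922,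 trivial⟩ (by decide +kernel)

theorem ce_a_204 : ∀ r, r < 64 → sm ga (Qf (13056 + r)) = Qf (tab Gen.a (13056 + r)) :=
  edges_tab (sm ga) Qf (tab Gen.a) 13056 [(13056, 15305), (13057, 15306), (13058, 15307), (13059, 15308), (13060, 15309), (13061, 14984), (13062, 15310), (13063, 11617), (13064, 11612), (13065, 14985), (13066, 15312), (13067, 15313), (13068, 10941), (13069, 10942), (13070, 10944), (13071, 10945), (13072, 10946), (13073, 10947), (13074, 10948), (13075, 10950), (13076, 10951), (13077, 10957), (13078, 10958), (13079, 10959), (13080, 10960), (13081, 10962), (13082, 10964), (13083, 10966), (13084, 10967), (13085, 15322), (13086, 15323), (13087, 14384), (13088, 14385), (13089, 15324), (13090, 15325), (13091, 15326), (13092, 13887), (13093, 15327), (13094, 15344), (13095, 13884), (13096, 15328), (13097, 13859), (13098, 14983), (13099, 15329), (13100, 13858), (13101, 13860), (13102, 13861), (13103, 13863), (13104, 15330), (13105, 13804), (13106, 13889), (13107, 13798), (13108, 15331), (13109, 13805), (13110, 14261),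 (13111, 13890), (13112, 15332), (13113, 10965), (13114, 15360), (13115, 15333), (13116, 13116), (13117, 13117), (13118, 13118), (13119, 14359)]
    ⟨e3 q13056 (flp_a L667645) q15305, e3 q13057 (flp_a L667659) q15306, e3 q13058 (flp_a L667674) q15307, e3 q13059 (flp_a L667688) q15308, e3 q13060 (flp_a L667704) q15309, e3 q13061 (flp_a L664458) q14984, e3 q13062 (flp_a L667712) q15310, e3 q13063 L648358 q11617, e3 q13064 (flp_a L648763) q11612, e3 q13065 (flp_a L664472) q14985, e3 q13066 (flp_a L667727) q15312, e3 q13067 (flp_a L667736) q15313, e3 q13068 L381325 q10941, e3 q13069 L381333 q10942, e3 q13070 L381351 q10944, e3 q13071 L381360 q10945, e3 q13072 L381372 q10946, e3 q13073 L381378 q10947, e3 q13074 L381388 q10948, e3 q13075 L381404 q10950, e3 q13076 L381425 q10951, e3 q13077 L381523 q10957, e3 q13078 L381532 q10958, e3 q13079 L381542 q10959, e3 q13080 L381550 q10960, e3 q13081 L381570 q10962, e3 q13082 L381590 q10964, e3 q13083 L381609 q10966, e3 q13084 L381619 q10967, e3 q13085 (flp_a L667805) q15322, e3 q13086 (flp_a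 L667814) q15323, e3 q13087 (flp_a L658398) q14384, e3 q13088 (flp_a L658413) q14385, e3 q13089 (flp_a L667822) q15324, e3 q13090 (flp_a L667828) q15325, e3 q13091 (flp_a L667837) q15326, e3 q13092 (flp_a L652556) q13887, e3 q13093 (flp_a L667853) q15327, e3 q13094 L667979 q15344, e3 q13095 (flp_a L652510) q13884, e3 q13096 (flp_a L667861) q15328, e3 q13097 (flp_a L652134) q13859, e3 q13098 (flp_a L664446) q14983, e3 q13099 (flp_a L667871) q15329, e3 q13100 (flp_a L652120) q13858, e3 q13101 (flp_a L652144) q13860, e3 q13102 (flp_a L652160) q13861, e3 q13103 (flp_a L652186) q13863, e3 q13104 (flp_a L667877) q15330, e3 q13105 (flp_a L651372) q13804, e3 q13106 (flp_a L652580) q13889, e3 q13107 (flp_a L651287) q13798, e3 q13108 (flp_a L667887) q15331, e3 q13109 (flp_a L651386) q13805, e3 q13110 (flp_a L657039) q14261, e3 q13111 (flp_a L652593) q13890, e3 q13112 (flp_a L667896) q15332, e3 q13113 (flp_a L381990) q10965, e3 q13114 (flp_a L668114) q15360, e3 q13115 (flp_a L667906) q15333, e3 q13116 L382044 q13116, e3 q13117 L382082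 q13117, e3 q13118 L382090 q13118, e3 q13119 (flp_a L658123) q14359, trivial⟩ (by decide +kernel)

theorem ce_a_205 : ∀ r, r < 64 → sm ga (Qf (13120 + r)) = Qf (tab Gen.a (13120 + r)) :=
  edges_tab (sm ga) Qf (tab Gen.a) 13120 [(13120, 13120), (13121, 10974), (13122, 15365), (13123, 13123), (13124, 10978), (13125, 15367), (13126, 11058), (13127, 10998), (13128, 10999), (13129, 11000), (13130, 11001), (13131, 11002), (13132, 11003), (13133, 11004), (13134, 11005), (13135, 11006), (13136, 11007), (13137, 11009), (13138, 11011), (13139, 11015), (13140, 11016), (13141, 11017), (13142, 11018), (13143, 11019), (13144, 11020), (13145, 11021), (13146, 15387), (13147, 11023), (13148, 11024), (13149, 15368), (13150, 15369), (13151, 15370), (13152, 14574), (13153, 13977), (13154, 15371), (13155, 14485), (13156, 15372), (13157, 15373), (13158, 15374), (13159, 15375), (13160, 15376), (13161, 15377), (13162, 15021), (13163, 15378), (13164, 15409), (13165, 14552), (13166, 15379), (13167, 15023), (13168, 15380), (13169, 11616), (13170, 15020),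 (13171, 15022), (13172, 15381), (13173, 15382), (13174, 14920), (13175, 15383), (13176, 15385), (13177, 15386), (13178, 11022), (13179, 15421), (13180, 15389), (13181, 13181), (13182, 13182), (13183, 11030)]
    ⟨e3 q13120 L382105 q13120, e3 q13121 (flp_a L382124) q10974, e3 q13122 (flp_a L668162) q15365, e3 q13123 L382142 q13123, e3 q13124 L382152 q10978, e3 q13125 (flp_a L668180) q15367, e3 q13126 L622127 q11058, e3 q13127 L382333 q10998, e3 q13128 L382353 q10999, e3 q13129 L382362 q11000, e3 q13130 L382368 q11001, e3 q13131 L382377 q11002, e3 q13132 L382389 q11003, e3 q13133 L382399 q11004, e3 q13134 L382409 q11005, e3 q13135 L382415 q11006, e3 q13136 L382427 q11007, e3 q13137 L382439 q11009, e3 q13138 L382456 q11011, e3 q13139 L382542 q11015, e3 q13140 L382552 q11016, e3 q13141 L382563 q11017, e3 q13142 L382571 q11018, e3 q13143 L382591 q11019, e3 q13144 L382602 q11020, e3 q13145 L382610 q11021, e3 q13146 L668384 q15387, e3 q13147 L382625 q11023, e3 q13148 L382632 q11024, e3 q13149 (flp_a L668190) q15368, e3 q13150 (flp_a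 L668203) q15369, e3 q13151 (flp_a L668217) q15370, e3 q13152 (flp_a L660167) q14574, e3 q13153 (flp_a L653777) q13977, e3 q13154 (flp_a L668232) q15371, e3 q13155 (flp_a L659368) q14485, e3 q13156 (flp_a L668238) q15372, e3 q13157 (flp_a L668252) q15373, e3 q13158 (flp_a L668258) q15374, e3 q13159 (flp_a L668270) q15375, e3 q13160 (flp_a L668284) q15376, e3 q13161 (flp_a L668300) q15377, e3 q13162 (flp_a L664889) q15021, e3 q13163 (flp_a L668308) q15378, e3 q13164 L668532 q15409, e3 q13165 L659999 q14552, e3 q13166 (flp_a L668316) q15379, e3 q13167 (flp_a L664918) q15023, e3 q13168 (flp_a L668324) q15380, e3 q13169 L648642 q11616, e3 q13170 (flp_a L664876) q15020, e3 q13171 (flp_a L664903) q15022, e3 q13172 (flp_a L668330) q15381, e3 q13173 (flp_a L668343) q15382, e3 q13174 (flp_a L663645) q14920, e3 q13175 (flp_a L668350) q15383, e3 q13176 (flp_a L668366) q15385, e3 q13177 (flp_a L668375) q15386, e3 q13178 (flp_a L382973) q11022, e3 q13179 (flp_a L668615) q15421, e3 q13180 (flp_a L668399) q15389, e3 q13181 L383054 q13181,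 e3 q13182 L383062 q13182, e3 q13183 L383116 q11030, trivial⟩ (by decide +kernel)

theorem ce_a_206 : ∀ r, r < 64 → sm ga (Qf (13184 + r)) = Qf (tab Gen.a (13184 + r)) :=
  edges_tab (sm ga) Qf (tab Gen.a) 13184 [(13184, 15425), (13185, 13185), (13186, 13996), (13187, 11057), (13188, 11059), (13189, 11060), (13190, 11061), (13191, 11062), (13192, 11064), (13193, 11065), (13194, 11066), (13195, 11067), (13196, 11068), (13197, 11069), (13198, 11070), (13199, 11071), (13200, 11073), (13201, 15444), (13202, 11076), (13203, 11079), (13204, 11087), (13205, 11088), (13206, 11089), (13207, 11090), (13208, 11091), (13209, 11092), (13210, 11094), (13211, 11096), (13212, 11097), (13213, 11054), (13214, 15455), (13215, 11100), (13216, 14386), (13217, 15428), (13218, 15429), (13219, 15430), (13220, 15431), (13221, 14495), (13222, 15012), (13223, 15433), (13224, 13899), (13225, 15013), (13226, 15434), (13227, 15435), (13228, 15436), (13229, 15437), (13230, 15438), (13231, 15439), (13232, 15440), (13233, 13975), (13234, 15441), (13235, 15485),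 (13236, 13972), (13237, 15442), (13238, 15014), (13239, 15016), (13240, 15443), (13241, 11074), (13242, 15494), (13243, 15495), (13244, 13906), (13245, 15017), (13246, 15446), (13247, 13904)]
    ⟨e3 q13184 (flp_a L668642) q15425, e3 q13185 L383128 q13185, e3 q13186 (flp_a L653987) q13996, e3 q13187 L383386 q11057, e3 q13188 L383404 q11059, e3 q13189 L383420 q11060, e3 q13190 L383428 q11061, e3 q13191 L383437 q11062, e3 q13192 L383452 q11064, e3 q13193 L383458 q11065, e3 q13194 L383466 q11066, e3 q13195 L383478 q11067, e3 q13196 L383484 q11068, e3 q13197 L383494 q11069, e3 q13198 L383500 q11070, e3 q13199 L383510 q11071, e3 q13200 L383526 q11073, e3 q13201 L668785 q15444, e3 q13202 L383546 q11076, e3 q13203 L383568 q11079, e3 q13204 L383694 q11087, e3 q13205 L383703 q11088, e3 q13206 L383713 q11089, e3 q13207 L383724 q11090, e3 q13208 L383731 q11091, e3 q13209 L383741 q11092, e3 q13210 L383759 q11094, e3 q13211 L383778 q11096, e3 q13212 L383788 q11097, e3 q13213 (flp_a L383796) q11054, e3 q13214 (flp_a L668881) q15455, e3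 q13215 L383813 q11100, e3 q13216 (flp_a L658426) q14386, e3 q13217 (flp_a L668661) q15428, e3 q13218 (flp_a L668669) q15429, e3 q13219 (flp_a L668676) q15430, e3 q13220 (flp_a L668685) q15431, e3 q13221 (flp_a L659473) q14495, e3 q13222 (flp_a L664796) q15012, e3 q13223 (flp_a L668698) q15433, e3 q13224 (flp_a L652714) q13899, e3 q13225 (flp_a L664804) q15013, e3 q13226 (flp_a L668705) q15434, e3 q13227 (flp_a L668711) q15435, e3 q13228 (flp_a L668721) q15436, e3 q13229 (flp_a L668729) q15437, e3 q13230 (flp_a L668741) q15438, e3 q13231 (flp_a L668749) q15439, e3 q13232 (flp_a L668755) q15440, e3 q13233 (flp_a L653745) q13975, e3 q13234 (flp_a L668763) q15441, e3 q13235 L669065 q15485, e3 q13236 (flp_a L653701) q13972, e3 q13237 (flp_a L668771) q15442, e3 q13238 (flp_a L664814) q15014, e3 q13239 (flp_a L664836) q15016, e3 q13240 (flp_a L668781) q15443, e3 q13241 (flp_a L384021) q11074, e3 q13242 (flp_a L669129) q15494, e3 q13243 (flp_a L669135) q15495, e3 q13244 (flp_a L652799) q13906, e3 q13245 (flp_a L664848) q15017, e3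 q13246 (flp_a L668799) q15446, e3 q13247 (flp_a L652777) q13904, trivial⟩ (by decide +kernel)

theorem ce_a_207 : ∀ r, r < 64 → sm ga (Qf (13248 + r)) = Qf (tab Gen.a (13248 + r)) :=
  edges_tab (sm ga) Qf (tab Gen.a) 13248 [(13248, 13908), (13249, 15018), (13250, 13902), (13251, 15015), (13252, 13903), (13253, 13905), (13254, 13910), (13255, 15447), (13256, 15448), (13257, 13983), (13258, 13818), (13259, 15449), (13260, 15515), (13261, 14155), (13262, 15450), (13263, 15451), (13264, 15452), (13265, 14449), (13266, 13984), (13267, 15453), (13268, 11095), (13269, 15524), (13270, 15454), (13271, 11099), (13272, 15527), (13273, 15457), (13274, 13274), (13275, 15531), (13276, 13276), (13277, 13277), (13278, 13278), (13279, 13279), (13280, 11106), (13281, 15536), (13282, 15537), (13283, 13283), (13284, 13284), (13285, 13285), (13286, 13286), (13287, 11111), (13288, 15543), (13289, 13289), (13290, 11115), (13291, 15545), (13292, 13292), (13293, 11118), (13294, 15548), (13295, 13295), (13296, 11141), (13297, 11142), (13298, 11143),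 (13299, 11144), (13300, 11145), (13301, 11146), (13302, 11149), (13303, 11154), (13304, 11159), (13305, 11161), (13306, 14718), (13307, 14730), (13308, 14714), (13309, 14682), (13310, 14719), (13311, 14685)]
    ⟨e3 q13248 (flp_a L652817) q13908, e3 q13249 (flp_a L664858) q15018, e3 q13250 (flp_a L652751) q13902, e3 q13251 (flp_a L664822) q15015, e3 q13252 (flp_a L652765) q13903, e3 q13253 (flp_a L652785) q13905, e3 q13254 (flp_a L652839) q13910, e3 q13255 (flp_a L668805) q15447, e3 q13256 (flp_a L668813) q15448, e3 q13257 (flp_a L653833) q13983, e3 q13258 (flp_a L651553) q13818, e3 q13259 (flp_a L668822) q15449, e3 q13260 L669278 q15515, e3 q13261 (flp_a L655842) q14155, e3 q13262 (flp_a L668833) q15450, e3 q13263 (flp_a L668841) q15451, e3 q13264 (flp_a L668852) q15452, e3 q13265 (flp_a L658992) q14449, e3 q13266 (flp_a L653846) q13984, e3 q13267 (flp_a L668860) q15453, e3 q13268 (flp_a L384293) q11095, e3 q13269 (flp_a L669353) q15524, e3 q13270 (flp_a L668870) q15454, e3 q13271 L384323 q11099, e3 q13272 (flp_a L669379)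 q15527, e3 q13273 (flp_a L668898) q15457, e3 q13274 L384357 q13274, e3 q13275 L669406 q15531, e3 q13276 L384371 q13276, e3 q13277 L384381 q13277, e3 q13278 L384390 q13278, e3 q13279 L384401 q13279, e3 q13280 (flp_a L384407) q11106, e3 q13281 (flp_a L669458) q15536, e3 q13282 (flp_a L669466) q15537, e3 q13283 L384428 q13283, e3 q13284 L384435 q13284, e3 q13285 L384444 q13285, e3 q13286 L384452 q13286, e3 q13287 (flp_a L384458) q11111, e3 q13288 (flp_a L669529) q15543, e3 q13289 L384476 q13289, e3 q13290 L384486 q11115, e3 q13291 (flp_a L669547) q15545, e3 q13292 L384504 q13292, e3 q13293 L384510 q11118, e3 q13294 (flp_a L669572) q15548, e3 q13295 L384523 q13295, e3 q13296 L384877 q11141, e3 q13297 L384886 q11142, e3 q13298 L384896 q11143, e3 q13299 L384902 q11144, e3 q13300 L384912 q11145, e3 q13301 L384919 q11146, e3 q13302 L384948 q11149, e3 q13303 L384994 q11154, e3 q13304 L385111 q11159, e3 q13305 L385130 q11161, e3 q13306 (flp_a L661660) q14718, e3 q13307 (flp_a L661839) q14730, e3 q13308 (flp_a L661600) q14714, e3 q13309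 (flp_a L661298) q14682, e3 q13310 (flp_a L661676) q14719, e3 q13311 (flp_a L661322) q14685, trivial⟩ (by decide +kernel)

theorem ce_a_208 : ∀ r, r < 64 → sm ga (Qf (13312 + r)) = Qf (tab Gen.a (13312 + r)) :=
  edges_tab (sm ga) Qf (tab Gen.a) 13312 [(13312, 14721), (13313, 14689), (13314, 14690), (13315, 14695), (13316, 14696), (13317, 15552), (13318, 15553), (13319, 15554), (13320, 14671), (13321, 15555), (13322, 15556), (13323, 14673), (13324, 15149), (13325, 15557), (13326, 15222), (13327, 14675), (13328, 14676), (13329, 15147), (13330, 15151), (13331, 15558), (13332, 14128), (13333, 15223), (13334, 14677), (13335, 14678), (13336, 15152), (13337, 15146), (13338, 15150), (13339, 15148), (13340, 14922), (13341, 15559), (13342, 14670), (13343, 14919), (13344, 14923), (13345, 15608), (13346, 14668), (13347, 14672), (13348, 14921), (13349, 15613), (13350, 14674), (13351, 11167), (13352, 15615), (13353, 11170), (13354, 13354), (13355, 14934), (13356, 13356), (13357, 13357), (13358, 13358), (13359, 11176), (13360, 11354), (13361,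 15617), (13362, 13362), (13363, 13363), (13364, 13364), (13365, 11181), (13366, 15620), (13367, 13367), (13368, 11185), (13369, 15622), (13370, 13370), (13371, 11188), (13372, 14635), (13373, 13373), (13374, 15144), (13375, 11627)]
    ⟨e3 q13312 (flp_a L661702) q14721, e3 q13313 (flp_a L661367) q14689, e3 q13314 (flp_a L661383) q14690, e3 q13315 (flp_a L661424) q14695, e3 q13316 (flp_a L661437) q14696, e3 q13317 (flp_a L669600) q15552, e3 q13318 (flp_a L669609) q15553, e3 q13319 (flp_a L669617) q15554, e3 q13320 (flp_a L661182) q14671, e3 q13321 (flp_a L669629) q15555, e3 q13322 (flp_a L669633) q15556, e3 q13323 (flp_a L661206) q14673, e3 q13324 (flp_a L666221) q15149, e3 q13325 (flp_a L669641) q15557, e3 q13326 (flp_a L666936) q15222, e3 q13327 (flp_a L661229) q14675, e3 q13328 (flp_a L661240) q14676, e3 q13329 (flp_a L666202) q15147, e3 q13330 (flp_a L666248) q15151, e3 q13331 (flp_a L669650) q15558, e3 q13332 (flp_a L655575) q14128, e3 q13333 (flp_a L666946) q15223, e3 q13334 (flp_a L661250) q14677, e3 q13335 (flp_a L661260)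 q14678, e3 q13336 (flp_a L666260) q15152, e3 q13337 (flp_a L666189) q15146, e3 q13338 (flp_a L666234) q15150, e3 q13339 (flp_a L666210) q15148, e3 q13340 (flp_a L663668) q14922, e3 q13341 (flp_a L669658) q15559, e3 q13342 (flp_a L661172) q14670, e3 q13343 (flp_a L663635) q14919, e3 q13344 (flp_a L663680) q14923, e3 q13345 L670032 q15608, e3 q13346 (flp_a L661148) q14668, e3 q13347 (flp_a L661194) q14672, e3 q13348 (flp_a L663656) q14921, e3 q13349 L670077 q15613, e3 q13350 (flp_a L661217) q14674, e3 q13351 (flp_a L385740) q11167, e3 q13352 (flp_a L670101) q15615, e3 q13353 L385769 q11170, e3 q13354 L385809 q13354, e3 q13355 (flp_a L663838) q14934, e3 q13356 L385835 q13356, e3 q13357 L385844 q13357, e3 q13358 L385852 q13358, e3 q13359 (flp_a L385861) q11176, e3 q13360 L615742 q11354, e3 q13361 (flp_a L670120) q15617, e3 q13362 L385887 q13362, e3 q13363 L385895 q13363, e3 q13364 L385904 q13364, e3 q13365 (flp_a L385910) q11181, e3 q13366 (flp_a L670150) q15620, e3 q13367 L385929 q13367, e3 q13368 L385940 q11185, e3 q13369 (flp_a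 L670171) q15622, e3 q13370 L385957 q13370, e3 q13371 L385966 q11188, e3 q13372 (flp_a L660781) q14635, e3 q13373 L385982 q13373, e3 q13374 (flp_a L666159) q15144, e3 q13375 L648859 q11627, trivial⟩ (by decide +kernel)

theorem ce_a_209 : ∀ r, r < 64 → sm ga (Qf (13376 + r)) = Qf (tab Gen.a (13376 + r)) :=
  edges_tab (sm ga) Qf (tab Gen.a) 13376 [(13376, 15145), (13377, 14421), (13378, 11226), (13379, 11227), (13380, 11228), (13381, 11229), (13382, 11230), (13383, 11231), (13384, 11232), (13385, 11235), (13386, 11241), (13387, 11242), (13388, 11243), (13389, 11244), (13390, 11245), (13391, 11246), (13392, 11247), (13393, 11248), (13394, 11250), (13395, 15647), (13396, 11253), (13397, 11256), (13398, 11210), (13399, 15650), (13400, 11262), (13401, 11273), (13402, 11274), (13403, 11275), (13404, 11276), (13405, 11277), (13406, 15658), (13407, 11279), (13408, 11280), (13409, 11281), (13410, 15663), (13411, 11284), (13412, 11221), (13413, 15665), (13414, 11224), (13415, 11318), (13416, 14717), (13417, 15626), (13418, 15627),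 (13419, 15609), (13420, 15628), (13421, 15629), (13422, 14968), (13423, 15630), (13424, 15631), (13425, 14972), (13426, 15103), (13427, 15632), (13428, 15686), (13429, 14975), (13430, 14893), (13431, 15101), (13432, 15105), (13433, 15633), (13434, 11236), (13435, 15253), (13436, 15695), (13437, 14004), (13438, 14896), (13439, 14856)]
    ⟨e3 q13376 (flp_a L666173) q15145, e3 q13377 (flp_a L658784) q14421, e3 q13378 L386433 q11226, e3 q13379 L386443 q11227, e3 q13380 L386452 q11228, e3 q13381 L386462 q11229, e3 q13382 L386470 q11230, e3 q13383 L386478 q11231, e3 q13384 L386487 q11232, e3 q13385 L386518 q11235, e3 q13386 L386570 q11241, e3 q13387 L386577 q11242, e3 q13388 L386586 q11243, e3 q13389 L386594 q11244, e3 q13390 L386604 q11245, e3 q13391 L386612 q11246, e3 q13392 L386616 q11247, e3 q13393 L386624 q11248, e3 q13394 L386642 q11250, e3 q13395 L670380 q15647, e3 q13396 L386667 q11253, e3 q13397 L386693 q11256, e3 q13398 (flp_a L386697) q11210, e3 q13399 (flp_a L670406) q15650, e3 q13400 L386740 q11262, e3 q13401 L386909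 q11273, e3 q13402 L386919 q11274, e3 q13403 L386927 q11275, e3 q13404 L386937 q11276, e3 q13405 L386948 q11277, e3 q13406 L670481 q15658, e3 q13407 L386966 q11279, e3 q13408 L386976 q11280, e3 q13409 L386984 q11281, e3 q13410 L670522 q15663, e3 q13411 L387012 q11284, e3 q13412 (flp_a L387033) q11221, e3 q13413 (flp_a L670546) q15665, e3 q13414 L387067 q11224, e3 q13415 L615810 q11318, e3 q13416 (flp_a L661652) q14717, e3 q13417 (flp_a L670214) q15626, e3 q13418 (flp_a L670220) q15627, e3 q13419 (flp_a L670048) q15609, e3 q13420 (flp_a L670230) q15628, e3 q13421 (flp_a L670240) q15629, e3 q13422 (flp_a L664272) q14968, e3 q13423 (flp_a L670250) q15630, e3 q13424 (flp_a L670256) q15631, e3 q13425 (flp_a L664320) q14972, e3 q13426 (flp_a L665731) q15103, e3 q13427 (flp_a L670264) q15632, e3 q13428 L670705 q15686, e3 q13429 (flp_a L664350) q14975, e3 q13430 (flp_a L663333) q14893, e3 q13431 (flp_a L665710) q15101, e3 q13432 (flp_a L665758) q15105, e3 q13433 (flp_a L670273) q15633, e3 q13434 (flp_a L387231) q11236, e3 q13435 (flp_a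 L667194) q15253, e3 q13436 (flp_a L670778) q15695, e3 q13437 (flp_a L654095) q14004, e3 q13438 (flp_a L663366) q14896, e3 q13439 (flp_a L663004) q14856, trivial⟩ (by decide +kernel)

theorem ce_a_210 : ∀ r, r < 64 → sm ga (Qf (13440 + r)) = Qf (tab Gen.a (13440 + r)) :=
  edges_tab (sm ga) Qf (tab Gen.a) 13440 [(13440, 14002), (13441, 14006), (13442, 15106), (13443, 15634), (13444, 15635), (13445, 15636), (13446, 15637), (13447, 15638), (13448, 15713), (13449, 15640), (13450, 15641), (13451, 15110), (13452, 15642), (13453, 15643), (13454, 15723), (13455, 15112), (13456, 15645), (13457, 15107), (13458, 15113), (13459, 15646), (13460, 11251), (13461, 15732), (13462, 15733), (13463, 15109), (13464, 15115), (13465, 15649), (13466, 14009), (13467, 15111), (13468, 15116), (13469, 11258), (13470, 11259), (13471, 15218), (13472, 15744), (13473, 15745), (13474, 14013), (13475, 14018), (13476, 15119), (13477, 14819), (13478, 14011), (13479, 14015), (13480, 14020), (13481, 15075), (13482, 15108), (13483, 14008), (13484, 14010), (13485,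 14012), (13486, 15652), (13487, 15653), (13488, 14944), (13489, 15655), (13490, 15656), (13491, 15657), (13492, 14942), (13493, 11278), (13494, 14941), (13495, 15765), (13496, 15661), (13497, 15662), (13498, 14945), (13499, 14946), (13500, 11283), (13501, 15770), (13502, 14948), (13503, 11287)]
    ⟨e3 q13440 (flp_a L654073) q14002, e3 q13441 (flp_a L654123) q14006, e3 q13442 (flp_a L665770) q15106, e3 q13443 (flp_a L670281) q15634, e3 q13444 (flp_a L670288) q15635, e3 q13445 (flp_a L670297) q15636, e3 q13446 (flp_a L670307) q15637, e3 q13447 (flp_a L670313) q15638, e3 q13448 L670902 q15713, e3 q13449 (flp_a L670329) q15640, e3 q13450 (flp_a L670335) q15641, e3 q13451 (flp_a L665815) q15110, e3 q13452 (flp_a L670345) q15642, e3 q13453 (flp_a L670351) q15643, e3 q13454 L670956 q15723, e3 q13455 (flp_a L665833) q15112, e3 q13456 (flp_a L670364) q15645, e3 q13457 (flp_a L665783) q15107, e3 q13458 (flp_a L665844) q15113, e3 q13459 (flp_a L670375) q15646, e3 q13460 (flp_a L387403) q11251, e3 q13461 (flp_a L671029) q15732, e3 q13462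 (flp_a L671037) q15733, e3 q13463 (flp_a L665807) q15109, e3 q13464 (flp_a L665867) q15115, e3 q13465 (flp_a L670398) q15649, e3 q13466 (flp_a L654159) q14009, e3 q13467 (flp_a L665823) q15111, e3 q13468 (flp_a L665879) q15116, e3 q13469 L387467 q11258, e3 q13470 L387474 q11259, e3 q13471 (flp_a L666899) q15218, e3 q13472 (flp_a L671115) q15744, e3 q13473 (flp_a L671124) q15745, e3 q13474 (flp_a L654207) q14013, e3 q13475 (flp_a L654264) q14018, e3 q13476 (flp_a L665917) q15119, e3 q13477 (flp_a L662728) q14819, e3 q13478 (flp_a L654183) q14011, e3 q13479 (flp_a L654225) q14015, e3 q13480 (flp_a L654288) q14020, e3 q13481 (flp_a L665435) q15075, e3 q13482 (flp_a L665793) q15108, e3 q13483 (flp_a L654147) q14008, e3 q13484 (flp_a L654169) q14010, e3 q13485 (flp_a L654192) q14012, e3 q13486 (flp_a L670420) q15652, e3 q13487 (flp_a L670429) q15653, e3 q13488 (flp_a L663942) q14944, e3 q13489 (flp_a L670448) q15655, e3 q13490 (flp_a L670460) q15656, e3 q13491 (flp_a L670470) q15657, e3 q13492 (flp_a L663918) q14942, e3 q13493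 (flp_a L387745) q11278, e3 q13494 (flp_a L663906) q14941, e3 q13495 (flp_a L671282) q15765, e3 q13496 (flp_a L670508) q15661, e3 q13497 (flp_a L670514) q15662, e3 q13498 (flp_a L663956) q14945, e3 q13499 (flp_a L663968) q14946, e3 q13500 (flp_a L387801) q11283, e3 q13501 (flp_a L671316) q15770, e3 q13502 (flp_a L663995) q14948, e3 q13503 L387836 q11287, trivial⟩ (by decide +kernel)

theorem ce_a_211 : ∀ r, r < 64 → sm ga (Qf (13504 + r)) = Qf (tab Gen.a (13504 + r)) :=
  edges_tab (sm ga) Qf (tab Gen.a) 13504 [(13504, 15772), (13505, 14812), (13506, 11290), (13507, 14150), (13508, 14818), (13509, 11299), (13510, 11302), (13511, 11304), (13512, 13819), (13513, 11328), (13514, 14715), (13515, 14458), (13516, 14720), (13517, 14712), (13518, 14716), (13519, 14669), (13520, 14918), (13521, 14797), (13522, 14667), (13523, 11320), (13524, 15775), (13525, 11332), (13526, 15779), (13527, 11335), (13528, 14634), (13529, 11352), (13530, 11353), (13531, 11356), (13532, 11373), (13533, 14955), (13534, 11375), (13535, 11347), (13536, 14953),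 (13537, 11378), (13538, 11349), (13539, 14044), (13540, 14727), (13541, 15780), (13542, 14969), (13543, 15781), (13544, 14902), (13545, 15618), (13546, 14962), (13547, 14897), (13548, 14880), (13549, 15797), (13550, 14967), (13551, 14886), (13552, 14887), (13553, 15802), (13554, 14890), (13555, 11362), (13556, 15804), (13557, 11365), (13558, 14959), (13559, 14956), (13560, 14957), (13561, 11369), (13562, 14961), (13563, 14966), (13564, 11371), (13565, 15782), (13566, 14804), (13567, 14807)]
    ⟨e3 q13504 (flp_a L671338) q15772, e3 q13505 (flp_a L662665) q14812, e3 q13506 L387864 q11290, e3 q13507 (flp_a L655798) q14150, e3 q13508 (flp_a L662717) q14818, e3 q13509 L388012 q11299, e3 q13510 L388080 q11302, e3 q13511 L388109 q11304, e3 q13512 (flp_a L651567) q13819, e3 q13513 L615778 q11328, e3 q13514 (flp_a L661614) q14715, e3 q13515 (flp_a L659085) q14458, e3 q13516 (flp_a L661688) q14720, e3 q13517 (flp_a L661574) q14712, e3 q13518 (flp_a L661630) q14716, e3 q13519 (flp_a L661159) q14669, e3 q13520 (flp_a L663621) q14918,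 e3 q13521 (flp_a L662529) q14797, e3 q13522 (flp_a L661137) q14667, e3 q13523 (flp_a L389823) q11320, e3 q13524 (flp_a L671370) q15775, e3 q13525 L390067 q11332, e3 q13526 (flp_a L671407) q15779, e3 q13527 L390094 q11335, e3 q13528 (flp_a L660767) q14634, e3 q13529 L390465 q11352, e3 q13530 L390472 q11353, e3 q13531 L390497 q11356, e3 q13532 L390757 q11373, e3 q13533 (flp_a L664093) q14955, e3 q13534 L390789 q11375, e3 q13535 (flp_a L390828) q11347, e3 q13536 (flp_a L664071) q14953, e3 q13537 L390851 q11378, e3 q13538 (flp_a L390883) q11349, e3 q13539 L654591 q14044, e3 q13540 (flp_a L661800) q14727, e3 q13541 (flp_a L671418) q15780, e3 q13542 (flp_a L664284) q14969, e3 q13543 (flp_a L671425) q15781, e3 q13544 (flp_a L663447) q14902, e3 q13545 (flp_a L670131) q15618, e3 q13546 (flp_a L664201) q14962, e3 q13547 (flp_a L663385) q14897, e3 q13548 (flp_a L663195) q14880, e3 q13549 L671544 q15797, e3 q13550 (flp_a L664259) q14967, e3 q13551 (flp_a L663254) q14886, e3 q13552 (flp_a L663266) q14887, e3 q13553 L671576 q15802, e3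 q13554 (flp_a L663301) q14890, e3 q13555 (flp_a L391110) q11362, e3 q13556 (flp_a L671598) q15804, e3 q13557 L391137 q11365, e3 q13558 (flp_a L664154) q14959, e3 q13559 (flp_a L664108) q14956, e3 q13560 (flp_a L664128) q14957, e3 q13561 (flp_a L391219) q11369, e3 q13562 (flp_a L664187) q14961, e3 q13563 (flp_a L664245) q14966, e3 q13564 (flp_a L391266) q11371, e3 q13565 (flp_a L671433) q15782, e3 q13566 (flp_a L662593) q14804, e3 q13567 (flp_a L662619) q14807, trivial⟩ (by decide +kernel)

theorem ce_a_212 : ∀ r, r < 64 → sm ga (Qf (13568 + r)) = Qf (tab Gen.a (13568 + r)) :=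
  edges_tab (sm ga) Qf (tab Gen.a) 13568 [(13568, 11383), (13569, 14141), (13570, 14811), (13571, 11409), (13572, 11412), (13573, 14282), (13574, 14285), (13575, 13869), (13576, 13885), (13577, 13870), (13578, 13868), (13579, 13867), (13580, 13799), (13581, 13800), (13582, 13806), (13583, 14264), (13584, 13891), (13585, 11411), (13586, 15815), (13587, 15810), (13588, 13588), (13589, 13589), (13590, 13590), (13591, 14211), (13592, 13592), (13593, 13593), (13594, 13594), (13595, 14362), (13596, 13596), (13597, 11425), (13598, 15825), (13599, 13599), (13600, 11428), (13601, 15828), (13602, 13602), (13603, 11456), (13604, 11470), (13605, 11471), (13606, 11474), (13607, 11477), (13608, 11438), (13609, 15834), (13610, 11480), (13611, 14281), (13612, 14224), (13613, 13880), (13614, 13851), (13615, 13857), (13616, 13850), (13617, 14492), (13618, 14497), (13619, 13969), (13620, 13973), (13621, 13917), (13622, 13992), (13623, 13920), (13624, 11452), (13625, 11453), (13626, 15843), (13627, 15844), (13628, 15845), (13629, 13921), (13630,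 13924), (13631, 15019)]
    ⟨e3 q13568 L391545 q11383, e3 q13569 (flp_a L655700) q14141, e3 q13570 (flp_a L662653) q14811, e3 q13571 L649409 q11409, e3 q13572 L649418 q11412, e3 q13573 (flp_a L657297) q14282, e3 q13574 (flp_a L657329) q14285, e3 q13575 (flp_a L652277) q13869, e3 q13576 (flp_a L652524) q13885, e3 q13577 (flp_a L652292) q13870, e3 q13578 (flp_a L652259) q13868, e3 q13579 (flp_a L652241) q13867, e3 q13580 (flp_a L651300) q13799, e3 q13581 (flp_a L651313) q13800, e3 q13582 (flp_a L651401) q13806, e3 q13583 (flp_a L657069) q14264, e3 q13584 (flp_a L652607) q13891, e3 q13585 L649534 q11411, e3 q13586 (flp_a L671676) q15815, e3 q13587 (flp_a L671632) q15810, e3 q13588 L649560 q13588, e3 q13589 L649570 q13589, e3 q13590 L649578 q13590, e3 q13591 (flp_a L656450) q14211, e3 q13592 L649595 q13592, e3 q13593 L649603 q13593, e3 q13594 L649612 q13594, e3 q13595 (flp_a L658153) q14362, e3 q13596 L649628 q13596, e3 q13597 L649638 q11425, e3 q13598 (flp_a L671769) q15825, e3 q13599 L649653 q13599, e3 q13600 L649661 q11428,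 e3 q13601 (flp_a L671794) q15828, e3 q13602 L649679 q13602, e3 q13603 L649687 q11456, e3 q13604 L649694 q11470, e3 q13605 L649704 q11471, e3 q13606 L649714 q11474, e3 q13607 L649723 q11477, e3 q13608 L649732 q11438, e3 q13609 (flp_a L671845) q15834, e3 q13610 L649747 q11480, e3 q13611 (flp_a L657284) q14281, e3 q13612 (flp_a L656624) q14224, e3 q13613 (flp_a L652453) q13880, e3 q13614 (flp_a L651994) q13851, e3 q13615 (flp_a L652102) q13857, e3 q13616 (flp_a L651975) q13850, e3 q13617 (flp_a L659445) q14492, e3 q13618 (flp_a L659490) q14497, e3 q13619 (flp_a L653667) q13969, e3 q13620 (flp_a L653715) q13973, e3 q13621 (flp_a L652935) q13917, e3 q13622 (flp_a L653923) q13992, e3 q13623 (flp_a L652984) q13920, e3 q13624 L649855 q11452, e3 q13625 L649860 q11453, e3 q13626 (flp_a L671912) q15843, e3 q13627 (flp_a L671918) q15844, e3 q13628 (flp_a L671925) q15845, e3 q13629 (flp_a L653000) q13921, e3 q13630 (flp_a L653037) q13924, e3 q13631 (flp_a L664868) q15019, trivial⟩ (by decide +kernel)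

theorem ce_a_213 : ∀ r, r < 64 → sm ga (Qf (13632 + r)) = Qf (tab Gen.a (13632 + r)) :=
  edges_tab (sm ga) Qf (tab Gen.a) 13632 [(13632, 15831), (13633, 13919), (13634, 13922), (13635, 13925), (13636, 13994), (13637, 13916), (13638, 13918), (13639, 13820), (13640, 14706), (13641, 14710), (13642, 14138), (13643, 14156), (13644, 14157), (13645, 15832), (13646, 14452), (13647, 13985), (13648, 11476), (13649, 15860), (13650, 15833), (13651, 11479), (13652, 15863), (13653, 15836), (13654, 14637), (13655, 13655), (13656, 11485), (13657, 11486), (13658, 15869), (13659, 15870), (13660, 13660), (13661, 13661), (13662, 11491), (13663, 15874), (13664, 13664), (13665, 11494), (13666, 15877), (13667, 13667), (13668, 11497), (13669, 15881), (13670, 15882), (13671, 13671), (13672, 15886), (13673, 11529), (13674, 11532), (13675, 15889), (13676, 11535), (13677, 11538), (13678, 11503), (13679, 15892), (13680, 11544), (13681, 11507), (13682, 15895), (13683, 11556), (13684, 11582), (13685, 11565), (13686, 11511), (13687, 14947), (13688, 15899),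 (13689, 11568), (13690, 11569), (13691, 11570), (13692, 11516), (13693, 15902), (13694, 11567), (13695, 11520)]
    ⟨e3 q13632 (flp_a L671820) q15831, e3 q13633 (flp_a L652965) q13919, e3 q13634 (flp_a L653011) q13922, e3 q13635 (flp_a L653046) q13925, e3 q13636 (flp_a L653953) q13994, e3 q13637 (flp_a L652919) q13916, e3 q13638 (flp_a L652951) q13918, e3 q13639 (flp_a L651582) q13820, e3 q13640 (flp_a L661516) q14706, e3 q13641 (flp_a L661552) q14710, e3 q13642 (flp_a L655670) q14138, e3 q13643 (flp_a L655855) q14156, e3 q13644 (flp_a L655868) q14157, e3 q13645 (flp_a L671828) q15832, e3 q13646 (flp_a L659018) q14452, e3 q13647 (flp_a L653860) q13985, e3 q13648 L650028 q11476, e3 q13649 (flp_a L672028) q15860, e3 q13650 (flp_a L671837) q15833, e3 q13651 L650051 q11479, e3 q13652 (flp_a L672050) q15863, e3 q13653 (flp_a L671860) q15836, e3 q13654 (flp_a L660804) q14637, e3 q13655 L650078 q13655, e3 q13656 L650088 q11485, e3 q13657 L650095 q11486, e3 q13658 (flp_a L672092) q15869, e3 q13659 (flp_a L672100) q15870, e3 q13660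 L650119 q13660, e3 q13661 L650128 q13661, e3 q13662 L650137 q11491, e3 q13663 (flp_a L672133) q15874, e3 q13664 L650152 q13664, e3 q13665 L650160 q11494, e3 q13666 (flp_a L672157) q15877, e3 q13667 L650176 q13667, e3 q13668 L650184 q11497, e3 q13669 (flp_a L672187) q15881, e3 q13670 (flp_a L672194) q15882, e3 q13671 L650204 q13671, e3 q13672 L672221 q15886, e3 q13673 L650219 q11529, e3 q13674 L650230 q11532, e3 q13675 L672252 q15889, e3 q13676 L650247 q11535, e3 q13677 L650258 q11538, e3 q13678 (flp_a L650265) q11503, e3 q13679 (flp_a L672285) q15892, e3 q13680 L650284 q11544, e3 q13681 L650293 q11507, e3 q13682 (flp_a L672312) q15895, e3 q13683 L650310 q11556, e3 q13684 L650328 q11582, e3 q13685 L650333 q11565, e3 q13686 (flp_a L650345) q11511, e3 q13687 (flp_a L663990) q14947, e3 q13688 (flp_a L672354) q15899, e3 q13689 L650375 q11568, e3 q13690 L650380 q11569, e3 q13691 L650389 q11570, e3 q13692 (flp_a L650400) q11516, e3 q13693 (flp_a L672381) q15902, e3 q13694 L650422 q11567, e3 q13695 L650435 q11520, trivial⟩ (by decide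 +kernel)

theorem ce_a_214 : ∀ r, r < 64 → sm ga (Qf (13696 + r)) = Qf (tab Gen.a (13696 + r)) :=
  edges_tab (sm ga) Qf (tab Gen.a) 13696 [(13696, 15898), (13697, 11573), (13698, 11523), (13699, 13831), (13700, 11576), (13701, 13829), (13702, 13830), (13703, 11527), (13704, 15910), (13705, 15906), (13706, 14137), (13707, 14168), (13708, 14176), (13709, 15888), (13710, 14031), (13711, 14169), (13712, 14177), (13713, 11533), (13714, 15924), (13715, 15905), (13716, 14171), (13717, 15124), (13718, 15891), (13719, 14173), (13720, 15125), (13721, 11540), (13722, 11541), (13723, 15930), (13724, 15931), (13725, 15932), (13726, 14030), (13727, 15121), (13728, 15128), (13729, 15894), (13730, 14028), (13731, 14032), (13732, 15122), (13733, 11550), (13734, 11551), (13735, 11552), (13736, 15943), (13737, 15944), (13738, 15945), (13739, 13832), (13740, 14033), (13741, 14036), (13742, 14040), (13743, 15131), (13744, 15897), (13745, 14034), (13746, 14037), (13747, 14027), (13748, 15077), (13749, 14029), (13750, 15903), (13751, 15904), (13752,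 15908), (13753, 11587), (13754, 13828), (13755, 11588), (13756, 15958), (13757, 15959), (13758, 14387), (13759, 11605)]
    ⟨e3 q13696 (flp_a L672339) q15898, e3 q13697 L650453 q11573, e3 q13698 L650462 q11523, e3 q13699 (flp_a L651717) q13831, e3 q13700 L650481 q11576, e3 q13701 (flp_a L651685) q13829, e3 q13702 (flp_a L651701) q13830, e3 q13703 (flp_a L650510) q11527, e3 q13704 (flp_a L672465) q15910, e3 q13705 (flp_a L672421) q15906, e3 q13706 (flp_a L655659) q14137, e3 q13707 (flp_a L655961) q14168, e3 q13708 (flp_a L656051) q14176, e3 q13709 (flp_a L672244) q15888, e3 q13710 (flp_a L654419) q14031, e3 q13711 (flp_a L655972) q14169, e3 q13712 (flp_a L656062) q14177, e3 q13713 (flp_a L650590) q11533, e3 q13714 (flp_a L672587) q15924, e3 q13715 (flp_a L672409) q15905, e3 q13716 (flp_a L655995) q14171, e3 q13717 (flp_a L665962) q15124, e3 q13718 (flp_a L672275) q15891, e3 q13719 (flp_a L656016) q14173, e3 q13720 (flp_a L665973) q15125, e3 q13721 L650666 q11540, e3 q13722 L650674 q11541, e3 q13723 (flp_a L672642) q15930,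 e3 q13724 (flp_a L672648) q15931, e3 q13725 (flp_a L672657) q15932, e3 q13726 (flp_a L654410) q14030, e3 q13727 (flp_a L665933) q15121, e3 q13728 (flp_a L666008) q15128, e3 q13729 (flp_a L672302) q15894, e3 q13730 (flp_a L654383) q14028, e3 q13731 (flp_a L654433) q14032, e3 q13732 (flp_a L665941) q15122, e3 q13733 L650759 q11550, e3 q13734 L650767 q11551, e3 q13735 L650775 q11552, e3 q13736 (flp_a L672742) q15943, e3 q13737 (flp_a L672753) q15944, e3 q13738 (flp_a L672762) q15945, e3 q13739 (flp_a L651731) q13832, e3 q13740 (flp_a L654445) q14033, e3 q13741 (flp_a L654480) q14036, e3 q13742 (flp_a L654526) q14040, e3 q13743 (flp_a L666040) q15131, e3 q13744 (flp_a L672330) q15897, e3 q13745 (flp_a L654456) q14034, e3 q13746 (flp_a L654489) q14037, e3 q13747 (flp_a L654368) q14027, e3 q13748 (flp_a L665454) q15077, e3 q13749 (flp_a L654398) q14029, e3 q13750 (flp_a L672395) q15903, e3 q13751 (flp_a L672402) q15904, e3 q13752 (flp_a L672441) q15908, e3 q13753 L650905 q11587, e3 q13754 (flp_a L651679) q13828, e3 q13755 L650919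 q11588, e3 q13756 (flp_a L672854) q15958, e3 q13757 (flp_a L672861) q15959, e3 q13758 (flp_a L658441) q14387, e3 q13759 L650943 q11605, trivial⟩ (by decide +kernel)

theorem ce_a_215 : ∀ r, r < 64 → sm ga (Qf (13760 + r)) = Qf (tab Gen.a (13760 + r)) :=
  edges_tab (sm ga) Qf (tab Gen.a) 13760 [(13760, 11604), (13761, 11631), (13762, 11607), (13763, 15104), (13764, 14722), (13765, 14641), (13766, 13898), (13767, 13897), (13768, 13901), (13769, 11628), (13770, 11629), (13771, 15567), (13772, 15625), (13773, 11652), (13774, 11636), (13775, 11637), (13776, 15961), (13777, 15962), (13778, 14000), (13779, 15102), (13780, 14001), (13781, 14003), (13782, 13999), (13783, 14007), (13784, 11650), (13785, 11651), (13786, 14728), (13787, 15969), (13788, 11665), (13789, 11666), (13790, 14035), (13791, 14051), (13792, 15946), (13793, 15971), (13794, 15972), (13795, 13849), (13796, 13848), (13797, 13915), (13798, 13107), (13799, 13580), (13800, 13581), (13801, 11684), (13802, 11685), (13803, 11686), (13804, 13105), (13805, 13109), (13806,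 13582), (13807, 15980), (13808, 15981), (13809, 15982), (13810, 13810), (13811, 13811), (13812, 13812), (13813, 11700), (13814, 11701), (13815, 11702), (13816, 11703), (13817, 11708), (13818, 13258), (13819, 13512), (13820, 13639), (13821, 12728), (13822, 12646), (13823, 13045)]
    ⟨e3 q13760 L650959 q11604, e3 q13761 L650975 q11631, e3 q13762 L650993 q11607, e3 q13763 (flp_a L665744) q15104, e3 q13764 (flp_a L661717) q14722, e3 q13765 (flp_a L660850) q14641, e3 q13766 (flp_a L652701) q13898, e3 q13767 (flp_a L652684) q13897, e3 q13768 (flp_a L652737) q13901, e3 q13769 L651058 q11628, e3 q13770 L651075 q11629, e3 q13771 (flp_a L669717) q15567, e3 q13772 (flp_a L670199) q15625, e3 q13773 L651104 q11652, e3 q13774 L651122 q11636, e3 q13775 L651127 q11637, e3 q13776 (flp_a L672872) q15961, e3 q13777 (flp_a L672879) q15962, e3 q13778 (flp_a L654051) q14000, e3 q13779 (flp_a L665720) q15102, e3 q13780 (flp_a L654062) q14001, e3 q13781 (flp_a L654083) q14003, e3 q13782 (flp_a L654038) q13999, e3 q13783 (flp_a L654134) q14007,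 e3 q13784 L651185 q11650, e3 q13785 L651191 q11651, e3 q13786 (flp_a L661814) q14728, e3 q13787 (flp_a L672922) q15969, e3 q13788 L651215 q11665, e3 q13789 L651222 q11666, e3 q13790 L654476 q14035, e3 q13791 (flp_a L654664) q14051, e3 q13792 (flp_a L672771) q15946, e3 q13793 (flp_a L672936) q15971, e3 q13794 (flp_a L672944) q15972, e3 q13795 (flp_a L651956) q13849, e3 q13796 (flp_a L651937) q13848, e3 q13797 (flp_a L652901) q13915, e3 q13798 L651287 q13107, e3 q13799 L651300 q13580, e3 q13800 L651313 q13581, e3 q13801 L651327 q11684, e3 q13802 L651341 q11685, e3 q13803 L651356 q11686, e3 q13804 L651372 q13105, e3 q13805 L651386 q13109, e3 q13806 L651401 q13582, e3 q13807 (flp_a L673020) q15980, e3 q13808 (flp_a L673036) q15981, e3 q13809 (flp_a L673053) q15982, e3 q13810 L651443 q13810, e3 q13811 L651458 q13811, e3 q13812 L651473 q13812, e3 q13813 L651485 q11700, e3 q13814 L651502 q11701, e3 q13815 L651514 q11702, e3 q13816 L651528 q11703, e3 q13817 L651538 q11708, e3 q13818 L651553 q13258, e3 q13819 L651567 q13512, e3 q13820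 L651582 q13639, e3 q13821 L651597 q12728, e3 q13822 L651609 q12646, e3 q13823 L651623 q13045, trivial⟩ (by decide +kernel)

theorem ce_a_216 : ∀ r, r < 64 → sm ga (Qf (13824 + r)) = Qf (tab Gen.a (13824 + r)) :=
  edges_tab (sm ga) Qf (tab Gen.a) 13824 [(13824, 15992), (13825, 15993), (13826, 15994), (13827, 15995), (13828, 13754), (13829, 13701), (13830, 13702), (13831, 13699), (13832, 13739), (13833, 16009), (13834, 13834), (13835, 13835), (13836, 16012), (13837, 13837), (13838, 13838), (13839, 11713), (13840, 16015), (13841, 13841), (13842, 11717), (13843, 16018), (13844, 13844), (13845, 12737), (13846, 12738), (13847, 12733), (13848, 13796), (13849, 13795), (13850, 13616), (13851, 13614), (13852, 12736), (13853, 12734), (13854, 11773), (13855, 12758), (13856, 11771), (13857, 13615), (13858, 13100), (13859, 13097), (13860, 13101), (13861, 13102), (13862, 12154), (13863, 13103), (13864, 12151), (13865, 12155), (13866, 12156), (13867, 13579), (13868, 13578), (13869, 13575), (13870, 13577), (13871, 12109), (13872, 12110),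 (13873, 12113), (13874, 12089), (13875, 11776), (13876, 11777), (13877, 11781), (13878, 11782), (13879, 11783), (13880, 13613), (13881, 12770), (13882, 12761), (13883, 12773), (13884, 13095), (13885, 13576), (13886, 12756), (13887, 13092)]
    ⟨e3 q13824 (flp_a L673206) q15992, e3 q13825 (flp_a L673221) q15993, e3 q13826 (flp_a L673234) q15994, e3 q13827 (flp_a L673248) q15995, e3 q13828 L651679 q13754, e3 q13829 L651685 q13701, e3 q13830 L651701 q13702, e3 q13831 L651717 q13699, e3 q13832 L651731 q13739, e3 q13833 L673431 q16009, e3 q13834 L651757 q13834, e3 q13835 L651770 q13835, e3 q13836 L673474 q16012, e3 q13837 L651797 q13837, e3 q13838 L651810 q13838, e3 q13839 (flp_a L651822) q11713, e3 q13840 (flp_a L673517) q16015, e3 q13841 L651844 q13841, e3 q13842 L651854 q11717, e3 q13843 (flp_a L673550) q16018, e3 q13844 L651875 q13844, e3 q13845 L651883 q12737, e3 q13846 L651901 q12738, e3 q13847 L651919 q12733, e3 q13848 L651937 q13796, e3 q13849 L651956 q13795, e3 q13850 L651975 q13616, e3 q13851 L651994 q13614, e3 q13852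 L652013 q12736, e3 q13853 L652031 q12734, e3 q13854 L652049 q11773, e3 q13855 L652068 q12758, e3 q13856 L652083 q11771, e3 q13857 L652102 q13615, e3 q13858 L652120 q13100, e3 q13859 L652134 q13097, e3 q13860 L652144 q13101, e3 q13861 L652160 q13102, e3 q13862 L652175 q12154, e3 q13863 L652186 q13103, e3 q13864 L652201 q12151, e3 q13865 L652213 q12155, e3 q13866 L652226 q12156, e3 q13867 L652241 q13579, e3 q13868 L652259 q13578, e3 q13869 L652277 q13575, e3 q13870 L652292 q13577, e3 q13871 L652309 q12109, e3 q13872 L652328 q12110, e3 q13873 L652343 q12113, e3 q13874 L652360 q12089, e3 q13875 L652377 q11776, e3 q13876 L652393 q11777, e3 q13877 L652409 q11781, e3 q13878 L652424 q11782, e3 q13879 L652439 q11783, e3 q13880 L652453 q13613, e3 q13881 L652470 q12770, e3 q13882 L652483 q12761, e3 q13883 L652497 q12773, e3 q13884 L652510 q13095, e3 q13885 L652524 q13576, e3 q13886 L652538 q12756, e3 q13887 L652556 q13092, trivial⟩ (by decide +kernel)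

theorem ce_a_217 : ∀ r, r < 64 → sm ga (Qf (13888 + r)) = Qf (tab Gen.a (13888 + r)) :=
  edges_tab (sm ga) Qf (tab Gen.a) 13888 [(13888, 16038), (13889, 13106), (13890, 13111), (13891, 13584), (13892, 16039), (13893, 16040), (13894, 16041), (13895, 12757), (13896, 12817), (13897, 13767), (13898, 13766), (13899, 13224), (13900, 12850), (13901, 13768), (13902, 13250), (13903, 13252), (13904, 13247), (13905, 13253), (13906, 13244), (13907, 12340), (13908, 13248), (13909, 12351), (13910, 13254), (13911, 12348), (13912, 12352), (13913, 12349), (13914, 12353), (13915, 13797), (13916, 13637), (13917, 13621), (13918, 13638), (13919, 13633), (13920, 13623), (13921, 13629), (13922, 13634), (13923, 16090), (13924, 13630), (13925, 13635), (13926, 13926), (13927, 13927), (13928, 16093), (13929, 13929), (13930, 11816), (13931, 16095), (13932, 13932), (13933, 12280), (13934, 12282), (13935, 12283), (13936, 12284), (13937, 12285), (13938, 12286), (13939, 12288), (13940, 12248), (13941, 12252), (13942, 12186), (13943, 12253), (13944, 11844),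 (13945, 11845), (13946, 11849), (13947, 11850), (13948, 11852), (13949, 11853), (13950, 11855), (13951, 11856)]
    ⟨e3 q13888 (flp_a L673856) q16038, e3 q13889 L652580 q13106, e3 q13890 L652593 q13111, e3 q13891 L652607 q13584, e3 q13892 (flp_a L673872) q16039, e3 q13893 (flp_a L673888) q16040, e3 q13894 (flp_a L673904) q16041, e3 q13895 L652650 q12757, e3 q13896 L652668 q12817, e3 q13897 L652684 q13767, e3 q13898 L652701 q13766, e3 q13899 L652714 q13224, e3 q13900 L652724 q12850, e3 q13901 L652737 q13768, e3 q13902 L652751 q13250, e3 q13903 L652765 q13252, e3 q13904 L652777 q13247, e3 q13905 L652785 q13253, e3 q13906 L652799 q13244, e3 q13907 L652807 q12340, e3 q13908 L652817 q13248, e3 q13909 L652827 q12351, e3 q13910 L652839 q13254, e3 q13911 L652855 q12348, e3 q13912 L652865 q12352, e3 q13913 L652878 q12349, e3 q13914 L652889 q12353, e3 q13915 L652901 q13797, e3 q13916 L652919 q13637, e3 q13917 L652935 q13621, e3 q13918 L652951 q13638, e3 q13919 L652965 q13633, e3 q13920 L652984 q13623, e3 q13921 L653000 q13629, e3 q13922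 L653011 q13634, e3 q13923 L674602 q16090, e3 q13924 L653037 q13630, e3 q13925 L653046 q13635, e3 q13926 L653063 q13926, e3 q13927 L653080 q13927, e3 q13928 L674643 q16093, e3 q13929 L653110 q13929, e3 q13930 (flp_a L653124) q11816, e3 q13931 (flp_a L674674) q16095, e3 q13932 L653149 q13932, e3 q13933 L653165 q12280, e3 q13934 L653182 q12282, e3 q13935 L653197 q12283, e3 q13936 L653212 q12284, e3 q13937 L653225 q12285, e3 q13938 L653237 q12286, e3 q13939 L653250 q12288, e3 q13940 L653267 q12248, e3 q13941 L653282 q12252, e3 q13942 L653298 q12186, e3 q13943 L653315 q12253, e3 q13944 L653328 q11844, e3 q13945 L653346 q11845, e3 q13946 L653361 q11849, e3 q13947 L653375 q11850, e3 q13948 L653389 q11852, e3 q13949 L653403 q11853, e3 q13950 L653417 q11855, e3 q13951 L653431 q11856, trivial⟩ (by decide +kernel)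

theorem ce_a_218 : ∀ r, r < 64 → sm ga (Qf (13952 + r)) = Qf (tab Gen.a (13952 + r)) :=
  edges_tab (sm ga) Qf (tab Gen.a) 13952 [(13952, 11860), (13953, 11861), (13954, 11862), (13955, 11863), (13956, 11864), (13957, 11865), (13958, 11866), (13959, 11869), (13960, 11875), (13961, 16065), (13962, 12841), (13963, 12844), (13964, 12823), (13965, 12847), (13966, 12827), (13967, 12828), (13968, 16058), (13969, 13619), (13970, 16107), (13971, 16108), (13972, 13236), (13973, 13620), (13974, 12813), (13975, 13233), (13976, 16109), (13977, 13153), (13978, 12815), (13979, 12816), (13980, 16110), (13981, 16111), (13982, 16112), (13983, 13257), (13984, 13266), (13985, 13647), (13986, 16113), (13987, 16114), (13988, 16115), (13989, 16116), (13990, 16117), (13991, 16118), (13992, 13622), (13993, 12812), (13994, 13636), (13995, 12814), (13996, 13186), (13997, 11879), (13998, 12960), (13999, 13782), (14000, 13778), (14001, 13780), (14002, 13440), (14003, 13781), (14004, 13437), (14005, 12566), (14006, 13441), (14007, 13783), (14008, 13483),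 (14009, 13466), (14010, 13484), (14011, 13478), (14012, 13485), (14013, 13474), (14014, 12590), (14015, 13479)]
    ⟨e3 q13952 L653441 q11860, e3 q13953 L653454 q11861, e3 q13954 L653466 q11862, e3 q13955 L653481 q11863, e3 q13956 L653492 q11864, e3 q13957 L653502 q11865, e3 q13958 L653515 q11866, e3 q13959 L653532 q11869, e3 q13960 L653549 q11875, e3 q13961 (flp_a L674271) q16065, e3 q13962 L653582 q12841, e3 q13963 L653596 q12844, e3 q13964 L653607 q12823, e3 q13965 L653619 q12847, e3 q13966 L653630 q12827, e3 q13967 L653641 q12828, e3 q13968 (flp_a L674167) q16058, e3 q13969 L653667 q13619, e3 q13970 (flp_a L674865) q16107, e3 q13971 (flp_a L674879) q16108, e3 q13972 L653701 q13236, e3 q13973 L653715 q13620, e3 q13974 L653729 q12813, e3 q13975 L653745 q13233, e3 q13976 (flp_a L674895) q16109, e3 q13977 L653777 q13153, e3 q13978 L653785 q12815, e3 q13979 L653801 q12816, e3 q13980 (flp_a L674909) q16110, e3 q13981 (flp_a L674925) q16111, e3 q13982 (flp_a L674939) q16112, e3 q13983 L653833 q13257, e3 q13984 L653846 q13266,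 e3 q13985 L653860 q13647, e3 q13986 (flp_a L674951) q16113, e3 q13987 (flp_a L674966) q16114, e3 q13988 (flp_a L674982) q16115, e3 q13989 (flp_a L674997) q16116, e3 q13990 (flp_a L675014) q16117, e3 q13991 (flp_a L675026) q16118, e3 q13992 L653923 q13622, e3 q13993 L653937 q12812, e3 q13994 L653953 q13636, e3 q13995 L653971 q12814, e3 q13996 L653987 q13186, e3 q13997 L654005 q11879, e3 q13998 L654024 q12960, e3 q13999 L654038 q13782, e3 q14000 L654051 q13778, e3 q14001 L654062 q13780, e3 q14002 L654073 q13440, e3 q14003 L654083 q13781, e3 q14004 L654095 q13437, e3 q14005 L654109 q12566, e3 q14006 L654123 q13441, e3 q14007 L654134 q13783, e3 q14008 L654147 q13483, e3 q14009 L654159 q13466, e3 q14010 L654169 q13484, e3 q14011 L654183 q13478, e3 q14012 L654192 q13485, e3 q14013 L654207 q13474, e3 q14014 L654215 q12590, e3 q14015 L654225 q13479, trivial⟩ (by decide +kernel)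

theorem ce_a_219 : ∀ r, r < 64 → sm ga (Qf (14016 + r)) = Qf (tab Gen.a (14016 + r)) :=
  edges_tab (sm ga) Qf (tab Gen.a) 14016 [(14016, 12970), (14017, 12587), (14018, 13475), (14019, 12591), (14020, 13480), (14021, 12599), (14022, 12603), (14023, 12596), (14024, 12600), (14025, 12604), (14026, 12601), (14027, 13747), (14028, 13730), (14029, 13749), (14030, 13726), (14031, 13710), (14032, 13731), (14033, 13740), (14034, 13745), (14035, 13790), (14036, 13741), (14037, 13746), (14038, 11907), (14039, 16207), (14040, 13742), (14041, 14041), (14042, 14042), (14043, 14043), (14044, 13539), (14045, 14045), (14046, 14046), (14047, 14047), (14048, 14048), (14049, 14049), (14050, 14050), (14051, 13791), (14052, 14052), (14053, 11922), (14054, 16220), (14055, 14055), (14056, 12499), (14057, 12500), (14058, 12501), (14059, 12502), (14060, 12503), (14061, 12504), (14062, 12505), (14063, 12506), (14064, 12507), (14065, 12508), (14066, 12509), (14067, 12457), (14068, 12510), (14069, 12511), (14070, 12465), (14071, 12469), (14072, 12403),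 (14073, 12466), (14074, 12470), (14075, 12404), (14076, 11970), (14077, 11971), (14078, 11972), (14079, 11973)]
    ⟨e3 q14016 (flp_a L654244) q12970, e3 q14017 L654250 q12587, e3 q14018 L654264 q13475, e3 q14019 L654275 q12591, e3 q14020 L654288 q13480, e3 q14021 L654299 q12599, e3 q14022 L654310 q12603, e3 q14023 L654322 q12596, e3 q14024 L654332 q12600, e3 q14025 L654343 q12604, e3 q14026 L654355 q12601, e3 q14027 L654368 q13747, e3 q14028 L654383 q13730, e3 q14029 L654398 q13749, e3 q14030 L654410 q13726, e3 q14031 L654419 q13710, e3 q14032 L654433 q13731, e3 q14033 L654445 q13740, e3 q14034 L654456 q13745, e3 q14035 (flp_a L654476) q13790, e3 q14036 L654480 q13741, e3 q14037 L654489 q13746, e3 q14038 (flp_a L654499) q11907, e3 q14039 (flp_a L676153) q16207, e3 q14040 L654526 q13742, e3 q14041 L654537 q14041, e3 q14042 L654553 q14042, e3 q14043 L654569 q14043, e3 q14044 (flp_a L654591) q13539, e3 q14045 L654595 q14045, e3 q14046 L654608 q14046, e3 q14047 L654619 q14047, e3 q14048 L654631 q14048, e3 q14049 L654641 q14049,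 e3 q14050 L654654 q14050, e3 q14051 L654664 q13791, e3 q14052 L654677 q14052, e3 q14053 L654686 q11922, e3 q14054 (flp_a L676320) q16220, e3 q14055 L654708 q14055, e3 q14056 L654719 q12499, e3 q14057 L654735 q12500, e3 q14058 L654749 q12501, e3 q14059 L654760 q12502, e3 q14060 L654775 q12503, e3 q14061 L654789 q12504, e3 q14062 L654800 q12505, e3 q14063 L654811 q12506, e3 q14064 L654823 q12507, e3 q14065 L654831 q12508, e3 q14066 L654844 q12509, e3 q14067 L654858 q12457, e3 q14068 L654873 q12510, e3 q14069 L654884 q12511, e3 q14070 L654900 q12465, e3 q14071 L654913 q12469, e3 q14072 L654929 q12403, e3 q14073 L654945 q12466, e3 q14074 L654958 q12470, e3 q14075 L654970 q12404, e3 q14076 L654980 q11970, e3 q14077 L654994 q11971, e3 q14078 L655005 q11972, e3 q14079 L655014 q11973, trivial⟩ (by decide +kernel)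

theorem ce_a_220 : ∀ r, r < 64 → sm ga (Qf (14080 + r)) = Qf (tab Gen.a (14080 + r)) :=
  edges_tab (sm ga) Qf (tab Gen.a) 14080 [(14080, 11974), (14081, 11975), (14082, 11976), (14083, 11977), (14084, 11978), (14085, 11979), (14086, 11980), (14087, 11981), (14088, 11982), (14089, 11983), (14090, 11984), (14091, 11985), (14092, 11986), (14093, 11987), (14094, 11990), (14095, 11991), (14096, 11992), (14097, 11993), (14098, 11996), (14099, 11997), (14100, 11998), (14101, 11999), (14102, 12000), (14103, 12001), (14104, 12002), (14105, 12003), (14106, 12004), (14107, 12005), (14108, 12007), (14109, 12008), (14110, 12010), (14111, 12014), (14112, 12015), (14113, 12018), (14114, 16158), (14115, 16246), (14116, 16156), (14117, 16247), (14118, 16248), (14119, 16249), (14120, 16250), (14121, 16251), (14122, 16252), (14123, 16253), (14124, 16254), (14125, 12585), (14126, 12529), (14127, 16255), (14128, 13332), (14129, 16256), (14130, 16257), (14131, 16258), (14132, 16259), (14133, 16260), (14134, 16261), (14135, 16262), (14136, 16263),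 (14137, 13706), (14138, 13642), (14139, 16264), (14140, 16327), (14141, 13569), (14142, 16265), (14143, 16266)]
    ⟨e3 q14080 L655023 q11974, e3 q14081 L655031 q11975, e3 q14082 L655041 q11976, e3 q14083 L655055 q11977, e3 q14084 L655069 q11978, e3 q14085 L655078 q11979, e3 q14086 L655089 q11980, e3 q14087 L655101 q11981, e3 q14088 L655109 q11982, e3 q14089 L655121 q11983, e3 q14090 L655132 q11984, e3 q14091 L655145 q11985, e3 q14092 L655159 q11986, e3 q14093 L655171 q11987, e3 q14094 L655179 q11990, e3 q14095 L655194 q11991, e3 q14096 L655209 q11992, e3 q14097 L655220 q11993, e3 q14098 L655229 q11996, e3 q14099 L655240 q11997, e3 q14100 L655252 q11998, e3 q14101 L655267 q11999, e3 q14102 L655278 q12000, e3 q14103 L655291 q12001, e3 q14104 L655301 q12002, e3 q14105 L655311 q12003, e3 q14106 L655321 q12004, e3 q14107 L655333 q12005, e3 q14108 L655347 q12007, e3 q14109 L655362 q12008, e3 q14110 L655377 q12010, e3 q14111 L655392 q12014, e3 q14112 L655406 q12015, e3 q14113 L655420 q12018, e3 q14114 (flp_a L675547) q16158, e3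 q14115 (flp_a L676682) q16246, e3 q14116 (flp_a L675519) q16156, e3 q14117 (flp_a L676694) q16247, e3 q14118 (flp_a L676703) q16248, e3 q14119 (flp_a L676713) q16249, e3 q14120 (flp_a L676724) q16250, e3 q14121 (flp_a L676737) q16251, e3 q14122 (flp_a L676748) q16252, e3 q14123 (flp_a L676763) q16253, e3 q14124 (flp_a L676778) q16254, e3 q14125 L655544 q12585, e3 q14126 L655552 q12529, e3 q14127 (flp_a L676786) q16255, e3 q14128 L655575 q13332, e3 q14129 (flp_a L676800) q16256, e3 q14130 (flp_a L676814) q16257, e3 q14131 (flp_a L676825) q16258, e3 q14132 (flp_a L676838) q16259, e3 q14133 (flp_a L676848) q16260, e3 q14134 (flp_a L676862) q16261, e3 q14135 (flp_a L676876) q16262, e3 q14136 (flp_a L676882) q16263, e3 q14137 L655659 q13706, e3 q14138 L655670 q13642, e3 q14139 (flp_a L676892) q16264, e3 q14140 L677597 q16327, e3 q14141 L655700 q13569, e3 q14142 (flp_a L676905) q16265, e3 q14143 (flp_a L676921) q16266, trivial⟩ (by decide +kernel)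

theorem ce_a_221 : ∀ r, r < 64 → sm ga (Qf (14144 + r)) = Qf (tab Gen.a (14144 + r)) :=
  edges_tab (sm ga) Qf (tab Gen.a) 14144 [(14144, 16267), (14145, 16268), (14146, 11988), (14147, 12563), (14148, 16336), (14149, 12717), (14150, 13507), (14151, 16269), (14152, 16270), (14153, 16271), (14154, 16272), (14155, 13261), (14156, 13643), (14157, 13644), (14158, 16273), (14159, 16274), (14160, 16275), (14161, 16276), (14162, 16277), (14163, 16278), (14164, 16279), (14165, 16280), (14166, 16281), (14167, 16282), (14168, 13707), (14169, 13711), (14170, 16362), (14171, 13716), (14172, 16283), (14173, 13719), (14174, 16284), (14175, 16369), (14176, 13708), (14177, 13712), (14178, 12013), (14179, 16372), (14180, 16285), (14181, 12017), (14182, 16375), (14183, 16286), (14184, 16378), (14185, 14185), (14186, 14186), (14187, 12022), (14188, 16381), (14189, 16382), (14190, 14190), (14191, 14191), (14192, 14192), (14193, 12027), (14194, 16387), (14195, 14195), (14196, 12031), (14197, 16390), (14198, 14198), (14199, 12034), (14200, 16001),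 (14201, 14201), (14202, 14202), (14203, 12043), (14204, 12044), (14205, 12046), (14206, 12047), (14207, 12048)]
    ⟨e3 q14144 (flp_a L676931) q16267, e3 q14145 (flp_a L676945) q16268, e3 q14146 (flp_a L655740) q11988, e3 q14147 L655757 q12563, e3 q14148 (flp_a L677693) q16336, e3 q14149 L655783 q12717, e3 q14150 L655798 q13507, e3 q14151 (flp_a L676953) q16269, e3 q14152 (flp_a L676966) q16270, e3 q14153 (flp_a L676980) q16271, e3 q14154 (flp_a L676995) q16272, e3 q14155 L655842 q13261, e3 q14156 L655855 q13643, e3 q14157 L655868 q13644, e3 q14158 (flp_a L677004) q16273, e3 q14159 (flp_a L677017) q16274, e3 q14160 (flp_a L677029) q16275, e3 q14161 (flp_a L677042) q16276, e3 q14162 (flp_a L677054) q16277, e3 q14163 (flp_a L677066) q16278, e3 q14164 (flp_a L677080) q16279, e3 q14165 (flp_a L677090) q16280, e3 q14166 (flp_a L677101) q16281, e3 q14167 (flp_a L677112) q16282, e3 q14168 L655961 q13707, e3 q14169 L655972 q13711, e3 q14170 L677963 q16362, e3 q14171 L655995 q13716, e3 q14172 (flp_a L677128) q16283, e3 q14173 L656016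 q13719, e3 q14174 (flp_a L677144) q16284, e3 q14175 L678049 q16369, e3 q14176 L656051 q13708, e3 q14177 L656062 q13712, e3 q14178 (flp_a L656072) q12013, e3 q14179 (flp_a L678086) q16372, e3 q14180 (flp_a L677160) q16285, e3 q14181 L656100 q12017, e3 q14182 (flp_a L678112) q16375, e3 q14183 (flp_a L677175) q16286, e3 q14184 L678140 q16378, e3 q14185 L656140 q14185, e3 q14186 L656153 q14186, e3 q14187 (flp_a L656161) q12022, e3 q14188 (flp_a L678180) q16381, e3 q14189 (flp_a L678194) q16382, e3 q14190 L656196 q14190, e3 q14191 L656211 q14191, e3 q14192 L656221 q14192, e3 q14193 (flp_a L656233) q12027, e3 q14194 (flp_a L678256) q16387, e3 q14195 L656253 q14195, e3 q14196 L656262 q12031, e3 q14197 (flp_a L678283) q16390, e3 q14198 L656278 q14198, e3 q14199 L656286 q12034, e3 q14200 (flp_a L673333) q16001, e3 q14201 L656305 q14201, e3 q14202 L656312 q14202, e3 q14203 L656327 q12043, e3 q14204 L656344 q12044, e3 q14205 L656361 q12046, e3 q14206 L656376 q12047, e3 q14207 L656391 q12048, trivial⟩ (by decide +kernel)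

theorem ce_a_222 : ∀ r, r < 64 → sm ga (Qf (14208 + r)) = Qf (tab Gen.a (14208 + r)) :=
  edges_tab (sm ga) Qf (tab Gen.a) 14208 [(14208, 12050), (14209, 12094), (14210, 16393), (14211, 13591), (14212, 16394), (14213, 12084), (14214, 16395), (14215, 12180), (14216, 14216), (14217, 14217), (14218, 14218), (14219, 15977), (14220, 14220), (14221, 14221), (14222, 12135), (14223, 12764), (14224, 13612), (14225, 12766), (14226, 12767), (14227, 12076), (14228, 12077), (14229, 12078), (14230, 12079), (14231, 12080), (14232, 12081), (14233, 12082), (14234, 12083), (14235, 12085), (14236, 12086), (14237, 12087), (14238, 12090), (14239, 12091), (14240, 12092), (14241, 12093), (14242, 12095), (14243, 12096), (14244, 12097), (14245, 12098), (14246, 16411), (14247, 16412), (14248, 16413), (14249, 16414), (14250, 16415), (14251, 16416), (14252, 16417), (14253, 16418), (14254, 16419), (14255, 16420), (14256, 16421), (14257, 16422), (14258, 12191), (14259, 16423), (14260, 16399), (14261, 13110), (14262, 16424), (14263, 16425), (14264, 13583),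 (14265, 16037), (14266, 16426), (14267, 16427), (14268, 16428), (14269, 12183), (14270, 16429), (14271, 16396)]
    ⟨e3 q14208 L656406 q12050, e3 q14209 L656423 q12094, e3 q14210 (flp_a L678312) q16393, e3 q14211 L656450 q13591, e3 q14212 (flp_a L678330) q16394, e3 q14213 L656475 q12084, e3 q14214 (flp_a L678345) q16395, e3 q14215 L656500 q12180, e3 q14216 L656518 q14216, e3 q14217 L656534 q14217, e3 q14218 L656549 q14218, e3 q14219 (flp_a L672979) q15977, e3 q14220 L656573 q14220, e3 q14221 L656586 q14221, e3 q14222 L656596 q12135, e3 q14223 L656611 q12764, e3 q14224 L656624 q13612, e3 q14225 L656637 q12766, e3 q14226 L656647 q12767, e3 q14227 L656660 q12076, e3 q14228 L656674 q12077, e3 q14229 L656686 q12078, e3 q14230 L656701 q12079, e3 q14231 L656713 q12080, e3 q14232 L656723 q12081, e3 q14233 L656731 q12082, e3 q14234 L656745 q12083, e3 q14235 L656758 q12085, e3 q14236 L656769 q12086, e3 q14237 L656784 q12087, e3 q14238 L656794 q12090, e3 q14239 L656804 q12091, e3 q14240 L656815 q12092, e3 q14241 L656827 q12093, e3 q14242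 L656840 q12095, e3 q14243 L656851 q12096, e3 q14244 L656864 q12097, e3 q14245 L656875 q12098, e3 q14246 (flp_a L678582) q16411, e3 q14247 (flp_a L678600) q16412, e3 q14248 (flp_a L678614) q16413, e3 q14249 (flp_a L678626) q16414, e3 q14250 (flp_a L678640) q16415, e3 q14251 (flp_a L678657) q16416, e3 q14252 (flp_a L678670) q16417, e3 q14253 (flp_a L678684) q16418, e3 q14254 (flp_a L678696) q16419, e3 q14255 (flp_a L678708) q16420, e3 q14256 (flp_a L678722) q16421, e3 q14257 (flp_a L678738) q16422, e3 q14258 L657005 q12191, e3 q14259 (flp_a L678748) q16423, e3 q14260 (flp_a L678404) q16399, e3 q14261 L657039 q13110, e3 q14262 (flp_a L678765) q16424, e3 q14263 (flp_a L678781) q16425, e3 q14264 L657069 q13583, e3 q14265 (flp_a L673838) q16037, e3 q14266 (flp_a L678792) q16426, e3 q14267 (flp_a L678809) q16427, e3 q14268 (flp_a L678823) q16428, e3 q14269 L657135 q12183, e3 q14270 (flp_a L678837) q16429, e3 q14271 (flp_a L678361) q16396, trivial⟩ (by decide +kernel)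

theorem ce_a_223 : ∀ r, r < 64 → sm ga (Qf (14272 + r)) = Qf (tab Gen.a (14272 + r)) :=
  edges_tab (sm ga) Qf (tab Gen.a) 14272 [(14272, 16052), (14273, 16430), (14274, 16431), (14275, 14275), (14276, 14276), (14277, 12105), (14278, 16457), (14279, 14279), (14280, 12772), (14281, 13611), (14282, 13573), (14283, 16035), (14284, 16036), (14285, 13574), (14286, 12136), (14287, 12137), (14288, 12138), (14289, 12139), (14290, 12140), (14291, 12141), (14292, 12142), (14293, 12143), (14294, 12144), (14295, 12145), (14296, 12146), (14297, 12147), (14298, 12148), (14299, 12149), (14300, 12150), (14301, 12152), (14302, 12153), (14303, 12157), (14304, 12158), (14305, 12159), (14306, 12160), (14307, 12161), (14308, 16484), (14309, 12163), (14310, 12164), (14311, 16405), (14312, 16406), (14313, 16465), (14314, 16466), (14315, 16467), (14316, 16468), (14317, 16469), (14318, 16470), (14319, 16471), (14320, 16472), (14321, 16473), (14322, 16474), (14323, 16475), (14324, 16476), (14325, 16477), (14326, 16478), (14327, 16514), (14328, 16480),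 (14329, 16481), (14330, 16027), (14331, 16482), (14332, 16483), (14333, 16485), (14334, 16486), (14335, 16030)]
    ⟨e3 q14272 (flp_a L674079) q16052, e3 q14273 (flp_a L678852) q16430, e3 q14274 (flp_a L678866) q16431, e3 q14275 L657204 q14275, e3 q14276 L657219 q14276, e3 q14277 (flp_a L657231) q12105, e3 q14278 (flp_a L679185) q16457, e3 q14279 L657257 q14279, e3 q14280 L657271 q12772, e3 q14281 L657284 q13611, e3 q14282 L657297 q13573, e3 q14283 (flp_a L673803) q16035, e3 q14284 (flp_a L673821) q16036, e3 q14285 L657329 q13574, e3 q14286 L657343 q12136, e3 q14287 L657353 q12137, e3 q14288 L657361 q12138, e3 q14289 L657371 q12139, e3 q14290 L657381 q12140, e3 q14291 L657390 q12141, e3 q14292 L657401 q12142, e3 q14293 L657415 q12143, e3 q14294 L657421 q12144, e3 q14295 L657431 q12145, e3 q14296 L657441 q12146, e3 q14297 L657449 q12147, e3 q14298 L657459 q12148, e3 q14299 L657474 q12149, e3 q14300 L657486 q12150, e3 q14301 L657500 q12152, e3 q14302 L657509 q12153, e3 q14303 L657519 q12157, e3 q14304 L657530 q12158, e3 q14305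 L657540 q12159, e3 q14306 L657553 q12160, e3 q14307 L657563 q12161, e3 q14308 (flp_a L679483) q16484, e3 q14309 L657584 q12163, e3 q14310 L657595 q12164, e3 q14311 (flp_a L678491) q16405, e3 q14312 (flp_a L678508) q16406, e3 q14313 (flp_a L679286) q16465, e3 q14314 (flp_a L679296) q16466, e3 q14315 (flp_a L679304) q16467, e3 q14316 (flp_a L679312) q16468, e3 q14317 (flp_a L679323) q16469, e3 q14318 (flp_a L679332) q16470, e3 q14319 (flp_a L679342) q16471, e3 q14320 (flp_a L679359) q16472, e3 q14321 (flp_a L679367) q16473, e3 q14322 (flp_a L679378) q16474, e3 q14323 (flp_a L679392) q16475, e3 q14324 (flp_a L679406) q16476, e3 q14325 (flp_a L679416) q16477, e3 q14326 (flp_a L679428) q16478, e3 q14327 L679813 q16514, e3 q14328 (flp_a L679444) q16480, e3 q14329 (flp_a L679453) q16481, e3 q14330 (flp_a L673686) q16027, e3 q14331 (flp_a L679465) q16482, e3 q14332 (flp_a L679475) q16483, e3 q14333 (flp_a L679496) q16485, e3 q14334 (flp_a L679509) q16486, e3 q14335 (flp_a L673727) q16030, trivial⟩ (by decide +kernel)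

theorem ce_a_224 : ∀ r, r < 64 → sm ga (Qf (14336 + r)) = Qf (tab Gen.a (14336 + r)) :=
  edges_tab (sm ga) Qf (tab Gen.a) 14336 [(14336, 16032), (14337, 16487), (14338, 16029), (14339, 16031), (14340, 16033), (14341, 16489), (14342, 16490), (14343, 12162), (14344, 16529), (14345, 16492), (14346, 12167), (14347, 16532), (14348, 14348), (14349, 12181), (14350, 12182), (14351, 12184), (14352, 12187), (14353, 12189), (14354, 12190), (14355, 12192), (14356, 12193), (14357, 12258), (14358, 16534), (14359, 13119), (14360, 16453), (14361, 16535), (14362, 13595), (14363, 16106), (14364, 12395), (14365, 12396), (14366, 12244), (14367, 16536), (14368, 16055), (14369, 16448), (14370, 16537), (14371, 14371), (14372, 14372), (14373, 14373), (14374, 14374), (14375, 14375), (14376, 14376), (14377, 14377), (14378, 15986), (14379, 14379), (14380, 14380), (14381, 12201), (14382, 16558), (14383, 14383), (14384, 13087), (14385, 13088), (14386, 13216), (14387, 13758), (14388, 12834), (14389, 12829), (14390, 12835), (14391, 12836), (14392, 12837),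 (14393, 12231), (14394, 12232), (14395, 12233), (14396, 12234), (14397, 12235), (14398, 12236), (14399, 12237)]
    ⟨e3 q14336 (flp_a L673757) q16032, e3 q14337 (flp_a L679522) q16487, e3 q14338 (flp_a L673710) q16029, e3 q14339 (flp_a L673741) q16031, e3 q14340 (flp_a L673770) q16033, e3 q14341 (flp_a L679545) q16489, e3 q14342 (flp_a L679556) q16490, e3 q14343 (flp_a L657904) q12162, e3 q14344 (flp_a L679976) q16529, e3 q14345 (flp_a L679577) q16492, e3 q14346 L657941 q12167, e3 q14347 (flp_a L680010) q16532, e3 q14348 L657969 q14348, e3 q14349 L657984 q12181, e3 q14350 L658001 q12182, e3 q14351 L658018 q12184, e3 q14352 L658028 q12187, e3 q14353 L658038 q12189, e3 q14354 L658054 q12190, e3 q14355 L658070 q12192, e3 q14356 L658080 q12193, e3 q14357 L658098 q12258, e3 q14358 (flp_a L680042) q16534, e3 q14359 L658123 q13119, e3 q14360 (flp_a L679131) q16453, e3 q14361 (flp_a L680060) q16535, e3 q14362 L658153 q13595, e3 q14363 (flp_a L674848) q16106, e3 q14364 L658177 q12395, e3 q14365 L658193 q12396, e3 q14366 L658209 q12244,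 e3 q14367 (flp_a L680074) q16536, e3 q14368 (flp_a L674123) q16055, e3 q14369 (flp_a L679062) q16448, e3 q14370 (flp_a L680091) q16537, e3 q14371 L658258 q14371, e3 q14372 L658274 q14372, e3 q14373 L658289 q14373, e3 q14374 L658301 q14374, e3 q14375 L658316 q14375, e3 q14376 L658324 q14376, e3 q14377 L658337 q14377, e3 q14378 (flp_a L673123) q15986, e3 q14379 L658354 q14379, e3 q14380 L658364 q14380, e3 q14381 (flp_a L658371) q12201, e3 q14382 (flp_a L680378) q16558, e3 q14383 L658389 q14383, e3 q14384 L658398 q13087, e3 q14385 L658413 q13088, e3 q14386 L658426 q13216, e3 q14387 L658441 q13758, e3 q14388 L658452 q12834, e3 q14389 L658463 q12829, e3 q14390 L658471 q12835, e3 q14391 L658484 q12836, e3 q14392 L658495 q12837, e3 q14393 L658508 q12231, e3 q14394 L658523 q12232, e3 q14395 L658533 q12233, e3 q14396 L658541 q12234, e3 q14397 L658549 q12235, e3 q14398 L658559 q12236, e3 q14399 L658571 q12237, trivial⟩ (by decide +kernel)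

theorem ce_a_225 : ∀ r, r < 64 → sm ga (Qf (14400 + r)) = Qf (tab Gen.a (14400 + r)) :=
  edges_tab (sm ga) Qf (tab Gen.a) 14400 [(14400, 12238), (14401, 12239), (14402, 12240), (14403, 12241), (14404, 12242), (14405, 12243), (14406, 12245), (14407, 12246), (14408, 12247), (14409, 12249), (14410, 12250), (14411, 12254), (14412, 12255), (14413, 12256), (14414, 12257), (14415, 12259), (14416, 12260), (14417, 12261), (14418, 16524), (14419, 12263), (14420, 12264), (14421, 13377), (14422, 16570), (14423, 16571), (14424, 16572), (14425, 16573), (14426, 16574), (14427, 16575), (14428, 16576), (14429, 16577), (14430, 16578), (14431, 16579), (14432, 16580), (14433, 16581), (14434, 16582), (14435, 16583), (14436, 16584), (14437, 16585), (14438, 16586), (14439, 16630), (14440, 16440), (14441, 16588), (14442, 16102), (14443, 16589), (14444, 16590), (14445, 16546), (14446, 16591), (14447, 16592), (14448, 16593), (14449, 13265), (14450, 16104), (14451, 16594), (14452, 13646), (14453, 16105), (14454, 16595), (14455, 16538), (14456, 16596),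 (14457, 16597), (14458, 13515), (14459, 16598), (14460, 16539), (14461, 16149), (14462, 16599), (14463, 16600)]
    ⟨e3 q14400 L658583 q12238, e3 q14401 L658593 q12239, e3 q14402 L658599 q12240, e3 q14403 L658611 q12241, e3 q14404 L658619 q12242, e3 q14405 L658625 q12243, e3 q14406 L658633 q12245, e3 q14407 L658645 q12246, e3 q14408 L658656 q12247, e3 q14409 L658666 q12249, e3 q14410 L658672 q12250, e3 q14411 L658681 q12254, e3 q14412 L658693 q12255, e3 q14413 L658704 q12256, e3 q14414 L658716 q12257, e3 q14415 L658729 q12259, e3 q14416 L658740 q12260, e3 q14417 L658751 q12261, e3 q14418 (flp_a L679920) q16524, e3 q14419 L658766 q12263, e3 q14420 L658774 q12264, e3 q14421 L658784 q13377, e3 q14422 (flp_a L680535) q16570, e3 q14423 (flp_a L680552) q16571, e3 q14424 (flp_a L680565) q16572, e3 q14425 (flp_a L680575) q16573, e3 q14426 (flp_a L680583) q16574, e3 q14427 (flp_a L680593) q16575, e3 q14428 (flp_a L680606) q16576, e3 q14429 (flp_a L680619) q16577, e3 q14430 (flp_a L680627) q16578, e3 q14431 (flp_a L680645) q16579,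 e3 q14432 (flp_a L680657) q16580, e3 q14433 (flp_a L680665) q16581, e3 q14434 (flp_a L680679) q16582, e3 q14435 (flp_a L680691) q16583, e3 q14436 (flp_a L680703) q16584, e3 q14437 (flp_a L680715) q16585, e3 q14438 (flp_a L680727) q16586, e3 q14439 L681148 q16630, e3 q14440 (flp_a L678972) q16440, e3 q14441 (flp_a L680747) q16588, e3 q14442 (flp_a L674785) q16102, e3 q14443 (flp_a L680757) q16589, e3 q14444 (flp_a L680765) q16590, e3 q14445 (flp_a L680217) q16546, e3 q14446 (flp_a L680773) q16591, e3 q14447 (flp_a L680788) q16592, e3 q14448 (flp_a L680800) q16593, e3 q14449 L658992 q13265, e3 q14450 (flp_a L674815) q16104, e3 q14451 (flp_a L680811) q16594, e3 q14452 L659018 q13646, e3 q14453 (flp_a L674831) q16105, e3 q14454 (flp_a L680822) q16595, e3 q14455 (flp_a L680103) q16538, e3 q14456 (flp_a L680837) q16596, e3 q14457 (flp_a L680850) q16597, e3 q14458 L659085 q13515, e3 q14459 (flp_a L680863) q16598, e3 q14460 (flp_a L680119) q16539, e3 q14461 (flp_a L675435) q16149, e3 q14462 (flp_a L680876) q16599, e3 q14463 (flp_a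 L680888) q16600, trivial⟩ (by decide +kernel)

theorem ce_a_226 : ∀ r, r < 64 → sm ga (Qf (14464 + r)) = Qf (tab Gen.a (14464 + r)) :=
  edges_tab (sm ga) Qf (tab Gen.a) 14464 [(14464, 12262), (14465, 16658), (14466, 16602), (14467, 14467), (14468, 14468), (14469, 14469), (14470, 16663), (14471, 14471), (14472, 14472), (14473, 14473), (14474, 14474), (14475, 15983), (14476, 14476), (14477, 14477), (14478, 12273), (14479, 16670), (14480, 14480), (14481, 12277), (14482, 16672), (14483, 14483), (14484, 12739), (14485, 13155), (14486, 16097), (14487, 12846), (14488, 12826), (14489, 12849), (14490, 16098), (14491, 16099), (14492, 13617), (14493, 16100), (14494, 16101), (14495, 13221), (14496, 16103), (14497, 13618), (14498, 12319), (14499, 12320), (14500, 12321), (14501, 12322), (14502, 12323), (14503, 12324), (14504, 12325), (14505, 12326), (14506, 12327), (14507, 12328), (14508, 12329), (14509, 12330), (14510, 12331), (14511, 12332), (14512, 12333), (14513, 12334), (14514, 12335), (14515, 12336), (14516, 16719), (14517, 12338),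 (14518, 12339), (14519, 12341), (14520, 12342), (14521, 12343), (14522, 12344), (14523, 12345), (14524, 12346), (14525, 12347), (14526, 12350), (14527, 12354)]
    ⟨e3 q14464 (flp_a L659136) q12262, e3 q14465 (flp_a L681428) q16658, e3 q14466 (flp_a L680911) q16602, e3 q14467 L659160 q14467, e3 q14468 L659177 q14468, e3 q14469 L659191 q14469, e3 q14470 L681489 q16663, e3 q14471 L659215 q14471, e3 q14472 L659229 q14472, e3 q14473 L659242 q14473, e3 q14474 L659251 q14474, e3 q14475 (flp_a L673072) q15983, e3 q14476 L659272 q14476, e3 q14477 L659287 q14477, e3 q14478 (flp_a L659297) q12273, e3 q14479 (flp_a L681579) q16670, e3 q14480 L659311 q14480, e3 q14481 L659323 q12277, e3 q14482 (flp_a L681597) q16672, e3 q14483 L659337 q14483, e3 q14484 L659353 q12739, e3 q14485 L659368 q13155, e3 q14486 (flp_a L674701) q16097, e3 q14487 L659391 q12846, e3 q14488 L659402 q12826, e3 q14489 L659414 q12849, e3 q14490 (flp_a L674720) q16098, e3 q14491 (flp_a L674739) q16099, e3 q14492 L659445 q13617, e3 q14493 (flp_a L674754) q16100, e3 q14494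 (flp_a L674770) q16101, e3 q14495 L659473 q13221, e3 q14496 (flp_a L674803) q16103, e3 q14497 L659490 q13618, e3 q14498 L659505 q12319, e3 q14499 L659519 q12320, e3 q14500 L659528 q12321, e3 q14501 L659537 q12322, e3 q14502 L659545 q12323, e3 q14503 L659553 q12324, e3 q14504 L659561 q12325, e3 q14505 L659570 q12326, e3 q14506 L659577 q12327, e3 q14507 L659585 q12328, e3 q14508 L659595 q12329, e3 q14509 L659607 q12330, e3 q14510 L659615 q12331, e3 q14511 L659627 q12332, e3 q14512 L659633 q12333, e3 q14513 L659643 q12334, e3 q14514 L659651 q12335, e3 q14515 L659659 q12336, e3 q14516 L682066 q16719, e3 q14517 L659673 q12338, e3 q14518 L659680 q12339, e3 q14519 L659690 q12341, e3 q14520 L659698 q12342, e3 q14521 L659704 q12343, e3 q14522 L659716 q12344, e3 q14523 L659731 q12345, e3 q14524 L659739 q12346, e3 q14525 L659748 q12347, e3 q14526 L659758 q12350, e3 q14527 L659766 q12354, trivial⟩ (by decide +kernel)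

theorem ce_a_227 : ∀ r, r < 64 → sm ga (Qf (14528 + r)) = Qf (tab Gen.a (14528 + r)) :=
  edges_tab (sm ga) Qf (tab Gen.a) 14528 [(14528, 12355), (14529, 12356), (14530, 12357), (14531, 12358), (14532, 12359), (14533, 12360), (14534, 12361), (14535, 16742), (14536, 12363), (14537, 12364), (14538, 12316), (14539, 16745), (14540, 12367), (14541, 16689), (14542, 16690), (14543, 16563), (14544, 16691), (14545, 16692), (14546, 16693), (14547, 16694), (14548, 16695), (14549, 16696), (14550, 16697), (14551, 16698), (14552, 13165), (14553, 16700), (14554, 16701), (14555, 16063), (14556, 16702), (14557, 16703), (14558, 16704), (14559, 16705), (14560, 16706), (14561, 16707), (14562, 16708), (14563, 16709), (14564, 16710), (14565, 16711), (14566, 16712), (14567, 16788), (14568, 16714), (14569, 16715), (14570, 16716), (14571, 16717), (14572, 16718), (14573, 12337), (14574, 13152), (14575, 16797), (14576, 16075), (14577, 16722), (14578, 16723), (14579, 16072), (14580, 16077), (14581, 16724), (14582, 16725), (14583, 16726), (14584, 16727),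 (14585, 16081), (14586, 16728), (14587, 16729), (14588, 16079), (14589, 16082), (14590, 16084), (14591, 16730)]
    ⟨e3 q14528 L659777 q12355, e3 q14529 L659787 q12356, e3 q14530 L659798 q12357, e3 q14531 L659807 q12358, e3 q14532 L659818 q12359, e3 q14533 L659829 q12360, e3 q14534 L659839 q12361, e3 q14535 L682300 q16742, e3 q14536 L659858 q12363, e3 q14537 L659867 q12364, e3 q14538 (flp_a L659874) q12316, e3 q14539 (flp_a L682331) q16745, e3 q14540 L659893 q12367, e3 q14541 (flp_a L681784) q16689, e3 q14542 (flp_a L681800) q16690, e3 q14543 (flp_a L680448) q16563, e3 q14544 (flp_a L681812) q16691, e3 q14545 (flp_a L681821) q16692, e3 q14546 (flp_a L681831) q16693, e3 q14547 (flp_a L681840) q16694, e3 q14548 (flp_a L681848) q16695, e3 q14549 (flp_a L681856) q16696, e3 q14550 (flp_a L681865) q16697, e3 q14551 (flp_a L681874) q16698, e3 q14552 (flp_a L659999) q13165, e3 q14553 (flp_a L681895) q16700, e3 q14554 (flp_a L681907) q16701, e3 q14555 (flp_a L674248) q16063, e3 q14556 (flp_a L681916) q16702, e3 q14557 (flp_a L681923)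 q16703, e3 q14558 (flp_a L681931) q16704, e3 q14559 (flp_a L681943) q16705, e3 q14560 (flp_a L681951) q16706, e3 q14561 (flp_a L681963) q16707, e3 q14562 (flp_a L681973) q16708, e3 q14563 (flp_a L681981) q16709, e3 q14564 (flp_a L681991) q16710, e3 q14565 (flp_a L682001) q16711, e3 q14566 (flp_a L682013) q16712, e3 q14567 L682703 q16788, e3 q14568 (flp_a L682027) q16714, e3 q14569 (flp_a L682036) q16715, e3 q14570 (flp_a L682046) q16716, e3 q14571 (flp_a L682052) q16717, e3 q14572 (flp_a L682062) q16718, e3 q14573 (flp_a L660153) q12337, e3 q14574 L660167 q13152, e3 q14575 (flp_a L682784) q16797, e3 q14576 (flp_a L674405) q16075, e3 q14577 (flp_a L682099) q16722, e3 q14578 (flp_a L682108) q16723, e3 q14579 (flp_a L674375) q16072, e3 q14580 (flp_a L674424) q16077, e3 q14581 (flp_a L682116) q16724, e3 q14582 (flp_a L682122) q16725, e3 q14583 (flp_a L682134) q16726, e3 q14584 (flp_a L682147) q16727, e3 q14585 (flp_a L674475) q16081, e3 q14586 (flp_a L682161) q16728, e3 q14587 (flp_a L682170) q16729, e3 q14588 (flp_a L674446)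 q16079, e3 q14589 (flp_a L674487) q16082, e3 q14590 (flp_a L674514) q16084, e3 q14591 (flp_a L682180) q16730, trivial⟩ (by decide +kernel)

theorem ce_a_228 : ∀ r, r < 64 → sm ga (Qf (14592 + r)) = Qf (tab Gen.a (14592 + r)) :=
  edges_tab (sm ga) Qf (tab Gen.a) 14592 [(14592, 16080), (14593, 16083), (14594, 16731), (14595, 16732), (14596, 16733), (14597, 16734), (14598, 16822), (14599, 16347), (14600, 16736), (14601, 16737), (14602, 16738), (14603, 16740), (14604, 16741), (14605, 12362), (14606, 16830), (14607, 16744), (14608, 12366), (14609, 16833), (14610, 16747), (14611, 14611), (14612, 14612), (14613, 12371), (14614, 16837), (14615, 16838), (14616, 14616), (14617, 14617), (14618, 14618), (14619, 12378), (14620, 16843), (14621, 12381), (14622, 15985), (14623, 14623), (14624, 14624), (14625, 12397), (14626, 12398), (14627, 12400), (14628, 12401), (14629, 12497), (14630, 16545), (14631, 16648), (14632, 16844), (14633, 16845), (14634, 13528), (14635, 13372), (14636, 16221), (14637, 13654), (14638, 16244), (14639, 16005),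 (14640, 14640), (14641, 13765), (14642, 13001), (14643, 13003), (14644, 12996), (14645, 13004), (14646, 12993), (14647, 12997), (14648, 13005), (14649, 12445), (14650, 12446), (14651, 12447), (14652, 12448), (14653, 12449), (14654, 12450), (14655, 12452)]
    ⟨e3 q14592 (flp_a L674458) q16080, e3 q14593 (flp_a L674498) q16083, e3 q14594 (flp_a L682185) q16731, e3 q14595 (flp_a L682196) q16732, e3 q14596 (flp_a L682205) q16733, e3 q14597 (flp_a L682216) q16734, e3 q14598 L682986 q16822, e3 q14599 (flp_a L677814) q16347, e3 q14600 (flp_a L682237) q16736, e3 q14601 (flp_a L682247) q16737, e3 q14602 (flp_a L682259) q16738, e3 q14603 (flp_a L682280) q16740, e3 q14604 (flp_a L682291) q16741, e3 q14605 (flp_a L660434) q12362, e3 q14606 (flp_a L683070) q16830, e3 q14607 (flp_a L682321) q16744, e3 q14608 L660465 q12366, e3 q14609 (flp_a L683098) q16833, e3 q14610 (flp_a L682350) q16747, e3 q14611 L660489 q14611, e3 q14612 L660501 q14612, e3 q14613 (flp_a L660509) q12371, e3 q14614 (flp_a L683130) q16837, e3 q14615 (flp_a L683143)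 q16838, e3 q14616 L660547 q14616, e3 q14617 L660561 q14617, e3 q14618 L660575 q14618, e3 q14619 L660584 q12378, e3 q14620 (flp_a L683208) q16843, e3 q14621 L660608 q12381, e3 q14622 (flp_a L673105) q15985, e3 q14623 L660632 q14623, e3 q14624 L660646 q14624, e3 q14625 L660654 q12397, e3 q14626 L660669 q12398, e3 q14627 L660679 q12400, e3 q14628 L660694 q12401, e3 q14629 L660705 q12497, e3 q14630 (flp_a L680200) q16545, e3 q14631 (flp_a L681316) q16648, e3 q14632 (flp_a L683221) q16844, e3 q14633 (flp_a L683237) q16845, e3 q14634 L660767 q13528, e3 q14635 L660781 q13372, e3 q14636 (flp_a L676334) q16221, e3 q14637 L660804 q13654, e3 q14638 (flp_a L676652) q16244, e3 q14639 (flp_a L673373) q16005, e3 q14640 L660834 q14640, e3 q14641 L660850 q13765, e3 q14642 L660863 q13001, e3 q14643 L660874 q13003, e3 q14644 L660886 q12996, e3 q14645 L660896 q13004, e3 q14646 L660909 q12993, e3 q14647 L660923 q12997, e3 q14648 L660934 q13005, e3 q14649 L660946 q12445, e3 q14650 L660959 q12446, e3 q14651 L660969 q12447, e3 q14652 L660981 q12448,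 e3 q14653 L660993 q12449, e3 q14654 L661004 q12450, e3 q14655 L661017 q12452, trivial⟩ (by decide +kernel)

theorem ce_a_229 : ∀ r, r < 64 → sm ga (Qf (14656 + r)) = Qf (tab Gen.a (14656 + r)) :=
  edges_tab (sm ga) Qf (tab Gen.a) 14656 [(14656, 12453), (14657, 12458), (14658, 12459), (14659, 12460), (14660, 12461), (14661, 12462), (14662, 12463), (14663, 12464), (14664, 12467), (14665, 12471), (14666, 12473), (14667, 13522), (14668, 13346), (14669, 13519), (14670, 13342), (14671, 13320), (14672, 13347), (14673, 13323), (14674, 13350), (14675, 13327), (14676, 13328), (14677, 13334), (14678, 13335), (14679, 16863), (14680, 16864), (14681, 16865), (14682, 13309), (14683, 16866), (14684, 16867), (14685, 13311), (14686, 16868), (14687, 16869), (14688, 12967), (14689, 13313), (14690, 13314), (14691, 16870), (14692, 16871), (14693, 16872), (14694, 12973), (14695, 13315), (14696, 13316), (14697, 16236), (14698, 16239), (14699, 16873), (14700, 16651), (14701, 16874), (14702, 16875), (14703, 16241), (14704, 16876), (14705, 16877),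 (14706, 13640), (14707, 16242), (14708, 16245), (14709, 16878), (14710, 13641), (14711, 16243), (14712, 13517), (14713, 16879), (14714, 13308), (14715, 13514), (14716, 13518), (14717, 13416), (14718, 13306), (14719, 13310)]
    ⟨e3 q14656 L661029 q12453, e3 q14657 L661039 q12458, e3 q14658 L661050 q12459, e3 q14659 L661063 q12460, e3 q14660 L661073 q12461, e3 q14661 L661082 q12462, e3 q14662 L661087 q12463, e3 q14663 L661095 q12464, e3 q14664 L661104 q12467, e3 q14665 L661112 q12471, e3 q14666 L661124 q12473, e3 q14667 L661137 q13522, e3 q14668 L661148 q13346, e3 q14669 L661159 q13519, e3 q14670 L661172 q13342, e3 q14671 L661182 q13320, e3 q14672 L661194 q13347, e3 q14673 L661206 q13323, e3 q14674 L661217 q13350, e3 q14675 L661229 q13327, e3 q14676 L661240 q13328, e3 q14677 L661250 q13334, e3 q14678 L661260 q13335, e3 q14679 (flp_a L683463) q16863, e3 q14680 (flp_a L683474) q16864, e3 q14681 (flp_a L683486) q16865, e3 q14682 L661298 q13309, e3 q14683 (flp_a L683498) q16866, e3 q14684 (flp_a L683508) q16867, e3 q14685 L661322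 q13311, e3 q14686 (flp_a L683520) q16868, e3 q14687 (flp_a L683533) q16869, e3 q14688 L661361 q12967, e3 q14689 L661367 q13313, e3 q14690 L661383 q13314, e3 q14691 (flp_a L683544) q16870, e3 q14692 (flp_a L683554) q16871, e3 q14693 (flp_a L683566) q16872, e3 q14694 L661411 q12973, e3 q14695 L661424 q13315, e3 q14696 L661437 q13316, e3 q14697 (flp_a L676540) q16236, e3 q14698 (flp_a L676580) q16239, e3 q14699 (flp_a L683578) q16873, e3 q14700 (flp_a L681356) q16651, e3 q14701 (flp_a L683589) q16874, e3 q14702 (flp_a L683600) q16875, e3 q14703 (flp_a L676606) q16241, e3 q14704 (flp_a L683610) q16876, e3 q14705 (flp_a L683616) q16877, e3 q14706 L661516 q13640, e3 q14707 (flp_a L676621) q16242, e3 q14708 (flp_a L676668) q16245, e3 q14709 (flp_a L683625) q16878, e3 q14710 L661552 q13641, e3 q14711 (flp_a L676635) q16243, e3 q14712 L661574 q13517, e3 q14713 (flp_a L683633) q16879, e3 q14714 L661600 q13308, e3 q14715 L661614 q13514, e3 q14716 L661630 q13518, e3 q14717 L661652 q13416, e3 q14718 L661660 q13306, e3 q14719 L661676 q13310,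 trivial⟩ (by decide +kernel)

theorem ce_a_230 : ∀ r, r < 64 → sm ga (Qf (14720 + r)) = Qf (tab Gen.a (14720 + r)) :=
  edges_tab (sm ga) Qf (tab Gen.a) 14720 [(14720, 13516), (14721, 13312), (14722, 13764), (14723, 14723), (14724, 14724), (14725, 14725), (14726, 14726), (14727, 13540), (14728, 13786), (14729, 14729), (14730, 13307), (14731, 16223), (14732, 16224), (14733, 16225), (14734, 16226), (14735, 16227), (14736, 16228), (14737, 16229), (14738, 16230), (14739, 16231), (14740, 16232), (14741, 16233), (14742, 16234), (14743, 16235), (14744, 16237), (14745, 16238), (14746, 16240), (14747, 12552), (14748, 12553), (14749, 12554), (14750, 12555), (14751, 12556), (14752, 12557), (14753, 12558), (14754, 12559), (14755, 12561), (14756, 12562), (14757, 12567), (14758, 12568), (14759, 12569), (14760, 12570), (14761, 12571), (14762, 12572), (14763, 12573), (14764, 12574), (14765, 12575), (14766, 12576), (14767, 12577), (14768, 16300), (14769, 12579), (14770, 12580), (14771, 12581), (14772, 12582), (14773, 12583), (14774, 16306),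 (14775, 12588), (14776, 12589), (14777, 12592), (14778, 12593), (14779, 12594), (14780, 12595), (14781, 12597), (14782, 12598), (14783, 12602)]
    ⟨e3 q14720 L661688 q13516, e3 q14721 L661702 q13312, e3 q14722 L661717 q13764, e3 q14723 L661733 q14723, e3 q14724 L661749 q14724, e3 q14725 L661766 q14725, e3 q14726 L661781 q14726, e3 q14727 L661800 q13540, e3 q14728 L661814 q13786, e3 q14729 L661830 q14729, e3 q14730 L661839 q13307, e3 q14731 (flp_a L676364) q16223, e3 q14732 (flp_a L676382) q16224, e3 q14733 (flp_a L676396) q16225, e3 q14734 (flp_a L676408) q16226, e3 q14735 (flp_a L676422) q16227, e3 q14736 (flp_a L676435) q16228, e3 q14737 (flp_a L676450) q16229, e3 q14738 (flp_a L676466) q16230, e3 q14739 (flp_a L676479) q16231, e3 q14740 (flp_a L676489) q16232, e3 q14741 (flp_a L676502) q16233, e3 q14742 (flp_a L676513) q16234, e3 q14743 (flp_a L676527) q16235, e3 q14744 (flp_a L676556) q16237, e3 q14745 (flp_a L676566) q16238, e3 q14746 (flp_a L676595) q16240, e3 q14747 L662001 q12552, e3 q14748 L662016 q12553, e3 q14749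 L662027 q12554, e3 q14750 L662044 q12555, e3 q14751 L662054 q12556, e3 q14752 L662066 q12557, e3 q14753 L662078 q12558, e3 q14754 L662089 q12559, e3 q14755 L662101 q12561, e3 q14756 L662112 q12562, e3 q14757 L662122 q12567, e3 q14758 L662132 q12568, e3 q14759 L662145 q12569, e3 q14760 L662156 q12570, e3 q14761 L662164 q12571, e3 q14762 L662174 q12572, e3 q14763 L662186 q12573, e3 q14764 L662192 q12574, e3 q14765 L662202 q12575, e3 q14766 L662215 q12576, e3 q14767 L662224 q12577, e3 q14768 (flp_a L677326) q16300, e3 q14769 L662243 q12579, e3 q14770 L662254 q12580, e3 q14771 L662264 q12581, e3 q14772 L662270 q12582, e3 q14773 L662280 q12583, e3 q14774 (flp_a L677387) q16306, e3 q14775 L662295 q12588, e3 q14776 L662305 q12589, e3 q14777 L662318 q12592, e3 q14778 L662325 q12593, e3 q14779 L662333 q12594, e3 q14780 L662343 q12595, e3 q14781 L662352 q12597, e3 q14782 L662359 q12598, e3 q14783 L662369 q12602, trivial⟩ (by decide +kernel)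

theorem ce_a_231 : ∀ r, r < 64 → sm ga (Qf (14784 + r)) = Qf (tab Gen.a (14784 + r)) :=
  edges_tab (sm ga) Qf (tab Gen.a) 14784 [(14784, 12605), (14785, 12606), (14786, 12607), (14787, 12608), (14788, 12609), (14789, 17010), (14790, 12611), (14791, 12612), (14792, 12613), (14793, 12616), (14794, 12548), (14795, 17015), (14796, 12551), (14797, 13521), (14798, 16959), (14799, 16960), (14800, 16961), (14801, 16962), (14802, 16963), (14803, 16964), (14804, 13566), (14805, 16965), (14806, 16966), (14807, 13567), (14808, 16967), (14809, 16968), (14810, 16328), (14811, 13570), (14812, 13505), (14813, 16969), (14814, 16970), (14815, 16971), (14816, 16337), (14817, 12936), (14818, 13508), (14819, 13477), (14820, 16165), (14821, 16168), (14822, 16972), (14823, 16973), (14824, 16974), (14825, 16975), (14826, 16976), (14827, 16977), (14828, 17063), (14829, 16979), (14830, 16980), (14831, 16981), (14832, 16982), (14833, 16983), (14834, 17073), (14835, 16984), (14836, 16985), (14837, 16986), (14838, 16987), (14839, 16988), (14840, 12578),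 (14841, 16299), (14842, 17082), (14843, 16990), (14844, 16991), (14845, 16992), (14846, 16182), (14847, 16993)]
    ⟨e3 q14784 L662375 q12605, e3 q14785 L662387 q12606, e3 q14786 L662397 q12607, e3 q14787 L662409 q12608, e3 q14788 L662419 q12609, e3 q14789 L685011 q17010, e3 q14790 L662443 q12611, e3 q14791 L662454 q12612, e3 q14792 L662466 q12613, e3 q14793 L662478 q12616, e3 q14794 (flp_a L662490) q12548, e3 q14795 (flp_a L685071) q17015, e3 q14796 L662516 q12551, e3 q14797 L662529 q13521, e3 q14798 (flp_a L684477) q16959, e3 q14799 (flp_a L684492) q16960, e3 q14800 (flp_a L684499) q16961, e3 q14801 (flp_a L684512) q16962, e3 q14802 (flp_a L684527) q16963, e3 q14803 (flp_a L684539) q16964, e3 q14804 L662593 q13566, e3 q14805 (flp_a L684551) q16965, e3 q14806 (flp_a L684561) q16966, e3 q14807 L662619 q13567, e3 q14808 (flp_a L684573) q16967, e3 q14809 (flp_a L684585) q16968, e3 q14810 (flp_a L677613) q16328, e3 q14811 L662653 q13570, e3 q14812 L662665 q13505, e3 q14813 (flp_a L684596) q16969, e3 q14814 (flp_a L684605) q16970,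 e3 q14815 (flp_a L684616) q16971, e3 q14816 (flp_a L677708) q16337, e3 q14817 L662702 q12936, e3 q14818 L662717 q13508, e3 q14819 L662728 q13477, e3 q14820 (flp_a L675636) q16165, e3 q14821 (flp_a L675673) q16168, e3 q14822 (flp_a L684628) q16972, e3 q14823 (flp_a L684639) q16973, e3 q14824 (flp_a L684648) q16974, e3 q14825 (flp_a L684659) q16975, e3 q14826 (flp_a L684673) q16976, e3 q14827 (flp_a L684679) q16977, e3 q14828 L685495 q17063, e3 q14829 (flp_a L684701) q16979, e3 q14830 (flp_a L684711) q16980, e3 q14831 (flp_a L684723) q16981, e3 q14832 (flp_a L684729) q16982, e3 q14833 (flp_a L684737) q16983, e3 q14834 L685565 q17073, e3 q14835 (flp_a L684745) q16984, e3 q14836 (flp_a L684759) q16985, e3 q14837 (flp_a L684772) q16986, e3 q14838 (flp_a L684780) q16987, e3 q14839 (flp_a L684791) q16988, e3 q14840 (flp_a L662881) q12578, e3 q14841 (flp_a L677318) q16299, e3 q14842 (flp_a L685641) q17082, e3 q14843 (flp_a L684808) q16990, e3 q14844 (flp_a L684817) q16991, e3 q14845 (flp_a L684828) q16992, e3 q14846 (flp_a L675841)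 q16182, e3 q14847 (flp_a L684840) q16993, trivial⟩ (by decide +kernel)

theorem ce_a_232 : ∀ r, r < 64 → sm ga (Qf (14848 + r)) = Qf (tab Gen.a (14848 + r)) :=
  edges_tab (sm ga) Qf (tab Gen.a) 14848 [(14848, 16994), (14849, 12586), (14850, 12969), (14851, 16305), (14852, 17094), (14853, 16180), (14854, 16186), (14855, 16996), (14856, 13439), (14857, 16177), (14858, 16183), (14859, 16188), (14860, 16997), (14861, 16998), (14862, 16999), (14863, 17000), (14864, 16189), (14865, 16192), (14866, 17001), (14867, 17002), (14868, 16190), (14869, 16193), (14870, 16194), (14871, 17003), (14872, 16191), (14873, 17004), (14874, 17005), (14875, 17006), (14876, 17125), (14877, 17007), (14878, 17008), (14879, 17009), (14880, 13548), (14881, 12610), (14882, 17132), (14883, 17133), (14884, 17013), (14885, 17014), (14886, 13551), (14887, 13552), (14888, 12615), (14889, 17142), (14890, 13554), (14891, 12619), (14892, 17145), (14893, 13430), (14894, 12622), (14895, 16340), (14896, 13438), (14897, 13547), (14898, 14898), (14899, 14899), (14900,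 14900), (14901, 12627), (14902, 13544), (14903, 17148), (14904, 12633), (14905, 12634), (14906, 12677), (14907, 17149), (14908, 17150), (14909, 14909), (14910, 14910), (14911, 14911)]
    ⟨e3 q14848 (flp_a L684848) q16994, e3 q14849 L662942 q12586, e3 q14850 L662951 q12969, e3 q14851 (flp_a L677373) q16305, e3 q14852 (flp_a L685727) q17094, e3 q14853 (flp_a L675818) q16180, e3 q14854 (flp_a L675888) q16186, e3 q14855 (flp_a L684867) q16996, e3 q14856 L663004 q13439, e3 q14857 (flp_a L675780) q16177, e3 q14858 (flp_a L675851) q16183, e3 q14859 (flp_a L675911) q16188, e3 q14860 (flp_a L684878) q16997, e3 q14861 (flp_a L684885) q16998, e3 q14862 (flp_a L684892) q16999, e3 q14863 (flp_a L684901) q17000, e3 q14864 (flp_a L675922) q16189, e3 q14865 (flp_a L675959) q16192, e3 q14866 (flp_a L684912) q17001, e3 q14867 (flp_a L684920) q17002, e3 q14868 (flp_a L675932) q16190, e3 q14869 (flp_a L675970) q16193, e3 q14870 (flp_a L675982) q16194, e3 q14871 (flp_a L684927) q17003, e3 q14872 (flp_a L675944) q16191, e3 q14873 (flp_a L684934)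 q17004, e3 q14874 (flp_a L684947) q17005, e3 q14875 (flp_a L684960) q17006, e3 q14876 L685999 q17125, e3 q14877 (flp_a L684974) q17007, e3 q14878 (flp_a L684987) q17008, e3 q14879 (flp_a L685001) q17009, e3 q14880 L663195 q13548, e3 q14881 (flp_a L663207) q12610, e3 q14882 (flp_a L686083) q17132, e3 q14883 (flp_a L686096) q17133, e3 q14884 (flp_a L685051) q17013, e3 q14885 (flp_a L685058) q17014, e3 q14886 L663254 q13551, e3 q14887 L663266 q13552, e3 q14888 (flp_a L663277) q12615, e3 q14889 (flp_a L686194) q17142, e3 q14890 L663301 q13554, e3 q14891 L663313 q12619, e3 q14892 (flp_a L686229) q17145, e3 q14893 L663333 q13430, e3 q14894 L663343 q12622, e3 q14895 (flp_a L677746) q16340, e3 q14896 L663366 q13438, e3 q14897 L663385 q13547, e3 q14898 L663389 q14898, e3 q14899 L663403 q14899, e3 q14900 L663418 q14900, e3 q14901 (flp_a L663432) q12627, e3 q14902 L663447 q13544, e3 q14903 (flp_a L686261) q17148, e3 q14904 L663470 q12633, e3 q14905 L663484 q12634, e3 q14906 L663493 q12677, e3 q14907 (flp_a L686274) q17149, e3 q14908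 (flp_a L686290) q17150, e3 q14909 L663531 q14909, e3 q14910 L663547 q14910, e3 q14911 L663558 q14911, trivial⟩ (by decide +kernel)

theorem ce_a_233 : ∀ r, r < 64 → sm ga (Qf (14912 + r)) = Qf (tab Gen.a (14912 + r)) :=
  edges_tab (sm ga) Qf (tab Gen.a) 14912 [(14912, 12640), (14913, 17153), (14914, 14914), (14915, 12643), (14916, 16000), (14917, 14917), (14918, 13520), (14919, 13343), (14920, 13174), (14921, 13348), (14922, 13340), (14923, 13344), (14924, 12674), (14925, 12675), (14926, 12676), (14927, 12679), (14928, 12695), (14929, 12696), (14930, 12699), (14931, 12670), (14932, 17163), (14933, 12706), (14934, 13355), (14935, 13032), (14936, 17159), (14937, 17160), (14938, 13026), (14939, 17161), (14940, 17151), (14941, 13494), (14942, 13492), (14943, 17175), (14944, 13488), (14945, 13498), (14946, 13499), (14947, 13687), (14948, 13502), (14949, 12685), (14950, 17181), (14951, 12688), (14952, 12704), (14953, 13536), (14954, 12691), (14955, 13533), (14956, 13559), (14957, 13560), (14958, 17162), (14959, 13558), (14960,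 12698), (14961, 13562), (14962, 13546), (14963, 12705), (14964, 17185), (14965, 17164), (14966, 13563), (14967, 13550), (14968, 13422), (14969, 13542), (14970, 12711), (14971, 17192), (14972, 13425), (14973, 12714), (14974, 16339), (14975, 13429)]
    ⟨e3 q14912 L663568 q12640, e3 q14913 (flp_a L686332) q17153, e3 q14914 L663587 q14914, e3 q14915 L663595 q12643, e3 q14916 (flp_a L673320) q16000, e3 q14917 L663613 q14917, e3 q14918 L663621 q13520, e3 q14919 L663635 q13343, e3 q14920 L663645 q13174, e3 q14921 L663656 q13348, e3 q14922 L663668 q13340, e3 q14923 L663680 q13344, e3 q14924 L663693 q12674, e3 q14925 L663708 q12675, e3 q14926 L663722 q12676, e3 q14927 L663735 q12679, e3 q14928 L663749 q12695, e3 q14929 L663764 q12696, e3 q14930 L663778 q12699, e3 q14931 (flp_a L663791) q12670, e3 q14932 (flp_a L686469) q17163, e3 q14933 L663822 q12706, e3 q14934 L663838 q13355, e3 q14935 L663851 q13032, e3 q14936 (flp_a L686405) q17159, e3 q14937 (flp_a L686422) q17160, e3 q14938 L663876 q13026, e3 q14939 (flp_a L686436) q17161,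 e3 q14940 (flp_a L686303) q17151, e3 q14941 L663906 q13494, e3 q14942 L663918 q13492, e3 q14943 L686608 q17175, e3 q14944 L663942 q13488, e3 q14945 L663956 q13498, e3 q14946 L663968 q13499, e3 q14947 L663990 q13687, e3 q14948 L663995 q13502, e3 q14949 (flp_a L664006) q12685, e3 q14950 (flp_a L686691) q17181, e3 q14951 L664032 q12688, e3 q14952 L664046 q12704, e3 q14953 L664071 q13536, e3 q14954 (flp_a L664074) q12691, e3 q14955 L664093 q13533, e3 q14956 L664108 q13559, e3 q14957 L664128 q13560, e3 q14958 (flp_a L686451) q17162, e3 q14959 L664154 q13558, e3 q14960 (flp_a L664169) q12698, e3 q14961 L664187 q13562, e3 q14962 L664201 q13546, e3 q14963 L664211 q12705, e3 q14964 (flp_a L686745) q17185, e3 q14965 (flp_a L686485) q17164, e3 q14966 L664245 q13563, e3 q14967 L664259 q13550, e3 q14968 L664272 q13422, e3 q14969 L664284 q13542, e3 q14970 L664296 q12711, e3 q14971 (flp_a L686818) q17192, e3 q14972 L664320 q13425, e3 q14973 L664331 q12714, e3 q14974 (flp_a L677732) q16339, e3 q14975 L664350 q13429, trivial⟩ (by decide +kernel)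

theorem ce_a_234 : ∀ r, r < 64 → sm ga (Qf (14976 + r)) = Qf (tab Gen.a (14976 + r)) :=
  edges_tab (sm ga) Qf (tab Gen.a) 14976 [(14976, 12721), (14977, 15996), (14978, 12725), (14979, 15999), (14980, 12769), (14981, 12759), (14982, 12760), (14983, 13098), (14984, 13061), (14985, 13065), (14986, 12762), (14987, 12763), (14988, 12765), (14989, 12768), (14990, 12771), (14991, 16048), (14992, 16021), (14993, 16022), (14994, 16043), (14995, 17196), (14996, 16459), (14997, 16045), (14998, 16046), (14999, 16407), (15000, 17199), (15001, 17200), (15002, 16408), (15003, 16409), (15004, 16410), (15005, 16042), (15006, 16044), (15007, 16460), (15008, 12775), (15009, 12818), (15010, 12821), (15011, 12822), (15012, 13222), (15013, 13225), (15014, 13238), (15015, 13251), (15016, 13239), (15017, 13245), (15018, 13249), (15019, 13631), (15020, 13170), (15021, 13162), (15022, 13171), (15023, 13167), (15024, 12819), (15025, 12820), (15026, 12824), (15027, 12825), (15028, 12830), (15029, 12831), (15030, 12832), (15031, 12833), (15032, 12838),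 (15033, 12839), (15034, 12840), (15035, 12843), (15036, 12845), (15037, 12848), (15038, 16131), (15039, 16155)]
    ⟨e3 q14976 L664361 q12721, e3 q14977 (flp_a L673262) q15996, e3 q14978 L664383 q12725, e3 q14979 (flp_a L673307) q15999, e3 q14980 L664400 q12769, e3 q14981 L664416 q12759, e3 q14982 L664430 q12760, e3 q14983 L664446 q13098, e3 q14984 L664458 q13061, e3 q14985 L664472 q13065, e3 q14986 L664487 q12762, e3 q14987 L664501 q12763, e3 q14988 L664509 q12765, e3 q14989 L664524 q12768, e3 q14990 L664540 q12771, e3 q14991 (flp_a L674021) q16048, e3 q14992 (flp_a L673583) q16021, e3 q14993 (flp_a L673599) q16022, e3 q14994 (flp_a L673939) q16043, e3 q14995 (flp_a L686860) q17196, e3 q14996 (flp_a L679211) q16459, e3 q14997 (flp_a L673974) q16045, e3 q14998 (flp_a L673991) q16046, e3 q14999 (flp_a L678521) q16407, e3 q15000 (flp_a L686900) q17199, e3 q15001 (flp_a L686914) q17200, e3 q15002 (flp_a L678537) q16408, e3 q15003 (flp_a L678552) q16409, e3 q15004 (flp_a L678568) q16410, e3 q15005 (flp_a L673920) q16042, e3 q15006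 (flp_a L673957) q16044, e3 q15007 (flp_a L679225) q16460, e3 q15008 L664738 q12775, e3 q15009 L664752 q12818, e3 q15010 L664766 q12821, e3 q15011 L664780 q12822, e3 q15012 L664796 q13222, e3 q15013 L664804 q13225, e3 q15014 L664814 q13238, e3 q15015 L664822 q13251, e3 q15016 L664836 q13239, e3 q15017 L664848 q13245, e3 q15018 L664858 q13249, e3 q15019 L664868 q13631, e3 q15020 L664876 q13170, e3 q15021 L664889 q13162, e3 q15022 L664903 q13171, e3 q15023 L664918 q13167, e3 q15024 L664928 q12819, e3 q15025 L664934 q12820, e3 q15026 L664946 q12824, e3 q15027 L664960 q12825, e3 q15028 L664968 q12830, e3 q15029 L664978 q12831, e3 q15030 L664984 q12832, e3 q15031 L664997 q12833, e3 q15032 L665012 q12838, e3 q15033 L665027 q12839, e3 q15034 L665042 q12840, e3 q15035 L665055 q12843, e3 q15036 L665068 q12845, e3 q15037 L665082 q12848, e3 q15038 (flp_a L675207) q16131, e3 q15039 (flp_a L675501) q16155, trivial⟩ (by decide +kernel)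

theorem ce_a_235 : ∀ r, r < 64 → sm ga (Qf (15040 + r)) = Qf (tab Gen.a (15040 + r)) :=
  edges_tab (sm ga) Qf (tab Gen.a) 15040 [(15040, 16135), (15041, 16140), (15042, 16141), (15043, 16142), (15044, 16059), (15045, 17212), (15046, 17213), (15047, 16120), (15048, 17226), (15049, 17227), (15050, 16122), (15051, 17214), (15052, 16676), (15053, 16124), (15054, 16125), (15055, 17228), (15056, 17229), (15057, 17230), (15058, 16615), (15059, 16678), (15060, 16126), (15061, 16127), (15062, 16128), (15063, 16566), (15064, 16568), (15065, 17231), (15066, 16564), (15067, 17232), (15068, 16565), (15069, 16567), (15070, 16569), (15071, 17233), (15072, 16119), (15073, 17234), (15074, 16674), (15075, 13481), (15076, 16121), (15077, 13748), (15078, 16675), (15079, 16123), (15080, 16677), (15081, 16061), (15082, 16562), (15083, 16064), (15084, 12853), (15085, 17281), (15086, 12856), (15087, 17282), (15088, 12859), (15089, 17283), (15090, 12862), (15091, 15984), (15092, 15092), (15093, 12864), (15094, 17284), (15095, 15095), (15096, 12868),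 (15097, 17287), (15098, 15098), (15099, 12961), (15100, 12959), (15101, 13431), (15102, 13779), (15103, 13426)]
    ⟨e3 q15040 (flp_a L675257) q16135, e3 q15041 (flp_a L675325) q16140, e3 q15042 (flp_a L675341) q16141, e3 q15043 (flp_a L675357) q16142, e3 q15044 (flp_a L674187) q16059, e3 q15045 (flp_a L687045) q17212, e3 q15046 (flp_a L687057) q17213, e3 q15047 (flp_a L675057) q16120, e3 q15048 (flp_a L687212) q17226, e3 q15049 (flp_a L687218) q17227, e3 q15050 (flp_a L675085) q16122, e3 q15051 (flp_a L687073) q17214, e3 q15052 (flp_a L681649) q16676, e3 q15053 (flp_a L675116) q16124, e3 q15054 (flp_a L675131) q16125, e3 q15055 (flp_a L687226) q17228, e3 q15056 (flp_a L687238) q17229, e3 q15057 (flp_a L687252) q17230, e3 q15058 (flp_a L681032) q16615, e3 q15059 (flp_a L681672) q16678, e3 q15060 (flp_a L675143) q16126, e3 q15061 (flp_a L675158) q16127, e3 q15062 (flp_a L675169) q16128, e3 q15063 (flp_a L680489) q16566, e3 q15064 (flp_a L680510) q16568, e3 q15065 (flp_a L687260) q17231, e3 q15066 (flp_a L680465) q16564, e3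 q15067 (flp_a L687270) q17232, e3 q15068 (flp_a L680478) q16565, e3 q15069 (flp_a L680497) q16567, e3 q15070 (flp_a L680520) q16569, e3 q15071 (flp_a L687285) q17233, e3 q15072 (flp_a L675041) q16119, e3 q15073 (flp_a L687302) q17234, e3 q15074 (flp_a L681624) q16674, e3 q15075 L665435 q13481, e3 q15076 (flp_a L675071) q16121, e3 q15077 L665454 q13748, e3 q15078 (flp_a L681638) q16675, e3 q15079 (flp_a L675101) q16123, e3 q15080 (flp_a L681661) q16677, e3 q15081 (flp_a L674217) q16061, e3 q15082 (flp_a L680433) q16562, e3 q15083 (flp_a L674259) q16064, e3 q15084 (flp_a L665518) q12853, e3 q15085 (flp_a L687769) q17281, e3 q15086 (flp_a L665545) q12856, e3 q15087 (flp_a L687784) q17282, e3 q15088 L665564 q12859, e3 q15089 (flp_a L687794) q17283, e3 q15090 L665585 q12862, e3 q15091 (flp_a L673088) q15984, e3 q15092 L665609 q15092, e3 q15093 (flp_a L665619) q12864, e3 q15094 (flp_a L687806) q17284, e3 q15095 L665643 q15095, e3 q15096 L665653 q12868, e3 q15097 (flp_a L687841) q17287, e3 q15098 L665676 q15098, e3 q15099 L665684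 q12961, e3 q15100 L665697 q12959, e3 q15101 L665710 q13431, e3 q15102 L665720 q13779, e3 q15103 L665731 q13426, trivial⟩ (by decide +kernel)

theorem ce_a_236 : ∀ r, r < 64 → sm ga (Qf (15104 + r)) = Qf (tab Gen.a (15104 + r)) :=
  edges_tab (sm ga) Qf (tab Gen.a) 15104 [(15104, 13763), (15105, 13432), (15106, 13442), (15107, 13457), (15108, 13482), (15109, 13463), (15110, 13451), (15111, 13467), (15112, 13455), (15113, 13458), (15114, 17308), (15115, 13464), (15116, 13468), (15117, 12885), (15118, 17311), (15119, 13476), (15120, 17314), (15121, 13727), (15122, 13732), (15123, 17317), (15124, 13717), (15125, 13720), (15126, 12893), (15127, 17320), (15128, 13728), (15129, 12897), (15130, 17323), (15131, 13743), (15132, 12899), (15133, 17326), (15134, 15134), (15135, 12902), (15136, 17329), (15137, 15137), (15138, 12906), (15139, 17331), (15140, 15140), (15141, 12909), (15142, 16851), (15143, 15143), (15144, 13374), (15145, 13376), (15146, 13337), (15147, 13329), (15148, 13339), (15149, 13324), (15150, 13338), (15151, 13330),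 (15152, 13336), (15153, 12962), (15154, 12963), (15155, 12964), (15156, 12965), (15157, 12966), (15158, 12968), (15159, 12971), (15160, 12974), (15161, 12975), (15162, 12976), (15163, 12977), (15164, 12978), (15165, 12979), (15166, 12980), (15167, 12981)]
    ⟨e3 q15104 L665744 q13763, e3 q15105 L665758 q13432, e3 q15106 L665770 q13442, e3 q15107 L665783 q13457, e3 q15108 L665793 q13482, e3 q15109 L665807 q13463, e3 q15110 L665815 q13451, e3 q15111 L665823 q13467, e3 q15112 L665833 q13455, e3 q15113 L665844 q13458, e3 q15114 L688076 q17308, e3 q15115 L665867 q13464, e3 q15116 L665879 q13468, e3 q15117 (flp_a L665889) q12885, e3 q15118 (flp_a L688114) q17311, e3 q15119 L665917 q13476, e3 q15120 L688145 q17314, e3 q15121 L665933 q13727, e3 q15122 L665941 q13732, e3 q15123 L688173 q17317, e3 q15124 L665962 q13717, e3 q15125 L665973 q13720, e3 q15126 (flp_a L665985) q12893, e3 q15127 (flp_a L688210) q17320, e3 q15128 L666008 q13728, e3 q15129 L666019 q12897, e3 q15130 (flp_a L688242) q17323, e3 q15131 L666040 q13743, e3 q15132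 (flp_a L666046) q12899, e3 q15133 (flp_a L688270) q17326, e3 q15134 L666066 q15134, e3 q15135 (flp_a L666072) q12902, e3 q15136 (flp_a L688302) q17329, e3 q15137 L666092 q15137, e3 q15138 L666103 q12906, e3 q15139 (flp_a L688322) q17331, e3 q15140 L666119 q15140, e3 q15141 L666133 q12909, e3 q15142 (flp_a L683315) q16851, e3 q15143 L666148 q15143, e3 q15144 L666159 q13374, e3 q15145 L666173 q13376, e3 q15146 L666189 q13337, e3 q15147 L666202 q13329, e3 q15148 L666210 q13339, e3 q15149 L666221 q13324, e3 q15150 L666234 q13338, e3 q15151 L666248 q13330, e3 q15152 L666260 q13336, e3 q15153 L666271 q12962, e3 q15154 L666279 q12963, e3 q15155 L666288 q12964, e3 q15156 L666301 q12965, e3 q15157 L666315 q12966, e3 q15158 L666324 q12968, e3 q15159 L666332 q12971, e3 q15160 L666340 q12974, e3 q15161 L666349 q12975, e3 q15162 L666358 q12976, e3 q15163 L666366 q12977, e3 q15164 L666378 q12978, e3 q15165 L666386 q12979, e3 q15166 L666390 q12980, e3 q15167 L666398 q12981, trivial⟩ (by decide +kernel)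

theorem ce_a_237 : ∀ r, r < 64 → sm ga (Qf (15168 + r)) = Qf (tab Gen.a (15168 + r)) :=
  edges_tab (sm ga) Qf (tab Gen.a) 15168 [(15168, 12982), (15169, 12983), (15170, 17047), (15171, 12985), (15172, 12986), (15173, 12987), (15174, 12988), (15175, 12989), (15176, 17048), (15177, 12994), (15178, 12995), (15179, 12998), (15180, 12999), (15181, 13000), (15182, 13002), (15183, 13006), (15184, 13007), (15185, 13008), (15186, 13009), (15187, 13010), (15188, 17382), (15189, 13012), (15190, 13013), (15191, 13014), (15192, 13015), (15193, 17389), (15194, 13017), (15195, 13018), (15196, 12953), (15197, 17392), (15198, 13021), (15199, 12957), (15200, 17395), (15201, 13024), (15202, 17292), (15203, 17293), (15204, 16157), (15205, 17290), (15206, 17291), (15207, 17340), (15208, 17341), (15209, 17342), (15210, 17343), (15211, 17344), (15212, 17095), (15213, 16179), (15214, 17345), (15215, 16899), (15216, 16909), (15217, 17346), (15218, 13471), (15219, 17096), (15220, 16185), (15221, 17347), (15222, 13326), (15223, 13333), (15224, 16916),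 (15225, 17348), (15226, 17349), (15227, 17350), (15228, 17351), (15229, 17352), (15230, 17439), (15231, 17354)]
    ⟨e3 q15168 L666407 q12982, e3 q15169 L666420 q12983, e3 q15170 (flp_a L685361) q17047, e3 q15171 L666435 q12985, e3 q15172 L666444 q12986, e3 q15173 L666454 q12987, e3 q15174 L666462 q12988, e3 q15175 L666474 q12989, e3 q15176 (flp_a L685375) q17048, e3 q15177 L666491 q12994, e3 q15178 L666501 q12995, e3 q15179 L666508 q12998, e3 q15180 L666519 q12999, e3 q15181 L666532 q13000, e3 q15182 L666546 q13002, e3 q15183 L666557 q13006, e3 q15184 L666570 q13007, e3 q15185 L666580 q13008, e3 q15186 L666589 q13009, e3 q15187 L666602 q13010, e3 q15188 L688835 q17382, e3 q15189 L666621 q13012, e3 q15190 L666631 q13013, e3 q15191 L666639 q13014, e3 q15192 L666651 q13015, e3 q15193 L688903 q17389, e3 q15194 L666669 q13017, e3 q15195 L666679 q13018, e3 q15196 (flp_a L666689) q12953, e3 q15197 (flp_a L688935) q17392, e3 q15198 L666708 q13021, e3 q15199 L666718 q12957, e3 q15200 (flp_a L688963) q17395, e3 q15201 L666739 q13024,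 e3 q15202 (flp_a L687899) q17292, e3 q15203 (flp_a L687911) q17293, e3 q15204 (flp_a L675535) q16157, e3 q15205 (flp_a L687872) q17290, e3 q15206 (flp_a L687884) q17291, e3 q15207 (flp_a L688429) q17340, e3 q15208 (flp_a L688438) q17341, e3 q15209 (flp_a L688444) q17342, e3 q15210 (flp_a L688452) q17343, e3 q15211 (flp_a L688464) q17344, e3 q15212 (flp_a L685734) q17095, e3 q15213 L675812 q16179, e3 q15214 (flp_a L688477) q17345, e3 q15215 (flp_a L683855) q16899, e3 q15216 (flp_a L683940) q16909, e3 q15217 (flp_a L688486) q17346, e3 q15218 L666899 q13471, e3 q15219 (flp_a L685747) q17096, e3 q15220 (flp_a L675873) q16185, e3 q15221 (flp_a L688496) q17347, e3 q15222 L666936 q13326, e3 q15223 L666946 q13333, e3 q15224 (flp_a L684016) q16916, e3 q15225 (flp_a L688505) q17348, e3 q15226 (flp_a L688512) q17349, e3 q15227 (flp_a L688523) q17350, e3 q15228 (flp_a L688533) q17351, e3 q15229 (flp_a L688539) q17352, e3 q15230 L689388 q17439, e3 q15231 (flp_a L688557) q17354, trivial⟩ (by decide +kernel)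

theorem ce_a_238 : ∀ r, r < 64 → sm ga (Qf (15232 + r)) = Qf (tab Gen.a (15232 + r)) :=
  edges_tab (sm ga) Qf (tab Gen.a) 15232 [(15232, 17355), (15233, 17356), (15234, 17357), (15235, 17358), (15236, 17449), (15237, 17360), (15238, 17361), (15239, 17362), (15240, 17363), (15241, 17364), (15242, 12984), (15243, 17457), (15244, 17458), (15245, 17366), (15246, 17367), (15247, 17368), (15248, 16855), (15249, 17369), (15250, 17370), (15251, 12991), (15252, 12992), (15253, 13435), (15254, 17469), (15255, 17470), (15256, 16859), (15257, 16861), (15258, 17372), (15259, 17373), (15260, 16857), (15261, 16860), (15262, 16862), (15263, 17374), (15264, 16854), (15265, 16856), (15266, 16858), (15267, 17375), (15268, 17376), (15269, 17169), (15270, 17378), (15271, 17379), (15272, 17380), (15273, 17381), (15274, 13011), (15275, 17166), (15276, 17490), (15277, 17385), (15278, 17386), (15279, 17387), (15280, 17388), (15281, 13016), (15282, 17498), (15283, 17391), (15284, 13020), (15285, 17501), (15286, 17394), (15287, 13023), (15288, 16357),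 (15289, 17397), (15290, 15290), (15291, 17171), (15292, 15292), (15293, 15293), (15294, 15294), (15295, 13033)]
    ⟨e3 q15232 (flp_a L688563) q17355, e3 q15233 (flp_a L688573) q17356, e3 q15234 (flp_a L688581) q17357, e3 q15235 (flp_a L688587) q17358, e3 q15236 L689454 q17449, e3 q15237 (flp_a L688602) q17360, e3 q15238 (flp_a L688614) q17361, e3 q15239 (flp_a L688625) q17362, e3 q15240 (flp_a L688637) q17363, e3 q15241 (flp_a L688650) q17364, e3 q15242 (flp_a L667098) q12984, e3 q15243 (flp_a L689535) q17457, e3 q15244 (flp_a L689548) q17458, e3 q15245 (flp_a L688667) q17366, e3 q15246 (flp_a L688674) q17367, e3 q15247 (flp_a L688685) q17368, e3 q15248 (flp_a L683363) q16855, e3 q15249 (flp_a L688693) q17369, e3 q15250 (flp_a L688703) q17370, e3 q15251 L667171 q12991, e3 q15252 L667185 q12992, e3 q15253 L667194 q13435, e3 q15254 (flp_a L689636) q17469, e3 q15255 (flp_a L689650) q17470, e3 q15256 (flp_a L683413) q16859, e3 q15257 (flp_a L683436) q16861, e3 q15258 (flp_a L688722) q17372, e3 q15259 (flp_a L688731) q17373,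 e3 q15260 (flp_a L683388) q16857, e3 q15261 (flp_a L683426) q16860, e3 q15262 (flp_a L683450) q16862, e3 q15263 (flp_a L688740) q17374, e3 q15264 (flp_a L683352) q16854, e3 q15265 (flp_a L683375) q16856, e3 q15266 (flp_a L683399) q16858, e3 q15267 (flp_a L688755) q17375, e3 q15268 (flp_a L688767) q17376, e3 q15269 (flp_a L686541) q17169, e3 q15270 (flp_a L688789) q17378, e3 q15271 (flp_a L688801) q17379, e3 q15272 (flp_a L688811) q17380, e3 q15273 (flp_a L688825) q17381, e3 q15274 (flp_a L667367) q13011, e3 q15275 (flp_a L686512) q17166, e3 q15276 (flp_a L689813) q17490, e3 q15277 (flp_a L688865) q17385, e3 q15278 (flp_a L688874) q17386, e3 q15279 (flp_a L688885) q17387, e3 q15280 (flp_a L688894) q17388, e3 q15281 (flp_a L667415) q13016, e3 q15282 (flp_a L689866) q17498, e3 q15283 (flp_a L688924) q17391, e3 q15284 L667445 q13020, e3 q15285 (flp_a L689893) q17501, e3 q15286 (flp_a L688954) q17394, e3 q15287 L667469 q13023, e3 q15288 (flp_a L677909) q16357, e3 q15289 (flp_a L688983) q17397, e3 q15290 L667489 q15290, e3 q15291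 (flp_a L686561) q17171, e3 q15292 L667508 q15292, e3 q15293 L667520 q15293, e3 q15294 L667532 q15294, e3 q15295 L667541 q13033, trivial⟩ (by decide +kernel)

theorem ce_a_239 : ∀ r, r < 64 → sm ga (Qf (15296 + r)) = Qf (tab Gen.a (15296 + r)) :=
  edges_tab (sm ga) Qf (tab Gen.a) 15296 [(15296, 17167), (15297, 17506), (15298, 15298), (15299, 15299), (15300, 15300), (15301, 13039), (15302, 17509), (15303, 13042), (15304, 15998), (15305, 13056), (15306, 13057), (15307, 13058), (15308, 13059), (15309, 13060), (15310, 13062), (15311, 16488), (15312, 13066), (15313, 13067), (15314, 16515), (15315, 17510), (15316, 17511), (15317, 16501), (15318, 17512), (15319, 17198), (15320, 17513), (15321, 17515), (15322, 13085), (15323, 13086), (15324, 13089), (15325, 13090), (15326, 13091), (15327, 13093), (15328, 13096), (15329, 13099), (15330, 13104), (15331, 13108), (15332, 13112), (15333, 13115), (15334, 16463), (15335, 17523), (15336, 17524), (15337, 16561), (15338, 16049), (15339, 17207), (15340, 17525), (15341, 16445), (15342, 16050),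 (15343, 17526), (15344, 13094), (15345, 16461), (15346, 17537), (15347, 16026), (15348, 16047), (15349, 17527), (15350, 16024), (15351, 16028), (15352, 17197), (15353, 16023), (15354, 16025), (15355, 16053), (15356, 15978), (15357, 17528), (15358, 16450), (15359, 16054)]
    ⟨e3 q15296 (flp_a L686522) q17167, e3 q15297 (flp_a L689940) q17506, e3 q15298 L667564 q15298, e3 q15299 L667580 q15299, e3 q15300 L667589 q15300, e3 q15301 L667601 q13039, e3 q15302 (flp_a L689969) q17509, e3 q15303 L667623 q13042, e3 q15304 (flp_a L673291) q15998, e3 q15305 L667645 q13056, e3 q15306 L667659 q13057, e3 q15307 L667674 q13058, e3 q15308 L667688 q13059, e3 q15309 L667704 q13060, e3 q15310 L667712 q13062, e3 q15311 (flp_a L679540) q16488, e3 q15312 L667727 q13066, e3 q15313 L667736 q13067, e3 q15314 (flp_a L679831) q16515, e3 q15315 (flp_a L689981) q17510, e3 q15316 (flp_a L689995) q17511, e3 q15317 L679696 q16501, e3 q15318 (flp_a L690009) q17512, e3 q15319 (flp_a L686886) q17198, e3 q15320 (flp_a L690019) q17513, e3 q15321 (flp_a L690035)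 q17515, e3 q15322 L667805 q13085, e3 q15323 L667814 q13086, e3 q15324 L667822 q13089, e3 q15325 L667828 q13090, e3 q15326 L667837 q13091, e3 q15327 L667853 q13093, e3 q15328 L667861 q13096, e3 q15329 L667871 q13099, e3 q15330 L667877 q13104, e3 q15331 L667887 q13108, e3 q15332 L667896 q13112, e3 q15333 L667906 q13115, e3 q15334 (flp_a L679265) q16463, e3 q15335 (flp_a L690096) q17523, e3 q15336 (flp_a L690105) q17524, e3 q15337 (flp_a L680420) q16561, e3 q15338 (flp_a L674039) q16049, e3 q15339 (flp_a L686993) q17207, e3 q15340 (flp_a L690113) q17525, e3 q15341 (flp_a L679032) q16445, e3 q15342 (flp_a L674055) q16050, e3 q15343 (flp_a L690121) q17526, e3 q15344 (flp_a L667979) q13094, e3 q15345 (flp_a L679240) q16461, e3 q15346 (flp_a L690200) q17537, e3 q15347 (flp_a L673670) q16026, e3 q15348 (flp_a L674005) q16047, e3 q15349 (flp_a L690127) q17527, e3 q15350 (flp_a L673636) q16024, e3 q15351 (flp_a L673698) q16028, e3 q15352 (flp_a L686874) q17197, e3 q15353 (flp_a L673616) q16023, e3 q15354 (flp_a L673652) q16025, e3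 q15355 (flp_a L674094) q16053, e3 q15356 (flp_a L672993) q15978, e3 q15357 (flp_a L690135) q17528, e3 q15358 (flp_a L679093) q16450, e3 q15359 (flp_a L674108) q16054, trivial⟩ (by decide +kernel)

theorem ce_a_240 : ∀ r, r < 64 → sm ga (Qf (15360 + r)) = Qf (tab Gen.a (15360 + r)) :=
  edges_tab (sm ga) Qf (tab Gen.a) 15360 [(15360, 13114), (15361, 17549), (15362, 17529), (15363, 15363), (15364, 16541), (15365, 13122), (15366, 17552), (15367, 13125), (15368, 13149), (15369, 13150), (15370, 13151), (15371, 13154), (15372, 13156), (15373, 13157), (15374, 13158), (15375, 13159), (15376, 13160), (15377, 13161), (15378, 13163), (15379, 13166), (15380, 13168), (15381, 13172), (15382, 13173), (15383, 13175), (15384, 16739), (15385, 13176), (15386, 13177), (15387, 13146), (15388, 17571), (15389, 13180), (15390, 17553), (15391, 17554), (15392, 16789), (15393, 17555), (15394, 16720), (15395, 16798), (15396, 16139), (15397, 17556), (15398, 17557), (15399, 17558), (15400, 17559), (15401, 17560), (15402, 17561), (15403, 17562), (15404,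 16760), (15405, 17563), (15406, 17222), (15407, 17224), (15408, 17564), (15409, 13164), (15410, 16699), (15411, 17595), (15412, 16766), (15413, 17565), (15414, 17225), (15415, 17223), (15416, 16922), (15417, 17567), (15418, 17157), (15419, 17568), (15420, 17570), (15421, 13179), (15422, 17605), (15423, 17573)]
    ⟨e3 q15360 L668114 q13114, e3 q15361 (flp_a L690300) q17549, e3 q15362 (flp_a L690147) q17529, e3 q15363 L668140 q15363, e3 q15364 (flp_a L680145) q16541, e3 q15365 L668162 q13122, e3 q15366 (flp_a L690325) q17552, e3 q15367 L668180 q13125, e3 q15368 L668190 q13149, e3 q15369 L668203 q13150, e3 q15370 L668217 q13151, e3 q15371 L668232 q13154, e3 q15372 L668238 q13156, e3 q15373 L668252 q13157, e3 q15374 L668258 q13158, e3 q15375 L668270 q13159, e3 q15376 L668284 q13160, e3 q15377 L668300 q13161, e3 q15378 L668308 q13163, e3 q15379 L668316 q13166, e3 q15380 L668324 q13168, e3 q15381 L668330 q13172, e3 q15382 L668343 q13173, e3 q15383 L668350 q13175, e3 q15384 (flp_a L682275) q16739, e3 q15385 L668366 q13176, e3 q15386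 L668375 q13177, e3 q15387 (flp_a L668384) q13146, e3 q15388 (flp_a L690514) q17571, e3 q15389 L668399 q13180, e3 q15390 (flp_a L690335) q17553, e3 q15391 (flp_a L690347) q17554, e3 q15392 (flp_a L682719) q16789, e3 q15393 (flp_a L690362) q17555, e3 q15394 (flp_a L682082) q16720, e3 q15395 (flp_a L682796) q16798, e3 q15396 (flp_a L675307) q16139, e3 q15397 (flp_a L690376) q17556, e3 q15398 (flp_a L690384) q17557, e3 q15399 (flp_a L690396) q17558, e3 q15400 (flp_a L690412) q17559, e3 q15401 (flp_a L690420) q17560, e3 q15402 (flp_a L690426) q17561, e3 q15403 (flp_a L690434) q17562, e3 q15404 L682476 q16760, e3 q15405 (flp_a L690448) q17563, e3 q15406 (flp_a L687161) q17222, e3 q15407 (flp_a L687188) q17224, e3 q15408 (flp_a L690458) q17564, e3 q15409 (flp_a L668532) q13164, e3 q15410 (flp_a L681887) q16699, e3 q15411 (flp_a L690683) q17595, e3 q15412 (flp_a L682519) q16766, e3 q15413 (flp_a L690466) q17565, e3 q15414 (flp_a L687202) q17225, e3 q15415 (flp_a L687173) q17223, e3 q15416 (flp_a L684083) q16922, e3 q15417 (flp_a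 L690478) q17567, e3 q15418 (flp_a L686379) q17157, e3 q15419 (flp_a L690486) q17568, e3 q15420 (flp_a L690504) q17570, e3 q15421 L668615 q13179, e3 q15422 (flp_a L690748) q17605, e3 q15423 (flp_a L690537) q17573, trivial⟩ (by decide +kernel)

theorem ce_a_241 : ∀ r, r < 64 → sm ga (Qf (15424 + r)) = Qf (tab Gen.a (15424 + r)) :=
  edges_tab (sm ga) Qf (tab Gen.a) 15424 [(15424, 15424), (15425, 13184), (15426, 16542), (15427, 15427), (15428, 13217), (15429, 13218), (15430, 13219), (15431, 13220), (15432, 16686), (15433, 13223), (15434, 13226), (15435, 13227), (15436, 13228), (15437, 13229), (15438, 13230), (15439, 13231), (15440, 13232), (15441, 13234), (15442, 13237), (15443, 13240), (15444, 13201), (15445, 17625), (15446, 13246), (15447, 13255), (15448, 13256), (15449, 13259), (15450, 13262), (15451, 13263), (15452, 13264), (15453, 13267), (15454, 13270), (15455, 13214), (15456, 17633), (15457, 13273), (15458, 17608), (15459, 17609), (15460, 17610), (15461, 16684), (15462, 17611), (15463, 17612), (15464, 16633), (15465,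 16687), (15466, 16062), (15467, 17215), (15468, 17614), (15469, 16060), (15470, 17216), (15471, 17615), (15472, 17616), (15473, 16136), (15474, 17617), (15475, 17618), (15476, 17655), (15477, 17619), (15478, 17620), (15479, 17217), (15480, 17621), (15481, 17622), (15482, 16636), (15483, 16137), (15484, 17623), (15485, 13235), (15486, 16682), (15487, 17667)]
    ⟨e3 q15424 L668635 q15424, e3 q15425 L668642 q13184, e3 q15426 (flp_a L680160) q16542, e3 q15427 L668654 q15427, e3 q15428 L668661 q13217, e3 q15429 L668669 q13218, e3 q15430 L668676 q13219, e3 q15431 L668685 q13220, e3 q15432 (flp_a L681763) q16686, e3 q15433 L668698 q13223, e3 q15434 L668705 q13226, e3 q15435 L668711 q13227, e3 q15436 L668721 q13228, e3 q15437 L668729 q13229, e3 q15438 L668741 q13230, e3 q15439 L668749 q13231, e3 q15440 L668755 q13232, e3 q15441 L668763 q13234, e3 q15442 L668771 q13237, e3 q15443 L668781 q13240, e3 q15444 (flp_a L668785) q13201, e3 q15445 (flp_a L690902) q17625, e3 q15446 L668799 q13246, e3 q15447 L668805 q13255, e3 q15448 L668813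 q13256, e3 q15449 L668822 q13259, e3 q15450 L668833 q13262, e3 q15451 L668841 q13263, e3 q15452 L668852 q13264, e3 q15453 L668860 q13267, e3 q15454 L668870 q13270, e3 q15455 L668881 q13214, e3 q15456 (flp_a L690965) q17633, e3 q15457 L668898 q13273, e3 q15458 (flp_a L690771) q17608, e3 q15459 (flp_a L690780) q17609, e3 q15460 (flp_a L690786) q17610, e3 q15461 (flp_a L681741) q16684, e3 q15462 (flp_a L690794) q17611, e3 q15463 (flp_a L690803) q17612, e3 q15464 (flp_a L681168) q16633, e3 q15465 (flp_a L681769) q16687, e3 q15466 (flp_a L674232) q16062, e3 q15467 (flp_a L687087) q17215, e3 q15468 (flp_a L690816) q17614, e3 q15469 (flp_a L674203) q16060, e3 q15470 (flp_a L687099) q17216, e3 q15471 (flp_a L690824) q17615, e3 q15472 (flp_a L690830) q17616, e3 q15473 (flp_a L675273) q16136, e3 q15474 (flp_a L690840) q17617, e3 q15475 (flp_a L690848) q17618, e3 q15476 L691111 q17655, e3 q15477 (flp_a L690858) q17619, e3 q15478 (flp_a L690864) q17620, e3 q15479 (flp_a L687111) q17217, e3 q15480 (flp_a L690874) q17621, e3 q15481 (flp_a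 L690882) q17622, e3 q15482 (flp_a L681190) q16636, e3 q15483 (flp_a L675285) q16137, e3 q15484 (flp_a L690888) q17623, e3 q15485 (flp_a L669065) q13235, e3 q15486 (flp_a L681716) q16682, e3 q15487 (flp_a L691187) q17667, trivial⟩ (by decide +kernel)

theorem ce_a_242 : ∀ r, r < 64 → sm ga (Qf (15488 + r)) = Qf (tab Gen.a (15488 + r)) :=
  edges_tab (sm ga) Qf (tab Gen.a) 15488 [(15488, 16129), (15489, 16134), (15490, 17624), (15491, 16067), (15492, 17218), (15493, 17219), (15494, 13242), (15495, 13243), (15496, 16613), (15497, 17678), (15498, 17679), (15499, 16071), (15500, 16076), (15501, 17220), (15502, 17627), (15503, 16069), (15504, 16073), (15505, 16078), (15506, 16066), (15507, 16068), (15508, 16070), (15509, 16146), (15510, 17628), (15511, 16640), (15512, 16147), (15513, 15997), (15514, 17629), (15515, 13260), (15516, 16925), (15517, 17694), (15518, 16324), (15519, 16348), (15520, 17630), (15521, 17631), (15522, 16643), (15523, 16148), (15524, 13269), (15525, 17704), (15526, 17632), (15527, 13272), (15528, 17707),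 (15529, 17635), (15530, 15530), (15531, 13275), (15532, 16847), (15533, 17711), (15534, 15534), (15535, 15535), (15536, 13281), (15537, 13282), (15538, 17155), (15539, 17714), (15540, 17715), (15541, 15541), (15542, 15542), (15543, 13288), (15544, 17718), (15545, 13291), (15546, 17719), (15547, 15547), (15548, 13294), (15549, 16151), (15550, 15988), (15551, 15551)]
    ⟨e3 q15488 (flp_a L675181) q16129, e3 q15489 (flp_a L675241) q16134, e3 q15490 (flp_a L690894) q17624, e3 q15491 (flp_a L674307) q16067, e3 q15492 (flp_a L687121) q17218, e3 q15493 (flp_a L687131) q17219, e3 q15494 L669129 q13242, e3 q15495 L669135 q13243, e3 q15496 (flp_a L681013) q16613, e3 q15497 (flp_a L691265) q17678, e3 q15498 (flp_a L691273) q17679, e3 q15499 (flp_a L674363) q16071, e3 q15500 (flp_a L674414) q16076, e3 q15501 (flp_a L687143) q17220, e3 q15502 (flp_a L690914) q17627, e3 q15503 (flp_a L674333) q16069, e3 q15504 (flp_a L674385) q16073, e3 q15505 (flp_a L674436) q16078, e3 q15506 (flp_a L674291) q16066, e3 q15507 (flp_a L674317) q16068,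 e3 q15508 (flp_a L674347) q16070, e3 q15509 (flp_a L675393) q16146, e3 q15510 (flp_a L690920) q17628, e3 q15511 (flp_a L681229) q16640, e3 q15512 (flp_a L675406) q16147, e3 q15513 (flp_a L673276) q15997, e3 q15514 (flp_a L690929) q17629, e3 q15515 (flp_a L669278) q13260, e3 q15516 (flp_a L684111) q16925, e3 q15517 (flp_a L691379) q17694, e3 q15518 (flp_a L677565) q16324, e3 q15519 (flp_a L677826) q16348, e3 q15520 (flp_a L690939) q17630, e3 q15521 (flp_a L690948) q17631, e3 q15522 (flp_a L681257) q16643, e3 q15523 (flp_a L675420) q16148, e3 q15524 L669353 q13269, e3 q15525 (flp_a L691457) q17704, e3 q15526 (flp_a L690958) q17632, e3 q15527 L669379 q13272, e3 q15528 (flp_a L691482) q17707, e3 q15529 (flp_a L690980) q17635, e3 q15530 L669398 q15530, e3 q15531 (flp_a L669406) q13275, e3 q15532 (flp_a L683259) q16847, e3 q15533 (flp_a L691504) q17711, e3 q15534 L669435 q15534, e3 q15535 L669448 q15535, e3 q15536 L669458 q13281, e3 q15537 L669466 q13282, e3 q15538 (flp_a L686352) q17155, e3 q15539 (flp_a L691534) q17714, e3 q15540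 (flp_a L691543) q17715, e3 q15541 L669502 q15541, e3 q15542 L669519 q15542, e3 q15543 L669529 q13288, e3 q15544 (flp_a L691576) q17718, e3 q15545 L669547 q13291, e3 q15546 (flp_a L691586) q17719, e3 q15547 L669564 q15547, e3 q15548 L669572 q13294, e3 q15549 (flp_a L675456) q16151, e3 q15550 (flp_a L673148) q15988, e3 q15551 L669588 q15551, trivial⟩ (by decide +kernel)

theorem ce_a_243 : ∀ r, r < 64 → sm ga (Qf (15552 + r)) = Qf (tab Gen.a (15552 + r)) :=
  edges_tab (sm ga) Qf (tab Gen.a) 15552 [(15552, 13317), (15553, 13318), (15554, 13319), (15555, 13321), (15556, 13322), (15557, 13325), (15558, 13331), (15559, 13341), (15560, 16939), (15561, 16940), (15562, 16934), (15563, 16896), (15564, 16936), (15565, 16900), (15566, 16901), (15567, 13771), (15568, 16905), (15569, 16910), (15570, 16911), (15571, 16912), (15572, 16917), (15573, 17722), (15574, 17723), (15575, 16884), (15576, 17724), (15577, 17725), (15578, 17420), (15579, 16886), (15580, 16887), (15581, 17336), (15582, 17726), (15583, 17727), (15584, 17427), (15585,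 16888), (15586, 16889), (15587, 17334), (15588, 17338), (15589, 17728), (15590, 16308), (15591, 17428), (15592, 16890), (15593, 16891), (15594, 16892), (15595, 17337), (15596, 17339), (15597, 16309), (15598, 17429), (15599, 16893), (15600, 16603), (15601, 17335), (15602, 16883), (15603, 17158), (15604, 17016), (15605, 16880), (15606, 16885), (15607, 17156), (15608, 13345), (15609, 13419), (15610, 17780), (15611, 16881), (15612, 16882), (15613, 13349), (15614, 17784), (15615, 13352)]
    ⟨e3 q15552 L669600 q13317, e3 q15553 L669609 q13318, e3 q15554 L669617 q13319, e3 q15555 L669629 q13321, e3 q15556 L669633 q13322, e3 q15557 L669641 q13325, e3 q15558 L669650 q13331, e3 q15559 L669658 q13341, e3 q15560 (flp_a L684278) q16939, e3 q15561 (flp_a L684292) q16940, e3 q15562 (flp_a L684194) q16934, e3 q15563 (flp_a L683819) q16896, e3 q15564 (flp_a L684226) q16936, e3 q15565 (flp_a L683859) q16900, e3 q15566 (flp_a L683869) q16901, e3 q15567 L669717 q13771, e3 q15568 (flp_a L683899) q16905, e3 q15569 (flp_a L683954) q16910, e3 q15570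 (flp_a L683968) q16911, e3 q15571 (flp_a L683984) q16912, e3 q15572 (flp_a L684031) q16917, e3 q15573 (flp_a L691608) q17722, e3 q15574 (flp_a L691615) q17723, e3 q15575 (flp_a L683689) q16884, e3 q15576 (flp_a L691626) q17724, e3 q15577 (flp_a L691632) q17725, e3 q15578 (flp_a L689209) q17420, e3 q15579 (flp_a L683713) q16886, e3 q15580 (flp_a L683723) q16887, e3 q15581 (flp_a L688386) q17336, e3 q15582 (flp_a L691642) q17726, e3 q15583 (flp_a L691648) q17727, e3 q15584 (flp_a L689282) q17427, e3 q15585 (flp_a L683735) q16888, e3 q15586 (flp_a L683747) q16889, e3 q15587 (flp_a L688359) q17334, e3 q15588 (flp_a L688404) q17338, e3 q15589 (flp_a L691656) q17728, e3 q15590 (flp_a L677411) q16308, e3 q15591 (flp_a L689293) q17428, e3 q15592 (flp_a L683758) q16890, e3 q15593 (flp_a L683767) q16891, e3 q15594 (flp_a L683778) q16892, e3 q15595 (flp_a L688394) q17337, e3 q15596 (flp_a L688417) q17339, e3 q15597 (flp_a L677424) q16309, e3 q15598 (flp_a L689303) q17429, e3 q15599 (flp_a L683790) q16893, e3 q15600 (flp_a L680924) q16603,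 e3 q15601 (flp_a L688371) q17335, e3 q15602 (flp_a L683678) q16883, e3 q15603 (flp_a L686391) q17158, e3 q15604 (flp_a L685085) q17016, e3 q15605 (flp_a L683647) q16880, e3 q15606 (flp_a L683701) q16885, e3 q15607 (flp_a L686367) q17156, e3 q15608 (flp_a L670032) q13345, e3 q15609 L670048 q13419, e3 q15610 (flp_a L692043) q17780, e3 q15611 (flp_a L683658) q16881, e3 q15612 (flp_a L683665) q16882, e3 q15613 (flp_a L670077) q13349, e3 q15614 (flp_a L692086) q17784, e3 q15615 L670101 q13352, trivial⟩ (by decide +kernel)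

theorem ce_a_244 : ∀ r, r < 64 → sm ga (Qf (15616 + r)) = Qf (tab Gen.a (15616 + r)) :=
  edges_tab (sm ga) Qf (tab Gen.a) 15616 [(15616, 17165), (15617, 13361), (15618, 13545), (15619, 17785), (15620, 13366), (15621, 17786), (15622, 13369), (15623, 16850), (15624, 17333), (15625, 13772), (15626, 13417), (15627, 13418), (15628, 13420), (15629, 13421), (15630, 13423), (15631, 13424), (15632, 13427), (15633, 13433), (15634, 13443), (15635, 13444), (15636, 13445), (15637, 13446), (15638, 13447), (15639, 17803), (15640, 13449), (15641, 13450), (15642, 13452), (15643, 13453), (15644, 17810), (15645, 13456), (15646, 13459), (15647, 13395), (15648, 17813), (15649, 13465), (15650, 13399), (15651, 17815), (15652, 13486), (15653, 13487), (15654, 17176), (15655, 13489), (15656, 13490), (15657, 13491), (15658, 13406), (15659, 17173), (15660, 17819), (15661, 13496), (15662, 13497), (15663, 13410), (15664, 17824), (15665, 13413), (15666, 16938), (15667, 17787), (15668, 17788), (15669, 17789), (15670, 17781), (15671, 17782), (15672, 17184),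 (15673, 17790), (15674, 17791), (15675, 17838), (15676, 17190), (15677, 17140), (15678, 17294), (15679, 17792)]
    ⟨e3 q15616 (flp_a L686499) q17165, e3 q15617 L670120 q13361, e3 q15618 L670131 q13545, e3 q15619 (flp_a L692098) q17785, e3 q15620 L670150 q13366, e3 q15621 (flp_a L692111) q17786, e3 q15622 L670171 q13369, e3 q15623 (flp_a L683300) q16850, e3 q15624 (flp_a L688343) q17333, e3 q15625 L670199 q13772, e3 q15626 L670214 q13417, e3 q15627 L670220 q13418, e3 q15628 L670230 q13420, e3 q15629 L670240 q13421, e3 q15630 L670250 q13423, e3 q15631 L670256 q13424, e3 q15632 L670264 q13427, e3 q15633 L670273 q13433, e3 q15634 L670281 q13443, e3 q15635 L670288 q13444, e3 q15636 L670297 q13445, e3 q15637 L670307 q13446, e3 q15638 L670313 q13447, e3 q15639 L692253 q17803, e3 q15640 L670329 q13449, e3 q15641 L670335 q13450, e3 q15642 L670345 q13452, e3 q15643 L670351 q13453, e3 q15644 L692301 q17810, e3 q15645 L670364 q13456, e3 q15646 L670375 q13459, e3 q15647 (flp_a L670380) q13395, e3 q15648 (flp_a L692330) q17813, e3 q15649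 L670398 q13465, e3 q15650 L670406 q13399, e3 q15651 (flp_a L692346) q17815, e3 q15652 L670420 q13486, e3 q15653 L670429 q13487, e3 q15654 (flp_a L686625) q17176, e3 q15655 L670448 q13489, e3 q15656 L670460 q13490, e3 q15657 L670470 q13491, e3 q15658 (flp_a L670481) q13406, e3 q15659 (flp_a L686591) q17173, e3 q15660 (flp_a L692385) q17819, e3 q15661 L670508 q13496, e3 q15662 L670514 q13497, e3 q15663 (flp_a L670522) q13410, e3 q15664 (flp_a L692425) q17824, e3 q15665 L670546 q13413, e3 q15666 (flp_a L684260) q16938, e3 q15667 (flp_a L692124) q17787, e3 q15668 (flp_a L692132) q17788, e3 q15669 (flp_a L692138) q17789, e3 q15670 (flp_a L692057) q17781, e3 q15671 (flp_a L692068) q17782, e3 q15672 (flp_a L686733) q17184, e3 q15673 (flp_a L692146) q17790, e3 q15674 (flp_a L692154) q17791, e3 q15675 L692529 q17838, e3 q15676 (flp_a L686796) q17190, e3 q15677 (flp_a L686169) q17140, e3 q15678 (flp_a L687926) q17294, e3 q15679 (flp_a L692164) q17792, trivial⟩ (by decide +kernel)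

theorem ce_a_245 : ∀ r, r < 64 → sm ga (Qf (15680 + r)) = Qf (tab Gen.a (15680 + r)) :=
  edges_tab (sm ga) Qf (tab Gen.a) 15680 [(15680, 17793), (15681, 17848), (15682, 17194), (15683, 17144), (15684, 17296), (15685, 17794), (15686, 13428), (15687, 17471), (15688, 17854), (15689, 17195), (15690, 17147), (15691, 17089), (15692, 16160), (15693, 17295), (15694, 17297), (15695, 13436), (15696, 17472), (15697, 17864), (15698, 16164), (15699, 16167), (15700, 17103), (15701, 16162), (15702, 16166), (15703, 16169), (15704, 17795), (15705, 17796), (15706, 17797), (15707, 17178), (15708, 17799), (15709, 17800), (15710, 17298), (15711, 17801), (15712, 17802), (15713, 13448), (15714, 17886), (15715, 17887), (15716, 17806), (15717, 17301), (15718, 17807), (15719, 17808), (15720, 16174), (15721, 17303), (15722, 17809), (15723, 13454), (15724, 17903), (15725, 17904), (15726, 16365), (15727, 17306), (15728, 17812), (15729, 17276), (15730, 17299), (15731, 17307), (15732, 13461), (15733, 13462), (15734, 17914), (15735, 17915), (15736, 17916),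 (15737, 16173), (15738, 17302), (15739, 17310), (15740, 17042), (15741, 16171), (15742, 16175), (15743, 17304)]
    ⟨e3 q15680 (flp_a L692170) q17793, e3 q15681 L692595 q17848, e3 q15682 (flp_a L686839) q17194, e3 q15683 (flp_a L686218) q17144, e3 q15684 (flp_a L687946) q17296, e3 q15685 (flp_a L692178) q17794, e3 q15686 (flp_a L670705) q13428, e3 q15687 (flp_a L689657) q17471, e3 q15688 (flp_a L692657) q17854, e3 q15689 (flp_a L686851) q17195, e3 q15690 (flp_a L686250) q17147, e3 q15691 (flp_a L685691) q17089, e3 q15692 (flp_a L675574) q16160, e3 q15693 (flp_a L687936) q17295, e3 q15694 (flp_a L687959) q17297, e3 q15695 L670778 q13436, e3 q15696 (flp_a L689670) q17472, e3 q15697 (flp_a L692737) q17864, e3 q15698 (flp_a L675623) q16164, e3 q15699 (flp_a L675659) q16167, e3 q15700 (flp_a L685809) q17103, e3 q15701 (flp_a L675599) q16162, e3 q15702 (flp_a L675649) q16166, e3 q15703 (flp_a L675687) q16169, e3 q15704 (flp_a L692187) q17795, e3 q15705 (flp_a L692196) q17796, e3 q15706 (flp_a L692202) q17797, e3 q15707 (flp_a L686651)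 q17178, e3 q15708 (flp_a L692219) q17799, e3 q15709 (flp_a L692227) q17800, e3 q15710 (flp_a L687973) q17298, e3 q15711 (flp_a L692239) q17801, e3 q15712 (flp_a L692247) q17802, e3 q15713 (flp_a L670902) q13448, e3 q15714 (flp_a L692893) q17886, e3 q15715 (flp_a L692897) q17887, e3 q15716 (flp_a L692275) q17806, e3 q15717 (flp_a L688003) q17301, e3 q15718 (flp_a L692281) q17807, e3 q15719 (flp_a L692289) q17808, e3 q15720 (flp_a L675749) q16174, e3 q15721 (flp_a L688021) q17303, e3 q15722 (flp_a L692297) q17809, e3 q15723 (flp_a L670956) q13454, e3 q15724 (flp_a L692991) q17903, e3 q15725 (flp_a L693000) q17904, e3 q15726 (flp_a L677999) q16365, e3 q15727 (flp_a L688052) q17306, e3 q15728 (flp_a L692321) q17812, e3 q15729 (flp_a L687715) q17276, e3 q15730 (flp_a L687983) q17299, e3 q15731 (flp_a L688065) q17307, e3 q15732 L671029 q13461, e3 q15733 L671037 q13462, e3 q15734 (flp_a L693085) q17914, e3 q15735 (flp_a L693091) q17915, e3 q15736 (flp_a L693101) q17916, e3 q15737 (flp_a L675739) q16173, e3 q15738 (flp_a L688011)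 q17302, e3 q15739 (flp_a L688104) q17310, e3 q15740 (flp_a L685318) q17042, e3 q15741 (flp_a L675715) q16171, e3 q15742 (flp_a L675757) q16175, e3 q15743 (flp_a L688031) q17304, trivial⟩ (by decide +kernel)

theorem ce_a_246 : ∀ r, r < 64 → sm ga (Qf (15744 + r)) = Qf (tab Gen.a (15744 + r)) :=
  edges_tab (sm ga) Qf (tab Gen.a) 15744 [(15744, 13472), (15745, 13473), (15746, 17415), (15747, 17423), (15748, 17928), (15749, 16341), (15750, 16176), (15751, 16181), (15752, 16187), (15753, 17313), (15754, 17049), (15755, 16178), (15756, 16184), (15757, 16170), (15758, 17277), (15759, 16172), (15760, 17816), (15761, 17179), (15762, 16330), (15763, 17818), (15764, 17174), (15765, 13495), (15766, 17024), (15767, 17822), (15768, 17823), (15769, 17029), (15770, 13501), (15771, 17035), (15772, 13504), (15773, 16331), (15774, 17041), (15775, 13524), (15776, 16937), (15777, 16653), (15778, 16935), (15779, 13526), (15780, 13541), (15781, 13543), (15782, 13565), (15783, 16198), (15784, 16212), (15785, 16213), (15786, 17955), (15787, 17191),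 (15788, 17947), (15789, 17141), (15790, 17948), (15791, 17126), (15792, 17124), (15793, 17182), (15794, 17120), (15795, 17130), (15796, 17131), (15797, 13549), (15798, 17183), (15799, 17966), (15800, 17189), (15801, 17139), (15802, 13553), (15803, 17971), (15804, 13556), (15805, 17188), (15806, 17949), (15807, 17028)]
    ⟨e3 q15744 L671115 q13472, e3 q15745 L671124 q13473, e3 q15746 (flp_a L689154) q17415, e3 q15747 (flp_a L689243) q17423, e3 q15748 (flp_a L693191) q17928, e3 q15749 (flp_a L677761) q16341, e3 q15750 (flp_a L675769) q16176, e3 q15751 (flp_a L675831) q16181, e3 q15752 (flp_a L675902) q16187, e3 q15753 (flp_a L688138) q17313, e3 q15754 (flp_a L685390) q17049, e3 q15755 (flp_a L675791) q16178, e3 q15756 (flp_a L675863) q16184, e3 q15757 (flp_a L675700) q16170, e3 q15758 (flp_a L687726) q17277, e3 q15759 (flp_a L675725) q16172, e3 q15760 (flp_a L692353) q17816, e3 q15761 (flp_a L686661) q17179, e3 q15762 (flp_a L677639) q16330, e3 q15763 (flp_a L692371) q17818, e3 q15764 (flp_a L686596) q17174, e3 q15765 L671282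 q13495, e3 q15766 (flp_a L685153) q17024, e3 q15767 (flp_a L692409) q17822, e3 q15768 (flp_a L692417) q17823, e3 q15769 (flp_a L685199) q17029, e3 q15770 L671316 q13501, e3 q15771 (flp_a L685255) q17035, e3 q15772 L671338 q13504, e3 q15773 (flp_a L677649) q16331, e3 q15774 (flp_a L685306) q17041, e3 q15775 L671370 q13524, e3 q15776 (flp_a L684242) q16937, e3 q15777 (flp_a L681377) q16653, e3 q15778 (flp_a L684209) q16935, e3 q15779 L671407 q13526, e3 q15780 L671418 q13541, e3 q15781 L671425 q13543, e3 q15782 L671433 q13565, e3 q15783 L676051 q16198, e3 q15784 (flp_a L676221) q16212, e3 q15785 (flp_a L676235) q16213, e3 q15786 L693397 q17955, e3 q15787 (flp_a L686806) q17191, e3 q15788 (flp_a L693331) q17947, e3 q15789 (flp_a L686181) q17141, e3 q15790 (flp_a L693339) q17948, e3 q15791 (flp_a L686017) q17126, e3 q15792 (flp_a L685984) q17124, e3 q15793 (flp_a L686706) q17182, e3 q15794 (flp_a L685941) q17120, e3 q15795 (flp_a L686056) q17130, e3 q15796 (flp_a L686068) q17131, e3 q15797 (flp_a L671544) q13549, e3 q15798 (flp_a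 L686719) q17183, e3 q15799 (flp_a L693481) q17966, e3 q15800 (flp_a L686787) q17189, e3 q15801 (flp_a L686154) q17139, e3 q15802 (flp_a L671576) q13553, e3 q15803 (flp_a L693511) q17971, e3 q15804 L671598 q13556, e3 q15805 (flp_a L686775) q17188, e3 q15806 (flp_a L693346) q17949, e3 q15807 (flp_a L685189) q17028, trivial⟩ (by decide +kernel)

theorem ce_a_247 : ∀ r, r < 64 → sm ga (Qf (15808 + r)) = Qf (tab Gen.a (15808 + r)) :=
  edges_tab (sm ga) Qf (tab Gen.a) 15808 [(15808, 17034), (15809, 17040), (15810, 13587), (15811, 16462), (15812, 16034), (15813, 15979), (15814, 16452), (15815, 13586), (15816, 17977), (15817, 17975), (15818, 15818), (15819, 16398), (15820, 15820), (15821, 15821), (15822, 15822), (15823, 16543), (15824, 15824), (15825, 13598), (15826, 17984), (15827, 15827), (15828, 13601), (15829, 17986), (15830, 17985), (15831, 13632), (15832, 13645), (15833, 13650), (15834, 13609), (15835, 16549), (15836, 13653), (15837, 16679), (15838, 16683), (15839, 16086), (15840, 16130), (15841, 16087), (15842, 16085), (15843,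 13626), (15844, 13627), (15845, 13628), (15846, 17990), (15847, 17991), (15848, 16548), (15849, 16089), (15850, 16092), (15851, 17221), (15852, 16601), (15853, 16918), (15854, 16929), (15855, 16933), (15856, 16297), (15857, 16325), (15858, 16349), (15859, 16646), (15860, 13649), (15861, 17999), (15862, 17987), (15863, 13652), (15864, 16559), (15865, 16659), (15866, 17572), (15867, 16852), (15868, 15868), (15869, 13658), (15870, 13659), (15871, 18005)]
    ⟨e3 q15808 (flp_a L685242) q17034, e3 q15809 (flp_a L685296) q17040, e3 q15810 L671632 q13587, e3 q15811 (flp_a L679252) q16462, e3 q15812 (flp_a L673786) q16034, e3 q15813 (flp_a L673007) q15979, e3 q15814 (flp_a L679116) q16452, e3 q15815 L671676 q13586, e3 q15816 (flp_a L693560) q17977, e3 q15817 (flp_a L693540) q17975, e3 q15818 L671700 q15818, e3 q15819 (flp_a L678389) q16398, e3 q15820 L671718 q15820, e3 q15821 L671728 q15821, e3 q15822 L671738 q15822, e3 q15823 (flp_a L680172) q16543, e3 q15824 L671759 q15824, e3 q15825 L671769 q13598, e3 q15826 (flp_a L693628) q17984,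 e3 q15827 L671785 q15827, e3 q15828 L671794 q13601, e3 q15829 (flp_a L693656) q17986, e3 q15830 (flp_a L693643) q17985, e3 q15831 L671820 q13632, e3 q15832 L671828 q13645, e3 q15833 L671837 q13650, e3 q15834 L671845 q13609, e3 q15835 (flp_a L680258) q16549, e3 q15836 L671860 q13653, e3 q15837 (flp_a L681684) q16679, e3 q15838 (flp_a L681728) q16683, e3 q15839 (flp_a L674544) q16086, e3 q15840 (flp_a L675193) q16130, e3 q15841 (flp_a L674560) q16087, e3 q15842 (flp_a L674526) q16085, e3 q15843 L671912 q13626, e3 q15844 L671918 q13627, e3 q15845 L671925 q13628, e3 q15846 (flp_a L693694) q17990, e3 q15847 (flp_a L693702) q17991, e3 q15848 (flp_a L680243) q16548, e3 q15849 (flp_a L674591) q16089, e3 q15850 (flp_a L674628) q16092, e3 q15851 (flp_a L687151) q17221, e3 q15852 (flp_a L680898) q16601, e3 q15853 (flp_a L684046) q16918, e3 q15854 (flp_a L684144) q16929, e3 q15855 (flp_a L684180) q16933, e3 q15856 (flp_a L677290) q16297, e3 q15857 (flp_a L677577) q16325, e3 q15858 (flp_a L677840) q16349, e3 q15859 (flp_a L681285) q16646,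 e3 q15860 L672028 q13649, e3 q15861 (flp_a L693749) q17999, e3 q15862 (flp_a L693671) q17987, e3 q15863 L672050 q13652, e3 q15864 (flp_a L680391) q16559, e3 q15865 (flp_a L681442) q16659, e3 q15866 (flp_a L690526) q17572, e3 q15867 (flp_a L683330) q16852, e3 q15868 L672082 q15868, e3 q15869 L672092 q13658, e3 q15870 L672100 q13659, e3 q15871 (flp_a L693790) q18005, trivial⟩ (by decide +kernel)

theorem ce_a_248 : ∀ r, r < 64 → sm ga (Qf (15872 + r)) = Qf (tab Gen.a (15872 + r)) :=
  edges_tab (sm ga) Qf (tab Gen.a) 15872 [(15872, 18006), (15873, 15873), (15874, 13663), (15875, 18009), (15876, 15876), (15877, 13666), (15878, 18011), (15879, 18010), (15880, 15880), (15881, 13669), (15882, 13670), (15883, 17983), (15884, 15989), (15885, 15885), (15886, 13672), (15887, 18014), (15888, 13709), (15889, 13675), (15890, 18017), (15891, 13718), (15892, 13679), (15893, 18020), (15894, 13729), (15895, 13682), (15896, 16008), (15897, 13744), (15898, 13696), (15899, 13688), (15900, 17033), (15901, 17180), (15902, 13693), (15903, 13750),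 (15904, 13751), (15905, 13715), (15906, 13705), (15907, 16006), (15908, 13752), (15909, 16007), (15910, 13704), (15911, 18029), (15912, 18027), (15913, 18019), (15914, 16313), (15915, 16296), (15916, 16323), (15917, 16199), (15918, 16360), (15919, 16371), (15920, 18016), (15921, 16201), (15922, 16361), (15923, 16204), (15924, 13714), (15925, 18045), (15926, 18026), (15927, 16366), (15928, 17319), (15929, 16368), (15930, 13723), (15931, 13724), (15932, 13725), (15933, 17950), (15934, 18049), (15935, 18050)]
    ⟨e3 q15872 (flp_a L693799) q18006, e3 q15873 L672126 q15873, e3 q15874 L672133 q13663, e3 q15875 (flp_a L693824) q18009, e3 q15876 L672149 q15876, e3 q15877 L672157 q13666, e3 q15878 (flp_a L693852) q18011, e3 q15879 (flp_a L693839) q18010, e3 q15880 L672181 q15880, e3 q15881 L672187 q13669, e3 q15882 L672194 q13670, e3 q15883 (flp_a L693612) q17983, e3 q15884 (flp_a L673162) q15989, e3 q15885 L672215 q15885, e3 q15886 (flp_a L672221) q13672, e3 q15887 (flp_a L693881) q18014, e3 q15888 L672244 q13709, e3 q15889 (flp_a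 L672252) q13675, e3 q15890 (flp_a L693915) q18017, e3 q15891 L672275 q13718, e3 q15892 L672285 q13679, e3 q15893 (flp_a L693949) q18020, e3 q15894 L672302 q13729, e3 q15895 L672312 q13682, e3 q15896 (flp_a L673418) q16008, e3 q15897 L672330 q13744, e3 q15898 L672339 q13696, e3 q15899 L672354 q13688, e3 q15900 (flp_a L685238) q17033, e3 q15901 (flp_a L686677) q17180, e3 q15902 L672381 q13693, e3 q15903 L672395 q13750, e3 q15904 L672402 q13751, e3 q15905 L672409 q13715, e3 q15906 L672421 q13705, e3 q15907 (flp_a L673383) q16006, e3 q15908 L672441 q13752, e3 q15909 (flp_a L673401) q16007, e3 q15910 L672465 q13704, e3 q15911 (flp_a L694023) q18029, e3 q15912 (flp_a L694006) q18027, e3 q15913 (flp_a L693936) q18019, e3 q15914 (flp_a L677467) q16313, e3 q15915 (flp_a L677278) q16296, e3 q15916 (flp_a L677552) q16323, e3 q15917 (flp_a L676055) q16199, e3 q15918 (flp_a L677940) q16360, e3 q15919 (flp_a L678074) q16371, e3 q15920 (flp_a L693902) q18016, e3 q15921 (flp_a L676077) q16201, e3 q15922 (flp_a L677952) q16361, e3 q15923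 (flp_a L676117) q16204, e3 q15924 L672587 q13714, e3 q15925 (flp_a L694152) q18045, e3 q15926 (flp_a L693996) q18026, e3 q15927 (flp_a L678011) q16366, e3 q15928 (flp_a L688198) q17319, e3 q15929 (flp_a L678034) q16368, e3 q15930 L672642 q13723, e3 q15931 L672648 q13724, e3 q15932 L672657 q13725, e3 q15933 (flp_a L693360) q17950, e3 q15934 (flp_a L694188) q18049, e3 q15935 (flp_a L694195) q18050, trivial⟩ (by decide +kernel)

theorem ce_a_249 : ∀ r, r < 64 → sm ga (Qf (15936 + r)) = Qf (tab Gen.a (15936 + r)) :=
  edges_tab (sm ga) Qf (tab Gen.a) 15936 [(15936, 16196), (15937, 16200), (15938, 17316), (15939, 17322), (15940, 18022), (15941, 16197), (15942, 16202), (15943, 13736), (15944, 13737), (15945, 13738), (15946, 13792), (15947, 18059), (15948, 18060), (15949, 16377), (15950, 16203), (15951, 16206), (15952, 16209), (15953, 17325), (15954, 16195), (15955, 18024), (15956, 18025), (15957, 18028), (15958, 13756), (15959, 13757), (15960, 17738), (15961, 13776), (15962, 13777), (15963, 17929), (15964, 18068), (15965, 18069),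 (15966, 16159), (15967, 16161), (15968, 16163), (15969, 13787), (15970, 18073), (15971, 13793), (15972, 13794), (15973, 16205), (15974, 16218), (15975, 18061), (15976, 18074), (15977, 14219), (15978, 15356), (15979, 15813), (15980, 13807), (15981, 13808), (15982, 13809), (15983, 14475), (15984, 15091), (15985, 14622), (15986, 14378), (15987, 18081), (15988, 15550), (15989, 15884), (15990, 15990), (15991, 15991), (15992, 13824), (15993, 13825), (15994, 13826), (15995, 13827), (15996, 14977), (15997, 15513), (15998, 15304), (15999, 14979)]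
    ⟨e3 q15936 (flp_a L676011) q16196, e3 q15937 (flp_a L676067) q16200, e3 q15938 (flp_a L688166) q17316, e3 q15939 (flp_a L688233) q17322, e3 q15940 (flp_a L693967) q18022, e3 q15941 (flp_a L676026) q16197, e3 q15942 (flp_a L676092) q16202, e3 q15943 L672742 q13736, e3 q15944 L672753 q13737, e3 q15945 L672762 q13738, e3 q15946 L672771 q13792, e3 q15947 (flp_a L694264) q18059, e3 q15948 (flp_a L694276) q18060, e3 q15949 (flp_a L678134) q16377, e3 q15950 (flp_a L676105) q16203, e3 q15951 (flp_a L676143) q16206, e3 q15952 (flp_a L676180) q16209, e3 q15953 (flp_a L688260) q17325, e3 q15954 (flp_a L675994) q16195, e3 q15955 (flp_a L693984) q18024, e3 q15956 (flp_a L693991) q18025, e3 q15957 (flp_a L694016) q18028, e3 q15958 L672854 q13756, e3 q15959 L672861 q13757, e3 q15960 (flp_a L691725) q17738, e3 q15961 L672872 q13776, e3 q15962 L672879 q13777, e3 q15963 (flp_a L693198) q17929, e3 q15964 (flp_a L694336) q18068, e3 q15965 (flp_a L694345) q18069, e3 q15966 (flp_a L675563) q16159, e3 q15967 (flp_a L675586) q16161, e3 q15968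 (flp_a L675610) q16163, e3 q15969 L672922 q13787, e3 q15970 (flp_a L694369) q18073, e3 q15971 L672936 q13793, e3 q15972 L672944 q13794, e3 q15973 (flp_a L676130) q16205, e3 q15974 (flp_a L676298) q16218, e3 q15975 (flp_a L694286) q18061, e3 q15976 (flp_a L694377) q18074, e3 q15977 L672979 q14219, e3 q15978 L672993 q15356, e3 q15979 L673007 q15813, e3 q15980 L673020 q13807, e3 q15981 L673036 q13808, e3 q15982 L673053 q13809, e3 q15983 L673072 q14475, e3 q15984 L673088 q15091, e3 q15985 L673105 q14622, e3 q15986 L673123 q14378, e3 q15987 (flp_a L694456) q18081, e3 q15988 L673148 q15550, e3 q15989 L673162 q15884, e3 q15990 L673174 q15990, e3 q15991 L673189 q15991, e3 q15992 L673206 q13824, e3 q15993 L673221 q13825, e3 q15994 L673234 q13826, e3 q15995 L673248 q13827, e3 q15996 L673262 q14977, e3 q15997 L673276 q15513, e3 q15998 L673291 q15304, e3 q15999 L673307 q14979, trivial⟩ (by decide +kernel)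

theorem ce_a_250 : ∀ r, r < 64 → sm ga (Qf (16000 + r)) = Qf (tab Gen.a (16000 + r)) :=
  edges_tab (sm ga) Qf (tab Gen.a) 16000 [(16000, 14916), (16001, 14200), (16002, 18087), (16003, 18088), (16004, 18089), (16005, 14639), (16006, 15907), (16007, 15909), (16008, 15896), (16009, 13833), (16010, 18100), (16011, 16011), (16012, 13836), (16013, 18102), (16014, 16014), (16015, 13840), (16016, 18105), (16017, 16017), (16018, 13843), (16019, 18098), (16020, 16020), (16021, 14992), (16022, 14993), (16023, 15353), (16024, 15350), (16025, 15354), (16026, 15347), (16027, 14330), (16028, 15351), (16029, 14338), (16030, 14335), (16031, 14339), (16032, 14336), (16033, 14340), (16034, 15812), (16035, 14283), (16036, 14284), (16037, 14265), (16038, 13888), (16039, 13892), (16040, 13893), (16041, 13894), (16042, 15005), (16043, 14994), (16044, 15006), (16045, 14997), (16046, 14998), (16047, 15348), (16048, 14991), (16049, 15338), (16050, 15342), (16051, 18119), (16052, 14272), (16053, 15355), (16054, 15359), (16055, 14368), (16056, 18120),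 (16057, 18121), (16058, 13968), (16059, 15044), (16060, 15469), (16061, 15081), (16062, 15466), (16063, 14555)]
    ⟨e3 q16000 L673320 q14916, e3 q16001 L673333 q14200, e3 q16002 (flp_a L694561) q18087, e3 q16003 (flp_a L694577) q18088, e3 q16004 (flp_a L694594) q18089, e3 q16005 L673373 q14639, e3 q16006 L673383 q15907, e3 q16007 L673401 q15909, e3 q16008 L673418 q15896, e3 q16009 (flp_a L673431) q13833, e3 q16010 (flp_a L694763) q18100, e3 q16011 L673461 q16011, e3 q16012 (flp_a L673474) q13836, e3 q16013 (flp_a L694794) q18102, e3 q16014 L673504 q16014, e3 q16015 L673517 q13840, e3 q16016 (flp_a L694836) q18105, e3 q16017 L673538 q16017, e3 q16018 L673550 q13843, e3 q16019 (flp_a L694731) q18098, e3 q16020 L673570 q16020, e3 q16021 L673583 q14992, e3 q16022 L673599 q14993, e3 q16023 L673616 q15353, e3 q16024 L673636 q15350, e3 q16025 L673652 q15354, e3 q16026 L673670 q15347, e3 q16027 L673686 q14330, e3 q16028 L673698 q15351, e3 q16029 L673710 q14338, e3 q16030 L673727 q14335, e3 q16031 L673741 q14339, e3 q16032 L673757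 q14336, e3 q16033 L673770 q14340, e3 q16034 L673786 q15812, e3 q16035 L673803 q14283, e3 q16036 L673821 q14284, e3 q16037 L673838 q14265, e3 q16038 L673856 q13888, e3 q16039 L673872 q13892, e3 q16040 L673888 q13893, e3 q16041 L673904 q13894, e3 q16042 L673920 q15005, e3 q16043 L673939 q14994, e3 q16044 L673957 q15006, e3 q16045 L673974 q14997, e3 q16046 L673991 q14998, e3 q16047 L674005 q15348, e3 q16048 L674021 q14991, e3 q16049 L674039 q15338, e3 q16050 L674055 q15342, e3 q16051 (flp_a L695050) q18119, e3 q16052 L674079 q14272, e3 q16053 L674094 q15355, e3 q16054 L674108 q15359, e3 q16055 L674123 q14368, e3 q16056 (flp_a L695068) q18120, e3 q16057 (flp_a L695087) q18121, e3 q16058 L674167 q13968, e3 q16059 L674187 q15044, e3 q16060 L674203 q15469, e3 q16061 L674217 q15081, e3 q16062 L674232 q15466, e3 q16063 L674248 q14555, trivial⟩ (by decide +kernel)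

theorem ce_a_251 : ∀ r, r < 64 → sm ga (Qf (16064 + r)) = Qf (tab Gen.a (16064 + r)) :=
  edges_tab (sm ga) Qf (tab Gen.a) 16064 [(16064, 15083), (16065, 13961), (16066, 15506), (16067, 15491), (16068, 15507), (16069, 15503), (16070, 15508), (16071, 15499), (16072, 14579), (16073, 15504), (16074, 18154), (16075, 14576), (16076, 15500), (16077, 14580), (16078, 15505), (16079, 14588), (16080, 14592), (16081, 14585), (16082, 14589), (16083, 14593), (16084, 14590), (16085, 15842), (16086, 15839), (16087, 15841), (16088, 18166), (16089, 15849), (16090, 13923), (16091, 18168), (16092, 15850), (16093, 13928), (16094, 18170), (16095, 13931), (16096, 18171), (16097, 14486), (16098, 14490), (16099, 14491), (16100, 14493), (16101, 14494), (16102, 14442), (16103, 14496), (16104, 14450), (16105, 14453), (16106, 14363), (16107, 13970), (16108, 13971), (16109, 13976), (16110, 13980), (16111, 13981), (16112, 13982), (16113, 13986), (16114, 13987), (16115, 13988), (16116, 13989), (16117, 13990), (16118, 13991), (16119, 15072), (16120, 15047),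 (16121, 15076), (16122, 15050), (16123, 15079), (16124, 15053), (16125, 15054), (16126, 15060), (16127, 15061)]
    ⟨e3 q16064 L674259 q15083, e3 q16065 L674271 q13961, e3 q16066 L674291 q15506, e3 q16067 L674307 q15491, e3 q16068 L674317 q15507, e3 q16069 L674333 q15503, e3 q16070 L674347 q15508, e3 q16071 L674363 q15499, e3 q16072 L674375 q14579, e3 q16073 L674385 q15504, e3 q16074 L695584 q18154, e3 q16075 L674405 q14576, e3 q16076 L674414 q15500, e3 q16077 L674424 q14580, e3 q16078 L674436 q15505, e3 q16079 L674446 q14588, e3 q16080 L674458 q14592, e3 q16081 L674475 q14585, e3 q16082 L674487 q14589, e3 q16083 L674498 q14593, e3 q16084 L674514 q14590, e3 q16085 L674526 q15842, e3 q16086 L674544 q15839, e3 q16087 L674560 q15841, e3 q16088 L695745 q18166, e3 q16089 L674591 q15849, e3 q16090 (flp_a L674602) q13923, e3 q16091 (flp_a L695777) q18168, e3 q16092 L674628 q15850, e3 q16093 (flp_a L674643) q13928, e3 q16094 (flp_a L695807) q18170, e3 q16095 L674674 q13931, e3 q16096 (flp_a L695823) q18171, e3 q16097 L674701 q14486,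 e3 q16098 L674720 q14490, e3 q16099 L674739 q14491, e3 q16100 L674754 q14493, e3 q16101 L674770 q14494, e3 q16102 L674785 q14442, e3 q16103 L674803 q14496, e3 q16104 L674815 q14450, e3 q16105 L674831 q14453, e3 q16106 L674848 q14363, e3 q16107 L674865 q13970, e3 q16108 L674879 q13971, e3 q16109 L674895 q13976, e3 q16110 L674909 q13980, e3 q16111 L674925 q13981, e3 q16112 L674939 q13982, e3 q16113 L674951 q13986, e3 q16114 L674966 q13987, e3 q16115 L674982 q13988, e3 q16116 L674997 q13989, e3 q16117 L675014 q13990, e3 q16118 L675026 q13991, e3 q16119 L675041 q15072, e3 q16120 L675057 q15047, e3 q16121 L675071 q15076, e3 q16122 L675085 q15050, e3 q16123 L675101 q15079, e3 q16124 L675116 q15053, e3 q16125 L675131 q15054, e3 q16126 L675143 q15060, e3 q16127 L675158 q15061, trivial⟩ (by decide +kernel)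

theorem ce_a_252 : ∀ r, r < 64 → sm ga (Qf (16128 + r)) = Qf (tab Gen.a (16128 + r)) :=
  edges_tab (sm ga) Qf (tab Gen.a) 16128 [(16128, 15062), (16129, 15488), (16130, 15840), (16131, 15038), (16132, 18178), (16133, 18179), (16134, 15489), (16135, 15040), (16136, 15473), (16137, 15483), (16138, 18180), (16139, 15396), (16140, 15041), (16141, 15042), (16142, 15043), (16143, 18181), (16144, 18182), (16145, 18183), (16146, 15509), (16147, 15512), (16148, 15523), (16149, 14461), (16150, 18184), (16151, 15549), (16152, 18185), (16153, 18186), (16154, 18187), (16155, 15039), (16156, 14116), (16157, 15204), (16158, 14114), (16159, 15966), (16160, 15692), (16161, 15967), (16162, 15701), (16163, 15968), (16164, 15698), (16165, 14820), (16166, 15702), (16167, 15699), (16168, 14821), (16169, 15703), (16170, 15757), (16171, 15741), (16172, 15759), (16173, 15737), (16174, 15720), (16175, 15742), (16176, 15750), (16177, 14857), (16178, 15755), (16179, 15213), (16180, 14853), (16181, 15751), (16182, 14846), (16183, 14858), (16184, 15756),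 (16185, 15220), (16186, 14854), (16187, 15752), (16188, 14859), (16189, 14864), (16190, 14868), (16191, 14872)]
    ⟨e3 q16128 L675169 q15062, e3 q16129 L675181 q15488, e3 q16130 L675193 q15840, e3 q16131 L675207 q15038, e3 q16132 (flp_a L695937) q18178, e3 q16133 (flp_a L695953) q18179, e3 q16134 L675241 q15489, e3 q16135 L675257 q15040, e3 q16136 L675273 q15473, e3 q16137 L675285 q15483, e3 q16138 (flp_a L695967) q18180, e3 q16139 L675307 q15396, e3 q16140 L675325 q15041, e3 q16141 L675341 q15042, e3 q16142 L675357 q15043, e3 q16143 (flp_a L695983) q18181, e3 q16144 (flp_a L696001) q18182, e3 q16145 (flp_a L696017) q18183, e3 q16146 L675393 q15509, e3 q16147 L675406 q15512, e3 q16148 L675420 q15523, e3 q16149 L675435 q14461, e3 q16150 (flp_a L696031) q18184, e3 q16151 L675456 q15549, e3 q16152 (flp_a L696049) q18185, e3 q16153 (flp_a L696064) q18186, e3 q16154 (flp_a L696084) q18187, e3 q16155 L675501 q15039, e3 q16156 L675519 q14116, e3 q16157 L675535 q15204, e3 q16158 L675547 q14114, e3 q16159 L675563 q15966, e3 q16160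 L675574 q15692, e3 q16161 L675586 q15967, e3 q16162 L675599 q15701, e3 q16163 L675610 q15968, e3 q16164 L675623 q15698, e3 q16165 L675636 q14820, e3 q16166 L675649 q15702, e3 q16167 L675659 q15699, e3 q16168 L675673 q14821, e3 q16169 L675687 q15703, e3 q16170 L675700 q15757, e3 q16171 L675715 q15741, e3 q16172 L675725 q15759, e3 q16173 L675739 q15737, e3 q16174 L675749 q15720, e3 q16175 L675757 q15742, e3 q16176 L675769 q15750, e3 q16177 L675780 q14857, e3 q16178 L675791 q15755, e3 q16179 (flp_a L675812) q15213, e3 q16180 L675818 q14853, e3 q16181 L675831 q15751, e3 q16182 L675841 q14846, e3 q16183 L675851 q14858, e3 q16184 L675863 q15756, e3 q16185 L675873 q15220, e3 q16186 L675888 q14854, e3 q16187 L675902 q15752, e3 q16188 L675911 q14859, e3 q16189 L675922 q14864, e3 q16190 L675932 q14868, e3 q16191 L675944 q14872, trivial⟩ (by decide +kernel)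

theorem ce_a_253 : ∀ r, r < 64 → sm ga (Qf (16192 + r)) = Qf (tab Gen.a (16192 + r)) :=
  edges_tab (sm ga) Qf (tab Gen.a) 16192 [(16192, 14865), (16193, 14869), (16194, 14870), (16195, 15954), (16196, 15936), (16197, 15941), (16198, 15783), (16199, 15917), (16200, 15937), (16201, 15921), (16202, 15942), (16203, 15950), (16204, 15923), (16205, 15973), (16206, 15951), (16207, 14039), (16208, 18288), (16209, 15952), (16210, 16210), (16211, 16211), (16212, 15784), (16213, 15785), (16214, 16214), (16215, 16215), (16216, 16216), (16217, 16217), (16218, 15974), (16219, 16219), (16220, 14054), (16221, 14636), (16222, 16222), (16223, 14731), (16224, 14732), (16225, 14733), (16226, 14734), (16227, 14735), (16228, 14736), (16229, 14737), (16230, 14738), (16231, 14739), (16232, 14740), (16233, 14741), (16234, 14742), (16235, 14743), (16236, 14697), (16237, 14744), (16238, 14745), (16239, 14698), (16240, 14746), (16241, 14703), (16242, 14707), (16243, 14711), (16244, 14638), (16245, 14708), (16246, 14115), (16247, 14117), (16248, 14118),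 (16249, 14119), (16250, 14120), (16251, 14121), (16252, 14122), (16253, 14123), (16254, 14124), (16255, 14127)]
    ⟨e3 q16192 L675959 q14865, e3 q16193 L675970 q14869, e3 q16194 L675982 q14870, e3 q16195 L675994 q15954, e3 q16196 L676011 q15936, e3 q16197 L676026 q15941, e3 q16198 (flp_a L676051) q15783, e3 q16199 L676055 q15917, e3 q16200 L676067 q15937, e3 q16201 L676077 q15921, e3 q16202 L676092 q15942, e3 q16203 L676105 q15950, e3 q16204 L676117 q15923, e3 q16205 L676130 q15973, e3 q16206 L676143 q15951, e3 q16207 L676153 q14039, e3 q16208 (flp_a L697410) q18288, e3 q16209 L676180 q15952, e3 q16210 L676190 q16210, e3 q16211 L676207 q16211, e3 q16212 L676221 q15784, e3 q16213 L676235 q15785, e3 q16214 L676249 q16214, e3 q16215 L676263 q16215, e3 q16216 L676273 q16216, e3 q16217 L676286 q16217, e3 q16218 L676298 q15974, e3 q16219 L676310 q16219, e3 q16220 L676320 q14054, e3 q16221 L676334 q14636, e3 q16222 L676350 q16222, e3 q16223 L676364 q14731, e3 q16224 L676382 q14732, e3 q16225 L676396 q14733, e3 q16226 L676408 q14734,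 e3 q16227 L676422 q14735, e3 q16228 L676435 q14736, e3 q16229 L676450 q14737, e3 q16230 L676466 q14738, e3 q16231 L676479 q14739, e3 q16232 L676489 q14740, e3 q16233 L676502 q14741, e3 q16234 L676513 q14742, e3 q16235 L676527 q14743, e3 q16236 L676540 q14697, e3 q16237 L676556 q14744, e3 q16238 L676566 q14745, e3 q16239 L676580 q14698, e3 q16240 L676595 q14746, e3 q16241 L676606 q14703, e3 q16242 L676621 q14707, e3 q16243 L676635 q14711, e3 q16244 L676652 q14638, e3 q16245 L676668 q14708, e3 q16246 L676682 q14115, e3 q16247 L676694 q14117, e3 q16248 L676703 q14118, e3 q16249 L676713 q14119, e3 q16250 L676724 q14120, e3 q16251 L676737 q14121, e3 q16252 L676748 q14122, e3 q16253 L676763 q14123, e3 q16254 L676778 q14124, e3 q16255 L676786 q14127, trivial⟩ (by decide +kernel)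

theorem ce_a_254 : ∀ r, r < 64 → sm ga (Qf (16256 + r)) = Qf (tab Gen.a (16256 + r)) :=
  edges_tab (sm ga) Qf (tab Gen.a) 16256 [(16256, 14129), (16257, 14130), (16258, 14131), (16259, 14132), (16260, 14133), (16261, 14134), (16262, 14135), (16263, 14136), (16264, 14139), (16265, 14142), (16266, 14143), (16267, 14144), (16268, 14145), (16269, 14151), (16270, 14152), (16271, 14153), (16272, 14154), (16273, 14158), (16274, 14159), (16275, 14160), (16276, 14161), (16277, 14162), (16278, 14163), (16279, 14164), (16280, 14165), (16281, 14166), (16282, 14167), (16283, 14172), (16284, 14174), (16285, 14180), (16286, 14183), (16287, 18230), (16288, 18323), (16289, 18324), (16290, 18227), (16291, 18325), (16292, 18326), (16293, 18327), (16294, 18328), (16295, 18329), (16296, 15915), (16297, 15856), (16298, 18330), (16299, 14841), (16300, 14768), (16301, 18331), (16302, 18332), (16303, 18333), (16304, 18334), (16305, 14851), (16306, 14774), (16307, 18335), (16308, 15590), (16309, 15597), (16310, 18336), (16311, 18337), (16312, 18338),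 (16313, 15914), (16314, 18339), (16315, 18340), (16316, 18409), (16317, 18341), (16318, 18342), (16319, 18343)]
    ⟨e3 q16256 L676800 q14129, e3 q16257 L676814 q14130, e3 q16258 L676825 q14131, e3 q16259 L676838 q14132, e3 q16260 L676848 q14133, e3 q16261 L676862 q14134, e3 q16262 L676876 q14135, e3 q16263 L676882 q14136, e3 q16264 L676892 q14139, e3 q16265 L676905 q14142, e3 q16266 L676921 q14143, e3 q16267 L676931 q14144, e3 q16268 L676945 q14145, e3 q16269 L676953 q14151, e3 q16270 L676966 q14152, e3 q16271 L676980 q14153, e3 q16272 L676995 q14154, e3 q16273 L677004 q14158, e3 q16274 L677017 q14159, e3 q16275 L677029 q14160, e3 q16276 L677042 q14161, e3 q16277 L677054 q14162, e3 q16278 L677066 q14163, e3 q16279 L677080 q14164, e3 q16280 L677090 q14165, e3 q16281 L677101 q14166, e3 q16282 L677112 q14167, e3 q16283 L677128 q14172, e3 q16284 L677144 q14174, e3 q16285 L677160 q14180, e3 q16286 L677175 q14183, e3 q16287 (flp_a L696678) q18230, e3 q16288 (flp_a L697915) q18323, e3 q16289 (flp_a L697928) q18324, e3 q16290 (flp_a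 L696639) q18227, e3 q16291 (flp_a L697942) q18325, e3 q16292 (flp_a L697954) q18326, e3 q16293 (flp_a L697965) q18327, e3 q16294 (flp_a L697980) q18328, e3 q16295 (flp_a L697988) q18329, e3 q16296 L677278 q15915, e3 q16297 L677290 q15856, e3 q16298 (flp_a L697998) q18330, e3 q16299 L677318 q14841, e3 q16300 L677326 q14768, e3 q16301 (flp_a L698011) q18331, e3 q16302 (flp_a L698026) q18332, e3 q16303 (flp_a L698041) q18333, e3 q16304 (flp_a L698056) q18334, e3 q16305 L677373 q14851, e3 q16306 L677387 q14774, e3 q16307 (flp_a L698066) q18335, e3 q16308 L677411 q15590, e3 q16309 L677424 q15597, e3 q16310 (flp_a L698081) q18336, e3 q16311 (flp_a L698096) q18337, e3 q16312 (flp_a L698107) q18338, e3 q16313 L677467 q15914, e3 q16314 (flp_a L698122) q18339, e3 q16315 (flp_a L698134) q18340, e3 q16316 L698960 q18409, e3 q16317 (flp_a L698146) q18341, e3 q16318 (flp_a L698162) q18342, e3 q16319 (flp_a L698178) q18343, trivial⟩ (by decide +kernel)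

theorem ce_a_255 : ∀ r, r < 64 → sm ga (Qf (16320 + r)) = Qf (tab Gen.a (16320 + r)) :=
  edges_tab (sm ga) Qf (tab Gen.a) 16320 [(16320, 18344), (16321, 18345), (16322, 18419), (16323, 15916), (16324, 15518), (16325, 15857), (16326, 18346), (16327, 14140), (16328, 14810), (16329, 18425), (16330, 15762), (16331, 15773), (16332, 18347), (16333, 18348), (16334, 18349), (16335, 18350), (16336, 14148), (16337, 14816), (16338, 18437), (16339, 14974), (16340, 14895), (16341, 15749), (16342, 18351), (16343, 18352), (16344, 18353), (16345, 18354), (16346, 18355), (16347, 14599), (16348, 15519), (16349, 15858), (16350, 18356), (16351, 18357), (16352, 18358), (16353, 18359), (16354, 18360), (16355, 18361), (16356, 18362), (16357, 15288), (16358, 18363), (16359, 18460), (16360, 15918), (16361, 15922), (16362, 14170), (16363, 18463), (16364, 18464), (16365, 15726), (16366, 15927), (16367, 18364), (16368, 15929), (16369, 14175), (16370, 18472), (16371, 15919), (16372, 14179), (16373, 18475), (16374, 18365), (16375, 14182), (16376, 18458),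 (16377, 15949), (16378, 14184), (16379, 18480), (16380, 16380), (16381, 14188), (16382, 14189), (16383, 18483)]
    ⟨e3 q16320 (flp_a L698190) q18344, e3 q16321 (flp_a L698198) q18345, e3 q16322 L699060 q18419, e3 q16323 L677552 q15916, e3 q16324 L677565 q15518, e3 q16325 L677577 q15857, e3 q16326 (flp_a L698208) q18346, e3 q16327 (flp_a L677597) q14140, e3 q16328 L677613 q14810, e3 q16329 (flp_a L699139) q18425, e3 q16330 L677639 q15762, e3 q16331 L677649 q15773, e3 q16332 (flp_a L698221) q18347, e3 q16333 (flp_a L698235) q18348, e3 q16334 (flp_a L698249) q18349, e3 q16335 (flp_a L698261) q18350, e3 q16336 L677693 q14148, e3 q16337 L677708 q14816, e3 q16338 (flp_a L699271) q18437, e3 q16339 L677732 q14974, e3 q16340 L677746 q14895, e3 q16341 L677761 q15749, e3 q16342 (flp_a L698273) q18351, e3 q16343 (flp_a L698288) q18352, e3 q16344 (flp_a L698303) q18353, e3 q16345 (flp_a L698317) q18354, e3 q16346 (flp_a L698332) q18355, e3 q16347 L677814 q14599, e3 q16348 L677826 q15519, e3 q16349 L677840 q15858, e3 q16350 (flp_a L698343)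 q18356, e3 q16351 (flp_a L698358) q18357, e3 q16352 (flp_a L698372) q18358, e3 q16353 (flp_a L698385) q18359, e3 q16354 (flp_a L698398) q18360, e3 q16355 (flp_a L698411) q18361, e3 q16356 (flp_a L698424) q18362, e3 q16357 L677909 q15288, e3 q16358 (flp_a L698438) q18363, e3 q16359 L699530 q18460, e3 q16360 L677940 q15918, e3 q16361 L677952 q15922, e3 q16362 (flp_a L677963) q14170, e3 q16363 (flp_a L699572) q18463, e3 q16364 (flp_a L699587) q18464, e3 q16365 L677999 q15726, e3 q16366 L678011 q15927, e3 q16367 (flp_a L698452) q18364, e3 q16368 L678034 q15929, e3 q16369 (flp_a L678049) q14175, e3 q16370 (flp_a L699685) q18472, e3 q16371 L678074 q15919, e3 q16372 L678086 q14179, e3 q16373 (flp_a L699718) q18475, e3 q16374 (flp_a L698469) q18365, e3 q16375 L678112 q14182, e3 q16376 (flp_a L699506) q18458, e3 q16377 L678134 q15949, e3 q16378 (flp_a L678140) q14184, e3 q16379 (flp_a L699773) q18480, e3 q16380 L678168 q16380, e3 q16381 L678180 q14188, e3 q16382 L678194 q14189, e3 q16383 (flp_a L699815) q18483, trivial⟩ (by decide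 +kernel)

theorem ce_a_256 : ∀ r, r < 64 → sm ga (Qf (16384 + r)) = Qf (tab Gen.a (16384 + r)) :=
  edges_tab (sm ga) Qf (tab Gen.a) 16384 [(16384, 18484), (16385, 16385), (16386, 16386), (16387, 14194), (16388, 18487), (16389, 16389), (16390, 14197), (16391, 18094), (16392, 16392), (16393, 14210), (16394, 14212), (16395, 14214), (16396, 14271), (16397, 18490), (16398, 15819), (16399, 14260), (16400, 18491), (16401, 16401), (16402, 16402), (16403, 18078), (16404, 16404), (16405, 14311), (16406, 14312), (16407, 14999), (16408, 15002), (16409, 15003), (16410, 15004), (16411, 14246), (16412, 14247), (16413, 14248), (16414, 14249), (16415, 14250), (16416, 14251), (16417, 14252), (16418, 14253), (16419, 14254), (16420, 14255), (16421, 14256), (16422, 14257), (16423, 14259), (16424, 14262), (16425, 14263), (16426, 14266), (16427, 14267), (16428, 14268), (16429, 14270), (16430, 14273), (16431, 14274), (16432, 18500), (16433, 18501), (16434, 18502), (16435, 18503), (16436, 18504), (16437, 18505), (16438, 18506), (16439, 18507), (16440,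 14440), (16441, 18508), (16442, 18509), (16443, 18127), (16444, 18510), (16445, 15341), (16446, 18511), (16447, 18512)]
    ⟨e3 q16384 (flp_a L699830) q18484, e3 q16385 L678228 q16385, e3 q16386 L678244 q16386, e3 q16387 L678256 q14194, e3 q16388 (flp_a L699868) q18487, e3 q16389 L678274 q16389, e3 q16390 L678283 q14197, e3 q16391 (flp_a L694672) q18094, e3 q16392 L678300 q16392, e3 q16393 L678312 q14210, e3 q16394 L678330 q14212, e3 q16395 L678345 q14214, e3 q16396 L678361 q14271, e3 q16397 (flp_a L699902) q18490, e3 q16398 L678389 q15819, e3 q16399 L678404 q14260, e3 q16400 (flp_a L699920) q18491, e3 q16401 L678430 q16401, e3 q16402 L678449 q16402, e3 q16403 (flp_a L694406) q18078, e3 q16404 L678476 q16404, e3 q16405 L678491 q14311, e3 q16406 L678508 q14312, e3 q16407 L678521 q14999, e3 q16408 L678537 q15002, e3 q16409 L678552 q15003, e3 q16410 L678568 q15004, e3 q16411 L678582 q14246, e3 q16412 L678600 q14247, e3 q16413 L678614 q14248, e3 q16414 L678626 q14249, e3 q16415 L678640 q14250, e3 q16416 L678657 q14251, e3 q16417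 L678670 q14252, e3 q16418 L678684 q14253, e3 q16419 L678696 q14254, e3 q16420 L678708 q14255, e3 q16421 L678722 q14256, e3 q16422 L678738 q14257, e3 q16423 L678748 q14259, e3 q16424 L678765 q14262, e3 q16425 L678781 q14263, e3 q16426 L678792 q14266, e3 q16427 L678809 q14267, e3 q16428 L678823 q14268, e3 q16429 L678837 q14270, e3 q16430 L678852 q14273, e3 q16431 L678866 q14274, e3 q16432 (flp_a L700075) q18500, e3 q16433 (flp_a L700093) q18501, e3 q16434 (flp_a L700109) q18502, e3 q16435 (flp_a L700126) q18503, e3 q16436 (flp_a L700143) q18504, e3 q16437 (flp_a L700155) q18505, e3 q16438 (flp_a L700172) q18506, e3 q16439 (flp_a L700190) q18507, e3 q16440 L678972 q14440, e3 q16441 (flp_a L700205) q18508, e3 q16442 (flp_a L700223) q18509, e3 q16443 (flp_a L695189) q18127, e3 q16444 (flp_a L700237) q18510, e3 q16445 L679032 q15341, e3 q16446 (flp_a L700253) q18511, e3 q16447 (flp_a L700271) q18512, trivial⟩ (by decide +kernel)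

theorem ce_a_257 : ∀ r, r < 64 → sm ga (Qf (16448 + r)) = Qf (tab Gen.a (16448 + r)) :=
  edges_tab (sm ga) Qf (tab Gen.a) 16448 [(16448, 14369), (16449, 18494), (16450, 15358), (16451, 18513), (16452, 15814), (16453, 14360), (16454, 18492), (16455, 18130), (16456, 18514), (16457, 14278), (16458, 18532), (16459, 14996), (16460, 15007), (16461, 15345), (16462, 15811), (16463, 15334), (16464, 18118), (16465, 14313), (16466, 14314), (16467, 14315), (16468, 14316), (16469, 14317), (16470, 14318), (16471, 14319), (16472, 14320), (16473, 14321), (16474, 14322), (16475, 14323), (16476, 14324), (16477, 14325), (16478, 14326), (16479, 18550), (16480, 14328), (16481, 14329), (16482, 14331), (16483, 14332), (16484, 14308), (16485, 14333), (16486, 14334), (16487, 14337), (16488, 15311), (16489, 14341), (16490, 14342), (16491, 18557), (16492, 14345), (16493, 18496), (16494, 18497), (16495, 18498), (16496, 18538), (16497, 18539), (16498, 18540), (16499, 18535), (16500, 18541), (16501, 15317), (16502, 18543), (16503, 18544), (16504, 18108),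 (16505, 18545), (16506, 18546), (16507, 18516), (16508, 18547), (16509, 18548), (16510, 18542), (16511, 18549)]
    ⟨e3 q16448 L679062 q14369, e3 q16449 (flp_a L699969) q18494, e3 q16450 L679093 q15358, e3 q16451 (flp_a L700281) q18513, e3 q16452 L679116 q15814, e3 q16453 L679131 q14360, e3 q16454 (flp_a L699936) q18492, e3 q16455 (flp_a L695237) q18130, e3 q16456 (flp_a L700298) q18514, e3 q16457 L679185 q14278, e3 q16458 (flp_a L700521) q18532, e3 q16459 L679211 q14996, e3 q16460 L679225 q15007, e3 q16461 L679240 q15345, e3 q16462 L679252 q15811, e3 q16463 L679265 q15334, e3 q16464 (flp_a L695032) q18118, e3 q16465 L679286 q14313, e3 q16466 L679296 q14314, e3 q16467 L679304 q14315, e3 q16468 L679312 q14316, e3 q16469 L679323 q14317, e3 q16470 L679332 q14318, e3 q16471 L679342 q14319, e3 q16472 L679359 q14320, e3 q16473 L679367 q14321, e3 q16474 L679378 q14322, e3 q16475 L679392 q14323, e3 q16476 L679406 q14324, e3 q16477 L679416 q14325, e3 q16478 L679428 q14326, e3 q16479 (flp_a L700763) q18550, e3 q16480 L679444 q14328,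 e3 q16481 L679453 q14329, e3 q16482 L679465 q14331, e3 q16483 L679475 q14332, e3 q16484 L679483 q14308, e3 q16485 L679496 q14333, e3 q16486 L679509 q14334, e3 q16487 L679522 q14337, e3 q16488 L679540 q15311, e3 q16489 L679545 q14341, e3 q16490 L679556 q14342, e3 q16491 (flp_a L700840) q18557, e3 q16492 L679577 q14345, e3 q16493 (flp_a L700005) q18496, e3 q16494 (flp_a L700024) q18497, e3 q16495 (flp_a L700042) q18498, e3 q16496 (flp_a L700603) q18538, e3 q16497 (flp_a L700621) q18539, e3 q16498 (flp_a L700635) q18540, e3 q16499 (flp_a L700578) q18535, e3 q16500 (flp_a L700652) q18541, e3 q16501 (flp_a L679696) q15317, e3 q16502 (flp_a L700677) q18543, e3 q16503 (flp_a L700695) q18544, e3 q16504 (flp_a L694873) q18108, e3 q16505 (flp_a L700706) q18545, e3 q16506 (flp_a L700715) q18546, e3 q16507 (flp_a L700338) q18516, e3 q16508 (flp_a L700725) q18547, e3 q16509 (flp_a L700735) q18548, e3 q16510 (flp_a L700669) q18542, e3 q16511 (flp_a L700751) q18549, trivial⟩ (by decide +kernel)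

theorem ce_a_258 : ∀ r, r < 64 → sm ga (Qf (16512 + r)) = Qf (tab Gen.a (16512 + r)) :=
  edges_tab (sm ga) Qf (tab Gen.a) 16512 [(16512, 18551), (16513, 18552), (16514, 14327), (16515, 15314), (16516, 18580), (16517, 18112), (16518, 18554), (16519, 18555), (16520, 18110), (16521, 18114), (16522, 18556), (16523, 18558), (16524, 14418), (16525, 18116), (16526, 18117), (16527, 18559), (16528, 18561), (16529, 14344), (16530, 18593), (16531, 18563), (16532, 14347), (16533, 16533), (16534, 14358), (16535, 14361), (16536, 14367), (16537, 14370), (16538, 14455), (16539, 14460), (16540, 18596), (16541, 15364), (16542, 15426), (16543, 15823), (16544, 18085), (16545, 14630), (16546, 14445), (16547, 18597), (16548, 15848), (16549, 15835), (16550, 16550), (16551, 16551), (16552, 16552), (16553, 16553), (16554, 16554), (16555, 16555), (16556, 18083), (16557, 16557), (16558, 14382), (16559, 15864), (16560, 16560), (16561, 15337), (16562, 15082), (16563, 14543), (16564, 15066), (16565, 15068), (16566, 15063), (16567, 15069), (16568, 15064),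 (16569, 15070), (16570, 14422), (16571, 14423), (16572, 14424), (16573, 14425), (16574, 14426), (16575, 14427)]
    ⟨e3 q16512 (flp_a L700781) q18551, e3 q16513 (flp_a L700795) q18552, e3 q16514 (flp_a L679813) q14327, e3 q16515 L679831 q15314, e3 q16516 (flp_a L701101) q18580, e3 q16517 (flp_a L694940) q18112, e3 q16518 (flp_a L700811) q18554, e3 q16519 (flp_a L700822) q18555, e3 q16520 (flp_a L694906) q18110, e3 q16521 (flp_a L694973) q18114, e3 q16522 (flp_a L700832) q18556, e3 q16523 (flp_a L700854) q18558, e3 q16524 L679920 q14418, e3 q16525 (flp_a L694999) q18116, e3 q16526 (flp_a L695016) q18117, e3 q16527 (flp_a L700868) q18559, e3 q16528 (flp_a L700891) q18561, e3 q16529 L679976 q14344, e3 q16530 (flp_a L701230) q18593, e3 q16531 (flp_a L700920) q18563, e3 q16532 L680010 q14347, e3 q16533 L680025 q16533, e3 q16534 L680042 q14358, e3 q16535 L680060 q14361, e3 q16536 L680074 q14367, e3 q16537 L680091 q14370, e3 q16538 L680103 q14455, e3 q16539 L680119 q14460, e3 q16540 (flp_a L701263) q18596, e3 q16541 L680145 q15364,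 e3 q16542 L680160 q15426, e3 q16543 L680172 q15823, e3 q16544 (flp_a L694530) q18085, e3 q16545 L680200 q14630, e3 q16546 L680217 q14445, e3 q16547 (flp_a L701281) q18597, e3 q16548 L680243 q15848, e3 q16549 L680258 q15835, e3 q16550 L680272 q16550, e3 q16551 L680289 q16551, e3 q16552 L680302 q16552, e3 q16553 L680318 q16553, e3 q16554 L680326 q16554, e3 q16555 L680342 q16555, e3 q16556 (flp_a L694494) q18083, e3 q16557 L680364 q16557, e3 q16558 L680378 q14382, e3 q16559 L680391 q15864, e3 q16560 L680405 q16560, e3 q16561 L680420 q15337, e3 q16562 L680433 q15082, e3 q16563 L680448 q14543, e3 q16564 L680465 q15066, e3 q16565 L680478 q15068, e3 q16566 L680489 q15063, e3 q16567 L680497 q15069, e3 q16568 L680510 q15064, e3 q16569 L680520 q15070, e3 q16570 L680535 q14422, e3 q16571 L680552 q14423, e3 q16572 L680565 q14424, e3 q16573 L680575 q14425, e3 q16574 L680583 q14426, e3 q16575 L680593 q14427, trivial⟩ (by decide +kernel)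

theorem ce_a_259 : ∀ r, r < 64 → sm ga (Qf (16576 + r)) = Qf (tab Gen.a (16576 + r)) :=
  edges_tab (sm ga) Qf (tab Gen.a) 16576 [(16576, 14428), (16577, 14429), (16578, 14430), (16579, 14431), (16580, 14432), (16581, 14433), (16582, 14434), (16583, 14435), (16584, 14436), (16585, 14437), (16586, 14438), (16587, 18138), (16588, 14441), (16589, 14443), (16590, 14444), (16591, 14446), (16592, 14447), (16593, 14448), (16594, 14451), (16595, 14454), (16596, 14456), (16597, 14457), (16598, 14459), (16599, 14462), (16600, 14463), (16601, 15852), (16602, 14466), (16603, 15600), (16604, 18612), (16605, 18613), (16606, 18614), (16607, 18615), (16608, 18616), (16609, 18617), (16610, 18618), (16611, 18619), (16612, 18155), (16613, 15496), (16614, 18620), (16615, 15058), (16616, 18621), (16617, 18622), (16618, 18623), (16619, 18624), (16620, 18625), (16621, 18626), (16622, 18627), (16623, 18628), (16624, 18629), (16625, 18215), (16626, 18630), (16627, 18631), (16628, 18632), (16629, 18633), (16630, 14439), (16631, 18137), (16632, 18680),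 (16633, 15464), (16634, 18522), (16635, 18635), (16636, 15482), (16637, 18175), (16638, 18636), (16639, 18602)]
    ⟨e3 q16576 L680606 q14428, e3 q16577 L680619 q14429, e3 q16578 L680627 q14430, e3 q16579 L680645 q14431, e3 q16580 L680657 q14432, e3 q16581 L680665 q14433, e3 q16582 L680679 q14434, e3 q16583 L680691 q14435, e3 q16584 L680703 q14436, e3 q16585 L680715 q14437, e3 q16586 L680727 q14438, e3 q16587 (flp_a L695366) q18138, e3 q16588 L680747 q14441, e3 q16589 L680757 q14443, e3 q16590 L680765 q14444, e3 q16591 L680773 q14446, e3 q16592 L680788 q14447, e3 q16593 L680800 q14448, e3 q16594 L680811 q14451, e3 q16595 L680822 q14454, e3 q16596 L680837 q14456, e3 q16597 L680850 q14457, e3 q16598 L680863 q14459, e3 q16599 L680876 q14462, e3 q16600 L680888 q14463, e3 q16601 L680898 q15852, e3 q16602 L680911 q14466, e3 q16603 L680924 q15600, e3 q16604 (flp_a L701506) q18612, e3 q16605 (flp_a L701521) q18613, e3 q16606 (flp_a L701533) q18614, e3 q16607 (flp_a L701548) q18615, e3 q16608 (flp_a L701562) q18616, e3 q16609 (flp_a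 L701574) q18617, e3 q16610 (flp_a L701589) q18618, e3 q16611 (flp_a L701604) q18619, e3 q16612 (flp_a L695602) q18155, e3 q16613 L681013 q15496, e3 q16614 (flp_a L701612) q18620, e3 q16615 L681032 q15058, e3 q16616 (flp_a L701625) q18621, e3 q16617 (flp_a L701638) q18622, e3 q16618 (flp_a L701648) q18623, e3 q16619 (flp_a L701664) q18624, e3 q16620 (flp_a L701674) q18625, e3 q16621 (flp_a L701688) q18626, e3 q16622 (flp_a L701700) q18627, e3 q16623 (flp_a L701708) q18628, e3 q16624 (flp_a L701718) q18629, e3 q16625 (flp_a L696497) q18215, e3 q16626 (flp_a L701732) q18630, e3 q16627 (flp_a L701746) q18631, e3 q16628 (flp_a L701760) q18632, e3 q16629 (flp_a L701774) q18633, e3 q16630 (flp_a L681148) q14439, e3 q16631 (flp_a L695358) q18137, e3 q16632 (flp_a L702247) q18680, e3 q16633 L681168 q15464, e3 q16634 (flp_a L700403) q18522, e3 q16635 (flp_a L701796) q18635, e3 q16636 L681190 q15482, e3 q16637 (flp_a L695888) q18175, e3 q16638 (flp_a L701804) q18636, e3 q16639 (flp_a L701366) q18602, trivial⟩ (by decide +kernel)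

theorem ce_a_260 : ∀ r, r < 64 → sm ga (Qf (16640 + r)) = Qf (tab Gen.a (16640 + r)) :=
  edges_tab (sm ga) Qf (tab Gen.a) 16640 [(16640, 15511), (16641, 18637), (16642, 18638), (16643, 15522), (16644, 18177), (16645, 18639), (16646, 15859), (16647, 18640), (16648, 14631), (16649, 18598), (16650, 18219), (16651, 14700), (16652, 18641), (16653, 15777), (16654, 18642), (16655, 18599), (16656, 18223), (16657, 18643), (16658, 14465), (16659, 15865), (16660, 18644), (16661, 16661), (16662, 16662), (16663, 14470), (16664, 18090), (16665, 18707), (16666, 16666), (16667, 16667), (16668, 16668), (16669, 18082), (16670, 14479), (16671, 18710), (16672, 14482), (16673, 18600), (16674, 15074), (16675, 15078), (16676, 15052), (16677, 15080), (16678, 15059), (16679, 15837), (16680, 18172), (16681, 18173), (16682, 15486), (16683, 15838), (16684, 15461), (16685, 18174), (16686, 15432), (16687, 15465), (16688, 18176), (16689, 14541), (16690, 14542), (16691, 14544), (16692, 14545), (16693, 14546), (16694, 14547), (16695, 14548), (16696, 14549),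 (16697, 14550), (16698, 14551), (16699, 15410), (16700, 14553), (16701, 14554), (16702, 14556), (16703, 14557)]
    ⟨e3 q16640 L681229 q15511, e3 q16641 (flp_a L701810) q18637, e3 q16642 (flp_a L701826) q18638, e3 q16643 L681257 q15522, e3 q16644 (flp_a L695920) q18177, e3 q16645 (flp_a L701841) q18639, e3 q16646 L681285 q15859, e3 q16647 (flp_a L701852) q18640, e3 q16648 L681316 q14631, e3 q16649 (flp_a L701298) q18598, e3 q16650 (flp_a L696533) q18219, e3 q16651 L681356 q14700, e3 q16652 (flp_a L701869) q18641, e3 q16653 L681377 q15777, e3 q16654 (flp_a L701883) q18642, e3 q16655 (flp_a L701315) q18599, e3 q16656 (flp_a L696588) q18223, e3 q16657 (flp_a L701897) q18643, e3 q16658 L681428 q14465, e3 q16659 L681442 q15865, e3 q16660 (flp_a L701912) q18644, e3 q16661 L681462 q16661, e3 q16662 L681477 q16662, e3 q16663 (flp_a L681489) q14470, e3 q16664 (flp_a L694611) q18090, e3 q16665 (flp_a L702551) q18707, e3 q16666 L681528 q16666, e3 q16667 L681543 q16667, e3 q16668 L681557 q16668, e3 q16669 (flp_a L694475) q18082, e3 q16670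 L681579 q14479, e3 q16671 (flp_a L702591) q18710, e3 q16672 L681597 q14482, e3 q16673 (flp_a L701331) q18600, e3 q16674 L681624 q15074, e3 q16675 L681638 q15078, e3 q16676 L681649 q15052, e3 q16677 L681661 q15080, e3 q16678 L681672 q15059, e3 q16679 L681684 q15837, e3 q16680 (flp_a L695839) q18172, e3 q16681 (flp_a L695855) q18173, e3 q16682 L681716 q15486, e3 q16683 L681728 q15838, e3 q16684 L681741 q15461, e3 q16685 (flp_a L695872) q18174, e3 q16686 L681763 q15432, e3 q16687 L681769 q15465, e3 q16688 (flp_a L695906) q18176, e3 q16689 L681784 q14541, e3 q16690 L681800 q14542, e3 q16691 L681812 q14544, e3 q16692 L681821 q14545, e3 q16693 L681831 q14546, e3 q16694 L681840 q14547, e3 q16695 L681848 q14548, e3 q16696 L681856 q14549, e3 q16697 L681865 q14550, e3 q16698 L681874 q14551, e3 q16699 L681887 q15410, e3 q16700 L681895 q14553, e3 q16701 L681907 q14554, e3 q16702 L681916 q14556, e3 q16703 L681923 q14557, trivial⟩ (by decide +kernel)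

theorem ce_a_261 : ∀ r, r < 64 → sm ga (Qf (16704 + r)) = Qf (tab Gen.a (16704 + r)) :=
  edges_tab (sm ga) Qf (tab Gen.a) 16704 [(16704, 14558), (16705, 14559), (16706, 14560), (16707, 14561), (16708, 14562), (16709, 14563), (16710, 14564), (16711, 14565), (16712, 14566), (16713, 18762), (16714, 14568), (16715, 14569), (16716, 14570), (16717, 14571), (16718, 14572), (16719, 14516), (16720, 15394), (16721, 18769), (16722, 14577), (16723, 14578), (16724, 14581), (16725, 14582), (16726, 14583), (16727, 14584), (16728, 14586), (16729, 14587), (16730, 14591), (16731, 14594), (16732, 14595), (16733, 14596), (16734, 14597), (16735, 18775), (16736, 14600), (16737, 14601), (16738, 14602), (16739, 15384), (16740, 14603), (16741, 14604), (16742, 14535), (16743, 18790), (16744, 14607), (16745, 14539), (16746, 18793), (16747, 14610), (16748, 18727), (16749, 18728), (16750, 18729), (16751, 18605), (16752, 18730), (16753, 18731), (16754, 18732), (16755, 18733), (16756, 18734), (16757, 18735), (16758, 18722), (16759, 18736), (16760, 15404),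 (16761, 18738), (16762, 18739), (16763, 18740), (16764, 18741), (16765, 18742), (16766, 15412), (16767, 18744)]
    ⟨e3 q16704 L681931 q14558, e3 q16705 L681943 q14559, e3 q16706 L681951 q14560, e3 q16707 L681963 q14561, e3 q16708 L681973 q14562, e3 q16709 L681981 q14563, e3 q16710 L681991 q14564, e3 q16711 L682001 q14565, e3 q16712 L682013 q14566, e3 q16713 L703150 q18762, e3 q16714 L682027 q14568, e3 q16715 L682036 q14569, e3 q16716 L682046 q14570, e3 q16717 L682052 q14571, e3 q16718 L682062 q14572, e3 q16719 (flp_a L682066) q14516, e3 q16720 L682082 q15394, e3 q16721 (flp_a L703218) q18769, e3 q16722 L682099 q14577, e3 q16723 L682108 q14578, e3 q16724 L682116 q14581, e3 q16725 L682122 q14582, e3 q16726 L682134 q14583, e3 q16727 L682147 q14584, e3 q16728 L682161 q14586, e3 q16729 L682170 q14587, e3 q16730 L682180 q14591, e3 q16731 L682185 q14594, e3 q16732 L682196 q14595, e3 q16733 L682205 q14596, e3 q16734 L682216 q14597, e3 q16735 (flp_a L703269) q18775, e3 q16736 L682237 q14600, e3 q16737 L682247 q14601, e3 q16738 L682259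 q14602, e3 q16739 L682275 q15384, e3 q16740 L682280 q14603, e3 q16741 L682291 q14604, e3 q16742 (flp_a L682300) q14535, e3 q16743 (flp_a L703446) q18790, e3 q16744 L682321 q14607, e3 q16745 L682331 q14539, e3 q16746 (flp_a L703476) q18793, e3 q16747 L682350 q14610, e3 q16748 (flp_a L702789) q18727, e3 q16749 (flp_a L702803) q18728, e3 q16750 (flp_a L702814) q18729, e3 q16751 (flp_a L701417) q18605, e3 q16752 (flp_a L702828) q18730, e3 q16753 (flp_a L702838) q18731, e3 q16754 (flp_a L702847) q18732, e3 q16755 (flp_a L702858) q18733, e3 q16756 (flp_a L702866) q18734, e3 q16757 (flp_a L702876) q18735, e3 q16758 (flp_a L702747) q18722, e3 q16759 (flp_a L702891) q18736, e3 q16760 (flp_a L682476) q15404, e3 q16761 (flp_a L702914) q18738, e3 q16762 (flp_a L702930) q18739, e3 q16763 (flp_a L702939) q18740, e3 q16764 (flp_a L702946) q18741, e3 q16765 (flp_a L702955) q18742, e3 q16766 L682519 q15412, e3 q16767 (flp_a L702976) q18744, trivial⟩ (by decide +kernel)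

theorem ce_a_262 : ∀ r, r < 64 → sm ga (Qf (16768 + r)) = Qf (tab Gen.a (16768 + r)) :=
  edges_tab (sm ga) Qf (tab Gen.a) 16768 [(16768, 18745), (16769, 18135), (16770, 18139), (16771, 18746), (16772, 18747), (16773, 18748), (16774, 18749), (16775, 18750), (16776, 18751), (16777, 18836), (16778, 18753), (16779, 18754), (16780, 18755), (16781, 18756), (16782, 18757), (16783, 18737), (16784, 18758), (16785, 18759), (16786, 18760), (16787, 18761), (16788, 14567), (16789, 15392), (16790, 18851), (16791, 18764), (16792, 18765), (16793, 18766), (16794, 18151), (16795, 18767), (16796, 18768), (16797, 14575), (16798, 15395), (16799, 18863), (16800, 18149), (16801, 18157), (16802, 18772), (16803, 18773), (16804, 18146), (16805, 18152), (16806, 18159), (16807, 18774), (16808, 18776), (16809, 18777), (16810, 18160), (16811, 18162), (16812, 18778), (16813, 18779), (16814, 18161), (16815, 18163), (16816, 18164), (16817, 18780), (16818, 18448), (16819, 18782), (16820, 18783), (16821, 18784), (16822, 14598), (16823, 18887), (16824, 18888),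 (16825, 18422), (16826, 18449), (16827, 18786), (16828, 18787), (16829, 18789), (16830, 14606), (16831, 18898)]
    ⟨e3 q16768 (flp_a L702990) q18745, e3 q16769 (flp_a L695317) q18135, e3 q16770 (flp_a L695386) q18139, e3 q16771 (flp_a L703000) q18746, e3 q16772 (flp_a L703008) q18747, e3 q16773 (flp_a L703016) q18748, e3 q16774 (flp_a L703028) q18749, e3 q16775 (flp_a L703038) q18750, e3 q16776 (flp_a L703046) q18751, e3 q16777 L703867 q18836, e3 q16778 (flp_a L703064) q18753, e3 q16779 (flp_a L703072) q18754, e3 q16780 (flp_a L703084) q18755, e3 q16781 (flp_a L703092) q18756, e3 q16782 (flp_a L703102) q18757, e3 q16783 (flp_a L702906) q18737, e3 q16784 (flp_a L703110) q18758, e3 q16785 (flp_a L703122) q18759, e3 q16786 (flp_a L703132) q18760, e3 q16787 (flp_a L703146) q18761, e3 q16788 (flp_a L682703) q14567, e3 q16789 L682719 q15392, e3 q16790 (flp_a L704011) q18851, e3 q16791 (flp_a L703176) q18764, e3 q16792 (flp_a L703183) q18765, e3 q16793 (flp_a L703194) q18766, e3 q16794 (flp_a L695554) q18151, e3 q16795 (flp_a L703202)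 q18767, e3 q16796 (flp_a L703210) q18768, e3 q16797 L682784 q14575, e3 q16798 L682796 q15395, e3 q16799 (flp_a L704115) q18863, e3 q16800 (flp_a L695529) q18149, e3 q16801 (flp_a L695629) q18157, e3 q16802 (flp_a L703247) q18772, e3 q16803 (flp_a L703255) q18773, e3 q16804 (flp_a L695485) q18146, e3 q16805 (flp_a L695564) q18152, e3 q16806 (flp_a L695652) q18159, e3 q16807 (flp_a L703263) q18774, e3 q16808 (flp_a L703283) q18776, e3 q16809 (flp_a L703296) q18777, e3 q16810 (flp_a L695662) q18160, e3 q16811 (flp_a L695691) q18162, e3 q16812 (flp_a L703310) q18778, e3 q16813 (flp_a L703320) q18779, e3 q16814 (flp_a L695676) q18161, e3 q16815 (flp_a L695704) q18163, e3 q16816 (flp_a L695718) q18164, e3 q16817 (flp_a L703327) q18780, e3 q16818 (flp_a L699404) q18448, e3 q16819 (flp_a L703351) q18782, e3 q16820 (flp_a L703361) q18783, e3 q16821 (flp_a L703373) q18784, e3 q16822 (flp_a L682986) q14598, e3 q16823 (flp_a L704320) q18887, e3 q16824 (flp_a L704334) q18888, e3 q16825 (flp_a L699101) q18422, e3 q16826 (flp_a L699418)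 q18449, e3 q16827 (flp_a L703394) q18786, e3 q16828 (flp_a L703405) q18787, e3 q16829 (flp_a L703432) q18789, e3 q16830 L683070 q14606, e3 q16831 (flp_a L704440) q18898, trivial⟩ (by decide +kernel)

theorem ce_a_263 : ∀ r, r < 64 → sm ga (Qf (16832 + r)) = Qf (tab Gen.a (16832 + r)) :=
  edges_tab (sm ga) Qf (tab Gen.a) 16832 [(16832, 18792), (16833, 14609), (16834, 18226), (16835, 18795), (16836, 16836), (16837, 14614), (16838, 14615), (16839, 18901), (16840, 18902), (16841, 16841), (16842, 16842), (16843, 14620), (16844, 14632), (16845, 14633), (16846, 18601), (16847, 15532), (16848, 18696), (16849, 18297), (16850, 15623), (16851, 15142), (16852, 15867), (16853, 18097), (16854, 15264), (16855, 15248), (16856, 15265), (16857, 15260), (16858, 15266), (16859, 15256), (16860, 15261), (16861, 15257), (16862, 15262), (16863, 14679), (16864, 14680), (16865, 14681), (16866, 14683), (16867, 14684), (16868, 14686), (16869, 14687), (16870, 14691), (16871, 14692), (16872, 14693), (16873, 14699), (16874, 14701), (16875, 14702), (16876,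 14704), (16877, 14705), (16878, 14709), (16879, 14713), (16880, 15605), (16881, 15611), (16882, 15612), (16883, 15602), (16884, 15575), (16885, 15606), (16886, 15579), (16887, 15580), (16888, 15585), (16889, 15586), (16890, 15592), (16891, 15593), (16892, 15594), (16893, 15599), (16894, 18918), (16895, 18919)]
    ⟨e3 q16832 (flp_a L703469) q18792, e3 q16833 L683098 q14609, e3 q16834 (flp_a L696630) q18226, e3 q16835 (flp_a L703494) q18795, e3 q16836 L683119 q16836, e3 q16837 L683130 q14614, e3 q16838 L683143 q14615, e3 q16839 (flp_a L704469) q18901, e3 q16840 (flp_a L704483) q18902, e3 q16841 L683182 q16841, e3 q16842 L683197 q16842, e3 q16843 L683208 q14620, e3 q16844 L683221 q14632, e3 q16845 L683237 q14633, e3 q16846 (flp_a L701349) q18601, e3 q16847 L683259 q15532, e3 q16848 (flp_a L702412) q18696, e3 q16849 (flp_a L697546) q18297, e3 q16850 L683300 q15623, e3 q16851 L683315 q15142, e3 q16852 L683330 q15867, e3 q16853 (flp_a L694714) q18097, e3 q16854 L683352 q15264, e3 q16855 L683363 q15248, e3 q16856 L683375 q15265,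 e3 q16857 L683388 q15260, e3 q16858 L683399 q15266, e3 q16859 L683413 q15256, e3 q16860 L683426 q15261, e3 q16861 L683436 q15257, e3 q16862 L683450 q15262, e3 q16863 L683463 q14679, e3 q16864 L683474 q14680, e3 q16865 L683486 q14681, e3 q16866 L683498 q14683, e3 q16867 L683508 q14684, e3 q16868 L683520 q14686, e3 q16869 L683533 q14687, e3 q16870 L683544 q14691, e3 q16871 L683554 q14692, e3 q16872 L683566 q14693, e3 q16873 L683578 q14699, e3 q16874 L683589 q14701, e3 q16875 L683600 q14702, e3 q16876 L683610 q14704, e3 q16877 L683616 q14705, e3 q16878 L683625 q14709, e3 q16879 L683633 q14713, e3 q16880 L683647 q15605, e3 q16881 L683658 q15611, e3 q16882 L683665 q15612, e3 q16883 L683678 q15602, e3 q16884 L683689 q15575, e3 q16885 L683701 q15606, e3 q16886 L683713 q15579, e3 q16887 L683723 q15580, e3 q16888 L683735 q15585, e3 q16889 L683747 q15586, e3 q16890 L683758 q15592, e3 q16891 L683767 q15593, e3 q16892 L683778 q15594, e3 q16893 L683790 q15599, e3 q16894 (flp_a L704696) q18918, e3 q16895 (flp_a L704709) q18919, trivial⟩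 (by decide +kernel)

theorem ce_a_264 : ∀ r, r < 64 → sm ga (Qf (16896 + r)) = Qf (tab Gen.a (16896 + r)) :=
  edges_tab (sm ga) Qf (tab Gen.a) 16896 [(16896, 15563), (16897, 18920), (16898, 18921), (16899, 15215), (16900, 15565), (16901, 15566), (16902, 18922), (16903, 18923), (16904, 18924), (16905, 15568), (16906, 18699), (16907, 18925), (16908, 18926), (16909, 15216), (16910, 15569), (16911, 15570), (16912, 15571), (16913, 18315), (16914, 18927), (16915, 18928), (16916, 15224), (16917, 15572), (16918, 15853), (16919, 18316), (16920, 18319), (16921, 18929), (16922, 15416), (16923, 18700), (16924, 18930), (16925, 15516), (16926, 18320), (16927, 18931), (16928, 18932), (16929, 15854), (16930, 18321), (16931, 18322), (16932, 18289), (16933, 15855), (16934, 15562), (16935, 15778), (16936, 15564), (16937, 15776), (16938, 15666), (16939, 15560), (16940, 15561), (16941, 18299), (16942, 18300), (16943, 18301), (16944, 18302), (16945, 18303), (16946, 18304), (16947, 18305), (16948, 18306), (16949, 18307), (16950, 18308), (16951,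 18309), (16952, 18310), (16953, 18311), (16954, 18312), (16955, 18313), (16956, 18314), (16957, 18317), (16958, 18318), (16959, 14798)]
    ⟨e3 q16896 L683819 q15563, e3 q16897 (flp_a L704722) q18920, e3 q16898 (flp_a L704732) q18921, e3 q16899 L683855 q15215, e3 q16900 L683859 q15565, e3 q16901 L683869 q15566, e3 q16902 (flp_a L704744) q18922, e3 q16903 (flp_a L704754) q18923, e3 q16904 (flp_a L704764) q18924, e3 q16905 L683899 q15568, e3 q16906 (flp_a L702455) q18699, e3 q16907 (flp_a L704778) q18925, e3 q16908 (flp_a L704791) q18926, e3 q16909 L683940 q15216, e3 q16910 L683954 q15569, e3 q16911 L683968 q15570, e3 q16912 L683984 q15571, e3 q16913 (flp_a L697798) q18315, e3 q16914 (flp_a L704804) q18927, e3 q16915 (flp_a L704814) q18928, e3 q16916 L684016 q15224, e3 q16917 L684031 q15572, e3 q16918 L684046 q15853, e3 q16919 (flp_a L697814) q18316, e3 q16920 (flp_a L697855) q18319, e3 q16921 (flp_a L704826) q18929, e3 q16922 L684083 q15416, e3 q16923 (flp_a L702469) q18700, e3 q16924 (flp_a L704837) q18930, e3 q16925 L684111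 q15516, e3 q16926 (flp_a L697870) q18320, e3 q16927 (flp_a L704849) q18931, e3 q16928 (flp_a L704856) q18932, e3 q16929 L684144 q15854, e3 q16930 (flp_a L697886) q18321, e3 q16931 (flp_a L697901) q18322, e3 q16932 (flp_a L697427) q18289, e3 q16933 L684180 q15855, e3 q16934 L684194 q15562, e3 q16935 L684209 q15778, e3 q16936 L684226 q15564, e3 q16937 L684242 q15776, e3 q16938 L684260 q15666, e3 q16939 L684278 q15560, e3 q16940 L684292 q15561, e3 q16941 (flp_a L697580) q18299, e3 q16942 (flp_a L697596) q18300, e3 q16943 (flp_a L697610) q18301, e3 q16944 (flp_a L697626) q18302, e3 q16945 (flp_a L697641) q18303, e3 q16946 (flp_a L697655) q18304, e3 q16947 (flp_a L697669) q18305, e3 q16948 (flp_a L697686) q18306, e3 q16949 (flp_a L697700) q18307, e3 q16950 (flp_a L697710) q18308, e3 q16951 (flp_a L697725) q18309, e3 q16952 (flp_a L697738) q18310, e3 q16953 (flp_a L697746) q18311, e3 q16954 (flp_a L697758) q18312, e3 q16955 (flp_a L697772) q18313, e3 q16956 (flp_a L697785) q18314, e3 q16957 (flp_a L697830) q18317, e3 q16958 (flp_a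 L697840) q18318, e3 q16959 L684477 q14798, trivial⟩ (by decide +kernel)

theorem ce_a_265 : ∀ r, r < 64 → sm ga (Qf (16960 + r)) = Qf (tab Gen.a (16960 + r)) :=
  edges_tab (sm ga) Qf (tab Gen.a) 16960 [(16960, 14799), (16961, 14800), (16962, 14801), (16963, 14802), (16964, 14803), (16965, 14805), (16966, 14806), (16967, 14808), (16968, 14809), (16969, 14813), (16970, 14814), (16971, 14815), (16972, 14822), (16973, 14823), (16974, 14824), (16975, 14825), (16976, 14826), (16977, 14827), (16978, 18388), (16979, 14829), (16980, 14830), (16981, 14831), (16982, 14832), (16983, 14833), (16984, 14835), (16985, 14836), (16986, 14837), (16987, 14838), (16988, 14839), (16989, 18389), (16990, 14843), (16991, 14844), (16992, 14845), (16993, 14847), (16994, 14848), (16995, 18395), (16996, 14855), (16997, 14860), (16998, 14861), (16999, 14862), (17000, 14863), (17001, 14866), (17002, 14867), (17003, 14871), (17004, 14873), (17005, 14874), (17006, 14875), (17007, 14877), (17008, 14878), (17009, 14879), (17010, 14789), (17011, 19069), (17012,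 19070), (17013, 14884), (17014, 14885), (17015, 14795), (17016, 15604), (17017, 19012), (17018, 19013), (17019, 19014), (17020, 19015), (17021, 19016), (17022, 19017), (17023, 19018)]
    ⟨e3 q16960 L684492 q14799, e3 q16961 L684499 q14800, e3 q16962 L684512 q14801, e3 q16963 L684527 q14802, e3 q16964 L684539 q14803, e3 q16965 L684551 q14805, e3 q16966 L684561 q14806, e3 q16967 L684573 q14808, e3 q16968 L684585 q14809, e3 q16969 L684596 q14813, e3 q16970 L684605 q14814, e3 q16971 L684616 q14815, e3 q16972 L684628 q14822, e3 q16973 L684639 q14823, e3 q16974 L684648 q14824, e3 q16975 L684659 q14825, e3 q16976 L684673 q14826, e3 q16977 L684679 q14827, e3 q16978 (flp_a L698719) q18388, e3 q16979 L684701 q14829, e3 q16980 L684711 q14830, e3 q16981 L684723 q14831, e3 q16982 L684729 q14832, e3 q16983 L684737 q14833, e3 q16984 L684745 q14835, e3 q16985 L684759 q14836, e3 q16986 L684772 q14837, e3 q16987 L684780 q14838, e3 q16988 L684791 q14839, e3 q16989 (flp_a L698735) q18389, e3 q16990 L684808 q14843, e3 q16991 L684817 q14844,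 e3 q16992 L684828 q14845, e3 q16993 L684840 q14847, e3 q16994 L684848 q14848, e3 q16995 (flp_a L698804) q18395, e3 q16996 L684867 q14855, e3 q16997 L684878 q14860, e3 q16998 L684885 q14861, e3 q16999 L684892 q14862, e3 q17000 L684901 q14863, e3 q17001 L684912 q14866, e3 q17002 L684920 q14867, e3 q17003 L684927 q14871, e3 q17004 L684934 q14873, e3 q17005 L684947 q14874, e3 q17006 L684960 q14875, e3 q17007 L684974 q14877, e3 q17008 L684987 q14878, e3 q17009 L685001 q14879, e3 q17010 (flp_a L685011) q14789, e3 q17011 (flp_a L706329) q19069, e3 q17012 (flp_a L706343) q19070, e3 q17013 L685051 q14884, e3 q17014 L685058 q14885, e3 q17015 L685071 q14795, e3 q17016 L685085 q15604, e3 q17017 (flp_a L705705) q19012, e3 q17018 (flp_a L705718) q19013, e3 q17019 (flp_a L705735) q19014, e3 q17020 (flp_a L705748) q19015, e3 q17021 (flp_a L705756) q19016, e3 q17022 (flp_a L705765) q19017, e3 q17023 (flp_a L705780) q19018, trivial⟩ (by decide +kernel)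

theorem ce_a_266 : ∀ r, r < 64 → sm ga (Qf (17024 + r)) = Qf (tab Gen.a (17024 + r)) :=
  edges_tab (sm ga) Qf (tab Gen.a) 17024 [(17024, 15766), (17025, 19019), (17026, 19020), (17027, 18426), (17028, 15807), (17029, 15769), (17030, 19021), (17031, 19022), (17032, 19023), (17033, 15900), (17034, 15808), (17035, 15771), (17036, 19024), (17037, 19025), (17038, 19026), (17039, 18427), (17040, 15809), (17041, 15774), (17042, 15740), (17043, 18240), (17044, 19027), (17045, 19028), (17046, 18438), (17047, 15170), (17048, 15176), (17049, 15754), (17050, 18237), (17051, 18241), (17052, 18244), (17053, 19029), (17054, 19030), (17055, 19031), (17056, 19032), (17057, 19133), (17058, 19033), (17059, 19034), (17060, 19035), (17061, 19036), (17062, 19037), (17063, 14828), (17064, 19143), (17065, 19144), (17066, 19040), (17067, 19041), (17068, 19042), (17069, 19043), (17070, 18253), (17071, 19044), (17072, 19045), (17073, 14834), (17074, 18382), (17075, 19160), (17076, 19046), (17077, 19047), (17078, 19048), (17079, 19049), (17080, 19050),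 (17081, 19051), (17082, 14842), (17083, 18376), (17084, 18387), (17085, 19172), (17086, 18262), (17087, 19053)]
    ⟨e3 q17024 L685153 q15766, e3 q17025 (flp_a L705797) q19019, e3 q17026 (flp_a L705807) q19020, e3 q17027 (flp_a L699153) q18426, e3 q17028 L685189 q15807, e3 q17029 L685199 q15769, e3 q17030 (flp_a L705819) q19021, e3 q17031 (flp_a L705829) q19022, e3 q17032 (flp_a L705839) q19023, e3 q17033 L685238 q15900, e3 q17034 L685242 q15808, e3 q17035 L685255 q15771, e3 q17036 (flp_a L705853) q19024, e3 q17037 (flp_a L705864) q19025, e3 q17038 (flp_a L705876) q19026, e3 q17039 (flp_a L699169) q18427, e3 q17040 L685296 q15809, e3 q17041 L685306 q15774, e3 q17042 L685318 q15740, e3 q17043 (flp_a L696804) q18240, e3 q17044 (flp_a L705889) q19027, e3 q17045 (flp_a L705898) q19028, e3 q17046 (flp_a L699286) q18438, e3 q17047 L685361 q15170, e3 q17048 L685375 q15176, e3 q17049 L685390 q15754, e3 q17050 (flp_a L696766) q18237, e3 q17051 (flp_a L696817) q18241, e3 q17052 (flp_a L696857) q18244, e3 q17053 (flp_a L705910) q19029,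 e3 q17054 (flp_a L705920) q19030, e3 q17055 (flp_a L705935) q19031, e3 q17056 (flp_a L705943) q19032, e3 q17057 L706952 q19133, e3 q17058 (flp_a L705954) q19033, e3 q17059 (flp_a L705966) q19034, e3 q17060 (flp_a L705980) q19035, e3 q17061 (flp_a L705988) q19036, e3 q17062 (flp_a L705996) q19037, e3 q17063 (flp_a L685495) q14828, e3 q17064 (flp_a L707032) q19143, e3 q17065 (flp_a L707038) q19144, e3 q17066 (flp_a L706026) q19040, e3 q17067 (flp_a L706034) q19041, e3 q17068 (flp_a L706044) q19042, e3 q17069 (flp_a L706054) q19043, e3 q17070 (flp_a L696972) q18253, e3 q17071 (flp_a L706068) q19044, e3 q17072 (flp_a L706076) q19045, e3 q17073 (flp_a L685565) q14834, e3 q17074 (flp_a L698652) q18382, e3 q17075 (flp_a L707159) q19160, e3 q17076 (flp_a L706084) q19046, e3 q17077 (flp_a L706097) q19047, e3 q17078 (flp_a L706111) q19048, e3 q17079 (flp_a L706126) q19049, e3 q17080 (flp_a L706133) q19050, e3 q17081 (flp_a L706143) q19051, e3 q17082 L685641 q14842, e3 q17083 (flp_a L698595) q18376, e3 q17084 (flp_a L698706) q18387,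 e3 q17085 (flp_a L707262) q19172, e3 q17086 (flp_a L697081) q18262, e3 q17087 (flp_a L706164) q19053, trivial⟩ (by decide +kernel)

theorem ce_a_267 : ∀ r, r < 64 → sm ga (Qf (17088 + r)) = Qf (tab Gen.a (17088 + r)) :=
  edges_tab (sm ga) Qf (tab Gen.a) 17088 [(17088, 19054), (17089, 15691), (17090, 18258), (17091, 18265), (17092, 19055), (17093, 19056), (17094, 14852), (17095, 15212), (17096, 15219), (17097, 18394), (17098, 18442), (17099, 18256), (17100, 18263), (17101, 18268), (17102, 19057), (17103, 15700), (17104, 18259), (17105, 18266), (17106, 18270), (17107, 19058), (17108, 18271), (17109, 19059), (17110, 19060), (17111, 19061), (17112, 18272), (17113, 18274), (17114, 19062), (17115, 19063), (17116, 18273), (17117, 18275), (17118, 18276), (17119, 19210), (17120, 15794), (17121, 19064), (17122, 19065), (17123, 19066), (17124, 15792), (17125, 14876), (17126, 15791), (17127, 19215), (17128, 19067), (17129, 19068), (17130, 15795), (17131, 15796), (17132, 14882), (17133, 14883), (17134, 19086), (17135, 19220), (17136,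 19221), (17137, 19073), (17138, 19074), (17139, 15801), (17140, 15677), (17141, 15789), (17142, 14889), (17143, 19229), (17144, 15683), (17145, 14892), (17146, 18441), (17147, 15690), (17148, 14903), (17149, 14907), (17150, 14908), (17151, 14940)]
    ⟨e3 q17088 (flp_a L706173) q19054, e3 q17089 L685691 q15691, e3 q17090 (flp_a L697031) q18258, e3 q17091 (flp_a L697115) q18265, e3 q17092 (flp_a L706185) q19055, e3 q17093 (flp_a L706191) q19056, e3 q17094 L685727 q14852, e3 q17095 L685734 q15212, e3 q17096 L685747 q15219, e3 q17097 (flp_a L698789) q18394, e3 q17098 (flp_a L699341) q18442, e3 q17099 (flp_a L697004) q18256, e3 q17100 (flp_a L697094) q18263, e3 q17101 (flp_a L697152) q18268, e3 q17102 (flp_a L706199) q19057, e3 q17103 L685809 q15700, e3 q17104 (flp_a L697041) q18259, e3 q17105 (flp_a L697127) q18266, e3 q17106 (flp_a L697178) q18270, e3 q17107 (flp_a L706209) q19058, e3 q17108 (flp_a L697191) q18271, e3 q17109 (flp_a L706216) q19059, e3 q17110 (flp_a L706224) q19060, e3 q17111 (flp_a L706234) q19061, e3 q17112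 (flp_a L697204) q18272, e3 q17113 (flp_a L697228) q18274, e3 q17114 (flp_a L706242) q19062, e3 q17115 (flp_a L706249) q19063, e3 q17116 (flp_a L697215) q18273, e3 q17117 (flp_a L697240) q18275, e3 q17118 (flp_a L697251) q18276, e3 q17119 L707575 q19210, e3 q17120 L685941 q15794, e3 q17121 (flp_a L706257) q19064, e3 q17122 (flp_a L706273) q19065, e3 q17123 (flp_a L706288) q19066, e3 q17124 L685984 q15792, e3 q17125 (flp_a L685999) q14876, e3 q17126 L686017 q15791, e3 q17127 (flp_a L707652) q19215, e3 q17128 (flp_a L706303) q19067, e3 q17129 (flp_a L706314) q19068, e3 q17130 L686056 q15795, e3 q17131 L686068 q15796, e3 q17132 L686083 q14882, e3 q17133 L686096 q14883, e3 q17134 (flp_a L706497) q19086, e3 q17135 (flp_a L707715) q19220, e3 q17136 (flp_a L707730) q19221, e3 q17137 (flp_a L706383) q19073, e3 q17138 (flp_a L706396) q19074, e3 q17139 L686154 q15801, e3 q17140 L686169 q15677, e3 q17141 L686181 q15789, e3 q17142 L686194 q14889, e3 q17143 (flp_a L707811) q19229, e3 q17144 L686218 q15683, e3 q17145 L686229 q14892, e3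 q17146 (flp_a L699327) q18441, e3 q17147 L686250 q15690, e3 q17148 L686261 q14903, e3 q17149 L686274 q14907, e3 q17150 L686290 q14908, e3 q17151 L686303 q14940, trivial⟩ (by decide +kernel)

theorem ce_a_268 : ∀ r, r < 64 → sm ga (Qf (17152 + r)) = Qf (tab Gen.a (17152 + r)) :=
  edges_tab (sm ga) Qf (tab Gen.a) 17152 [(17152, 18091), (17153, 14913), (17154, 18093), (17155, 15538), (17156, 15607), (17157, 15418), (17158, 15603), (17159, 14936), (17160, 14937), (17161, 14939), (17162, 14958), (17163, 14932), (17164, 14965), (17165, 15616), (17166, 15275), (17167, 15296), (17168, 19241), (17169, 15269), (17170, 19235), (17171, 15291), (17172, 19236), (17173, 15659), (17174, 15764), (17175, 14943), (17176, 15654), (17177, 19249), (17178, 15707), (17179, 15761), (17180, 15901), (17181, 14950), (17182, 15793), (17183, 15798), (17184, 15672), (17185, 14964), (17186, 18429), (17187, 19237), (17188, 15805), (17189, 15800), (17190, 15676), (17191, 15787), (17192, 14971), (17193, 18440), (17194, 15682), (17195, 15689), (17196, 14995),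 (17197, 15352), (17198, 15319), (17199, 15000), (17200, 15001), (17201, 18126), (17202, 18109), (17203, 18122), (17204, 19263), (17205, 18518), (17206, 18533), (17207, 15339), (17208, 18123), (17209, 18124), (17210, 18499), (17211, 19265), (17212, 15045), (17213, 15046), (17214, 15051), (17215, 15467)]
    ⟨e3 q17152 (flp_a L694627) q18091, e3 q17153 L686332 q14913, e3 q17154 (flp_a L694658) q18093, e3 q17155 L686352 q15538, e3 q17156 L686367 q15607, e3 q17157 L686379 q15418, e3 q17158 L686391 q15603, e3 q17159 L686405 q14936, e3 q17160 L686422 q14937, e3 q17161 L686436 q14939, e3 q17162 L686451 q14958, e3 q17163 L686469 q14932, e3 q17164 L686485 q14965, e3 q17165 L686499 q15616, e3 q17166 L686512 q15275, e3 q17167 L686522 q15296, e3 q17168 L707965 q19241, e3 q17169 L686541 q15269, e3 q17170 (flp_a L707885) q19235, e3 q17171 L686561 q15291, e3 q17172 (flp_a L707900) q19236, e3 q17173 L686591 q15659, e3 q17174 L686596 q15764, e3 q17175 (flp_a L686608) q14943, e3 q17176 L686625 q15654, e3 q17177 (flp_a L708067) q19249, e3 q17178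 L686651 q15707, e3 q17179 L686661 q15761, e3 q17180 L686677 q15901, e3 q17181 L686691 q14950, e3 q17182 L686706 q15793, e3 q17183 L686719 q15798, e3 q17184 L686733 q15672, e3 q17185 L686745 q14964, e3 q17186 (flp_a L699193) q18429, e3 q17187 (flp_a L707916) q19237, e3 q17188 L686775 q15805, e3 q17189 L686787 q15800, e3 q17190 L686796 q15676, e3 q17191 L686806 q15787, e3 q17192 L686818 q14971, e3 q17193 (flp_a L699312) q18440, e3 q17194 L686839 q15682, e3 q17195 L686851 q15689, e3 q17196 L686860 q14995, e3 q17197 L686874 q15352, e3 q17198 L686886 q15319, e3 q17199 L686900 q15000, e3 q17200 L686914 q15001, e3 q17201 (flp_a L695169) q18126, e3 q17202 (flp_a L694890) q18109, e3 q17203 (flp_a L695106) q18122, e3 q17204 (flp_a L708242) q19263, e3 q17205 (flp_a L700353) q18518, e3 q17206 (flp_a L700539) q18533, e3 q17207 L686993 q15339, e3 q17208 (flp_a L695124) q18123, e3 q17209 (flp_a L695141) q18124, e3 q17210 (flp_a L700059) q18499, e3 q17211 (flp_a L708274) q19265, e3 q17212 L687045 q15045, e3 q17213 L687057 q15046, e3 q17214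 L687073 q15051, e3 q17215 L687087 q15467, trivial⟩ (by decide +kernel)

theorem ce_a_269 : ∀ r, r < 64 → sm ga (Qf (17216 + r)) = Qf (tab Gen.a (17216 + r)) :=
  edges_tab (sm ga) Qf (tab Gen.a) 17216 [(17216, 15470), (17217, 15479), (17218, 15492), (17219, 15493), (17220, 15501), (17221, 15851), (17222, 15406), (17223, 15415), (17224, 15407), (17225, 15414), (17226, 15048), (17227, 15049), (17228, 15055), (17229, 15056), (17230, 15057), (17231, 15065), (17232, 15067), (17233, 15071), (17234, 15073), (17235, 18201), (17236, 18202), (17237, 18207), (17238, 18212), (17239, 18213), (17240, 18214), (17241, 18133), (17242, 18134), (17243, 18188), (17244, 19273), (17245, 19274), (17246, 18711), (17247, 18190), (17248, 18191), (17249, 19283), (17250, 19284), (17251, 19285), (17252, 18683), (17253, 18192), (17254, 19275), (17255, 18661), (17256, 18714), (17257, 18193), (17258, 18194), (17259, 18195), (17260, 18606), (17261, 19286), (17262, 19287), (17263, 18662), (17264, 18715), (17265, 18196), (17266, 18197), (17267, 18198), (17268,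 18140), (17269, 18608), (17270, 18610), (17271, 18611), (17272, 18607), (17273, 18609), (17274, 18189), (17275, 18712), (17276, 15729), (17277, 15758), (17278, 18713), (17279, 18604)]
    ⟨e3 q17216 L687099 q15470, e3 q17217 L687111 q15479, e3 q17218 L687121 q15492, e3 q17219 L687131 q15493, e3 q17220 L687143 q15501, e3 q17221 L687151 q15851, e3 q17222 L687161 q15406, e3 q17223 L687173 q15415, e3 q17224 L687188 q15407, e3 q17225 L687202 q15414, e3 q17226 L687212 q15048, e3 q17227 L687218 q15049, e3 q17228 L687226 q15055, e3 q17229 L687238 q15056, e3 q17230 L687252 q15057, e3 q17231 L687260 q15065, e3 q17232 L687270 q15067, e3 q17233 L687285 q15071, e3 q17234 L687302 q15073, e3 q17235 (flp_a L696289) q18201, e3 q17236 (flp_a L696307) q18202, e3 q17237 (flp_a L696369) q18207, e3 q17238 (flp_a L696447) q18212, e3 q17239 (flp_a L696463) q18213, e3 q17240 (flp_a L696479) q18214, e3 q17241 (flp_a L695283) q18133, e3 q17242 (flp_a L695299) q18134, e3 q17243 (flp_a L696103) q18188, e3 q17244 (flp_a L708374) q19273, e3 q17245 (flp_a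 L708388) q19274, e3 q17246 (flp_a L702607) q18711, e3 q17247 (flp_a L696137) q18190, e3 q17248 (flp_a L696151) q18191, e3 q17249 (flp_a L708506) q19283, e3 q17250 (flp_a L708520) q19284, e3 q17251 (flp_a L708528) q19285, e3 q17252 (flp_a L702275) q18683, e3 q17253 (flp_a L696165) q18192, e3 q17254 (flp_a L708400) q19275, e3 q17255 (flp_a L702075) q18661, e3 q17256 (flp_a L702648) q18714, e3 q17257 (flp_a L696181) q18193, e3 q17258 (flp_a L696194) q18194, e3 q17259 (flp_a L696209) q18195, e3 q17260 (flp_a L701432) q18606, e3 q17261 (flp_a L708536) q19286, e3 q17262 (flp_a L708548) q19287, e3 q17263 (flp_a L702090) q18662, e3 q17264 (flp_a L702660) q18715, e3 q17265 (flp_a L696221) q18196, e3 q17266 (flp_a L696234) q18197, e3 q17267 (flp_a L696249) q18198, e3 q17268 (flp_a L695399) q18140, e3 q17269 (flp_a L701459) q18608, e3 q17270 (flp_a L701486) q18610, e3 q17271 (flp_a L701496) q18611, e3 q17272 (flp_a L701444) q18607, e3 q17273 (flp_a L701471) q18609, e3 q17274 (flp_a L696119) q18189, e3 q17275 (flp_a L702621) q18712,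 e3 q17276 L687715 q15729, e3 q17277 L687726 q15758, e3 q17278 (flp_a L702637) q18713, e3 q17279 (flp_a L701402) q18604, trivial⟩ (by decide +kernel)

theorem ce_a_270 : ∀ r, r < 64 → sm ga (Qf (17280 + r)) = Qf (tab Gen.a (17280 + r)) :=
  edges_tab (sm ga) Qf (tab Gen.a) 17280 [(17280, 18136), (17281, 15085), (17282, 15087), (17283, 15089), (17284, 15094), (17285, 19325), (17286, 17286), (17287, 15097), (17288, 18107), (17289, 17289), (17290, 15205), (17291, 15206), (17292, 15202), (17293, 15203), (17294, 15678), (17295, 15693), (17296, 15684), (17297, 15694), (17298, 15710), (17299, 15730), (17300, 19337), (17301, 15717), (17302, 15738), (17303, 15721), (17304, 15743), (17305, 19343), (17306, 15727), (17307, 15731), (17308, 15114), (17309, 19346), (17310, 15739), (17311, 15118), (17312, 19349), (17313, 15753), (17314, 15120), (17315, 19351), (17316, 15938), (17317, 15123), (17318, 19354), (17319, 15928), (17320, 15127), (17321, 19357), (17322, 15939), (17323, 15130), (17324, 18478), (17325, 15953), (17326, 15133), (17327,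 19360), (17328, 17328), (17329, 15136), (17330, 19362), (17331, 15139), (17332, 18906), (17333, 15624), (17334, 15587), (17335, 15601), (17336, 15581), (17337, 15595), (17338, 15588), (17339, 15596), (17340, 15207), (17341, 15208), (17342, 15209), (17343, 15210)]
    ⟨e3 q17280 (flp_a L695332) q18136, e3 q17281 L687769 q15085, e3 q17282 L687784 q15087, e3 q17283 L687794 q15089, e3 q17284 L687806 q15094, e3 q17285 (flp_a L708923) q19325, e3 q17286 L687829 q17286, e3 q17287 L687841 q15097, e3 q17288 (flp_a L694860) q18107, e3 q17289 L687861 q17289, e3 q17290 L687872 q15205, e3 q17291 L687884 q15206, e3 q17292 L687899 q15202, e3 q17293 L687911 q15203, e3 q17294 L687926 q15678, e3 q17295 L687936 q15693, e3 q17296 L687946 q15684, e3 q17297 L687959 q15694, e3 q17298 L687973 q15710, e3 q17299 L687983 q15730, e3 q17300 L709069 q19337, e3 q17301 L688003 q15717, e3 q17302 L688011 q15738, e3 q17303 L688021 q15721, e3 q17304 L688031 q15743, e3 q17305 L709129 q19343, e3 q17306 L688052 q15727, e3 q17307 L688065 q15731, e3 q17308 (flp_a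 L688076) q15114, e3 q17309 (flp_a L709170) q19346, e3 q17310 L688104 q15739, e3 q17311 L688114 q15118, e3 q17312 (flp_a L709204) q19349, e3 q17313 L688138 q15753, e3 q17314 (flp_a L688145) q15120, e3 q17315 (flp_a L709226) q19351, e3 q17316 L688166 q15938, e3 q17317 (flp_a L688173) q15123, e3 q17318 (flp_a L709256) q19354, e3 q17319 L688198 q15928, e3 q17320 L688210 q15127, e3 q17321 (flp_a L709291) q19357, e3 q17322 L688233 q15939, e3 q17323 L688242 q15130, e3 q17324 (flp_a L699747) q18478, e3 q17325 L688260 q15953, e3 q17326 L688270 q15133, e3 q17327 (flp_a L709322) q19360, e3 q17328 L688288 q17328, e3 q17329 L688302 q15136, e3 q17330 (flp_a L709345) q19362, e3 q17331 L688322 q15139, e3 q17332 (flp_a L704540) q18906, e3 q17333 L688343 q15624, e3 q17334 L688359 q15587, e3 q17335 L688371 q15601, e3 q17336 L688386 q15581, e3 q17337 L688394 q15595, e3 q17338 L688404 q15588, e3 q17339 L688417 q15596, e3 q17340 L688429 q15207, e3 q17341 L688438 q15208, e3 q17342 L688444 q15209, e3 q17343 L688452 q15210, trivial⟩ (by decide +kernel)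

theorem ce_a_271 : ∀ r, r < 64 → sm ga (Qf (17344 + r)) = Qf (tab Gen.a (17344 + r)) :=
  edges_tab (sm ga) Qf (tab Gen.a) 17344 [(17344, 15211), (17345, 15214), (17346, 15217), (17347, 15221), (17348, 15225), (17349, 15226), (17350, 15227), (17351, 15228), (17352, 15229), (17353, 19112), (17354, 15231), (17355, 15232), (17356, 15233), (17357, 15234), (17358, 15235), (17359, 19119), (17360, 15237), (17361, 15238), (17362, 15239), (17363, 15240), (17364, 15241), (17365, 19120), (17366, 15245), (17367, 15246), (17368, 15247), (17369, 15249), (17370, 15250), (17371, 19121), (17372, 15258), (17373, 15259), (17374, 15263), (17375, 15267), (17376, 15268), (17377, 19242), (17378, 15270), (17379, 15271), (17380, 15272), (17381, 15273), (17382, 15188), (17383, 19238), (17384, 19415), (17385, 15277), (17386, 15278), (17387, 15279), (17388, 15280), (17389, 15193), (17390, 19422), (17391, 15283), (17392, 15197), (17393, 19425), (17394, 15286), (17395, 15200), (17396, 18459), (17397, 15289), (17398, 18468), (17399, 19330), (17400, 19331),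 (17401, 18228), (17402, 18229), (17403, 19327), (17404, 19328), (17405, 19329), (17406, 19173), (17407, 19368)]
    ⟨e3 q17344 L688464 q15211, e3 q17345 L688477 q15214, e3 q17346 L688486 q15217, e3 q17347 L688496 q15221, e3 q17348 L688505 q15225, e3 q17349 L688512 q15226, e3 q17350 L688523 q15227, e3 q17351 L688533 q15228, e3 q17352 L688539 q15229, e3 q17353 (flp_a L706750) q19112, e3 q17354 L688557 q15231, e3 q17355 L688563 q15232, e3 q17356 L688573 q15233, e3 q17357 L688581 q15234, e3 q17358 L688587 q15235, e3 q17359 (flp_a L706813) q19119, e3 q17360 L688602 q15237, e3 q17361 L688614 q15238, e3 q17362 L688625 q15239, e3 q17363 L688637 q15240, e3 q17364 L688650 q15241, e3 q17365 (flp_a L706828) q19120, e3 q17366 L688667 q15245, e3 q17367 L688674 q15246, e3 q17368 L688685 q15247, e3 q17369 L688693 q15249, e3 q17370 L688703 q15250, e3 q17371 (flp_a L706842) q19121, e3 q17372 L688722 q15258, e3 q17373 L688731 q15259, e3 q17374 L688740 q15263, e3 q17375 L688755 q15267, e3 q17376 L688767 q15268, e3 q17377 (flp_a L707980) q19242,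 e3 q17378 L688789 q15270, e3 q17379 L688801 q15271, e3 q17380 L688811 q15272, e3 q17381 L688825 q15273, e3 q17382 (flp_a L688835) q15188, e3 q17383 (flp_a L707940) q19238, e3 q17384 (flp_a L709888) q19415, e3 q17385 L688865 q15277, e3 q17386 L688874 q15278, e3 q17387 L688885 q15279, e3 q17388 L688894 q15280, e3 q17389 (flp_a L688903) q15193, e3 q17390 (flp_a L709958) q19422, e3 q17391 L688924 q15283, e3 q17392 L688935 q15197, e3 q17393 (flp_a L709989) q19425, e3 q17394 L688954 q15286, e3 q17395 L688963 q15200, e3 q17396 (flp_a L699526) q18459, e3 q17397 L688983 q15289, e3 q17398 (flp_a L699636) q18468, e3 q17399 (flp_a L708984) q19330, e3 q17400 (flp_a L708998) q19331, e3 q17401 (flp_a L696653) q18228, e3 q17402 (flp_a L696664) q18229, e3 q17403 (flp_a L708947) q19327, e3 q17404 (flp_a L708958) q19328, e3 q17405 (flp_a L708972) q19329, e3 q17406 (flp_a L707268) q19173, e3 q17407 (flp_a L709417) q19368, trivial⟩ (by decide +kernel)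

theorem ce_a_272 : ∀ r, r < 64 → sm ga (Qf (17408 + r)) = Qf (tab Gen.a (17408 + r)) :=
  edges_tab (sm ga) Qf (tab Gen.a) 17408 [(17408, 19369), (17409, 18959), (17410, 19370), (17411, 19371), (17412, 19186), (17413, 19372), (17414, 19373), (17415, 15746), (17416, 19187), (17417, 18250), (17418, 18261), (17419, 19374), (17420, 15578), (17421, 18960), (17422, 18971), (17423, 15747), (17424, 19188), (17425, 18267), (17426, 19375), (17427, 15584), (17428, 15591), (17429, 15598), (17430, 19376), (17431, 19377), (17432, 19378), (17433, 19244), (17434, 19380), (17435, 19381), (17436, 19382), (17437, 19383), (17438, 19384), (17439, 15230), (17440, 19478), (17441, 19479), (17442, 19387), (17443, 19388), (17444, 19389), (17445, 19390), (17446, 18911), (17447, 19391), (17448, 19392), (17449, 15236), (17450, 19495), (17451, 19496), (17452, 19394), (17453, 19395), (17454, 19396), (17455, 19397), (17456, 19398), (17457, 15243), (17458, 15244), (17459, 19504), (17460, 19505), (17461, 19506), (17462, 18910), (17463, 19400), (17464, 19401),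 (17465, 19402), (17466, 18908), (17467, 18912), (17468, 19403), (17469, 15254), (17470, 15255), (17471, 15687)]
    ⟨e3 q17408 (flp_a L709425) q19369, e3 q17409 (flp_a L705144) q18959, e3 q17410 (flp_a L709434) q19370, e3 q17411 (flp_a L709440) q19371, e3 q17412 (flp_a L707371) q19186, e3 q17413 (flp_a L709450) q19372, e3 q17414 (flp_a L709462) q19373, e3 q17415 L689154 q15746, e3 q17416 (flp_a L707385) q19187, e3 q17417 L696948 q18250, e3 q17418 (flp_a L697065) q18261, e3 q17419 (flp_a L709477) q19374, e3 q17420 L689209 q15578, e3 q17421 (flp_a L705160) q18960, e3 q17422 (flp_a L705286) q18971, e3 q17423 L689243 q15747, e3 q17424 (flp_a L707398) q19188, e3 q17425 (flp_a L697137) q18267, e3 q17426 (flp_a L709487) q19375, e3 q17427 L689282 q15584, e3 q17428 L689293 q15591, e3 q17429 L689303 q15598, e3 q17430 (flp_a L709497) q19376, e3 q17431 (flp_a L709508) q19377, e3 q17432 (flp_a L709514) q19378, e3 q17433 (flp_a L708002) q19244, e3 q17434 (flp_a L709531) q19380, e3 q17435 (flp_a L709539) q19381, e3 q17436 (flp_a L709551)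 q19382, e3 q17437 (flp_a L709565) q19383, e3 q17438 (flp_a L709573) q19384, e3 q17439 (flp_a L689388) q15230, e3 q17440 (flp_a L710502) q19478, e3 q17441 (flp_a L710508) q19479, e3 q17442 (flp_a L709599) q19387, e3 q17443 (flp_a L709609) q19388, e3 q17444 (flp_a L709617) q19389, e3 q17445 (flp_a L709625) q19390, e3 q17446 (flp_a L704609) q18911, e3 q17447 (flp_a L709633) q19391, e3 q17448 (flp_a L709643) q19392, e3 q17449 (flp_a L689454) q15236, e3 q17450 (flp_a L710615) q19495, e3 q17451 (flp_a L710629) q19496, e3 q17452 (flp_a L709658) q19394, e3 q17453 (flp_a L709669) q19395, e3 q17454 (flp_a L709681) q19396, e3 q17455 (flp_a L709690) q19397, e3 q17456 (flp_a L709702) q19398, e3 q17457 L689535 q15243, e3 q17458 L689548 q15244, e3 q17459 (flp_a L710709) q19504, e3 q17460 (flp_a L710722) q19505, e3 q17461 (flp_a L710735) q19506, e3 q17462 (flp_a L704596) q18910, e3 q17463 (flp_a L709723) q19400, e3 q17464 (flp_a L709732) q19401, e3 q17465 (flp_a L709742) q19402, e3 q17466 (flp_a L704571) q18908, e3 q17467 (flp_a L704619)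 q18912, e3 q17468 (flp_a L709752) q19403, e3 q17469 L689636 q15254, e3 q17470 L689650 q15255, e3 q17471 L689657 q15687, trivial⟩ (by decide +kernel)

theorem ce_a_273 : ∀ r, r < 64 → sm ga (Qf (17472 + r)) = Qf (tab Gen.a (17472 + r)) :=
  edges_tab (sm ga) Qf (tab Gen.a) 17472 [(17472, 15696), (17473, 19518), (17474, 18447), (17475, 18913), (17476, 18915), (17477, 18917), (17478, 19405), (17479, 19406), (17480, 18914), (17481, 18916), (17482, 18909), (17483, 19408), (17484, 19409), (17485, 19245), (17486, 19411), (17487, 19412), (17488, 19413), (17489, 19414), (17490, 15276), (17491, 19077), (17492, 19239), (17493, 19533), (17494, 18368), (17495, 19419), (17496, 19420), (17497, 19421), (17498, 15282), (17499, 19542), (17500, 19424), (17501, 15285), (17502, 18455), (17503, 19427), (17504, 19247), (17505, 17505), (17506, 15297), (17507, 19240), (17508, 18092), (17509, 15302), (17510, 15315), (17511, 15316), (17512, 15318), (17513, 15320), (17514, 18560), (17515, 15321), (17516, 18581), (17517, 19546), (17518, 19547), (17519,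 18569), (17520, 19548), (17521, 19264), (17522, 19550), (17523, 15335), (17524, 15336), (17525, 15340), (17526, 15343), (17527, 15349), (17528, 15357), (17529, 15362), (17530, 18536), (17531, 19555), (17532, 18128), (17533, 19270), (17534, 19556), (17535, 18526)]
    ⟨e3 q17472 L689670 q15696, e3 q17473 (flp_a L710834) q19518, e3 q17474 (flp_a L699395) q18447, e3 q17475 (flp_a L704631) q18913, e3 q17476 (flp_a L704656) q18915, e3 q17477 (flp_a L704681) q18917, e3 q17478 (flp_a L709771) q19405, e3 q17479 (flp_a L709779) q19406, e3 q17480 (flp_a L704645) q18914, e3 q17481 (flp_a L704669) q18916, e3 q17482 (flp_a L704583) q18909, e3 q17483 (flp_a L709801) q19408, e3 q17484 (flp_a L709814) q19409, e3 q17485 (flp_a L708014) q19245, e3 q17486 (flp_a L709838) q19411, e3 q17487 (flp_a L709849) q19412, e3 q17488 (flp_a L709862) q19413, e3 q17489 (flp_a L709873) q19414, e3 q17490 L689813 q15276, e3 q17491 (flp_a L706435) q19077, e3 q17492 (flp_a L707945) q19239, e3 q17493 (flp_a L710973) q19533, e3 q17494 (flp_a L698507) q18368, e3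 q17495 (flp_a L709926) q19419, e3 q17496 (flp_a L709937) q19420, e3 q17497 (flp_a L709949) q19421, e3 q17498 L689866 q15282, e3 q17499 (flp_a L711026) q19542, e3 q17500 (flp_a L709979) q19424, e3 q17501 L689893 q15285, e3 q17502 (flp_a L699480) q18455, e3 q17503 (flp_a L710007) q19427, e3 q17504 (flp_a L708036) q19247, e3 q17505 L689927 q17505, e3 q17506 L689940 q15297, e3 q17507 (flp_a L707956) q19240, e3 q17508 (flp_a L694642) q18092, e3 q17509 L689969 q15302, e3 q17510 L689981 q15315, e3 q17511 L689995 q15316, e3 q17512 L690009 q15318, e3 q17513 L690019 q15320, e3 q17514 (flp_a L700875) q18560, e3 q17515 L690035 q15321, e3 q17516 (flp_a L701117) q18581, e3 q17517 (flp_a L711058) q19546, e3 q17518 (flp_a L711074) q19547, e3 q17519 (flp_a L700985) q18569, e3 q17520 (flp_a L711090) q19548, e3 q17521 (flp_a L708258) q19264, e3 q17522 (flp_a L711111) q19550, e3 q17523 L690096 q15335, e3 q17524 L690105 q15336, e3 q17525 L690113 q15340, e3 q17526 L690121 q15343, e3 q17527 L690127 q15349, e3 q17528 L690135 q15357, e3 q17529 L690147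 q15362, e3 q17530 (flp_a L700584) q18536, e3 q17531 (flp_a L711152) q19555, e3 q17532 (flp_a L695207) q18128, e3 q17533 (flp_a L708339) q19270, e3 q17534 (flp_a L711162) q19556, e3 q17535 (flp_a L700449) q18526, trivial⟩ (by decide +kernel)

theorem ce_a_274 : ∀ r, r < 64 → sm ga (Qf (17536 + r)) = Qf (tab Gen.a (17536 + r)) :=
  edges_tab (sm ga) Qf (tab Gen.a) 17536 [(17536, 18129), (17537, 15346), (17538, 18534), (17539, 19565), (17540, 18113), (17541, 18125), (17542, 19557), (17543, 18111), (17544, 18115), (17545, 18131), (17546, 18079), (17547, 18528), (17548, 18132), (17549, 15361), (17550, 19573), (17551, 19558), (17552, 15366), (17553, 15390), (17554, 15391), (17555, 15393), (17556, 15397), (17557, 15398), (17558, 15399), (17559, 15400), (17560, 15401), (17561, 15402), (17562, 15403), (17563, 15405), (17564, 15408), (17565, 15413), (17566, 18781), (17567, 15417), (17568, 15419), (17569, 18788), (17570, 15420), (17571, 15388), (17572, 15866), (17573, 15423), (17574, 18852), (17575, 19576), (17576, 19577), (17577, 18853),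 (17578, 19578), (17579, 18770), (17580, 18864), (17581, 18211), (17582, 19579), (17583, 19580), (17584, 19581), (17585, 19582), (17586, 19280), (17587, 19583), (17588, 19584), (17589, 19585), (17590, 18806), (17591, 18816), (17592, 19586), (17593, 19281), (17594, 19282), (17595, 15411), (17596, 18743), (17597, 19613), (17598, 18823), (17599, 19587)]
    ⟨e3 q17536 (flp_a L695223) q18129, e3 q17537 L690200 q15346, e3 q17538 (flp_a L700553) q18534, e3 q17539 (flp_a L711222) q19565, e3 q17540 (flp_a L694957) q18113, e3 q17541 (flp_a L695155) q18125, e3 q17542 (flp_a L711168) q19557, e3 q17543 (flp_a L694924) q18111, e3 q17544 (flp_a L694987) q18115, e3 q17545 (flp_a L695255) q18131, e3 q17546 (flp_a L694423) q18079, e3 q17547 (flp_a L700471) q18528, e3 q17548 (flp_a L695272) q18132, e3 q17549 L690300 q15361, e3 q17550 (flp_a L711282) q19573, e3 q17551 (flp_a L711176) q19558, e3 q17552 L690325 q15366, e3 q17553 L690335 q15390, e3 q17554 L690347 q15391, e3 q17555 L690362 q15393, e3 q17556 L690376 q15397, e3 q17557 L690384 q15398,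 e3 q17558 L690396 q15399, e3 q17559 L690412 q15400, e3 q17560 L690420 q15401, e3 q17561 L690426 q15402, e3 q17562 L690434 q15403, e3 q17563 L690448 q15405, e3 q17564 L690458 q15408, e3 q17565 L690466 q15413, e3 q17566 (flp_a L703346) q18781, e3 q17567 L690478 q15417, e3 q17568 L690486 q15419, e3 q17569 (flp_a L703418) q18788, e3 q17570 L690504 q15420, e3 q17571 L690514 q15388, e3 q17572 L690526 q15866, e3 q17573 L690537 q15423, e3 q17574 (flp_a L704025) q18852, e3 q17575 (flp_a L711305) q19576, e3 q17576 (flp_a L711319) q19577, e3 q17577 (flp_a L704038) q18853, e3 q17578 (flp_a L711331) q19578, e3 q17579 (flp_a L703232) q18770, e3 q17580 (flp_a L704127) q18864, e3 q17581 (flp_a L696427) q18211, e3 q17582 (flp_a L711347) q19579, e3 q17583 (flp_a L711361) q19580, e3 q17584 (flp_a L711373) q19581, e3 q17585 (flp_a L711379) q19582, e3 q17586 (flp_a L708464) q19280, e3 q17587 (flp_a L711389) q19583, e3 q17588 (flp_a L711397) q19584, e3 q17589 (flp_a L711405) q19585, e3 q17590 L703615 q18806, e3 q17591 (flp_a L703693) q18816, e3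 q17592 (flp_a L711421) q19586, e3 q17593 (flp_a L708478) q19281, e3 q17594 (flp_a L708490) q19282, e3 q17595 L690683 q15411, e3 q17596 (flp_a L702963) q18743, e3 q17597 (flp_a L711619) q19613, e3 q17598 (flp_a L703758) q18823, e3 q17599 (flp_a L711429) q19587, trivial⟩ (by decide +kernel)

theorem ce_a_275 : ∀ r, r < 64 → sm ga (Qf (17600 + r)) = Qf (tab Gen.a (17600 + r)) :=
  edges_tab (sm ga) Qf (tab Gen.a) 17600 [(17600, 18935), (17601, 18982), (17602, 19589), (17603, 19234), (17604, 19591), (17605, 15422), (17606, 18695), (17607, 19593), (17608, 15458), (17609, 15459), (17610, 15460), (17611, 15462), (17612, 15463), (17613, 18725), (17614, 15468), (17615, 15471), (17616, 15472), (17617, 15474), (17618, 15475), (17619, 15477), (17620, 15478), (17621, 15480), (17622, 15481), (17623, 15484), (17624, 15490), (17625, 15445), (17626, 19639), (17627, 15502), (17628, 15510), (17629, 15514), (17630, 15520), (17631, 15521), (17632, 15526), (17633, 15456), (17634, 18706), (17635, 15529), (17636, 18718), (17637, 19624), (17638,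 19625), (17639, 19626), (17640, 19627), (17641, 18723), (17642, 19628), (17643, 18684), (17644, 18726), (17645, 19276), (17646, 19630), (17647, 18208), (17648, 19631), (17649, 19632), (17650, 18677), (17651, 18203), (17652, 18209), (17653, 19633), (17654, 19634), (17655, 15476), (17656, 19666), (17657, 19667), (17658, 18406), (17659, 18199), (17660, 19635), (17661, 19636), (17662, 18144), (17663, 19277)]
    ⟨e3 q17600 (flp_a L704885) q18935, e3 q17601 (flp_a L705407) q18982, e3 q17602 (flp_a L711444) q19589, e3 q17603 (flp_a L707872) q19234, e3 q17604 (flp_a L711464) q19591, e3 q17605 L690748 q15422, e3 q17606 (flp_a L702399) q18695, e3 q17607 (flp_a L711482) q19593, e3 q17608 L690771 q15458, e3 q17609 L690780 q15459, e3 q17610 L690786 q15460, e3 q17611 L690794 q15462, e3 q17612 L690803 q15463, e3 q17613 (flp_a L702768) q18725, e3 q17614 L690816 q15468, e3 q17615 L690824 q15471, e3 q17616 L690830 q15472, e3 q17617 L690840 q15474, e3 q17618 L690848 q15475, e3 q17619 L690858 q15477, e3 q17620 L690864 q15478, e3 q17621 L690874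 q15480, e3 q17622 L690882 q15481, e3 q17623 L690888 q15484, e3 q17624 L690894 q15490, e3 q17625 L690902 q15445, e3 q17626 (flp_a L711808) q19639, e3 q17627 L690914 q15502, e3 q17628 L690920 q15510, e3 q17629 L690929 q15514, e3 q17630 L690939 q15520, e3 q17631 L690948 q15521, e3 q17632 L690958 q15526, e3 q17633 L690965 q15456, e3 q17634 (flp_a L702540) q18706, e3 q17635 L690980 q15529, e3 q17636 (flp_a L702695) q18718, e3 q17637 (flp_a L711690) q19624, e3 q17638 (flp_a L711698) q19625, e3 q17639 (flp_a L711707) q19626, e3 q17640 (flp_a L711713) q19627, e3 q17641 (flp_a L702753) q18723, e3 q17642 (flp_a L711721) q19628, e3 q17643 (flp_a L702291) q18684, e3 q17644 (flp_a L702779) q18726, e3 q17645 (flp_a L708416) q19276, e3 q17646 (flp_a L711737) q19630, e3 q17647 (flp_a L696387) q18208, e3 q17648 (flp_a L711744) q19631, e3 q17649 (flp_a L711752) q19632, e3 q17650 (flp_a L702223) q18677, e3 q17651 (flp_a L696323) q18203, e3 q17652 (flp_a L696399) q18209, e3 q17653 (flp_a L711760) q19633, e3 q17654 (flp_a L711770) q19634, e3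 q17655 (flp_a L691111) q15476, e3 q17656 (flp_a L711993) q19666, e3 q17657 (flp_a L711997) q19667, e3 q17658 (flp_a L698932) q18406, e3 q17659 (flp_a L696261) q18199, e3 q17660 (flp_a L711778) q19635, e3 q17661 (flp_a L711786) q19636, e3 q17662 (flp_a L695463) q18144, e3 q17663 (flp_a L708430) q19277, trivial⟩ (by decide +kernel)

theorem ce_a_276 : ∀ r, r < 64 → sm ga (Qf (17664 + r)) = Qf (tab Gen.a (17664 + r)) :=
  edges_tab (sm ga) Qf (tab Gen.a) 17664 [(17664, 19637), (17665, 18687), (17666, 18210), (17667, 15487), (17668, 18716), (17669, 18721), (17670, 19684), (17671, 18143), (17672, 18200), (17673, 18206), (17674, 19638), (17675, 18141), (17676, 18145), (17677, 19278), (17678, 15497), (17679, 15498), (17680, 18659), (17681, 19694), (17682, 19695), (17683, 18150), (17684, 18158), (17685, 19279), (17686, 19641), (17687, 18147), (17688, 18153), (17689, 18142), (17690, 18220), (17691, 19642), (17692, 18690), (17693, 18221), (17694, 15517), (17695, 18974), (17696, 18985), (17697, 19706), (17698, 18384), (17699, 18423),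 (17700, 18450), (17701, 19643), (17702, 18693), (17703, 18222), (17704, 15525), (17705, 19715), (17706, 19644), (17707, 15528), (17708, 18225), (17709, 18705), (17710, 19592), (17711, 15533), (17712, 18904), (17713, 19720), (17714, 15539), (17715, 15540), (17716, 19233), (17717, 19721), (17718, 15544), (17719, 15546), (17720, 18224), (17721, 18084), (17722, 15573), (17723, 15574), (17724, 15576), (17725, 15577), (17726, 15582), (17727, 15583)]
    ⟨e3 q17664 (flp_a L711794) q19637, e3 q17665 (flp_a L702315) q18687, e3 q17666 (flp_a L696413) q18210, e3 q17667 L691187 q15487, e3 q17668 (flp_a L702672) q18716, e3 q17669 (flp_a L702724) q18721, e3 q17670 (flp_a L712105) q19684, e3 q17671 (flp_a L695447) q18143, e3 q17672 (flp_a L696275) q18200, e3 q17673 (flp_a L696355) q18206, e3 q17674 (flp_a L711800) q19638, e3 q17675 (flp_a L695413) q18141, e3 q17676 (flp_a L695473) q18145, e3 q17677 (flp_a L708442) q19278, e3 q17678 L691265 q15497, e3 q17679 L691273 q15498, e3 q17680 (flp_a L702055) q18659, e3 q17681 (flp_a L712179) q19694,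 e3 q17682 (flp_a L712185) q19695, e3 q17683 (flp_a L695542) q18150, e3 q17684 (flp_a L695640) q18158, e3 q17685 (flp_a L708452) q19279, e3 q17686 (flp_a L711820) q19641, e3 q17687 (flp_a L695501) q18147, e3 q17688 (flp_a L695576) q18153, e3 q17689 (flp_a L695429) q18142, e3 q17690 (flp_a L696548) q18220, e3 q17691 (flp_a L711826) q19642, e3 q17692 (flp_a L702343) q18690, e3 q17693 (flp_a L696562) q18221, e3 q17694 L691379 q15517, e3 q17695 (flp_a L705334) q18974, e3 q17696 (flp_a L705437) q18985, e3 q17697 (flp_a L712256) q19706, e3 q17698 (flp_a L698670) q18384, e3 q17699 (flp_a L699112) q18423, e3 q17700 (flp_a L699431) q18450, e3 q17701 (flp_a L711838) q19643, e3 q17702 (flp_a L702373) q18693, e3 q17703 (flp_a L696577) q18222, e3 q17704 L691457 q15525, e3 q17705 (flp_a L712319) q19715, e3 q17706 (flp_a L711845) q19644, e3 q17707 L691482 q15528, e3 q17708 (flp_a L696619) q18225, e3 q17709 (flp_a L702529) q18705, e3 q17710 (flp_a L711473) q19592, e3 q17711 L691504 q15533, e3 q17712 (flp_a L704511) q18904, e3 q17713 (flp_a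 L712352) q19720, e3 q17714 L691534 q15539, e3 q17715 L691543 q15540, e3 q17716 (flp_a L707855) q19233, e3 q17717 (flp_a L712362) q19721, e3 q17718 L691576 q15544, e3 q17719 L691586 q15546, e3 q17720 (flp_a L696604) q18224, e3 q17721 (flp_a L694512) q18084, e3 q17722 L691608 q15573, e3 q17723 L691615 q15574, e3 q17724 L691626 q15576, e3 q17725 L691632 q15577, e3 q17726 L691642 q15582, e3 q17727 L691648 q15583, trivial⟩ (by decide +kernel)

theorem ce_a_277 : ∀ r, r < 64 → sm ga (Qf (17728 + r)) = Qf (tab Gen.a (17728 + r)) :=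
  edges_tab (sm ga) Qf (tab Gen.a) 17728 [(17728, 15589), (17729, 18961), (17730, 18992), (17731, 18951), (17732, 18991), (17733, 18954), (17734, 18955), (17735, 18962), (17736, 18963), (17737, 18964), (17738, 15960), (17739, 18968), (17740, 18972), (17741, 18973), (17742, 18938), (17743, 19722), (17744, 19723), (17745, 19075), (17746, 18940), (17747, 18941), (17748, 19363), (17749, 19724), (17750, 19725), (17751, 19448), (17752, 19459), (17753, 18936), (17754, 18942), (17755, 18943), (17756, 18944), (17757, 19365), (17758, 19726), (17759, 18397), (17760, 19463), (17761, 18945), (17762, 18946), (17763, 18947), (17764, 18645), (17765, 19364), (17766, 19367), (17767, 18391), (17768, 18398), (17769, 19464), (17770, 18948), (17771, 18949), (17772, 19366), (17773, 18399), (17774, 18950), (17775, 18646), (17776, 18939), (17777, 19076), (17778, 18933), (17779, 18934), (17780, 15610), (17781, 15670), (17782, 15671), (17783, 18937), (17784, 15614), (17785, 15619), (17786, 15621), (17787, 15667), (17788, 15668), (17789, 15669), (17790,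 15673), (17791, 15674)]
    ⟨e3 q17728 L691656 q15589, e3 q17729 (flp_a L705174) q18961, e3 q17730 (flp_a L705514) q18992, e3 q17731 (flp_a L705062) q18951, e3 q17732 (flp_a L705497) q18991, e3 q17733 (flp_a L705092) q18954, e3 q17734 (flp_a L705108) q18955, e3 q17735 (flp_a L705190) q18962, e3 q17736 (flp_a L705206) q18963, e3 q17737 (flp_a L705216) q18964, e3 q17738 L691725 q15960, e3 q17739 (flp_a L705250) q18968, e3 q17740 (flp_a L705302) q18972, e3 q17741 (flp_a L705316) q18973, e3 q17742 (flp_a L704911) q18938, e3 q17743 (flp_a L712372) q19722, e3 q17744 (flp_a L712378) q19723, e3 q17745 (flp_a L706405) q19075, e3 q17746 (flp_a L704937) q18940, e3 q17747 (flp_a L704947) q18941, e3 q17748 (flp_a L709356) q19363, e3 q17749 (flp_a L712387) q19724, e3 q17750 (flp_a L712395) q19725, e3 q17751 (flp_a L710203) q19448, e3 q17752 (flp_a L710329) q19459, e3 q17753 (flp_a L704894) q18936, e3 q17754 (flp_a L704959) q18942, e3 q17755 (flp_a L704969) q18943, e3 q17756 (flp_a L704979) q18944, e3 q17757 (flp_a L709382) q19365, e3 q17758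 (flp_a L712405) q19726, e3 q17759 (flp_a L698829) q18397, e3 q17760 (flp_a L710374) q19463, e3 q17761 (flp_a L704993) q18945, e3 q17762 (flp_a L705004) q18946, e3 q17763 (flp_a L705016) q18947, e3 q17764 (flp_a L701925) q18645, e3 q17765 (flp_a L709370) q19364, e3 q17766 (flp_a L709402) q19367, e3 q17767 (flp_a L698759) q18391, e3 q17768 (flp_a L698843) q18398, e3 q17769 (flp_a L710385) q19464, e3 q17770 (flp_a L705029) q18948, e3 q17771 (flp_a L705038) q18949, e3 q17772 (flp_a L709392) q19366, e3 q17773 (flp_a L698856) q18399, e3 q17774 (flp_a L705050) q18950, e3 q17775 (flp_a L701936) q18646, e3 q17776 (flp_a L704924) q18939, e3 q17777 (flp_a L706419) q19076, e3 q17778 (flp_a L704865) q18933, e3 q17779 (flp_a L704872) q18934, e3 q17780 L692043 q15610, e3 q17781 L692057 q15670, e3 q17782 L692068 q15671, e3 q17783 (flp_a L704902) q18937, e3 q17784 L692086 q15614, e3 q17785 L692098 q15619, e3 q17786 L692111 q15621, e3 q17787 L692124 q15667, e3 q17788 L692132 q15668, e3 q17789 L692138 q15669, e3 q17790 L692146 q15673, e3 q17791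 L692154 q15674, trivial⟩ (by decide +kernel)

theorem ce_a_278 : ∀ r, r < 64 → sm ga (Qf (17792 + r)) = Qf (tab Gen.a (17792 + r)) :=
  edges_tab (sm ga) Qf (tab Gen.a) 17792 [(17792, 15679), (17793, 15680), (17794, 15685), (17795, 15704), (17796, 15705), (17797, 15706), (17798, 19250), (17799, 15708), (17800, 15709), (17801, 15711), (17802, 15712), (17803, 15639), (17804, 19793), (17805, 19794), (17806, 15716), (17807, 15718), (17808, 15719), (17809, 15722), (17810, 15644), (17811, 19802), (17812, 15728), (17813, 15648), (17814, 19804), (17815, 15651), (17816, 15760), (17817, 19251), (17818, 15763), (17819, 15660), (17820, 19089), (17821, 19248), (17822, 15767), (17823, 15768), (17824, 15664), (17825, 19808), (17826, 19776), (17827, 19777), (17828, 19778), (17829, 19779), (17830, 19216), (17831, 19751), (17832, 19774), (17833, 19252), (17834, 19256), (17835, 19219), (17836, 19780), (17837, 19781), (17838, 15675), (17839, 19826), (17840, 19827), (17841, 19261), (17842, 19262), (17843, 19227), (17844, 19155), (17845, 18234),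 (17846, 19332), (17847, 19782), (17848, 15681), (17849, 19519), (17850, 19842), (17851, 19231), (17852, 19167), (17853, 19334), (17854, 15688), (17855, 19507)]
    ⟨e3 q17792 L692164 q15679, e3 q17793 L692170 q15680, e3 q17794 L692178 q15685, e3 q17795 L692187 q15704, e3 q17796 L692196 q15705, e3 q17797 L692202 q15706, e3 q17798 (flp_a L708084) q19250, e3 q17799 L692219 q15708, e3 q17800 L692227 q15709, e3 q17801 L692239 q15711, e3 q17802 L692247 q15712, e3 q17803 (flp_a L692253) q15639, e3 q17804 (flp_a L712918) q19793, e3 q17805 (flp_a L712924) q19794, e3 q17806 L692275 q15716, e3 q17807 L692281 q15718, e3 q17808 L692289 q15719, e3 q17809 L692297 q15722, e3 q17810 (flp_a L692301) q15644, e3 q17811 (flp_a L712978) q19802, e3 q17812 L692321 q15728, e3 q17813 L692330 q15648, e3 q17814 (flp_a L712996) q19804, e3 q17815 L692346 q15651, e3 q17816 L692353 q15760, e3 q17817 (flp_a L708096) q19251, e3 q17818 L692371 q15763, e3 q17819 L692385 q15660, e3 q17820 (flp_a L706535) q19089, e3 q17821 (flp_a L708052) q19248, e3 q17822 L692409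 q15767, e3 q17823 L692417 q15768, e3 q17824 L692425 q15664, e3 q17825 L713024 q19808, e3 q17826 (flp_a L712779) q19776, e3 q17827 (flp_a L712785) q19777, e3 q17828 (flp_a L712795) q19778, e3 q17829 (flp_a L712803) q19779, e3 q17830 (flp_a L707668) q19216, e3 q17831 (flp_a L712590) q19751, e3 q17832 (flp_a L712765) q19774, e3 q17833 (flp_a L708113) q19252, e3 q17834 (flp_a L708166) q19256, e3 q17835 (flp_a L707703) q19219, e3 q17836 (flp_a L712809) q19780, e3 q17837 (flp_a L712817) q19781, e3 q17838 (flp_a L692529) q15675, e3 q17839 (flp_a L713155) q19826, e3 q17840 (flp_a L713161) q19827, e3 q17841 (flp_a L708222) q19261, e3 q17842 (flp_a L708232) q19262, e3 q17843 (flp_a L707788) q19227, e3 q17844 (flp_a L707121) q19155, e3 q17845 (flp_a L696730) q18234, e3 q17846 (flp_a L709010) q19332, e3 q17847 (flp_a L712827) q19782, e3 q17848 (flp_a L692595) q15681, e3 q17849 (flp_a L710849) q19519, e3 q17850 (flp_a L713262) q19842, e3 q17851 (flp_a L707834) q19231, e3 q17852 (flp_a L707222) q19167, e3 q17853 (flp_a L709032) q19334,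 e3 q17854 L692657 q15688, e3 q17855 (flp_a L710743) q19507, trivial⟩ (by decide +kernel)

theorem ce_a_279 : ∀ r, r < 64 → sm ga (Qf (17856 + r)) = Qf (tab Gen.a (17856 + r)) :=
  edges_tab (sm ga) Qf (tab Gen.a) 17856 [(17856, 19520), (17857, 19846), (17858, 18233), (17859, 19232), (17860, 19181), (17861, 18231), (17862, 18235), (17863, 19333), (17864, 15697), (17865, 19521), (17866, 18236), (17867, 18239), (17868, 18243), (17869, 19194), (17870, 18238), (17871, 18242), (17872, 19783), (17873, 19784), (17874, 19785), (17875, 19786), (17876, 19787), (17877, 19097), (17878, 19253), (17879, 18413), (17880, 18412), (17881, 19790), (17882, 19791), (17883, 19300), (17884, 19335), (17885, 19792), (17886, 15714), (17887, 15715), (17888, 19090), (17889, 19877), (17890, 19878), (17891, 19879), (17892, 18404), (17893, 19798), (17894, 19799), (17895, 18251), (17896, 19340), (17897, 19800), (17898, 19100), (17899, 18248), (17900, 18254), (17901, 19342), (17902, 19801), (17903, 15724), (17904, 15725), (17905, 19900), (17906, 19901), (17907,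 19902), (17908, 18469), (17909, 19345), (17910, 19107), (17911, 18245), (17912, 19324), (17913, 19336), (17914, 15734), (17915, 15735), (17916, 15736), (17917, 19453), (17918, 19910), (17919, 19911)]
    ⟨e3 q17856 (flp_a L710863) q19520, e3 q17857 (flp_a L713305) q19846, e3 q17858 (flp_a L696717) q18233, e3 q17859 (flp_a L707846) q19232, e3 q17860 (flp_a L707333) q19181, e3 q17861 (flp_a L696692) q18231, e3 q17862 (flp_a L696740) q18235, e3 q17863 (flp_a L709020) q19333, e3 q17864 L692737 q15697, e3 q17865 (flp_a L710876) q19521, e3 q17866 (flp_a L696752) q18236, e3 q17867 (flp_a L696791) q18239, e3 q17868 (flp_a L696842) q18243, e3 q17869 (flp_a L707453) q19194, e3 q17870 (flp_a L696780) q18238, e3 q17871 (flp_a L696830) q18242, e3 q17872 (flp_a L712835) q19783, e3 q17873 (flp_a L712843) q19784, e3 q17874 (flp_a L712854) q19785, e3 q17875 (flp_a L712859) q19786, e3 q17876 (flp_a L712867) q19787, e3 q17877 (flp_a L706603) q19097, e3 q17878 (flp_a L708125) q19253, e3 q17879 (flp_a L699010) q18413, e3 q17880 (flp_a L698996)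 q18412, e3 q17881 (flp_a L712890) q19790, e3 q17882 (flp_a L712900) q19791, e3 q17883 (flp_a L708692) q19300, e3 q17884 (flp_a L709047) q19335, e3 q17885 (flp_a L712910) q19792, e3 q17886 L692893 q15714, e3 q17887 L692897 q15715, e3 q17888 (flp_a L706539) q19090, e3 q17889 (flp_a L713546) q19877, e3 q17890 (flp_a L713552) q19878, e3 q17891 (flp_a L713558) q19879, e3 q17892 (flp_a L698908) q18404, e3 q17893 (flp_a L712952) q19798, e3 q17894 (flp_a L712958) q19799, e3 q17895 (flp_a L696952) q18251, e3 q17896 (flp_a L709103) q19340, e3 q17897 (flp_a L712966) q19800, e3 q17898 (flp_a L706633) q19100, e3 q17899 (flp_a L696916) q18248, e3 q17900 (flp_a L696982) q18254, e3 q17901 (flp_a L709121) q19342, e3 q17902 (flp_a L712974) q19801, e3 q17903 L692991 q15724, e3 q17904 L693000 q15725, e3 q17905 (flp_a L713688) q19900, e3 q17906 (flp_a L713696) q19901, e3 q17907 (flp_a L713707) q19902, e3 q17908 (flp_a L699649) q18469, e3 q17909 (flp_a L709159) q19345, e3 q17910 (flp_a L706705) q19107, e3 q17911 (flp_a L696872) q18245, e3 q17912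 (flp_a L708910) q19324, e3 q17913 (flp_a L709059) q19336, e3 q17914 L693085 q15734, e3 q17915 L693091 q15735, e3 q17916 L693101 q15736, e3 q17917 (flp_a L710258) q19453, e3 q17918 (flp_a L713773) q19910, e3 q17919 (flp_a L713781) q19911, trivial⟩ (by decide +kernel)

theorem ce_a_280 : ∀ r, r < 64 → sm ga (Qf (17920 + r)) = Qf (tab Gen.a (17920 + r)) :=
  edges_tab (sm ga) Qf (tab Gen.a) 17920 [(17920, 18431), (17921, 18247), (17922, 18252), (17923, 19341), (17924, 19348), (17925, 19114), (17926, 18249), (17927, 18255), (17928, 15748), (17929, 15963), (17930, 19454), (17931, 19461), (17932, 18443), (17933, 18257), (17934, 18264), (17935, 18269), (17936, 19122), (17937, 18260), (17938, 18246), (17939, 18430), (17940, 19091), (17941, 19806), (17942, 19807), (17943, 19099), (17944, 19106), (17945, 19113), (17946, 18702), (17947, 15788), (17948, 15790), (17949, 15806), (17950, 15933), (17951, 18279), (17952, 18280), (17953, 18292), (17954, 18293), (17955, 15786), (17956, 19407), (17957, 19937), (17958, 19260), (17959, 19228),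 (17960, 19930), (17961, 18896), (17962, 19214), (17963, 19254), (17964, 19127), (17965, 19211), (17966, 15799), (17967, 19217), (17968, 19255), (17969, 19259), (17970, 19226), (17971, 15803), (17972, 19258), (17973, 19098), (17974, 19105), (17975, 15817), (17976, 18080), (17977, 15816), (17978, 18495), (17979, 18530), (17980, 19549), (17981, 17981), (17982, 18493), (17983, 15883)]
    ⟨e3 q17920 (flp_a L699219) q18431, e3 q17921 (flp_a L696902) q18247, e3 q17922 (flp_a L696960) q18252, e3 q17923 (flp_a L709113) q19341, e3 q17924 (flp_a L709194) q19348, e3 q17925 (flp_a L706774) q19114, e3 q17926 (flp_a L696924) q18249, e3 q17927 (flp_a L696992) q18255, e3 q17928 L693191 q15748, e3 q17929 L693198 q15963, e3 q17930 (flp_a L710274) q19454, e3 q17931 (flp_a L710351) q19461, e3 q17932 (flp_a L699358) q18443, e3 q17933 (flp_a L697018) q18257, e3 q17934 (flp_a L697107) q18264, e3 q17935 (flp_a L697167) q18269, e3 q17936 (flp_a L706857) q19122, e3 q17937 (flp_a L697054) q18260, e3 q17938 (flp_a L696885) q18246, e3 q17939 (flp_a L699207)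 q18430, e3 q17940 (flp_a L706551) q19091, e3 q17941 (flp_a L713012) q19806, e3 q17942 (flp_a L713020) q19807, e3 q17943 (flp_a L706623) q19099, e3 q17944 (flp_a L706692) q19106, e3 q17945 (flp_a L706764) q19113, e3 q17946 (flp_a L702492) q18702, e3 q17947 L693331 q15788, e3 q17948 L693339 q15790, e3 q17949 L693346 q15806, e3 q17950 L693360 q15933, e3 q17951 (flp_a L697295) q18279, e3 q17952 (flp_a L697309) q18280, e3 q17953 (flp_a L697470) q18292, e3 q17954 (flp_a L697485) q18293, e3 q17955 (flp_a L693397) q15786, e3 q17956 (flp_a L709796) q19407, e3 q17957 (flp_a L713992) q19937, e3 q17958 (flp_a L708211) q19260, e3 q17959 (flp_a L707798) q19228, e3 q17960 (flp_a L713923) q19930, e3 q17961 (flp_a L704417) q18896, e3 q17962 (flp_a L707635) q19214, e3 q17963 (flp_a L708137) q19254, e3 q17964 (flp_a L706911) q19127, e3 q17965 (flp_a L707590) q19211, e3 q17966 L693481 q15799, e3 q17967 (flp_a L707683) q19217, e3 q17968 (flp_a L708152) q19255, e3 q17969 (flp_a L708200) q19259, e3 q17970 (flp_a L707777) q19226, e3 q17971 L693511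 q15803, e3 q17972 (flp_a L708186) q19258, e3 q17973 (flp_a L706613) q19098, e3 q17974 (flp_a L706680) q19105, e3 q17975 L693540 q15817, e3 q17976 (flp_a L694441) q18080, e3 q17977 L693560 q15816, e3 q17978 (flp_a L699987) q18495, e3 q17979 (flp_a L700495) q18530, e3 q17980 (flp_a L711098) q19549, e3 q17981 L693591 q17981, e3 q17982 (flp_a L699954) q18493, e3 q17983 L693612 q15883, trivial⟩ (by decide +kernel)

theorem ce_a_281 : ∀ r, r < 64 → sm ga (Qf (17984 + r)) = Qf (tab Gen.a (17984 + r)) :=
  edges_tab (sm ga) Qf (tab Gen.a) 17984 [(17984, 15826), (17985, 15830), (17986, 15829), (17987, 15862), (17988, 18717), (17989, 18165), (17990, 15846), (17991, 15847), (17992, 18681), (17993, 18634), (17994, 18978), (17995, 18989), (17996, 18385), (17997, 18424), (17998, 18451), (17999, 15861), (18000, 18603), (18001, 18703), (18002, 19951), (18003, 19590), (18004, 18907), (18005, 15871), (18006, 15872), (18007, 19958), (18008, 19959), (18009, 15875), (18010, 15879), (18011, 15878), (18012, 18012), (18013, 18096), (18014, 15887),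 (18015, 19961), (18016, 15920), (18017, 15890), (18018, 19962), (18019, 15913), (18020, 15893), (18021, 18099), (18022, 15940), (18023, 19104), (18024, 15955), (18025, 15956), (18026, 15926), (18027, 15912), (18028, 15957), (18029, 15911), (18030, 19931), (18031, 19969), (18032, 19964), (18033, 18281), (18034, 18373), (18035, 18405), (18036, 18383), (18037, 18421), (18038, 18282), (18039, 18462), (18040, 18474), (18041, 19963), (18042, 18284), (18043, 18278), (18044, 18285), (18045, 15925), (18046, 19968), (18047, 18470)]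
    ⟨e3 q17984 L693628 q15826, e3 q17985 L693643 q15830, e3 q17986 L693656 q15829, e3 q17987 L693671 q15862, e3 q17988 (flp_a L702682) q18717, e3 q17989 (flp_a L695729) q18165, e3 q17990 L693694 q15846, e3 q17991 L693702 q15847, e3 q17992 (flp_a L702259) q18681, e3 q17993 (flp_a L701782) q18634, e3 q17994 (flp_a L705366) q18978, e3 q17995 (flp_a L705476) q18989, e3 q17996 (flp_a L698683) q18385, e3 q17997 (flp_a L699126) q18424, e3 q17998 (flp_a L699446) q18451, e3 q17999 L693749 q15861, e3 q18000 (flp_a L701385) q18603, e3 q18001 (flp_a L702507) q18703, e3 q18002 (flp_a L714083) q19951, e3 q18003 (flp_a L711453) q19590, e3 q18004 (flp_a L704556) q18907, e3 q18005 L693790 q15871, e3 q18006 L693799 q15872, e3 q18007 (flp_a L714123) q19958, e3 q18008 (flp_a L714136) q19959, e3 q18009 L693824 q15875, e3 q18010 L693839 q15879, e3 q18011 L693852 q15878, e3 q18012 L693866 q18012, e3 q18013 (flp_a L694699) q18096, e3 q18014 L693881 q15887, e3 q18015 (flp_a L714152) q19961, e3 q18016 L693902 q15920, e3 q18017 L693915 q15890, e3 q18018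 (flp_a L714166) q19962, e3 q18019 L693936 q15913, e3 q18020 L693949 q15893, e3 q18021 (flp_a L694744) q18099, e3 q18022 L693967 q15940, e3 q18023 (flp_a L706669) q19104, e3 q18024 L693984 q15955, e3 q18025 L693991 q15956, e3 q18026 L693996 q15926, e3 q18027 L694006 q15912, e3 q18028 L694016 q15957, e3 q18029 L694023 q15911, e3 q18030 (flp_a L713932) q19931, e3 q18031 (flp_a L714233) q19969, e3 q18032 (flp_a L714191) q19964, e3 q18033 (flp_a L697323) q18281, e3 q18034 (flp_a L698559) q18373, e3 q18035 (flp_a L698920) q18405, e3 q18036 (flp_a L698658) q18383, e3 q18037 (flp_a L699090) q18421, e3 q18038 (flp_a L697334) q18282, e3 q18039 (flp_a L699559) q18462, e3 q18040 (flp_a L699710) q18474, e3 q18041 (flp_a L714180) q19963, e3 q18042 (flp_a L697358) q18284, e3 q18043 (flp_a L697278) q18278, e3 q18044 (flp_a L697374) q18285, e3 q18045 L694152 q15925, e3 q18046 (flp_a L714222) q19968, e3 q18047 (flp_a L699663) q18470, trivial⟩ (by decide +kernel)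

theorem ce_a_282 : ∀ r, r < 64 → sm ga (Qf (18048 + r)) = Qf (tab Gen.a (18048 + r)) :=
  edges_tab (sm ga) Qf (tab Gen.a) 18048 [(18048, 19356), (18049, 15934), (18050, 15935), (18051, 19932), (18052, 19987), (18053, 18477), (18054, 18277), (18055, 18283), (18056, 19353), (18057, 19359), (18058, 19965), (18059, 15947), (18060, 15948), (18061, 15975), (18062, 19994), (18063, 18479), (18064, 18290), (18065, 18287), (18066, 19967), (18067, 19735), (18068, 15964), (18069, 15965), (18070, 19921), (18071, 19996), (18072, 18232), (18073, 15970), (18074, 15976), (18075, 18286), (18076, 19985), (18077, 19999), (18078, 16403), (18079, 17546), (18080, 17976), (18081, 15987), (18082, 16669), (18083, 16556), (18084, 17721), (18085, 16544), (18086, 18086), (18087, 16002), (18088, 16003), (18089, 16004), (18090, 16664), (18091, 17152), (18092, 17508), (18093, 17154), (18094, 16391), (18095, 20001), (18096, 18013), (18097, 16853), (18098, 16019), (18099, 18021), (18100, 16010), (18101, 20006), (18102, 16013), (18103, 20007), (18104, 18104),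 (18105, 16016), (18106, 20005), (18107, 17288), (18108, 16504), (18109, 17202), (18110, 16520), (18111, 17543)]
    ⟨e3 q18048 (flp_a L709281) q19356, e3 q18049 L694188 q15934, e3 q18050 L694195 q15935, e3 q18051 (flp_a L713945) q19932, e3 q18052 (flp_a L714383) q19987, e3 q18053 (flp_a L699738) q18477, e3 q18054 (flp_a L697262) q18277, e3 q18055 (flp_a L697347) q18283, e3 q18056 (flp_a L709247) q19353, e3 q18057 (flp_a L709311) q19359, e3 q18058 (flp_a L714202) q19965, e3 q18059 L694264 q15947, e3 q18060 L694276 q15948, e3 q18061 L694286 q15975, e3 q18062 (flp_a L714431) q19994, e3 q18063 (flp_a L699761) q18479, e3 q18064 (flp_a L697441) q18290, e3 q18065 (flp_a L697401) q18287, e3 q18066 (flp_a L714215) q19967, e3 q18067 (flp_a L712466) q19735, e3 q18068 L694336 q15964, e3 q18069 L694345 q15965, e3 q18070 (flp_a L713855) q19921, e3 q18071 (flp_a L714451) q19996, e3 q18072 (flp_a L696704) q18232, e3 q18073 L694369 q15970, e3 q18074 L694377 q15976, e3 q18075 (flp_a L697387) q18286, e3 q18076 (flp_a L714371) q19985, e3 q18077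 (flp_a L714468) q19999, e3 q18078 L694406 q16403, e3 q18079 L694423 q17546, e3 q18080 L694441 q17976, e3 q18081 L694456 q15987, e3 q18082 L694475 q16669, e3 q18083 L694494 q16556, e3 q18084 L694512 q17721, e3 q18085 L694530 q16544, e3 q18086 L694547 q18086, e3 q18087 L694561 q16002, e3 q18088 L694577 q16003, e3 q18089 L694594 q16004, e3 q18090 L694611 q16664, e3 q18091 L694627 q17152, e3 q18092 L694642 q17508, e3 q18093 L694658 q17154, e3 q18094 L694672 q16391, e3 q18095 (flp_a L714480) q20001, e3 q18096 L694699 q18013, e3 q18097 L694714 q16853, e3 q18098 L694731 q16019, e3 q18099 L694744 q18021, e3 q18100 L694763 q16010, e3 q18101 (flp_a L714563) q20006, e3 q18102 L694794 q16013, e3 q18103 (flp_a L714580) q20007, e3 q18104 L694823 q18104, e3 q18105 L694836 q16016, e3 q18106 (flp_a L714546) q20005, e3 q18107 L694860 q17288, e3 q18108 L694873 q16504, e3 q18109 L694890 q17202, e3 q18110 L694906 q16520, e3 q18111 L694924 q17543, trivial⟩ (by decide +kernel)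

theorem ce_a_283 : ∀ r, r < 64 → sm ga (Qf (18112 + r)) = Qf (tab Gen.a (18112 + r)) :=
  edges_tab (sm ga) Qf (tab Gen.a) 18112 [(18112, 16517), (18113, 17540), (18114, 16521), (18115, 17544), (18116, 16525), (18117, 16526), (18118, 16464), (18119, 16051), (18120, 16056), (18121, 16057), (18122, 17203), (18123, 17208), (18124, 17209), (18125, 17541), (18126, 17201), (18127, 16443), (18128, 17532), (18129, 17536), (18130, 16455), (18131, 17545), (18132, 17548), (18133, 17241), (18134, 17242), (18135, 16769), (18136, 17280), (18137, 16631), (18138, 16587), (18139, 16770), (18140, 17268), (18141, 17675), (18142, 17689), (18143, 17671), (18144, 17662), (18145, 17676), (18146, 16804), (18147, 17687), (18148, 20042), (18149, 16800), (18150, 17683), (18151, 16794), (18152, 16805), (18153, 17688), (18154, 16074), (18155, 16612), (18156, 20050), (18157, 16801), (18158, 17684), (18159, 16806), (18160, 16810), (18161, 16814), (18162, 16811), (18163, 16815), (18164, 16816), (18165, 17989), (18166, 16088), (18167, 20059), (18168, 16091),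 (18169, 20060), (18170, 16094), (18171, 16096), (18172, 16680), (18173, 16681), (18174, 16685), (18175, 16637)]
    ⟨e3 q18112 L694940 q16517, e3 q18113 L694957 q17540, e3 q18114 L694973 q16521, e3 q18115 L694987 q17544, e3 q18116 L694999 q16525, e3 q18117 L695016 q16526, e3 q18118 L695032 q16464, e3 q18119 L695050 q16051, e3 q18120 L695068 q16056, e3 q18121 L695087 q16057, e3 q18122 L695106 q17203, e3 q18123 L695124 q17208, e3 q18124 L695141 q17209, e3 q18125 L695155 q17541, e3 q18126 L695169 q17201, e3 q18127 L695189 q16443, e3 q18128 L695207 q17532, e3 q18129 L695223 q17536, e3 q18130 L695237 q16455, e3 q18131 L695255 q17545, e3 q18132 L695272 q17548, e3 q18133 L695283 q17241, e3 q18134 L695299 q17242, e3 q18135 L695317 q16769, e3 q18136 L695332 q17280, e3 q18137 L695358 q16631, e3 q18138 L695366 q16587, e3 q18139 L695386 q16770, e3 q18140 L695399 q17268, e3 q18141 L695413 q17675, e3 q18142 L695429 q17689, e3 q18143 L695447 q17671, e3 q18144 L695463 q17662, e3 q18145 L695473 q17676, e3 q18146 L695485 q16804, e3 q18147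 L695501 q17687, e3 q18148 L715136 q20042, e3 q18149 L695529 q16800, e3 q18150 L695542 q17683, e3 q18151 L695554 q16794, e3 q18152 L695564 q16805, e3 q18153 L695576 q17688, e3 q18154 (flp_a L695584) q16074, e3 q18155 L695602 q16612, e3 q18156 (flp_a L715247) q20050, e3 q18157 L695629 q16801, e3 q18158 L695640 q17684, e3 q18159 L695652 q16806, e3 q18160 L695662 q16810, e3 q18161 L695676 q16814, e3 q18162 L695691 q16811, e3 q18163 L695704 q16815, e3 q18164 L695718 q16816, e3 q18165 L695729 q17989, e3 q18166 (flp_a L695745) q16088, e3 q18167 (flp_a L715376) q20059, e3 q18168 L695777 q16091, e3 q18169 (flp_a L715393) q20060, e3 q18170 L695807 q16094, e3 q18171 L695823 q16096, e3 q18172 L695839 q16680, e3 q18173 L695855 q16681, e3 q18174 L695872 q16685, e3 q18175 L695888 q16637, trivial⟩ (by decide +kernel)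

theorem ce_a_284 : ∀ r, r < 64 → sm ga (Qf (18176 + r)) = Qf (tab Gen.a (18176 + r)) :=
  edges_tab (sm ga) Qf (tab Gen.a) 18176 [(18176, 16688), (18177, 16644), (18178, 16132), (18179, 16133), (18180, 16138), (18181, 16143), (18182, 16144), (18183, 16145), (18184, 16150), (18185, 16152), (18186, 16153), (18187, 16154), (18188, 17243), (18189, 17274), (18190, 17247), (18191, 17248), (18192, 17253), (18193, 17257), (18194, 17258), (18195, 17259), (18196, 17265), (18197, 17266), (18198, 17267), (18199, 17659), (18200, 17672), (18201, 17235), (18202, 17236), (18203, 17651), (18204, 20066), (18205, 20067), (18206, 17673), (18207, 17237), (18208, 17647), (18209, 17652), (18210, 17666), (18211, 17581), (18212, 17238), (18213, 17239), (18214, 17240), (18215, 16625), (18216, 20068), (18217, 20069), (18218, 20070), (18219, 16650), (18220, 17690), (18221, 17693), (18222, 17703), (18223, 16656), (18224, 17720), (18225, 17708), (18226, 16834), (18227, 16290), (18228, 17401), (18229, 17402), (18230, 16287), (18231, 17861), (18232, 18072),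 (18233, 17858), (18234, 17845), (18235, 17862), (18236, 17866), (18237, 17050), (18238, 17870), (18239, 17867)]
    ⟨e3 q18176 L695906 q16688, e3 q18177 L695920 q16644, e3 q18178 L695937 q16132, e3 q18179 L695953 q16133, e3 q18180 L695967 q16138, e3 q18181 L695983 q16143, e3 q18182 L696001 q16144, e3 q18183 L696017 q16145, e3 q18184 L696031 q16150, e3 q18185 L696049 q16152, e3 q18186 L696064 q16153, e3 q18187 L696084 q16154, e3 q18188 L696103 q17243, e3 q18189 L696119 q17274, e3 q18190 L696137 q17247, e3 q18191 L696151 q17248, e3 q18192 L696165 q17253, e3 q18193 L696181 q17257, e3 q18194 L696194 q17258, e3 q18195 L696209 q17259, e3 q18196 L696221 q17265, e3 q18197 L696234 q17266, e3 q18198 L696249 q17267, e3 q18199 L696261 q17659, e3 q18200 L696275 q17672, e3 q18201 L696289 q17235, e3 q18202 L696307 q17236, e3 q18203 L696323 q17651, e3 q18204 (flp_a L715499) q20066, e3 q18205 (flp_a L715515) q20067, e3 q18206 L696355 q17673, e3 q18207 L696369 q17237, e3 q18208 L696387 q17647, e3 q18209 L696399 q17652, e3 q18210 L696413 q17666,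 e3 q18211 L696427 q17581, e3 q18212 L696447 q17238, e3 q18213 L696463 q17239, e3 q18214 L696479 q17240, e3 q18215 L696497 q16625, e3 q18216 (flp_a L715531) q20068, e3 q18217 (flp_a L715549) q20069, e3 q18218 (flp_a L715567) q20070, e3 q18219 L696533 q16650, e3 q18220 L696548 q17690, e3 q18221 L696562 q17693, e3 q18222 L696577 q17703, e3 q18223 L696588 q16656, e3 q18224 L696604 q17720, e3 q18225 L696619 q17708, e3 q18226 L696630 q16834, e3 q18227 L696639 q16290, e3 q18228 L696653 q17401, e3 q18229 L696664 q17402, e3 q18230 L696678 q16287, e3 q18231 L696692 q17861, e3 q18232 L696704 q18072, e3 q18233 L696717 q17858, e3 q18234 L696730 q17845, e3 q18235 L696740 q17862, e3 q18236 L696752 q17866, e3 q18237 L696766 q17050, e3 q18238 L696780 q17870, e3 q18239 L696791 q17867, trivial⟩ (by decide +kernel)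

theorem ce_a_285 : ∀ r, r < 64 → sm ga (Qf (18240 + r)) = Qf (tab Gen.a (18240 + r)) :=
  edges_tab (sm ga) Qf (tab Gen.a) 18240 [(18240, 17043), (18241, 17051), (18242, 17871), (18243, 17868), (18244, 17052), (18245, 17911), (18246, 17938), (18247, 17921), (18248, 17899), (18249, 17926), (18250, 17417), (18251, 17895), (18252, 17922), (18253, 17070), (18254, 17900), (18255, 17927), (18256, 17099), (18257, 17933), (18258, 17090), (18259, 17104), (18260, 17937), (18261, 17418), (18262, 17086), (18263, 17100), (18264, 17934), (18265, 17091), (18266, 17105), (18267, 17425), (18268, 17101), (18269, 17935), (18270, 17106), (18271, 17108), (18272, 17112), (18273, 17116), (18274, 17113), (18275, 17117), (18276, 17118), (18277, 18054), (18278, 18043), (18279, 17951), (18280, 17952), (18281, 18033), (18282, 18038), (18283, 18055), (18284, 18042), (18285, 18044), (18286, 18075), (18287, 18065), (18288, 16208), (18289, 16932), (18290, 18064), (18291, 18291), (18292, 17953), (18293, 17954), (18294, 18294), (18295, 18295), (18296, 18296),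 (18297, 16849), (18298, 18298), (18299, 16941), (18300, 16942), (18301, 16943), (18302, 16944), (18303, 16945)]
    ⟨e3 q18240 L696804 q17043, e3 q18241 L696817 q17051, e3 q18242 L696830 q17871, e3 q18243 L696842 q17868, e3 q18244 L696857 q17052, e3 q18245 L696872 q17911, e3 q18246 L696885 q17938, e3 q18247 L696902 q17921, e3 q18248 L696916 q17899, e3 q18249 L696924 q17926, e3 q18250 (flp_a L696948) q17417, e3 q18251 L696952 q17895, e3 q18252 L696960 q17922, e3 q18253 L696972 q17070, e3 q18254 L696982 q17900, e3 q18255 L696992 q17927, e3 q18256 L697004 q17099, e3 q18257 L697018 q17933, e3 q18258 L697031 q17090, e3 q18259 L697041 q17104, e3 q18260 L697054 q17937, e3 q18261 L697065 q17418, e3 q18262 L697081 q17086, e3 q18263 L697094 q17100, e3 q18264 L697107 q17934, e3 q18265 L697115 q17091, e3 q18266 L697127 q17105, e3 q18267 L697137 q17425, e3 q18268 L697152 q17101, e3 q18269 L697167 q17935, e3 q18270 L697178 q17106, e3 q18271 L697191 q17108, e3 q18272 L697204 q17112, e3 q18273 L697215 q17116, e3 q18274 L697228 q17113, e3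 q18275 L697240 q17117, e3 q18276 L697251 q17118, e3 q18277 L697262 q18054, e3 q18278 L697278 q18043, e3 q18279 L697295 q17951, e3 q18280 L697309 q17952, e3 q18281 L697323 q18033, e3 q18282 L697334 q18038, e3 q18283 L697347 q18055, e3 q18284 L697358 q18042, e3 q18285 L697374 q18044, e3 q18286 L697387 q18075, e3 q18287 L697401 q18065, e3 q18288 L697410 q16208, e3 q18289 L697427 q16932, e3 q18290 L697441 q18064, e3 q18291 L697452 q18291, e3 q18292 L697470 q17953, e3 q18293 L697485 q17954, e3 q18294 L697498 q18294, e3 q18295 L697513 q18295, e3 q18296 L697529 q18296, e3 q18297 L697546 q16849, e3 q18298 L697563 q18298, e3 q18299 L697580 q16941, e3 q18300 L697596 q16942, e3 q18301 L697610 q16943, e3 q18302 L697626 q16944, e3 q18303 L697641 q16945, trivial⟩ (by decide +kernel)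

theorem ce_a_286 : ∀ r, r < 64 → sm ga (Qf (18304 + r)) = Qf (tab Gen.a (18304 + r)) :=
  edges_tab (sm ga) Qf (tab Gen.a) 18304 [(18304, 16946), (18305, 16947), (18306, 16948), (18307, 16949), (18308, 16950), (18309, 16951), (18310, 16952), (18311, 16953), (18312, 16954), (18313, 16955), (18314, 16956), (18315, 16913), (18316, 16919), (18317, 16957), (18318, 16958), (18319, 16920), (18320, 16926), (18321, 16930), (18322, 16931), (18323, 16288), (18324, 16289), (18325, 16291), (18326, 16292), (18327, 16293), (18328, 16294), (18329, 16295), (18330, 16298), (18331, 16301), (18332, 16302), (18333, 16303), (18334, 16304), (18335, 16307), (18336, 16310), (18337, 16311), (18338, 16312), (18339, 16314), (18340, 16315), (18341, 16317), (18342, 16318), (18343, 16319), (18344, 16320), (18345, 16321), (18346, 16326), (18347, 16332), (18348, 16333), (18349, 16334), (18350, 16335), (18351, 16342), (18352, 16343), (18353, 16344), (18354, 16345), (18355, 16346), (18356, 16350), (18357, 16351), (18358, 16352), (18359, 16353), (18360, 16354),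 (18361, 16355), (18362, 16356), (18363, 16358), (18364, 16367), (18365, 16374), (18366, 20111), (18367, 20112)]
    ⟨e3 q18304 L697655 q16946, e3 q18305 L697669 q16947, e3 q18306 L697686 q16948, e3 q18307 L697700 q16949, e3 q18308 L697710 q16950, e3 q18309 L697725 q16951, e3 q18310 L697738 q16952, e3 q18311 L697746 q16953, e3 q18312 L697758 q16954, e3 q18313 L697772 q16955, e3 q18314 L697785 q16956, e3 q18315 L697798 q16913, e3 q18316 L697814 q16919, e3 q18317 L697830 q16957, e3 q18318 L697840 q16958, e3 q18319 L697855 q16920, e3 q18320 L697870 q16926, e3 q18321 L697886 q16930, e3 q18322 L697901 q16931, e3 q18323 L697915 q16288, e3 q18324 L697928 q16289, e3 q18325 L697942 q16291, e3 q18326 L697954 q16292, e3 q18327 L697965 q16293, e3 q18328 L697980 q16294, e3 q18329 L697988 q16295, e3 q18330 L697998 q16298, e3 q18331 L698011 q16301, e3 q18332 L698026 q16302, e3 q18333 L698041 q16303, e3 q18334 L698056 q16304, e3 q18335 L698066 q16307, e3 q18336 L698081 q16310, e3 q18337 L698096 q16311, e3 q18338 L698107 q16312, e3 q18339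 L698122 q16314, e3 q18340 L698134 q16315, e3 q18341 L698146 q16317, e3 q18342 L698162 q16318, e3 q18343 L698178 q16319, e3 q18344 L698190 q16320, e3 q18345 L698198 q16321, e3 q18346 L698208 q16326, e3 q18347 L698221 q16332, e3 q18348 L698235 q16333, e3 q18349 L698249 q16334, e3 q18350 L698261 q16335, e3 q18351 L698273 q16342, e3 q18352 L698288 q16343, e3 q18353 L698303 q16344, e3 q18354 L698317 q16345, e3 q18355 L698332 q16346, e3 q18356 L698343 q16350, e3 q18357 L698358 q16351, e3 q18358 L698372 q16352, e3 q18359 L698385 q16353, e3 q18360 L698398 q16354, e3 q18361 L698411 q16355, e3 q18362 L698424 q16356, e3 q18363 L698438 q16358, e3 q18364 L698452 q16367, e3 q18365 L698469 q16374, e3 q18366 (flp_a L716154) q20111, e3 q18367 (flp_a L716169) q20112, trivial⟩ (by decide +kernel)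

theorem ce_a_287 : ∀ r, r < 64 → sm ga (Qf (18368 + r)) = Qf (tab Gen.a (18368 + r)) :=
  edges_tab (sm ga) Qf (tab Gen.a) 18368 [(18368, 17494), (18369, 20205), (18370, 20206), (18371, 20106), (18372, 20107), (18373, 18034), (18374, 20207), (18375, 20208), (18376, 17083), (18377, 20209), (18378, 20210), (18379, 20211), (18380, 20212), (18381, 20213), (18382, 17074), (18383, 18036), (18384, 17698), (18385, 17996), (18386, 20214), (18387, 17084), (18388, 16978), (18389, 16989), (18390, 20215), (18391, 17767), (18392, 20216), (18393, 20217), (18394, 17097), (18395, 16995), (18396, 20218), (18397, 17759), (18398, 17768), (18399, 17773), (18400, 20219), (18401, 20220), (18402, 20221), (18403, 20291), (18404, 17892), (18405, 18035), (18406, 17658), (18407, 20222), (18408, 20223), (18409, 16316), (18410, 20299), (18411, 20300), (18412, 17880), (18413, 17879), (18414, 20224), (18415, 20225), (18416, 20226), (18417, 20227), (18418, 20228), (18419, 16322), (18420, 20315), (18421, 18037), (18422, 16825), (18423, 17699), (18424, 17997),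 (18425, 16329), (18426, 17027), (18427, 17039), (18428, 20322), (18429, 17186), (18430, 17939), (18431, 17920)]
    ⟨e3 q18368 L698507 q17494, e3 q18369 (flp_a L717425) q20205, e3 q18370 (flp_a L717439) q20206, e3 q18371 (flp_a L716088) q20106, e3 q18372 (flp_a L716103) q20107, e3 q18373 L698559 q18034, e3 q18374 (flp_a L717452) q20207, e3 q18375 (flp_a L717464) q20208, e3 q18376 L698595 q17083, e3 q18377 (flp_a L717476) q20209, e3 q18378 (flp_a L717492) q20210, e3 q18379 (flp_a L717507) q20211, e3 q18380 (flp_a L717523) q20212, e3 q18381 (flp_a L717531) q20213, e3 q18382 L698652 q17074, e3 q18383 L698658 q18036, e3 q18384 L698670 q17698, e3 q18385 L698683 q17996, e3 q18386 (flp_a L717543) q20214, e3 q18387 L698706 q17084, e3 q18388 L698719 q16978, e3 q18389 L698735 q16989, e3 q18390 (flp_a L717558) q20215, e3 q18391 L698759 q17767, e3 q18392 (flp_a L717574) q20216, e3 q18393 (flp_a L717589) q20217, e3 q18394 L698789 q17097, e3 q18395 L698804 q16995, e3 q18396 (flp_a L717605) q20218, e3 q18397 L698829 q17759, e3 q18398 L698843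 q17768, e3 q18399 L698856 q17773, e3 q18400 (flp_a L717621) q20219, e3 q18401 (flp_a L717637) q20220, e3 q18402 (flp_a L717649) q20221, e3 q18403 L718525 q20291, e3 q18404 L698908 q17892, e3 q18405 L698920 q18035, e3 q18406 L698932 q17658, e3 q18407 (flp_a L717662) q20222, e3 q18408 (flp_a L717676) q20223, e3 q18409 (flp_a L698960) q16316, e3 q18410 (flp_a L718627) q20299, e3 q18411 (flp_a L718641) q20300, e3 q18412 L698996 q17880, e3 q18413 L699010 q17879, e3 q18414 (flp_a L717688) q20224, e3 q18415 (flp_a L717706) q20225, e3 q18416 (flp_a L717720) q20226, e3 q18417 (flp_a L717736) q20227, e3 q18418 (flp_a L717750) q20228, e3 q18419 (flp_a L699060) q16322, e3 q18420 (flp_a L718815) q20315, e3 q18421 L699090 q18037, e3 q18422 L699101 q16825, e3 q18423 L699112 q17699, e3 q18424 L699126 q17997, e3 q18425 L699139 q16329, e3 q18426 L699153 q17027, e3 q18427 L699169 q17039, e3 q18428 (flp_a L718901) q20322, e3 q18429 L699193 q17186, e3 q18430 L699207 q17939, e3 q18431 L699219 q17920, trivial⟩ (by decide +kernel)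

theorem ce_a_288 : ∀ r, r < 64 → sm ga (Qf (18432 + r)) = Qf (tab Gen.a (18432 + r)) :=
  edges_tab (sm ga) Qf (tab Gen.a) 18432 [(18432, 20229), (18433, 20230), (18434, 20231), (18435, 20232), (18436, 20233), (18437, 16338), (18438, 17046), (18439, 20334), (18440, 17193), (18441, 17146), (18442, 17098), (18443, 17932), (18444, 20234), (18445, 20235), (18446, 20236), (18447, 17474), (18448, 16818), (18449, 16826), (18450, 17700), (18451, 17998), (18452, 20237), (18453, 20238), (18454, 20239), (18455, 17502), (18456, 20240), (18457, 20241), (18458, 16376), (18459, 17396), (18460, 16359), (18461, 20353), (18462, 18039), (18463, 16363), (18464, 16364), (18465, 20356), (18466, 20357), (18467, 20358), (18468, 17398), (18469, 17908), (18470, 18047), (18471, 20242), (18472, 16370), (18473, 20367), (18474, 18040), (18475, 16373), (18476, 20352), (18477, 18053), (18478, 17324), (18479, 18063), (18480, 16379), (18481, 20373), (18482, 18482), (18483, 16383), (18484, 16384), (18485, 20375), (18486, 20003), (18487, 16388), (18488, 20004),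 (18489, 18489), (18490, 16397), (18491, 16400), (18492, 16454), (18493, 17982), (18494, 16449), (18495, 17978)]
    ⟨e3 q18432 (flp_a L717758) q20229, e3 q18433 (flp_a L717774) q20230, e3 q18434 (flp_a L717790) q20231, e3 q18435 (flp_a L717804) q20232, e3 q18436 (flp_a L717814) q20233, e3 q18437 L699271 q16338, e3 q18438 L699286 q17046, e3 q18439 (flp_a L719045) q20334, e3 q18440 L699312 q17193, e3 q18441 L699327 q17146, e3 q18442 L699341 q17098, e3 q18443 L699358 q17932, e3 q18444 (flp_a L717828) q20234, e3 q18445 (flp_a L717843) q20235, e3 q18446 (flp_a L717857) q20236, e3 q18447 L699395 q17474, e3 q18448 L699404 q16818, e3 q18449 L699418 q16826, e3 q18450 L699431 q17700, e3 q18451 L699446 q17998, e3 q18452 (flp_a L717874) q20237, e3 q18453 (flp_a L717890) q20238, e3 q18454 (flp_a L717905) q20239, e3 q18455 L699480 q17502, e3 q18456 (flp_a L717916) q20240, e3 q18457 (flp_a L717930) q20241, e3 q18458 L699506 q16376, e3 q18459 L699526 q17396, e3 q18460 (flp_a L699530) q16359, e3 q18461 (flp_a L719275) q20353, e3 q18462 L699559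 q18039, e3 q18463 L699572 q16363, e3 q18464 L699587 q16364, e3 q18465 (flp_a L719313) q20356, e3 q18466 (flp_a L719329) q20357, e3 q18467 (flp_a L719345) q20358, e3 q18468 L699636 q17398, e3 q18469 L699649 q17908, e3 q18470 L699663 q18047, e3 q18471 (flp_a L717943) q20242, e3 q18472 L699685 q16370, e3 q18473 (flp_a L719454) q20367, e3 q18474 L699710 q18040, e3 q18475 L699718 q16373, e3 q18476 (flp_a L719262) q20352, e3 q18477 L699738 q18053, e3 q18478 L699747 q17324, e3 q18479 L699761 q18063, e3 q18480 L699773 q16379, e3 q18481 (flp_a L719519) q20373, e3 q18482 L699799 q18482, e3 q18483 L699815 q16383, e3 q18484 L699830 q16384, e3 q18485 (flp_a L719548) q20375, e3 q18486 (flp_a L714515) q20003, e3 q18487 L699868 q16388, e3 q18488 (flp_a L714531) q20004, e3 q18489 L699887 q18489, e3 q18490 L699902 q16397, e3 q18491 L699920 q16400, e3 q18492 L699936 q16454, e3 q18493 L699954 q17982, e3 q18494 L699969 q16449, e3 q18495 L699987 q17978, trivial⟩ (by decide +kernel)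

theorem ce_a_289 : ∀ r, r < 64 → sm ga (Qf (18496 + r)) = Qf (tab Gen.a (18496 + r)) :=
  edges_tab (sm ga) Qf (tab Gen.a) 18496 [(18496, 16493), (18497, 16494), (18498, 16495), (18499, 17210), (18500, 16432), (18501, 16433), (18502, 16434), (18503, 16435), (18504, 16436), (18505, 16437), (18506, 16438), (18507, 16439), (18508, 16441), (18509, 16442), (18510, 16444), (18511, 16446), (18512, 16447), (18513, 16451), (18514, 16456), (18515, 20378), (18516, 16507), (18517, 20379), (18518, 17205), (18519, 20380), (18520, 20381), (18521, 20382), (18522, 16634), (18523, 20383), (18524, 20021), (18525, 20384), (18526, 17535), (18527, 20385), (18528, 17547), (18529, 20386), (18530, 17979), (18531, 20387), (18532, 16458), (18533, 17206), (18534, 17538), (18535, 16499), (18536, 17530), (18537, 20018), (18538, 16496), (18539, 16497), (18540, 16498), (18541, 16500), (18542, 16510), (18543, 16502), (18544, 16503), (18545, 16505), (18546, 16506), (18547, 16508), (18548, 16509), (18549, 16511), (18550, 16479), (18551, 16512), (18552, 16513),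 (18553, 20417), (18554, 16518), (18555, 16519), (18556, 16522), (18557, 16491), (18558, 16523), (18559, 16527)]
    ⟨e3 q18496 L700005 q16493, e3 q18497 L700024 q16494, e3 q18498 L700042 q16495, e3 q18499 L700059 q17210, e3 q18500 L700075 q16432, e3 q18501 L700093 q16433, e3 q18502 L700109 q16434, e3 q18503 L700126 q16435, e3 q18504 L700143 q16436, e3 q18505 L700155 q16437, e3 q18506 L700172 q16438, e3 q18507 L700190 q16439, e3 q18508 L700205 q16441, e3 q18509 L700223 q16442, e3 q18510 L700237 q16444, e3 q18511 L700253 q16446, e3 q18512 L700271 q16447, e3 q18513 L700281 q16451, e3 q18514 L700298 q16456, e3 q18515 (flp_a L719600) q20378, e3 q18516 L700338 q16507, e3 q18517 (flp_a L719618) q20379, e3 q18518 L700353 q17205, e3 q18519 (flp_a L719635) q20380, e3 q18520 (flp_a L719652) q20381, e3 q18521 (flp_a L719666) q20382, e3 q18522 L700403 q16634, e3 q18523 (flp_a L719684) q20383, e3 q18524 (flp_a L714822) q20021, e3 q18525 (flp_a L719698) q20384, e3 q18526 L700449 q17535, e3 q18527 (flp_a L719712) q20385, e3 q18528 L700471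 q17547, e3 q18529 (flp_a L719728) q20386, e3 q18530 L700495 q17979, e3 q18531 (flp_a L719745) q20387, e3 q18532 L700521 q16458, e3 q18533 L700539 q17206, e3 q18534 L700553 q17538, e3 q18535 L700578 q16499, e3 q18536 L700584 q17530, e3 q18537 (flp_a L714764) q20018, e3 q18538 L700603 q16496, e3 q18539 L700621 q16497, e3 q18540 L700635 q16498, e3 q18541 L700652 q16500, e3 q18542 L700669 q16510, e3 q18543 L700677 q16502, e3 q18544 L700695 q16503, e3 q18545 L700706 q16505, e3 q18546 L700715 q16506, e3 q18547 L700725 q16508, e3 q18548 L700735 q16509, e3 q18549 L700751 q16511, e3 q18550 L700763 q16479, e3 q18551 L700781 q16512, e3 q18552 L700795 q16513, e3 q18553 (flp_a L720167) q20417, e3 q18554 L700811 q16518, e3 q18555 L700822 q16519, e3 q18556 L700832 q16522, e3 q18557 L700840 q16491, e3 q18558 L700854 q16523, e3 q18559 L700868 q16527, trivial⟩ (by decide +kernel)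

theorem ce_a_290 : ∀ r, r < 64 → sm ga (Qf (18560 + r)) = Qf (tab Gen.a (18560 + r)) :=
  edges_tab (sm ga) Qf (tab Gen.a) 18560 [(18560, 17514), (18561, 16528), (18562, 20423), (18563, 16531), (18564, 20376), (18565, 20407), (18566, 20408), (18567, 20405), (18568, 20409), (18569, 17519), (18570, 20411), (18571, 20412), (18572, 20010), (18573, 20413), (18574, 20389), (18575, 20414), (18576, 20415), (18577, 20410), (18578, 20416), (18579, 20418), (18580, 16516), (18581, 17516), (18582, 20440), (18583, 20014), (18584, 20420), (18585, 20421), (18586, 20012), (18587, 20016), (18588, 20422), (18589, 20402), (18590, 20017), (18591, 20424), (18592, 20400), (18593, 16530), (18594, 20025), (18595, 20426), (18596, 16540), (18597, 16547), (18598, 16649), (18599, 16655), (18600, 16673), (18601, 16846), (18602, 16639), (18603, 18000), (18604, 17279), (18605, 16751), (18606, 17260), (18607, 17272), (18608, 17269), (18609, 17273), (18610, 17270), (18611, 17271), (18612, 16604), (18613, 16605), (18614, 16606), (18615, 16607), (18616, 16608),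 (18617, 16609), (18618, 16610), (18619, 16611), (18620, 16614), (18621, 16616), (18622, 16617), (18623, 16618)]
    ⟨e3 q18560 L700875 q17514, e3 q18561 L700891 q16528, e3 q18562 (flp_a L720233) q20423, e3 q18563 L700920 q16531, e3 q18564 (flp_a L719564) q20376, e3 q18565 (flp_a L720033) q20407, e3 q18566 (flp_a L720051) q20408, e3 q18567 (flp_a L720004) q20405, e3 q18568 (flp_a L720068) q20409, e3 q18569 L700985 q17519, e3 q18570 (flp_a L720093) q20411, e3 q18571 (flp_a L720111) q20412, e3 q18572 (flp_a L714631) q20010, e3 q18573 (flp_a L720123) q20413, e3 q18574 (flp_a L719776) q20389, e3 q18575 (flp_a L720133) q20414, e3 q18576 (flp_a L720141) q20415, e3 q18577 (flp_a L720076) q20410, e3 q18578 (flp_a L720157) q20416, e3 q18579 (flp_a L720185) q20418, e3 q18580 L701101 q16516, e3 q18581 L701117 q17516, e3 q18582 (flp_a L720437) q20440, e3 q18583 (flp_a L714702) q20014, e3 q18584 (flp_a L720205) q20420, e3 q18585 (flp_a L720215) q20421, e3 q18586 (flp_a L714666) q20012, e3 q18587 (flp_a L714737) q20016, e3 q18588 (flp_a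 L720225) q20422, e3 q18589 (flp_a L719961) q20402, e3 q18590 (flp_a L714749) q20017, e3 q18591 (flp_a L720248) q20424, e3 q18592 (flp_a L719927) q20400, e3 q18593 L701230 q16530, e3 q18594 (flp_a L714885) q20025, e3 q18595 (flp_a L720273) q20426, e3 q18596 L701263 q16540, e3 q18597 L701281 q16547, e3 q18598 L701298 q16649, e3 q18599 L701315 q16655, e3 q18600 L701331 q16673, e3 q18601 L701349 q16846, e3 q18602 L701366 q16639, e3 q18603 L701385 q18000, e3 q18604 L701402 q17279, e3 q18605 L701417 q16751, e3 q18606 L701432 q17260, e3 q18607 L701444 q17272, e3 q18608 L701459 q17269, e3 q18609 L701471 q17273, e3 q18610 L701486 q17270, e3 q18611 L701496 q17271, e3 q18612 L701506 q16604, e3 q18613 L701521 q16605, e3 q18614 L701533 q16606, e3 q18615 L701548 q16607, e3 q18616 L701562 q16608, e3 q18617 L701574 q16609, e3 q18618 L701589 q16610, e3 q18619 L701604 q16611, e3 q18620 L701612 q16614, e3 q18621 L701625 q16616, e3 q18622 L701638 q16617, e3 q18623 L701648 q16618, trivial⟩ (by decide +kernel)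

theorem ce_a_291 : ∀ r, r < 64 → sm ga (Qf (18624 + r)) = Qf (tab Gen.a (18624 + r)) :=
  edges_tab (sm ga) Qf (tab Gen.a) 18624 [(18624, 16619), (18625, 16620), (18626, 16621), (18627, 16622), (18628, 16623), (18629, 16624), (18630, 16626), (18631, 16627), (18632, 16628), (18633, 16629), (18634, 17993), (18635, 16635), (18636, 16638), (18637, 16641), (18638, 16642), (18639, 16645), (18640, 16647), (18641, 16652), (18642, 16654), (18643, 16657), (18644, 16660), (18645, 17764), (18646, 17775), (18647, 20458), (18648, 20459), (18649, 20460), (18650, 20461), (18651, 20462), (18652, 20463), (18653, 20043), (18654, 20464), (18655, 20465), (18656, 20466), (18657, 20467), (18658, 20051), (18659, 17680), (18660, 20468), (18661, 17255), (18662, 17263), (18663, 20469), (18664, 20470), (18665, 20471), (18666, 20472), (18667, 20473), (18668, 20090), (18669, 20474), (18670, 20475), (18671, 20476), (18672, 20477), (18673, 20478), (18674, 20479), (18675, 20096), (18676, 20480), (18677, 17650), (18678, 20481), (18679, 20482), (18680, 16632),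 (18681, 17992), (18682, 20530), (18683, 17252), (18684, 17643), (18685, 20394), (18686, 20484), (18687, 17665)]
    ⟨e3 q18624 L701664 q16619, e3 q18625 L701674 q16620, e3 q18626 L701688 q16621, e3 q18627 L701700 q16622, e3 q18628 L701708 q16623, e3 q18629 L701718 q16624, e3 q18630 L701732 q16626, e3 q18631 L701746 q16627, e3 q18632 L701760 q16628, e3 q18633 L701774 q16629, e3 q18634 L701782 q17993, e3 q18635 L701796 q16635, e3 q18636 L701804 q16638, e3 q18637 L701810 q16641, e3 q18638 L701826 q16642, e3 q18639 L701841 q16645, e3 q18640 L701852 q16647, e3 q18641 L701869 q16652, e3 q18642 L701883 q16654, e3 q18643 L701897 q16657, e3 q18644 L701912 q16660, e3 q18645 L701925 q17764, e3 q18646 L701936 q17775, e3 q18647 (flp_a L720657) q20458, e3 q18648 (flp_a L720673) q20459, e3 q18649 (flp_a L720690) q20460, e3 q18650 (flp_a L720705) q20461, e3 q18651 (flp_a L720717) q20462, e3 q18652 (flp_a L720729) q20463, e3 q18653 (flp_a L715156) q20043, e3 q18654 (flp_a L720743) q20464, e3 q18655 (flp_a L720758) q20465, e3 q18656 (flp_a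 L720773) q20466, e3 q18657 (flp_a L720788) q20467, e3 q18658 (flp_a L715263) q20051, e3 q18659 L702055 q17680, e3 q18660 (flp_a L720798) q20468, e3 q18661 L702075 q17255, e3 q18662 L702090 q17263, e3 q18663 (flp_a L720812) q20469, e3 q18664 (flp_a L720826) q20470, e3 q18665 (flp_a L720842) q20471, e3 q18666 (flp_a L720860) q20472, e3 q18667 (flp_a L720872) q20473, e3 q18668 (flp_a L715871) q20090, e3 q18669 (flp_a L720884) q20474, e3 q18670 (flp_a L720898) q20475, e3 q18671 (flp_a L720912) q20476, e3 q18672 (flp_a L720928) q20477, e3 q18673 (flp_a L720938) q20478, e3 q18674 (flp_a L720948) q20479, e3 q18675 (flp_a L715957) q20096, e3 q18676 (flp_a L720962) q20480, e3 q18677 L702223 q17650, e3 q18678 (flp_a L720974) q20481, e3 q18679 (flp_a L720990) q20482, e3 q18680 L702247 q16632, e3 q18681 L702259 q17992, e3 q18682 (flp_a L721511) q20530, e3 q18683 L702275 q17252, e3 q18684 L702291 q17643, e3 q18685 (flp_a L719846) q20394, e3 q18686 (flp_a L721018) q20484, e3 q18687 L702315 q17665, trivial⟩ (by decide +kernel)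

theorem ce_a_292 : ∀ r, r < 64 → sm ga (Qf (18688 + r)) = Qf (tab Gen.a (18688 + r)) :=
  edges_tab (sm ga) Qf (tab Gen.a) 18688 [(18688, 20064), (18689, 20485), (18690, 17692), (18691, 20486), (18692, 20487), (18693, 17702), (18694, 20065), (18695, 17606), (18696, 16848), (18697, 20451), (18698, 20100), (18699, 16906), (18700, 16923), (18701, 20488), (18702, 17946), (18703, 18001), (18704, 20489), (18705, 17709), (18706, 17634), (18707, 16665), (18708, 20002), (18709, 20549), (18710, 16671), (18711, 17246), (18712, 17275), (18713, 17278), (18714, 17256), (18715, 17264), (18716, 17668), (18717, 17988), (18718, 17636), (18719, 20061), (18720, 20062), (18721, 17669), (18722, 16758), (18723, 17641), (18724, 20063), (18725, 17613), (18726, 17644), (18727, 16748), (18728, 16749), (18729, 16750), (18730, 16752), (18731, 16753), (18732, 16754), (18733, 16755), (18734, 16756), (18735, 16757), (18736, 16759), (18737, 16783), (18738, 16761), (18739, 16762), (18740, 16763), (18741, 16764), (18742, 16765), (18743, 17596), (18744, 16767),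 (18745, 16768), (18746, 16771), (18747, 16772), (18748, 16773), (18749, 16774), (18750, 16775), (18751, 16776)]
    ⟨e3 q18688 (flp_a L715464) q20064, e3 q18689 (flp_a L721032) q20485, e3 q18690 L702343 q17692, e3 q18691 (flp_a L721044) q20486, e3 q18692 (flp_a L721061) q20487, e3 q18693 L702373 q17702, e3 q18694 (flp_a L715482) q20065, e3 q18695 L702399 q17606, e3 q18696 L702412 q16848, e3 q18697 (flp_a L720556) q20451, e3 q18698 (flp_a L716003) q20100, e3 q18699 L702455 q16906, e3 q18700 L702469 q16923, e3 q18701 (flp_a L721076) q20488, e3 q18702 L702492 q17946, e3 q18703 L702507 q18001, e3 q18704 (flp_a L721093) q20489, e3 q18705 L702529 q17709, e3 q18706 L702540 q17634, e3 q18707 L702551 q16665, e3 q18708 (flp_a L714498) q20002, e3 q18709 (flp_a L721758) q20549, e3 q18710 L702591 q16671, e3 q18711 L702607 q17246, e3 q18712 L702621 q17275, e3 q18713 L702637 q17278, e3 q18714 L702648 q17256, e3 q18715 L702660 q17264, e3 q18716 L702672 q17668, e3 q18717 L702682 q17988, e3 q18718 L702695 q17636, e3 q18719 (flp_a L715412)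 q20061, e3 q18720 (flp_a L715430) q20062, e3 q18721 L702724 q17669, e3 q18722 L702747 q16758, e3 q18723 L702753 q17641, e3 q18724 (flp_a L715446) q20063, e3 q18725 L702768 q17613, e3 q18726 L702779 q17644, e3 q18727 L702789 q16748, e3 q18728 L702803 q16749, e3 q18729 L702814 q16750, e3 q18730 L702828 q16752, e3 q18731 L702838 q16753, e3 q18732 L702847 q16754, e3 q18733 L702858 q16755, e3 q18734 L702866 q16756, e3 q18735 L702876 q16757, e3 q18736 L702891 q16759, e3 q18737 L702906 q16783, e3 q18738 L702914 q16761, e3 q18739 L702930 q16762, e3 q18740 L702939 q16763, e3 q18741 L702946 q16764, e3 q18742 L702955 q16765, e3 q18743 L702963 q17596, e3 q18744 L702976 q16767, e3 q18745 L702990 q16768, e3 q18746 L703000 q16771, e3 q18747 L703008 q16772, e3 q18748 L703016 q16773, e3 q18749 L703028 q16774, e3 q18750 L703038 q16775, e3 q18751 L703046 q16776, trivial⟩ (by decide +kernel)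

theorem ce_a_293 : ∀ r, r < 64 → sm ga (Qf (18752 + r)) = Qf (tab Gen.a (18752 + r)) :=
  edges_tab (sm ga) Qf (tab Gen.a) 18752 [(18752, 20598), (18753, 16778), (18754, 16779), (18755, 16780), (18756, 16781), (18757, 16782), (18758, 16784), (18759, 16785), (18760, 16786), (18761, 16787), (18762, 16713), (18763, 20609), (18764, 16791), (18765, 16792), (18766, 16793), (18767, 16795), (18768, 16796), (18769, 16721), (18770, 17579), (18771, 20616), (18772, 16802), (18773, 16803), (18774, 16807), (18775, 16735), (18776, 16808), (18777, 16809), (18778, 16812), (18779, 16813), (18780, 16817), (18781, 17566), (18782, 16819), (18783, 16820), (18784, 16821), (18785, 20622), (18786, 16827), (18787, 16828), (18788, 17569), (18789, 16829), (18790, 16743), (18791, 20631), (18792, 16832), (18793, 16746), (18794, 20105), (18795, 16835), (18796, 20565), (18797, 20566), (18798, 20567), (18799, 20568), (18800, 20569), (18801, 20452), (18802, 20453), (18803, 20570), (18804, 20571), (18805, 20572), (18806, 17590), (18807, 20574), (18808, 20575),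 (18809, 20576), (18810, 20577), (18811, 20578), (18812, 20579), (18813, 20555), (18814, 20561), (18815, 20580)]
    ⟨e3 q18752 L722322 q20598, e3 q18753 L703064 q16778, e3 q18754 L703072 q16779, e3 q18755 L703084 q16780, e3 q18756 L703092 q16781, e3 q18757 L703102 q16782, e3 q18758 L703110 q16784, e3 q18759 L703122 q16785, e3 q18760 L703132 q16786, e3 q18761 L703146 q16787, e3 q18762 (flp_a L703150) q16713, e3 q18763 (flp_a L722438) q20609, e3 q18764 L703176 q16791, e3 q18765 L703183 q16792, e3 q18766 L703194 q16793, e3 q18767 L703202 q16795, e3 q18768 L703210 q16796, e3 q18769 L703218 q16721, e3 q18770 L703232 q17579, e3 q18771 (flp_a L722501) q20616, e3 q18772 L703247 q16802, e3 q18773 L703255 q16803, e3 q18774 L703263 q16807, e3 q18775 L703269 q16735, e3 q18776 L703283 q16808, e3 q18777 L703296 q16809, e3 q18778 L703310 q16812, e3 q18779 L703320 q16813, e3 q18780 L703327 q16817, e3 q18781 L703346 q17566, e3 q18782 L703351 q16819, e3 q18783 L703361 q16820, e3 q18784 L703373 q16821, e3 q18785 (flp_a L722560) q20622, e3 q18786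 L703394 q16827, e3 q18787 L703405 q16828, e3 q18788 L703418 q17569, e3 q18789 L703432 q16829, e3 q18790 L703446 q16743, e3 q18791 (flp_a L722678) q20631, e3 q18792 L703469 q16832, e3 q18793 L703476 q16746, e3 q18794 (flp_a L716082) q20105, e3 q18795 L703494 q16835, e3 q18796 (flp_a L721950) q20565, e3 q18797 (flp_a L721965) q20566, e3 q18798 (flp_a L721981) q20567, e3 q18799 (flp_a L721995) q20568, e3 q18800 (flp_a L722007) q20569, e3 q18801 (flp_a L720574) q20452, e3 q18802 (flp_a L720588) q20453, e3 q18803 (flp_a L722018) q20570, e3 q18804 (flp_a L722031) q20571, e3 q18805 (flp_a L722039) q20572, e3 q18806 (flp_a L703615) q17590, e3 q18807 (flp_a L722064) q20574, e3 q18808 (flp_a L722074) q20575, e3 q18809 (flp_a L722085) q20576, e3 q18810 (flp_a L722093) q20577, e3 q18811 (flp_a L722101) q20578, e3 q18812 (flp_a L722111) q20579, e3 q18813 (flp_a L721847) q20555, e3 q18814 (flp_a L721904) q20561, e3 q18815 (flp_a L722126) q20580, trivial⟩ (by decide +kernel)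

theorem ce_a_294 : ∀ r, r < 64 → sm ga (Qf (18816 + r)) = Qf (tab Gen.a (18816 + r)) :=
  edges_tab (sm ga) Qf (tab Gen.a) 18816 [(18816, 17591), (18817, 20582), (18818, 20583), (18819, 20584), (18820, 20028), (18821, 20585), (18822, 20586), (18823, 17598), (18824, 20588), (18825, 20589), (18826, 20029), (18827, 20031), (18828, 20590), (18829, 20591), (18830, 20592), (18831, 20593), (18832, 20594), (18833, 20595), (18834, 20596), (18835, 20597), (18836, 16777), (18837, 20686), (18838, 20687), (18839, 20296), (18840, 20601), (18841, 20602), (18842, 20603), (18843, 20036), (18844, 20604), (18845, 20605), (18846, 20573), (18847, 20581), (18848, 20606), (18849, 20607), (18850, 20608), (18851, 16790), (18852, 17574), (18853, 17577), (18854, 20708), (18855, 20045), (18856, 20611), (18857, 20612), (18858, 20613), (18859, 20039), (18860, 20048), (18861, 20614), (18862, 20615), (18863, 16799), (18864, 17580), (18865, 20099), (18866, 20046), (18867, 20053), (18868, 20619), (18869, 20620), (18870, 20040), (18871, 20049), (18872, 20054),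 (18873, 20621), (18874, 20623), (18875, 20548), (18876, 20055), (18877, 20056), (18878, 20624), (18879, 20625)]
    ⟨e3 q18816 L703693 q17591, e3 q18817 (flp_a L722149) q20582, e3 q18818 (flp_a L722165) q20583, e3 q18819 (flp_a L722181) q20584, e3 q18820 (flp_a L714930) q20028, e3 q18821 (flp_a L722191) q20585, e3 q18822 (flp_a L722198) q20586, e3 q18823 L703758 q17598, e3 q18824 (flp_a L722222) q20588, e3 q18825 (flp_a L722238) q20589, e3 q18826 (flp_a L714945) q20029, e3 q18827 (flp_a L714976) q20031, e3 q18828 (flp_a L722247) q20590, e3 q18829 (flp_a L722254) q20591, e3 q18830 (flp_a L722264) q20592, e3 q18831 (flp_a L722274) q20593, e3 q18832 (flp_a L722282) q20594, e3 q18833 (flp_a L722294) q20595, e3 q18834 (flp_a L722306) q20596, e3 q18835 (flp_a L722316) q20597, e3 q18836 (flp_a L703867) q16777, e3 q18837 (flp_a L723216) q20686, e3 q18838 (flp_a L723230) q20687, e3 q18839 (flp_a L718591) q20296, e3 q18840 (flp_a L722358) q20601, e3 q18841 (flp_a L722366) q20602, e3 q18842 (flp_a L722376) q20603, e3 q18843 (flp_a L715054)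 q20036, e3 q18844 (flp_a L722386) q20604, e3 q18845 (flp_a L722396) q20605, e3 q18846 (flp_a L722058) q20573, e3 q18847 (flp_a L722134) q20581, e3 q18848 (flp_a L722404) q20606, e3 q18849 (flp_a L722414) q20607, e3 q18850 (flp_a L722426) q20608, e3 q18851 L704011 q16790, e3 q18852 L704025 q17574, e3 q18853 L704038 q17577, e3 q18854 (flp_a L723432) q20708, e3 q18855 (flp_a L715185) q20045, e3 q18856 (flp_a L722460) q20611, e3 q18857 (flp_a L722469) q20612, e3 q18858 (flp_a L722479) q20613, e3 q18859 (flp_a L715090) q20039, e3 q18860 (flp_a L715225) q20048, e3 q18861 (flp_a L722487) q20614, e3 q18862 (flp_a L722493) q20615, e3 q18863 L704115 q16799, e3 q18864 L704127 q17580, e3 q18865 (flp_a L715991) q20099, e3 q18866 (flp_a L715198) q20046, e3 q18867 (flp_a L715292) q20053, e3 q18868 (flp_a L722533) q20619, e3 q18869 (flp_a L722542) q20620, e3 q18870 (flp_a L715106) q20040, e3 q18871 (flp_a L715237) q20049, e3 q18872 (flp_a L715306) q20054, e3 q18873 (flp_a L722550) q20621, e3 q18874 (flp_a L722575) q20623, e3 q18875 (flp_a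 L721743) q20548, e3 q18876 (flp_a L715318) q20055, e3 q18877 (flp_a L715335) q20056, e3 q18878 (flp_a L722589) q20624, e3 q18879 (flp_a L722596) q20625, trivial⟩ (by decide +kernel)

theorem ce_a_295 : ∀ r, r < 64 → sm ga (Qf (18880 + r)) = Qf (tab Gen.a (18880 + r)) :=
  edges_tab (sm ga) Qf (tab Gen.a) 18880 [(18880, 20057), (18881, 20058), (18882, 20634), (18883, 20318), (18884, 20342), (18885, 20627), (18886, 20628), (18887, 16823), (18888, 16824), (18889, 20739), (18890, 20740), (18891, 20741), (18892, 20271), (18893, 20319), (18894, 20343), (18895, 20630), (18896, 17961), (18897, 20541), (18898, 16831), (18899, 20103), (18900, 20633), (18901, 16839), (18902, 16840), (18903, 20752), (18904, 17712), (18905, 20179), (18906, 17332), (18907, 18004), (18908, 17466), (18909, 17482), (18910, 17462), (18911, 17446), (18912, 17467), (18913, 17475), (18914, 17480), (18915, 17476), (18916, 17481), (18917, 17477), (18918, 16894), (18919, 16895), (18920, 16897), (18921, 16898), (18922, 16902), (18923, 16903), (18924, 16904), (18925,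 16907), (18926, 16908), (18927, 16914), (18928, 16915), (18929, 16921), (18930, 16924), (18931, 16927), (18932, 16928), (18933, 17778), (18934, 17779), (18935, 17600), (18936, 17753), (18937, 17783), (18938, 17742), (18939, 17776), (18940, 17746), (18941, 17747), (18942, 17754), (18943, 17755)]
    ⟨e3 q18880 (flp_a L715351) q20057, e3 q18881 (flp_a L715364) q20058, e3 q18882 (flp_a L722712) q20634, e3 q18883 (flp_a L718850) q20318, e3 q18884 (flp_a L719157) q20342, e3 q18885 (flp_a L722627) q20627, e3 q18886 (flp_a L722642) q20628, e3 q18887 L704320 q16823, e3 q18888 L704334 q16824, e3 q18889 (flp_a L723712) q20739, e3 q18890 (flp_a L723725) q20740, e3 q18891 (flp_a L723740) q20741, e3 q18892 (flp_a L718271) q20271, e3 q18893 (flp_a L718865) q20319, e3 q18894 (flp_a L719172) q20343, e3 q18895 (flp_a L722669) q20630, e3 q18896 L704417 q17961, e3 q18897 (flp_a L721645) q20541, e3 q18898 L704440 q16831, e3 q18899 (flp_a L716049) q20103, e3 q18900 (flp_a L722700) q20633, e3 q18901 L704469 q16839, e3 q18902 L704483 q16840, e3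 q18903 (flp_a L723849) q20752, e3 q18904 L704511 q17712, e3 q18905 (flp_a L717040) q20179, e3 q18906 L704540 q17332, e3 q18907 L704556 q18004, e3 q18908 L704571 q17466, e3 q18909 L704583 q17482, e3 q18910 L704596 q17462, e3 q18911 L704609 q17446, e3 q18912 L704619 q17467, e3 q18913 L704631 q17475, e3 q18914 L704645 q17480, e3 q18915 L704656 q17476, e3 q18916 L704669 q17481, e3 q18917 L704681 q17477, e3 q18918 L704696 q16894, e3 q18919 L704709 q16895, e3 q18920 L704722 q16897, e3 q18921 L704732 q16898, e3 q18922 L704744 q16902, e3 q18923 L704754 q16903, e3 q18924 L704764 q16904, e3 q18925 L704778 q16907, e3 q18926 L704791 q16908, e3 q18927 L704804 q16914, e3 q18928 L704814 q16915, e3 q18929 L704826 q16921, e3 q18930 L704837 q16924, e3 q18931 L704849 q16927, e3 q18932 L704856 q16928, e3 q18933 L704865 q17778, e3 q18934 L704872 q17779, e3 q18935 L704885 q17600, e3 q18936 L704894 q17753, e3 q18937 L704902 q17783, e3 q18938 L704911 q17742, e3 q18939 L704924 q17776, e3 q18940 L704937 q17746, e3 q18941 L704947 q17747, e3 q18942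 L704959 q17754, e3 q18943 L704969 q17755, trivial⟩ (by decide +kernel)

theorem ce_a_296 : ∀ r, r < 64 → sm ga (Qf (18944 + r)) = Qf (tab Gen.a (18944 + r)) :=
  edges_tab (sm ga) Qf (tab Gen.a) 18944 [(18944, 17756), (18945, 17761), (18946, 17762), (18947, 17763), (18948, 17770), (18949, 17771), (18950, 17774), (18951, 17731), (18952, 20764), (18953, 20765), (18954, 17733), (18955, 17734), (18956, 20519), (18957, 20766), (18958, 20767), (18959, 17409), (18960, 17421), (18961, 17729), (18962, 17735), (18963, 17736), (18964, 17737), (18965, 20193), (18966, 20768), (18967, 20769), (18968, 17739), (18969, 20544), (18970, 20770), (18971, 17422), (18972, 17740), (18973, 17741), (18974, 17695), (18975, 20199), (18976, 20771), (18977, 20772), (18978, 17994), (18979, 20200), (18980, 20202), (18981, 20157), (18982, 17601), (18983, 20545), (18984, 20773), (18985, 17696), (18986, 20203), (18987, 20774), (18988, 20176), (18989, 17995), (18990, 20204), (18991, 17732), (18992, 17730), (18993, 20180), (18994, 20181), (18995, 20182), (18996,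 20183), (18997, 20184), (18998, 20185), (18999, 20186), (19000, 20187), (19001, 20188), (19002, 20189), (19003, 20190), (19004, 20191), (19005, 20192), (19006, 20194), (19007, 20195)]
    ⟨e3 q18944 L704979 q17756, e3 q18945 L704993 q17761, e3 q18946 L705004 q17762, e3 q18947 L705016 q17763, e3 q18948 L705029 q17770, e3 q18949 L705038 q17771, e3 q18950 L705050 q17774, e3 q18951 L705062 q17731, e3 q18952 (flp_a L724014) q20764, e3 q18953 (flp_a L724026) q20765, e3 q18954 L705092 q17733, e3 q18955 L705108 q17734, e3 q18956 (flp_a L721411) q20519, e3 q18957 (flp_a L724039) q20766, e3 q18958 (flp_a L724049) q20767, e3 q18959 L705144 q17409, e3 q18960 L705160 q17421, e3 q18961 L705174 q17729, e3 q18962 L705190 q17735, e3 q18963 L705206 q17736, e3 q18964 L705216 q17737, e3 q18965 (flp_a L717247) q20193, e3 q18966 (flp_a L724063) q20768, e3 q18967 (flp_a L724073) q20769, e3 q18968 L705250 q17739, e3 q18969 (flp_a L721690) q20544, e3 q18970 (flp_a L724085) q20770, e3 q18971 L705286 q17422, e3 q18972 L705302 q17740, e3 q18973 L705316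 q17741, e3 q18974 L705334 q17695, e3 q18975 (flp_a L717328) q20199, e3 q18976 (flp_a L724098) q20771, e3 q18977 (flp_a L724108) q20772, e3 q18978 L705366 q17994, e3 q18979 (flp_a L717344) q20200, e3 q18980 (flp_a L717376) q20202, e3 q18981 (flp_a L716750) q20157, e3 q18982 L705407 q17601, e3 q18983 (flp_a L721704) q20545, e3 q18984 (flp_a L724120) q20773, e3 q18985 L705437 q17696, e3 q18986 (flp_a L717393) q20203, e3 q18987 (flp_a L724132) q20774, e3 q18988 (flp_a L716997) q20176, e3 q18989 L705476 q17995, e3 q18990 (flp_a L717410) q20204, e3 q18991 L705497 q17732, e3 q18992 L705514 q17730, e3 q18993 (flp_a L717059) q20180, e3 q18994 (flp_a L717075) q20181, e3 q18995 (flp_a L717093) q20182, e3 q18996 (flp_a L717109) q20183, e3 q18997 (flp_a L717123) q20184, e3 q18998 (flp_a L717138) q20185, e3 q18999 (flp_a L717154) q20186, e3 q19000 (flp_a L717167) q20187, e3 q19001 (flp_a L717183) q20188, e3 q19002 (flp_a L717196) q20189, e3 q19003 (flp_a L717208) q20190, e3 q19004 (flp_a L717220) q20191, e3 q19005 (flp_a L717234) q20192,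 e3 q19006 (flp_a L717265) q20194, e3 q19007 (flp_a L717275) q20195, trivial⟩ (by decide +kernel)

theorem ce_a_297 : ∀ r, r < 64 → sm ga (Qf (19008 + r)) = Qf (tab Gen.a (19008 + r)) :=
  edges_tab (sm ga) Qf (tab Gen.a) 19008 [(19008, 20196), (19009, 20197), (19010, 20198), (19011, 20201), (19012, 17017), (19013, 17018), (19014, 17019), (19015, 17020), (19016, 17021), (19017, 17022), (19018, 17023), (19019, 17025), (19020, 17026), (19021, 17030), (19022, 17031), (19023, 17032), (19024, 17036), (19025, 17037), (19026, 17038), (19027, 17044), (19028, 17045), (19029, 17053), (19030, 17054), (19031, 17055), (19032, 17056), (19033, 17058), (19034, 17059), (19035, 17060), (19036, 17061), (19037, 17062), (19038, 20263), (19039, 20275), (19040, 17066), (19041, 17067), (19042, 17068), (19043, 17069), (19044, 17071), (19045, 17072), (19046, 17076), (19047, 17077), (19048, 17078), (19049, 17079), (19050, 17080), (19051, 17081), (19052, 20276), (19053, 17087), (19054, 17088), (19055, 17092), (19056, 17093), (19057, 17102), (19058, 17107),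 (19059, 17109), (19060, 17110), (19061, 17111), (19062, 17114), (19063, 17115), (19064, 17121), (19065, 17122), (19066, 17123), (19067, 17128), (19068, 17129), (19069, 17011), (19070, 17012), (19071, 20905)]
    ⟨e3 q19008 (flp_a L717287) q20196, e3 q19009 (flp_a L717301) q20197, e3 q19010 (flp_a L717314) q20198, e3 q19011 (flp_a L717360) q20201, e3 q19012 L705705 q17017, e3 q19013 L705718 q17018, e3 q19014 L705735 q17019, e3 q19015 L705748 q17020, e3 q19016 L705756 q17021, e3 q19017 L705765 q17022, e3 q19018 L705780 q17023, e3 q19019 L705797 q17025, e3 q19020 L705807 q17026, e3 q19021 L705819 q17030, e3 q19022 L705829 q17031, e3 q19023 L705839 q17032, e3 q19024 L705853 q17036, e3 q19025 L705864 q17037, e3 q19026 L705876 q17038, e3 q19027 L705889 q17044, e3 q19028 L705898 q17045, e3 q19029 L705910 q17053, e3 q19030 L705920 q17054, e3 q19031 L705935 q17055, e3 q19032 L705943 q17056, e3 q19033 L705954 q17058, e3 q19034 L705966 q17059, e3 q19035 L705980 q17060, e3 q19036 L705988 q17061, e3 q19037 L705996 q17062, e3 q19038 (flp_a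 L718176) q20263, e3 q19039 (flp_a L718327) q20275, e3 q19040 L706026 q17066, e3 q19041 L706034 q17067, e3 q19042 L706044 q17068, e3 q19043 L706054 q17069, e3 q19044 L706068 q17071, e3 q19045 L706076 q17072, e3 q19046 L706084 q17076, e3 q19047 L706097 q17077, e3 q19048 L706111 q17078, e3 q19049 L706126 q17079, e3 q19050 L706133 q17080, e3 q19051 L706143 q17081, e3 q19052 (flp_a L718343) q20276, e3 q19053 L706164 q17087, e3 q19054 L706173 q17088, e3 q19055 L706185 q17092, e3 q19056 L706191 q17093, e3 q19057 L706199 q17102, e3 q19058 L706209 q17107, e3 q19059 L706216 q17109, e3 q19060 L706224 q17110, e3 q19061 L706234 q17111, e3 q19062 L706242 q17114, e3 q19063 L706249 q17115, e3 q19064 L706257 q17121, e3 q19065 L706273 q17122, e3 q19066 L706288 q17123, e3 q19067 L706303 q17128, e3 q19068 L706314 q17129, e3 q19069 L706329 q17011, e3 q19070 L706343 q17012, e3 q19071 (flp_a L725557) q20905, trivial⟩ (by decide +kernel)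

theorem ce_a_298 : ∀ r, r < 64 → sm ga (Qf (19072 + r)) = Qf (tab Gen.a (19072 + r)) :=
  edges_tab (sm ga) Qf (tab Gen.a) 19072 [(19072, 20906), (19073, 17137), (19074, 17138), (19075, 17745), (19076, 17777), (19077, 17491), (19078, 20845), (19079, 20846), (19080, 20919), (19081, 20847), (19082, 20848), (19083, 20849), (19084, 20850), (19085, 20851), (19086, 17134), (19087, 20852), (19088, 20853), (19089, 17820), (19090, 17888), (19091, 17940), (19092, 20854), (19093, 20855), (19094, 20856), (19095, 20302), (19096, 20323), (19097, 17877), (19098, 17973), (19099, 17943), (19100, 17898), (19101, 20118), (19102, 20857), (19103, 20858), (19104, 18023), (19105, 17974), (19106, 17944), (19107, 17910), (19108, 20859), (19109, 20860), (19110, 20861), (19111, 20324), (19112, 17353), (19113, 17945), (19114, 17925), (19115, 20122), (19116, 20126), (19117, 20862), (19118, 20863), (19119, 17359), (19120, 17365), (19121, 17371), (19122, 17936), (19123, 20123), (19124, 20127), (19125, 20129), (19126, 20864), (19127, 17964), (19128, 20865),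 (19129, 20866), (19130, 20867), (19131, 20868), (19132, 20869), (19133, 17057), (19134, 20986), (19135, 20987)]
    ⟨e3 q19072 (flp_a L725570) q20906, e3 q19073 L706383 q17137, e3 q19074 L706396 q17138, e3 q19075 L706405 q17745, e3 q19076 L706419 q17777, e3 q19077 L706435 q17491, e3 q19078 (flp_a L724895) q20845, e3 q19079 (flp_a L724909) q20846, e3 q19080 L725709 q20919, e3 q19081 (flp_a L724924) q20847, e3 q19082 (flp_a L724938) q20848, e3 q19083 (flp_a L724953) q20849, e3 q19084 (flp_a L724960) q20850, e3 q19085 (flp_a L724970) q20851, e3 q19086 L706497 q17134, e3 q19087 (flp_a L724979) q20852, e3 q19088 (flp_a L724995) q20853, e3 q19089 L706535 q17820, e3 q19090 L706539 q17888, e3 q19091 L706551 q17940, e3 q19092 (flp_a L725010) q20854, e3 q19093 (flp_a L725022) q20855, e3 q19094 (flp_a L725032) q20856, e3 q19095 (flp_a L718669) q20302, e3 q19096 (flp_a L718915) q20323, e3 q19097 L706603 q17877, e3 q19098 L706613 q17973, e3 q19099 L706623 q17943, e3 q19100 L706633 q17898, e3 q19101 (flp_a L716249) q20118, e3 q19102 (flp_a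 L725046) q20857, e3 q19103 (flp_a L725056) q20858, e3 q19104 L706669 q18023, e3 q19105 L706680 q17974, e3 q19106 L706692 q17944, e3 q19107 L706705 q17910, e3 q19108 (flp_a L725068) q20859, e3 q19109 (flp_a L725078) q20860, e3 q19110 (flp_a L725089) q20861, e3 q19111 (flp_a L718931) q20324, e3 q19112 L706750 q17353, e3 q19113 L706764 q17945, e3 q19114 L706774 q17925, e3 q19115 (flp_a L716301) q20122, e3 q19116 (flp_a L716355) q20126, e3 q19117 (flp_a L725102) q20862, e3 q19118 (flp_a L725112) q20863, e3 q19119 L706813 q17359, e3 q19120 L706828 q17365, e3 q19121 L706842 q17371, e3 q19122 L706857 q17936, e3 q19123 (flp_a L716314) q20123, e3 q19124 (flp_a L716368) q20127, e3 q19125 (flp_a L716396) q20129, e3 q19126 (flp_a L725123) q20864, e3 q19127 L706911 q17964, e3 q19128 (flp_a L725135) q20865, e3 q19129 (flp_a L725149) q20866, e3 q19130 (flp_a L725164) q20867, e3 q19131 (flp_a L725171) q20868, e3 q19132 (flp_a L725181) q20869, e3 q19133 (flp_a L706952) q17057, e3 q19134 (flp_a L726392) q20986, e3 q19135 (flp_a L726406) q20987,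 trivial⟩ (by decide +kernel)

theorem ce_a_299 : ∀ r, r < 64 → sm ga (Qf (19136 + r)) = Qf (tab Gen.a (19136 + r)) :=
  edges_tab (sm ga) Qf (tab Gen.a) 19136 [(19136, 20870), (19137, 20871), (19138, 20872), (19139, 20873), (19140, 20874), (19141, 20875), (19142, 20876), (19143, 17064), (19144, 17065), (19145, 20929), (19146, 20260), (19147, 21003), (19148, 21004), (19149, 20880), (19150, 20881), (19151, 20882), (19152, 20140), (19153, 20883), (19154, 20884), (19155, 17844), (19156, 20134), (19157, 20143), (19158, 20885), (19159, 20886), (19160, 17075), (19161, 20254), (19162, 20269), (19163, 21025), (19164, 20887), (19165, 20888), (19166, 20889), (19167, 17852), (19168, 20148), (19169, 20890), (19170, 20891), (19171, 20892), (19172, 17085), (19173, 17406), (19174, 20261), (19175, 20274), (19176, 20337), (19177, 20145), (19178, 20152), (19179, 20893), (19180, 20894), (19181, 17860), (19182, 20149), (19183, 20155), (19184, 20895), (19185, 20896), (19186, 17412), (19187, 17416), (19188, 17424), (19189, 20282), (19190, 20146),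 (19191, 20153), (19192, 20158), (19193, 20897), (19194, 17869), (19195, 20150), (19196, 20156), (19197, 20160), (19198, 21060), (19199, 20161)]
    ⟨e3 q19136 (flp_a L725190) q20870, e3 q19137 (flp_a L725202) q20871, e3 q19138 (flp_a L725216) q20872, e3 q19139 (flp_a L725228) q20873, e3 q19140 (flp_a L725244) q20874, e3 q19141 (flp_a L725250) q20875, e3 q19142 (flp_a L725260) q20876, e3 q19143 L707032 q17064, e3 q19144 L707038 q17065, e3 q19145 (flp_a L725793) q20929, e3 q19146 (flp_a L718144) q20260, e3 q19147 (flp_a L726553) q21003, e3 q19148 (flp_a L726561) q21004, e3 q19149 (flp_a L725304) q20880, e3 q19150 (flp_a L725311) q20881, e3 q19151 (flp_a L725325) q20882, e3 q19152 (flp_a L716547) q20140, e3 q19153 (flp_a L725335) q20883, e3 q19154 (flp_a L725345) q20884, e3 q19155 L707121 q17844, e3 q19156 (flp_a L716471) q20134, e3 q19157 (flp_a L716581) q20143, e3 q19158 (flp_a L725357) q20885, e3 q19159 (flp_a L725365) q20886, e3 q19160 L707159 q17075, e3 q19161 (flp_a L718083) q20254, e3 q19162 (flp_a L718244) q20269, e3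 q19163 (flp_a L726725) q21025, e3 q19164 (flp_a L725371) q20887, e3 q19165 (flp_a L725383) q20888, e3 q19166 (flp_a L725396) q20889, e3 q19167 L707222 q17852, e3 q19168 (flp_a L716641) q20148, e3 q19169 (flp_a L725411) q20890, e3 q19170 (flp_a L725420) q20891, e3 q19171 (flp_a L725428) q20892, e3 q19172 L707262 q17085, e3 q19173 L707268 q17406, e3 q19174 (flp_a L718158) q20261, e3 q19175 (flp_a L718313) q20274, e3 q19176 (flp_a L719094) q20337, e3 q19177 (flp_a L716603) q20145, e3 q19178 (flp_a L716691) q20152, e3 q19179 (flp_a L725437) q20893, e3 q19180 (flp_a L725447) q20894, e3 q19181 L707333 q17860, e3 q19182 (flp_a L716652) q20149, e3 q19183 (flp_a L716728) q20155, e3 q19184 (flp_a L725458) q20895, e3 q19185 (flp_a L725466) q20896, e3 q19186 L707371 q17412, e3 q19187 L707385 q17416, e3 q19188 L707398 q17424, e3 q19189 (flp_a L718413) q20282, e3 q19190 (flp_a L716616) q20146, e3 q19191 (flp_a L716704) q20153, e3 q19192 (flp_a L716767) q20158, e3 q19193 (flp_a L725474) q20897, e3 q19194 L707453 q17869, e3 q19195 (flp_a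 L716664) q20150, e3 q19196 (flp_a L716738) q20156, e3 q19197 (flp_a L716790) q20160, e3 q19198 L727041 q21060, e3 q19199 (flp_a L716801) q20161, trivial⟩ (by decide +kernel)

theorem ce_a_300 : ∀ r, r < 64 → sm ga (Qf (19200 + r)) = Qf (tab Gen.a (19200 + r)) :=
  edges_tab (sm ga) Qf (tab Gen.a) 19200 [(19200, 20898), (19201, 20899), (19202, 20900), (19203, 20162), (19204, 20164), (19205, 20901), (19206, 20902), (19207, 21071), (19208, 20163), (19209, 20165), (19210, 17119), (19211, 17965), (19212, 20326), (19213, 20903), (19214, 17962), (19215, 17127), (19216, 17830), (19217, 17967), (19218, 20904), (19219, 17835), (19220, 17135), (19221, 17136), (19222, 20930), (19223, 20327), (19224, 20909), (19225, 20910), (19226, 17970), (19227, 17843), (19228, 17959), (19229, 17143), (19230, 20336), (19231, 17851), (19232, 17859), (19233, 17716), (19234, 17603), (19235, 17170), (19236, 17172), (19237, 17187), (19238, 17383), (19239, 17492), (19240, 17507), (19241, 17168), (19242, 17377), (19243, 21088), (19244, 17433), (19245, 17485),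 (19246, 21085), (19247, 17504), (19248, 17821), (19249, 17177), (19250, 17798), (19251, 17817), (19252, 17833), (19253, 17878), (19254, 17963), (19255, 17968), (19256, 17834), (19257, 20307), (19258, 17972), (19259, 17969), (19260, 17958), (19261, 17841), (19262, 17842), (19263, 17204)]
    ⟨e3 q19200 (flp_a L725486) q20898, e3 q19201 (flp_a L725495) q20899, e3 q19202 (flp_a L725504) q20900, e3 q19203 (flp_a L716815) q20162, e3 q19204 (flp_a L716841) q20164, e3 q19205 (flp_a L725515) q20901, e3 q19206 (flp_a L725523) q20902, e3 q19207 L727128 q21071, e3 q19208 (flp_a L716829) q20163, e3 q19209 (flp_a L716852) q20165, e3 q19210 (flp_a L707575) q17119, e3 q19211 L707590 q17965, e3 q19212 (flp_a L718957) q20326, e3 q19213 (flp_a L725528) q20903, e3 q19214 L707635 q17962, e3 q19215 L707652 q17127, e3 q19216 L707668 q17830, e3 q19217 L707683 q17967, e3 q19218 (flp_a L725546) q20904, e3 q19219 L707703 q17835, e3 q19220 L707715 q17135, e3 q19221 L707730 q17136, e3 q19222 (flp_a L725807) q20930, e3 q19223 (flp_a L718973) q20327,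 e3 q19224 (flp_a L725609) q20909, e3 q19225 (flp_a L725622) q20910, e3 q19226 L707777 q17970, e3 q19227 L707788 q17843, e3 q19228 L707798 q17959, e3 q19229 L707811 q17143, e3 q19230 (flp_a L719079) q20336, e3 q19231 L707834 q17851, e3 q19232 L707846 q17859, e3 q19233 L707855 q17716, e3 q19234 L707872 q17603, e3 q19235 L707885 q17170, e3 q19236 L707900 q17172, e3 q19237 L707916 q17187, e3 q19238 L707940 q17383, e3 q19239 L707945 q17492, e3 q19240 L707956 q17507, e3 q19241 (flp_a L707965) q17168, e3 q19242 L707980 q17377, e3 q19243 (flp_a L727322) q21088, e3 q19244 L708002 q17433, e3 q19245 L708014 q17485, e3 q19246 (flp_a L727280) q21085, e3 q19247 L708036 q17504, e3 q19248 L708052 q17821, e3 q19249 L708067 q17177, e3 q19250 L708084 q17798, e3 q19251 L708096 q17817, e3 q19252 L708113 q17833, e3 q19253 L708125 q17878, e3 q19254 L708137 q17963, e3 q19255 L708152 q17968, e3 q19256 L708166 q17834, e3 q19257 (flp_a L718737) q20307, e3 q19258 L708186 q17972, e3 q19259 L708200 q17969, e3 q19260 L708211 q17958, e3 q19261 L708222 q17841,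 e3 q19262 L708232 q17842, e3 q19263 L708242 q17204, trivial⟩ (by decide +kernel)

theorem ce_a_301 : ∀ r, r < 64 → sm ga (Qf (19264 + r)) = Qf (tab Gen.a (19264 + r)) :=
  edges_tab (sm ga) Qf (tab Gen.a) 19264 [(19264, 17521), (19265, 17211), (19266, 20011), (19267, 20019), (19268, 20391), (19269, 20403), (19270, 17533), (19271, 20020), (19272, 20377), (19273, 17244), (19274, 17245), (19275, 17254), (19276, 17645), (19277, 17663), (19278, 17677), (19279, 17685), (19280, 17586), (19281, 17593), (19282, 17594), (19283, 17249), (19284, 17250), (19285, 17251), (19286, 17261), (19287, 17262), (19288, 20085), (19289, 20086), (19290, 20094), (19291, 20095), (19292, 20026), (19293, 20027), (19294, 20071), (19295, 20072), (19296, 21105), (19297, 21106), (19298, 20550), (19299, 20551), (19300, 17883), (19301, 20073), (19302, 20074), (19303, 20075), (19304, 20454), (19305, 21110), (19306, 21111), (19307, 20533), (19308, 20076), (19309, 20504), (19310, 20510), (19311, 20552), (19312, 20077), (19313, 20078), (19314, 20079), (19315, 20030),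 (19316, 20455), (19317, 21112), (19318, 20511), (19319, 20080), (19320, 20081), (19321, 20082), (19322, 20456), (19323, 20457), (19324, 17912), (19325, 17285), (19326, 20009), (19327, 17403)]
    ⟨e3 q19264 L708258 q17521, e3 q19265 L708274 q17211, e3 q19266 (flp_a L714648) q20011, e3 q19267 (flp_a L714784) q20019, e3 q19268 (flp_a L719803) q20391, e3 q19269 (flp_a L719976) q20403, e3 q19270 L708339 q17533, e3 q19271 (flp_a L714804) q20020, e3 q19272 (flp_a L719582) q20377, e3 q19273 L708374 q17244, e3 q19274 L708388 q17245, e3 q19275 L708400 q17254, e3 q19276 L708416 q17645, e3 q19277 L708430 q17663, e3 q19278 L708442 q17677, e3 q19279 L708452 q17685, e3 q19280 L708464 q17586, e3 q19281 L708478 q17593, e3 q19282 L708490 q17594, e3 q19283 L708506 q17249, e3 q19284 L708520 q17250, e3 q19285 L708528 q17251, e3 q19286 L708536 q17261, e3 q19287 L708548 q17262, e3 q19288 (flp_a L715795) q20085, e3 q19289 (flp_a L715813) q20086, e3 q19290 (flp_a L715923) q20094, e3 q19291 (flp_a L715939) q20095, e3 q19292 (flp_a L714898) q20026,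 e3 q19293 (flp_a L714914) q20027, e3 q19294 (flp_a L715585) q20071, e3 q19295 (flp_a L715603) q20072, e3 q19296 (flp_a L727526) q21105, e3 q19297 (flp_a L727540) q21106, e3 q19298 (flp_a L721774) q20550, e3 q19299 (flp_a L721788) q20551, e3 q19300 L708692 q17883, e3 q19301 (flp_a L715619) q20073, e3 q19302 (flp_a L715637) q20074, e3 q19303 (flp_a L715651) q20075, e3 q19304 (flp_a L720605) q20454, e3 q19305 (flp_a L727592) q21110, e3 q19306 (flp_a L727606) q21111, e3 q19307 (flp_a L721545) q20533, e3 q19308 (flp_a L715665) q20076, e3 q19309 (flp_a L721246) q20504, e3 q19310 (flp_a L721305) q20510, e3 q19311 (flp_a L721802) q20552, e3 q19312 (flp_a L715683) q20077, e3 q19313 (flp_a L715698) q20078, e3 q19314 (flp_a L715711) q20079, e3 q19315 (flp_a L714960) q20030, e3 q19316 (flp_a L720621) q20455, e3 q19317 (flp_a L727612) q21112, e3 q19318 (flp_a L721320) q20511, e3 q19319 (flp_a L715727) q20080, e3 q19320 (flp_a L715740) q20081, e3 q19321 (flp_a L715756) q20082, e3 q19322 (flp_a L720633) q20456, e3 q19323 (flp_a L720647)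 q20457, e3 q19324 L708910 q17912, e3 q19325 L708923 q17285, e3 q19326 (flp_a L714614) q20009, e3 q19327 L708947 q17403, trivial⟩ (by decide +kernel)

theorem ce_a_302 : ∀ r, r < 64 → sm ga (Qf (19328 + r)) = Qf (tab Gen.a (19328 + r)) :=
  edges_tab (sm ga) Qf (tab Gen.a) 19328 [(19328, 17404), (19329, 17405), (19330, 17399), (19331, 17400), (19332, 17846), (19333, 17863), (19334, 17853), (19335, 17884), (19336, 17913), (19337, 17300), (19338, 21151), (19339, 21152), (19340, 17896), (19341, 17923), (19342, 17901), (19343, 17305), (19344, 21158), (19345, 17909), (19346, 17309), (19347, 21161), (19348, 17924), (19349, 17312), (19350, 20335), (19351, 17315), (19352, 21163), (19353, 18056), (19354, 17318), (19355, 21166), (19356, 18048), (19357, 17321), (19358, 20370), (19359, 18057), (19360, 17327), (19361, 20753), (19362, 17330), (19363, 17748), (19364, 17765), (19365, 17757), (19366, 17772), (19367, 17766), (19368, 17407), (19369, 17408), (19370, 17410), (19371, 17411), (19372, 17413), (19373, 17414), (19374, 17419), (19375,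 17426), (19376, 17430), (19377, 17431), (19378, 17432), (19379, 20963), (19380, 17434), (19381, 17435), (19382, 17436), (19383, 17437), (19384, 17438), (19385, 20948), (19386, 20964), (19387, 17442), (19388, 17443), (19389, 17444), (19390, 17445), (19391, 17447)]
    ⟨e3 q19328 L708958 q17404, e3 q19329 L708972 q17405, e3 q19330 L708984 q17399, e3 q19331 L708998 q17400, e3 q19332 L709010 q17846, e3 q19333 L709020 q17863, e3 q19334 L709032 q17853, e3 q19335 L709047 q17884, e3 q19336 L709059 q17913, e3 q19337 (flp_a L709069) q17300, e3 q19338 (flp_a L728052) q21151, e3 q19339 (flp_a L728066) q21152, e3 q19340 L709103 q17896, e3 q19341 L709113 q17923, e3 q19342 L709121 q17901, e3 q19343 (flp_a L709129) q17305, e3 q19344 (flp_a L728128) q21158, e3 q19345 L709159 q17909, e3 q19346 L709170 q17309, e3 q19347 (flp_a L728165) q21161, e3 q19348 L709194 q17924, e3 q19349 L709204 q17312, e3 q19350 (flp_a L719062) q20335, e3 q19351 L709226 q17315, e3 q19352 (flp_a L728187) q21163, e3 q19353 L709247 q18056, e3 q19354 L709256 q17318, e3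 q19355 (flp_a L728214) q21166, e3 q19356 L709281 q18048, e3 q19357 L709291 q17321, e3 q19358 (flp_a L719486) q20370, e3 q19359 L709311 q18057, e3 q19360 L709322 q17327, e3 q19361 (flp_a L723864) q20753, e3 q19362 L709345 q17330, e3 q19363 L709356 q17748, e3 q19364 L709370 q17765, e3 q19365 L709382 q17757, e3 q19366 L709392 q17772, e3 q19367 L709402 q17766, e3 q19368 L709417 q17407, e3 q19369 L709425 q17408, e3 q19370 L709434 q17410, e3 q19371 L709440 q17411, e3 q19372 L709450 q17413, e3 q19373 L709462 q17414, e3 q19374 L709477 q17419, e3 q19375 L709487 q17426, e3 q19376 L709497 q17430, e3 q19377 L709508 q17431, e3 q19378 L709514 q17432, e3 q19379 (flp_a L726149) q20963, e3 q19380 L709531 q17434, e3 q19381 L709539 q17435, e3 q19382 L709551 q17436, e3 q19383 L709565 q17437, e3 q19384 L709573 q17438, e3 q19385 (flp_a L725996) q20948, e3 q19386 (flp_a L726165) q20964, e3 q19387 L709599 q17442, e3 q19388 L709609 q17443, e3 q19389 L709617 q17444, e3 q19390 L709625 q17445, e3 q19391 L709633 q17447, trivial⟩ (by decide +kernel)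

theorem ce_a_303 : ∀ r, r < 64 → sm ga (Qf (19392 + r)) = Qf (tab Gen.a (19392 + r)) :=
  edges_tab (sm ga) Qf (tab Gen.a) 19392 [(19392, 17448), (19393, 20971), (19394, 17452), (19395, 17453), (19396, 17454), (19397, 17455), (19398, 17456), (19399, 20972), (19400, 17463), (19401, 17464), (19402, 17465), (19403, 17468), (19404, 20341), (19405, 17478), (19406, 17479), (19407, 17956), (19408, 17483), (19409, 17484), (19410, 21089), (19411, 17486), (19412, 17487), (19413, 17488), (19414, 17489), (19415, 17384), (19416, 20913), (19417, 21086), (19418, 21219), (19419, 17495), (19420, 17496), (19421, 17497), (19422, 17390), (19423, 21226), (19424, 17500), (19425, 17393), (19426, 20350), (19427, 17503), (19428, 20166), (19429, 21231), (19430, 20305), (19431, 20363), (19432, 21147), (19433, 21148), (19434, 20108), (19435, 20109), (19436, 20110), (19437, 21038), (19438, 21143), (19439, 21144), (19440, 21145), (19441, 21146), (19442, 21007), (19443, 21039), (19444, 21173), (19445, 20137), (19446, 21174), (19447, 21175), (19448, 17751),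 (19449, 20802), (19450, 21176), (19451, 21053), (19452, 21177), (19453, 17917), (19454, 17930), (19455, 21054)]
    ⟨e3 q19392 L709643 q17448, e3 q19393 (flp_a L726236) q20971, e3 q19394 L709658 q17452, e3 q19395 L709669 q17453, e3 q19396 L709681 q17454, e3 q19397 L709690 q17455, e3 q19398 L709702 q17456, e3 q19399 (flp_a L726251) q20972, e3 q19400 L709723 q17463, e3 q19401 L709732 q17464, e3 q19402 L709742 q17465, e3 q19403 L709752 q17468, e3 q19404 (flp_a L719151) q20341, e3 q19405 L709771 q17478, e3 q19406 L709779 q17479, e3 q19407 L709796 q17956, e3 q19408 L709801 q17483, e3 q19409 L709814 q17484, e3 q19410 (flp_a L727336) q21089, e3 q19411 L709838 q17486, e3 q19412 L709849 q17487, e3 q19413 L709862 q17488, e3 q19414 L709873 q17489, e3 q19415 L709888 q17384, e3 q19416 (flp_a L725666) q20913, e3 q19417 (flp_a L727296) q21086, e3 q19418 (flp_a L728761) q21219, e3 q19419 L709926 q17495, e3 q19420 L709937 q17496, e3 q19421 L709949 q17497, e3 q19422 L709958 q17390, e3 q19423 (flp_a L728826) q21226, e3 q19424 L709979 q17500,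 e3 q19425 L709989 q17393, e3 q19426 (flp_a L719246) q20350, e3 q19427 L710007 q17503, e3 q19428 (flp_a L716869) q20166, e3 q19429 L728873 q21231, e3 q19430 (flp_a L718707) q20305, e3 q19431 (flp_a L719411) q20363, e3 q19432 (flp_a L728000) q21147, e3 q19433 (flp_a L728014) q21148, e3 q19434 (flp_a L716119) q20108, e3 q19435 (flp_a L716131) q20109, e3 q19436 (flp_a L716143) q20110, e3 q19437 (flp_a L726847) q21038, e3 q19438 (flp_a L727949) q21143, e3 q19439 (flp_a L727961) q21144, e3 q19440 (flp_a L727972) q21145, e3 q19441 (flp_a L727986) q21146, e3 q19442 (flp_a L726586) q21007, e3 q19443 (flp_a L726862) q21039, e3 q19444 (flp_a L728297) q21173, e3 q19445 (flp_a L716503) q20137, e3 q19446 (flp_a L728302) q21174, e3 q19447 (flp_a L728310) q21175, e3 q19448 L710203 q17751, e3 q19449 (flp_a L724438) q20802, e3 q19450 (flp_a L728320) q21176, e3 q19451 (flp_a L726974) q21053, e3 q19452 (flp_a L728328) q21177, e3 q19453 L710258 q17917, e3 q19454 L710274 q17930, e3 q19455 (flp_a L726988) q21054, trivial⟩ (by decide +kernel)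

theorem ce_a_304 : ∀ r, r < 64 → sm ga (Qf (19456 + r)) = Qf (tab Gen.a (19456 + r)) :=
  edges_tab (sm ga) Qf (tab Gen.a) 19456 [(19456, 20138), (19457, 20151), (19458, 21178), (19459, 17752), (19460, 20803), (19461, 17931), (19462, 20287), (19463, 17760), (19464, 17769), (19465, 21180), (19466, 21181), (19467, 21182), (19468, 21183), (19469, 21184), (19470, 20922), (19471, 21091), (19472, 21187), (19473, 21188), (19474, 21189), (19475, 21190), (19476, 21191), (19477, 21192), (19478, 17440), (19479, 17441), (19480, 20914), (19481, 21285), (19482, 21286), (19483, 21287), (19484, 21196), (19485, 20247), (19486, 21197), (19487, 20756), (19488, 21198), (19489, 21199), (19490, 21200), (19491, 20754), (19492, 20758), (19493, 21201), (19494, 21202), (19495, 17450), (19496, 17451), (19497, 21309), (19498, 21310), (19499, 21311), (19500, 21204), (19501, 21205), (19502, 21206), (19503, 21207), (19504, 17459), (19505, 17460), (19506, 17461), (19507, 17855), (19508, 21318), (19509, 21319), (19510, 20333), (19511, 20359), (19512, 20757),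 (19513, 21209), (19514, 21210), (19515, 21211), (19516, 20755), (19517, 20759), (19518, 17473), (19519, 17849)]
    ⟨e3 q19456 (flp_a L716519) q20138, e3 q19457 (flp_a L716675) q20151, e3 q19458 (flp_a L728341) q21178, e3 q19459 L710329 q17752, e3 q19460 (flp_a L724454) q20803, e3 q19461 L710351 q17931, e3 q19462 (flp_a L718487) q20287, e3 q19463 L710374 q17760, e3 q19464 L710385 q17769, e3 q19465 (flp_a L728363) q21180, e3 q19466 (flp_a L728375) q21181, e3 q19467 (flp_a L728388) q21182, e3 q19468 (flp_a L728393) q21183, e3 q19469 (flp_a L728401) q21184, e3 q19470 (flp_a L725737) q20922, e3 q19471 (flp_a L727360) q21091, e3 q19472 (flp_a L728426) q21187, e3 q19473 (flp_a L728438) q21188, e3 q19474 (flp_a L728450) q21189, e3 q19475 (flp_a L728460) q21190, e3 q19476 (flp_a L728470) q21191, e3 q19477 (flp_a L728484) q21192, e3 q19478 L710502 q17440, e3 q19479 L710508 q17441, e3 q19480 (flp_a L725670) q20914, e3 q19481 (flp_a L729394) q21285, e3 q19482 (flp_a L729408) q21286, e3 q19483 (flp_a L729416) q21287, e3 q19484 (flp_a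 L728516) q21196, e3 q19485 (flp_a L718003) q20247, e3 q19486 (flp_a L728527) q21197, e3 q19487 (flp_a L723904) q20756, e3 q19488 (flp_a L728539) q21198, e3 q19489 (flp_a L728549) q21199, e3 q19490 (flp_a L728557) q21200, e3 q19491 (flp_a L723882) q20754, e3 q19492 (flp_a L723933) q20758, e3 q19493 (flp_a L728567) q21201, e3 q19494 (flp_a L728577) q21202, e3 q19495 L710615 q17450, e3 q19496 L710629 q17451, e3 q19497 (flp_a L729568) q21309, e3 q19498 (flp_a L729581) q21310, e3 q19499 (flp_a L729595) q21311, e3 q19500 (flp_a L728590) q21204, e3 q19501 (flp_a L728601) q21205, e3 q19502 (flp_a L728614) q21206, e3 q19503 (flp_a L728625) q21207, e3 q19504 L710709 q17459, e3 q19505 L710722 q17460, e3 q19506 L710735 q17461, e3 q19507 L710743 q17855, e3 q19508 (flp_a L729664) q21318, e3 q19509 (flp_a L729677) q21319, e3 q19510 (flp_a L719035) q20333, e3 q19511 (flp_a L719358) q20359, e3 q19512 (flp_a L723920) q20757, e3 q19513 (flp_a L728647) q21209, e3 q19514 (flp_a L728655) q21210, e3 q19515 (flp_a L728664) q21211, e3 q19516 (flp_a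 L723892) q20755, e3 q19517 (flp_a L723943) q20759, e3 q19518 L710834 q17473, e3 q19519 L710849 q17849, trivial⟩ (by decide +kernel)

theorem ce_a_305 : ∀ r, r < 64 → sm ga (Qf (19520 + r)) = Qf (tab Gen.a (19520 + r)) :=
  edges_tab (sm ga) Qf (tab Gen.a) 19520 [(19520, 17856), (19521, 17865), (19522, 21328), (19523, 20760), (19524, 20762), (19525, 20763), (19526, 20761), (19527, 21214), (19528, 21092), (19529, 20243), (19530, 21216), (19531, 21217), (19532, 21218), (19533, 17493), (19534, 20636), (19535, 20915), (19536, 21087), (19537, 20348), (19538, 20248), (19539, 21223), (19540, 21224), (19541, 21225), (19542, 17499), (19543, 20345), (19544, 21228), (19545, 21230), (19546, 17517), (19547, 17518), (19548, 17520), (19549, 17980), (19550, 17522), (19551, 20441), (19552, 20431), (19553, 21348), (19554, 21350), (19555, 17531), (19556, 17534), (19557, 17542), (19558, 17551), (19559, 20406), (19560, 21355), (19561, 20022), (19562, 21103), (19563, 20397), (19564, 20023), (19565, 17539), (19566, 20404), (19567, 21362), (19568,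 20015), (19569, 20013), (19570, 21356), (19571, 20024), (19572, 20399), (19573, 17550), (19574, 20401), (19575, 21349), (19576, 17575), (19577, 17576), (19578, 17578), (19579, 17582), (19580, 17583), (19581, 17584), (19582, 17585), (19583, 17587)]
    ⟨e3 q19520 L710863 q17856, e3 q19521 L710876 q17865, e3 q19522 (flp_a L729753) q21328, e3 q19523 (flp_a L723957) q20760, e3 q19524 (flp_a L723984) q20762, e3 q19525 (flp_a L723998) q20763, e3 q19526 (flp_a L723971) q20761, e3 q19527 (flp_a L728699) q21214, e3 q19528 (flp_a L727374) q21092, e3 q19529 (flp_a L717958) q20243, e3 q19530 (flp_a L728723) q21216, e3 q19531 (flp_a L728736) q21217, e3 q19532 (flp_a L728750) q21218, e3 q19533 L710973 q17493, e3 q19534 (flp_a L722736) q20636, e3 q19535 (flp_a L725680) q20915, e3 q19536 (flp_a L727310) q21087, e3 q19537 (flp_a L719227) q20348, e3 q19538 (flp_a L718013) q20248, e3 q19539 (flp_a L728802) q21223, e3 q19540 (flp_a L728811) q21224, e3 q19541 (flp_a L728819) q21225, e3 q19542 L711026 q17499, e3 q19543 (flp_a L719197) q20345,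 e3 q19544 (flp_a L728846) q21228, e3 q19545 (flp_a L728867) q21230, e3 q19546 L711058 q17517, e3 q19547 L711074 q17518, e3 q19548 L711090 q17520, e3 q19549 L711098 q17980, e3 q19550 L711111 q17522, e3 q19551 (flp_a L720453) q20441, e3 q19552 (flp_a L720341) q20431, e3 q19553 (flp_a L729894) q21348, e3 q19554 (flp_a L729915) q21350, e3 q19555 L711152 q17531, e3 q19556 L711162 q17534, e3 q19557 L711168 q17542, e3 q19558 L711176 q17551, e3 q19559 (flp_a L720021) q20406, e3 q19560 (flp_a L729955) q21355, e3 q19561 (flp_a L714840) q20022, e3 q19562 (flp_a L727503) q21103, e3 q19563 (flp_a L719888) q20397, e3 q19564 (flp_a L714856) q20023, e3 q19565 L711222 q17539, e3 q19566 (flp_a L719992) q20404, e3 q19567 (flp_a L730009) q21362, e3 q19568 (flp_a L714719) q20015, e3 q19569 (flp_a L714684) q20013, e3 q19570 (flp_a L729964) q21356, e3 q19571 (flp_a L714868) q20024, e3 q19572 (flp_a L719910) q20399, e3 q19573 L711282 q17550, e3 q19574 (flp_a L719944) q20401, e3 q19575 (flp_a L729904) q21349, e3 q19576 L711305 q17575, e3 q19577 L711319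 q17576, e3 q19578 L711331 q17578, e3 q19579 L711347 q17582, e3 q19580 L711361 q17583, e3 q19581 L711373 q17584, e3 q19582 L711379 q17585, e3 q19583 L711389 q17587, trivial⟩ (by decide +kernel)

theorem ce_a_306 : ∀ r, r < 64 → sm ga (Qf (19584 + r)) = Qf (tab Gen.a (19584 + r)) :=
  edges_tab (sm ga) Qf (tab Gen.a) 19584 [(19584, 17588), (19585, 17589), (19586, 17592), (19587, 17599), (19588, 20626), (19589, 17602), (19590, 18003), (19591, 17604), (19592, 17710), (19593, 17607), (19594, 20689), (19595, 20709), (19596, 21365), (19597, 21366), (19598, 20710), (19599, 20617), (19600, 20720), (19601, 21367), (19602, 21368), (19603, 20777), (19604, 20652), (19605, 21369), (19606, 21370), (19607, 21108), (19608, 21371), (19609, 20653), (19610, 20664), (19611, 21372), (19612, 21109), (19613, 17597), (19614, 20587), (19615, 20538), (19616, 20671), (19617, 21373), (19618, 20490), (19619, 20778), (19620, 20820), (19621, 21375), (19622, 21377), (19623, 20635), (19624, 17637), (19625, 17638), (19626, 17639), (19627, 17640), (19628, 17642),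 (19629, 20563), (19630, 17646), (19631, 17648), (19632, 17649), (19633, 17653), (19634, 17654), (19635, 17660), (19636, 17661), (19637, 17664), (19638, 17674), (19639, 17626), (19640, 20535), (19641, 17686), (19642, 17691), (19643, 17701), (19644, 17706), (19645, 20556), (19646, 20557), (19647, 21406)]
    ⟨e3 q19584 L711397 q17588, e3 q19585 L711405 q17589, e3 q19586 L711421 q17592, e3 q19587 L711429 q17599, e3 q19588 (flp_a L722610) q20626, e3 q19589 L711444 q17602, e3 q19590 L711453 q18003, e3 q19591 L711464 q17604, e3 q19592 L711473 q17710, e3 q19593 L711482 q17607, e3 q19594 (flp_a L723256) q20689, e3 q19595 (flp_a L723446) q20709, e3 q19596 (flp_a L730031) q21365, e3 q19597 (flp_a L730045) q21366, e3 q19598 (flp_a L723459) q20710, e3 q19599 (flp_a L722515) q20617, e3 q19600 (flp_a L723539) q20720, e3 q19601 (flp_a L730059) q21367, e3 q19602 (flp_a L730073) q21368, e3 q19603 (flp_a L724156) q20777, e3 q19604 (flp_a L722896) q20652, e3 q19605 (flp_a L730087) q21369, e3 q19606 (flp_a L730095) q21370, e3 q19607 (flp_a L727564)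 q21108, e3 q19608 (flp_a L730103) q21371, e3 q19609 (flp_a L722912) q20653, e3 q19610 (flp_a L723019) q20664, e3 q19611 (flp_a L730109) q21372, e3 q19612 (flp_a L727578) q21109, e3 q19613 L711619 q17597, e3 q19614 (flp_a L722208) q20587, e3 q19615 (flp_a L721609) q20538, e3 q19616 (flp_a L723084) q20671, e3 q19617 (flp_a L730119) q21373, e3 q19618 (flp_a L721108) q20490, e3 q19619 (flp_a L724166) q20778, e3 q19620 (flp_a L724642) q20820, e3 q19621 (flp_a L730139) q21375, e3 q19622 (flp_a L730157) q21377, e3 q19623 (flp_a L722724) q20635, e3 q19624 L711690 q17637, e3 q19625 L711698 q17638, e3 q19626 L711707 q17639, e3 q19627 L711713 q17640, e3 q19628 L711721 q17642, e3 q19629 (flp_a L721929) q20563, e3 q19630 L711737 q17646, e3 q19631 L711744 q17648, e3 q19632 L711752 q17649, e3 q19633 L711760 q17653, e3 q19634 L711770 q17654, e3 q19635 L711778 q17660, e3 q19636 L711786 q17661, e3 q19637 L711794 q17664, e3 q19638 L711800 q17674, e3 q19639 L711808 q17626, e3 q19640 (flp_a L721573) q20535, e3 q19641 L711820 q17686, e3 q19642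 L711826 q17691, e3 q19643 L711838 q17701, e3 q19644 L711845 q17706, e3 q19645 (flp_a L721853) q20556, e3 q19646 (flp_a L721863) q20557, e3 q19647 (flp_a L730347) q21406, trivial⟩ (by decide +kernel)

theorem ce_a_307 : ∀ r, r < 64 → sm ga (Qf (19648 + r)) = Qf (tab Gen.a (19648 + r)) :=
  edges_tab (sm ga) Qf (tab Gen.a) 19648 [(19648, 21407), (19649, 21408), (19650, 21409), (19651, 20562), (19652, 21410), (19653, 20534), (19654, 20564), (19655, 20723), (19656, 20087), (19657, 20091), (19658, 21125), (19659, 21412), (19660, 21413), (19661, 20522), (19662, 20527), (19663, 20088), (19664, 20092), (19665, 21414), (19666, 17656), (19667, 17657), (19668, 20807), (19669, 20553), (19670, 21440), (19671, 21441), (19672, 20257), (19673, 20297), (19674, 20034), (19675, 20083), (19676, 21415), (19677, 21416), (19678, 20032), (19679, 20037), (19680, 21107), (19681, 21417), (19682, 20536), (19683, 20093), (19684, 17670), (19685, 20554), (19686, 20560), (19687, 21457), (19688, 20035), (19689, 20084), (19690, 20041), (19691, 21418), (19692,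 20033), (19693, 20038), (19694, 17681), (19695, 17682), (19696, 20508), (19697, 20531), (19698, 20098), (19699, 20532), (19700, 20047), (19701, 20483), (19702, 20672), (19703, 20101), (19704, 20539), (19705, 20102), (19706, 17697), (19707, 20814), (19708, 20822), (19709, 21468), (19710, 20272), (19711, 20320)]
    ⟨e3 q19648 (flp_a L730356) q21407, e3 q19649 (flp_a L730364) q21408, e3 q19650 (flp_a L730374) q21409, e3 q19651 (flp_a L721919) q20562, e3 q19652 (flp_a L730382) q21410, e3 q19653 (flp_a L721561) q20534, e3 q19654 (flp_a L721941) q20564, e3 q19655 (flp_a L723568) q20723, e3 q19656 (flp_a L715831) q20087, e3 q19657 (flp_a L715885) q20091, e3 q19658 (flp_a L727771) q21125, e3 q19659 (flp_a L730398) q21412, e3 q19660 (flp_a L730408) q21413, e3 q19661 (flp_a L721443) q20522, e3 q19662 (flp_a L721485) q20527, e3 q19663 (flp_a L715847) q20088, e3 q19664 (flp_a L715899) q20092, e3 q19665 (flp_a L730414) q21414, e3 q19666 L711993 q17656, e3 q19667 L711997 q17657, e3 q19668 (flp_a L724514) q20807, e3 q19669 (flp_a L721814)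 q20553, e3 q19670 (flp_a L730594) q21440, e3 q19671 (flp_a L730600) q21441, e3 q19672 (flp_a L718112) q20257, e3 q19673 (flp_a L718603) q20297, e3 q19674 (flp_a L715022) q20034, e3 q19675 (flp_a L715767) q20083, e3 q19676 (flp_a L730422) q21415, e3 q19677 (flp_a L730430) q21416, e3 q19678 (flp_a L714990) q20032, e3 q19679 (flp_a L715066) q20037, e3 q19680 (flp_a L727554) q21107, e3 q19681 (flp_a L730438) q21417, e3 q19682 (flp_a L721585) q20536, e3 q19683 (flp_a L715911) q20093, e3 q19684 L712105 q17670, e3 q19685 (flp_a L721826) q20554, e3 q19686 (flp_a L721892) q20560, e3 q19687 (flp_a L730702) q21457, e3 q19688 (flp_a L715038) q20035, e3 q19689 (flp_a L715783) q20084, e3 q19690 (flp_a L715122) q20041, e3 q19691 (flp_a L730444) q21418, e3 q19692 (flp_a L715006) q20033, e3 q19693 (flp_a L715078) q20038, e3 q19694 L712179 q17681, e3 q19695 L712185 q17682, e3 q19696 (flp_a L721284) q20508, e3 q19697 (flp_a L721523) q20531, e3 q19698 (flp_a L715979) q20098, e3 q19699 (flp_a L721533) q20532, e3 q19700 (flp_a L715211) q20047,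 e3 q19701 (flp_a L721002) q20483, e3 q19702 (flp_a L723097) q20672, e3 q19703 (flp_a L716021) q20101, e3 q19704 (flp_a L721623) q20539, e3 q19705 (flp_a L716038) q20102, e3 q19706 L712256 q17697, e3 q19707 (flp_a L724583) q20814, e3 q19708 (flp_a L724663) q20822, e3 q19709 (flp_a L730777) q21468, e3 q19710 (flp_a L718285) q20272, e3 q19711 (flp_a L718878) q20320, trivial⟩ (by decide +kernel)

theorem ce_a_308 : ∀ r, r < 64 → sm ga (Qf (19712 + r)) = Qf (tab Gen.a (19712 + r)) :=
  edges_tab (sm ga) Qf (tab Gen.a) 19712 [(19712, 20344), (19713, 21419), (19714, 20542), (19715, 17705), (19716, 20104), (19717, 20547), (19718, 21420), (19719, 21376), (19720, 17713), (19721, 17717), (19722, 17743), (19723, 17744), (19724, 17749), (19725, 17750), (19726, 17758), (19727, 20804), (19728, 20827), (19729, 20793), (19730, 20794), (19731, 20798), (19732, 20799), (19733, 20805), (19734, 20806), (19735, 18067), (19736, 20813), (19737, 20782), (19738, 20783), (19739, 21478), (19740, 21479), (19741, 21480), (19742, 20911), (19743, 20912),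 (19744, 20775), (19745, 20784), (19746, 20785), (19747, 20786), (19748, 20491), (19749, 21170), (19750, 21481), (19751, 17831), (19752, 20266), (19753, 21258), (19754, 21267), (19755, 20779), (19756, 20780), (19757, 20787), (19758, 20788), (19759, 21172), (19760, 21482), (19761, 20278), (19762, 20284), (19763, 21268), (19764, 20789), (19765, 20790), (19766, 20492), (19767, 21171), (19768, 20279), (19769, 20285), (19770, 20791), (19771, 20792), (19772, 20286), (19773, 20776), (19774, 17832), (19775, 20781)]
    ⟨e3 q19712 (flp_a L719186) q20344, e3 q19713 (flp_a L730452) q21419, e3 q19714 (flp_a L721660) q20542, e3 q19715 L712319 q17705, e3 q19716 (flp_a L716060) q20104, e3 q19717 (flp_a L721728) q20547, e3 q19718 (flp_a L730457) q21420, e3 q19719 (flp_a L730148) q21376, e3 q19720 L712352 q17713, e3 q19721 L712362 q17717, e3 q19722 L712372 q17743, e3 q19723 L712378 q17744, e3 q19724 L712387 q17749, e3 q19725 L712395 q17750, e3 q19726 L712405 q17758, e3 q19727 (flp_a L724470) q20804, e3 q19728 (flp_a L724711) q20827, e3 q19729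 (flp_a L724333) q20793, e3 q19730 (flp_a L724349) q20794, e3 q19731 (flp_a L724390) q20798, e3 q19732 (flp_a L724406) q20799, e3 q19733 (flp_a L724486) q20805, e3 q19734 (flp_a L724502) q20806, e3 q19735 L712466 q18067, e3 q19736 (flp_a L724567) q20813, e3 q19737 (flp_a L724203) q20782, e3 q19738 (flp_a L724215) q20783, e3 q19739 (flp_a L730840) q21478, e3 q19740 (flp_a L730845) q21479, e3 q19741 (flp_a L730853) q21480, e3 q19742 (flp_a L725631) q20911, e3 q19743 (flp_a L725645) q20912, e3 q19744 (flp_a L724139) q20775, e3 q19745 (flp_a L724228) q20784, e3 q19746 (flp_a L724240) q20785, e3 q19747 (flp_a L724250) q20786, e3 q19748 (flp_a L721118) q20491, e3 q19749 (flp_a L728259) q21170, e3 q19750 (flp_a L730862) q21481, e3 q19751 L712590 q17831, e3 q19752 (flp_a L718210) q20266, e3 q19753 (flp_a L729135) q21258, e3 q19754 (flp_a L729237) q21267, e3 q19755 (flp_a L724177) q20779, e3 q19756 (flp_a L724184) q20780, e3 q19757 (flp_a L724264) q20787, e3 q19758 (flp_a L724274) q20788, e3 q19759 (flp_a L728287) q21172, e3 q19760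 (flp_a L730870) q21482, e3 q19761 (flp_a L718368) q20278, e3 q19762 (flp_a L718443) q20284, e3 q19763 (flp_a L729249) q21268, e3 q19764 (flp_a L724286) q20789, e3 q19765 (flp_a L724297) q20790, e3 q19766 (flp_a L721130) q20492, e3 q19767 (flp_a L728273) q21171, e3 q19768 (flp_a L718383) q20279, e3 q19769 (flp_a L718457) q20285, e3 q19770 (flp_a L724310) q20791, e3 q19771 (flp_a L724320) q20792, e3 q19772 (flp_a L718471) q20286, e3 q19773 (flp_a L724147) q20776, e3 q19774 L712765 q17832, e3 q19775 (flp_a L724194) q20781, trivial⟩ (by decide +kernel)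

theorem ce_a_309 : ∀ r, r < 64 → sm ga (Qf (19776 + r)) = Qf (tab Gen.a (19776 + r)) :=
  edges_tab (sm ga) Qf (tab Gen.a) 19776 [(19776, 17826), (19777, 17827), (19778, 17828), (19779, 17829), (19780, 17836), (19781, 17837), (19782, 17847), (19783, 17872), (19784, 17873), (19785, 17874), (19786, 17875), (19787, 17876), (19788, 20942), (19789, 21094), (19790, 17881), (19791, 17882), (19792, 17885), (19793, 17804), (19794, 17805), (19795, 20934), (19796, 21538), (19797, 21539), (19798, 17893), (19799, 17894), (19800, 17897), (19801, 17902), (19802, 17811), (19803, 21546), (19804, 17814), (19805, 20935), (19806, 17941), (19807, 17942), (19808, 17825), (19809, 21549), (19810, 21550), (19811, 21100), (19812, 21525), (19813, 21526), (19814, 21527), (19815, 20988), (19816, 21074), (19817, 21505), (19818, 21506), (19819, 21524), (19820, 20946), (19821, 21095), (19822, 20977), (19823, 21077), (19824, 20998), (19825, 21528), (19826, 17839), (19827, 17840), (19828, 20993), (19829, 21291), (19830, 21569), (19831, 21570), (19832, 21101),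 (19833, 21099), (19834, 21083), (19835, 20116), (19836, 21084), (19837, 21020), (19838, 20114), (19839, 20119)]
    ⟨e3 q19776 L712779 q17826, e3 q19777 L712785 q17827, e3 q19778 L712795 q17828, e3 q19779 L712803 q17829, e3 q19780 L712809 q17836, e3 q19781 L712817 q17837, e3 q19782 L712827 q17847, e3 q19783 L712835 q17872, e3 q19784 L712843 q17873, e3 q19785 L712854 q17874, e3 q19786 L712859 q17875, e3 q19787 L712867 q17876, e3 q19788 (flp_a L725930) q20942, e3 q19789 (flp_a L727395) q21094, e3 q19790 L712890 q17881, e3 q19791 L712900 q17882, e3 q19792 L712910 q17885, e3 q19793 L712918 q17804, e3 q19794 L712924 q17805, e3 q19795 (flp_a L725844) q20934, e3 q19796 (flp_a L731297) q21538, e3 q19797 (flp_a L731305) q21539, e3 q19798 L712952 q17893, e3 q19799 L712958 q17894, e3 q19800 L712966 q17897, e3 q19801 L712974 q17902, e3 q19802 L712978 q17811, e3 q19803 (flp_a L731347) q21546, e3 q19804 L712996 q17814, e3 q19805 (flp_a L725856) q20935, e3 q19806 L713012 q17941, e3 q19807 L713020 q17942, e3 q19808 (flp_a L713024) q17825,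 e3 q19809 (flp_a L731372) q21549, e3 q19810 (flp_a L731380) q21550, e3 q19811 (flp_a L727468) q21100, e3 q19812 (flp_a L731193) q21525, e3 q19813 (flp_a L731201) q21526, e3 q19814 (flp_a L731209) q21527, e3 q19815 (flp_a L726420) q20988, e3 q19816 (flp_a L727165) q21074, e3 q19817 (flp_a L731042) q21505, e3 q19818 (flp_a L731053) q21506, e3 q19819 (flp_a L731182) q21524, e3 q19820 (flp_a L725972) q20946, e3 q19821 (flp_a L727409) q21095, e3 q19822 (flp_a L726309) q20977, e3 q19823 (flp_a L727198) q21077, e3 q19824 (flp_a L726515) q20998, e3 q19825 (flp_a L731215) q21528, e3 q19826 L713155 q17839, e3 q19827 L713161 q17840, e3 q19828 (flp_a L726469) q20993, e3 q19829 (flp_a L729445) q21291, e3 q19830 (flp_a L731521) q21569, e3 q19831 (flp_a L731527) q21570, e3 q19832 (flp_a L727480) q21101, e3 q19833 (flp_a L727456) q21099, e3 q19834 (flp_a L727258) q21083, e3 q19835 (flp_a L716222) q20116, e3 q19836 (flp_a L727270) q21084, e3 q19837 (flp_a L726689) q21020, e3 q19838 (flp_a L716200) q20114, e3 q19839 (flp_a L716263) q20119,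 trivial⟩ (by decide +kernel)

theorem ce_a_310 : ∀ r, r < 64 → sm ga (Qf (19840 + r)) = Qf (tab Gen.a (19840 + r)) :=
  edges_tab (sm ga) Qf (tab Gen.a) 19840 [(19840, 21149), (19841, 21529), (19842, 17850), (19843, 21329), (19844, 21589), (19845, 21033), (19846, 17857), (19847, 21320), (19848, 21330), (19849, 20113), (19850, 20117), (19851, 21047), (19852, 21046), (19853, 20115), (19854, 20120), (19855, 20283), (19856, 20121), (19857, 20125), (19858, 20128), (19859, 20124), (19860, 21295), (19861, 21530), (19862, 21531), (19863, 21123), (19864, 21532), (19865, 21533), (19866, 20945), (19867, 20947), (19868, 21096), (19869, 20308), (19870, 20306), (19871, 21536), (19872, 20938), (19873, 20130), (19874, 21124), (19875, 21150), (19876, 21537), (19877, 17889), (19878, 17890), (19879, 17891), (19880, 20936), (19881, 20937), (19882, 21249), (19883, 21616), (19884, 21617), (19885, 20328), (19886, 20139), (19887, 20255), (19888, 20294), (19889, 21542), (19890, 21543), (19891, 20132), (19892, 20141), (19893, 21155), (19894, 21544),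 (19895, 20950), (19896, 20135), (19897, 20144), (19898, 21157), (19899, 21545), (19900, 17905), (19901, 17906), (19902, 17907), (19903, 21639)]
    ⟨e3 q19840 (flp_a L728028) q21149, e3 q19841 (flp_a L731225) q21529, e3 q19842 L713262 q17850, e3 q19843 (flp_a L729765) q21329, e3 q19844 (flp_a L731653) q21589, e3 q19845 (flp_a L726803) q21033, e3 q19846 L713305 q17857, e3 q19847 (flp_a L729691) q21320, e3 q19848 (flp_a L729779) q21330, e3 q19849 (flp_a L716185) q20113, e3 q19850 (flp_a L716236) q20117, e3 q19851 (flp_a L726934) q21047, e3 q19852 (flp_a L726921) q21046, e3 q19853 (flp_a L716210) q20115, e3 q19854 (flp_a L716273) q20120, e3 q19855 (flp_a L718429) q20283, e3 q19856 (flp_a L716287) q20121, e3 q19857 (flp_a L716341) q20125, e3 q19858 (flp_a L716382) q20128, e3 q19859 (flp_a L716328) q20124, e3 q19860 (flp_a L729485) q21295, e3 q19861 (flp_a L731231) q21530, e3 q19862 (flp_a L731241) q21531, e3 q19863 (flp_a L727742) q21123, e3 q19864 (flp_a L731250) q21532, e3 q19865 (flp_a L731257) q21533, e3 q19866 (flp_a L725962)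 q20945, e3 q19867 (flp_a L725984) q20947, e3 q19868 (flp_a L727421) q21096, e3 q19869 (flp_a L718753) q20308, e3 q19870 (flp_a L718721) q20306, e3 q19871 (flp_a L731281) q21536, e3 q19872 (flp_a L725894) q20938, e3 q19873 (flp_a L716410) q20130, e3 q19874 (flp_a L727757) q21124, e3 q19875 (flp_a L728040) q21150, e3 q19876 (flp_a L731291) q21537, e3 q19877 L713546 q17889, e3 q19878 L713552 q17890, e3 q19879 L713558 q17891, e3 q19880 (flp_a L725868) q20936, e3 q19881 (flp_a L725882) q20937, e3 q19882 (flp_a L729056) q21249, e3 q19883 (flp_a L731865) q21616, e3 q19884 (flp_a L731873) q21617, e3 q19885 (flp_a L718987) q20328, e3 q19886 (flp_a L716535) q20139, e3 q19887 (flp_a L718089) q20255, e3 q19888 (flp_a L718567) q20294, e3 q19889 (flp_a L731327) q21542, e3 q19890 (flp_a L731333) q21543, e3 q19891 (flp_a L716441) q20132, e3 q19892 (flp_a L716561) q20141, e3 q19893 (flp_a L728098) q21155, e3 q19894 (flp_a L731339) q21544, e3 q19895 (flp_a L726020) q20950, e3 q19896 (flp_a L716481) q20135, e3 q19897 (flp_a L716593) q20144,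 e3 q19898 (flp_a L728118) q21157, e3 q19899 (flp_a L731343) q21545, e3 q19900 L713688 q17905, e3 q19901 L713696 q17906, e3 q19902 L713707 q17907, e3 q19903 (flp_a L732005) q21639, trivial⟩ (by decide +kernel)

theorem ce_a_311 : ∀ r, r < 64 → sm ga (Qf (19904 + r)) = Qf (tab Gen.a (19904 + r)) :=
  edges_tab (sm ga) Qf (tab Gen.a) 19904 [(19904, 21640), (19905, 20364), (19906, 21160), (19907, 20958), (19908, 20131), (19909, 21142), (19910, 17918), (19911, 17919), (19912, 21263), (19913, 21647), (19914, 20329), (19915, 20133), (19916, 20142), (19917, 21156), (19918, 20966), (19919, 20965), (19920, 20136), (19921, 18070), (19922, 21264), (19923, 20338), (19924, 20159), (19925, 20147), (19926, 20154), (19927, 21548), (19928, 20949), (19929, 20957), (19930, 17960), (19931, 18030), (19932, 18051), (19933, 20168), (19934, 20169), (19935, 20170), (19936, 20178), (19937, 17957), (19938, 21179), (19939, 21213), (19940, 21664), (19941, 21098), (19942, 21082), (19943, 20750), (19944, 21659), (19945, 20978), (19946, 20735), (19947, 21075),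 (19948, 21097), (19949, 21081), (19950, 20956), (19951, 18002), (19952, 20818), (19953, 20826), (19954, 20273), (19955, 20321), (19956, 20543), (19957, 21374), (19958, 18007), (19959, 18008), (19960, 20008), (19961, 18015), (19962, 18018), (19963, 18041), (19964, 18032), (19965, 18058), (19966, 20955), (19967, 18066)]
    ⟨e3 q19904 (flp_a L732015) q21640, e3 q19905 (flp_a L719424) q20364, e3 q19906 (flp_a L728154) q21160, e3 q19907 (flp_a L726102) q20958, e3 q19908 (flp_a L716426) q20131, e3 q19909 (flp_a L727936) q21142, e3 q19910 L713773 q17918, e3 q19911 L713781 q17919, e3 q19912 (flp_a L729186) q21263, e3 q19913 (flp_a L732077) q21647, e3 q19914 (flp_a L718999) q20329, e3 q19915 (flp_a L716455) q20133, e3 q19916 (flp_a L716571) q20142, e3 q19917 (flp_a L728108) q21156, e3 q19918 (flp_a L726189) q20966, e3 q19919 (flp_a L726179) q20965, e3 q19920 (flp_a L716491) q20136, e3 q19921 L713855 q18070, e3 q19922 (flp_a L729202) q21264, e3 q19923 (flp_a L719110) q20338, e3 q19924 (flp_a L716779) q20159, e3 q19925 (flp_a L716630)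 q20147, e3 q19926 (flp_a L716718) q20154, e3 q19927 (flp_a L731364) q21548, e3 q19928 (flp_a L726010) q20949, e3 q19929 (flp_a L726090) q20957, e3 q19930 L713923 q17960, e3 q19931 L713932 q18030, e3 q19932 L713945 q18051, e3 q19933 (flp_a L716892) q20168, e3 q19934 (flp_a L716905) q20169, e3 q19935 (flp_a L716920) q20170, e3 q19936 (flp_a L717024) q20178, e3 q19937 L713992 q17957, e3 q19938 (flp_a L728359) q21179, e3 q19939 (flp_a L728685) q21213, e3 q19940 (flp_a L732222) q21664, e3 q19941 (flp_a L727444) q21098, e3 q19942 (flp_a L727245) q21082, e3 q19943 (flp_a L723831) q20750, e3 q19944 (flp_a L732168) q21659, e3 q19945 (flp_a L726321) q20978, e3 q19946 (flp_a L723666) q20735, e3 q19947 (flp_a L727180) q21075, e3 q19948 (flp_a L727433) q21097, e3 q19949 (flp_a L727234) q21081, e3 q19950 (flp_a L726075) q20956, e3 q19951 L714083 q18002, e3 q19952 (flp_a L724623) q20818, e3 q19953 (flp_a L724701) q20826, e3 q19954 (flp_a L718298) q20273, e3 q19955 (flp_a L718890) q20321, e3 q19956 (flp_a L721675) q20543, e3 q19957 (flp_a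 L730127) q21374, e3 q19958 L714123 q18007, e3 q19959 L714136 q18008, e3 q19960 (flp_a L714597) q20008, e3 q19961 L714152 q18015, e3 q19962 L714166 q18018, e3 q19963 L714180 q18041, e3 q19964 L714191 q18032, e3 q19965 L714202 q18058, e3 q19966 (flp_a L726062) q20955, e3 q19967 L714215 q18066, trivial⟩ (by decide +kernel)

theorem ce_a_312 : ∀ r, r < 64 → sm ga (Qf (19968 + r)) = Qf (tab Gen.a (19968 + r)) :=
  edges_tab (sm ga) Qf (tab Gen.a) 19968 [(19968, 18046), (19969, 18031), (19970, 21660), (19971, 21679), (19972, 21168), (19973, 20171), (19974, 20172), (19975, 20256), (19976, 20295), (19977, 20270), (19978, 20317), (19979, 20173), (19980, 20355), (19981, 20175), (19982, 20369), (19983, 21678), (19984, 20167), (19985, 18076), (19986, 20365), (19987, 18052), (19988, 21661), (19989, 20371), (19990, 20177), (19991, 20174), (19992, 21165), (19993, 21169), (19994, 18062), (19995, 20372), (19996, 18071), (19997, 21655), (19998, 21699), (19999, 18077), (20000, 21690), (20001, 18095), (20002, 18708), (20003, 18486), (20004,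 18488), (20005, 18106), (20006, 18101), (20007, 18103), (20008, 19960), (20009, 19326), (20010, 18572), (20011, 19266), (20012, 18586), (20013, 19569), (20014, 18583), (20015, 19568), (20016, 18587), (20017, 18590), (20018, 18537), (20019, 19267), (20020, 19271), (20021, 18524), (20022, 19561), (20023, 19564), (20024, 19571), (20025, 18594), (20026, 19292), (20027, 19293), (20028, 18820), (20029, 18826), (20030, 19315), (20031, 18827)]
    ⟨e3 q19968 L714222 q18046, e3 q19969 L714233 q18031, e3 q19970 (flp_a L732175) q21660, e3 q19971 (flp_a L732321) q21679, e3 q19972 (flp_a L728238) q21168, e3 q19973 (flp_a L716935) q20171, e3 q19974 (flp_a L716947) q20172, e3 q19975 (flp_a L718101) q20256, e3 q19976 (flp_a L718581) q20295, e3 q19977 (flp_a L718258) q20270, e3 q19978 (flp_a L718841) q20317, e3 q19979 (flp_a L716960) q20173, e3 q19980 (flp_a L719304) q20355, e3 q19981 (flp_a L716985) q20175, e3 q19982 (flp_a L719476) q20369, e3 q19983 (flp_a L732309) q21678, e3 q19984 (flp_a L716875) q20167, e3 q19985 L714371 q18076, e3 q19986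 (flp_a L719436) q20365, e3 q19987 L714383 q18052, e3 q19988 (flp_a L732189) q21661, e3 q19989 (flp_a L719499) q20371, e3 q19990 (flp_a L717012) q20177, e3 q19991 (flp_a L716974) q20174, e3 q19992 (flp_a L728207) q21165, e3 q19993 (flp_a L728250) q21169, e3 q19994 L714431 q18062, e3 q19995 (flp_a L719506) q20372, e3 q19996 L714451 q18071, e3 q19997 (flp_a L732133) q21655, e3 q19998 (flp_a L732465) q21699, e3 q19999 L714468 q18077, e3 q20000 (flp_a L732408) q21690, e3 q20001 L714480 q18095, e3 q20002 L714498 q18708, e3 q20003 L714515 q18486, e3 q20004 L714531 q18488, e3 q20005 L714546 q18106, e3 q20006 L714563 q18101, e3 q20007 L714580 q18103, e3 q20008 L714597 q19960, e3 q20009 L714614 q19326, e3 q20010 L714631 q18572, e3 q20011 L714648 q19266, e3 q20012 L714666 q18586, e3 q20013 L714684 q19569, e3 q20014 L714702 q18583, e3 q20015 L714719 q19568, e3 q20016 L714737 q18587, e3 q20017 L714749 q18590, e3 q20018 L714764 q18537, e3 q20019 L714784 q19267, e3 q20020 L714804 q19271, e3 q20021 L714822 q18524, e3 q20022 L714840 q19561,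 e3 q20023 L714856 q19564, e3 q20024 L714868 q19571, e3 q20025 L714885 q18594, e3 q20026 L714898 q19292, e3 q20027 L714914 q19293, e3 q20028 L714930 q18820, e3 q20029 L714945 q18826, e3 q20030 L714960 q19315, e3 q20031 L714976 q18827, trivial⟩ (by decide +kernel)

theorem ce_a_313 : ∀ r, r < 64 → sm ga (Qf (20032 + r)) = Qf (tab Gen.a (20032 + r)) :=
  edges_tab (sm ga) Qf (tab Gen.a) 20032 [(20032, 19678), (20033, 19692), (20034, 19674), (20035, 19688), (20036, 18843), (20037, 19679), (20038, 19693), (20039, 18859), (20040, 18870), (20041, 19690), (20042, 18148), (20043, 18653), (20044, 21729), (20045, 18855), (20046, 18866), (20047, 19700), (20048, 18860), (20049, 18871), (20050, 18156), (20051, 18658), (20052, 21737), (20053, 18867), (20054, 18872), (20055, 18876), (20056, 18877), (20057, 18880), (20058, 18881), (20059, 18167), (20060, 18169), (20061, 18719), (20062, 18720), (20063, 18724), (20064, 18688), (20065, 18694), (20066, 18204), (20067, 18205), (20068, 18216), (20069, 18217), (20070, 18218), (20071, 19294), (20072,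 19295), (20073, 19301), (20074, 19302), (20075, 19303), (20076, 19308), (20077, 19312), (20078, 19313), (20079, 19314), (20080, 19319), (20081, 19320), (20082, 19321), (20083, 19675), (20084, 19689), (20085, 19288), (20086, 19289), (20087, 19656), (20088, 19663), (20089, 21745), (20090, 18668), (20091, 19657), (20092, 19664), (20093, 19683), (20094, 19290), (20095, 19291)]
    ⟨e3 q20032 L714990 q19678, e3 q20033 L715006 q19692, e3 q20034 L715022 q19674, e3 q20035 L715038 q19688, e3 q20036 L715054 q18843, e3 q20037 L715066 q19679, e3 q20038 L715078 q19693, e3 q20039 L715090 q18859, e3 q20040 L715106 q18870, e3 q20041 L715122 q19690, e3 q20042 (flp_a L715136) q18148, e3 q20043 L715156 q18653, e3 q20044 (flp_a L732942) q21729, e3 q20045 L715185 q18855, e3 q20046 L715198 q18866, e3 q20047 L715211 q19700, e3 q20048 L715225 q18860, e3 q20049 L715237 q18871, e3 q20050 L715247 q18156, e3 q20051 L715263 q18658, e3 q20052 (flp_a L733061) q21737, e3 q20053 L715292 q18867, e3 q20054 L715306 q18872, e3 q20055 L715318 q18876, e3 q20056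 L715335 q18877, e3 q20057 L715351 q18880, e3 q20058 L715364 q18881, e3 q20059 L715376 q18167, e3 q20060 L715393 q18169, e3 q20061 L715412 q18719, e3 q20062 L715430 q18720, e3 q20063 L715446 q18724, e3 q20064 L715464 q18688, e3 q20065 L715482 q18694, e3 q20066 L715499 q18204, e3 q20067 L715515 q18205, e3 q20068 L715531 q18216, e3 q20069 L715549 q18217, e3 q20070 L715567 q18218, e3 q20071 L715585 q19294, e3 q20072 L715603 q19295, e3 q20073 L715619 q19301, e3 q20074 L715637 q19302, e3 q20075 L715651 q19303, e3 q20076 L715665 q19308, e3 q20077 L715683 q19312, e3 q20078 L715698 q19313, e3 q20079 L715711 q19314, e3 q20080 L715727 q19319, e3 q20081 L715740 q19320, e3 q20082 L715756 q19321, e3 q20083 L715767 q19675, e3 q20084 L715783 q19689, e3 q20085 L715795 q19288, e3 q20086 L715813 q19289, e3 q20087 L715831 q19656, e3 q20088 L715847 q19663, e3 q20089 (flp_a L733196) q21745, e3 q20090 L715871 q18668, e3 q20091 L715885 q19657, e3 q20092 L715899 q19664, e3 q20093 L715911 q19683, e3 q20094 L715923 q19290, e3 q20095 L715939 q19291,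 trivial⟩ (by decide +kernel)

theorem ce_a_314 : ∀ r, r < 64 → sm ga (Qf (20096 + r)) = Qf (tab Gen.a (20096 + r)) :=
  edges_tab (sm ga) Qf (tab Gen.a) 20096 [(20096, 18675), (20097, 21746), (20098, 19698), (20099, 18865), (20100, 18698), (20101, 19703), (20102, 19705), (20103, 18899), (20104, 19716), (20105, 18794), (20106, 18371), (20107, 18372), (20108, 19434), (20109, 19435), (20110, 19436), (20111, 18366), (20112, 18367), (20113, 19849), (20114, 19838), (20115, 19853), (20116, 19835), (20117, 19850), (20118, 19101), (20119, 19839), (20120, 19854), (20121, 19856), (20122, 19115), (20123, 19123), (20124, 19859), (20125, 19857), (20126, 19116), (20127, 19124), (20128, 19858), (20129, 19125), (20130, 19873), (20131, 19908), (20132, 19891), (20133, 19915), (20134, 19156), (20135, 19896), (20136, 19920), (20137, 19445), (20138, 19456), (20139, 19886), (20140, 19152), (20141, 19892), (20142, 19916), (20143, 19157), (20144, 19897), (20145, 19177), (20146, 19190), (20147, 19925), (20148, 19168), (20149, 19182), (20150, 19195),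 (20151, 19457), (20152, 19178), (20153, 19191), (20154, 19926), (20155, 19183), (20156, 19196), (20157, 18981), (20158, 19192), (20159, 19924)]
    ⟨e3 q20096 L715957 q18675, e3 q20097 (flp_a L733212) q21746, e3 q20098 L715979 q19698, e3 q20099 L715991 q18865, e3 q20100 L716003 q18698, e3 q20101 L716021 q19703, e3 q20102 L716038 q19705, e3 q20103 L716049 q18899, e3 q20104 L716060 q19716, e3 q20105 L716082 q18794, e3 q20106 L716088 q18371, e3 q20107 L716103 q18372, e3 q20108 L716119 q19434, e3 q20109 L716131 q19435, e3 q20110 L716143 q19436, e3 q20111 L716154 q18366, e3 q20112 L716169 q18367, e3 q20113 L716185 q19849, e3 q20114 L716200 q19838, e3 q20115 L716210 q19853, e3 q20116 L716222 q19835, e3 q20117 L716236 q19850, e3 q20118 L716249 q19101, e3 q20119 L716263 q19839, e3 q20120 L716273 q19854, e3 q20121 L716287 q19856, e3 q20122 L716301 q19115, e3 q20123 L716314 q19123, e3 q20124 L716328 q19859, e3 q20125 L716341 q19857, e3 q20126 L716355 q19116, e3 q20127 L716368 q19124, e3 q20128 L716382 q19858, e3 q20129 L716396 q19125,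 e3 q20130 L716410 q19873, e3 q20131 L716426 q19908, e3 q20132 L716441 q19891, e3 q20133 L716455 q19915, e3 q20134 L716471 q19156, e3 q20135 L716481 q19896, e3 q20136 L716491 q19920, e3 q20137 L716503 q19445, e3 q20138 L716519 q19456, e3 q20139 L716535 q19886, e3 q20140 L716547 q19152, e3 q20141 L716561 q19892, e3 q20142 L716571 q19916, e3 q20143 L716581 q19157, e3 q20144 L716593 q19897, e3 q20145 L716603 q19177, e3 q20146 L716616 q19190, e3 q20147 L716630 q19925, e3 q20148 L716641 q19168, e3 q20149 L716652 q19182, e3 q20150 L716664 q19195, e3 q20151 L716675 q19457, e3 q20152 L716691 q19178, e3 q20153 L716704 q19191, e3 q20154 L716718 q19926, e3 q20155 L716728 q19183, e3 q20156 L716738 q19196, e3 q20157 L716750 q18981, e3 q20158 L716767 q19192, e3 q20159 L716779 q19924, trivial⟩ (by decide +kernel)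

theorem ce_a_315 : ∀ r, r < 64 → sm ga (Qf (20160 + r)) = Qf (tab Gen.a (20160 + r)) :=
  edges_tab (sm ga) Qf (tab Gen.a) 20160 [(20160, 19197), (20161, 19199), (20162, 19203), (20163, 19208), (20164, 19204), (20165, 19209), (20166, 19428), (20167, 19984), (20168, 19933), (20169, 19934), (20170, 19935), (20171, 19973), (20172, 19974), (20173, 19979), (20174, 19991), (20175, 19981), (20176, 18988), (20177, 19990), (20178, 19936), (20179, 18905), (20180, 18993), (20181, 18994), (20182, 18995), (20183, 18996), (20184, 18997), (20185, 18998), (20186, 18999), (20187, 19000), (20188, 19001), (20189, 19002), (20190, 19003), (20191, 19004), (20192, 19005), (20193, 18965), (20194, 19006), (20195, 19007), (20196, 19008), (20197, 19009), (20198, 19010), (20199, 18975), (20200, 18979), (20201, 19011), (20202, 18980), (20203, 18986), (20204, 18990), (20205, 18369), (20206, 18370), (20207, 18374), (20208, 18375), (20209, 18377), (20210, 18378), (20211, 18379), (20212, 18380), (20213, 18381), (20214, 18386), (20215, 18390), (20216, 18392),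 (20217, 18393), (20218, 18396), (20219, 18400), (20220, 18401), (20221, 18402), (20222, 18407), (20223, 18408)]
    ⟨e3 q20160 L716790 q19197, e3 q20161 L716801 q19199, e3 q20162 L716815 q19203, e3 q20163 L716829 q19208, e3 q20164 L716841 q19204, e3 q20165 L716852 q19209, e3 q20166 L716869 q19428, e3 q20167 L716875 q19984, e3 q20168 L716892 q19933, e3 q20169 L716905 q19934, e3 q20170 L716920 q19935, e3 q20171 L716935 q19973, e3 q20172 L716947 q19974, e3 q20173 L716960 q19979, e3 q20174 L716974 q19991, e3 q20175 L716985 q19981, e3 q20176 L716997 q18988, e3 q20177 L717012 q19990, e3 q20178 L717024 q19936, e3 q20179 L717040 q18905, e3 q20180 L717059 q18993, e3 q20181 L717075 q18994, e3 q20182 L717093 q18995, e3 q20183 L717109 q18996, e3 q20184 L717123 q18997, e3 q20185 L717138 q18998, e3 q20186 L717154 q18999, e3 q20187 L717167 q19000, e3 q20188 L717183 q19001, e3 q20189 L717196 q19002, e3 q20190 L717208 q19003, e3 q20191 L717220 q19004, e3 q20192 L717234 q19005, e3 q20193 L717247 q18965, e3 q20194 L717265 q19006, e3 q20195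 L717275 q19007, e3 q20196 L717287 q19008, e3 q20197 L717301 q19009, e3 q20198 L717314 q19010, e3 q20199 L717328 q18975, e3 q20200 L717344 q18979, e3 q20201 L717360 q19011, e3 q20202 L717376 q18980, e3 q20203 L717393 q18986, e3 q20204 L717410 q18990, e3 q20205 L717425 q18369, e3 q20206 L717439 q18370, e3 q20207 L717452 q18374, e3 q20208 L717464 q18375, e3 q20209 L717476 q18377, e3 q20210 L717492 q18378, e3 q20211 L717507 q18379, e3 q20212 L717523 q18380, e3 q20213 L717531 q18381, e3 q20214 L717543 q18386, e3 q20215 L717558 q18390, e3 q20216 L717574 q18392, e3 q20217 L717589 q18393, e3 q20218 L717605 q18396, e3 q20219 L717621 q18400, e3 q20220 L717637 q18401, e3 q20221 L717649 q18402, e3 q20222 L717662 q18407, e3 q20223 L717676 q18408, trivial⟩ (by decide +kernel)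

theorem ce_a_316 : ∀ r, r < 64 → sm ga (Qf (20224 + r)) = Qf (tab Gen.a (20224 + r)) :=
  edges_tab (sm ga) Qf (tab Gen.a) 20224 [(20224, 18414), (20225, 18415), (20226, 18416), (20227, 18417), (20228, 18418), (20229, 18432), (20230, 18433), (20231, 18434), (20232, 18435), (20233, 18436), (20234, 18444), (20235, 18445), (20236, 18446), (20237, 18452), (20238, 18453), (20239, 18454), (20240, 18456), (20241, 18457), (20242, 18471), (20243, 19529), (20244, 21782), (20245, 21783), (20246, 21915), (20247, 19485), (20248, 19538), (20249, 21876), (20250, 21877), (20251, 21878), (20252, 21774), (20253, 21775), (20254, 19161), (20255, 19887), (20256, 19975), (20257, 19672), (20258, 21879), (20259, 21880), (20260, 19146), (20261, 19174), (20262, 21881), (20263, 19038), (20264, 21882), (20265, 21883), (20266, 19752), (20267, 21884), (20268, 21885), (20269, 19162), (20270, 19977), (20271, 18892), (20272, 19710), (20273, 19954), (20274, 19175), (20275, 19039), (20276, 19052), (20277, 21886), (20278, 19761), (20279, 19768), (20280, 21887),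 (20281, 21888), (20282, 19189), (20283, 19855), (20284, 19762), (20285, 19769), (20286, 19772), (20287, 19462)]
    ⟨e3 q20224 L717688 q18414, e3 q20225 L717706 q18415, e3 q20226 L717720 q18416, e3 q20227 L717736 q18417, e3 q20228 L717750 q18418, e3 q20229 L717758 q18432, e3 q20230 L717774 q18433, e3 q20231 L717790 q18434, e3 q20232 L717804 q18435, e3 q20233 L717814 q18436, e3 q20234 L717828 q18444, e3 q20235 L717843 q18445, e3 q20236 L717857 q18446, e3 q20237 L717874 q18452, e3 q20238 L717890 q18453, e3 q20239 L717905 q18454, e3 q20240 L717916 q18456, e3 q20241 L717930 q18457, e3 q20242 L717943 q18471, e3 q20243 L717958 q19529, e3 q20244 (flp_a L733742) q21782, e3 q20245 (flp_a L733760) q21783, e3 q20246 L735604 q21915, e3 q20247 L718003 q19485, e3 q20248 L718013 q19538, e3 q20249 (flp_a L735050) q21876, e3 q20250 (flp_a L735067) q21877, e3 q20251 (flp_a L735081) q21878, e3 q20252 (flp_a L733635) q21774, e3 q20253 (flp_a L733651) q21775, e3 q20254 L718083 q19161, e3 q20255 L718089 q19887, e3 q20256 L718101 q19975, e3 q20257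 L718112 q19672, e3 q20258 (flp_a L735096) q21879, e3 q20259 (flp_a L735108) q21880, e3 q20260 L718144 q19146, e3 q20261 L718158 q19174, e3 q20262 (flp_a L735122) q21881, e3 q20263 L718176 q19038, e3 q20264 (flp_a L735139) q21882, e3 q20265 (flp_a L735155) q21883, e3 q20266 L718210 q19752, e3 q20267 (flp_a L735171) q21884, e3 q20268 (flp_a L735187) q21885, e3 q20269 L718244 q19162, e3 q20270 L718258 q19977, e3 q20271 L718271 q18892, e3 q20272 L718285 q19710, e3 q20273 L718298 q19954, e3 q20274 L718313 q19175, e3 q20275 L718327 q19039, e3 q20276 L718343 q19052, e3 q20277 (flp_a L735197) q21886, e3 q20278 L718368 q19761, e3 q20279 L718383 q19768, e3 q20280 (flp_a L735214) q21887, e3 q20281 (flp_a L735230) q21888, e3 q20282 L718413 q19189, e3 q20283 L718429 q19855, e3 q20284 L718443 q19762, e3 q20285 L718457 q19769, e3 q20286 L718471 q19772, e3 q20287 L718487 q19462, trivial⟩ (by decide +kernel)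

theorem ce_a_317 : ∀ r, r < 64 → sm ga (Qf (20288 + r)) = Qf (tab Gen.a (20288 + r)) :=
  edges_tab (sm ga) Qf (tab Gen.a) 20288 [(20288, 21889), (20289, 21890), (20290, 21891), (20291, 18403), (20292, 21965), (20293, 21966), (20294, 19888), (20295, 19976), (20296, 18839), (20297, 19673), (20298, 21892), (20299, 18410), (20300, 18411), (20301, 21975), (20302, 19095), (20303, 21976), (20304, 21977), (20305, 19430), (20306, 19870), (20307, 19257), (20308, 19869), (20309, 21893), (20310, 21894), (20311, 21895), (20312, 21896), (20313, 21897), (20314, 21898), (20315, 18420), (20316, 21994), (20317, 19978), (20318, 18883), (20319, 18893), (20320, 19711), (20321, 19955), (20322, 18428), (20323, 19096), (20324, 19111), (20325, 22001), (20326, 19212), (20327, 19223), (20328, 19885), (20329, 19914), (20330, 21899), (20331, 21900), (20332, 21901), (20333, 19510), (20334, 18439), (20335, 19350), (20336, 19230), (20337, 19176), (20338, 19923), (20339, 21902), (20340, 21903), (20341, 19404), (20342, 18884), (20343, 18894), (20344, 19712),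 (20345, 19543), (20346, 21904), (20347, 21905), (20348, 19537), (20349, 21906), (20350, 19426), (20351, 21907)]
    ⟨e3 q20288 (flp_a L735247) q21889, e3 q20289 (flp_a L735260) q21890, e3 q20290 (flp_a L735274) q21891, e3 q20291 (flp_a L718525) q18403, e3 q20292 (flp_a L736238) q21965, e3 q20293 (flp_a L736256) q21966, e3 q20294 L718567 q19888, e3 q20295 L718581 q19976, e3 q20296 L718591 q18839, e3 q20297 L718603 q19673, e3 q20298 (flp_a L735287) q21892, e3 q20299 L718627 q18410, e3 q20300 L718641 q18411, e3 q20301 (flp_a L736368) q21975, e3 q20302 L718669 q19095, e3 q20303 (flp_a L736386) q21976, e3 q20304 (flp_a L736400) q21977, e3 q20305 L718707 q19430, e3 q20306 L718721 q19870, e3 q20307 L718737 q19257, e3 q20308 L718753 q19869, e3 q20309 (flp_a L735299) q21893, e3 q20310 (flp_a L735315) q21894, e3 q20311 (flp_a L735331) q21895, e3 q20312 (flp_a L735349) q21896, e3 q20313 (flp_a L735365) q21897, e3 q20314 (flp_a L735377) q21898, e3 q20315 L718815 q18420, e3 q20316 (flp_a L736600) q21994, e3 q20317 L718841 q19978, e3 q20318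 L718850 q18883, e3 q20319 L718865 q18893, e3 q20320 L718878 q19711, e3 q20321 L718890 q19955, e3 q20322 L718901 q18428, e3 q20323 L718915 q19096, e3 q20324 L718931 q19111, e3 q20325 (flp_a L736684) q22001, e3 q20326 L718957 q19212, e3 q20327 L718973 q19223, e3 q20328 L718987 q19885, e3 q20329 L718999 q19914, e3 q20330 (flp_a L735385) q21899, e3 q20331 (flp_a L735401) q21900, e3 q20332 (flp_a L735415) q21901, e3 q20333 L719035 q19510, e3 q20334 L719045 q18439, e3 q20335 L719062 q19350, e3 q20336 L719079 q19230, e3 q20337 L719094 q19176, e3 q20338 L719110 q19923, e3 q20339 (flp_a L735427) q21902, e3 q20340 (flp_a L735442) q21903, e3 q20341 L719151 q19404, e3 q20342 L719157 q18884, e3 q20343 L719172 q18894, e3 q20344 L719186 q19712, e3 q20345 L719197 q19543, e3 q20346 (flp_a L735458) q21904, e3 q20347 (flp_a L735475) q21905, e3 q20348 L719227 q19537, e3 q20349 (flp_a L735488) q21906, e3 q20350 L719246 q19426, e3 q20351 (flp_a L735501) q21907, trivial⟩ (by decide +kernel)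

theorem ce_a_318 : ∀ r, r < 64 → sm ga (Qf (20352 + r)) = Qf (tab Gen.a (20352 + r)) :=
  edges_tab (sm ga) Qf (tab Gen.a) 20352 [(20352, 18476), (20353, 18461), (20354, 22026), (20355, 19980), (20356, 18465), (20357, 18466), (20358, 18467), (20359, 19511), (20360, 22029), (20361, 22030), (20362, 22021), (20363, 19431), (20364, 19905), (20365, 19986), (20366, 21908), (20367, 18473), (20368, 22025), (20369, 19982), (20370, 19358), (20371, 19989), (20372, 19995), (20373, 18481), (20374, 21702), (20375, 18485), (20376, 18564), (20377, 19272), (20378, 18515), (20379, 18517), (20380, 18519), (20381, 18520), (20382, 18521), (20383, 18523), (20384, 18525), (20385, 18527), (20386, 18529), (20387, 18531), (20388, 22044), (20389, 18574), (20390, 22045), (20391, 19268), (20392, 22046), (20393, 22047), (20394, 18685), (20395, 21709), (20396, 22048), (20397, 19563), (20398, 22049), (20399, 19572), (20400, 18592), (20401, 19574), (20402, 18589), (20403, 19269), (20404, 19566), (20405, 18567), (20406, 19559), (20407, 18565), (20408, 18566),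 (20409, 18568), (20410, 18577), (20411, 18570), (20412, 18571), (20413, 18573), (20414, 18575), (20415, 18576)]
    ⟨e3 q20352 L719262 q18476, e3 q20353 L719275 q18461, e3 q20354 (flp_a L736995) q22026, e3 q20355 L719304 q19980, e3 q20356 L719313 q18465, e3 q20357 L719329 q18466, e3 q20358 L719345 q18467, e3 q20359 L719358 q19511, e3 q20360 (flp_a L737030) q22029, e3 q20361 (flp_a L737046) q22030, e3 q20362 (flp_a L736941) q22021, e3 q20363 L719411 q19431, e3 q20364 L719424 q19905, e3 q20365 L719436 q19986, e3 q20366 (flp_a L735515) q21908, e3 q20367 L719454 q18473, e3 q20368 (flp_a L736981) q22025, e3 q20369 L719476 q19982, e3 q20370 L719486 q19358, e3 q20371 L719499 q19989, e3 q20372 L719506 q19995, e3 q20373 L719519 q18481, e3 q20374 (flp_a L732484) q21702, e3 q20375 L719548 q18485, e3 q20376 L719564 q18564, e3 q20377 L719582 q19272, e3 q20378 L719600 q18515, e3 q20379 L719618 q18517, e3 q20380 L719635 q18519, e3 q20381 L719652 q18520, e3 q20382 L719666 q18521, e3 q20383 L719684 q18523, e3 q20384 L719698 q18525, e3 q20385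 L719712 q18527, e3 q20386 L719728 q18529, e3 q20387 L719745 q18531, e3 q20388 (flp_a L737227) q22044, e3 q20389 L719776 q18574, e3 q20390 (flp_a L737247) q22045, e3 q20391 L719803 q19268, e3 q20392 (flp_a L737265) q22046, e3 q20393 (flp_a L737283) q22047, e3 q20394 L719846 q18685, e3 q20395 (flp_a L732609) q21709, e3 q20396 (flp_a L737303) q22048, e3 q20397 L719888 q19563, e3 q20398 (flp_a L737321) q22049, e3 q20399 L719910 q19572, e3 q20400 L719927 q18592, e3 q20401 L719944 q19574, e3 q20402 L719961 q18589, e3 q20403 L719976 q19269, e3 q20404 L719992 q19566, e3 q20405 L720004 q18567, e3 q20406 L720021 q19559, e3 q20407 L720033 q18565, e3 q20408 L720051 q18566, e3 q20409 L720068 q18568, e3 q20410 L720076 q18577, e3 q20411 L720093 q18570, e3 q20412 L720111 q18571, e3 q20413 L720123 q18573, e3 q20414 L720133 q18575, e3 q20415 L720141 q18576, trivial⟩ (by decide +kernel)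

theorem ce_a_319 : ∀ r, r < 64 → sm ga (Qf (20416 + r)) = Qf (tab Gen.a (20416 + r)) :=
  edges_tab (sm ga) Qf (tab Gen.a) 20416 [(20416, 18578), (20417, 18553), (20418, 18579), (20419, 22066), (20420, 18584), (20421, 18585), (20422, 18588), (20423, 18562), (20424, 18591), (20425, 21712), (20426, 18595), (20427, 22043), (20428, 22060), (20429, 22061), (20430, 22058), (20431, 19552), (20432, 22063), (20433, 22064), (20434, 21703), (20435, 22065), (20436, 22050), (20437, 22062), (20438, 22057), (20439, 22055), (20440, 18582), (20441, 19551), (20442, 21711), (20443, 21705), (20444, 22068), (20445, 22069), (20446, 21704), (20447, 21706), (20448, 22070), (20449, 21707), (20450, 22071), (20451, 18697), (20452, 18801), (20453, 18802), (20454, 19304), (20455, 19316), (20456, 19322), (20457, 19323), (20458, 18647), (20459, 18648), (20460, 18649), (20461, 18650), (20462, 18651), (20463, 18652), (20464, 18654), (20465, 18655), (20466, 18656), (20467, 18657), (20468, 18660), (20469, 18663), (20470, 18664), (20471, 18665), (20472, 18666),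 (20473, 18667), (20474, 18669), (20475, 18670), (20476, 18671), (20477, 18672), (20478, 18673), (20479, 18674)]
    ⟨e3 q20416 L720157 q18578, e3 q20417 L720167 q18553, e3 q20418 L720185 q18579, e3 q20419 (flp_a L737592) q22066, e3 q20420 L720205 q18584, e3 q20421 L720215 q18585, e3 q20422 L720225 q18588, e3 q20423 L720233 q18562, e3 q20424 L720248 q18591, e3 q20425 (flp_a L732676) q21712, e3 q20426 L720273 q18595, e3 q20427 (flp_a L737207) q22043, e3 q20428 (flp_a L737496) q22060, e3 q20429 (flp_a L737516) q22061, e3 q20430 (flp_a L737465) q22058, e3 q20431 L720341 q19552, e3 q20432 (flp_a L737552) q22063, e3 q20433 (flp_a L737572) q22064, e3 q20434 (flp_a L732502) q21703, e3 q20435 (flp_a L737583) q22065, e3 q20436 (flp_a L737339) q22050, e3 q20437 (flp_a L737534) q22062, e3 q20438 (flp_a L737447) q22057, e3 q20439 (flp_a L737413) q22055, e3 q20440 L720437 q18582, e3 q20441 L720453 q19551, e3 q20442 (flp_a L732649) q21711, e3 q20443 (flp_a L732540) q21705, e3 q20444 (flp_a L737622) q22068, e3 q20445 (flp_a L737633) q22069,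 e3 q20446 (flp_a L732520) q21704, e3 q20447 (flp_a L732560) q21706, e3 q20448 (flp_a L737645) q22070, e3 q20449 (flp_a L732576) q21707, e3 q20450 (flp_a L737659) q22071, e3 q20451 L720556 q18697, e3 q20452 L720574 q18801, e3 q20453 L720588 q18802, e3 q20454 L720605 q19304, e3 q20455 L720621 q19316, e3 q20456 L720633 q19322, e3 q20457 L720647 q19323, e3 q20458 L720657 q18647, e3 q20459 L720673 q18648, e3 q20460 L720690 q18649, e3 q20461 L720705 q18650, e3 q20462 L720717 q18651, e3 q20463 L720729 q18652, e3 q20464 L720743 q18654, e3 q20465 L720758 q18655, e3 q20466 L720773 q18656, e3 q20467 L720788 q18657, e3 q20468 L720798 q18660, e3 q20469 L720812 q18663, e3 q20470 L720826 q18664, e3 q20471 L720842 q18665, e3 q20472 L720860 q18666, e3 q20473 L720872 q18667, e3 q20474 L720884 q18669, e3 q20475 L720898 q18670, e3 q20476 L720912 q18671, e3 q20477 L720928 q18672, e3 q20478 L720938 q18673, e3 q20479 L720948 q18674, trivial⟩ (by decide +kernel)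

theorem ce_a_320 : ∀ r, r < 64 → sm ga (Qf (20480 + r)) = Qf (tab Gen.a (20480 + r)) :=
  edges_tab (sm ga) Qf (tab Gen.a) 20480 [(20480, 18676), (20481, 18678), (20482, 18679), (20483, 19701), (20484, 18686), (20485, 18689), (20486, 18691), (20487, 18692), (20488, 18701), (20489, 18704), (20490, 19618), (20491, 19748), (20492, 19766), (20493, 22093), (20494, 22094), (20495, 21730), (20496, 22095), (20497, 22096), (20498, 22097), (20499, 22098), (20500, 22099), (20501, 22100), (20502, 21731), (20503, 22101), (20504, 19309), (20505, 22102), (20506, 22103), (20507, 21738), (20508, 19696), (20509, 22104), (20510, 19310), (20511, 19318), (20512, 22105), (20513, 22106), (20514, 22107), (20515, 22108), (20516, 22109), (20517, 21758), (20518, 21762), (20519, 18956), (20520, 22110), (20521, 22111), (20522, 19661), (20523, 22112), (20524, 22113), (20525, 21767), (20526, 22114), (20527, 19662), (20528, 22115), (20529, 22116), (20530, 18682), (20531, 19697), (20532, 19699), (20533, 19307), (20534, 19653), (20535, 19640), (20536, 19682),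 (20537, 21744), (20538, 19615), (20539, 19704), (20540, 22117), (20541, 18897), (20542, 19714), (20543, 19956)]
    ⟨e3 q20480 L720962 q18676, e3 q20481 L720974 q18678, e3 q20482 L720990 q18679, e3 q20483 L721002 q19701, e3 q20484 L721018 q18686, e3 q20485 L721032 q18689, e3 q20486 L721044 q18691, e3 q20487 L721061 q18692, e3 q20488 L721076 q18701, e3 q20489 L721093 q18704, e3 q20490 L721108 q19618, e3 q20491 L721118 q19748, e3 q20492 L721130 q19766, e3 q20493 (flp_a L737937) q22093, e3 q20494 (flp_a L737955) q22094, e3 q20495 (flp_a L732960) q21730, e3 q20496 (flp_a L737971) q22095, e3 q20497 (flp_a L737987) q22096, e3 q20498 (flp_a L738002) q22097, e3 q20499 (flp_a L738020) q22098, e3 q20500 (flp_a L738032) q22099, e3 q20501 (flp_a L738046) q22100, e3 q20502 (flp_a L732977) q21731, e3 q20503 (flp_a L738062) q22101, e3 q20504 L721246 q19309, e3 q20505 (flp_a L738078) q22102, e3 q20506 (flp_a L738093) q22103, e3 q20507 (flp_a L733079) q21738, e3 q20508 L721284 q19696, e3 q20509 (flp_a L738109) q22104, e3 q20510 L721305 q19310,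 e3 q20511 L721320 q19318, e3 q20512 (flp_a L738124) q22105, e3 q20513 (flp_a L738139) q22106, e3 q20514 (flp_a L738157) q22107, e3 q20515 (flp_a L738173) q22108, e3 q20516 (flp_a L738187) q22109, e3 q20517 (flp_a L733407) q21758, e3 q20518 (flp_a L733463) q21762, e3 q20519 L721411 q18956, e3 q20520 (flp_a L738199) q22110, e3 q20521 (flp_a L738215) q22111, e3 q20522 L721443 q19661, e3 q20523 (flp_a L738227) q22112, e3 q20524 (flp_a L738245) q22113, e3 q20525 (flp_a L733535) q21767, e3 q20526 (flp_a L738253) q22114, e3 q20527 L721485 q19662, e3 q20528 (flp_a L738269) q22115, e3 q20529 (flp_a L738283) q22116, e3 q20530 L721511 q18682, e3 q20531 L721523 q19697, e3 q20532 L721533 q19699, e3 q20533 L721545 q19307, e3 q20534 L721561 q19653, e3 q20535 L721573 q19640, e3 q20536 L721585 q19682, e3 q20537 (flp_a L733176) q21744, e3 q20538 L721609 q19615, e3 q20539 L721623 q19704, e3 q20540 (flp_a L738299) q22117, e3 q20541 L721645 q18897, e3 q20542 L721660 q19714, e3 q20543 L721675 q19956, trivial⟩ (by decide +kernel)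

theorem ce_a_321 : ∀ r, r < 64 → sm ga (Qf (20544 + r)) = Qf (tab Gen.a (20544 + r)) :=
  edges_tab (sm ga) Qf (tab Gen.a) 20544 [(20544, 18969), (20545, 18983), (20546, 22118), (20547, 19717), (20548, 18875), (20549, 18709), (20550, 19298), (20551, 19299), (20552, 19311), (20553, 19669), (20554, 19685), (20555, 18813), (20556, 19645), (20557, 19646), (20558, 21742), (20559, 21743), (20560, 19686), (20561, 18814), (20562, 19651), (20563, 19629), (20564, 19654), (20565, 18796), (20566, 18797), (20567, 18798), (20568, 18799), (20569, 18800), (20570, 18803), (20571, 18804), (20572, 18805), (20573, 18846), (20574, 18807), (20575, 18808), (20576, 18809), (20577, 18810), (20578, 18811), (20579, 18812), (20580, 18815), (20581, 18847), (20582, 18817), (20583, 18818), (20584, 18819), (20585, 18821), (20586, 18822), (20587, 19614), (20588, 18824), (20589, 18825), (20590, 18828), (20591, 18829), (20592, 18830), (20593, 18831), (20594, 18832), (20595, 18833), (20596, 18834), (20597, 18835), (20598, 18752), (20599, 22215), (20600, 22218),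 (20601, 18840), (20602, 18841), (20603, 18842), (20604, 18844), (20605, 18845), (20606, 18848), (20607, 18849)]
    ⟨e3 q20544 L721690 q18969, e3 q20545 L721704 q18983, e3 q20546 (flp_a L738314) q22118, e3 q20547 L721728 q19717, e3 q20548 L721743 q18875, e3 q20549 L721758 q18709, e3 q20550 L721774 q19298, e3 q20551 L721788 q19299, e3 q20552 L721802 q19311, e3 q20553 L721814 q19669, e3 q20554 L721826 q19685, e3 q20555 L721847 q18813, e3 q20556 L721853 q19645, e3 q20557 L721863 q19646, e3 q20558 (flp_a L733140) q21742, e3 q20559 (flp_a L733158) q21743, e3 q20560 L721892 q19686, e3 q20561 L721904 q18814, e3 q20562 L721919 q19651, e3 q20563 L721929 q19629, e3 q20564 L721941 q19654, e3 q20565 L721950 q18796, e3 q20566 L721965 q18797, e3 q20567 L721981 q18798, e3 q20568 L721995 q18799, e3 q20569 L722007 q18800, e3 q20570 L722018 q18803, e3 q20571 L722031 q18804, e3 q20572 L722039 q18805, e3 q20573 L722058 q18846, e3 q20574 L722064 q18807, e3 q20575 L722074 q18808, e3 q20576 L722085 q18809, e3 q20577 L722093 q18810, e3 q20578 L722101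 q18811, e3 q20579 L722111 q18812, e3 q20580 L722126 q18815, e3 q20581 L722134 q18847, e3 q20582 L722149 q18817, e3 q20583 L722165 q18818, e3 q20584 L722181 q18819, e3 q20585 L722191 q18821, e3 q20586 L722198 q18822, e3 q20587 L722208 q19614, e3 q20588 L722222 q18824, e3 q20589 L722238 q18825, e3 q20590 L722247 q18828, e3 q20591 L722254 q18829, e3 q20592 L722264 q18830, e3 q20593 L722274 q18831, e3 q20594 L722282 q18832, e3 q20595 L722294 q18833, e3 q20596 L722306 q18834, e3 q20597 L722316 q18835, e3 q20598 (flp_a L722322) q18752, e3 q20599 (flp_a L739533) q22215, e3 q20600 (flp_a L739573) q22218, e3 q20601 L722358 q18840, e3 q20602 L722366 q18841, e3 q20603 L722376 q18842, e3 q20604 L722386 q18844, e3 q20605 L722396 q18845, e3 q20606 L722404 q18848, e3 q20607 L722414 q18849, trivial⟩ (by decide +kernel)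

theorem ce_a_322 : ∀ r, r < 64 → sm ga (Qf (20608 + r)) = Qf (tab Gen.a (20608 + r)) :=
  edges_tab (sm ga) Qf (tab Gen.a) 20608 [(20608, 18850), (20609, 18763), (20610, 22227), (20611, 18856), (20612, 18857), (20613, 18858), (20614, 18861), (20615, 18862), (20616, 18771), (20617, 19599), (20618, 21769), (20619, 18868), (20620, 18869), (20621, 18873), (20622, 18785), (20623, 18874), (20624, 18878), (20625, 18879), (20626, 19588), (20627, 18885), (20628, 18886), (20629, 22238), (20630, 18895), (20631, 18791), (20632, 21773), (20633, 18900), (20634, 18882), (20635, 19623), (20636, 19534), (20637, 22182), (20638, 22183), (20639, 21909), (20640, 22184), (20641, 22185), (20642, 22186), (20643, 22187), (20644, 22188), (20645, 22088), (20646, 22089), (20647, 22189), (20648, 22190), (20649, 22174), (20650, 22191), (20651, 22192), (20652, 19604), (20653, 19609), (20654, 22195), (20655, 22196), (20656, 22197), (20657, 22198), (20658, 21713), (20659, 22199), (20660, 22200), (20661, 22201), (20662, 22175), (20663, 22180), (20664, 19610),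 (20665, 22203), (20666, 22204), (20667, 22205), (20668, 21716), (20669, 22206), (20670, 22207), (20671, 19616)]
    ⟨e3 q20608 L722426 q18850, e3 q20609 L722438 q18763, e3 q20610 (flp_a L739663) q22227, e3 q20611 L722460 q18856, e3 q20612 L722469 q18857, e3 q20613 L722479 q18858, e3 q20614 L722487 q18861, e3 q20615 L722493 q18862, e3 q20616 L722501 q18771, e3 q20617 L722515 q19599, e3 q20618 (flp_a L733575) q21769, e3 q20619 L722533 q18868, e3 q20620 L722542 q18869, e3 q20621 L722550 q18873, e3 q20622 L722560 q18785, e3 q20623 L722575 q18874, e3 q20624 L722589 q18878, e3 q20625 L722596 q18879, e3 q20626 L722610 q19588, e3 q20627 L722627 q18885, e3 q20628 L722642 q18886, e3 q20629 (flp_a L739802) q22238, e3 q20630 L722669 q18895, e3 q20631 L722678 q18791, e3 q20632 (flp_a L733629) q21773, e3 q20633 L722700 q18900, e3 q20634 L722712 q18882, e3 q20635 L722724 q19623, e3 q20636 L722736 q19534, e3 q20637 (flp_a L739110) q22182, e3 q20638 (flp_a L739126) q22183, e3 q20639 (flp_a L735540) q21909, e3 q20640 (flp_a L739141) q22184,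 e3 q20641 (flp_a L739155) q22185, e3 q20642 (flp_a L739169) q22186, e3 q20643 (flp_a L739182) q22187, e3 q20644 (flp_a L739194) q22188, e3 q20645 (flp_a L737861) q22088, e3 q20646 (flp_a L737879) q22089, e3 q20647 (flp_a L739207) q22189, e3 q20648 (flp_a L739225) q22190, e3 q20649 (flp_a L739009) q22174, e3 q20650 (flp_a L739238) q22191, e3 q20651 (flp_a L739246) q22192, e3 q20652 L722896 q19604, e3 q20653 L722912 q19609, e3 q20654 (flp_a L739287) q22195, e3 q20655 (flp_a L739298) q22196, e3 q20656 (flp_a L739316) q22197, e3 q20657 (flp_a L739326) q22198, e3 q20658 (flp_a L732682) q21713, e3 q20659 (flp_a L739338) q22199, e3 q20660 (flp_a L739346) q22200, e3 q20661 (flp_a L739356) q22201, e3 q20662 (flp_a L739025) q22175, e3 q20663 (flp_a L739085) q22180, e3 q20664 L723019 q19610, e3 q20665 (flp_a L739388) q22203, e3 q20666 (flp_a L739404) q22204, e3 q20667 (flp_a L739422) q22205, e3 q20668 (flp_a L732734) q21716, e3 q20669 (flp_a L739431) q22206, e3 q20670 (flp_a L739439) q22207, e3 q20671 L723084 q19616, trivial⟩ (by decide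 +kernel)

theorem ce_a_323 : ∀ r, r < 64 → sm ga (Qf (20672 + r)) = Qf (tab Gen.a (20672 + r)) :=
  edges_tab (sm ga) Qf (tab Gen.a) 20672 [(20672, 19702), (20673, 22209), (20674, 21717), (20675, 21718), (20676, 22210), (20677, 22126), (20678, 22211), (20679, 22212), (20680, 21971), (20681, 22193), (20682, 22213), (20683, 22214), (20684, 22216), (20685, 22217), (20686, 18837), (20687, 18838), (20688, 22299), (20689, 19594), (20690, 22300), (20691, 22301), (20692, 21962), (20693, 21932), (20694, 21972), (20695, 21722), (20696, 22221), (20697, 22222), (20698, 22223), (20699, 21719), (20700, 21725), (20701, 22224), (20702, 22225), (20703, 22194), (20704, 22202), (20705, 22159), (20706, 22226), (20707, 22156), (20708, 18854), (20709, 19595), (20710, 19598), (20711, 21765), (20712, 21733), (20713, 22229), (20714, 22230), (20715, 22231), (20716, 21727), (20717, 21735), (20718, 22232), (20719, 22233), (20720, 19600), (20721, 21739), (20722, 21734), (20723, 19655), (20724, 22236), (20725, 22237), (20726, 22234), (20727, 21728), (20728,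 21736), (20729, 22169), (20730, 21740), (20731, 22239), (20732, 22240), (20733, 22243), (20734, 21741), (20735, 19946)]
    ⟨e3 q20672 L723097 q19702, e3 q20673 (flp_a L739463) q22209, e3 q20674 (flp_a L732749) q21717, e3 q20675 (flp_a L732765) q21718, e3 q20676 (flp_a L739478) q22210, e3 q20677 (flp_a L738411) q22126, e3 q20678 (flp_a L739493) q22211, e3 q20679 (flp_a L739505) q22212, e3 q20680 (flp_a L736318) q21971, e3 q20681 (flp_a L739256) q22193, e3 q20682 (flp_a L739513) q22213, e3 q20683 (flp_a L739523) q22214, e3 q20684 (flp_a L739551) q22216, e3 q20685 (flp_a L739565) q22217, e3 q20686 L723216 q18837, e3 q20687 L723230 q18838, e3 q20688 (flp_a L740445) q22299, e3 q20689 L723256 q19594, e3 q20690 (flp_a L740461) q22300, e3 q20691 (flp_a L740475) q22301, e3 q20692 (flp_a L736206) q21962, e3 q20693 (flp_a L735804) q21932, e3 q20694 (flp_a L736334) q21972, e3 q20695 (flp_a L732832) q21722, e3 q20696 (flp_a L739607) q22221, e3 q20697 (flp_a L739617) q22222, e3 q20698 (flp_a L739627) q22223, e3 q20699 (flp_a L732780)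 q21719, e3 q20700 (flp_a L732884) q21725, e3 q20701 (flp_a L739637) q22224, e3 q20702 (flp_a L739645) q22225, e3 q20703 (flp_a L739272) q22194, e3 q20704 (flp_a L739372) q22202, e3 q20705 (flp_a L738808) q22159, e3 q20706 (flp_a L739653) q22226, e3 q20707 (flp_a L738774) q22156, e3 q20708 L723432 q18854, e3 q20709 L723446 q19595, e3 q20710 L723459 q19598, e3 q20711 (flp_a L733503) q21765, e3 q20712 (flp_a L733008) q21733, e3 q20713 (flp_a L739689) q22229, e3 q20714 (flp_a L739697) q22230, e3 q20715 (flp_a L739706) q22231, e3 q20716 (flp_a L732908) q21727, e3 q20717 (flp_a L733037) q21735, e3 q20718 (flp_a L739718) q22232, e3 q20719 (flp_a L739726) q22233, e3 q20720 L723539 q19600, e3 q20721 (flp_a L733097) q21739, e3 q20722 (flp_a L733021) q21734, e3 q20723 L723568 q19655, e3 q20724 (flp_a L739772) q22236, e3 q20725 (flp_a L739787) q22237, e3 q20726 (flp_a L739740) q22234, e3 q20727 (flp_a L732924) q21728, e3 q20728 (flp_a L733047) q21736, e3 q20729 (flp_a L738942) q22169, e3 q20730 (flp_a L733113) q21740, e3 q20731 (flp_a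 L739818) q22239, e3 q20732 (flp_a L739830) q22240, e3 q20733 (flp_a L739855) q22243, e3 q20734 (flp_a L733126) q21741, e3 q20735 L723666 q19946, trivial⟩ (by decide +kernel)

theorem ce_a_324 : ∀ r, r < 64 → sm ga (Qf (20736 + r)) = Qf (tab Gen.a (20736 + r)) :=
  edges_tab (sm ga) Qf (tab Gen.a) 20736 [(20736, 21997), (20737, 22015), (20738, 22163), (20739, 18889), (20740, 18890), (20741, 18891), (20742, 21859), (20743, 22347), (20744, 22348), (20745, 21771), (20746, 21950), (20747, 21998), (20748, 22016), (20749, 22242), (20750, 19943), (20751, 22245), (20752, 18903), (20753, 19361), (20754, 19491), (20755, 19516), (20756, 19487), (20757, 19512), (20758, 19492), (20759, 19517), (20760, 19523), (20761, 19526), (20762, 19524), (20763, 19525), (20764, 18952), (20765, 18953), (20766, 18957), (20767, 18958), (20768, 18966), (20769, 18967), (20770, 18970), (20771, 18976), (20772, 18977), (20773, 18984), (20774, 18987), (20775, 19744), (20776, 19773), (20777, 19603), (20778, 19619), (20779, 19755), (20780, 19756), (20781, 19775),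 (20782, 19737), (20783, 19738), (20784, 19745), (20785, 19746), (20786, 19747), (20787, 19757), (20788, 19758), (20789, 19764), (20790, 19765), (20791, 19770), (20792, 19771), (20793, 19729), (20794, 19730), (20795, 22176), (20796, 22365), (20797, 22366), (20798, 19731), (20799, 19732)]
    ⟨e3 q20736 (flp_a L736635) q21997, e3 q20737 (flp_a L736866) q22015, e3 q20738 (flp_a L738871) q22163, e3 q20739 L723712 q18889, e3 q20740 L723725 q18890, e3 q20741 L723740 q18891, e3 q20742 (flp_a L734802) q21859, e3 q20743 (flp_a L740904) q22347, e3 q20744 (flp_a L740919) q22348, e3 q20745 (flp_a L733596) q21771, e3 q20746 (flp_a L736039) q21950, e3 q20747 (flp_a L736650) q21998, e3 q20748 (flp_a L736882) q22016, e3 q20749 (flp_a L739848) q22242, e3 q20750 L723831 q19943, e3 q20751 (flp_a L739883) q22245, e3 q20752 L723849 q18903, e3 q20753 L723864 q19361, e3 q20754 L723882 q19491, e3 q20755 L723892 q19516, e3 q20756 L723904 q19487, e3 q20757 L723920 q19512, e3 q20758 L723933 q19492, e3 q20759 L723943 q19517, e3 q20760 L723957 q19523,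 e3 q20761 L723971 q19526, e3 q20762 L723984 q19524, e3 q20763 L723998 q19525, e3 q20764 L724014 q18952, e3 q20765 L724026 q18953, e3 q20766 L724039 q18957, e3 q20767 L724049 q18958, e3 q20768 L724063 q18966, e3 q20769 L724073 q18967, e3 q20770 L724085 q18970, e3 q20771 L724098 q18976, e3 q20772 L724108 q18977, e3 q20773 L724120 q18984, e3 q20774 L724132 q18987, e3 q20775 L724139 q19744, e3 q20776 L724147 q19773, e3 q20777 L724156 q19603, e3 q20778 L724166 q19619, e3 q20779 L724177 q19755, e3 q20780 L724184 q19756, e3 q20781 L724194 q19775, e3 q20782 L724203 q19737, e3 q20783 L724215 q19738, e3 q20784 L724228 q19745, e3 q20785 L724240 q19746, e3 q20786 L724250 q19747, e3 q20787 L724264 q19757, e3 q20788 L724274 q19758, e3 q20789 L724286 q19764, e3 q20790 L724297 q19765, e3 q20791 L724310 q19770, e3 q20792 L724320 q19771, e3 q20793 L724333 q19729, e3 q20794 L724349 q19730, e3 q20795 (flp_a L739040) q22176, e3 q20796 (flp_a L741117) q22365, e3 q20797 (flp_a L741129) q22366, e3 q20798 L724390 q19731, e3 q20799 L724406 q19732,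 trivial⟩ (by decide +kernel)

theorem ce_a_325 : ∀ r, r < 64 → sm ga (Qf (20800 + r)) = Qf (tab Gen.a (20800 + r)) :=
  edges_tab (sm ga) Qf (tab Gen.a) 20800 [(20800, 22149), (20801, 22367), (20802, 19449), (20803, 19460), (20804, 19727), (20805, 19733), (20806, 19734), (20807, 19668), (20808, 21869), (20809, 22368), (20810, 22369), (20811, 22166), (20812, 22370), (20813, 19736), (20814, 19707), (20815, 21873), (20816, 22371), (20817, 21828), (20818, 19952), (20819, 21874), (20820, 19620), (20821, 22167), (20822, 19708), (20823, 21875), (20824, 21847), (20825, 22372), (20826, 19953), (20827, 19728), (20828, 21854), (20829, 21855), (20830, 21856), (20831, 21857), (20832, 21858), (20833, 21860), (20834, 21861), (20835, 21862), (20836, 21863), (20837, 21864), (20838, 21865), (20839, 21866), (20840, 21867), (20841, 21868), (20842, 21870), (20843, 21871), (20844, 21872), (20845, 19078), (20846, 19079), (20847, 19081), (20848, 19082), (20849, 19083), (20850, 19084), (20851, 19085), (20852, 19087), (20853, 19088), (20854, 19092),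 (20855, 19093), (20856, 19094), (20857, 19102), (20858, 19103), (20859, 19108), (20860, 19109), (20861, 19110), (20862, 19117), (20863, 19118)]
    ⟨e3 q20800 (flp_a L738694) q22149, e3 q20801 (flp_a L741144) q22367, e3 q20802 L724438 q19449, e3 q20803 L724454 q19460, e3 q20804 L724470 q19727, e3 q20805 L724486 q19733, e3 q20806 L724502 q19734, e3 q20807 L724514 q19668, e3 q20808 (flp_a L734943) q21869, e3 q20809 (flp_a L741156) q22368, e3 q20810 (flp_a L741168) q22369, e3 q20811 (flp_a L738908) q22166, e3 q20812 (flp_a L741178) q22370, e3 q20813 L724567 q19736, e3 q20814 L724583 q19707, e3 q20815 (flp_a L735001) q21873, e3 q20816 (flp_a L741193) q22371, e3 q20817 (flp_a L734377) q21828, e3 q20818 L724623 q19952, e3 q20819 (flp_a L735017) q21874, e3 q20820 L724642 q19620, e3 q20821 (flp_a L738922) q22167, e3 q20822 L724663 q19708, e3 q20823 (flp_a L735035) q21875, e3 q20824 (flp_a L734637) q21847, e3 q20825 (flp_a L741203) q22372, e3 q20826 L724701 q19953, e3 q20827 L724711 q19728, e3 q20828 (flp_a L734719) q21854, e3 q20829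 (flp_a L734737) q21855, e3 q20830 (flp_a L734753) q21856, e3 q20831 (flp_a L734769) q21857, e3 q20832 (flp_a L734785) q21858, e3 q20833 (flp_a L734816) q21860, e3 q20834 (flp_a L734830) q21861, e3 q20835 (flp_a L734843) q21862, e3 q20836 (flp_a L734859) q21863, e3 q20837 (flp_a L734872) q21864, e3 q20838 (flp_a L734886) q21865, e3 q20839 (flp_a L734898) q21866, e3 q20840 (flp_a L734915) q21867, e3 q20841 (flp_a L734929) q21868, e3 q20842 (flp_a L734961) q21870, e3 q20843 (flp_a L734971) q21871, e3 q20844 (flp_a L734986) q21872, e3 q20845 L724895 q19078, e3 q20846 L724909 q19079, e3 q20847 L724924 q19081, e3 q20848 L724938 q19082, e3 q20849 L724953 q19083, e3 q20850 L724960 q19084, e3 q20851 L724970 q19085, e3 q20852 L724979 q19087, e3 q20853 L724995 q19088, e3 q20854 L725010 q19092, e3 q20855 L725022 q19093, e3 q20856 L725032 q19094, e3 q20857 L725046 q19102, e3 q20858 L725056 q19103, e3 q20859 L725068 q19108, e3 q20860 L725078 q19109, e3 q20861 L725089 q19110, e3 q20862 L725102 q19117, e3 q20863 L725112 q19118, trivial⟩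 (by decide +kernel)

theorem ce_a_326 : ∀ r, r < 64 → sm ga (Qf (20864 + r)) = Qf (tab Gen.a (20864 + r)) :=
  edges_tab (sm ga) Qf (tab Gen.a) 20864 [(20864, 19126), (20865, 19128), (20866, 19129), (20867, 19130), (20868, 19131), (20869, 19132), (20870, 19136), (20871, 19137), (20872, 19138), (20873, 19139), (20874, 19140), (20875, 19141), (20876, 19142), (20877, 21938), (20878, 21941), (20879, 21954), (20880, 19149), (20881, 19150), (20882, 19151), (20883, 19153), (20884, 19154), (20885, 19158), (20886, 19159), (20887, 19164), (20888, 19165), (20889, 19166), (20890, 19169), (20891, 19170), (20892, 19171), (20893, 19179), (20894, 19180), (20895, 19184), (20896, 19185), (20897, 19193), (20898, 19200), (20899, 19201), (20900, 19202), (20901, 19205), (20902, 19206), (20903, 19213), (20904, 19218), (20905, 19071), (20906, 19072), (20907, 21844), (20908, 22489), (20909, 19224), (20910, 19225), (20911, 19742), (20912, 19743), (20913, 19416), (20914, 19480), (20915, 19535), (20916, 22429), (20917, 22430), (20918, 22431), (20919,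 19080), (20920, 22503), (20921, 22504), (20922, 19470), (20923, 22432), (20924, 22433), (20925, 22434), (20926, 21779), (20927, 22435)]
    ⟨e3 q20864 L725123 q19126, e3 q20865 L725135 q19128, e3 q20866 L725149 q19129, e3 q20867 L725164 q19130, e3 q20868 L725171 q19131, e3 q20869 L725181 q19132, e3 q20870 L725190 q19136, e3 q20871 L725202 q19137, e3 q20872 L725216 q19138, e3 q20873 L725228 q19139, e3 q20874 L725244 q19140, e3 q20875 L725250 q19141, e3 q20876 L725260 q19142, e3 q20877 (flp_a L735887) q21938, e3 q20878 (flp_a L735927) q21941, e3 q20879 (flp_a L736094) q21954, e3 q20880 L725304 q19149, e3 q20881 L725311 q19150, e3 q20882 L725325 q19151, e3 q20883 L725335 q19153, e3 q20884 L725345 q19154, e3 q20885 L725357 q19158, e3 q20886 L725365 q19159, e3 q20887 L725371 q19164, e3 q20888 L725383 q19165, e3 q20889 L725396 q19166, e3 q20890 L725411 q19169, e3 q20891 L725420 q19170, e3 q20892 L725428 q19171, e3 q20893 L725437 q19179, e3 q20894 L725447 q19180, e3 q20895 L725458 q19184, e3 q20896 L725466 q19185, e3 q20897 L725474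 q19193, e3 q20898 L725486 q19200, e3 q20899 L725495 q19201, e3 q20900 L725504 q19202, e3 q20901 L725515 q19205, e3 q20902 L725523 q19206, e3 q20903 L725528 q19213, e3 q20904 L725546 q19218, e3 q20905 L725557 q19071, e3 q20906 L725570 q19072, e3 q20907 (flp_a L734592) q21844, e3 q20908 (flp_a L742499) q22489, e3 q20909 L725609 q19224, e3 q20910 L725622 q19225, e3 q20911 L725631 q19742, e3 q20912 L725645 q19743, e3 q20913 L725666 q19416, e3 q20914 L725670 q19480, e3 q20915 L725680 q19535, e3 q20916 (flp_a L741815) q22429, e3 q20917 (flp_a L741828) q22430, e3 q20918 (flp_a L741844) q22431, e3 q20919 (flp_a L725709) q19080, e3 q20920 (flp_a L742667) q22503, e3 q20921 (flp_a L742679) q22504, e3 q20922 L725737 q19470, e3 q20923 (flp_a L741859) q22432, e3 q20924 (flp_a L741872) q22433, e3 q20925 (flp_a L741888) q22434, e3 q20926 (flp_a L733704) q21779, e3 q20927 (flp_a L741901) q22435, trivial⟩ (by decide +kernel)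

theorem ce_a_327 : ∀ r, r < 64 → sm ga (Qf (20928 + r)) = Qf (tab Gen.a (20928 + r)) :=
  edges_tab (sm ga) Qf (tab Gen.a) 20928 [(20928, 22436), (20929, 19145), (20930, 19222), (20931, 22437), (20932, 22438), (20933, 22439), (20934, 19795), (20935, 19805), (20936, 19880), (20937, 19881), (20938, 19872), (20939, 22440), (20940, 22441), (20941, 22442), (20942, 19788), (20943, 21980), (20944, 22002), (20945, 19866), (20946, 19820), (20947, 19867), (20948, 19385), (20949, 19928), (20950, 19895), (20951, 21786), (20952, 21792), (20953, 22443), (20954, 22444), (20955, 19966), (20956, 19950), (20957, 19929), (20958, 19907), (20959, 21795), (20960, 22445), (20961, 22446), (20962, 22447), (20963, 19379), (20964, 19386), (20965, 19919), (20966, 19918), (20967, 21796), (20968, 21799), (20969, 22448), (20970, 22449), (20971, 19393), (20972, 19399), (20973, 21797), (20974, 21800), (20975, 21802), (20976, 21834), (20977, 19822), (20978, 19945), (20979, 21985), (20980, 22450), (20981, 22451), (20982, 22452), (20983, 22261), (20984, 22453),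 (20985, 22454), (20986, 19134), (20987, 19135), (20988, 19815), (20989, 21927), (20990, 22574), (20991, 22575)]
    ⟨e3 q20928 (flp_a L741910) q22436, e3 q20929 L725793 q19145, e3 q20930 L725807 q19222, e3 q20931 (flp_a L741918) q22437, e3 q20932 (flp_a L741933) q22438, e3 q20933 (flp_a L741949) q22439, e3 q20934 L725844 q19795, e3 q20935 L725856 q19805, e3 q20936 L725868 q19880, e3 q20937 L725882 q19881, e3 q20938 L725894 q19872, e3 q20939 (flp_a L741966) q22440, e3 q20940 (flp_a L741976) q22441, e3 q20941 (flp_a L741988) q22442, e3 q20942 L725930 q19788, e3 q20943 (flp_a L736448) q21980, e3 q20944 (flp_a L736700) q22002, e3 q20945 L725962 q19866, e3 q20946 L725972 q19820, e3 q20947 L725984 q19867, e3 q20948 L725996 q19385, e3 q20949 L726010 q19928, e3 q20950 L726020 q19895, e3 q20951 (flp_a L733806) q21786, e3 q20952 (flp_a L733883) q21792, e3 q20953 (flp_a L742000) q22443, e3 q20954 (flp_a L742012) q22444, e3 q20955 L726062 q19966, e3 q20956 L726075 q19950, e3 q20957 L726090 q19929, e3 q20958 L726102 q19907, e3 q20959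 (flp_a L733924) q21795, e3 q20960 (flp_a L742022) q22445, e3 q20961 (flp_a L742032) q22446, e3 q20962 (flp_a L742044) q22447, e3 q20963 L726149 q19379, e3 q20964 L726165 q19386, e3 q20965 L726179 q19919, e3 q20966 L726189 q19918, e3 q20967 (flp_a L733938) q21796, e3 q20968 (flp_a L733979) q21799, e3 q20969 (flp_a L742056) q22448, e3 q20970 (flp_a L742065) q22449, e3 q20971 L726236 q19393, e3 q20972 L726251 q19399, e3 q20973 (flp_a L733951) q21797, e3 q20974 (flp_a L733993) q21800, e3 q20975 (flp_a L734022) q21802, e3 q20976 (flp_a L734454) q21834, e3 q20977 L726309 q19822, e3 q20978 L726321 q19945, e3 q20979 (flp_a L736514) q21985, e3 q20980 (flp_a L742078) q22450, e3 q20981 (flp_a L742093) q22451, e3 q20982 (flp_a L742107) q22452, e3 q20983 (flp_a L740051) q22261, e3 q20984 (flp_a L742124) q22453, e3 q20985 (flp_a L742133) q22454, e3 q20986 L726392 q19134, e3 q20987 L726406 q19135, e3 q20988 L726420 q19815, e3 q20989 (flp_a L735738) q21927, e3 q20990 (flp_a L743448) q22574, e3 q20991 (flp_a L743462) q22575, trivial⟩ (by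 decide +kernel)

theorem ce_a_328 : ∀ r, r < 64 → sm ga (Qf (20992 + r)) = Qf (tab Gen.a (20992 + r)) :=
  edges_tab (sm ga) Qf (tab Gen.a) 20992 [(20992, 22455), (20993, 19828), (20994, 22456), (20995, 22457), (20996, 22458), (20997, 22459), (20998, 19824), (20999, 21808), (21000, 22460), (21001, 22461), (21002, 22462), (21003, 19147), (21004, 19148), (21005, 21935), (21006, 22519), (21007, 19442), (21008, 21936), (21009, 22595), (21010, 22005), (21011, 21814), (21012, 22466), (21013, 22467), (21014, 22468), (21015, 22469), (21016, 21805), (21017, 21817), (21018, 22470), (21019, 22471), (21020, 19837), (21021, 21809), (21022, 21820), (21023, 22472), (21024, 22473), (21025, 19163), (21026, 21928), (21027, 21948), (21028, 22012), (21029, 21776), (21030, 22474), (21031, 22475), (21032, 22476), (21033, 19845), (21034, 21825), (21035, 22477), (21036, 22478), (21037, 22479), (21038, 19437), (21039, 19443), (21040, 21937), (21041, 21953), (21042, 21822), (21043, 21829), (21044, 22480), (21045, 22481), (21046, 19852), (21047, 19851),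 (21048, 21826), (21049, 21832), (21050, 22482), (21051, 22483), (21052, 22646), (21053, 19451), (21054, 19455), (21055, 21823)]
    ⟨e3 q20992 (flp_a L742143) q22455, e3 q20993 L726469 q19828, e3 q20994 (flp_a L742156) q22456, e3 q20995 (flp_a L742168) q22457, e3 q20996 (flp_a L742180) q22458, e3 q20997 (flp_a L742194) q22459, e3 q20998 L726515 q19824, e3 q20999 (flp_a L734117) q21808, e3 q21000 (flp_a L742208) q22460, e3 q21001 (flp_a L742216) q22461, e3 q21002 (flp_a L742226) q22462, e3 q21003 L726553 q19147, e3 q21004 L726561 q19148, e3 q21005 (flp_a L735842) q21935, e3 q21006 (flp_a L742833) q22519, e3 q21007 L726586 q19442, e3 q21008 (flp_a L735859) q21936, e3 q21009 (flp_a L743668) q22595, e3 q21010 (flp_a L736750) q22005, e3 q21011 (flp_a L734201) q21814, e3 q21012 (flp_a L742272) q22466, e3 q21013 (flp_a L742285) q22467, e3 q21014 (flp_a L742294) q22468, e3 q21015 (flp_a L742308) q22469, e3 q21016 (flp_a L734071) q21805, e3 q21017 (flp_a L734242) q21817, e3 q21018 (flp_a L742316) q22470, e3 q21019 (flp_a L742328)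 q22471, e3 q21020 L726689 q19837, e3 q21021 (flp_a L734131) q21809, e3 q21022 (flp_a L734278) q21820, e3 q21023 (flp_a L742338) q22472, e3 q21024 (flp_a L742344) q22473, e3 q21025 L726725 q19163, e3 q21026 (flp_a L735754) q21928, e3 q21027 (flp_a L736014) q21948, e3 q21028 (flp_a L736822) q22012, e3 q21029 (flp_a L733674) q21776, e3 q21030 (flp_a L742350) q22474, e3 q21031 (flp_a L742362) q22475, e3 q21032 (flp_a L742376) q22476, e3 q21033 L726803 q19845, e3 q21034 (flp_a L734341) q21825, e3 q21035 (flp_a L742390) q22477, e3 q21036 (flp_a L742397) q22478, e3 q21037 (flp_a L742407) q22479, e3 q21038 L726847 q19437, e3 q21039 L726862 q19443, e3 q21040 (flp_a L735873) q21937, e3 q21041 (flp_a L736079) q21953, e3 q21042 (flp_a L734300) q21822, e3 q21043 (flp_a L734395) q21829, e3 q21044 (flp_a L742418) q22480, e3 q21045 (flp_a L742427) q22481, e3 q21046 L726921 q19852, e3 q21047 L726934 q19851, e3 q21048 (flp_a L734354) q21826, e3 q21049 (flp_a L734432) q21832, e3 q21050 (flp_a L742440) q22482, e3 q21051 (flp_a L742448) q22483,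 e3 q21052 L744088 q22646, e3 q21053 L726974 q19451, e3 q21054 L726988 q19455, e3 q21055 (flp_a L734313) q21823, trivial⟩ (by decide +kernel)

theorem ce_a_329 : ∀ r, r < 64 → sm ga (Qf (21056 + r)) = Qf (tab Gen.a (21056 + r)) :=
  edges_tab (sm ga) Qf (tab Gen.a) 21056 [(21056, 21830), (21057, 21835), (21058, 21827), (21059, 21833), (21060, 19198), (21061, 21837), (21062, 22484), (21063, 22485), (21064, 22486), (21065, 22656), (21066, 21838), (21067, 21840), (21068, 21841), (21069, 22660), (21070, 22487), (21071, 19207), (21072, 21839), (21073, 22004), (21074, 19816), (21075, 19947), (21076, 22488), (21077, 19823), (21078, 22520), (21079, 21986), (21080, 22492), (21081, 19949), (21082, 19942), (21083, 19834), (21084, 19836), (21085, 19246), (21086, 19417), (21087, 19536), (21088, 19243), (21089, 19410), (21090, 22672), (21091, 19471), (21092, 19528), (21093, 22669), (21094, 19789), (21095, 19821), (21096, 19868), (21097, 19948), (21098, 19941), (21099, 19833), (21100, 19811), (21101, 19832), (21102, 22052), (21103, 19562),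 (21104, 21708), (21105, 19296), (21106, 19297), (21107, 19680), (21108, 19607), (21109, 19612), (21110, 19305), (21111, 19306), (21112, 19317), (21113, 21757), (21114, 21766), (21115, 21714), (21116, 21715), (21117, 21747), (21118, 21748), (21119, 22685)]
    ⟨e3 q21056 (flp_a L734409) q21830, e3 q21057 (flp_a L734470) q21835, e3 q21058 (flp_a L734364) q21827, e3 q21059 (flp_a L734444) q21833, e3 q21060 (flp_a L727041) q19198, e3 q21061 (flp_a L734503) q21837, e3 q21062 (flp_a L742454) q22484, e3 q21063 (flp_a L742462) q22485, e3 q21064 (flp_a L742472) q22486, e3 q21065 L744178 q22656, e3 q21066 (flp_a L734518) q21838, e3 q21067 (flp_a L734542) q21840, e3 q21068 (flp_a L734552) q21841, e3 q21069 L744221 q22660, e3 q21070 (flp_a L742479) q22487, e3 q21071 (flp_a L727128) q19207, e3 q21072 (flp_a L734529) q21839, e3 q21073 (flp_a L736734) q22004, e3 q21074 L727165 q19816, e3 q21075 L727180 q19947, e3 q21076 (flp_a L742486) q22488, e3 q21077 L727198 q19823, e3 q21078 (flp_a L742847) q22520, e3 q21079 (flp_a L736532) q21986,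 e3 q21080 (flp_a L742537) q22492, e3 q21081 L727234 q19949, e3 q21082 L727245 q19942, e3 q21083 L727258 q19834, e3 q21084 L727270 q19836, e3 q21085 L727280 q19246, e3 q21086 L727296 q19417, e3 q21087 L727310 q19536, e3 q21088 L727322 q19243, e3 q21089 L727336 q19410, e3 q21090 (flp_a L744355) q22672, e3 q21091 L727360 q19471, e3 q21092 L727374 q19528, e3 q21093 (flp_a L744318) q22669, e3 q21094 L727395 q19789, e3 q21095 L727409 q19821, e3 q21096 L727421 q19868, e3 q21097 L727433 q19948, e3 q21098 L727444 q19941, e3 q21099 L727456 q19833, e3 q21100 L727468 q19811, e3 q21101 L727480 q19832, e3 q21102 (flp_a L737368) q22052, e3 q21103 L727503 q19562, e3 q21104 (flp_a L732592) q21708, e3 q21105 L727526 q19296, e3 q21106 L727540 q19297, e3 q21107 L727554 q19680, e3 q21108 L727564 q19607, e3 q21109 L727578 q19612, e3 q21110 L727592 q19305, e3 q21111 L727606 q19306, e3 q21112 L727612 q19317, e3 q21113 (flp_a L733389) q21757, e3 q21114 (flp_a L733517) q21766, e3 q21115 (flp_a L732700) q21714, e3 q21116 (flp_a L732716) q21715, e3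 q21117 (flp_a L733232) q21747, e3 q21118 (flp_a L733250) q21748, e3 q21119 (flp_a L744514) q22685, trivial⟩ (by decide +kernel)

theorem ce_a_330 : ∀ r, r < 64 → sm ga (Qf (21120 + r)) = Qf (tab Gen.a (21120 + r)) :=
  edges_tab (sm ga) Qf (tab Gen.a) 21120 [(21120, 22131), (21121, 22170), (21122, 22171), (21123, 19863), (21124, 19874), (21125, 19658), (21126, 21749), (21127, 21750), (21128, 22090), (21129, 22688), (21130, 22689), (21131, 22160), (21132, 22136), (21133, 22141), (21134, 21751), (21135, 21752), (21136, 21753), (21137, 22091), (21138, 22142), (21139, 21754), (21140, 21755), (21141, 22092), (21142, 19909), (21143, 19438), (21144, 19439), (21145, 19440), (21146, 19441), (21147, 19432), (21148, 19433), (21149, 19840), (21150, 19875), (21151, 19338), (21152, 19339), (21153, 22715), (21154, 22716), (21155, 19893), (21156, 19917), (21157, 19898), (21158, 19344), (21159, 22722), (21160, 19906), (21161, 19347), (21162, 22003), (21163, 19352), (21164, 22041), (21165, 19992), (21166, 19355), (21167, 22039), (21168, 19972),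 (21169, 19993), (21170, 19749), (21171, 19767), (21172, 19759), (21173, 19444), (21174, 19446), (21175, 19447), (21176, 19450), (21177, 19452), (21178, 19458), (21179, 19938), (21180, 19465), (21181, 19466), (21182, 19467), (21183, 19468)]
    ⟨e3 q21120 (flp_a L738473) q22131, e3 q21121 (flp_a L738955) q22170, e3 q21122 (flp_a L738969) q22171, e3 q21123 L727742 q19863, e3 q21124 L727757 q19874, e3 q21125 L727771 q19658, e3 q21126 (flp_a L733268) q21749, e3 q21127 (flp_a L733286) q21750, e3 q21128 (flp_a L737893) q22090, e3 q21129 (flp_a L744554) q22688, e3 q21130 (flp_a L744568) q22689, e3 q21131 (flp_a L738824) q22160, e3 q21132 (flp_a L738526) q22136, e3 q21133 (flp_a L738586) q22141, e3 q21134 (flp_a L733300) q21751, e3 q21135 (flp_a L733315) q21752, e3 q21136 (flp_a L733329) q21753, e3 q21137 (flp_a L737909) q22091, e3 q21138 (flp_a L738602) q22142, e3 q21139 (flp_a L733344) q21754, e3 q21140 (flp_a L733358) q21755, e3 q21141 (flp_a L737923) q22092, e3 q21142 L727936 q19909, e3 q21143 L727949 q19438, e3 q21144 L727961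 q19439, e3 q21145 L727972 q19440, e3 q21146 L727986 q19441, e3 q21147 L728000 q19432, e3 q21148 L728014 q19433, e3 q21149 L728028 q19840, e3 q21150 L728040 q19875, e3 q21151 L728052 q19338, e3 q21152 L728066 q19339, e3 q21153 (flp_a L744856) q22715, e3 q21154 (flp_a L744870) q22716, e3 q21155 L728098 q19893, e3 q21156 L728108 q19917, e3 q21157 L728118 q19898, e3 q21158 L728128 q19344, e3 q21159 (flp_a L744924) q22722, e3 q21160 L728154 q19906, e3 q21161 L728165 q19347, e3 q21162 (flp_a L736718) q22003, e3 q21163 L728187 q19352, e3 q21164 (flp_a L737181) q22041, e3 q21165 L728207 q19992, e3 q21166 L728214 q19355, e3 q21167 (flp_a L737158) q22039, e3 q21168 L728238 q19972, e3 q21169 L728250 q19993, e3 q21170 L728259 q19749, e3 q21171 L728273 q19767, e3 q21172 L728287 q19759, e3 q21173 L728297 q19444, e3 q21174 L728302 q19446, e3 q21175 L728310 q19447, e3 q21176 L728320 q19450, e3 q21177 L728328 q19452, e3 q21178 L728341 q19458, e3 q21179 L728359 q19938, e3 q21180 L728363 q19465, e3 q21181 L728375 q19466, e3 q21182 L728388 q19467,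 e3 q21183 L728393 q19468, trivial⟩ (by decide +kernel)

theorem ce_a_331 : ∀ r, r < 64 → sm ga (Qf (21184 + r)) = Qf (tab Gen.a (21184 + r)) :=
  edges_tab (sm ga) Qf (tab Gen.a) 21184 [(21184, 19469), (21185, 22505), (21186, 22553), (21187, 19472), (21188, 19473), (21189, 19474), (21190, 19475), (21191, 19476), (21192, 19477), (21193, 22495), (21194, 22539), (21195, 22554), (21196, 19484), (21197, 19486), (21198, 19488), (21199, 19489), (21200, 19490), (21201, 19493), (21202, 19494), (21203, 22561), (21204, 19500), (21205, 19501), (21206, 19502), (21207, 19503), (21208, 22011), (21209, 19513), (21210, 19514), (21211, 19515), (21212, 21836), (21213, 19939), (21214, 19527), (21215, 22673), (21216, 19530), (21217, 19531), (21218, 19532), (21219, 19418), (21220, 22496), (21221, 22670), (21222, 22023), (21223, 19539), (21224, 19540), (21225, 19541), (21226, 19423), (21227, 22019), (21228, 19544), (21229, 21842), (21230, 19545), (21231, 19429), (21232, 22535), (21233, 22781), (21234, 21939), (21235, 21983), (21236, 22035), (21237,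 22712), (21238, 21777), (21239, 21778), (21240, 21780), (21241, 21781), (21242, 22510), (21243, 22633), (21244, 22682), (21245, 22709), (21246, 22710), (21247, 22711)]
    ⟨e3 q21184 L728401 q19469, e3 q21185 (flp_a L742692) q22505, e3 q21186 (flp_a L743216) q22553, e3 q21187 L728426 q19472, e3 q21188 L728438 q19473, e3 q21189 L728450 q19474, e3 q21190 L728460 q19475, e3 q21191 L728470 q19476, e3 q21192 L728484 q19477, e3 q21193 (flp_a L742580) q22495, e3 q21194 (flp_a L743068) q22539, e3 q21195 (flp_a L743232) q22554, e3 q21196 L728516 q19484, e3 q21197 L728527 q19486, e3 q21198 L728539 q19488, e3 q21199 L728549 q19489, e3 q21200 L728557 q19490, e3 q21201 L728567 q19493, e3 q21202 L728577 q19494, e3 q21203 (flp_a L743302) q22561, e3 q21204 L728590 q19500, e3 q21205 L728601 q19501, e3 q21206 L728614 q19502, e3 q21207 L728625 q19503, e3 q21208 (flp_a L736816) q22011, e3 q21209 L728647 q19513, e3 q21210 L728655 q19514, e3 q21211 L728664 q19515, e3 q21212 (flp_a L734486) q21836, e3 q21213 L728685 q19939, e3 q21214 L728699 q19527,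 e3 q21215 (flp_a L744370) q22673, e3 q21216 L728723 q19530, e3 q21217 L728736 q19531, e3 q21218 L728750 q19532, e3 q21219 L728761 q19418, e3 q21220 (flp_a L742594) q22496, e3 q21221 (flp_a L744332) q22670, e3 q21222 (flp_a L736968) q22023, e3 q21223 L728802 q19539, e3 q21224 L728811 q19540, e3 q21225 L728819 q19541, e3 q21226 L728826 q19423, e3 q21227 (flp_a L736926) q22019, e3 q21228 L728846 q19544, e3 q21229 (flp_a L734571) q21842, e3 q21230 L728867 q19545, e3 q21231 (flp_a L728873) q19429, e3 q21232 (flp_a L743018) q22535, e3 q21233 (flp_a L745519) q22781, e3 q21234 (flp_a L735903) q21939, e3 q21235 (flp_a L736486) q21983, e3 q21236 (flp_a L737110) q22035, e3 q21237 (flp_a L744818) q22712, e3 q21238 (flp_a L733680) q21777, e3 q21239 (flp_a L733692) q21778, e3 q21240 (flp_a L733717) q21780, e3 q21241 (flp_a L733729) q21781, e3 q21242 (flp_a L742750) q22510, e3 q21243 (flp_a L743978) q22633, e3 q21244 (flp_a L744475) q22682, e3 q21245 (flp_a L744780) q22709, e3 q21246 (flp_a L744792) q22710, e3 q21247 (flp_a L744804) q22711,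 trivial⟩ (by decide +kernel)

theorem ce_a_332 : ∀ r, r < 64 → sm ga (Qf (21248 + r)) = Qf (tab Gen.a (21248 + r)) :=
  edges_tab (sm ga) Qf (tab Gen.a) 21248 [(21248, 22596), (21249, 19882), (21250, 22599), (21251, 22634), (21252, 21811), (21253, 21918), (21254, 22729), (21255, 21812), (21256, 22730), (21257, 22731), (21258, 19753), (21259, 22397), (21260, 22732), (21261, 22647), (21262, 22733), (21263, 19912), (21264, 19922), (21265, 21959), (21266, 21813), (21267, 19754), (21268, 19763), (21269, 22603), (21270, 22736), (21271, 22737), (21272, 22738), (21273, 22739), (21274, 22509), (21275, 22511), (21276, 22675), (21277, 22742), (21278, 21910), (21279, 22743), (21280, 22744), (21281, 22745), (21282, 22746), (21283, 22747), (21284, 22748), (21285, 19481), (21286, 19482), (21287, 19483), (21288, 22497), (21289, 22246), (21290, 22498), (21291, 19829), (21292, 22832), (21293, 22833), (21294, 22009), (21295, 19860), (21296, 21919), (21297, 22752), (21298, 21920), (21299, 22753), (21300, 21978), (21301, 22360), (21302, 22754),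 (21303, 22755), (21304, 22756), (21305, 22358), (21306, 22362), (21307, 22757), (21308, 22758), (21309, 19497), (21310, 19498), (21311, 19499)]
    ⟨e3 q21248 (flp_a L743676) q22596, e3 q21249 L729056 q19882, e3 q21250 (flp_a L743704) q22599, e3 q21251 (flp_a L743993) q22634, e3 q21252 (flp_a L734153) q21811, e3 q21253 (flp_a L735640) q21918, e3 q21254 (flp_a L744999) q22729, e3 q21255 (flp_a L734169) q21812, e3 q21256 (flp_a L745006) q22730, e3 q21257 (flp_a L745016) q22731, e3 q21258 L729135 q19753, e3 q21259 (flp_a L741487) q22397, e3 q21260 (flp_a L745027) q22732, e3 q21261 (flp_a L744102) q22647, e3 q21262 (flp_a L745035) q22733, e3 q21263 L729186 q19912, e3 q21264 L729202 q19922, e3 q21265 (flp_a L736163) q21959, e3 q21266 (flp_a L734185) q21813, e3 q21267 L729237 q19754, e3 q21268 L729249 q19763, e3 q21269 (flp_a L743742) q22603, e3 q21270 (flp_a L745072) q22736, e3 q21271 (flp_a L745086) q22737, e3 q21272 (flp_a L745097) q22738, e3 q21273 (flp_a L745104) q22739, e3 q21274 (flp_a L742734) q22509, e3 q21275 (flp_a L742766)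 q22511, e3 q21276 (flp_a L744394) q22675, e3 q21277 (flp_a L745128) q22742, e3 q21278 (flp_a L735546) q21910, e3 q21279 (flp_a L745139) q22743, e3 q21280 (flp_a L745153) q22744, e3 q21281 (flp_a L745165) q22745, e3 q21282 (flp_a L745175) q22746, e3 q21283 (flp_a L745187) q22747, e3 q21284 (flp_a L745201) q22748, e3 q21285 L729394 q19481, e3 q21286 L729408 q19482, e3 q21287 L729416 q19483, e3 q21288 (flp_a L742607) q22497, e3 q21289 (flp_a L739893) q22246, e3 q21290 (flp_a L742622) q22498, e3 q21291 L729445 q19829, e3 q21292 (flp_a L746004) q22832, e3 q21293 (flp_a L746018) q22833, e3 q21294 (flp_a L736792) q22009, e3 q21295 L729485 q19860, e3 q21296 (flp_a L735651) q21919, e3 q21297 (flp_a L745237) q22752, e3 q21298 (flp_a L735662) q21920, e3 q21299 (flp_a L745250) q22753, e3 q21300 (flp_a L736414) q21978, e3 q21301 (flp_a L741045) q22360, e3 q21302 (flp_a L745260) q22754, e3 q21303 (flp_a L745270) q22755, e3 q21304 (flp_a L745274) q22756, e3 q21305 (flp_a L741021) q22358, e3 q21306 (flp_a L741075) q22362, e3 q21307 (flp_a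 L745282) q22757, e3 q21308 (flp_a L745292) q22758, e3 q21309 L729568 q19497, e3 q21310 L729581 q19498, e3 q21311 L729595 q19499, trivial⟩ (by decide +kernel)

theorem ce_a_333 : ∀ r, r < 64 → sm ga (Qf (21312 + r)) = Qf (tab Gen.a (21312 + r)) :=
  edges_tab (sm ga) Qf (tab Gen.a) 21312 [(21312, 22856), (21313, 22857), (21314, 22000), (21315, 22760), (21316, 22761), (21317, 22762), (21318, 19508), (21319, 19509), (21320, 19847), (21321, 22862), (21322, 22863), (21323, 22031), (21324, 22361), (21325, 22764), (21326, 22765), (21327, 22359), (21328, 19522), (21329, 19843), (21330, 19848), (21331, 22363), (21332, 22364), (21333, 22767), (21334, 22017), (21335, 21911), (21336, 22769), (21337, 22770), (21338, 22771), (21339, 22247), (21340, 22499), (21341, 22671), (21342, 22024), (21343, 21921), (21344, 22775), (21345, 22776), (21346, 22777), (21347, 22779), (21348, 19553), (21349, 19575), (21350, 19554), (21351, 22082), (21352, 22075), (21353, 22884), (21354, 22072), (21355, 19560), (21356, 19570), (21357, 22059), (21358, 22084),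 (21359, 21710), (21360, 22684), (21361, 22056), (21362, 19567), (21363, 22054), (21364, 22076), (21365, 19596), (21366, 19597), (21367, 19601), (21368, 19602), (21369, 19605), (21370, 19606), (21371, 19608), (21372, 19611), (21373, 19617), (21374, 19957), (21375, 19621)]
    ⟨e3 q21312 (flp_a L746170) q22856, e3 q21313 (flp_a L746183) q22857, e3 q21314 (flp_a L736673) q22000, e3 q21315 (flp_a L745307) q22760, e3 q21316 (flp_a L745319) q22761, e3 q21317 (flp_a L745331) q22762, e3 q21318 L729664 q19508, e3 q21319 L729677 q19509, e3 q21320 L729691 q19847, e3 q21321 (flp_a L746235) q22862, e3 q21322 (flp_a L746249) q22863, e3 q21323 (flp_a L737063) q22031, e3 q21324 (flp_a L741061) q22361, e3 q21325 (flp_a L745352) q22764, e3 q21326 (flp_a L745361) q22765, e3 q21327 (flp_a L741031) q22359, e3 q21328 L729753 q19522, e3 q21329 L729765 q19843, e3 q21330 L729779 q19848, e3 q21331 (flp_a L741087) q22363, e3 q21332 (flp_a L741102) q22364, e3 q21333 (flp_a L745384) q22767, e3 q21334 (flp_a L736894) q22017, e3 q21335 (flp_a L735558)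 q21911, e3 q21336 (flp_a L745405) q22769, e3 q21337 (flp_a L745416) q22770, e3 q21338 (flp_a L745428) q22771, e3 q21339 (flp_a L739905) q22247, e3 q21340 (flp_a L742634) q22499, e3 q21341 (flp_a L744347) q22671, e3 q21342 (flp_a L736974) q22024, e3 q21343 (flp_a L735672) q21921, e3 q21344 (flp_a L745459) q22775, e3 q21345 (flp_a L745468) q22776, e3 q21346 (flp_a L745477) q22777, e3 q21347 (flp_a L745499) q22779, e3 q21348 L729894 q19553, e3 q21349 L729904 q19575, e3 q21350 L729915 q19554, e3 q21351 (flp_a L737795) q22082, e3 q21352 (flp_a L737713) q22075, e3 q21353 (flp_a L746406) q22884, e3 q21354 (flp_a L737675) q22072, e3 q21355 L729955 q19560, e3 q21356 L729964 q19570, e3 q21357 (flp_a L737483) q22059, e3 q21358 (flp_a L737824) q22084, e3 q21359 (flp_a L732629) q21710, e3 q21360 (flp_a L744501) q22684, e3 q21361 (flp_a L737429) q22056, e3 q21362 L730009 q19567, e3 q21363 (flp_a L737395) q22054, e3 q21364 (flp_a L737730) q22076, e3 q21365 L730031 q19596, e3 q21366 L730045 q19597, e3 q21367 L730059 q19601, e3 q21368 L730073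 q19602, e3 q21369 L730087 q19605, e3 q21370 L730095 q19606, e3 q21371 L730103 q19608, e3 q21372 L730109 q19611, e3 q21373 L730119 q19617, e3 q21374 L730127 q19957, e3 q21375 L730139 q19621, trivial⟩ (by decide +kernel)

theorem ce_a_334 : ∀ r, r < 64 → sm ga (Qf (21376 + r)) = Qf (tab Gen.a (21376 + r)) :=
  edges_tab (sm ga) Qf (tab Gen.a) 21376 [(21376, 19719), (21377, 19622), (21378, 22302), (21379, 22305), (21380, 22323), (21381, 22888), (21382, 22324), (21383, 22143), (21384, 22336), (21385, 22889), (21386, 22266), (21387, 22119), (21388, 22376), (21389, 22267), (21390, 22890), (21391, 22891), (21392, 22687), (21393, 22892), (21394, 22268), (21395, 22280), (21396, 22893), (21397, 22208), (21398, 22287), (21399, 22235), (21400, 22120), (21401, 22377), (21402, 22411), (21403, 22895), (21404, 22896), (21405, 22244), (21406, 19647), (21407, 19648), (21408, 19649), (21409, 19650), (21410, 19652), (21411, 22140), (21412, 19659), (21413, 19660), (21414, 19665), (21415, 19676), (21416, 19677), (21417, 19681), (21418, 19691),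 (21419, 19713), (21420, 19718), (21421, 22177), (21422, 22178), (21423, 21912), (21424, 22922), (21425, 22923), (21426, 22924), (21427, 22925), (21428, 22181), (21429, 22337), (21430, 22139), (21431, 21759), (21432, 21763), (21433, 22698), (21434, 22926), (21435, 22152), (21436, 22157), (21437, 21760), (21438, 21764), (21439, 22927)]
    ⟨e3 q21376 L730148 q19719, e3 q21377 L730157 q19622, e3 q21378 (flp_a L740489) q22302, e3 q21379 (flp_a L740528) q22305, e3 q21380 (flp_a L740687) q22323, e3 q21381 (flp_a L746440) q22888, e3 q21382 (flp_a L740701) q22324, e3 q21383 (flp_a L738617) q22143, e3 q21384 (flp_a L740795) q22336, e3 q21385 (flp_a L746454) q22889, e3 q21386 (flp_a L740104) q22266, e3 q21387 (flp_a L738329) q22119, e3 q21388 (flp_a L741240) q22376, e3 q21389 (flp_a L740119) q22267, e3 q21390 (flp_a L746468) q22890, e3 q21391 (flp_a L746476) q22891, e3 q21392 (flp_a L744540) q22687, e3 q21393 (flp_a L746486) q22892, e3 q21394 (flp_a L740135) q22268, e3 q21395 (flp_a L740252) q22280, e3 q21396 (flp_a L746494) q22893,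 e3 q21397 (flp_a L739448) q22208, e3 q21398 (flp_a L740318) q22287, e3 q21399 (flp_a L739756) q22235, e3 q21400 (flp_a L738339) q22120, e3 q21401 (flp_a L741252) q22377, e3 q21402 (flp_a L741638) q22411, e3 q21403 (flp_a L746515) q22895, e3 q21404 (flp_a L746522) q22896, e3 q21405 (flp_a L739869) q22244, e3 q21406 L730347 q19647, e3 q21407 L730356 q19648, e3 q21408 L730364 q19649, e3 q21409 L730374 q19650, e3 q21410 L730382 q19652, e3 q21411 (flp_a L738571) q22140, e3 q21412 L730398 q19659, e3 q21413 L730408 q19660, e3 q21414 L730414 q19665, e3 q21415 L730422 q19676, e3 q21416 L730430 q19677, e3 q21417 L730438 q19681, e3 q21418 L730444 q19691, e3 q21419 L730452 q19713, e3 q21420 L730457 q19718, e3 q21421 (flp_a L739055) q22177, e3 q21422 (flp_a L739065) q22178, e3 q21423 (flp_a L735570) q21912, e3 q21424 (flp_a L746702) q22922, e3 q21425 (flp_a L746713) q22923, e3 q21426 (flp_a L746723) q22924, e3 q21427 (flp_a L746732) q22925, e3 q21428 (flp_a L739101) q22181, e3 q21429 (flp_a L740810) q22337, e3 q21430 (flp_a L738556) q22139,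 e3 q21431 (flp_a L733425) q21759, e3 q21432 (flp_a L733479) q21763, e3 q21433 (flp_a L744675) q22698, e3 q21434 (flp_a L746738) q22926, e3 q21435 (flp_a L738728) q22152, e3 q21436 (flp_a L738790) q22157, e3 q21437 (flp_a L733441) q21760, e3 q21438 (flp_a L733491) q21764, e3 q21439 (flp_a L746746) q22927, trivial⟩ (by decide +kernel)

theorem ce_a_335 : ∀ r, r < 64 → sm ga (Qf (21440 + r)) = Qf (tab Gen.a (21440 + r)) :=
  edges_tab (sm ga) Qf (tab Gen.a) 21440 [(21440, 19670), (21441, 19671), (21442, 22401), (21443, 22172), (21444, 22951), (21445, 22952), (21446, 21933), (21447, 21973), (21448, 21723), (21449, 21756), (21450, 22928), (21451, 22929), (21452, 21720), (21453, 21726), (21454, 22686), (21455, 22930), (21456, 22161), (21457, 19687), (21458, 22173), (21459, 21768), (21460, 22155), (21461, 21724), (21462, 21721), (21463, 22931), (21464, 22282), (21465, 21770), (21466, 22162), (21467, 21772), (21468, 19709), (21469, 22406), (21470, 22413), (21471, 22972), (21472, 21951), (21473, 21999), (21474, 22018), (21475, 22932),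 (21476, 22165), (21477, 22894), (21478, 19739), (21479, 19740), (21480, 19741), (21481, 19750), (21482, 19760), (21483, 22398), (21484, 22390), (21485, 22391), (21486, 22394), (21487, 22399), (21488, 22400), (21489, 22380), (21490, 22381), (21491, 22382), (21492, 22121), (21493, 22979), (21494, 22980), (21495, 21944), (21496, 22493), (21497, 22494), (21498, 22373), (21499, 22374), (21500, 22383), (21501, 22384), (21502, 22122), (21503, 22727)]
    ⟨e3 q21440 L730594 q19670, e3 q21441 L730600 q19671, e3 q21442 (flp_a L741545) q22401, e3 q21443 (flp_a L738985) q22172, e3 q21444 (flp_a L746897) q22951, e3 q21445 (flp_a L746903) q22952, e3 q21446 (flp_a L735818) q21933, e3 q21447 (flp_a L736348) q21973, e3 q21448 (flp_a L732850) q21723, e3 q21449 (flp_a L733375) q21756, e3 q21450 (flp_a L746754) q22928, e3 q21451 (flp_a L746758) q22929, e3 q21452 (flp_a L732798) q21720, e3 q21453 (flp_a L732898) q21726, e3 q21454 (flp_a L744528) q22686, e3 q21455 (flp_a L746764) q22930, e3 q21456 (flp_a L738840) q22161, e3 q21457 L730702 q19687,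 e3 q21458 (flp_a L738999) q22173, e3 q21459 (flp_a L733549) q21768, e3 q21460 (flp_a L738758) q22155, e3 q21461 (flp_a L732866) q21724, e3 q21462 (flp_a L732814) q21721, e3 q21463 (flp_a L746770) q22931, e3 q21464 (flp_a L740277) q22282, e3 q21465 (flp_a L733581) q21770, e3 q21466 (flp_a L738856) q22162, e3 q21467 (flp_a L733609) q21772, e3 q21468 L730777 q19709, e3 q21469 (flp_a L741589) q22406, e3 q21470 (flp_a L741657) q22413, e3 q21471 (flp_a L747021) q22972, e3 q21472 (flp_a L736053) q21951, e3 q21473 (flp_a L736661) q21999, e3 q21474 (flp_a L736907) q22018, e3 q21475 (flp_a L746776) q22932, e3 q21476 (flp_a L738893) q22165, e3 q21477 (flp_a L746504) q22894, e3 q21478 L730840 q19739, e3 q21479 L730845 q19740, e3 q21480 L730853 q19741, e3 q21481 L730862 q19750, e3 q21482 L730870 q19760, e3 q21483 (flp_a L741503) q22398, e3 q21484 (flp_a L741403) q22390, e3 q21485 (flp_a L741419) q22391, e3 q21486 (flp_a L741455) q22394, e3 q21487 (flp_a L741519) q22399, e3 q21488 (flp_a L741535) q22400, e3 q21489 (flp_a L741278) q22380,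 e3 q21490 (flp_a L741293) q22381, e3 q21491 (flp_a L741305) q22382, e3 q21492 (flp_a L738349) q22121, e3 q21493 (flp_a L747064) q22979, e3 q21494 (flp_a L747071) q22980, e3 q21495 (flp_a L735962) q21944, e3 q21496 (flp_a L742552) q22493, e3 q21497 (flp_a L742566) q22494, e3 q21498 (flp_a L741210) q22373, e3 q21499 (flp_a L741221) q22374, e3 q21500 (flp_a L741320) q22383, e3 q21501 (flp_a L741332) q22384, e3 q21502 (flp_a L738362) q22122, e3 q21503 (flp_a L744975) q22727, trivial⟩ (by decide +kernel)

theorem ce_a_336 : ∀ r, r < 64 → sm ga (Qf (21504 + r)) = Qf (tab Gen.a (21504 + r)) :=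
  edges_tab (sm ga) Qf (tab Gen.a) 21504 [(21504, 22981), (21505, 19817), (21506, 19818), (21507, 21945), (21508, 22810), (21509, 22378), (21510, 22379), (21511, 22385), (21512, 22386), (21513, 22728), (21514, 22982), (21515, 21956), (21516, 21960), (21517, 22387), (21518, 22388), (21519, 22123), (21520, 21957), (21521, 21961), (21522, 22389), (21523, 22375), (21524, 19819), (21525, 19812), (21526, 19813), (21527, 19814), (21528, 19825), (21529, 19841), (21530, 19861), (21531, 19862), (21532, 19864), (21533, 19865), (21534, 22533), (21535, 22677), (21536, 19871), (21537, 19876), (21538, 19796), (21539, 19797), (21540, 22524), (21541, 23028), (21542, 19889), (21543, 19890), (21544, 19894), (21545, 19899), (21546, 19803), (21547, 22525), (21548, 19927), (21549, 19809), (21550, 19810), (21551, 22734), (21552, 23035), (21553, 23036), (21554, 22681), (21555, 22667), (21556, 23017), (21557, 23018), (21558, 23019), (21559, 22576), (21560, 22577), (21561, 22570), (21562, 23002), (21563, 23003), (21564, 22537), (21565, 22678), (21566,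 22564), (21567, 22590)]
    ⟨e3 q21504 (flp_a L747079) q22981, e3 q21505 L731042 q19817, e3 q21506 L731053 q19818, e3 q21507 (flp_a L735980) q21945, e3 q21508 (flp_a L745805) q22810, e3 q21509 (flp_a L741261) q22378, e3 q21510 (flp_a L741270) q22379, e3 q21511 (flp_a L741344) q22385, e3 q21512 (flp_a L741356) q22386, e3 q21513 (flp_a L744989) q22728, e3 q21514 (flp_a L747087) q22982, e3 q21515 (flp_a L736125) q21956, e3 q21516 (flp_a L736176) q21960, e3 q21517 (flp_a L741366) q22387, e3 q21518 (flp_a L741378) q22388, e3 q21519 (flp_a L738374) q22123, e3 q21520 (flp_a L736140) q21957, e3 q21521 (flp_a L736191) q21961, e3 q21522 (flp_a L741392) q22389, e3 q21523 (flp_a L741231) q22375, e3 q21524 L731182 q19819, e3 q21525 L731193 q19812, e3 q21526 L731201 q19813, e3 q21527 L731209 q19814, e3 q21528 L731215 q19825, e3 q21529 L731225 q19841, e3 q21530 L731231 q19861, e3 q21531 L731241 q19862, e3 q21532 L731250 q19864, e3 q21533 L731257 q19865, e3 q21534 (flp_a L742994) q22533, e3 q21535 (flp_a L744411) q22677, e3 q21536 L731281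 q19871, e3 q21537 L731291 q19876, e3 q21538 L731297 q19796, e3 q21539 L731305 q19797, e3 q21540 (flp_a L742890) q22524, e3 q21541 (flp_a L747413) q23028, e3 q21542 L731327 q19889, e3 q21543 L731333 q19890, e3 q21544 L731339 q19894, e3 q21545 L731343 q19899, e3 q21546 L731347 q19803, e3 q21547 (flp_a L742902) q22525, e3 q21548 L731364 q19927, e3 q21549 L731372 q19809, e3 q21550 L731380 q19810, e3 q21551 (flp_a L745047) q22734, e3 q21552 (flp_a L747453) q23035, e3 q21553 (flp_a L747463) q23036, e3 q21554 (flp_a L744463) q22681, e3 q21555 (flp_a L744293) q22667, e3 q21556 (flp_a L747334) q23017, e3 q21557 (flp_a L747342) q23018, e3 q21558 (flp_a L747350) q23019, e3 q21559 (flp_a L743476) q22576, e3 q21560 (flp_a L743493) q22577, e3 q21561 (flp_a L743411) q22570, e3 q21562 (flp_a L747237) q23002, e3 q21563 (flp_a L747248) q23003, e3 q21564 (flp_a L743046) q22537, e3 q21565 (flp_a L744425) q22678, e3 q21566 (flp_a L743340) q22564, e3 q21567 (flp_a L743632) q22590, trivial⟩ (by decide +kernel)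

theorem ce_a_337 : ∀ r, r < 64 → sm ga (Qf (21568 + r)) = Qf (tab Gen.a (21568 + r)) :=
  edges_tab (sm ga) Qf (tab Gen.a) 21568 [(21568, 23020), (21569, 19830), (21570, 19831), (21571, 22292), (21572, 22582), (21573, 22584), (21574, 22837), (21575, 23053), (21576, 21789), (21577, 21929), (21578, 22668), (21579, 22680), (21580, 22666), (21581, 21784), (21582, 21790), (21583, 22615), (21584, 22614), (21585, 21787), (21586, 21793), (21587, 22713), (21588, 23021), (21589, 19844), (21590, 22869), (21591, 22627), (21592, 22864), (21593, 21955), (21594, 21785), (21595, 21791), (21596, 22640), (21597, 21788), (21598, 21801), (21599, 21794), (21600, 21798), (21601, 22841), (21602, 23022), (21603, 22696), (21604, 23023), (21605, 23024), (21606, 22536), (21607, 22538), (21608, 21987), (21609, 21984), (21610, 23026), (21611, 22528), (21612, 21803), (21613, 22697), (21614, 22714), (21615, 23027), (21616, 19883), (21617, 19884), (21618, 22526), (21619, 22527), (21620, 22801), (21621, 23096), (21622, 23097), (21623, 21815), (21624, 21816),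 (21625, 21930), (21626, 21969), (21627, 23031), (21628, 23032), (21629, 21806), (21630, 21818), (21631, 22719)]
    ⟨e3 q21568 (flp_a L747356) q23020, e3 q21569 L731521 q19830, e3 q21570 L731527 q19831, e3 q21571 (flp_a L740371) q22292, e3 q21572 (flp_a L743554) q22582, e3 q21573 (flp_a L743578) q22584, e3 q21574 (flp_a L746047) q22837, e3 q21575 (flp_a L747575) q23053, e3 q21576 (flp_a L733844) q21789, e3 q21577 (flp_a L735767) q21929, e3 q21578 (flp_a L744307) q22668, e3 q21579 (flp_a L744451) q22680, e3 q21580 (flp_a L744283) q22666, e3 q21581 (flp_a L733775) q21784, e3 q21582 (flp_a L733855) q21790, e3 q21583 (flp_a L743833) q22615, e3 q21584 (flp_a L743823) q22614, e3 q21585 (flp_a L733820) q21787, e3 q21586 (flp_a L733897) q21793, e3 q21587 (flp_a L744832) q22713, e3 q21588 (flp_a L747364) q23021, e3 q21589 L731653 q19844, e3 q21590 (flp_a L746299) q22869, e3 q21591 (flp_a L743927) q22627, e3 q21592 (flp_a L746260) q22864, e3 q21593 (flp_a L736112) q21955, e3 q21594 (flp_a L733791) q21785, e3 q21595 (flp_a L733869)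 q21791, e3 q21596 (flp_a L744041) q22640, e3 q21597 (flp_a L733830) q21788, e3 q21598 (flp_a L734006) q21801, e3 q21599 (flp_a L733909) q21794, e3 q21600 (flp_a L733966) q21798, e3 q21601 (flp_a L746081) q22841, e3 q21602 (flp_a L747370) q23022, e3 q21603 (flp_a L744646) q22696, e3 q21604 (flp_a L747380) q23023, e3 q21605 (flp_a L747387) q23024, e3 q21606 (flp_a L743034) q22536, e3 q21607 (flp_a L743058) q22538, e3 q21608 (flp_a L736548) q21987, e3 q21609 (flp_a L736500) q21984, e3 q21610 (flp_a L747401) q23026, e3 q21611 (flp_a L742948) q22528, e3 q21612 (flp_a L734038) q21803, e3 q21613 (flp_a L744663) q22697, e3 q21614 (flp_a L744844) q22714, e3 q21615 (flp_a L747407) q23027, e3 q21616 L731865 q19883, e3 q21617 L731873 q19884, e3 q21618 (flp_a L742916) q22526, e3 q21619 (flp_a L742934) q22527, e3 q21620 (flp_a L745729) q22801, e3 q21621 (flp_a L747884) q23096, e3 q21622 (flp_a L747892) q23097, e3 q21623 (flp_a L734216) q21815, e3 q21624 (flp_a L734228) q21816, e3 q21625 (flp_a L735780) q21930, e3 q21626 (flp_a L736296)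 q21969, e3 q21627 (flp_a L747431) q23031, e3 q21628 (flp_a L747439) q23032, e3 q21629 (flp_a L734087) q21806, e3 q21630 (flp_a L734256) q21818, e3 q21631 (flp_a L744902) q22719, trivial⟩ (by decide +kernel)

theorem ce_a_338 : ∀ r, r < 64 → sm ga (Qf (21632 + r)) = Qf (tab Gen.a (21632 + r)) :=
  edges_tab (sm ga) Qf (tab Gen.a) 21632 [(21632, 23033), (21633, 22541), (21634, 22540), (21635, 21810), (21636, 21821), (21637, 22721), (21638, 23118), (21639, 19903), (21640, 19904), (21641, 23119), (21642, 21996), (21643, 22036), (21644, 22548), (21645, 22547), (21646, 21804), (21647, 19913), (21648, 22814), (21649, 22006), (21650, 21831), (21651, 21807), (21652, 21819), (21653, 22720), (21654, 22555), (21655, 19997), (21656, 22013), (21657, 21824), (21658, 22546), (21659, 19944), (21660, 19970), (21661, 19988), (21662, 21845), (21663, 21846), (21664, 19940), (21665, 22735), (21666, 22766), (21667, 23136), (21668, 22679), (21669, 22665), (21670, 22355), (21671, 23132), (21672, 22565), (21673, 22343), (21674, 22663), (21675, 22664),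 (21676, 22410), (21677, 21952), (21678, 19983), (21679, 19971), (21680, 23133), (21681, 22726), (21682, 21848), (21683, 21849), (21684, 21931), (21685, 21970), (21686, 21949), (21687, 21850), (21688, 21843), (21689, 22028), (21690, 20000), (21691, 21852), (21692, 22040), (21693, 22037), (21694, 22042), (21695, 21853)]
    ⟨e3 q21632 (flp_a L747445) q23033, e3 q21633 (flp_a L743094) q22541, e3 q21634 (flp_a L743082) q22540, e3 q21635 (flp_a L734143) q21810, e3 q21636 (flp_a L734290) q21821, e3 q21637 (flp_a L744916) q22721, e3 q21638 L748000 q23118, e3 q21639 L732005 q19903, e3 q21640 L732015 q19904, e3 q21641 (flp_a L748004) q23119, e3 q21642 (flp_a L736624) q21996, e3 q21643 (flp_a L737124) q22036, e3 q21644 (flp_a L743161) q22548, e3 q21645 (flp_a L743149) q22547, e3 q21646 (flp_a L734056) q21804, e3 q21647 L732077 q19913, e3 q21648 (flp_a L745845) q22814, e3 q21649 (flp_a L736766) q22006, e3 q21650 (flp_a L734420) q21831, e3 q21651 (flp_a L734103) q21807, e3 q21652 (flp_a L734266) q21819, e3 q21653 (flp_a L744908) q22720,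 e3 q21654 (flp_a L743246) q22555, e3 q21655 L732133 q19997, e3 q21656 (flp_a L736839) q22013, e3 q21657 (flp_a L734328) q21824, e3 q21658 (flp_a L743134) q22546, e3 q21659 L732168 q19944, e3 q21660 L732175 q19970, e3 q21661 L732189 q19988, e3 q21662 (flp_a L734606) q21845, e3 q21663 (flp_a L734621) q21846, e3 q21664 L732222 q19940, e3 q21665 (flp_a L745059) q22735, e3 q21666 (flp_a L745369) q22766, e3 q21667 (flp_a L748142) q23136, e3 q21668 (flp_a L744439) q22679, e3 q21669 (flp_a L744272) q22665, e3 q21670 (flp_a L740997) q22355, e3 q21671 (flp_a L748109) q23132, e3 q21672 (flp_a L743354) q22565, e3 q21673 (flp_a L740866) q22343, e3 q21674 (flp_a L744246) q22663, e3 q21675 (flp_a L744259) q22664, e3 q21676 (flp_a L741627) q22410, e3 q21677 (flp_a L736067) q21952, e3 q21678 L732309 q19983, e3 q21679 L732321 q19971, e3 q21680 (flp_a L748114) q23133, e3 q21681 (flp_a L744964) q22726, e3 q21682 (flp_a L734652) q21848, e3 q21683 (flp_a L734664) q21849, e3 q21684 (flp_a L735792) q21931, e3 q21685 (flp_a L736308) q21970, e3 q21686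 (flp_a L736029) q21949, e3 q21687 (flp_a L734675) q21850, e3 q21688 (flp_a L734577) q21843, e3 q21689 (flp_a L737021) q22028, e3 q21690 L732408 q20000, e3 q21691 (flp_a L734696) q21852, e3 q21692 (flp_a L737172) q22040, e3 q21693 (flp_a L737138) q22037, e3 q21694 (flp_a L737194) q22042, e3 q21695 (flp_a L734709) q21853, trivial⟩ (by decide +kernel)

theorem ce_a_339 : ∀ r, r < 64 → sm ga (Qf (21696 + r)) = Qf (tab Gen.a (21696 + r)) :=
  edges_tab (sm ga) Qf (tab Gen.a) 21696 [(21696, 22038), (21697, 21851), (21698, 22725), (21699, 19998), (21700, 23131), (21701, 22778), (21702, 20374), (21703, 20434), (21704, 20446), (21705, 20443), (21706, 20447), (21707, 20449), (21708, 21104), (21709, 20395), (21710, 21359), (21711, 20442), (21712, 20425), (21713, 20658), (21714, 21115), (21715, 21116), (21716, 20668), (21717, 20674), (21718, 20675), (21719, 20699), (21720, 21452), (21721, 21462), (21722, 20695), (21723, 21448), (21724, 21461), (21725, 20700), (21726, 21453), (21727, 20716), (21728, 20727), (21729, 20044), (21730, 20495),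 (21731, 20502), (21732, 23172), (21733, 20712), (21734, 20722), (21735, 20717), (21736, 20728), (21737, 20052), (21738, 20507), (21739, 20721), (21740, 20730), (21741, 20734), (21742, 20558), (21743, 20559), (21744, 20537), (21745, 20089), (21746, 20097), (21747, 21117), (21748, 21118), (21749, 21126), (21750, 21127), (21751, 21134), (21752, 21135), (21753, 21136), (21754, 21139), (21755, 21140), (21756, 21449), (21757, 21113), (21758, 20517), (21759, 21431)]
    ⟨e3 q21696 (flp_a L737151) q22038, e3 q21697 (flp_a L734687) q21851, e3 q21698 (flp_a L744955) q22725, e3 q21699 L732465 q19998, e3 q21700 (flp_a L748098) q23131, e3 q21701 (flp_a L745486) q22778, e3 q21702 L732484 q20374, e3 q21703 L732502 q20434, e3 q21704 L732520 q20446, e3 q21705 L732540 q20443, e3 q21706 L732560 q20447, e3 q21707 L732576 q20449, e3 q21708 L732592 q21104, e3 q21709 L732609 q20395, e3 q21710 L732629 q21359, e3 q21711 L732649 q20442, e3 q21712 L732676 q20425, e3 q21713 L732682 q20658, e3 q21714 L732700 q21115, e3 q21715 L732716 q21116, e3 q21716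 L732734 q20668, e3 q21717 L732749 q20674, e3 q21718 L732765 q20675, e3 q21719 L732780 q20699, e3 q21720 L732798 q21452, e3 q21721 L732814 q21462, e3 q21722 L732832 q20695, e3 q21723 L732850 q21448, e3 q21724 L732866 q21461, e3 q21725 L732884 q20700, e3 q21726 L732898 q21453, e3 q21727 L732908 q20716, e3 q21728 L732924 q20727, e3 q21729 L732942 q20044, e3 q21730 L732960 q20495, e3 q21731 L732977 q20502, e3 q21732 (flp_a L748529) q23172, e3 q21733 L733008 q20712, e3 q21734 L733021 q20722, e3 q21735 L733037 q20717, e3 q21736 L733047 q20728, e3 q21737 L733061 q20052, e3 q21738 L733079 q20507, e3 q21739 L733097 q20721, e3 q21740 L733113 q20730, e3 q21741 L733126 q20734, e3 q21742 L733140 q20558, e3 q21743 L733158 q20559, e3 q21744 L733176 q20537, e3 q21745 L733196 q20089, e3 q21746 L733212 q20097, e3 q21747 L733232 q21117, e3 q21748 L733250 q21118, e3 q21749 L733268 q21126, e3 q21750 L733286 q21127, e3 q21751 L733300 q21134, e3 q21752 L733315 q21135, e3 q21753 L733329 q21136, e3 q21754 L733344 q21139, e3 q21755 L733358 q21140,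 e3 q21756 L733375 q21449, e3 q21757 L733389 q21113, e3 q21758 L733407 q20517, e3 q21759 L733425 q21431, trivial⟩ (by decide +kernel)

theorem ce_a_340 : ∀ r, r < 64 → sm ga (Qf (21760 + r)) = Qf (tab Gen.a (21760 + r)) :=
  edges_tab (sm ga) Qf (tab Gen.a) 21760 [(21760, 21437), (21761, 23181), (21762, 20518), (21763, 21432), (21764, 21438), (21765, 20711), (21766, 21114), (21767, 20525), (21768, 21459), (21769, 20618), (21770, 21465), (21771, 20745), (21772, 21467), (21773, 20632), (21774, 20252), (21775, 20253), (21776, 21029), (21777, 21238), (21778, 21239), (21779, 20926), (21780, 21240), (21781, 21241), (21782, 20244), (21783, 20245), (21784, 21581), (21785, 21594), (21786, 20951), (21787, 21585), (21788, 21597), (21789, 21576), (21790, 21582), (21791, 21595), (21792, 20952), (21793, 21586), (21794, 21599), (21795, 20959), (21796, 20967), (21797, 20973), (21798, 21600), (21799, 20968), (21800, 20974), (21801, 21598), (21802, 20975), (21803, 21612), (21804, 21646), (21805, 21016), (21806, 21629), (21807, 21651), (21808,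 20999), (21809, 21021), (21810, 21635), (21811, 21252), (21812, 21255), (21813, 21266), (21814, 21011), (21815, 21623), (21816, 21624), (21817, 21017), (21818, 21630), (21819, 21652), (21820, 21022), (21821, 21636), (21822, 21042), (21823, 21055)]
    ⟨e3 q21760 L733441 q21437, e3 q21761 (flp_a L748679) q23181, e3 q21762 L733463 q20518, e3 q21763 L733479 q21432, e3 q21764 L733491 q21438, e3 q21765 L733503 q20711, e3 q21766 L733517 q21114, e3 q21767 L733535 q20525, e3 q21768 L733549 q21459, e3 q21769 L733575 q20618, e3 q21770 L733581 q21465, e3 q21771 L733596 q20745, e3 q21772 L733609 q21467, e3 q21773 L733629 q20632, e3 q21774 L733635 q20252, e3 q21775 L733651 q20253, e3 q21776 L733674 q21029, e3 q21777 L733680 q21238, e3 q21778 L733692 q21239, e3 q21779 L733704 q20926, e3 q21780 L733717 q21240, e3 q21781 L733729 q21241, e3 q21782 L733742 q20244, e3 q21783 L733760 q20245, e3 q21784 L733775 q21581, e3 q21785 L733791 q21594, e3 q21786 L733806 q20951, e3 q21787 L733820 q21585, e3 q21788 L733830 q21597, e3 q21789 L733844 q21576,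 e3 q21790 L733855 q21582, e3 q21791 L733869 q21595, e3 q21792 L733883 q20952, e3 q21793 L733897 q21586, e3 q21794 L733909 q21599, e3 q21795 L733924 q20959, e3 q21796 L733938 q20967, e3 q21797 L733951 q20973, e3 q21798 L733966 q21600, e3 q21799 L733979 q20968, e3 q21800 L733993 q20974, e3 q21801 L734006 q21598, e3 q21802 L734022 q20975, e3 q21803 L734038 q21612, e3 q21804 L734056 q21646, e3 q21805 L734071 q21016, e3 q21806 L734087 q21629, e3 q21807 L734103 q21651, e3 q21808 L734117 q20999, e3 q21809 L734131 q21021, e3 q21810 L734143 q21635, e3 q21811 L734153 q21252, e3 q21812 L734169 q21255, e3 q21813 L734185 q21266, e3 q21814 L734201 q21011, e3 q21815 L734216 q21623, e3 q21816 L734228 q21624, e3 q21817 L734242 q21017, e3 q21818 L734256 q21630, e3 q21819 L734266 q21652, e3 q21820 L734278 q21022, e3 q21821 L734290 q21636, e3 q21822 L734300 q21042, e3 q21823 L734313 q21055, trivial⟩ (by decide +kernel)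

theorem ce_a_341 : ∀ r, r < 64 → sm ga (Qf (21824 + r)) = Qf (tab Gen.a (21824 + r)) :=
  edges_tab (sm ga) Qf (tab Gen.a) 21824 [(21824, 21657), (21825, 21034), (21826, 21048), (21827, 21058), (21828, 20817), (21829, 21043), (21830, 21056), (21831, 21650), (21832, 21049), (21833, 21059), (21834, 20976), (21835, 21057), (21836, 21212), (21837, 21061), (21838, 21066), (21839, 21072), (21840, 21067), (21841, 21068), (21842, 21229), (21843, 21688), (21844, 20907), (21845, 21662), (21846, 21663), (21847, 20824), (21848, 21682), (21849, 21683), (21850, 21687), (21851, 21697), (21852, 21691), (21853, 21695), (21854, 20828), (21855, 20829), (21856, 20830), (21857, 20831), (21858, 20832), (21859, 20742), (21860, 20833), (21861, 20834), (21862, 20835), (21863, 20836), (21864, 20837), (21865, 20838), (21866, 20839), (21867, 20840), (21868, 20841), (21869, 20808), (21870, 20842), (21871, 20843), (21872, 20844), (21873, 20815), (21874, 20819), (21875, 20823), (21876, 20249), (21877, 20250), (21878, 20251), (21879, 20258), (21880, 20259),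 (21881, 20262), (21882, 20264), (21883, 20265), (21884, 20267), (21885, 20268), (21886, 20277), (21887, 20280)]
    ⟨e3 q21824 L734328 q21657, e3 q21825 L734341 q21034, e3 q21826 L734354 q21048, e3 q21827 L734364 q21058, e3 q21828 L734377 q20817, e3 q21829 L734395 q21043, e3 q21830 L734409 q21056, e3 q21831 L734420 q21650, e3 q21832 L734432 q21049, e3 q21833 L734444 q21059, e3 q21834 L734454 q20976, e3 q21835 L734470 q21057, e3 q21836 L734486 q21212, e3 q21837 L734503 q21061, e3 q21838 L734518 q21066, e3 q21839 L734529 q21072, e3 q21840 L734542 q21067, e3 q21841 L734552 q21068, e3 q21842 L734571 q21229, e3 q21843 L734577 q21688, e3 q21844 L734592 q20907, e3 q21845 L734606 q21662, e3 q21846 L734621 q21663, e3 q21847 L734637 q20824, e3 q21848 L734652 q21682, e3 q21849 L734664 q21683, e3 q21850 L734675 q21687, e3 q21851 L734687 q21697, e3 q21852 L734696 q21691, e3 q21853 L734709 q21695, e3 q21854 L734719 q20828, e3 q21855 L734737 q20829, e3 q21856 L734753 q20830, e3 q21857 L734769 q20831, e3 q21858 L734785 q20832, e3 q21859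 L734802 q20742, e3 q21860 L734816 q20833, e3 q21861 L734830 q20834, e3 q21862 L734843 q20835, e3 q21863 L734859 q20836, e3 q21864 L734872 q20837, e3 q21865 L734886 q20838, e3 q21866 L734898 q20839, e3 q21867 L734915 q20840, e3 q21868 L734929 q20841, e3 q21869 L734943 q20808, e3 q21870 L734961 q20842, e3 q21871 L734971 q20843, e3 q21872 L734986 q20844, e3 q21873 L735001 q20815, e3 q21874 L735017 q20819, e3 q21875 L735035 q20823, e3 q21876 L735050 q20249, e3 q21877 L735067 q20250, e3 q21878 L735081 q20251, e3 q21879 L735096 q20258, e3 q21880 L735108 q20259, e3 q21881 L735122 q20262, e3 q21882 L735139 q20264, e3 q21883 L735155 q20265, e3 q21884 L735171 q20267, e3 q21885 L735187 q20268, e3 q21886 L735197 q20277, e3 q21887 L735214 q20280, trivial⟩ (by decide +kernel)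

theorem ce_a_342 : ∀ r, r < 64 → sm ga (Qf (21888 + r)) = Qf (tab Gen.a (21888 + r)) :=
  edges_tab (sm ga) Qf (tab Gen.a) 21888 [(21888, 20281), (21889, 20288), (21890, 20289), (21891, 20290), (21892, 20298), (21893, 20309), (21894, 20310), (21895, 20311), (21896, 20312), (21897, 20313), (21898, 20314), (21899, 20330), (21900, 20331), (21901, 20332), (21902, 20339), (21903, 20340), (21904, 20346), (21905, 20347), (21906, 20349), (21907, 20351), (21908, 20366), (21909, 20639), (21910, 21278), (21911, 21335), (21912, 21423), (21913, 23213), (21914, 23214), (21915, 20246), (21916, 23334), (21917, 23335), (21918, 21253), (21919, 21296), (21920, 21298), (21921, 21343), (21922, 23301), (21923, 23302), (21924, 23202), (21925, 23203), (21926, 23204), (21927, 20989), (21928, 21026), (21929, 21577), (21930, 21625), (21931, 21684), (21932, 20693), (21933, 21446), (21934, 23303), (21935, 21005), (21936, 21008), (21937, 21040), (21938, 20877), (21939, 21234), (21940, 23304), (21941, 20878), (21942, 23305), (21943, 23306), (21944, 21495),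 (21945, 21507), (21946, 23307), (21947, 23308), (21948, 21027), (21949, 21686), (21950, 20746), (21951, 21472)]
    ⟨e3 q21888 L735230 q20281, e3 q21889 L735247 q20288, e3 q21890 L735260 q20289, e3 q21891 L735274 q20290, e3 q21892 L735287 q20298, e3 q21893 L735299 q20309, e3 q21894 L735315 q20310, e3 q21895 L735331 q20311, e3 q21896 L735349 q20312, e3 q21897 L735365 q20313, e3 q21898 L735377 q20314, e3 q21899 L735385 q20330, e3 q21900 L735401 q20331, e3 q21901 L735415 q20332, e3 q21902 L735427 q20339, e3 q21903 L735442 q20340, e3 q21904 L735458 q20346, e3 q21905 L735475 q20347, e3 q21906 L735488 q20349, e3 q21907 L735501 q20351, e3 q21908 L735515 q20366, e3 q21909 L735540 q20639, e3 q21910 L735546 q21278, e3 q21911 L735558 q21335, e3 q21912 L735570 q21423, e3 q21913 (flp_a L749158) q23213, e3 q21914 (flp_a L749176) q23214, e3 q21915 (flp_a L735604) q20246, e3 q21916 (flp_a L750903) q23334, e3 q21917 (flp_a L750921) q23335, e3 q21918 L735640 q21253, e3 q21919 L735651 q21296, e3 q21920 L735662 q21298, e3 q21921 L735672 q21343,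 e3 q21922 (flp_a L750416) q23301, e3 q21923 (flp_a L750433) q23302, e3 q21924 (flp_a L748992) q23202, e3 q21925 (flp_a L749009) q23203, e3 q21926 (flp_a L749025) q23204, e3 q21927 L735738 q20989, e3 q21928 L735754 q21026, e3 q21929 L735767 q21577, e3 q21930 L735780 q21625, e3 q21931 L735792 q21684, e3 q21932 L735804 q20693, e3 q21933 L735818 q21446, e3 q21934 (flp_a L750447) q23303, e3 q21935 L735842 q21005, e3 q21936 L735859 q21008, e3 q21937 L735873 q21040, e3 q21938 L735887 q20877, e3 q21939 L735903 q21234, e3 q21940 (flp_a L750461) q23304, e3 q21941 L735927 q20878, e3 q21942 (flp_a L750478) q23305, e3 q21943 (flp_a L750496) q23306, e3 q21944 L735962 q21495, e3 q21945 L735980 q21507, e3 q21946 (flp_a L750513) q23307, e3 q21947 (flp_a L750531) q23308, e3 q21948 L736014 q21027, e3 q21949 L736029 q21686, e3 q21950 L736039 q20746, e3 q21951 L736053 q21472, trivial⟩ (by decide +kernel)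

theorem ce_a_343 : ∀ r, r < 64 → sm ga (Qf (21952 + r)) = Qf (tab Gen.a (21952 + r)) :=
  edges_tab (sm ga) Qf (tab Gen.a) 21952 [(21952, 21677), (21953, 21041), (21954, 20879), (21955, 21593), (21956, 21515), (21957, 21520), (21958, 23309), (21959, 21265), (21960, 21516), (21961, 21521), (21962, 20692), (21963, 23310), (21964, 23311), (21965, 20292), (21966, 20293), (21967, 23383), (21968, 23384), (21969, 21626), (21970, 21685), (21971, 20680), (21972, 20694), (21973, 21447), (21974, 23312), (21975, 20301), (21976, 20303), (21977, 20304), (21978, 21300), (21979, 23393), (21980, 20943), (21981, 23394), (21982, 23395), (21983, 21235), (21984, 21609), (21985, 20979), (21986, 21079), (21987, 21608), (21988, 23313), (21989, 23314), (21990, 23315), (21991, 23316), (21992, 23317), (21993, 23318), (21994, 20316), (21995, 23414), (21996, 21642), (21997, 20736), (21998, 20747), (21999, 21473), (22000, 21314), (22001, 20325), (22002, 20944), (22003, 21162), (22004, 21073), (22005, 21010), (22006, 21649), (22007, 23319), (22008, 23320),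 (22009, 21294), (22010, 23321), (22011, 21208), (22012, 21028), (22013, 21656), (22014, 23322), (22015, 20737)]
    ⟨e3 q21952 L736067 q21677, e3 q21953 L736079 q21041, e3 q21954 L736094 q20879, e3 q21955 L736112 q21593, e3 q21956 L736125 q21515, e3 q21957 L736140 q21520, e3 q21958 (flp_a L750541) q23309, e3 q21959 L736163 q21265, e3 q21960 L736176 q21516, e3 q21961 L736191 q21521, e3 q21962 L736206 q20692, e3 q21963 (flp_a L750558) q23310, e3 q21964 (flp_a L750573) q23311, e3 q21965 L736238 q20292, e3 q21966 L736256 q20293, e3 q21967 (flp_a L751535) q23383, e3 q21968 (flp_a L751553) q23384, e3 q21969 L736296 q21626, e3 q21970 L736308 q21685, e3 q21971 L736318 q20680, e3 q21972 L736334 q20694, e3 q21973 L736348 q21447, e3 q21974 (flp_a L750585) q23312, e3 q21975 L736368 q20301, e3 q21976 L736386 q20303, e3 q21977 L736400 q20304, e3 q21978 L736414 q21300, e3 q21979 (flp_a L751653) q23393, e3 q21980 L736448 q20943, e3 q21981 (flp_a L751671) q23394, e3 q21982 (flp_a L751687) q23395, e3 q21983 L736486 q21235, e3 q21984 L736500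 q21609, e3 q21985 L736514 q20979, e3 q21986 L736532 q21079, e3 q21987 L736548 q21608, e3 q21988 (flp_a L750597) q23313, e3 q21989 (flp_a L750611) q23314, e3 q21990 (flp_a L750627) q23315, e3 q21991 (flp_a L750645) q23316, e3 q21992 (flp_a L750661) q23317, e3 q21993 (flp_a L750671) q23318, e3 q21994 L736600 q20316, e3 q21995 (flp_a L751895) q23414, e3 q21996 L736624 q21642, e3 q21997 L736635 q20736, e3 q21998 L736650 q20747, e3 q21999 L736661 q21473, e3 q22000 L736673 q21314, e3 q22001 L736684 q20325, e3 q22002 L736700 q20944, e3 q22003 L736718 q21162, e3 q22004 L736734 q21073, e3 q22005 L736750 q21010, e3 q22006 L736766 q21649, e3 q22007 (flp_a L750679) q23319, e3 q22008 (flp_a L750695) q23320, e3 q22009 L736792 q21294, e3 q22010 (flp_a L750711) q23321, e3 q22011 L736816 q21208, e3 q22012 L736822 q21028, e3 q22013 L736839 q21656, e3 q22014 (flp_a L750723) q23322, e3 q22015 L736866 q20737, trivial⟩ (by decide +kernel)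

theorem ce_a_344 : ∀ r, r < 64 → sm ga (Qf (22016 + r)) = Qf (tab Gen.a (22016 + r)) :=
  edges_tab (sm ga) Qf (tab Gen.a) 22016 [(22016, 20748), (22017, 21334), (22018, 21474), (22019, 21227), (22020, 23323), (22021, 20362), (22022, 23324), (22023, 21222), (22024, 21342), (22025, 20368), (22026, 20354), (22027, 23433), (22028, 21689), (22029, 20360), (22030, 20361), (22031, 21323), (22032, 23440), (22033, 23441), (22034, 23435), (22035, 21236), (22036, 21643), (22037, 21693), (22038, 21696), (22039, 21167), (22040, 21692), (22041, 21164), (22042, 21694), (22043, 20427), (22044, 20388), (22045, 20390), (22046, 20392), (22047, 20393), (22048, 20396), (22049, 20398), (22050, 20436), (22051, 23451), (22052, 21102), (22053, 23452), (22054, 21363), (22055, 20439), (22056, 21361), (22057, 20438), (22058, 20430), (22059, 21357), (22060, 20428), (22061, 20429), (22062, 20437), (22063, 20432), (22064, 20433), (22065, 20435), (22066, 20419), (22067, 23160), (22068, 20444), (22069, 20445), (22070, 20448), (22071, 20450), (22072, 21354),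 (22073, 23456), (22074, 23454), (22075, 21352), (22076, 21364), (22077, 23458), (22078, 23158), (22079, 23459)]
    ⟨e3 q22016 L736882 q20748, e3 q22017 L736894 q21334, e3 q22018 L736907 q21474, e3 q22019 L736926 q21227, e3 q22020 (flp_a L750740) q23323, e3 q22021 L736941 q20362, e3 q22022 (flp_a L750755) q23324, e3 q22023 L736968 q21222, e3 q22024 L736974 q21342, e3 q22025 L736981 q20368, e3 q22026 L736995 q20354, e3 q22027 (flp_a L752155) q23433, e3 q22028 L737021 q21689, e3 q22029 L737030 q20360, e3 q22030 L737046 q20361, e3 q22031 L737063 q21323, e3 q22032 (flp_a L752234) q23440, e3 q22033 (flp_a L752250) q23441, e3 q22034 (flp_a L752181) q23435, e3 q22035 L737110 q21236, e3 q22036 L737124 q21643, e3 q22037 L737138 q21693, e3 q22038 L737151 q21696, e3 q22039 L737158 q21167, e3 q22040 L737172 q21692, e3 q22041 L737181 q21164, e3 q22042 L737194 q21694, e3 q22043 L737207 q20427, e3 q22044 L737227 q20388, e3 q22045 L737247 q20390, e3 q22046 L737265 q20392, e3 q22047 L737283 q20393, e3 q22048 L737303 q20396, e3 q22049 L737321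 q20398, e3 q22050 L737339 q20436, e3 q22051 (flp_a L752386) q23451, e3 q22052 L737368 q21102, e3 q22053 (flp_a L752405) q23452, e3 q22054 L737395 q21363, e3 q22055 L737413 q20439, e3 q22056 L737429 q21361, e3 q22057 L737447 q20438, e3 q22058 L737465 q20430, e3 q22059 L737483 q21357, e3 q22060 L737496 q20428, e3 q22061 L737516 q20429, e3 q22062 L737534 q20437, e3 q22063 L737552 q20432, e3 q22064 L737572 q20433, e3 q22065 L737583 q20435, e3 q22066 L737592 q20419, e3 q22067 (flp_a L748346) q23160, e3 q22068 L737622 q20444, e3 q22069 L737633 q20445, e3 q22070 L737645 q20448, e3 q22071 L737659 q20450, e3 q22072 L737675 q21354, e3 q22073 (flp_a L752481) q23456, e3 q22074 (flp_a L752443) q23454, e3 q22075 L737713 q21352, e3 q22076 L737730 q21364, e3 q22077 (flp_a L752519) q23458, e3 q22078 (flp_a L748293) q23158, e3 q22079 (flp_a L752538) q23459, trivial⟩ (by decide +kernel)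

theorem ce_a_345 : ∀ r, r < 64 → sm ga (Qf (22080 + r)) = Qf (tab Gen.a (22080 + r)) :=
  edges_tab (sm ga) Qf (tab Gen.a) 22080 [(22080, 23453), (22081, 23457), (22082, 21351), (22083, 23159), (22084, 21358), (22085, 23462), (22086, 23463), (22087, 23460), (22088, 20645), (22089, 20646), (22090, 21128), (22091, 21137), (22092, 21141), (22093, 20493), (22094, 20494), (22095, 20496), (22096, 20497), (22097, 20498), (22098, 20499), (22099, 20500), (22100, 20501), (22101, 20503), (22102, 20505), (22103, 20506), (22104, 20509), (22105, 20512), (22106, 20513), (22107, 20514), (22108, 20515), (22109, 20516), (22110, 20520), (22111, 20521), (22112, 20523), (22113, 20524), (22114, 20526), (22115, 20528), (22116, 20529), (22117, 20540), (22118, 20546), (22119, 21387), (22120, 21400), (22121, 21492), (22122, 21502), (22123, 21519), (22124, 23469), (22125, 23470), (22126, 20677), (22127, 23173), (22128, 23287), (22129, 23471), (22130, 23472), (22131, 21120), (22132, 23473), (22133, 23474), (22134, 23174), (22135, 23475), (22136, 21132),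 (22137, 23476), (22138, 23477), (22139, 21430), (22140, 21411), (22141, 21133), (22142, 21138), (22143, 21383)]
    ⟨e3 q22080 (flp_a L752424) q23453, e3 q22081 (flp_a L752500) q23457, e3 q22082 L737795 q21351, e3 q22083 (flp_a L748312) q23159, e3 q22084 L737824 q21358, e3 q22085 (flp_a L752597) q23462, e3 q22086 (flp_a L752616) q23463, e3 q22087 (flp_a L752557) q23460, e3 q22088 L737861 q20645, e3 q22089 L737879 q20646, e3 q22090 L737893 q21128, e3 q22091 L737909 q21137, e3 q22092 L737923 q21141, e3 q22093 L737937 q20493, e3 q22094 L737955 q20494, e3 q22095 L737971 q20496, e3 q22096 L737987 q20497, e3 q22097 L738002 q20498, e3 q22098 L738020 q20499, e3 q22099 L738032 q20500, e3 q22100 L738046 q20501, e3 q22101 L738062 q20503, e3 q22102 L738078 q20505, e3 q22103 L738093 q20506, e3 q22104 L738109 q20509, e3 q22105 L738124 q20512, e3 q22106 L738139 q20513, e3 q22107 L738157 q20514, e3 q22108 L738173 q20515, e3 q22109 L738187 q20516, e3 q22110 L738199 q20520, e3 q22111 L738215 q20521, e3 q22112 L738227 q20523, e3 q22113 L738245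 q20524, e3 q22114 L738253 q20526, e3 q22115 L738269 q20528, e3 q22116 L738283 q20529, e3 q22117 L738299 q20540, e3 q22118 L738314 q20546, e3 q22119 L738329 q21387, e3 q22120 L738339 q21400, e3 q22121 L738349 q21492, e3 q22122 L738362 q21502, e3 q22123 L738374 q21519, e3 q22124 (flp_a L752723) q23469, e3 q22125 (flp_a L752741) q23470, e3 q22126 L738411 q20677, e3 q22127 (flp_a L748549) q23173, e3 q22128 (flp_a L750201) q23287, e3 q22129 (flp_a L752759) q23471, e3 q22130 (flp_a L752775) q23472, e3 q22131 L738473 q21120, e3 q22132 (flp_a L752791) q23473, e3 q22133 (flp_a L752809) q23474, e3 q22134 (flp_a L748566) q23174, e3 q22135 (flp_a L752821) q23475, e3 q22136 L738526 q21132, e3 q22137 (flp_a L752838) q23476, e3 q22138 (flp_a L752854) q23477, e3 q22139 L738556 q21430, e3 q22140 L738571 q21411, e3 q22141 L738586 q21133, e3 q22142 L738602 q21138, e3 q22143 L738617 q21383, trivial⟩ (by decide +kernel)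

theorem ce_a_346 : ∀ r, r < 64 → sm ga (Qf (22144 + r)) = Qf (tab Gen.a (22144 + r)) :=
  edges_tab (sm ga) Qf (tab Gen.a) 22144 [(22144, 23478), (22145, 23479), (22146, 23480), (22147, 23190), (22148, 23194), (22149, 20800), (22150, 23481), (22151, 23482), (22152, 21435), (22153, 23483), (22154, 23484), (22155, 21460), (22156, 20707), (22157, 21436), (22158, 23485), (22159, 20705), (22160, 21131), (22161, 21456), (22162, 21466), (22163, 20738), (22164, 23486), (22165, 21476), (22166, 20811), (22167, 20821), (22168, 23487), (22169, 20729), (22170, 21121), (22171, 21122), (22172, 21443), (22173, 21458), (22174, 20649), (22175, 20662), (22176, 20795), (22177, 21421), (22178, 21422), (22179, 23180), (22180, 20663), (22181, 21428), (22182, 20637), (22183, 20638), (22184, 20640), (22185, 20641), (22186, 20642), (22187, 20643), (22188, 20644), (22189, 20647), (22190, 20648), (22191, 20650), (22192, 20651), (22193, 20681), (22194, 20703), (22195, 20654), (22196, 20655), (22197, 20656), (22198, 20657), (22199, 20659), (22200, 20660),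 (22201, 20661), (22202, 20704), (22203, 20665), (22204, 20666), (22205, 20667), (22206, 20669), (22207, 20670)]
    ⟨e3 q22144 (flp_a L752871) q23478, e3 q22145 (flp_a L752889) q23479, e3 q22146 (flp_a L752907) q23480, e3 q22147 (flp_a L748821) q23190, e3 q22148 (flp_a L748873) q23194, e3 q22149 L738694 q20800, e3 q22150 (flp_a L752919) q23481, e3 q22151 (flp_a L752933) q23482, e3 q22152 L738728 q21435, e3 q22153 (flp_a L752949) q23483, e3 q22154 (flp_a L752965) q23484, e3 q22155 L738758 q21460, e3 q22156 L738774 q20707, e3 q22157 L738790 q21436, e3 q22158 (flp_a L752975) q23485, e3 q22159 L738808 q20705, e3 q22160 L738824 q21131, e3 q22161 L738840 q21456, e3 q22162 L738856 q21466, e3 q22163 L738871 q20738, e3 q22164 (flp_a L752991) q23486, e3 q22165 L738893 q21476, e3 q22166 L738908 q20811, e3 q22167 L738922 q20821, e3 q22168 (flp_a L753008) q23487, e3 q22169 L738942 q20729, e3 q22170 L738955 q21121, e3 q22171 L738969 q21122, e3 q22172 L738985 q21443, e3 q22173 L738999 q21458, e3 q22174 L739009 q20649, e3 q22175 L739025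 q20662, e3 q22176 L739040 q20795, e3 q22177 L739055 q21421, e3 q22178 L739065 q21422, e3 q22179 (flp_a L748661) q23180, e3 q22180 L739085 q20663, e3 q22181 L739101 q21428, e3 q22182 L739110 q20637, e3 q22183 L739126 q20638, e3 q22184 L739141 q20640, e3 q22185 L739155 q20641, e3 q22186 L739169 q20642, e3 q22187 L739182 q20643, e3 q22188 L739194 q20644, e3 q22189 L739207 q20647, e3 q22190 L739225 q20648, e3 q22191 L739238 q20650, e3 q22192 L739246 q20651, e3 q22193 L739256 q20681, e3 q22194 L739272 q20703, e3 q22195 L739287 q20654, e3 q22196 L739298 q20655, e3 q22197 L739316 q20656, e3 q22198 L739326 q20657, e3 q22199 L739338 q20659, e3 q22200 L739346 q20660, e3 q22201 L739356 q20661, e3 q22202 L739372 q20704, e3 q22203 L739388 q20665, e3 q22204 L739404 q20666, e3 q22205 L739422 q20667, e3 q22206 L739431 q20669, e3 q22207 L739439 q20670, trivial⟩ (by decide +kernel)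

theorem ce_a_347 : ∀ r, r < 64 → sm ga (Qf (22208 + r)) = Qf (tab Gen.a (22208 + r)) :=
  edges_tab (sm ga) Qf (tab Gen.a) 22208 [(22208, 21397), (22209, 20673), (22210, 20676), (22211, 20678), (22212, 20679), (22213, 20682), (22214, 20683), (22215, 20599), (22216, 20684), (22217, 20685), (22218, 20600), (22219, 23564), (22220, 23567), (22221, 20696), (22222, 20697), (22223, 20698), (22224, 20701), (22225, 20702), (22226, 20706), (22227, 20610), (22228, 23198), (22229, 20713), (22230, 20714), (22231, 20715), (22232, 20718), (22233, 20719), (22234, 20726), (22235, 21399), (22236, 20724), (22237, 20725), (22238, 20629), (22239, 20731), (22240, 20732), (22241, 23200), (22242, 20749), (22243, 20733), (22244, 21405), (22245, 20751), (22246, 21289), (22247, 21339), (22248, 23531), (22249, 23538), (22250, 23539), (22251, 23325), (22252, 23326), (22253, 23540), (22254, 23541), (22255, 23542), (22256, 23543), (22257, 23544), (22258, 23545), (22259, 23466), (22260, 23467), (22261, 20983), (22262, 23546), (22263, 23547), (22264, 23532),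 (22265, 23548), (22266, 21386), (22267, 21389), (22268, 21394), (22269, 23331), (22270, 23551), (22271, 23552)]
    ⟨e3 q22208 L739448 q21397, e3 q22209 L739463 q20673, e3 q22210 L739478 q20676, e3 q22211 L739493 q20678, e3 q22212 L739505 q20679, e3 q22213 L739513 q20682, e3 q22214 L739523 q20683, e3 q22215 L739533 q20599, e3 q22216 L739551 q20684, e3 q22217 L739565 q20685, e3 q22218 L739573 q20600, e3 q22219 (flp_a L754047) q23564, e3 q22220 (flp_a L754085) q23567, e3 q22221 L739607 q20696, e3 q22222 L739617 q20697, e3 q22223 L739627 q20698, e3 q22224 L739637 q20701, e3 q22225 L739645 q20702, e3 q22226 L739653 q20706, e3 q22227 L739663 q20610, e3 q22228 (flp_a L748943) q23198, e3 q22229 L739689 q20713, e3 q22230 L739697 q20714, e3 q22231 L739706 q20715, e3 q22232 L739718 q20718, e3 q22233 L739726 q20719, e3 q22234 L739740 q20726, e3 q22235 L739756 q21399, e3 q22236 L739772 q20724, e3 q22237 L739787 q20725, e3 q22238 L739802 q20629, e3 q22239 L739818 q20731, e3 q22240 L739830 q20732, e3 q22241 (flp_a L748975) q23200, e3 q22242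 L739848 q20749, e3 q22243 L739855 q20733, e3 q22244 L739869 q21405, e3 q22245 L739883 q20751, e3 q22246 L739893 q21289, e3 q22247 L739905 q21339, e3 q22248 (flp_a L753587) q23531, e3 q22249 (flp_a L753682) q23538, e3 q22250 (flp_a L753698) q23539, e3 q22251 (flp_a L750770) q23325, e3 q22252 (flp_a L750788) q23326, e3 q22253 (flp_a L753715) q23540, e3 q22254 (flp_a L753732) q23541, e3 q22255 (flp_a L753749) q23542, e3 q22256 (flp_a L753763) q23543, e3 q22257 (flp_a L753778) q23544, e3 q22258 (flp_a L753791) q23545, e3 q22259 (flp_a L752673) q23466, e3 q22260 (flp_a L752691) q23467, e3 q22261 L740051 q20983, e3 q22262 (flp_a L753803) q23546, e3 q22263 (flp_a L753821) q23547, e3 q22264 (flp_a L753604) q23532, e3 q22265 (flp_a L753835) q23548, e3 q22266 L740104 q21386, e3 q22267 L740119 q21389, e3 q22268 L740135 q21394, e3 q22269 (flp_a L750861) q23331, e3 q22270 (flp_a L753877) q23551, e3 q22271 (flp_a L753890) q23552, trivial⟩ (by decide +kernel)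

theorem ce_a_348 : ∀ r, r < 64 → sm ga (Qf (22272 + r)) = Qf (tab Gen.a (22272 + r)) :=
  edges_tab (sm ga) Qf (tab Gen.a) 22272 [(22272, 23553), (22273, 23554), (22274, 23161), (22275, 23555), (22276, 23556), (22277, 23507), (22278, 23533), (22279, 23504), (22280, 21395), (22281, 23558), (22282, 21464), (22283, 23559), (22284, 23163), (22285, 23560), (22286, 23561), (22287, 21398), (22288, 23164), (22289, 23495), (22290, 23562), (22291, 23379), (22292, 21571), (22293, 23389), (22294, 23549), (22295, 23563), (22296, 23521), (22297, 23565), (22298, 23566), (22299, 20688), (22300, 20690), (22301, 20691), (22302, 21378), (22303, 23285), (22304, 23639), (22305, 21379), (22306, 23640), (22307, 23196), (22308, 23344), (22309, 23380), (22310, 23352), (22311, 23390), (22312, 23167), (22313, 23570), (22314, 23571), (22315, 23572), (22316, 23165), (22317, 23169), (22318, 23573), (22319, 23574), (22320, 23550), (22321, 23557), (22322, 23519), (22323, 21380), (22324, 21382), (22325, 23177), (22326, 23175), (22327, 23577), (22328, 23578),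 (22329, 23579), (22330, 23580), (22331, 23171), (22332, 23176), (22333, 23581), (22334, 23582), (22335, 23575)]
    ⟨e3 q22272 (flp_a L753908) q23553, e3 q22273 (flp_a L753920) q23554, e3 q22274 (flp_a L748352) q23161, e3 q22275 (flp_a L753931) q23555, e3 q22276 (flp_a L753941) q23556, e3 q22277 (flp_a L753274) q23507, e3 q22278 (flp_a L753620) q23533, e3 q22279 (flp_a L753234) q23504, e3 q22280 L740252 q21395, e3 q22281 (flp_a L753966) q23558, e3 q22282 L740277 q21464, e3 q22283 (flp_a L753984) q23559, e3 q22284 (flp_a L748386) q23163, e3 q22285 (flp_a L754001) q23560, e3 q22286 (flp_a L754010) q23561, e3 q22287 L740318 q21398, e3 q22288 (flp_a L748402) q23164, e3 q22289 (flp_a L753117) q23495, e3 q22290 (flp_a L754027) q23562, e3 q22291 (flp_a L751486) q23379, e3 q22292 L740371 q21571, e3 q22293 (flp_a L751609) q23389, e3 q22294 (flp_a L753845) q23549, e3 q22295 (flp_a L754037) q23563, e3 q22296 (flp_a L753446) q23521, e3 q22297 (flp_a L754065) q23565, e3 q22298 (flp_a L754077) q23566, e3 q22299 L740445 q20688, e3 q22300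 L740461 q20690, e3 q22301 L740475 q20691, e3 q22302 L740489 q21378, e3 q22303 (flp_a L750169) q23285, e3 q22304 (flp_a L754888) q23639, e3 q22305 L740528 q21379, e3 q22306 (flp_a L754906) q23640, e3 q22307 (flp_a L748905) q23196, e3 q22308 (flp_a L751021) q23344, e3 q22309 (flp_a L751503) q23380, e3 q22310 (flp_a L751129) q23352, e3 q22311 (flp_a L751625) q23390, e3 q22312 (flp_a L748453) q23167, e3 q22313 (flp_a L754121) q23570, e3 q22314 (flp_a L754131) q23571, e3 q22315 (flp_a L754137) q23572, e3 q22316 (flp_a L748419) q23165, e3 q22317 (flp_a L748487) q23169, e3 q22318 (flp_a L754145) q23573, e3 q22319 (flp_a L754153) q23574, e3 q22320 (flp_a L753861) q23550, e3 q22321 (flp_a L753949) q23557, e3 q22322 (flp_a L753416) q23519, e3 q22323 L740687 q21380, e3 q22324 L740701 q21382, e3 q22325 (flp_a L748614) q23177, e3 q22326 (flp_a L748584) q23175, e3 q22327 (flp_a L754197) q23577, e3 q22328 (flp_a L754208) q23578, e3 q22329 (flp_a L754225) q23579, e3 q22330 (flp_a L754242) q23580, e3 q22331 (flp_a L748511) q23171, e3 q22332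 (flp_a L748600) q23176, e3 q22333 (flp_a L754252) q23581, e3 q22334 (flp_a L754264) q23582, e3 q22335 (flp_a L754161) q23575, trivial⟩ (by decide +kernel)

theorem ce_a_349 : ∀ r, r < 64 → sm ga (Qf (22336 + r)) = Qf (tab Gen.a (22336 + r)) :=
  edges_tab (sm ga) Qf (tab Gen.a) 22336 [(22336, 21384), (22337, 21429), (22338, 23528), (22339, 23178), (22340, 23179), (22341, 23584), (22342, 23583), (22343, 21673), (22344, 23417), (22345, 23429), (22346, 23524), (22347, 20743), (22348, 20744), (22349, 23286), (22350, 23679), (22351, 23680), (22352, 23201), (22353, 23370), (22354, 23418), (22355, 21670), (22356, 23430), (22357, 23586), (22358, 21305), (22359, 21327), (22360, 21301), (22361, 21324), (22362, 21306), (22363, 21331), (22364, 21332), (22365, 20796), (22366, 20797), (22367, 20801), (22368, 20809), (22369, 20810), (22370, 20812), (22371, 20816), (22372, 20825), (22373, 21498), (22374, 21499), (22375, 21523), (22376, 21388), (22377, 21401), (22378, 21509), (22379, 21510), (22380, 21489), (22381, 21490), (22382, 21491),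 (22383, 21500), (22384, 21501), (22385, 21511), (22386, 21512), (22387, 21517), (22388, 21518), (22389, 21522), (22390, 21484), (22391, 21485), (22392, 23534), (22393, 23694), (22394, 21486), (22395, 23513), (22396, 23695), (22397, 21259), (22398, 21483), (22399, 21487)]
    ⟨e3 q22336 L740795 q21384, e3 q22337 L740810 q21429, e3 q22338 (flp_a L753546) q23528, e3 q22339 (flp_a L748632) q23178, e3 q22340 (flp_a L748646) q23179, e3 q22341 (flp_a L754283) q23584, e3 q22342 (flp_a L754270) q23583, e3 q22343 L740866 q21673, e3 q22344 (flp_a L751939) q23417, e3 q22345 (flp_a L752100) q23429, e3 q22346 (flp_a L753485) q23524, e3 q22347 L740904 q20743, e3 q22348 L740919 q20744, e3 q22349 (flp_a L750187) q23286, e3 q22350 (flp_a L755265) q23679, e3 q22351 (flp_a L755278) q23680, e3 q22352 (flp_a L748981) q23201, e3 q22353 (flp_a L751362) q23370, e3 q22354 (flp_a L751954) q23418, e3 q22355 L740997 q21670, e3 q22356 (flp_a L752114) q23430, e3 q22357 (flp_a L754308) q23586, e3 q22358 L741021 q21305, e3 q22359 L741031 q21327, e3 q22360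 L741045 q21301, e3 q22361 L741061 q21324, e3 q22362 L741075 q21306, e3 q22363 L741087 q21331, e3 q22364 L741102 q21332, e3 q22365 L741117 q20796, e3 q22366 L741129 q20797, e3 q22367 L741144 q20801, e3 q22368 L741156 q20809, e3 q22369 L741168 q20810, e3 q22370 L741178 q20812, e3 q22371 L741193 q20816, e3 q22372 L741203 q20825, e3 q22373 L741210 q21498, e3 q22374 L741221 q21499, e3 q22375 L741231 q21523, e3 q22376 L741240 q21388, e3 q22377 L741252 q21401, e3 q22378 L741261 q21509, e3 q22379 L741270 q21510, e3 q22380 L741278 q21489, e3 q22381 L741293 q21490, e3 q22382 L741305 q21491, e3 q22383 L741320 q21500, e3 q22384 L741332 q21501, e3 q22385 L741344 q21511, e3 q22386 L741356 q21512, e3 q22387 L741366 q21517, e3 q22388 L741378 q21518, e3 q22389 L741392 q21522, e3 q22390 L741403 q21484, e3 q22391 L741419 q21485, e3 q22392 (flp_a L753636) q23534, e3 q22393 (flp_a L755448) q23694, e3 q22394 L741455 q21486, e3 q22395 (flp_a L753360) q23513, e3 q22396 (flp_a L755462) q23695, e3 q22397 L741487 q21259, e3 q22398 L741503 q21483, e3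 q22399 L741519 q21487, trivial⟩ (by decide +kernel)

theorem ce_a_350 : ∀ r, r < 64 → sm ga (Qf (22400 + r)) = Qf (tab Gen.a (22400 + r)) :=
  edges_tab (sm ga) Qf (tab Gen.a) 22400 [(22400, 21488), (22401, 21442), (22402, 23296), (22403, 23696), (22404, 23697), (22405, 23526), (22406, 21469), (22407, 23299), (22408, 23244), (22409, 23698), (22410, 21676), (22411, 21402), (22412, 23527), (22413, 21470), (22414, 23300), (22415, 23276), (22416, 23282), (22417, 23283), (22418, 23284), (22419, 23288), (22420, 23289), (22421, 23290), (22422, 23291), (22423, 23292), (22424, 23293), (22425, 23294), (22426, 23295), (22427, 23297), (22428, 23298), (22429, 20916), (22430, 20917), (22431, 20918), (22432, 20923), (22433, 20924), (22434, 20925), (22435, 20927), (22436, 20928), (22437, 20931), (22438, 20932), (22439, 20933), (22440, 20939), (22441, 20940), (22442, 20941), (22443, 20953), (22444, 20954), (22445, 20960), (22446, 20961), (22447, 20962), (22448, 20969), (22449, 20970), (22450, 20980), (22451, 20981), (22452, 20982), (22453,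 20984), (22454, 20985), (22455, 20992), (22456, 20994), (22457, 20995), (22458, 20996), (22459, 20997), (22460, 21000), (22461, 21001), (22462, 21002), (22463, 23241)]
    ⟨e3 q22400 L741535 q21488, e3 q22401 L741545 q21442, e3 q22402 (flp_a L750337) q23296, e3 q22403 (flp_a L755472) q23696, e3 q22404 (flp_a L755480) q23697, e3 q22405 (flp_a L753515) q23526, e3 q22406 L741589 q21469, e3 q22407 (flp_a L750381) q23299, e3 q22408 (flp_a L749628) q23244, e3 q22409 (flp_a L755492) q23698, e3 q22410 L741627 q21676, e3 q22411 L741638 q21402, e3 q22412 (flp_a L753531) q23527, e3 q22413 L741657 q21470, e3 q22414 (flp_a L750399) q23300, e3 q22415 (flp_a L750040) q23276, e3 q22416 (flp_a L750117) q23282, e3 q22417 (flp_a L750135) q23283, e3 q22418 (flp_a L750153) q23284, e3 q22419 (flp_a L750218) q23288, e3 q22420 (flp_a L750232) q23289, e3 q22421 (flp_a L750247) q23290, e3 q22422 (flp_a L750263) q23291, e3 q22423 (flp_a L750277) q23292, e3 q22424 (flp_a L750289) q23293, e3 q22425 (flp_a L750306) q23294, e3 q22426 (flp_a L750322) q23295,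 e3 q22427 (flp_a L750355) q23297, e3 q22428 (flp_a L750365) q23298, e3 q22429 L741815 q20916, e3 q22430 L741828 q20917, e3 q22431 L741844 q20918, e3 q22432 L741859 q20923, e3 q22433 L741872 q20924, e3 q22434 L741888 q20925, e3 q22435 L741901 q20927, e3 q22436 L741910 q20928, e3 q22437 L741918 q20931, e3 q22438 L741933 q20932, e3 q22439 L741949 q20933, e3 q22440 L741966 q20939, e3 q22441 L741976 q20940, e3 q22442 L741988 q20941, e3 q22443 L742000 q20953, e3 q22444 L742012 q20954, e3 q22445 L742022 q20960, e3 q22446 L742032 q20961, e3 q22447 L742044 q20962, e3 q22448 L742056 q20969, e3 q22449 L742065 q20970, e3 q22450 L742078 q20980, e3 q22451 L742093 q20981, e3 q22452 L742107 q20982, e3 q22453 L742124 q20984, e3 q22454 L742133 q20985, e3 q22455 L742143 q20992, e3 q22456 L742156 q20994, e3 q22457 L742168 q20995, e3 q22458 L742180 q20996, e3 q22459 L742194 q20997, e3 q22460 L742208 q21000, e3 q22461 L742216 q21001, e3 q22462 L742226 q21002, e3 q22463 (flp_a L749574) q23241, trivial⟩ (by decide +kernel)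

theorem ce_a_351 : ∀ r, r < 64 → sm ga (Qf (22464 + r)) = Qf (tab Gen.a (22464 + r)) :=
  edges_tab (sm ga) Qf (tab Gen.a) 22464 [(22464, 23358), (22465, 23361), (22466, 21012), (22467, 21013), (22468, 21014), (22469, 21015), (22470, 21018), (22471, 21019), (22472, 21023), (22473, 21024), (22474, 21030), (22475, 21031), (22476, 21032), (22477, 21035), (22478, 21036), (22479, 21037), (22480, 21044), (22481, 21045), (22482, 21050), (22483, 21051), (22484, 21062), (22485, 21063), (22486, 21064), (22487, 21070), (22488, 21076), (22489, 20908), (22490, 23273), (22491, 23801), (22492, 21080), (22493, 21496), (22494, 21497), (22495, 21193), (22496, 21220), (22497, 21288), (22498, 21290), (22499, 21340), (22500, 23630), (22501, 23745), (22502, 23746), (22503, 20920), (22504, 20921), (22505, 21185), (22506, 23215), (22507, 23812), (22508, 23813), (22509, 21274), (22510, 21242), (22511, 21275), (22512, 23208), (22513, 23747), (22514, 23748), (22515, 23749), (22516, 23211), (22517, 23750), (22518, 23751), (22519, 21006), (22520, 21078),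 (22521, 23604), (22522, 23752), (22523, 23753), (22524, 21540), (22525, 21547), (22526, 21618), (22527, 21619)]
    ⟨e3 q22464 (flp_a L751215) q23358, e3 q22465 (flp_a L751253) q23361, e3 q22466 L742272 q21012, e3 q22467 L742285 q21013, e3 q22468 L742294 q21014, e3 q22469 L742308 q21015, e3 q22470 L742316 q21018, e3 q22471 L742328 q21019, e3 q22472 L742338 q21023, e3 q22473 L742344 q21024, e3 q22474 L742350 q21030, e3 q22475 L742362 q21031, e3 q22476 L742376 q21032, e3 q22477 L742390 q21035, e3 q22478 L742397 q21036, e3 q22479 L742407 q21037, e3 q22480 L742418 q21044, e3 q22481 L742427 q21045, e3 q22482 L742440 q21050, e3 q22483 L742448 q21051, e3 q22484 L742454 q21062, e3 q22485 L742462 q21063, e3 q22486 L742472 q21064, e3 q22487 L742479 q21070, e3 q22488 L742486 q21076, e3 q22489 L742499 q20908, e3 q22490 (flp_a L749999) q23273, e3 q22491 (flp_a L756593) q23801, e3 q22492 L742537 q21080, e3 q22493 L742552 q21496, e3 q22494 L742566 q21497, e3 q22495 L742580 q21193, e3 q22496 L742594 q21220, e3 q22497 L742607 q21288, e3 q22498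 L742622 q21290, e3 q22499 L742634 q21340, e3 q22500 (flp_a L754792) q23630, e3 q22501 (flp_a L755979) q23745, e3 q22502 (flp_a L755994) q23746, e3 q22503 L742667 q20920, e3 q22504 L742679 q20921, e3 q22505 L742692 q21185, e3 q22506 (flp_a L749193) q23215, e3 q22507 (flp_a L756722) q23812, e3 q22508 (flp_a L756736) q23813, e3 q22509 L742734 q21274, e3 q22510 L742750 q21242, e3 q22511 L742766 q21275, e3 q22512 (flp_a L749091) q23208, e3 q22513 (flp_a L756008) q23747, e3 q22514 (flp_a L756023) q23748, e3 q22515 (flp_a L756037) q23749, e3 q22516 (flp_a L749133) q23211, e3 q22517 (flp_a L756052) q23750, e3 q22518 (flp_a L756059) q23751, e3 q22519 L742833 q21006, e3 q22520 L742847 q21078, e3 q22521 (flp_a L754522) q23604, e3 q22522 (flp_a L756069) q23752, e3 q22523 (flp_a L756084) q23753, e3 q22524 L742890 q21540, e3 q22525 L742902 q21547, e3 q22526 L742916 q21618, e3 q22527 L742934 q21619, trivial⟩ (by decide +kernel)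

theorem ce_a_352 : ∀ r, r < 64 → sm ga (Qf (22528 + r)) = Qf (tab Gen.a (22528 + r)) :=
  edges_tab (sm ga) Qf (tab Gen.a) 22528 [(22528, 21611), (22529, 23218), (22530, 23754), (22531, 23755), (22532, 23756), (22533, 21534), (22534, 23398), (22535, 21232), (22536, 21606), (22537, 21564), (22538, 21607), (22539, 21194), (22540, 21634), (22541, 21633), (22542, 23219), (22543, 23225), (22544, 23757), (22545, 23758), (22546, 21658), (22547, 21645), (22548, 21644), (22549, 23228), (22550, 23759), (22551, 23760), (22552, 23761), (22553, 21186), (22554, 21195), (22555, 21654), (22556, 23229), (22557, 23232), (22558, 23762), (22559, 23763), (22560, 23261), (22561, 21203), (22562, 23230), (22563, 23233), (22564, 21566), (22565, 21672), (22566, 23403), (22567, 23588), (22568, 23764), (22569, 23765), (22570, 21561), (22571, 23605), (22572, 23766), (22573, 23767), (22574, 20990), (22575, 20991), (22576, 21559), (22577, 21560), (22578, 23347), (22579, 23878), (22580, 23423), (22581, 23589), (22582, 21572), (22583, 23768), (22584, 21573),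 (22585, 23769), (22586, 23205), (22587, 23770), (22588, 23771), (22589, 23772), (22590, 21567), (22591, 23238)]
    ⟨e3 q22528 L742948 q21611, e3 q22529 (flp_a L749242) q23218, e3 q22530 (flp_a L756100) q23754, e3 q22531 (flp_a L756110) q23755, e3 q22532 (flp_a L756124) q23756, e3 q22533 L742994 q21534, e3 q22534 (flp_a L751735) q23398, e3 q22535 L743018 q21232, e3 q22536 L743034 q21606, e3 q22537 L743046 q21564, e3 q22538 L743058 q21607, e3 q22539 L743068 q21194, e3 q22540 L743082 q21634, e3 q22541 L743094 q21633, e3 q22542 (flp_a L749260) q23219, e3 q22543 (flp_a L749347) q23225, e3 q22544 (flp_a L756134) q23757, e3 q22545 (flp_a L756142) q23758, e3 q22546 L743134 q21658, e3 q22547 L743149 q21645, e3 q22548 L743161 q21644, e3 q22549 (flp_a L749389) q23228, e3 q22550 (flp_a L756154) q23759, e3 q22551 (flp_a L756165) q23760, e3 q22552 (flp_a L756176) q23761, e3 q22553 L743216 q21186, e3 q22554 L743232 q21195, e3 q22555 L743246 q21654, e3 q22556 (flp_a L749403) q23229, e3 q22557 (flp_a L749446) q23232, e3 q22558 (flp_a L756190)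 q23762, e3 q22559 (flp_a L756201) q23763, e3 q22560 (flp_a L749842) q23261, e3 q22561 L743302 q21203, e3 q22562 (flp_a L749417) q23230, e3 q22563 (flp_a L749459) q23233, e3 q22564 L743340 q21566, e3 q22565 L743354 q21672, e3 q22566 (flp_a L751795) q23403, e3 q22567 (flp_a L754333) q23588, e3 q22568 (flp_a L756210) q23764, e3 q22569 (flp_a L756225) q23765, e3 q22570 L743411 q21561, e3 q22571 (flp_a L754539) q23605, e3 q22572 (flp_a L756241) q23766, e3 q22573 (flp_a L756250) q23767, e3 q22574 L743448 q20990, e3 q22575 L743462 q20991, e3 q22576 L743476 q21559, e3 q22577 L743493 q21560, e3 q22578 (flp_a L751061) q23347, e3 q22579 (flp_a L757424) q23878, e3 q22580 (flp_a L752024) q23423, e3 q22581 (flp_a L754350) q23589, e3 q22582 L743554 q21572, e3 q22583 (flp_a L756258) q23768, e3 q22584 L743578 q21573, e3 q22585 (flp_a L756271) q23769, e3 q22586 (flp_a L749042) q23205, e3 q22587 (flp_a L756283) q23770, e3 q22588 (flp_a L756295) q23771, e3 q22589 (flp_a L756311) q23772, e3 q22590 L743632 q21567, e3 q22591 (flp_a L749536) q23238,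 trivial⟩ (by decide +kernel)

theorem ce_a_353 : ∀ r, r < 64 → sm ga (Qf (22592 + r)) = Qf (tab Gen.a (22592 + r)) :=
  edges_tab (sm ga) Qf (tab Gen.a) 22592 [(22592, 23773), (22593, 23774), (22594, 23775), (22595, 21009), (22596, 21248), (22597, 23355), (22598, 23828), (22599, 21250), (22600, 23356), (22601, 23897), (22602, 23404), (22603, 21269), (22604, 23245), (22605, 23246), (22606, 23779), (22607, 23780), (22608, 23781), (22609, 23782), (22610, 23235), (22611, 23249), (22612, 23783), (22613, 23784), (22614, 21584), (22615, 21583), (22616, 23239), (22617, 23252), (22618, 23785), (22619, 23786), (22620, 23925), (22621, 23348), (22622, 23368), (22623, 23206), (22624, 23788), (22625, 23789), (22626, 23790), (22627, 21591), (22628, 23257), (22629, 23791), (22630, 23792), (22631, 23793), (22632, 23936), (22633, 21243), (22634, 21251), (22635, 23357), (22636, 23254), (22637, 23260), (22638, 23794), (22639, 23795), (22640, 21596), (22641, 23258), (22642, 23264), (22643, 23265), (22644, 23946), (22645, 23796), (22646, 21052),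 (22647, 21261), (22648, 23255), (22649, 23262), (22650, 23259), (22651, 23267), (22652, 23797), (22653, 23798), (22654, 23956), (22655, 23799)]
    ⟨e3 q22592 (flp_a L756323) q23773, e3 q22593 (flp_a L756331) q23774, e3 q22594 (flp_a L756339) q23775, e3 q22595 L743668 q21009, e3 q22596 L743676 q21248, e3 q22597 (flp_a L751167) q23355, e3 q22598 (flp_a L756886) q23828, e3 q22599 L743704 q21250, e3 q22600 (flp_a L751184) q23356, e3 q22601 (flp_a L757596) q23897, e3 q22602 (flp_a L751813) q23404, e3 q22603 L743742 q21269, e3 q22604 (flp_a L749646) q23245, e3 q22605 (flp_a L749663) q23246, e3 q22606 (flp_a L756385) q23779, e3 q22607 (flp_a L756398) q23780, e3 q22608 (flp_a L756405) q23781, e3 q22609 (flp_a L756419) q23782, e3 q22610 (flp_a L749490) q23235, e3 q22611 (flp_a L749704) q23249, e3 q22612 (flp_a L756429) q23783, e3 q22613 (flp_a L756437) q23784, e3 q22614 L743823 q21584, e3 q22615 L743833 q21583, e3 q22616 (flp_a L749552) q23239, e3 q22617 (flp_a L749736) q23252, e3 q22618 (flp_a L756449) q23785, e3 q22619 (flp_a L756455)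 q23786, e3 q22620 L757810 q23925, e3 q22621 (flp_a L751077) q23348, e3 q22622 (flp_a L751332) q23368, e3 q22623 (flp_a L749060) q23206, e3 q22624 (flp_a L756465) q23788, e3 q22625 (flp_a L756478) q23789, e3 q22626 (flp_a L756491) q23790, e3 q22627 L743927 q21591, e3 q22628 (flp_a L749793) q23257, e3 q22629 (flp_a L756505) q23791, e3 q22630 (flp_a L756514) q23792, e3 q22631 (flp_a L756524) q23793, e3 q22632 L757898 q23936, e3 q22633 L743978 q21243, e3 q22634 L743993 q21251, e3 q22635 (flp_a L751200) q23357, e3 q22636 (flp_a L749754) q23254, e3 q22637 (flp_a L749829) q23260, e3 q22638 (flp_a L756532) q23794, e3 q22639 (flp_a L756543) q23795, e3 q22640 L744041 q21596, e3 q22641 (flp_a L749804) q23258, e3 q22642 (flp_a L749882) q23264, e3 q22643 (flp_a L749892) q23265, e3 q22644 L757994 q23946, e3 q22645 (flp_a L756552) q23796, e3 q22646 (flp_a L744088) q21052, e3 q22647 L744102 q21261, e3 q22648 (flp_a L749768) q23255, e3 q22649 (flp_a L749857) q23262, e3 q22650 (flp_a L749816) q23259, e3 q22651 (flp_a L749922) q23267, e3 q22652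 (flp_a L756560) q23797, e3 q22653 (flp_a L756569) q23798, e3 q22654 L758077 q23956, e3 q22655 (flp_a L756576) q23799, trivial⟩ (by decide +kernel)

theorem ce_a_354 : ∀ r, r < 64 → sm ga (Qf (22656 + r)) = Qf (tab Gen.a (22656 + r)) :=
  edges_tab (sm ga) Qf (tab Gen.a) 22656 [(22656, 21065), (22657, 23268), (22658, 23269), (22659, 23271), (22660, 21069), (22661, 23961), (22662, 23800), (22663, 21674), (22664, 21675), (22665, 21669), (22666, 21580), (22667, 21555), (22668, 21578), (22669, 21093), (22670, 21221), (22671, 21341), (22672, 21090), (22673, 21215), (22674, 23970), (22675, 21276), (22676, 23969), (22677, 21535), (22678, 21565), (22679, 21668), (22680, 21579), (22681, 21554), (22682, 21244), (22683, 23455), (22684, 21360), (22685, 21119), (22686, 21454), (22687, 21392), (22688, 21129), (22689, 21130), (22690, 23189), (22691, 23162), (22692, 23182), (22693, 23975), (22694, 23500), (22695, 23529), (22696, 21603), (22697, 21613), (22698, 21433), (22699, 23183), (22700, 23184), (22701, 23468), (22702, 23978), (22703,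 23979), (22704, 23505), (22705, 23508), (22706, 23185), (22707, 23186), (22708, 23187), (22709, 21245), (22710, 21246), (22711, 21247), (22712, 21237), (22713, 21587), (22714, 21614), (22715, 21153), (22716, 21154), (22717, 24003), (22718, 23422), (22719, 21631)]
    ⟨e3 q22656 (flp_a L744178) q21065, e3 q22657 (flp_a L749934) q23268, e3 q22658 (flp_a L749946) q23269, e3 q22659 (flp_a L749973) q23271, e3 q22660 (flp_a L744221) q21069, e3 q22661 (flp_a L758129) q23961, e3 q22662 (flp_a L756587) q23800, e3 q22663 L744246 q21674, e3 q22664 L744259 q21675, e3 q22665 L744272 q21669, e3 q22666 L744283 q21580, e3 q22667 L744293 q21555, e3 q22668 L744307 q21578, e3 q22669 L744318 q21093, e3 q22670 L744332 q21221, e3 q22671 L744347 q21341, e3 q22672 L744355 q21090, e3 q22673 L744370 q21215, e3 q22674 (flp_a L758229) q23970, e3 q22675 L744394 q21276, e3 q22676 (flp_a L758214) q23969, e3 q22677 L744411 q21535, e3 q22678 L744425 q21565, e3 q22679 L744439 q21668, e3 q22680 L744451 q21579, e3 q22681 L744463 q21554, e3 q22682 L744475 q21244,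 e3 q22683 (flp_a L752462) q23455, e3 q22684 L744501 q21360, e3 q22685 L744514 q21119, e3 q22686 L744528 q21454, e3 q22687 L744540 q21392, e3 q22688 L744554 q21129, e3 q22689 L744568 q21130, e3 q22690 (flp_a L748803) q23189, e3 q22691 (flp_a L748370) q23162, e3 q22692 (flp_a L748695) q23182, e3 q22693 (flp_a L758271) q23975, e3 q22694 (flp_a L753183) q23500, e3 q22695 (flp_a L753561) q23529, e3 q22696 L744646 q21603, e3 q22697 L744663 q21613, e3 q22698 L744675 q21433, e3 q22699 (flp_a L748713) q23183, e3 q22700 (flp_a L748731) q23184, e3 q22701 (flp_a L752707) q23468, e3 q22702 (flp_a L758313) q23978, e3 q22703 (flp_a L758329) q23979, e3 q22704 (flp_a L753251) q23505, e3 q22705 (flp_a L753291) q23508, e3 q22706 (flp_a L748743) q23185, e3 q22707 (flp_a L748759) q23186, e3 q22708 (flp_a L748774) q23187, e3 q22709 L744780 q21245, e3 q22710 L744792 q21246, e3 q22711 L744804 q21247, e3 q22712 L744818 q21237, e3 q22713 L744832 q21587, e3 q22714 L744844 q21614, e3 q22715 L744856 q21153, e3 q22716 L744870 q21154, e3 q22717 (flp_a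 L758588) q24003, e3 q22718 (flp_a L752008) q23422, e3 q22719 L744902 q21631, trivial⟩ (by decide +kernel)

theorem ce_a_355 : ∀ r, r < 64 → sm ga (Qf (22720 + r)) = Qf (tab Gen.a (22720 + r)) :=
  edges_tab (sm ga) Qf (tab Gen.a) 22720 [(22720, 21653), (22721, 21637), (22722, 21159), (22723, 23415), (22724, 23445), (22725, 21698), (22726, 21681), (22727, 21503), (22728, 21513), (22729, 21254), (22730, 21256), (22731, 21257), (22732, 21260), (22733, 21262), (22734, 21551), (22735, 21665), (22736, 21270), (22737, 21271), (22738, 21272), (22739, 21273), (22740, 23814), (22741, 23861), (22742, 21277), (22743, 21279), (22744, 21280), (22745, 21281), (22746, 21282), (22747, 21283), (22748, 21284), (22749, 23804), (22750, 23846), (22751, 23427), (22752, 21297), (22753, 21299), (22754, 21302), (22755, 21303), (22756, 21304), (22757, 21307), (22758, 21308), (22759, 23421), (22760, 21315), (22761, 21316), (22762, 21317), (22763, 23266), (22764, 21325), (22765, 21326), (22766, 21666), (22767, 21333), (22768, 23431), (22769, 21336),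 (22770, 21337), (22771, 21338), (22772, 23805), (22773, 23450), (22774, 23436), (22775, 21344), (22776, 21345), (22777, 21346), (22778, 21701), (22779, 21347), (22780, 23270), (22781, 21233), (22782, 23842), (22783, 24061)]
    ⟨e3 q22720 L744908 q21653, e3 q22721 L744916 q21637, e3 q22722 L744924 q21159, e3 q22723 (flp_a L751912) q23415, e3 q22724 (flp_a L752308) q23445, e3 q22725 L744955 q21698, e3 q22726 L744964 q21681, e3 q22727 L744975 q21503, e3 q22728 L744989 q21513, e3 q22729 L744999 q21254, e3 q22730 L745006 q21256, e3 q22731 L745016 q21257, e3 q22732 L745027 q21260, e3 q22733 L745035 q21262, e3 q22734 L745047 q21551, e3 q22735 L745059 q21665, e3 q22736 L745072 q21270, e3 q22737 L745086 q21271, e3 q22738 L745097 q21272, e3 q22739 L745104 q21273, e3 q22740 (flp_a L756747) q23814, e3 q22741 (flp_a L757244) q23861, e3 q22742 L745128 q21277, e3 q22743 L745139 q21279, e3 q22744 L745153 q21280, e3 q22745 L745165 q21281, e3 q22746 L745175 q21282, e3 q22747 L745187 q21283, e3 q22748 L745201 q21284, e3 q22749 (flp_a L756635)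 q23804, e3 q22750 (flp_a L757090) q23846, e3 q22751 (flp_a L752086) q23427, e3 q22752 L745237 q21297, e3 q22753 L745250 q21299, e3 q22754 L745260 q21302, e3 q22755 L745270 q21303, e3 q22756 L745274 q21304, e3 q22757 L745282 q21307, e3 q22758 L745292 q21308, e3 q22759 (flp_a L752002) q23421, e3 q22760 L745307 q21315, e3 q22761 L745319 q21316, e3 q22762 L745331 q21317, e3 q22763 (flp_a L749916) q23266, e3 q22764 L745352 q21325, e3 q22765 L745361 q21326, e3 q22766 L745369 q21666, e3 q22767 L745384 q21333, e3 q22768 (flp_a L752136) q23431, e3 q22769 L745405 q21336, e3 q22770 L745416 q21337, e3 q22771 L745428 q21338, e3 q22772 (flp_a L756651) q23805, e3 q22773 (flp_a L752374) q23450, e3 q22774 (flp_a L752194) q23436, e3 q22775 L745459 q21344, e3 q22776 L745468 q21345, e3 q22777 L745477 q21346, e3 q22778 L745486 q21701, e3 q22779 L745499 q21347, e3 q22780 (flp_a L749967) q23270, e3 q22781 L745519 q21233, e3 q22782 (flp_a L757040) q23842, e3 q22783 (flp_a L759142) q24061, trivial⟩ (by decide +kernel)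

theorem ce_a_356 : ∀ r, r < 64 → sm ga (Qf (22784 + r)) = Qf (tab Gen.a (22784 + r)) :=
  edges_tab (sm ga) Qf (tab Gen.a) 22784 [(22784, 23359), (22785, 23401), (22786, 23446), (22787, 24000), (22788, 23207), (22789, 23209), (22790, 23210), (22791, 23212), (22792, 23596), (22793, 23819), (22794, 23937), (22795, 23327), (22796, 23968), (22797, 23997), (22798, 23998), (22799, 23999), (22800, 23898), (22801, 21620), (22802, 23901), (22803, 23376), (22804, 23242), (22805, 23338), (22806, 24012), (22807, 23243), (22808, 24013), (22809, 24014), (22810, 21508), (22811, 23719), (22812, 24015), (22813, 23372), (22814, 21648), (22815, 23905), (22816, 24018), (22817, 24019), (22818, 24020), (22819, 24021), (22820, 23818), (22821, 23820), (22822, 23419), (22823, 23328), (22824, 24024), (22825, 23329), (22826, 24025), (22827, 24026), (22828, 24027), (22829, 24028), (22830, 24029), (22831, 24030), (22832, 21292), (22833, 21293), (22834, 23806), (22835, 23590), (22836, 23807), (22837, 21574), (22838, 24111), (22839, 24112), (22840, 23428),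 (22841, 21601), (22842, 23339), (22843, 24034), (22844, 23340), (22845, 24035), (22846, 23396), (22847, 23690)]
    ⟨e3 q22784 (flp_a L751231) q23359, e3 q22785 (flp_a L751767) q23401, e3 q22786 (flp_a L752321) q23446, e3 q22787 (flp_a L758552) q24000, e3 q22788 (flp_a L749074) q23207, e3 q22789 (flp_a L749108) q23209, e3 q22790 (flp_a L749120) q23210, e3 q22791 (flp_a L749146) q23212, e3 q22792 (flp_a L754436) q23596, e3 q22793 (flp_a L756809) q23819, e3 q22794 (flp_a L757913) q23937, e3 q22795 (flp_a L750802) q23327, e3 q22796 (flp_a L758199) q23968, e3 q22797 (flp_a L758509) q23997, e3 q22798 (flp_a L758523) q23998, e3 q22799 (flp_a L758536) q23999, e3 q22800 (flp_a L757602) q23898, e3 q22801 L745729 q21620, e3 q22802 (flp_a L757632) q23901, e3 q22803 (flp_a L751448) q23376, e3 q22804 (flp_a L749592) q23242, e3 q22805 (flp_a L750956) q23338, e3 q22806 (flp_a L758676) q24012, e3 q22807 (flp_a L749610) q23243, e3 q22808 (flp_a L758681) q24013, e3 q22809 (flp_a L758687) q24014, e3 q22810 L745805 q21508, e3 q22811 (flp_a L755719)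 q23719, e3 q22812 (flp_a L758696) q24015, e3 q22813 (flp_a L751390) q23372, e3 q22814 L745845 q21648, e3 q22815 (flp_a L757670) q23905, e3 q22816 (flp_a L758729) q24018, e3 q22817 (flp_a L758741) q24019, e3 q22818 (flp_a L758754) q24020, e3 q22819 (flp_a L758761) q24021, e3 q22820 (flp_a L756793) q23818, e3 q22821 (flp_a L756825) q23820, e3 q22822 (flp_a L751967) q23419, e3 q22823 (flp_a L750819) q23328, e3 q22824 (flp_a L758787) q24024, e3 q22825 (flp_a L750836) q23329, e3 q22826 (flp_a L758800) q24025, e3 q22827 (flp_a L758812) q24026, e3 q22828 (flp_a L758826) q24027, e3 q22829 (flp_a L758832) q24028, e3 q22830 (flp_a L758842) q24029, e3 q22831 (flp_a L758858) q24030, e3 q22832 L746004 q21292, e3 q22833 L746018 q21293, e3 q22834 (flp_a L756662) q23806, e3 q22835 (flp_a L754367) q23590, e3 q22836 (flp_a L756679) q23807, e3 q22837 L746047 q21574, e3 q22838 (flp_a L759577) q24111, e3 q22839 (flp_a L759593) q24112, e3 q22840 (flp_a L752092) q23428, e3 q22841 L746081 q21601, e3 q22842 (flp_a L750967) q23339, e3 q22843 (flp_a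 L758888) q24034, e3 q22844 (flp_a L750978) q23340, e3 q22845 (flp_a L758899) q24035, e3 q22846 (flp_a L751703) q23396, e3 q22847 (flp_a L755389) q23690, trivial⟩ (by decide +kernel)

theorem ce_a_357 : ∀ r, r < 64 → sm ga (Qf (22848 + r)) = Qf (tab Gen.a (22848 + r)) :=
  edges_tab (sm ga) Qf (tab Gen.a) 22848 [(22848, 24036), (22849, 24037), (22850, 24038), (22851, 24039), (22852, 23689), (22853, 23692), (22854, 24040), (22855, 24136), (22856, 21312), (22857, 21313), (22858, 24137), (22859, 24138), (22860, 24043), (22861, 24044), (22862, 21321), (22863, 21322), (22864, 21592), (22865, 24142), (22866, 23442), (22867, 23691), (22868, 24046), (22869, 21590), (22870, 23693), (22871, 24048), (22872, 23432), (22873, 23330), (22874, 24050), (22875, 24051), (22876, 24052), (22877, 23591), (22878, 23808), (22879, 23437), (22880, 23341), (22881, 24057), (22882, 24058), (22883, 24060), (22884, 21353), (22885, 23465), (22886, 23464), (22887, 23461), (22888, 21381), (22889, 21385), (22890, 21390), (22891, 21391), (22892, 21393), (22893,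 21396), (22894, 21477), (22895, 21403), (22896, 21404), (22897, 23488), (22898, 23641), (22899, 23644), (22900, 23663), (22901, 24155), (22902, 23664), (22903, 24156), (22904, 23489), (22905, 23610), (22906, 23490), (22907, 23701), (22908, 23611), (22909, 24157), (22910, 24158), (22911, 23977)]
    ⟨e3 q22848 (flp_a L758907) q24036, e3 q22849 (flp_a L758913) q24037, e3 q22850 (flp_a L758919) q24038, e3 q22851 (flp_a L758925) q24039, e3 q22852 (flp_a L755377) q23689, e3 q22853 (flp_a L755420) q23692, e3 q22854 (flp_a L758935) q24040, e3 q22855 L759736 q24136, e3 q22856 L746170 q21312, e3 q22857 L746183 q21313, e3 q22858 (flp_a L759742) q24137, e3 q22859 (flp_a L759756) q24138, e3 q22860 (flp_a L758960) q24043, e3 q22861 (flp_a L758973) q24044, e3 q22862 L746235 q21321, e3 q22863 L746249 q21322, e3 q22864 L746260 q21592, e3 q22865 (flp_a L759791) q24142, e3 q22866 (flp_a L752265) q23442, e3 q22867 (flp_a L755405) q23691, e3 q22868 (flp_a L758993) q24046, e3 q22869 L746299 q21590, e3 q22870 (flp_a L755432) q23693, e3 q22871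 (flp_a L759012) q24048, e3 q22872 (flp_a L752142) q23432, e3 q22873 (flp_a L750848) q23330, e3 q22874 (flp_a L759032) q24050, e3 q22875 (flp_a L759045) q24051, e3 q22876 (flp_a L759058) q24052, e3 q22877 (flp_a L754379) q23591, e3 q22878 (flp_a L756689) q23808, e3 q22879 (flp_a L752205) q23437, e3 q22880 (flp_a L750990) q23341, e3 q22881 (flp_a L759105) q24057, e3 q22882 (flp_a L759113) q24058, e3 q22883 (flp_a L759133) q24060, e3 q22884 L746406 q21353, e3 q22885 (flp_a L752654) q23465, e3 q22886 (flp_a L752635) q23464, e3 q22887 (flp_a L752577) q23461, e3 q22888 L746440 q21381, e3 q22889 L746454 q21385, e3 q22890 L746468 q21390, e3 q22891 L746476 q21391, e3 q22892 L746486 q21393, e3 q22893 L746494 q21396, e3 q22894 L746504 q21477, e3 q22895 L746515 q21403, e3 q22896 L746522 q21404, e3 q22897 (flp_a L753025) q23488, e3 q22898 (flp_a L754922) q23641, e3 q22899 (flp_a L754961) q23644, e3 q22900 (flp_a L755110) q23663, e3 q22901 (flp_a L759878) q24155, e3 q22902 (flp_a L755125) q23664, e3 q22903 (flp_a L759894) q24156, e3 q22904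 (flp_a L753042) q23489, e3 q22905 (flp_a L754595) q23610, e3 q22906 (flp_a L753059) q23490, e3 q22907 (flp_a L755523) q23701, e3 q22908 (flp_a L754612) q23611, e3 q22909 (flp_a L759910) q24157, e3 q22910 (flp_a L759914) q24158, e3 q22911 (flp_a L758297) q23977, trivial⟩ (by decide +kernel)

theorem ce_a_358 : ∀ r, r < 64 → sm ga (Qf (22912 + r)) = Qf (tab Gen.a (22912 + r)) :=
  edges_tab (sm ga) Qf (tab Gen.a) 22912 [(22912, 24159), (22913, 23612), (22914, 23622), (22915, 24160), (22916, 23576), (22917, 23491), (22918, 23702), (22919, 23732), (22920, 24162), (22921, 23587), (22922, 21424), (22923, 21425), (22924, 21426), (22925, 21427), (22926, 21434), (22927, 21439), (22928, 21450), (22929, 21451), (22930, 21455), (22931, 21463), (22932, 21475), (22933, 23535), (22934, 23536), (22935, 23332), (22936, 24187), (22937, 24188), (22938, 24189), (22939, 24190), (22940, 23503), (22941, 23666), (22942, 23191), (22943, 23195), (22944, 23988), (22945, 24191), (22946, 23516), (22947, 23520), (22948, 23192), (22949, 23197), (22950,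 24192), (22951, 21444), (22952, 21445), (22953, 23723), (22954, 23530), (22955, 24215), (22956, 24216), (22957, 23353), (22958, 23391), (22959, 23168), (22960, 23188), (22961, 24193), (22962, 24194), (22963, 24195), (22964, 23166), (22965, 23170), (22966, 23976), (22967, 24234), (22968, 23512), (22969, 23623), (22970, 23199), (22971, 23523), (22972, 21471), (22973, 23729), (22974, 23733), (22975, 23525)]
    ⟨e3 q22912 (flp_a L759922) q24159, e3 q22913 (flp_a L754630) q23612, e3 q22914 (flp_a L754719) q23622, e3 q22915 (flp_a L759930) q24160, e3 q22916 (flp_a L754179) q23576, e3 q22917 (flp_a L753069) q23491, e3 q22918 (flp_a L755533) q23702, e3 q22919 (flp_a L755861) q23732, e3 q22920 (flp_a L759947) q24162, e3 q22921 (flp_a L754319) q23587, e3 q22922 L746702 q21424, e3 q22923 L746713 q21425, e3 q22924 L746723 q21426, e3 q22925 L746732 q21427, e3 q22926 L746738 q21434, e3 q22927 L746746 q21439, e3 q22928 L746754 q21450, e3 q22929 L746758 q21451, e3 q22930 L746764 q21455, e3 q22931 L746770 q21463, e3 q22932 L746776 q21475,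 e3 q22933 (flp_a L753651) q23535, e3 q22934 (flp_a L753663) q23536, e3 q22935 (flp_a L750878) q23332, e3 q22936 (flp_a L760101) q24187, e3 q22937 (flp_a L760110) q24188, e3 q22938 (flp_a L760116) q24189, e3 q22939 (flp_a L760123) q24190, e3 q22940 (flp_a L753217) q23503, e3 q22941 (flp_a L755154) q23666, e3 q22942 (flp_a L748839) q23191, e3 q22943 (flp_a L748889) q23195, e3 q22944 (flp_a L758428) q23988, e3 q22945 (flp_a L760129) q24191, e3 q22946 (flp_a L753388) q23516, e3 q22947 (flp_a L753430) q23520, e3 q22948 (flp_a L748855) q23192, e3 q22949 (flp_a L748921) q23197, e3 q22950 (flp_a L760137) q24192, e3 q22951 L746897 q21444, e3 q22952 L746903 q21445, e3 q22953 (flp_a L755783) q23723, e3 q22954 (flp_a L753575) q23530, e3 q22955 (flp_a L760277) q24215, e3 q22956 (flp_a L760281) q24216, e3 q22957 (flp_a L751143) q23353, e3 q22958 (flp_a L751637) q23391, e3 q22959 (flp_a L748471) q23168, e3 q22960 (flp_a L748791) q23188, e3 q22961 (flp_a L760145) q24193, e3 q22962 (flp_a L760151) q24194, e3 q22963 (flp_a L760157) q24195,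 e3 q22964 (flp_a L748437) q23166, e3 q22965 (flp_a L748499) q23170, e3 q22966 (flp_a L758287) q23976, e3 q22967 L760377 q24234, e3 q22968 (flp_a L753344) q23512, e3 q22969 (flp_a L754736) q23623, e3 q22970 (flp_a L748949) q23199, e3 q22971 (flp_a L753468) q23523, e3 q22972 L747021 q21471, e3 q22973 (flp_a L755829) q23729, e3 q22974 (flp_a L755872) q23733, e3 q22975 (flp_a L753500) q23525, trivial⟩ (by decide +kernel)

theorem ce_a_359 : ∀ r, r < 64 → sm ga (Qf (22976 + r)) = Qf (tab Gen.a (22976 + r)) :=
  edges_tab (sm ga) Qf (tab Gen.a) 22976 [(22976, 23371), (22977, 23420), (22978, 24161), (22979, 21493), (22980, 21494), (22981, 21504), (22982, 21514), (22983, 23720), (22984, 23713), (22985, 23716), (22986, 23721), (22987, 23722), (22988, 23705), (22989, 23706), (22990, 23492), (22991, 24237), (22992, 24238), (22993, 23364), (22994, 23803), (22995, 23699), (22996, 23700), (22997, 23707), (22998, 23708), (22999, 23493), (23000, 24010), (23001, 24239), (23002, 21562), (23003, 21563), (23004, 23365), (23005, 24090), (23006,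 23703), (23007, 23704), (23008, 23709), (23009, 23710), (23010, 24011), (23011, 24270), (23012, 23374), (23013, 23378), (23014, 23711), (23015, 23375), (23016, 23712), (23017, 21556), (23018, 21557), (23019, 21558), (23020, 21568), (23021, 21588), (23022, 21602), (23023, 21604), (23024, 21605), (23025, 23840), (23026, 21610), (23027, 21615), (23028, 21541), (23029, 23832), (23030, 24285), (23031, 21627), (23032, 21628), (23033, 21632), (23034, 24291), (23035, 21552), (23036, 21553), (23037, 24016), (23038, 24292), (23039, 24293)]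
    ⟨e3 q22976 (flp_a L751377) q23371, e3 q22977 (flp_a L751981) q23420, e3 q22978 (flp_a L759938) q24161, e3 q22979 L747064 q21493, e3 q22980 L747071 q21494, e3 q22981 L747079 q21504, e3 q22982 L747087 q21514, e3 q22983 (flp_a L755737) q23720, e3 q22984 (flp_a L755658) q23713, e3 q22985 (flp_a L755691) q23716, e3 q22986 (flp_a L755755) q23721, e3 q22987 (flp_a L755771) q23722, e3 q22988 (flp_a L755561) q23705, e3 q22989 (flp_a L755576) q23706, e3 q22990 (flp_a L753080) q23492, e3 q22991 (flp_a L760394) q24237, e3 q22992 (flp_a L760401) q24238, e3 q22993 (flp_a L751284) q23364, e3 q22994 (flp_a L756621) q23803, e3 q22995 (flp_a L755502) q23699, e3 q22996 (flp_a L755515) q23700, e3 q22997 (flp_a L755590) q23707, e3 q22998 (flp_a L755604) q23708, e3 q22999 (flp_a L753093) q23493, e3 q23000 (flp_a L758652) q24010, e3 q23001 (flp_a L760409) q24239, e3 q23002 L747237 q21562, e3 q23003 L747248 q21563, e3 q23004 (flp_a L751302) q23365, e3 q23005 (flp_a L759412) q24090, e3 q23006 (flp_a L755544) q23703, e3 q23007 (flp_a L755551)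 q23704, e3 q23008 (flp_a L755614) q23709, e3 q23009 (flp_a L755622) q23710, e3 q23010 (flp_a L758668) q24011, e3 q23011 L760609 q24270, e3 q23012 (flp_a L751417) q23374, e3 q23013 (flp_a L751470) q23378, e3 q23014 (flp_a L755634) q23711, e3 q23015 (flp_a L751433) q23375, e3 q23016 (flp_a L755647) q23712, e3 q23017 L747334 q21556, e3 q23018 L747342 q21557, e3 q23019 L747350 q21558, e3 q23020 L747356 q21568, e3 q23021 L747364 q21588, e3 q23022 L747370 q21602, e3 q23023 L747380 q21604, e3 q23024 L747387 q21605, e3 q23025 (flp_a L757018) q23840, e3 q23026 L747401 q21610, e3 q23027 L747407 q21615, e3 q23028 L747413 q21541, e3 q23029 (flp_a L756928) q23832, e3 q23030 (flp_a L760698) q24285, e3 q23031 L747431 q21627, e3 q23032 L747439 q21628, e3 q23033 L747445 q21632, e3 q23034 L760726 q24291, e3 q23035 L747453 q21552, e3 q23036 L747463 q21553, e3 q23037 (flp_a L758704) q24016, e3 q23038 (flp_a L760732) q24292, e3 q23039 (flp_a L760742) q24293, trivial⟩ (by decide +kernel)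

theorem ce_a_360 : ∀ r, r < 64 → sm ga (Qf (23040 + r)) = Qf (tab Gen.a (23040 + r)) :=
  edges_tab (sm ga) Qf (tab Gen.a) 23040 [(23040, 23974), (23041, 23966), (23042, 24274), (23043, 24275), (23044, 24276), (23045, 23879), (23046, 23874), (23047, 24260), (23048, 24261), (23049, 23844), (23050, 23869), (23051, 23891), (23052, 24277), (23053, 21575), (23054, 23632), (23055, 23883), (23056, 23885), (23057, 24116), (23058, 24311), (23059, 23221), (23060, 23222), (23061, 23349), (23062, 23967), (23063, 23965), (23064, 23912), (23065, 23216), (23066, 23223), (23067, 23919), (23068, 23918), (23069, 23220), (23070, 23226), (23071, 24001), (23072, 24331), (23073, 23369), (23074, 23373), (23075, 23231), (23076, 23217), (23077, 23224), (23078, 23942), (23079, 23227), (23080, 24120), (23081, 24279), (23082, 23986), (23083, 24280), (23084, 24281), (23085, 23843), (23086, 23845), (23087, 23405), (23088, 23402), (23089, 24283), (23090, 23835), (23091, 23834), (23092, 23234), (23093, 23987), (23094, 24002), (23095, 24355), (23096, 21621),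 (23097, 21622), (23098, 23833), (23099, 24081), (23100, 24356), (23101, 24357), (23102, 23247), (23103, 23248)]
    ⟨e3 q23040 (flp_a L758259) q23974, e3 q23041 (flp_a L758178) q23966, e3 q23042 (flp_a L760634) q24274, e3 q23043 (flp_a L760638) q24275, e3 q23044 (flp_a L760644) q24276, e3 q23045 (flp_a L757438) q23879, e3 q23046 (flp_a L757389) q23874, e3 q23047 (flp_a L760550) q24260, e3 q23048 (flp_a L760561) q24261, e3 q23049 (flp_a L757066) q23844, e3 q23050 (flp_a L757337) q23869, e3 q23051 (flp_a L757558) q23891, e3 q23052 (flp_a L760650) q24277, e3 q23053 L747575 q21575, e3 q23054 (flp_a L754822) q23632, e3 q23055 (flp_a L757484) q23883, e3 q23056 (flp_a L757506) q23885, e3 q23057 (flp_a L759618) q24116, e3 q23058 (flp_a L760857) q24311, e3 q23059 (flp_a L749286) q23221, e3 q23060 (flp_a L749303) q23222, e3 q23061 (flp_a L751091) q23349, e3 q23062 (flp_a L758190) q23967, e3 q23063 (flp_a L758166) q23965, e3 q23064 (flp_a L757722) q23912, e3 q23065 (flp_a L749210) q23216, e3 q23066 (flp_a L749316) q23223, e3 q23067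 (flp_a L757778) q23919, e3 q23068 (flp_a L757766) q23918, e3 q23069 (flp_a L749274) q23220, e3 q23070 (flp_a L749363) q23226, e3 q23071 (flp_a L758568) q24001, e3 q23072 L760981 q24331, e3 q23073 (flp_a L751348) q23369, e3 q23074 (flp_a L751404) q23373, e3 q23075 (flp_a L749431) q23231, e3 q23076 (flp_a L749226) q23217, e3 q23077 (flp_a L749332) q23224, e3 q23078 (flp_a L757955) q23942, e3 q23079 (flp_a L749375) q23227, e3 q23080 (flp_a L759650) q24120, e3 q23081 (flp_a L760662) q24279, e3 q23082 (flp_a L758401) q23986, e3 q23083 (flp_a L760668) q24280, e3 q23084 (flp_a L760674) q24281, e3 q23085 (flp_a L757056) q23843, e3 q23086 (flp_a L757078) q23845, e3 q23087 (flp_a L751829) q23405, e3 q23088 (flp_a L751783) q23402, e3 q23089 (flp_a L760686) q24283, e3 q23090 (flp_a L756972) q23835, e3 q23091 (flp_a L756958) q23834, e3 q23092 (flp_a L749474) q23234, e3 q23093 (flp_a L758416) q23987, e3 q23094 (flp_a L758578) q24002, e3 q23095 L761144 q24355, e3 q23096 L747884 q21621, e3 q23097 L747892 q21622, e3 q23098 (flp_a L756940)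 q23833, e3 q23099 (flp_a L759342) q24081, e3 q23100 (flp_a L761150) q24356, e3 q23101 (flp_a L761156) q24357, e3 q23102 (flp_a L749680) q23247, e3 q23103 (flp_a L749692) q23248, trivial⟩ (by decide +kernel)

theorem ce_a_361 : ∀ r, r < 64 → sm ga (Qf (23104 + r)) = Qf (tab Gen.a (23104 + r)) :=
  edges_tab (sm ga) Qf (tab Gen.a) 23104 [(23104, 23350), (23105, 23387), (23106, 24288), (23107, 24289), (23108, 23236), (23109, 23250), (23110, 24006), (23111, 24007), (23112, 24375), (23113, 23848), (23114, 23847), (23115, 23240), (23116, 23253), (23117, 24380), (23118, 21638), (23119, 21641), (23120, 23416), (23121, 23256), (23122, 23447), (23123, 23855), (23124, 23854), (23125, 23424), (23126, 23263), (23127, 23408), (23128, 23237), (23129, 23251), (23130, 23862), (23131, 21700), (23132, 21671), (23133, 21680), (23134, 23274), (23135, 23275), (23136, 21667), (23137, 24017), (23138, 24047), (23139, 24059), (23140, 24389), (23141, 23964), (23142, 23685), (23143, 23687), (23144, 23676), (23145, 24009), (23146, 23448), (23147, 23277),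 (23148, 23278), (23149, 23351), (23150, 23388), (23151, 23279), (23152, 23272), (23153, 23439), (23154, 23281), (23155, 23449), (23156, 23280), (23157, 24042), (23158, 22078), (23159, 22083), (23160, 22067), (23161, 22274), (23162, 22691), (23163, 22284), (23164, 22288), (23165, 22316), (23166, 22964), (23167, 22312)]
    ⟨e3 q23104 (flp_a L751104) q23350, e3 q23105 (flp_a L751591) q23387, e3 q23106 (flp_a L760712) q24288, e3 q23107 (flp_a L760718) q24289, e3 q23108 (flp_a L749506) q23236, e3 q23109 (flp_a L749720) q23250, e3 q23110 (flp_a L758616) q24006, e3 q23111 (flp_a L758624) q24007, e3 q23112 L761250 q24375, e3 q23113 (flp_a L757114) q23848, e3 q23114 (flp_a L757106) q23847, e3 q23115 (flp_a L749564) q23240, e3 q23116 (flp_a L749746) q23253, e3 q23117 L761270 q24380, e3 q23118 (flp_a L748000) q21638, e3 q23119 L748004 q21641, e3 q23120 (flp_a L751929) q23416, e3 q23121 (flp_a L749780) q23256, e3 q23122 (flp_a L752336) q23447, e3 q23123 (flp_a L757177) q23855, e3 q23124 (flp_a L757162) q23854, e3 q23125 (flp_a L752042)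 q23424, e3 q23126 (flp_a L749872) q23263, e3 q23127 (flp_a L751853) q23408, e3 q23128 (flp_a L749520) q23237, e3 q23129 (flp_a L749726) q23251, e3 q23130 (flp_a L757260) q23862, e3 q23131 L748098 q21700, e3 q23132 L748109 q21671, e3 q23133 L748114 q21680, e3 q23134 (flp_a L750013) q23274, e3 q23135 (flp_a L750026) q23275, e3 q23136 L748142 q21667, e3 q23137 (flp_a L758718) q24017, e3 q23138 (flp_a L759000) q24047, e3 q23139 (flp_a L759121) q24059, e3 q23140 (flp_a L761344) q24389, e3 q23141 (flp_a L758153) q23964, e3 q23142 (flp_a L755339) q23685, e3 q23143 (flp_a L755358) q23687, e3 q23144 (flp_a L755232) q23676, e3 q23145 (flp_a L758638) q24009, e3 q23146 (flp_a L752348) q23448, e3 q23147 (flp_a L750055) q23277, e3 q23148 (flp_a L750068) q23278, e3 q23149 (flp_a L751118) q23351, e3 q23150 (flp_a L751601) q23388, e3 q23151 (flp_a L750081) q23279, e3 q23152 (flp_a L749984) q23272, e3 q23153 (flp_a L752223) q23439, e3 q23154 (flp_a L750105) q23281, e3 q23155 (flp_a L752361) q23449, e3 q23156 (flp_a L750094) q23280, e3 q23157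 (flp_a L758947) q24042, e3 q23158 L748293 q22078, e3 q23159 L748312 q22083, e3 q23160 L748346 q22067, e3 q23161 L748352 q22274, e3 q23162 L748370 q22691, e3 q23163 L748386 q22284, e3 q23164 L748402 q22288, e3 q23165 L748419 q22316, e3 q23166 L748437 q22964, e3 q23167 L748453 q22312, trivial⟩ (by decide +kernel)

theorem ce_a_362 : ∀ r, r < 64 → sm ga (Qf (23168 + r)) = Qf (tab Gen.a (23168 + r)) :=
  edges_tab (sm ga) Qf (tab Gen.a) 23168 [(23168, 22959), (23169, 22317), (23170, 22965), (23171, 22331), (23172, 21732), (23173, 22127), (23174, 22134), (23175, 22326), (23176, 22332), (23177, 22325), (23178, 22339), (23179, 22340), (23180, 22179), (23181, 21761), (23182, 22692), (23183, 22699), (23184, 22700), (23185, 22706), (23186, 22707), (23187, 22708), (23188, 22960), (23189, 22690), (23190, 22147), (23191, 22942), (23192, 22948), (23193, 24416), (23194, 22148), (23195, 22943), (23196, 22307), (23197, 22949), (23198, 22228), (23199, 22970), (23200, 22241), (23201, 22352), (23202, 21924), (23203, 21925), (23204, 21926), (23205,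 22586), (23206, 22623), (23207, 22788), (23208, 22512), (23209, 22789), (23210, 22790), (23211, 22516), (23212, 22791), (23213, 21913), (23214, 21914), (23215, 22506), (23216, 23065), (23217, 23076), (23218, 22529), (23219, 22542), (23220, 23069), (23221, 23059), (23222, 23060), (23223, 23066), (23224, 23077), (23225, 22543), (23226, 23070), (23227, 23079), (23228, 22549), (23229, 22556), (23230, 22562), (23231, 23075)]
    ⟨e3 q23168 L748471 q22959, e3 q23169 L748487 q22317, e3 q23170 L748499 q22965, e3 q23171 L748511 q22331, e3 q23172 L748529 q21732, e3 q23173 L748549 q22127, e3 q23174 L748566 q22134, e3 q23175 L748584 q22326, e3 q23176 L748600 q22332, e3 q23177 L748614 q22325, e3 q23178 L748632 q22339, e3 q23179 L748646 q22340, e3 q23180 L748661 q22179, e3 q23181 L748679 q21761, e3 q23182 L748695 q22692, e3 q23183 L748713 q22699, e3 q23184 L748731 q22700, e3 q23185 L748743 q22706, e3 q23186 L748759 q22707, e3 q23187 L748774 q22708, e3 q23188 L748791 q22960, e3 q23189 L748803 q22690, e3 q23190 L748821 q22147, e3 q23191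 L748839 q22942, e3 q23192 L748855 q22948, e3 q23193 (flp_a L761655) q24416, e3 q23194 L748873 q22148, e3 q23195 L748889 q22943, e3 q23196 L748905 q22307, e3 q23197 L748921 q22949, e3 q23198 L748943 q22228, e3 q23199 L748949 q22970, e3 q23200 L748975 q22241, e3 q23201 L748981 q22352, e3 q23202 L748992 q21924, e3 q23203 L749009 q21925, e3 q23204 L749025 q21926, e3 q23205 L749042 q22586, e3 q23206 L749060 q22623, e3 q23207 L749074 q22788, e3 q23208 L749091 q22512, e3 q23209 L749108 q22789, e3 q23210 L749120 q22790, e3 q23211 L749133 q22516, e3 q23212 L749146 q22791, e3 q23213 L749158 q21913, e3 q23214 L749176 q21914, e3 q23215 L749193 q22506, e3 q23216 L749210 q23065, e3 q23217 L749226 q23076, e3 q23218 L749242 q22529, e3 q23219 L749260 q22542, e3 q23220 L749274 q23069, e3 q23221 L749286 q23059, e3 q23222 L749303 q23060, e3 q23223 L749316 q23066, e3 q23224 L749332 q23077, e3 q23225 L749347 q22543, e3 q23226 L749363 q23070, e3 q23227 L749375 q23079, e3 q23228 L749389 q22549, e3 q23229 L749403 q22556, e3 q23230 L749417 q22562,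 e3 q23231 L749431 q23075, trivial⟩ (by decide +kernel)

theorem ce_a_363 : ∀ r, r < 64 → sm ga (Qf (23232 + r)) = Qf (tab Gen.a (23232 + r)) :=
  edges_tab (sm ga) Qf (tab Gen.a) 23232 [(23232, 22557), (23233, 22563), (23234, 23092), (23235, 22610), (23236, 23108), (23237, 23128), (23238, 22591), (23239, 22616), (23240, 23115), (23241, 22463), (23242, 22804), (23243, 22807), (23244, 22408), (23245, 22604), (23246, 22605), (23247, 23102), (23248, 23103), (23249, 22611), (23250, 23109), (23251, 23129), (23252, 22617), (23253, 23116), (23254, 22636), (23255, 22648), (23256, 23121), (23257, 22628), (23258, 22641), (23259, 22650), (23260, 22637), (23261, 22560), (23262, 22649), (23263, 23126), (23264, 22642), (23265, 22643), (23266, 22763), (23267, 22651), (23268, 22657), (23269, 22658), (23270, 22780), (23271, 22659), (23272, 23152), (23273, 22490), (23274, 23134), (23275, 23135), (23276, 22415), (23277, 23147), (23278, 23148), (23279, 23151), (23280, 23156), (23281, 23154), (23282, 22416), (23283, 22417), (23284, 22418), (23285,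 22303), (23286, 22349), (23287, 22128), (23288, 22419), (23289, 22420), (23290, 22421), (23291, 22422), (23292, 22423), (23293, 22424), (23294, 22425), (23295, 22426)]
    ⟨e3 q23232 L749446 q22557, e3 q23233 L749459 q22563, e3 q23234 L749474 q23092, e3 q23235 L749490 q22610, e3 q23236 L749506 q23108, e3 q23237 L749520 q23128, e3 q23238 L749536 q22591, e3 q23239 L749552 q22616, e3 q23240 L749564 q23115, e3 q23241 L749574 q22463, e3 q23242 L749592 q22804, e3 q23243 L749610 q22807, e3 q23244 L749628 q22408, e3 q23245 L749646 q22604, e3 q23246 L749663 q22605, e3 q23247 L749680 q23102, e3 q23248 L749692 q23103, e3 q23249 L749704 q22611, e3 q23250 L749720 q23109, e3 q23251 L749726 q23129, e3 q23252 L749736 q22617, e3 q23253 L749746 q23116, e3 q23254 L749754 q22636, e3 q23255 L749768 q22648, e3 q23256 L749780 q23121, e3 q23257 L749793 q22628, e3 q23258 L749804 q22641, e3 q23259 L749816 q22650, e3 q23260 L749829 q22637, e3 q23261 L749842 q22560, e3 q23262 L749857 q22649, e3 q23263 L749872 q23126, e3 q23264 L749882 q22642, e3 q23265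 L749892 q22643, e3 q23266 L749916 q22763, e3 q23267 L749922 q22651, e3 q23268 L749934 q22657, e3 q23269 L749946 q22658, e3 q23270 L749967 q22780, e3 q23271 L749973 q22659, e3 q23272 L749984 q23152, e3 q23273 L749999 q22490, e3 q23274 L750013 q23134, e3 q23275 L750026 q23135, e3 q23276 L750040 q22415, e3 q23277 L750055 q23147, e3 q23278 L750068 q23148, e3 q23279 L750081 q23151, e3 q23280 L750094 q23156, e3 q23281 L750105 q23154, e3 q23282 L750117 q22416, e3 q23283 L750135 q22417, e3 q23284 L750153 q22418, e3 q23285 L750169 q22303, e3 q23286 L750187 q22349, e3 q23287 L750201 q22128, e3 q23288 L750218 q22419, e3 q23289 L750232 q22420, e3 q23290 L750247 q22421, e3 q23291 L750263 q22422, e3 q23292 L750277 q22423, e3 q23293 L750289 q22424, e3 q23294 L750306 q22425, e3 q23295 L750322 q22426, trivial⟩ (by decide +kernel)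

theorem ce_a_364 : ∀ r, r < 64 → sm ga (Qf (23296 + r)) = Qf (tab Gen.a (23296 + r)) :=
  edges_tab (sm ga) Qf (tab Gen.a) 23296 [(23296, 22402), (23297, 22427), (23298, 22428), (23299, 22407), (23300, 22414), (23301, 21922), (23302, 21923), (23303, 21934), (23304, 21940), (23305, 21942), (23306, 21943), (23307, 21946), (23308, 21947), (23309, 21958), (23310, 21963), (23311, 21964), (23312, 21974), (23313, 21988), (23314, 21989), (23315, 21990), (23316, 21991), (23317, 21992), (23318, 21993), (23319, 22007), (23320, 22008), (23321, 22010), (23322, 22014), (23323, 22020), (23324, 22022), (23325, 22251), (23326, 22252), (23327, 22795), (23328, 22823), (23329, 22825), (23330, 22873), (23331, 22269), (23332, 22935), (23333, 24444), (23334, 21916), (23335, 21917), (23336, 24557), (23337, 24558), (23338, 22805), (23339, 22842), (23340, 22844), (23341, 22880), (23342, 24526), (23343, 24527), (23344, 22308), (23345, 24434), (23346, 24435), (23347, 22578), (23348, 22621), (23349, 23061), (23350, 23104), (23351, 23149), (23352, 22310),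 (23353, 22957), (23354, 24528), (23355, 22597), (23356, 22600), (23357, 22635), (23358, 22464), (23359, 22784)]
    ⟨e3 q23296 L750337 q22402, e3 q23297 L750355 q22427, e3 q23298 L750365 q22428, e3 q23299 L750381 q22407, e3 q23300 L750399 q22414, e3 q23301 L750416 q21922, e3 q23302 L750433 q21923, e3 q23303 L750447 q21934, e3 q23304 L750461 q21940, e3 q23305 L750478 q21942, e3 q23306 L750496 q21943, e3 q23307 L750513 q21946, e3 q23308 L750531 q21947, e3 q23309 L750541 q21958, e3 q23310 L750558 q21963, e3 q23311 L750573 q21964, e3 q23312 L750585 q21974, e3 q23313 L750597 q21988, e3 q23314 L750611 q21989, e3 q23315 L750627 q21990, e3 q23316 L750645 q21991, e3 q23317 L750661 q21992, e3 q23318 L750671 q21993, e3 q23319 L750679 q22007, e3 q23320 L750695 q22008, e3 q23321 L750711 q22010, e3 q23322 L750723 q22014, e3 q23323 L750740 q22020, e3 q23324 L750755 q22022, e3 q23325 L750770 q22251, e3 q23326 L750788 q22252, e3 q23327 L750802 q22795, e3 q23328 L750819 q22823, e3 q23329 L750836 q22825, e3 q23330 L750848 q22873, e3 q23331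 L750861 q22269, e3 q23332 L750878 q22935, e3 q23333 (flp_a L762078) q24444, e3 q23334 L750903 q21916, e3 q23335 L750921 q21917, e3 q23336 (flp_a L763680) q24557, e3 q23337 (flp_a L763698) q24558, e3 q23338 L750956 q22805, e3 q23339 L750967 q22842, e3 q23340 L750978 q22844, e3 q23341 L750990 q22880, e3 q23342 (flp_a L763229) q24526, e3 q23343 (flp_a L763246) q24527, e3 q23344 L751021 q22308, e3 q23345 (flp_a L761923) q24434, e3 q23346 (flp_a L761940) q24435, e3 q23347 L751061 q22578, e3 q23348 L751077 q22621, e3 q23349 L751091 q23061, e3 q23350 L751104 q23104, e3 q23351 L751118 q23149, e3 q23352 L751129 q22310, e3 q23353 L751143 q22957, e3 q23354 (flp_a L763260) q24528, e3 q23355 L751167 q22597, e3 q23356 L751184 q22600, e3 q23357 L751200 q22635, e3 q23358 L751215 q22464, e3 q23359 L751231 q22784, trivial⟩ (by decide +kernel)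

theorem ce_a_365 : ∀ r, r < 64 → sm ga (Qf (23360 + r)) = Qf (tab Gen.a (23360 + r)) :=
  edges_tab (sm ga) Qf (tab Gen.a) 23360 [(23360, 24529), (23361, 22465), (23362, 24530), (23363, 24531), (23364, 22993), (23365, 23004), (23366, 24532), (23367, 24533), (23368, 22622), (23369, 23073), (23370, 22353), (23371, 22976), (23372, 22813), (23373, 23074), (23374, 23012), (23375, 23015), (23376, 22803), (23377, 24534), (23378, 23013), (23379, 22291), (23380, 22309), (23381, 24535), (23382, 24536), (23383, 21967), (23384, 21968), (23385, 24604), (23386, 24605), (23387, 23105), (23388, 23150), (23389, 22293), (23390, 22311), (23391, 22958), (23392, 24537), (23393, 21979), (23394, 21981), (23395, 21982), (23396, 22846), (23397, 24616), (23398, 22534), (23399, 24617), (23400, 24618), (23401, 22785), (23402, 23088), (23403, 22566), (23404, 22602), (23405, 23087), (23406, 24538), (23407, 24539), (23408, 23127), (23409, 24540), (23410, 24541), (23411, 24542), (23412, 24543), (23413, 24640), (23414, 21995), (23415, 22723), (23416, 23120),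 (23417, 22344), (23418, 22354), (23419, 22822), (23420, 22977), (23421, 22759), (23422, 22718), (23423, 22580)]
    ⟨e3 q23360 (flp_a L763272) q24529, e3 q23361 L751253 q22465, e3 q23362 (flp_a L763289) q24530, e3 q23363 (flp_a L763303) q24531, e3 q23364 L751284 q22993, e3 q23365 L751302 q23004, e3 q23366 (flp_a L763320) q24532, e3 q23367 (flp_a L763334) q24533, e3 q23368 L751332 q22622, e3 q23369 L751348 q23073, e3 q23370 L751362 q22353, e3 q23371 L751377 q22976, e3 q23372 L751390 q22813, e3 q23373 L751404 q23074, e3 q23374 L751417 q23012, e3 q23375 L751433 q23015, e3 q23376 L751448 q22803, e3 q23377 (flp_a L763344) q24534, e3 q23378 L751470 q23013, e3 q23379 L751486 q22291, e3 q23380 L751503 q22309, e3 q23381 (flp_a L763361) q24535, e3 q23382 (flp_a L763374) q24536, e3 q23383 L751535 q21967, e3 q23384 L751553 q21968, e3 q23385 (flp_a L764261) q24604, e3 q23386 (flp_a L764279) q24605, e3 q23387 L751591 q23105, e3 q23388 L751601 q23150, e3 q23389 L751609 q22293, e3 q23390 L751625 q22311, e3 q23391 L751637 q22958, e3 q23392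 (flp_a L763386) q24537, e3 q23393 L751653 q21979, e3 q23394 L751671 q21981, e3 q23395 L751687 q21982, e3 q23396 L751703 q22846, e3 q23397 (flp_a L764403) q24616, e3 q23398 L751735 q22534, e3 q23399 (flp_a L764421) q24617, e3 q23400 (flp_a L764433) q24618, e3 q23401 L751767 q22785, e3 q23402 L751783 q23088, e3 q23403 L751795 q22566, e3 q23404 L751813 q22602, e3 q23405 L751829 q23087, e3 q23406 (flp_a L763400) q24538, e3 q23407 (flp_a L763414) q24539, e3 q23408 L751853 q23127, e3 q23409 (flp_a L763430) q24540, e3 q23410 (flp_a L763448) q24541, e3 q23411 (flp_a L763462) q24542, e3 q23412 (flp_a L763474) q24543, e3 q23413 L764679 q24640, e3 q23414 L751895 q21995, e3 q23415 L751912 q22723, e3 q23416 L751929 q23120, e3 q23417 L751939 q22344, e3 q23418 L751954 q22354, e3 q23419 L751967 q22822, e3 q23420 L751981 q22977, e3 q23421 L752002 q22759, e3 q23422 L752008 q22718, e3 q23423 L752024 q22580, trivial⟩ (by decide +kernel)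

theorem ce_a_366 : ∀ r, r < 64 → sm ga (Qf (23424 + r)) = Qf (tab Gen.a (23424 + r)) :=
  edges_tab (sm ga) Qf (tab Gen.a) 23424 [(23424, 23125), (23425, 24545), (23426, 24546), (23427, 22751), (23428, 22840), (23429, 22345), (23430, 22356), (23431, 22768), (23432, 22872), (23433, 22027), (23434, 24547), (23435, 22034), (23436, 22774), (23437, 22879), (23438, 24653), (23439, 23153), (23440, 22032), (23441, 22033), (23442, 22866), (23443, 24641), (23444, 24654), (23445, 22724), (23446, 22786), (23447, 23122), (23448, 23146), (23449, 23155), (23450, 22773), (23451, 22051), (23452, 22053), (23453, 22080), (23454, 22074), (23455, 22683), (23456, 22073), (23457, 22081), (23458, 22077), (23459, 22079), (23460, 22087), (23461, 22887), (23462, 22085), (23463, 22086), (23464, 22886), (23465, 22885), (23466, 22259), (23467, 22260), (23468, 22701), (23469, 22124), (23470, 22125), (23471, 22129), (23472, 22130), (23473, 22132), (23474, 22133), (23475, 22135), (23476, 22137), (23477, 22138), (23478, 22144), (23479, 22145), (23480, 22146),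 (23481, 22150), (23482, 22151), (23483, 22153), (23484, 22154), (23485, 22158), (23486, 22164), (23487, 22168)]
    ⟨e3 q23424 L752042 q23125, e3 q23425 (flp_a L763492) q24545, e3 q23426 (flp_a L763510) q24546, e3 q23427 L752086 q22751, e3 q23428 L752092 q22840, e3 q23429 L752100 q22345, e3 q23430 L752114 q22356, e3 q23431 L752136 q22768, e3 q23432 L752142 q22872, e3 q23433 L752155 q22027, e3 q23434 (flp_a L763526) q24547, e3 q23435 L752181 q22034, e3 q23436 L752194 q22774, e3 q23437 L752205 q22879, e3 q23438 (flp_a L764855) q24653, e3 q23439 L752223 q23153, e3 q23440 L752234 q22032, e3 q23441 L752250 q22033, e3 q23442 L752265 q22866, e3 q23443 (flp_a L764687) q24641, e3 q23444 (flp_a L764872) q24654, e3 q23445 L752308 q22724, e3 q23446 L752321 q22786, e3 q23447 L752336 q23122, e3 q23448 L752348 q23146, e3 q23449 L752361 q23155, e3 q23450 L752374 q22773, e3 q23451 L752386 q22051, e3 q23452 L752405 q22053, e3 q23453 L752424 q22080, e3 q23454 L752443 q22074, e3 q23455 L752462 q22683, e3 q23456 L752481 q22073, e3 q23457 L752500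 q22081, e3 q23458 L752519 q22077, e3 q23459 L752538 q22079, e3 q23460 L752557 q22087, e3 q23461 L752577 q22887, e3 q23462 L752597 q22085, e3 q23463 L752616 q22086, e3 q23464 L752635 q22886, e3 q23465 L752654 q22885, e3 q23466 L752673 q22259, e3 q23467 L752691 q22260, e3 q23468 L752707 q22701, e3 q23469 L752723 q22124, e3 q23470 L752741 q22125, e3 q23471 L752759 q22129, e3 q23472 L752775 q22130, e3 q23473 L752791 q22132, e3 q23474 L752809 q22133, e3 q23475 L752821 q22135, e3 q23476 L752838 q22137, e3 q23477 L752854 q22138, e3 q23478 L752871 q22144, e3 q23479 L752889 q22145, e3 q23480 L752907 q22146, e3 q23481 L752919 q22150, e3 q23482 L752933 q22151, e3 q23483 L752949 q22153, e3 q23484 L752965 q22154, e3 q23485 L752975 q22158, e3 q23486 L752991 q22164, e3 q23487 L753008 q22168, trivial⟩ (by decide +kernel)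

theorem ce_a_367 : ∀ r, r < 64 → sm ga (Qf (23488 + r)) = Qf (tab Gen.a (23488 + r)) :=
  edges_tab (sm ga) Qf (tab Gen.a) 23488 [(23488, 22897), (23489, 22904), (23490, 22906), (23491, 22917), (23492, 22990), (23493, 22999), (23494, 24664), (23495, 22289), (23496, 24411), (23497, 24515), (23498, 24665), (23499, 24666), (23500, 22694), (23501, 24667), (23502, 24668), (23503, 22940), (23504, 22279), (23505, 22704), (23506, 24669), (23507, 22277), (23508, 22705), (23509, 24670), (23510, 24671), (23511, 24424), (23512, 22968), (23513, 22395), (23514, 24672), (23515, 24673), (23516, 22946), (23517, 24674), (23518, 24675), (23519, 22322), (23520, 22947), (23521, 22296), (23522, 24676), (23523, 22971), (23524, 22346), (23525, 22975), (23526, 22405), (23527, 22412), (23528, 22338), (23529, 22695), (23530, 22954), (23531, 22248), (23532, 22264), (23533, 22278), (23534, 22392), (23535, 22933), (23536, 22934), (23537, 24415), (23538, 22249), (23539, 22250), (23540, 22253), (23541, 22254), (23542, 22255), (23543, 22256), (23544, 22257),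 (23545, 22258), (23546, 22262), (23547, 22263), (23548, 22265), (23549, 22294), (23550, 22320), (23551, 22270)]
    ⟨e3 q23488 L753025 q22897, e3 q23489 L753042 q22904, e3 q23490 L753059 q22906, e3 q23491 L753069 q22917, e3 q23492 L753080 q22990, e3 q23493 L753093 q22999, e3 q23494 (flp_a L765019) q24664, e3 q23495 L753117 q22289, e3 q23496 (flp_a L761570) q24411, e3 q23497 (flp_a L763067) q24515, e3 q23498 (flp_a L765037) q24665, e3 q23499 (flp_a L765055) q24666, e3 q23500 L753183 q22694, e3 q23501 (flp_a L765072) q24667, e3 q23502 (flp_a L765090) q24668, e3 q23503 L753217 q22940, e3 q23504 L753234 q22279, e3 q23505 L753251 q22704, e3 q23506 (flp_a L765104) q24669, e3 q23507 L753274 q22277, e3 q23508 L753291 q22705, e3 q23509 (flp_a L765121) q24670, e3 q23510 (flp_a L765139) q24671, e3 q23511 (flp_a L761779) q24424, e3 q23512 L753344 q22968, e3 q23513 L753360 q22395, e3 q23514 (flp_a L765151) q24672, e3 q23515 (flp_a L765163) q24673, e3 q23516 L753388 q22946, e3 q23517 (flp_a L765179) q24674, e3 q23518 (flp_a L765193) q24675,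 e3 q23519 L753416 q22322, e3 q23520 L753430 q22947, e3 q23521 L753446 q22296, e3 q23522 (flp_a L765203) q24676, e3 q23523 L753468 q22971, e3 q23524 L753485 q22346, e3 q23525 L753500 q22975, e3 q23526 L753515 q22405, e3 q23527 L753531 q22412, e3 q23528 L753546 q22338, e3 q23529 L753561 q22695, e3 q23530 L753575 q22954, e3 q23531 L753587 q22248, e3 q23532 L753604 q22264, e3 q23533 L753620 q22278, e3 q23534 L753636 q22392, e3 q23535 L753651 q22933, e3 q23536 L753663 q22934, e3 q23537 (flp_a L761637) q24415, e3 q23538 L753682 q22249, e3 q23539 L753698 q22250, e3 q23540 L753715 q22253, e3 q23541 L753732 q22254, e3 q23542 L753749 q22255, e3 q23543 L753763 q22256, e3 q23544 L753778 q22257, e3 q23545 L753791 q22258, e3 q23546 L753803 q22262, e3 q23547 L753821 q22263, e3 q23548 L753835 q22265, e3 q23549 L753845 q22294, e3 q23550 L753861 q22320, e3 q23551 L753877 q22270, trivial⟩ (by decide +kernel)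

theorem ce_a_368 : ∀ r, r < 64 → sm ga (Qf (23552 + r)) = Qf (tab Gen.a (23552 + r)) :=
  edges_tab (sm ga) Qf (tab Gen.a) 23552 [(23552, 22271), (23553, 22272), (23554, 22273), (23555, 22275), (23556, 22276), (23557, 22321), (23558, 22281), (23559, 22283), (23560, 22285), (23561, 22286), (23562, 22290), (23563, 22295), (23564, 22219), (23565, 22297), (23566, 22298), (23567, 22220), (23568, 24741), (23569, 24430), (23570, 22313), (23571, 22314), (23572, 22315), (23573, 22318), (23574, 22319), (23575, 22335), (23576, 22916), (23577, 22327), (23578, 22328), (23579, 22329), (23580, 22330), (23581, 22333), (23582, 22334), (23583, 22342), (23584, 22341), (23585, 24432), (23586, 22357), (23587, 22921), (23588, 22567), (23589, 22581), (23590, 22835), (23591, 22877), (23592, 24713), (23593, 24719), (23594, 24548), (23595, 24549), (23596, 22792), (23597, 24720), (23598, 24721), (23599, 24722), (23600, 24723), (23601, 24724), (23602, 24725), (23603, 24662), (23604, 22521), (23605, 22571), (23606, 24726), (23607, 24694), (23608, 24714),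 (23609, 24727), (23610, 22905), (23611, 22908), (23612, 22913), (23613, 24554), (23614, 24730), (23615, 24731)]
    ⟨e3 q23552 L753890 q22271, e3 q23553 L753908 q22272, e3 q23554 L753920 q22273, e3 q23555 L753931 q22275, e3 q23556 L753941 q22276, e3 q23557 L753949 q22321, e3 q23558 L753966 q22281, e3 q23559 L753984 q22283, e3 q23560 L754001 q22285, e3 q23561 L754010 q22286, e3 q23562 L754027 q22290, e3 q23563 L754037 q22295, e3 q23564 L754047 q22219, e3 q23565 L754065 q22297, e3 q23566 L754077 q22298, e3 q23567 L754085 q22220, e3 q23568 (flp_a L766029) q24741, e3 q23569 (flp_a L761871) q24430, e3 q23570 L754121 q22313, e3 q23571 L754131 q22314, e3 q23572 L754137 q22315, e3 q23573 L754145 q22318, e3 q23574 L754153 q22319, e3 q23575 L754161 q22335, e3 q23576 L754179 q22916, e3 q23577 L754197 q22327, e3 q23578 L754208 q22328, e3 q23579 L754225 q22329, e3 q23580 L754242 q22330, e3 q23581 L754252 q22333, e3 q23582 L754264 q22334, e3 q23583 L754270 q22342, e3 q23584 L754283 q22341, e3 q23585 (flp_a L761891) q24432, e3 q23586 L754308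 q22357, e3 q23587 L754319 q22921, e3 q23588 L754333 q22567, e3 q23589 L754350 q22581, e3 q23590 L754367 q22835, e3 q23591 L754379 q22877, e3 q23592 (flp_a L765667) q24713, e3 q23593 (flp_a L765740) q24719, e3 q23594 (flp_a L763543) q24548, e3 q23595 (flp_a L763561) q24549, e3 q23596 L754436 q22792, e3 q23597 (flp_a L765756) q24720, e3 q23598 (flp_a L765773) q24721, e3 q23599 (flp_a L765790) q24722, e3 q23600 (flp_a L765806) q24723, e3 q23601 (flp_a L765822) q24724, e3 q23602 (flp_a L765835) q24725, e3 q23603 (flp_a L764985) q24662, e3 q23604 L754522 q22521, e3 q23605 L754539 q22571, e3 q23606 (flp_a L765849) q24726, e3 q23607 (flp_a L765445) q24694, e3 q23608 (flp_a L765684) q24714, e3 q23609 (flp_a L765867) q24727, e3 q23610 L754595 q22905, e3 q23611 L754612 q22908, e3 q23612 L754630 q22913, e3 q23613 (flp_a L763638) q24554, e3 q23614 (flp_a L765910) q24730, e3 q23615 (flp_a L765921) q24731, trivial⟩ (by decide +kernel)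

theorem ce_a_369 : ∀ r, r < 64 → sm ga (Qf (23616 + r)) = Qf (tab Gen.a (23616 + r)) :=
  edges_tab (sm ga) Qf (tab Gen.a) 23616 [(23616, 24732), (23617, 24733), (23618, 24402), (23619, 24734), (23620, 24735), (23621, 24692), (23622, 22914), (23623, 22969), (23624, 24736), (23625, 24404), (23626, 24737), (23627, 24738), (23628, 24684), (23629, 24739), (23630, 22500), (23631, 24600), (23632, 23054), (23633, 24611), (23634, 24728), (23635, 24740), (23636, 24709), (23637, 24742), (23638, 24743), (23639, 22304), (23640, 22306), (23641, 22898), (23642, 24513), (23643, 24814), (23644, 22899), (23645, 24815), (23646, 24431), (23647, 24567), (23648, 24601), (23649, 24575), (23650, 24612), (23651, 24407), (23652, 24747), (23653, 24748), (23654, 24749), (23655, 24750), (23656, 24405), (23657, 24409), (23658, 24751), (23659, 24752), (23660, 24840), (23661, 24729), (23662, 24703), (23663, 22900), (23664, 22902), (23665, 24412), (23666, 22941), (23667, 24755), (23668, 24756), (23669, 24757), (23670, 24745), (23671, 24413), (23672, 24758),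 (23673, 24414), (23674, 24760), (23675, 24759), (23676, 23144), (23677, 24643), (23678, 24650), (23679, 22350)]
    ⟨e3 q23616 (flp_a L765939) q24732, e3 q23617 (flp_a L765947) q24733, e3 q23618 (flp_a L761429) q24402, e3 q23619 (flp_a L765956) q24734, e3 q23620 (flp_a L765964) q24735, e3 q23621 (flp_a L765411) q24692, e3 q23622 L754719 q22914, e3 q23623 L754736 q22969, e3 q23624 (flp_a L765972) q24736, e3 q23625 (flp_a L761463) q24404, e3 q23626 (flp_a L765989) q24737, e3 q23627 (flp_a L766006) q24738, e3 q23628 (flp_a L765316) q24684, e3 q23629 (flp_a L766013) q24739, e3 q23630 L754792 q22500, e3 q23631 (flp_a L764217) q24600, e3 q23632 L754822 q23054, e3 q23633 (flp_a L764347) q24611, e3 q23634 (flp_a L765875) q24728, e3 q23635 (flp_a L766023) q24740, e3 q23636 (flp_a L765609) q24709, e3 q23637 (flp_a L766047) q24742, e3 q23638 (flp_a L766059) q24743, e3 q23639 L754888 q22304, e3 q23640 L754906 q22306, e3 q23641 L754922 q22898, e3 q23642 (flp_a L763034) q24513, e3 q23643 (flp_a L766818) q24814, e3 q23644 L754961 q22899,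 e3 q23645 (flp_a L766834) q24815, e3 q23646 (flp_a L761877) q24431, e3 q23647 (flp_a L763796) q24567, e3 q23648 (flp_a L764234) q24601, e3 q23649 (flp_a L763899) q24575, e3 q23650 (flp_a L764363) q24612, e3 q23651 (flp_a L761514) q24407, e3 q23652 (flp_a L766103) q24747, e3 q23653 (flp_a L766109) q24748, e3 q23654 (flp_a L766117) q24749, e3 q23655 (flp_a L766125) q24750, e3 q23656 (flp_a L761480) q24405, e3 q23657 (flp_a L761548) q24409, e3 q23658 (flp_a L766137) q24751, e3 q23659 (flp_a L766145) q24752, e3 q23660 L767046 q24840, e3 q23661 (flp_a L765893) q24729, e3 q23662 (flp_a L765543) q24703, e3 q23663 L755110 q22900, e3 q23664 L755125 q22902, e3 q23665 (flp_a L761590) q24412, e3 q23666 L755154 q22941, e3 q23667 (flp_a L766177) q24755, e3 q23668 (flp_a L766194) q24756, e3 q23669 (flp_a L766203) q24757, e3 q23670 (flp_a L766075) q24745, e3 q23671 (flp_a L761608) q24413, e3 q23672 (flp_a L766220) q24758, e3 q23673 (flp_a L761622) q24414, e3 q23674 (flp_a L766248) q24760, e3 q23675 (flp_a L766234) q24759, e3 q23676 L755232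 q23144, e3 q23677 (flp_a L764718) q24643, e3 q23678 (flp_a L764807) q24650, e3 q23679 L755265 q22350, trivial⟩ (by decide +kernel)

theorem ce_a_370 : ∀ r, r < 64 → sm ga (Qf (23680 + r)) = Qf (tab Gen.a (23680 + r)) :=
  edges_tab (sm ga) Qf (tab Gen.a) 23680 [(23680, 22351), (23681, 24514), (23682, 24853), (23683, 24433), (23684, 24594), (23685, 23142), (23686, 24644), (23687, 23143), (23688, 24651), (23689, 22852), (23690, 22847), (23691, 22867), (23692, 22853), (23693, 22870), (23694, 22393), (23695, 22396), (23696, 22403), (23697, 22404), (23698, 22409), (23699, 22995), (23700, 22996), (23701, 22907), (23702, 22918), (23703, 23006), (23704, 23007), (23705, 22988), (23706, 22989), (23707, 22997), (23708, 22998), (23709, 23008), (23710, 23009), (23711, 23014), (23712, 23016), (23713, 22984), (23714, 24715), (23715, 24865), (23716, 22985), (23717, 24700), (23718, 24866), (23719, 22811), (23720, 22983), (23721, 22986), (23722, 22987), (23723, 22953), (23724, 24523), (23725, 24867), (23726, 24868), (23727, 24900), (23728,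 24710), (23729, 22973), (23730, 24525), (23731, 24474), (23732, 22919), (23733, 22974), (23734, 24506), (23735, 24511), (23736, 24512), (23737, 24516), (23738, 24517), (23739, 24518), (23740, 24519), (23741, 24520), (23742, 24521), (23743, 24522)]
    ⟨e3 q23680 L755278 q22351, e3 q23681 (flp_a L763052) q24514, e3 q23682 (flp_a L767167) q24853, e3 q23683 (flp_a L761908) q24433, e3 q23684 (flp_a L764128) q24594, e3 q23685 L755339 q23142, e3 q23686 (flp_a L764735) q24644, e3 q23687 L755358 q23143, e3 q23688 (flp_a L764824) q24651, e3 q23689 L755377 q22852, e3 q23690 L755389 q22847, e3 q23691 L755405 q22867, e3 q23692 L755420 q22853, e3 q23693 L755432 q22870, e3 q23694 L755448 q22393, e3 q23695 L755462 q22396, e3 q23696 L755472 q22403, e3 q23697 L755480 q22404, e3 q23698 L755492 q22409, e3 q23699 L755502 q22995, e3 q23700 L755515 q22996, e3 q23701 L755523 q22907, e3 q23702 L755533 q22918, e3 q23703 L755544 q23006, e3 q23704 L755551 q23007, e3 q23705 L755561 q22988, e3 q23706 L755576 q22989, e3 q23707 L755590 q22997, e3 q23708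 L755604 q22998, e3 q23709 L755614 q23008, e3 q23710 L755622 q23009, e3 q23711 L755634 q23014, e3 q23712 L755647 q23016, e3 q23713 L755658 q22984, e3 q23714 (flp_a L765702) q24715, e3 q23715 (flp_a L767311) q24865, e3 q23716 L755691 q22985, e3 q23717 (flp_a L765517) q24700, e3 q23718 (flp_a L767323) q24866, e3 q23719 L755719 q22811, e3 q23720 L755737 q22983, e3 q23721 L755755 q22986, e3 q23722 L755771 q22987, e3 q23723 L755783 q22953, e3 q23724 (flp_a L763187) q24523, e3 q23725 (flp_a L767335) q24867, e3 q23726 (flp_a L767345) q24868, e3 q23727 L767678 q24900, e3 q23728 (flp_a L765625) q24710, e3 q23729 L755829 q22973, e3 q23730 (flp_a L763211) q24525, e3 q23731 (flp_a L762510) q24474, e3 q23732 L755861 q22919, e3 q23733 L755872 q22974, e3 q23734 (flp_a L762930) q24506, e3 q23735 (flp_a L763000) q24511, e3 q23736 (flp_a L763018) q24512, e3 q23737 (flp_a L763084) q24516, e3 q23738 (flp_a L763098) q24517, e3 q23739 (flp_a L763114) q24518, e3 q23740 (flp_a L763129) q24519, e3 q23741 (flp_a L763143) q24520, e3 q23742 (flp_a L763160)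 q24521, e3 q23743 (flp_a L763172) q24522, trivial⟩ (by decide +kernel)

theorem ce_a_371 : ∀ r, r < 64 → sm ga (Qf (23744 + r)) = Qf (tab Gen.a (23744 + r)) :=
  edges_tab (sm ga) Qf (tab Gen.a) 23744 [(23744, 24524), (23745, 22501), (23746, 22502), (23747, 22513), (23748, 22514), (23749, 22515), (23750, 22517), (23751, 22518), (23752, 22522), (23753, 22523), (23754, 22530), (23755, 22531), (23756, 22532), (23757, 22544), (23758, 22545), (23759, 22550), (23760, 22551), (23761, 22552), (23762, 22558), (23763, 22559), (23764, 22568), (23765, 22569), (23766, 22572), (23767, 22573), (23768, 22583), (23769, 22585), (23770, 22587), (23771, 22588), (23772, 22589), (23773, 22592), (23774, 22593), (23775, 22594), (23776, 24471), (23777, 24581), (23778, 24584), (23779, 22606), (23780, 22607), (23781, 22608), (23782, 22609), (23783, 22612), (23784, 22613), (23785, 22618), (23786, 22619), (23787, 24959), (23788, 22624), (23789, 22625), (23790, 22626), (23791, 22629), (23792, 22630), (23793, 22631), (23794, 22638), (23795, 22639), (23796,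 22645), (23797, 22652), (23798, 22653), (23799, 22655), (23800, 22662), (23801, 22491), (23802, 24504), (23803, 22994), (23804, 22749), (23805, 22772), (23806, 22834), (23807, 22836)]
    ⟨e3 q23744 (flp_a L763203) q24524, e3 q23745 L755979 q22501, e3 q23746 L755994 q22502, e3 q23747 L756008 q22513, e3 q23748 L756023 q22514, e3 q23749 L756037 q22515, e3 q23750 L756052 q22517, e3 q23751 L756059 q22518, e3 q23752 L756069 q22522, e3 q23753 L756084 q22523, e3 q23754 L756100 q22530, e3 q23755 L756110 q22531, e3 q23756 L756124 q22532, e3 q23757 L756134 q22544, e3 q23758 L756142 q22545, e3 q23759 L756154 q22550, e3 q23760 L756165 q22551, e3 q23761 L756176 q22552, e3 q23762 L756190 q22558, e3 q23763 L756201 q22559, e3 q23764 L756210 q22568, e3 q23765 L756225 q22569, e3 q23766 L756241 q22572, e3 q23767 L756250 q22573, e3 q23768 L756258 q22583, e3 q23769 L756271 q22585, e3 q23770 L756283 q22587, e3 q23771 L756295 q22588, e3 q23772 L756311 q22589, e3 q23773 L756323 q22592, e3 q23774 L756331 q22593, e3 q23775 L756339 q22594, e3 q23776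 (flp_a L762462) q24471, e3 q23777 (flp_a L763977) q24581, e3 q23778 (flp_a L764016) q24584, e3 q23779 L756385 q22606, e3 q23780 L756398 q22607, e3 q23781 L756405 q22608, e3 q23782 L756419 q22609, e3 q23783 L756429 q22612, e3 q23784 L756437 q22613, e3 q23785 L756449 q22618, e3 q23786 L756455 q22619, e3 q23787 L768292 q24959, e3 q23788 L756465 q22624, e3 q23789 L756478 q22625, e3 q23790 L756491 q22626, e3 q23791 L756505 q22629, e3 q23792 L756514 q22630, e3 q23793 L756524 q22631, e3 q23794 L756532 q22638, e3 q23795 L756543 q22639, e3 q23796 L756552 q22645, e3 q23797 L756560 q22652, e3 q23798 L756569 q22653, e3 q23799 L756576 q22655, e3 q23800 L756587 q22662, e3 q23801 L756593 q22491, e3 q23802 (flp_a L762900) q24504, e3 q23803 L756621 q22994, e3 q23804 L756635 q22749, e3 q23805 L756651 q22772, e3 q23806 L756662 q22834, e3 q23807 L756679 q22836, trivial⟩ (by decide +kernel)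

theorem ce_a_372 : ∀ r, r < 64 → sm ga (Qf (23808 + r)) = Qf (tab Gen.a (23808 + r)) :=
  edges_tab (sm ga) Qf (tab Gen.a) 23808 [(23808, 22878), (23809, 24804), (23810, 24915), (23811, 24916), (23812, 22507), (23813, 22508), (23814, 22740), (23815, 24445), (23816, 24979), (23817, 24980), (23818, 22820), (23819, 22793), (23820, 22821), (23821, 24439), (23822, 24917), (23823, 24918), (23824, 24919), (23825, 24442), (23826, 24920), (23827, 24921), (23828, 22598), (23829, 24778), (23830, 24922), (23831, 24923), (23832, 23029), (23833, 23098), (23834, 23091), (23835, 23090), (23836, 24448), (23837, 24924), (23838, 24925), (23839, 24926), (23840, 23025), (23841, 24621), (23842, 22782), (23843, 23085), (23844, 23049), (23845, 23086), (23846, 22750), (23847, 23114), (23848, 23113), (23849, 24449), (23850, 24455), (23851, 24927), (23852, 24928), (23853, 25026), (23854, 23124), (23855, 23123), (23856, 24458), (23857, 24930), (23858, 24931), (23859, 24932), (23860, 24487), (23861, 22741), (23862, 23130), (23863, 24459), (23864, 24462),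 (23865, 24463), (23866, 24493), (23867, 24933), (23868, 24460), (23869, 23050), (23870, 24628), (23871, 24762)]
    ⟨e3 q23808 L756689 q22878, e3 q23809 (flp_a L766720) q24804, e3 q23810 (flp_a L767807) q24915, e3 q23811 (flp_a L767820) q24916, e3 q23812 L756722 q22507, e3 q23813 L756736 q22508, e3 q23814 L756747 q22740, e3 q23815 (flp_a L762096) q24445, e3 q23816 (flp_a L768494) q24979, e3 q23817 (flp_a L768506) q24980, e3 q23818 L756793 q22820, e3 q23819 L756809 q22793, e3 q23820 L756825 q22821, e3 q23821 (flp_a L762006) q24439, e3 q23822 (flp_a L767834) q24917, e3 q23823 (flp_a L767847) q24918, e3 q23824 (flp_a L767859) q24919, e3 q23825 (flp_a L762051) q24442, e3 q23826 (flp_a L767873) q24920, e3 q23827 (flp_a L767881) q24921, e3 q23828 L756886 q22598, e3 q23829 (flp_a L766467) q24778, e3 q23830 (flp_a L767891) q24922, e3 q23831 (flp_a L767906) q24923, e3 q23832 L756928 q23029, e3 q23833 L756940 q23098, e3 q23834 L756958 q23091, e3 q23835 L756972 q23090, e3 q23836 (flp_a L762148) q24448, e3 q23837 (flp_a L767922) q24924,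 e3 q23838 (flp_a L767934) q24925, e3 q23839 (flp_a L767944) q24926, e3 q23840 L757018 q23025, e3 q23841 (flp_a L764479) q24621, e3 q23842 L757040 q22782, e3 q23843 L757056 q23085, e3 q23844 L757066 q23049, e3 q23845 L757078 q23086, e3 q23846 L757090 q22750, e3 q23847 L757106 q23114, e3 q23848 L757114 q23113, e3 q23849 (flp_a L762166) q24449, e3 q23850 (flp_a L762247) q24455, e3 q23851 (flp_a L767956) q24927, e3 q23852 (flp_a L767966) q24928, e3 q23853 L768963 q25026, e3 q23854 L757162 q23124, e3 q23855 L757177 q23123, e3 q23856 (flp_a L762285) q24458, e3 q23857 (flp_a L767986) q24930, e3 q23858 (flp_a L767996) q24931, e3 q23859 (flp_a L768009) q24932, e3 q23860 (flp_a L762665) q24487, e3 q23861 L757244 q22741, e3 q23862 L757260 q23130, e3 q23863 (flp_a L762300) q24459, e3 q23864 (flp_a L762344) q24462, e3 q23865 (flp_a L762359) q24463, e3 q23866 (flp_a L762746) q24493, e3 q23867 (flp_a L768020) q24933, e3 q23868 (flp_a L762313) q24460, e3 q23869 L757337 q23050, e3 q23870 (flp_a L764565) q24628, e3 q23871 (flp_a L766280) q24762,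 trivial⟩ (by decide +kernel)

theorem ce_a_373 : ∀ r, r < 64 → sm ga (Qf (23872 + r)) = Qf (tab Gen.a (23872 + r)) :=
  edges_tab (sm ga) Qf (tab Gen.a) 23872 [(23872, 24934), (23873, 24935), (23874, 23046), (23875, 24779), (23876, 24936), (23877, 24937), (23878, 22579), (23879, 23045), (23880, 24570), (23881, 25049), (23882, 24763), (23883, 23055), (23884, 24938), (23885, 23056), (23886, 24939), (23887, 24436), (23888, 24940), (23889, 24941), (23890, 24942), (23891, 23051), (23892, 24468), (23893, 24943), (23894, 24944), (23895, 24945), (23896, 25068), (23897, 22601), (23898, 22800), (23899, 24578), (23900, 24998), (23901, 22802), (23902, 24579), (23903, 25069), (23904, 24629), (23905, 22815), (23906, 24475), (23907, 24476), (23908, 24950), (23909, 24951), (23910, 24952), (23911, 24953), (23912, 23064), (23913, 24465), (23914, 24479), (23915, 24954), (23916, 24955), (23917, 25095), (23918, 23068), (23919, 23067), (23920, 24469), (23921, 24483), (23922, 24484), (23923, 25102), (23924, 24958), (23925, 22620), (23926, 24571),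 (23927, 24437), (23928, 24960), (23929, 24961), (23930, 24962), (23931, 24490), (23932, 24963), (23933, 24964), (23934, 25115), (23935, 24965)]
    ⟨e3 q23872 (flp_a L768031) q24934, e3 q23873 (flp_a L768046) q24935, e3 q23874 L757389 q23046, e3 q23875 (flp_a L766484) q24779, e3 q23876 (flp_a L768060) q24936, e3 q23877 (flp_a L768068) q24937, e3 q23878 L757424 q22579, e3 q23879 L757438 q23045, e3 q23880 (flp_a L763836) q24570, e3 q23881 (flp_a L769208) q25049, e3 q23882 (flp_a L766297) q24763, e3 q23883 L757484 q23055, e3 q23884 (flp_a L768076) q24938, e3 q23885 L757506 q23056, e3 q23886 (flp_a L768089) q24939, e3 q23887 (flp_a L761956) q24436, e3 q23888 (flp_a L768103) q24940, e3 q23889 (flp_a L768117) q24941, e3 q23890 (flp_a L768129) q24942, e3 q23891 L757558 q23051, e3 q23892 (flp_a L762430) q24468, e3 q23893 (flp_a L768141) q24943, e3 q23894 (flp_a L768147) q24944, e3 q23895 (flp_a L768155) q24945, e3 q23896 L769364 q25068, e3 q23897 L757596 q22601, e3 q23898 L757602 q22800, e3 q23899 (flp_a L763933) q24578, e3 q23900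 (flp_a L768672) q24998, e3 q23901 L757632 q22802, e3 q23902 (flp_a L763950) q24579, e3 q23903 (flp_a L769370) q25069, e3 q23904 (flp_a L764583) q24629, e3 q23905 L757670 q22815, e3 q23906 (flp_a L762528) q24475, e3 q23907 (flp_a L762545) q24476, e3 q23908 (flp_a L768207) q24950, e3 q23909 (flp_a L768220) q24951, e3 q23910 (flp_a L768228) q24952, e3 q23911 (flp_a L768244) q24953, e3 q23912 L757722 q23064, e3 q23913 (flp_a L762388) q24465, e3 q23914 (flp_a L762584) q24479, e3 q23915 (flp_a L768254) q24954, e3 q23916 (flp_a L768264) q24955, e3 q23917 L769570 q25095, e3 q23918 L757766 q23068, e3 q23919 L757778 q23067, e3 q23920 (flp_a L762444) q24469, e3 q23921 (flp_a L762624) q24483, e3 q23922 (flp_a L762632) q24484, e3 q23923 L769624 q25102, e3 q23924 (flp_a L768288) q24958, e3 q23925 (flp_a L757810) q22620, e3 q23926 (flp_a L763852) q24571, e3 q23927 (flp_a L761974) q24437, e3 q23928 (flp_a L768300) q24960, e3 q23929 (flp_a L768312) q24961, e3 q23930 (flp_a L768325) q24962, e3 q23931 (flp_a L762709) q24490, e3 q23932 (flp_a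 L768338) q24963, e3 q23933 (flp_a L768347) q24964, e3 q23934 L769724 q25115, e3 q23935 (flp_a L768355) q24965, trivial⟩ (by decide +kernel)

theorem ce_a_374 : ∀ r, r < 64 → sm ga (Qf (23936 + r)) = Qf (tab Gen.a (23936 + r)) :=
  edges_tab (sm ga) Qf (tab Gen.a) 23936 [(23936, 22632), (23937, 22794), (23938, 24580), (23939, 24486), (23940, 24494), (23941, 24966), (23942, 23078), (23943, 24491), (23944, 24492), (23945, 24497), (23946, 22644), (23947, 25123), (23948, 24967), (23949, 24488), (23950, 24495), (23951, 24498), (23952, 24499), (23953, 25128), (23954, 24968), (23955, 24969), (23956, 22654), (23957, 25132), (23958, 24860), (23959, 24500), (23960, 24502), (23961, 22661), (23962, 25137), (23963, 24970), (23964, 23141), (23965, 23063), (23966, 23041), (23967, 23062), (23968, 22796), (23969, 22676), (23970, 22674), (23971, 25144), (23972, 25145), (23973, 25135), (23974, 23040), (23975, 22693), (23976, 22966), (23977, 22911), (23978, 22702), (23979, 22703), (23980, 24423), (23981, 24403), (23982, 24417), (23983, 25148),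 (23984, 24689), (23985, 24711), (23986, 23082), (23987, 23093), (23988, 22944), (23989, 24418), (23990, 24419), (23991, 24663), (23992, 25151), (23993, 25167), (23994, 24693), (23995, 24420), (23996, 24421), (23997, 22797), (23998, 22798), (23999, 22799)]
    ⟨e3 q23936 (flp_a L757898) q22632, e3 q23937 L757913 q22794, e3 q23938 (flp_a L763962) q24580, e3 q23939 (flp_a L762652) q24486, e3 q23940 (flp_a L762761) q24494, e3 q23941 (flp_a L768367) q24966, e3 q23942 L757955 q23078, e3 q23943 (flp_a L762722) q24491, e3 q23944 (flp_a L762734) q24492, e3 q23945 (flp_a L762805) q24497, e3 q23946 (flp_a L757994) q22644, e3 q23947 (flp_a L769794) q25123, e3 q23948 (flp_a L768378) q24967, e3 q23949 (flp_a L762681) q24488, e3 q23950 (flp_a L762772) q24495, e3 q23951 (flp_a L762817) q24498, e3 q23952 (flp_a L762830) q24499, e3 q23953 L769838 q25128, e3 q23954 (flp_a L768382) q24968, e3 q23955 (flp_a L768391) q24969, e3 q23956 (flp_a L758077) q22654, e3 q23957 (flp_a L769878) q25132, e3 q23958 (flp_a L767246) q24860, e3 q23959 (flp_a L762843)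 q24500, e3 q23960 (flp_a L762873) q24502, e3 q23961 L758129 q22661, e3 q23962 (flp_a L769931) q25137, e3 q23963 (flp_a L768401) q24970, e3 q23964 L758153 q23141, e3 q23965 L758166 q23063, e3 q23966 L758178 q23041, e3 q23967 L758190 q23062, e3 q23968 L758199 q22796, e3 q23969 L758214 q22676, e3 q23970 L758229 q22674, e3 q23971 (flp_a L769999) q25144, e3 q23972 (flp_a L770012) q25145, e3 q23973 (flp_a L769908) q25135, e3 q23974 L758259 q23040, e3 q23975 L758271 q22693, e3 q23976 L758287 q22966, e3 q23977 L758297 q22911, e3 q23978 L758313 q22702, e3 q23979 L758329 q22703, e3 q23980 (flp_a L761761) q24423, e3 q23981 (flp_a L761447) q24403, e3 q23982 (flp_a L761673) q24417, e3 q23983 (flp_a L770040) q25148, e3 q23984 (flp_a L765379) q24689, e3 q23985 (flp_a L765641) q24711, e3 q23986 L758401 q23082, e3 q23987 L758416 q23093, e3 q23988 L758428 q22944, e3 q23989 (flp_a L761691) q24418, e3 q23990 (flp_a L761707) q24419, e3 q23991 (flp_a L765003) q24663, e3 q23992 (flp_a L770078) q25151, e3 q23993 L770242 q25167, e3 q23994 (flp_a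 L765428) q24693, e3 q23995 (flp_a L761719) q24420, e3 q23996 (flp_a L761736) q24421, e3 q23997 L758509 q22797, e3 q23998 L758523 q22798, e3 q23999 L758536 q22799, trivial⟩ (by decide +kernel)

theorem ce_a_375 : ∀ r, r < 64 → sm ga (Qf (24000 + r)) = Qf (tab Gen.a (24000 + r)) :=
  edges_tab (sm ga) Qf (tab Gen.a) 24000 [(24000, 22787), (24001, 23071), (24002, 23094), (24003, 22717), (24004, 25176), (24005, 24624), (24006, 23110), (24007, 23111), (24008, 25181), (24009, 23145), (24010, 23000), (24011, 23010), (24012, 22806), (24013, 22808), (24014, 22809), (24015, 22812), (24016, 23037), (24017, 23137), (24018, 22816), (24019, 22817), (24020, 22818), (24021, 22819), (24022, 24981), (24023, 24645), (24024, 22824), (24025, 22826), (24026, 22827), (24027, 22828), (24028, 22829), (24029, 22830), (24030, 22831), (24031, 24973), (24032, 25017), (24033, 24648), (24034, 22843), (24035, 22845), (24036, 22848), (24037, 22849), (24038, 22850), (24039, 22851), (24040, 22854), (24041, 25217), (24042, 23157), (24043, 22860), (24044, 22861),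 (24045, 24496), (24046, 22868), (24047, 23138), (24048, 22871), (24049, 24652), (24050, 22874), (24051, 22875), (24052, 22876), (24053, 24642), (24054, 24510), (24055, 24655), (24056, 24501), (24057, 22881), (24058, 22882), (24059, 23139), (24060, 22883), (24061, 22783), (24062, 25013), (24063, 24593)]
    ⟨e3 q24000 L758552 q22787, e3 q24001 L758568 q23071, e3 q24002 L758578 q23094, e3 q24003 L758588 q22717, e3 q24004 (flp_a L770337) q25176, e3 q24005 (flp_a L764511) q24624, e3 q24006 L758616 q23110, e3 q24007 L758624 q23111, e3 q24008 L770373 q25181, e3 q24009 L758638 q23145, e3 q24010 L758652 q23000, e3 q24011 L758668 q23010, e3 q24012 L758676 q22806, e3 q24013 L758681 q22808, e3 q24014 L758687 q22809, e3 q24015 L758696 q22812, e3 q24016 L758704 q23037, e3 q24017 L758718 q23137, e3 q24018 L758729 q22816, e3 q24019 L758741 q22817, e3 q24020 L758754 q22818, e3 q24021 L758761 q22819, e3 q24022 (flp_a L768519) q24981, e3 q24023 (flp_a L764759) q24645, e3 q24024 L758787 q22824, e3 q24025 L758800 q22826, e3 q24026 L758812 q22827,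 e3 q24027 L758826 q22828, e3 q24028 L758832 q22829, e3 q24029 L758842 q22830, e3 q24030 L758858 q22831, e3 q24031 (flp_a L768434) q24973, e3 q24032 (flp_a L768887) q25017, e3 q24033 (flp_a L764787) q24648, e3 q24034 L758888 q22843, e3 q24035 L758899 q22845, e3 q24036 L758907 q22848, e3 q24037 L758913 q22849, e3 q24038 L758919 q22850, e3 q24039 L758925 q22851, e3 q24040 L758935 q22854, e3 q24041 L770689 q25217, e3 q24042 L758947 q23157, e3 q24043 L758960 q22860, e3 q24044 L758973 q22861, e3 q24045 (flp_a L762787) q24496, e3 q24046 L758993 q22868, e3 q24047 L759000 q23138, e3 q24048 L759012 q22871, e3 q24049 (flp_a L764838) q24652, e3 q24050 L759032 q22874, e3 q24051 L759045 q22875, e3 q24052 L759058 q22876, e3 q24053 (flp_a L764705) q24642, e3 q24054 (flp_a L762987) q24510, e3 q24055 (flp_a L764889) q24655, e3 q24056 (flp_a L762858) q24501, e3 q24057 L759105 q22881, e3 q24058 L759113 q22882, e3 q24059 L759121 q23139, e3 q24060 L759133 q22883, e3 q24061 L759142 q22783, e3 q24062 (flp_a L768835) q25013, e3 q24063 (flp_a L764115)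 q24593, trivial⟩ (by decide +kernel)

theorem ce_a_376 : ∀ r, r < 64 → sm ga (Qf (24064 + r)) = Qf (tab Gen.a (24064 + r)) :=
  edges_tab (sm ga) Qf (tab Gen.a) 24064 [(24064, 24582), (24065, 24625), (24066, 24659), (24067, 25173), (24068, 24438), (24069, 24440), (24070, 24441), (24071, 24443), (24072, 24770), (24073, 24987), (24074, 24595), (24075, 24550), (24076, 25143), (24077, 25170), (24078, 25171), (24079, 25172), (24080, 25070), (24081, 23099), (24082, 25073), (24083, 24599), (24084, 24472), (24085, 24561), (24086, 25184), (24087, 24473), (24088, 25185), (24089, 25186), (24090, 23005), (24091, 24891), (24092, 25264), (24093, 25078), (24094, 25190), (24095, 25191), (24096, 25192), (24097, 25193), (24098, 24986), (24099, 24988), (24100, 24646), (24101, 24551), (24102, 25196), (24103, 24552), (24104, 25197), (24105, 25198), (24106, 25199), (24107, 25200), (24108, 25201), (24109, 25202), (24110, 25287), (24111, 22838), (24112, 22839), (24113, 24974), (24114, 24764), (24115, 24975), (24116, 23057), (24117, 25288), (24118,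 25289), (24119, 24649), (24120, 23080), (24121, 24562), (24122, 25208), (24123, 24563), (24124, 25209), (24125, 25210), (24126, 24619), (24127, 24862)]
    ⟨e3 q24064 (flp_a L763993) q24582, e3 q24065 (flp_a L764527) q24625, e3 q24066 (flp_a L764939) q24659, e3 q24067 (flp_a L770303) q25173, e3 q24068 (flp_a L761989) q24438, e3 q24069 (flp_a L762023) q24440, e3 q24070 (flp_a L762037) q24441, e3 q24071 (flp_a L762064) q24443, e3 q24072 (flp_a L766385) q24770, e3 q24073 (flp_a L768583) q24987, e3 q24074 (flp_a L764144) q24595, e3 q24075 (flp_a L763576) q24550, e3 q24076 (flp_a L769986) q25143, e3 q24077 (flp_a L770268) q25170, e3 q24078 (flp_a L770278) q25171, e3 q24079 (flp_a L770289) q25172, e3 q24080 (flp_a L769376) q25070, e3 q24081 L759342 q23099, e3 q24082 (flp_a L769403) q25073, e3 q24083 (flp_a L764204) q24599, e3 q24084 (flp_a L762480) q24472, e3 q24085 (flp_a L763735) q24561, e3 q24086 (flp_a L770407) q25184, e3 q24087 (flp_a L762496) q24473, e3 q24088 (flp_a L770413) q25185, e3 q24089 (flp_a L770421) q25186, e3 q24090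 L759412 q23005, e3 q24091 (flp_a L767586) q24891, e3 q24092 L771117 q25264, e3 q24093 (flp_a L769441) q25078, e3 q24094 (flp_a L770460) q25190, e3 q24095 (flp_a L770470) q25191, e3 q24096 (flp_a L770482) q25192, e3 q24097 (flp_a L770488) q25193, e3 q24098 (flp_a L768567) q24986, e3 q24099 (flp_a L768601) q24988, e3 q24100 (flp_a L764765) q24646, e3 q24101 (flp_a L763593) q24551, e3 q24102 (flp_a L770510) q25196, e3 q24103 (flp_a L763610) q24552, e3 q24104 (flp_a L770521) q25197, e3 q24105 (flp_a L770531) q25198, e3 q24106 (flp_a L770541) q25199, e3 q24107 (flp_a L770549) q25200, e3 q24108 (flp_a L770557) q25201, e3 q24109 (flp_a L770569) q25202, e3 q24110 L771278 q25287, e3 q24111 L759577 q22838, e3 q24112 L759593 q22839, e3 q24113 (flp_a L768448) q24974, e3 q24114 (flp_a L766314) q24764, e3 q24115 (flp_a L768463) q24975, e3 q24116 L759618 q23057, e3 q24117 (flp_a L771286) q25288, e3 q24118 (flp_a L771298) q25289, e3 q24119 (flp_a L764801) q24649, e3 q24120 L759650 q23080, e3 q24121 (flp_a L763746) q24562, e3 q24122 (flp_a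 L770621) q25208, e3 q24123 (flp_a L763759) q24563, e3 q24124 (flp_a L770631) q25209, e3 q24125 (flp_a L770641) q25210, e3 q24126 (flp_a L764449) q24619, e3 q24127 (flp_a L767272) q24862, trivial⟩ (by decide +kernel)

theorem ce_a_377 : ∀ r, r < 64 → sm ga (Qf (24128 + r)) = Qf (tab Gen.a (24128 + r)) :=
  edges_tab (sm ga) Qf (tab Gen.a) 24128 [(24128, 25211), (24129, 25212), (24130, 25313), (24131, 25214), (24132, 25215), (24133, 24861), (24134, 24864), (24135, 25318), (24136, 22855), (24137, 22858), (24138, 22859), (24139, 25319), (24140, 25219), (24141, 25220), (24142, 22865), (24143, 25321), (24144, 24657), (24145, 24863), (24146, 25222), (24147, 24553), (24148, 25224), (24149, 25225), (24150, 25226), (24151, 24765), (24152, 24656), (24153, 24564), (24154, 25231), (24155, 22901), (24156, 22903), (24157, 22909), (24158, 22910), (24159, 22912), (24160, 22915), (24161, 22978), (24162, 22920), (24163, 24677), (24164, 24816), (24165, 24819), (24166, 24842), (24167, 25328), (24168, 24843), (24169, 25329), (24170, 24678), (24171,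 24784), (24172, 24679), (24173, 24872), (24174, 24785), (24175, 25330), (24176, 25331), (24177, 25332), (24178, 25150), (24179, 25353), (24180, 24786), (24181, 24798), (24182, 24754), (24183, 24680), (24184, 24873), (24185, 24903), (24186, 24761), (24187, 22936), (24188, 22937), (24189, 22938), (24190, 22939), (24191, 22945)]
    ⟨e3 q24128 (flp_a L770651) q25211, e3 q24129 (flp_a L770659) q25212, e3 q24130 L771441 q25313, e3 q24131 (flp_a L770669) q25214, e3 q24132 (flp_a L770677) q25215, e3 q24133 (flp_a L767260) q24861, e3 q24134 (flp_a L767301) q24864, e3 q24135 L771463 q25318, e3 q24136 (flp_a L759736) q22855, e3 q24137 L759742 q22858, e3 q24138 L759756 q22859, e3 q24139 (flp_a L771471) q25319, e3 q24140 (flp_a L770709) q25219, e3 q24141 (flp_a L770720) q25220, e3 q24142 L759791 q22865, e3 q24143 (flp_a L771493) q25321, e3 q24144 (flp_a L764910) q24657, e3 q24145 (flp_a L767286) q24863, e3 q24146 (flp_a L770742) q25222, e3 q24147 (flp_a L763624) q24553, e3 q24148 (flp_a L770767) q25224, e3 q24149 (flp_a L770779) q25225,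 e3 q24150 (flp_a L770791) q25226, e3 q24151 (flp_a L766328) q24765, e3 q24152 (flp_a L764902) q24656, e3 q24153 (flp_a L763767) q24564, e3 q24154 (flp_a L770832) q25231, e3 q24155 L759878 q22901, e3 q24156 L759894 q22903, e3 q24157 L759910 q22909, e3 q24158 L759914 q22910, e3 q24159 L759922 q22912, e3 q24160 L759930 q22915, e3 q24161 L759938 q22978, e3 q24162 L759947 q22920, e3 q24163 (flp_a L765219) q24677, e3 q24164 (flp_a L766846) q24816, e3 q24165 (flp_a L766883) q24819, e3 q24166 (flp_a L767061) q24842, e3 q24167 (flp_a L771542) q25328, e3 q24168 (flp_a L767074) q24843, e3 q24169 (flp_a L771556) q25329, e3 q24170 (flp_a L765236) q24678, e3 q24171 (flp_a L766530) q24784, e3 q24172 (flp_a L765253) q24679, e3 q24173 (flp_a L767386) q24872, e3 q24174 (flp_a L766545) q24785, e3 q24175 (flp_a L771570) q25330, e3 q24176 (flp_a L771576) q25331, e3 q24177 (flp_a L771582) q25332, e3 q24178 (flp_a L770064) q25150, e3 q24179 L771717 q25353, e3 q24180 (flp_a L766559) q24786, e3 q24181 (flp_a L766657) q24798, e3 q24182 (flp_a L766159)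 q24754, e3 q24183 (flp_a L765265) q24680, e3 q24184 (flp_a L767394) q24873, e3 q24185 (flp_a L767706) q24903, e3 q24186 (flp_a L766263) q24761, e3 q24187 L760101 q22936, e3 q24188 L760110 q22937, e3 q24189 L760116 q22938, e3 q24190 L760123 q22939, e3 q24191 L760129 q22945, trivial⟩ (by decide +kernel)

theorem ce_a_378 : ∀ r, r < 64 → sm ga (Qf (24192 + r)) = Qf (tab Gen.a (24192 + r)) :=
  edges_tab (sm ga) Qf (tab Gen.a) 24192 [(24192, 22950), (24193, 22961), (24194, 22962), (24195, 22963), (24196, 25366), (24197, 24716), (24198, 24717), (24199, 24555), (24200, 25357), (24201, 25358), (24202, 25359), (24203, 24844), (24204, 25376), (24205, 24685), (24206, 24425), (24207, 24429), (24208, 25161), (24209, 25361), (24210, 24704), (24211, 24708), (24212, 24426), (24213, 24427), (24214, 25386), (24215, 22955), (24216, 22956), (24217, 24895), (24218, 24712), (24219, 25387), (24220, 25388), (24221, 24699), (24222, 24576), (24223, 24613), (24224, 24614), (24225, 24408), (24226, 24422), (24227, 24406), (24228, 25402), (24229, 25364),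 (24230, 25365), (24231, 24799), (24232, 24410), (24233, 25407), (24234, 22967), (24235, 24901), (24236, 24596), (24237, 22991), (24238, 22992), (24239, 23001), (24240, 25411), (24241, 24892), (24242, 24884), (24243, 24887), (24244, 24893), (24245, 25416), (24246, 24876), (24247, 24877), (24248, 24681), (24249, 25408), (24250, 25409), (24251, 24588), (24252, 24972), (24253, 24870), (24254, 24871), (24255, 24878)]
    ⟨e3 q24192 L760137 q22950, e3 q24193 L760145 q22961, e3 q24194 L760151 q22962, e3 q24195 L760157 q22963, e3 q24196 L771800 q25366, e3 q24197 (flp_a L765717) q24716, e3 q24198 (flp_a L765725) q24717, e3 q24199 (flp_a L763655) q24555, e3 q24200 (flp_a L771742) q25357, e3 q24201 (flp_a L771752) q25358, e3 q24202 (flp_a L771760) q25359, e3 q24203 (flp_a L767091) q24844, e3 q24204 L771860 q25376, e3 q24205 (flp_a L765334) q24685, e3 q24206 (flp_a L761797) q24425, e3 q24207 (flp_a L761843) q24429, e3 q24208 (flp_a L770190) q25161, e3 q24209 (flp_a L771772) q25361, e3 q24210 (flp_a L765557) q24704, e3 q24211 (flp_a L765593)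 q24708, e3 q24212 (flp_a L761811) q24426, e3 q24213 (flp_a L761823) q24427, e3 q24214 L771916 q25386, e3 q24215 L760277 q22955, e3 q24216 L760281 q22956, e3 q24217 (flp_a L767644) q24895, e3 q24218 (flp_a L765655) q24712, e3 q24219 (flp_a L771924) q25387, e3 q24220 (flp_a L771928) q25388, e3 q24221 (flp_a L765501) q24699, e3 q24222 (flp_a L763915) q24576, e3 q24223 (flp_a L764373) q24613, e3 q24224 (flp_a L764385) q24614, e3 q24225 (flp_a L761532) q24408, e3 q24226 (flp_a L761749) q24422, e3 q24227 (flp_a L761498) q24406, e3 q24228 L772006 q25402, e3 q24229 (flp_a L771790) q25364, e3 q24230 (flp_a L771796) q25365, e3 q24231 (flp_a L766674) q24799, e3 q24232 (flp_a L761560) q24410, e3 q24233 L772028 q25407, e3 q24234 (flp_a L760377) q22967, e3 q24235 (flp_a L767686) q24901, e3 q24236 (flp_a L764161) q24596, e3 q24237 L760394 q22991, e3 q24238 L760401 q22992, e3 q24239 L760409 q23001, e3 q24240 L772054 q25411, e3 q24241 (flp_a L767602) q24892, e3 q24242 (flp_a L767514) q24884, e3 q24243 (flp_a L767548) q24887, e3 q24244 (flp_a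 L767618) q24893, e3 q24245 L772090 q25416, e3 q24246 (flp_a L767422) q24876, e3 q24247 (flp_a L767437) q24877, e3 q24248 (flp_a L765277) q24681, e3 q24249 (flp_a L772036) q25408, e3 q24250 (flp_a L772042) q25409, e3 q24251 (flp_a L764061) q24588, e3 q24252 (flp_a L768420) q24972, e3 q24253 (flp_a L767365) q24870, e3 q24254 (flp_a L767376) q24871, e3 q24255 (flp_a L767449) q24878, trivial⟩ (by decide +kernel)

theorem ce_a_379 : ∀ r, r < 64 → sm ga (Qf (24256 + r)) = Qf (tab Gen.a (24256 + r)) :=
  edges_tab (sm ga) Qf (tab Gen.a) 24256 [(24256, 24879), (24257, 24682), (24258, 25182), (24259, 25432), (24260, 23047), (24261, 23048), (24262, 24589), (24263, 25262), (24264, 24874), (24265, 24875), (24266, 24880), (24267, 24881), (24268, 25443), (24269, 25444), (24270, 23011), (24271, 24597), (24272, 24883), (24273, 24598), (24274, 23042), (24275, 23043), (24276, 23044), (24277, 23052), (24278, 25450), (24279, 23081), (24280, 23083), (24281, 23084), (24282, 25011), (24283, 23089), (24284, 25457), (24285, 23030), (24286, 25002),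 (24287, 25458), (24288, 23106), (24289, 23107), (24290, 25463), (24291, 23034), (24292, 23038), (24293, 23039), (24294, 25188), (24295, 25464), (24296, 25218), (24297, 25465), (24298, 25141), (24299, 25142), (24300, 25446), (24301, 25447), (24302, 25475), (24303, 25044), (24304, 25043), (24305, 25433), (24306, 25434), (24307, 25015), (24308, 25038), (24309, 25062), (24310, 25484), (24311, 23058), (24312, 24806), (24313, 25053), (24314, 25055), (24315, 25294), (24316, 25485), (24317, 24451), (24318, 24452), (24319, 24572)]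
    ⟨e3 q24256 (flp_a L767459) q24879, e3 q24257 (flp_a L765290) q24682, e3 q24258 (flp_a L770385) q25182, e3 q24259 L772191 q25432, e3 q24260 L760550 q23047, e3 q24261 L760561 q23048, e3 q24262 (flp_a L764079) q24589, e3 q24263 (flp_a L771097) q25262, e3 q24264 (flp_a L767404) q24874, e3 q24265 (flp_a L767412) q24875, e3 q24266 (flp_a L767471) q24880, e3 q24267 (flp_a L767481) q24881, e3 q24268 L772260 q25443, e3 q24269 L772264 q25444, e3 q24270 (flp_a L760609) q23011, e3 q24271 (flp_a L764172) q24597, e3 q24272 (flp_a L767501) q24883, e3 q24273 (flp_a L764189) q24598, e3 q24274 L760634 q23042, e3 q24275 L760638 q23043, e3 q24276 L760644 q23044, e3 q24277 L760650 q23052, e3 q24278 L772299 q25450, e3 q24279 L760662 q23081, e3 q24280 L760668 q23083, e3 q24281 L760674 q23084, e3 q24282 (flp_a L768813) q25011, e3 q24283 L760686 q23089, e3 q24284 L772338 q25457, e3 q24285 L760698 q23030, e3 q24286 (flp_a L768713) q25002, e3 q24287 (flp_a L772346) q25458, e3 q24288 L760712 q23106, e3 q24289 L760718 q23107, e3 q24290 L772366 q25463,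 e3 q24291 (flp_a L760726) q23034, e3 q24292 L760732 q23038, e3 q24293 L760742 q23039, e3 q24294 (flp_a L770435) q25188, e3 q24295 (flp_a L772374) q25464, e3 q24296 (flp_a L770697) q25218, e3 q24297 (flp_a L772382) q25465, e3 q24298 (flp_a L769962) q25141, e3 q24299 (flp_a L769976) q25142, e3 q24300 (flp_a L772279) q25446, e3 q24301 (flp_a L772285) q25447, e3 q24302 L772434 q25475, e3 q24303 (flp_a L769168) q25044, e3 q24304 (flp_a L769152) q25043, e3 q24305 (flp_a L772199) q25433, e3 q24306 (flp_a L772211) q25434, e3 q24307 (flp_a L768861) q25015, e3 q24308 (flp_a L769097) q25038, e3 q24309 (flp_a L769326) q25062, e3 q24310 L772491 q25484, e3 q24311 L760857 q23058, e3 q24312 (flp_a L766748) q24806, e3 q24313 (flp_a L769245) q25053, e3 q24314 (flp_a L769268) q25055, e3 q24315 (flp_a L771330) q25294, e3 q24316 (flp_a L772499) q25485, e3 q24317 (flp_a L762194) q24451, e3 q24318 (flp_a L762211) q24452, e3 q24319 (flp_a L763867) q24572, trivial⟩ (by decide +kernel)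

theorem ce_a_380 : ∀ r, r < 64 → sm ga (Qf (24320 + r)) = Qf (tab Gen.a (24320 + r)) :=
  edges_tab (sm ga) Qf (tab Gen.a) 24320 [(24320, 25088), (24321, 25085), (24322, 25087), (24323, 24446), (24324, 24453), (24325, 25097), (24326, 25094), (24327, 25504), (24328, 24450), (24329, 24456), (24330, 25507), (24331, 23072), (24332, 24457), (24333, 24461), (24334, 24587), (24335, 24447), (24336, 24454), (24337, 25299), (24338, 25451), (24339, 25159), (24340, 25452), (24341, 25453), (24342, 25517), (24343, 25014), (24344, 25016), (24345, 24630), (24346, 24626), (24347, 24627), (24348, 25525), (24349, 25005), (24350, 25004), (24351, 25003), (24352, 24464), (24353, 25160), (24354, 25531), (24355, 23095), (24356, 23100), (24357, 23101), (24358, 25252), (24359, 25532), (24360, 24633), (24361, 25538), (24362, 24477), (24363, 24478), (24364, 24573), (24365, 24608), (24366, 24609), (24367, 25461), (24368, 25547), (24369, 24466), (24370, 24480), (24371, 24481), (24372, 25553), (24373, 25180), (24374, 25019), (24375, 23112), (24376, 25556),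 (24377, 25018), (24378, 24470), (24379, 25559), (24380, 23117), (24381, 24489), (24382, 24610), (24383, 24660)]
    ⟨e3 q24320 (flp_a L769522) q25088, e3 q24321 (flp_a L769492) q25085, e3 q24322 (flp_a L769512) q25087, e3 q24323 (flp_a L762113) q24446, e3 q24324 (flp_a L762222) q24453, e3 q24325 (flp_a L769588) q25097, e3 q24326 (flp_a L769562) q25094, e3 q24327 L772615 q25504, e3 q24328 (flp_a L762182) q24450, e3 q24329 (flp_a L762259) q24456, e3 q24330 L772633 q25507, e3 q24331 (flp_a L760981) q23072, e3 q24332 (flp_a L762269) q24457, e3 q24333 (flp_a L762329) q24461, e3 q24334 (flp_a L764048) q24587, e3 q24335 (flp_a L762131) q24447, e3 q24336 (flp_a L762234) q24454, e3 q24337 (flp_a L771364) q25299, e3 q24338 (flp_a L772307) q25451, e3 q24339 (flp_a L770164) q25159, e3 q24340 (flp_a L772315) q25452, e3 q24341 (flp_a L772321) q25453, e3 q24342 L772691 q25517, e3 q24343 (flp_a L768851) q25014, e3 q24344 (flp_a L768875) q25016, e3 q24345 (flp_a L764599) q24630, e3 q24346 (flp_a L764539) q24626, e3 q24347 (flp_a L764553)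 q24627, e3 q24348 L772761 q25525, e3 q24349 (flp_a L768757) q25005, e3 q24350 (flp_a L768745) q25004, e3 q24351 (flp_a L768727) q25003, e3 q24352 (flp_a L762372) q24464, e3 q24353 (flp_a L770178) q25160, e3 q24354 L772803 q25531, e3 q24355 (flp_a L761144) q23095, e3 q24356 L761150 q23100, e3 q24357 L761156 q23101, e3 q24358 (flp_a L771024) q25252, e3 q24359 (flp_a L772811) q25532, e3 q24360 (flp_a L764625) q24633, e3 q24361 L772839 q25538, e3 q24362 (flp_a L762560) q24477, e3 q24363 (flp_a L762574) q24478, e3 q24364 (flp_a L763880) q24573, e3 q24365 (flp_a L764315) q24608, e3 q24366 (flp_a L764327) q24609, e3 q24367 (flp_a L772358) q25461, e3 q24368 L772891 q25547, e3 q24369 (flp_a L762404) q24466, e3 q24370 (flp_a L762596) q24480, e3 q24371 (flp_a L762604) q24481, e3 q24372 L772923 q25553, e3 q24373 (flp_a L770367) q25180, e3 q24374 (flp_a L768909) q25019, e3 q24375 (flp_a L761250) q23112, e3 q24376 (flp_a L772941) q25556, e3 q24377 (flp_a L768899) q25018, e3 q24378 (flp_a L762454) q24470, e3 q24379 L772951 q25559, e3 q24380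 (flp_a L761270) q23117, e3 q24381 (flp_a L762697) q24489, e3 q24382 (flp_a L764337) q24610, e3 q24383 (flp_a L764954) q24660, trivial⟩ (by decide +kernel)

theorem ce_a_381 : ∀ r, r < 64 → sm ga (Qf (24384 + r)) = Qf (tab Gen.a (24384 + r)) :=
  edges_tab (sm ga) Qf (tab Gen.a) 24384 [(24384, 25027), (24385, 24634), (24386, 24482), (24387, 24467), (24388, 24505), (24389, 23140), (24390, 25189), (24391, 25221), (24392, 25223), (24393, 24856), (24394, 24858), (24395, 24851), (24396, 24661), (24397, 24507), (24398, 24508), (24399, 24574), (24400, 24509), (24401, 24503), (24402, 23618), (24403, 23981), (24404, 23625), (24405, 23656), (24406, 24227), (24407, 23651), (24408, 24225), (24409, 23657), (24410, 24232), (24411, 23496), (24412, 23665), (24413, 23671), (24414, 23673), (24415, 23537), (24416, 23193), (24417, 23982), (24418, 23989), (24419, 23990), (24420, 23995), (24421, 23996), (24422, 24226), (24423, 23980), (24424, 23511), (24425, 24206), (24426, 24212), (24427, 24213), (24428, 25593), (24429, 24207), (24430, 23569),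 (24431, 23646), (24432, 23585), (24433, 23683), (24434, 23345), (24435, 23346), (24436, 23887), (24437, 23927), (24438, 24068), (24439, 23821), (24440, 24069), (24441, 24070), (24442, 23825), (24443, 24071), (24444, 23333), (24445, 23815), (24446, 24323), (24447, 24335)]
    ⟨e3 q24384 (flp_a L768971) q25027, e3 q24385 (flp_a L764633) q24634, e3 q24386 (flp_a L762612) q24482, e3 q24387 (flp_a L762416) q24467, e3 q24388 (flp_a L762915) q24505, e3 q24389 L761344 q23140, e3 q24390 (flp_a L770447) q25189, e3 q24391 (flp_a L770729) q25221, e3 q24392 (flp_a L770754) q25223, e3 q24393 (flp_a L767208) q24856, e3 q24394 (flp_a L767229) q24858, e3 q24395 (flp_a L767145) q24851, e3 q24396 (flp_a L764968) q24661, e3 q24397 (flp_a L762947) q24507, e3 q24398 (flp_a L762961) q24508, e3 q24399 (flp_a L763890) q24574, e3 q24400 (flp_a L762973) q24509, e3 q24401 (flp_a L762885) q24503, e3 q24402 L761429 q23618, e3 q24403 L761447 q23981, e3 q24404 L761463 q23625, e3 q24405 L761480 q23656, e3 q24406 L761498 q24227, e3 q24407 L761514 q23651,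 e3 q24408 L761532 q24225, e3 q24409 L761548 q23657, e3 q24410 L761560 q24232, e3 q24411 L761570 q23496, e3 q24412 L761590 q23665, e3 q24413 L761608 q23671, e3 q24414 L761622 q23673, e3 q24415 L761637 q23537, e3 q24416 L761655 q23193, e3 q24417 L761673 q23982, e3 q24418 L761691 q23989, e3 q24419 L761707 q23990, e3 q24420 L761719 q23995, e3 q24421 L761736 q23996, e3 q24422 L761749 q24226, e3 q24423 L761761 q23980, e3 q24424 L761779 q23511, e3 q24425 L761797 q24206, e3 q24426 L761811 q24212, e3 q24427 L761823 q24213, e3 q24428 L773403 q25593, e3 q24429 L761843 q24207, e3 q24430 L761871 q23569, e3 q24431 L761877 q23646, e3 q24432 L761891 q23585, e3 q24433 L761908 q23683, e3 q24434 L761923 q23345, e3 q24435 L761940 q23346, e3 q24436 L761956 q23887, e3 q24437 L761974 q23927, e3 q24438 L761989 q24068, e3 q24439 L762006 q23821, e3 q24440 L762023 q24069, e3 q24441 L762037 q24070, e3 q24442 L762051 q23825, e3 q24443 L762064 q24071, e3 q24444 L762078 q23333, e3 q24445 L762096 q23815, e3 q24446 L762113 q24323, e3 q24447 L762131 q24335,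 trivial⟩ (by decide +kernel)

theorem ce_a_382 : ∀ r, r < 64 → sm ga (Qf (24448 + r)) = Qf (tab Gen.a (24448 + r)) :=
  edges_tab (sm ga) Qf (tab Gen.a) 24448 [(24448, 23836), (24449, 23849), (24450, 24328), (24451, 24317), (24452, 24318), (24453, 24324), (24454, 24336), (24455, 23850), (24456, 24329), (24457, 24332), (24458, 23856), (24459, 23863), (24460, 23868), (24461, 24333), (24462, 23864), (24463, 23865), (24464, 24352), (24465, 23913), (24466, 24369), (24467, 24387), (24468, 23892), (24469, 23920), (24470, 24378), (24471, 23776), (24472, 24084), (24473, 24087), (24474, 23731), (24475, 23906), (24476, 23907), (24477, 24362), (24478, 24363), (24479, 23914), (24480, 24370), (24481, 24371), (24482, 24386), (24483, 23921), (24484, 23922), (24485, 25653), (24486, 23939), (24487, 23860), (24488, 23949), (24489, 24381), (24490, 23931), (24491, 23943), (24492, 23944), (24493, 23866), (24494, 23940), (24495, 23950), (24496, 24045), (24497, 23945), (24498, 23951), (24499, 23952), (24500, 23959), (24501, 24056), (24502, 23960),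 (24503, 24401), (24504, 23802), (24505, 24388), (24506, 23734), (24507, 24397), (24508, 24398), (24509, 24400), (24510, 24054), (24511, 23735)]
    ⟨e3 q24448 L762148 q23836, e3 q24449 L762166 q23849, e3 q24450 L762182 q24328, e3 q24451 L762194 q24317, e3 q24452 L762211 q24318, e3 q24453 L762222 q24324, e3 q24454 L762234 q24336, e3 q24455 L762247 q23850, e3 q24456 L762259 q24329, e3 q24457 L762269 q24332, e3 q24458 L762285 q23856, e3 q24459 L762300 q23863, e3 q24460 L762313 q23868, e3 q24461 L762329 q24333, e3 q24462 L762344 q23864, e3 q24463 L762359 q23865, e3 q24464 L762372 q24352, e3 q24465 L762388 q23913, e3 q24466 L762404 q24369, e3 q24467 L762416 q24387, e3 q24468 L762430 q23892, e3 q24469 L762444 q23920, e3 q24470 L762454 q24378, e3 q24471 L762462 q23776, e3 q24472 L762480 q24084, e3 q24473 L762496 q24087, e3 q24474 L762510 q23731, e3 q24475 L762528 q23906, e3 q24476 L762545 q23907, e3 q24477 L762560 q24362, e3 q24478 L762574 q24363, e3 q24479 L762584 q23914, e3 q24480 L762596 q24370, e3 q24481 L762604 q24371, e3 q24482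 L762612 q24386, e3 q24483 L762624 q23921, e3 q24484 L762632 q23922, e3 q24485 L774208 q25653, e3 q24486 L762652 q23939, e3 q24487 L762665 q23860, e3 q24488 L762681 q23949, e3 q24489 L762697 q24381, e3 q24490 L762709 q23931, e3 q24491 L762722 q23943, e3 q24492 L762734 q23944, e3 q24493 L762746 q23866, e3 q24494 L762761 q23940, e3 q24495 L762772 q23950, e3 q24496 L762787 q24045, e3 q24497 L762805 q23945, e3 q24498 L762817 q23951, e3 q24499 L762830 q23952, e3 q24500 L762843 q23959, e3 q24501 L762858 q24056, e3 q24502 L762873 q23960, e3 q24503 L762885 q24401, e3 q24504 L762900 q23802, e3 q24505 L762915 q24388, e3 q24506 L762930 q23734, e3 q24507 L762947 q24397, e3 q24508 L762961 q24398, e3 q24509 L762973 q24400, e3 q24510 L762987 q24054, e3 q24511 L763000 q23735, trivial⟩ (by decide +kernel)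

theorem ce_a_383 : ∀ r, r < 64 → sm ga (Qf (24512 + r)) = Qf (tab Gen.a (24512 + r)) :=
  edges_tab (sm ga) Qf (tab Gen.a) 24512 [(24512, 23736), (24513, 23642), (24514, 23681), (24515, 23497), (24516, 23737), (24517, 23738), (24518, 23739), (24519, 23740), (24520, 23741), (24521, 23742), (24522, 23743), (24523, 23724), (24524, 23744), (24525, 23730), (24526, 23342), (24527, 23343), (24528, 23354), (24529, 23360), (24530, 23362), (24531, 23363), (24532, 23366), (24533, 23367), (24534, 23377), (24535, 23381), (24536, 23382), (24537, 23392), (24538, 23406), (24539, 23407), (24540, 23409), (24541, 23410), (24542, 23411), (24543, 23412), (24544, 25707), (24545, 23425), (24546, 23426), (24547, 23434), (24548, 23594), (24549, 23595), (24550, 24075), (24551, 24101), (24552, 24103), (24553, 24147), (24554, 23613), (24555, 24199), (24556, 25607), (24557, 23336), (24558, 23337), (24559, 25718), (24560, 25719), (24561, 24085), (24562, 24121), (24563, 24123), (24564, 24153), (24565, 25688), (24566, 25689), (24567, 23647), (24568, 25597),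 (24569, 25598), (24570, 23880), (24571, 23926), (24572, 24319), (24573, 24364), (24574, 24399), (24575, 23649)]
    ⟨e3 q24512 L763018 q23736, e3 q24513 L763034 q23642, e3 q24514 L763052 q23681, e3 q24515 L763067 q23497, e3 q24516 L763084 q23737, e3 q24517 L763098 q23738, e3 q24518 L763114 q23739, e3 q24519 L763129 q23740, e3 q24520 L763143 q23741, e3 q24521 L763160 q23742, e3 q24522 L763172 q23743, e3 q24523 L763187 q23724, e3 q24524 L763203 q23744, e3 q24525 L763211 q23730, e3 q24526 L763229 q23342, e3 q24527 L763246 q23343, e3 q24528 L763260 q23354, e3 q24529 L763272 q23360, e3 q24530 L763289 q23362, e3 q24531 L763303 q23363, e3 q24532 L763320 q23366, e3 q24533 L763334 q23367, e3 q24534 L763344 q23377, e3 q24535 L763361 q23381, e3 q24536 L763374 q23382, e3 q24537 L763386 q23392, e3 q24538 L763400 q23406, e3 q24539 L763414 q23407, e3 q24540 L763430 q23409, e3 q24541 L763448 q23410, e3 q24542 L763462 q23411, e3 q24543 L763474 q23412, e3 q24544 L774976 q25707, e3 q24545 L763492 q23425, e3 q24546 L763510 q23426, e3 q24547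 L763526 q23434, e3 q24548 L763543 q23594, e3 q24549 L763561 q23595, e3 q24550 L763576 q24075, e3 q24551 L763593 q24101, e3 q24552 L763610 q24103, e3 q24553 L763624 q24147, e3 q24554 L763638 q23613, e3 q24555 L763655 q24199, e3 q24556 (flp_a L773605) q25607, e3 q24557 L763680 q23336, e3 q24558 L763698 q23337, e3 q24559 (flp_a L775134) q25718, e3 q24560 (flp_a L775152) q25719, e3 q24561 L763735 q24085, e3 q24562 L763746 q24121, e3 q24563 L763759 q24123, e3 q24564 L763767 q24153, e3 q24565 (flp_a L774712) q25688, e3 q24566 (flp_a L774728) q25689, e3 q24567 L763796 q23647, e3 q24568 (flp_a L773457) q25597, e3 q24569 (flp_a L773474) q25598, e3 q24570 L763836 q23880, e3 q24571 L763852 q23926, e3 q24572 L763867 q24319, e3 q24573 L763880 q24364, e3 q24574 L763890 q24399, e3 q24575 L763899 q23649, trivial⟩ (by decide +kernel)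

theorem ce_a_384 : ∀ r, r < 64 → sm ga (Qf (24576 + r)) = Qf (tab Gen.a (24576 + r)) :=
  edges_tab (sm ga) Qf (tab Gen.a) 24576 [(24576, 24222), (24577, 25690), (24578, 23899), (24579, 23902), (24580, 23938), (24581, 23777), (24582, 24064), (24583, 25691), (24584, 23778), (24585, 25692), (24586, 25693), (24587, 24334), (24588, 24251), (24589, 24262), (24590, 25694), (24591, 25695), (24592, 25760), (24593, 24063), (24594, 23684), (24595, 24074), (24596, 24236), (24597, 24271), (24598, 24273), (24599, 24083), (24600, 23631), (24601, 23648), (24602, 25697), (24603, 25698), (24604, 23385), (24605, 23386), (24606, 25770), (24607, 25771), (24608, 24365), (24609, 24366), (24610, 24382), (24611, 23633), (24612, 23650), (24613, 24223), (24614, 24224), (24615, 25784), (24616, 23397), (24617, 23399), (24618, 23400), (24619, 24126), (24620, 25785), (24621, 23841), (24622, 25786), (24623, 25787), (24624, 24005), (24625, 24065), (24626, 24346), (24627, 24347), (24628, 23870), (24629, 23904), (24630, 24345), (24631, 25803), (24632, 25701),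 (24633, 24360), (24634, 24385), (24635, 25702), (24636, 25703), (24637, 25704), (24638, 25811), (24639, 25706)]
    ⟨e3 q24576 L763915 q24222, e3 q24577 (flp_a L774742) q25690, e3 q24578 L763933 q23899, e3 q24579 L763950 q23902, e3 q24580 L763962 q23938, e3 q24581 L763977 q23777, e3 q24582 L763993 q24064, e3 q24583 (flp_a L774756) q25691, e3 q24584 L764016 q23778, e3 q24585 (flp_a L774772) q25692, e3 q24586 (flp_a L774786) q25693, e3 q24587 L764048 q24334, e3 q24588 L764061 q24251, e3 q24589 L764079 q24262, e3 q24590 (flp_a L774802) q25694, e3 q24591 (flp_a L774816) q25695, e3 q24592 L775626 q25760, e3 q24593 L764115 q24063, e3 q24594 L764128 q23684, e3 q24595 L764144 q24074, e3 q24596 L764161 q24236, e3 q24597 L764172 q24271, e3 q24598 L764189 q24273, e3 q24599 L764204 q24083, e3 q24600 L764217 q23631, e3 q24601 L764234 q23648, e3 q24602 (flp_a L774840) q25697, e3 q24603 (flp_a L774852) q25698, e3 q24604 L764261 q23385, e3 q24605 L764279 q23386, e3 q24606 (flp_a L775749) q25770, e3 q24607 (flp_a L775765) q25771, e3 q24608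 L764315 q24365, e3 q24609 L764327 q24366, e3 q24610 L764337 q24382, e3 q24611 L764347 q23633, e3 q24612 L764363 q23650, e3 q24613 L764373 q24223, e3 q24614 L764385 q24224, e3 q24615 L775921 q25784, e3 q24616 L764403 q23397, e3 q24617 L764421 q23399, e3 q24618 L764433 q23400, e3 q24619 L764449 q24126, e3 q24620 (flp_a L775929) q25785, e3 q24621 L764479 q23841, e3 q24622 (flp_a L775945) q25786, e3 q24623 (flp_a L775957) q25787, e3 q24624 L764511 q24005, e3 q24625 L764527 q24065, e3 q24626 L764539 q24346, e3 q24627 L764553 q24347, e3 q24628 L764565 q23870, e3 q24629 L764583 q23904, e3 q24630 L764599 q24345, e3 q24631 L776169 q25803, e3 q24632 (flp_a L774892) q25701, e3 q24633 L764625 q24360, e3 q24634 L764633 q24385, e3 q24635 (flp_a L774908) q25702, e3 q24636 (flp_a L774924) q25703, e3 q24637 (flp_a L774938) q25704, e3 q24638 L776237 q25811, e3 q24639 (flp_a L774964) q25706, trivial⟩ (by decide +kernel)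

theorem ce_a_385 : ∀ r, r < 64 → sm ga (Qf (24640 + r)) = Qf (tab Gen.a (24640 + r)) :=
  edges_tab (sm ga) Qf (tab Gen.a) 24640 [(24640, 23413), (24641, 23443), (24642, 24053), (24643, 23677), (24644, 23686), (24645, 24023), (24646, 24100), (24647, 25708), (24648, 24033), (24649, 24119), (24650, 23678), (24651, 23688), (24652, 24049), (24653, 23438), (24654, 23444), (24655, 24055), (24656, 24152), (24657, 24144), (24658, 25774), (24659, 24066), (24660, 24383), (24661, 24396), (24662, 23603), (24663, 23991), (24664, 23494), (24665, 23498), (24666, 23499), (24667, 23501), (24668, 23502), (24669, 23506), (24670, 23509), (24671, 23510), (24672, 23514), (24673, 23515), (24674, 23517), (24675, 23518), (24676, 23522), (24677, 24163), (24678, 24170), (24679, 24172), (24680, 24183), (24681, 24248), (24682, 24257), (24683, 25825), (24684, 23628), (24685, 24205), (24686, 25677), (24687, 25826), (24688, 25827), (24689, 23984), (24690, 25828), (24691, 25829), (24692, 23621), (24693, 23994), (24694, 23607), (24695, 25830), (24696, 25831),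 (24697, 25832), (24698, 25588), (24699, 24221), (24700, 23717), (24701, 25833), (24702, 25834), (24703, 23662)]
    ⟨e3 q24640 (flp_a L764679) q23413, e3 q24641 L764687 q23443, e3 q24642 L764705 q24053, e3 q24643 L764718 q23677, e3 q24644 L764735 q23686, e3 q24645 L764759 q24023, e3 q24646 L764765 q24100, e3 q24647 (flp_a L774986) q25708, e3 q24648 L764787 q24033, e3 q24649 L764801 q24119, e3 q24650 L764807 q23678, e3 q24651 L764824 q23688, e3 q24652 L764838 q24049, e3 q24653 L764855 q23438, e3 q24654 L764872 q23444, e3 q24655 L764889 q24055, e3 q24656 L764902 q24152, e3 q24657 L764910 q24144, e3 q24658 (flp_a L775803) q25774, e3 q24659 L764939 q24066, e3 q24660 L764954 q24383, e3 q24661 L764968 q24396, e3 q24662 L764985 q23603, e3 q24663 L765003 q23991, e3 q24664 L765019 q23494, e3 q24665 L765037 q23498, e3 q24666 L765055 q23499, e3 q24667 L765072 q23501, e3 q24668 L765090 q23502, e3 q24669 L765104 q23506, e3 q24670 L765121 q23509, e3 q24671 L765139 q23510, e3 q24672 L765151 q23514, e3 q24673 L765163 q23515, e3 q24674 L765179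 q23517, e3 q24675 L765193 q23518, e3 q24676 L765203 q23522, e3 q24677 L765219 q24163, e3 q24678 L765236 q24170, e3 q24679 L765253 q24172, e3 q24680 L765265 q24183, e3 q24681 L765277 q24248, e3 q24682 L765290 q24257, e3 q24683 (flp_a L776422) q25825, e3 q24684 L765316 q23628, e3 q24685 L765334 q24205, e3 q24686 (flp_a L774554) q25677, e3 q24687 (flp_a L776440) q25826, e3 q24688 (flp_a L776454) q25827, e3 q24689 L765379 q23984, e3 q24690 (flp_a L776471) q25828, e3 q24691 (flp_a L776487) q25829, e3 q24692 L765411 q23621, e3 q24693 L765428 q23994, e3 q24694 L765445 q23607, e3 q24695 (flp_a L776499) q25830, e3 q24696 (flp_a L776516) q25831, e3 q24697 (flp_a L776534) q25832, e3 q24698 (flp_a L773333) q25588, e3 q24699 L765501 q24221, e3 q24700 L765517 q23717, e3 q24701 (flp_a L776548) q25833, e3 q24702 (flp_a L776562) q25834, e3 q24703 L765543 q23662, trivial⟩ (by decide +kernel)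

theorem ce_a_386 : ∀ r, r < 64 → sm ga (Qf (24704 + r)) = Qf (tab Gen.a (24704 + r)) :=
  edges_tab (sm ga) Qf (tab Gen.a) 24704 [(24704, 24210), (24705, 25835), (24706, 25836), (24707, 25870), (24708, 24211), (24709, 23636), (24710, 23728), (24711, 23985), (24712, 24218), (24713, 23592), (24714, 23608), (24715, 23714), (24716, 24197), (24717, 24198), (24718, 25579), (24719, 23593), (24720, 23597), (24721, 23598), (24722, 23599), (24723, 23600), (24724, 23601), (24725, 23602), (24726, 23606), (24727, 23609), (24728, 23634), (24729, 23661), (24730, 23614), (24731, 23615), (24732, 23616), (24733, 23617), (24734, 23619), (24735, 23620), (24736, 23624), (24737, 23626), (24738, 23627), (24739, 23629), (24740, 23635), (24741, 23568), (24742, 23637), (24743, 23638), (24744, 25902), (24745, 23670), (24746, 25594), (24747, 23652), (24748, 23653), (24749, 23654), (24750, 23655), (24751, 23658), (24752, 23659), (24753, 25916), (24754, 24182), (24755, 23667), (24756, 23668), (24757, 23669), (24758, 23672), (24759, 23675), (24760, 23674),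 (24761, 24186), (24762, 23871), (24763, 23882), (24764, 24114), (24765, 24151), (24766, 25874), (24767, 25880)]
    ⟨e3 q24704 L765557 q24210, e3 q24705 (flp_a L776578) q25835, e3 q24706 (flp_a L776592) q25836, e3 q24707 L777003 q25870, e3 q24708 L765593 q24211, e3 q24709 L765609 q23636, e3 q24710 L765625 q23728, e3 q24711 L765641 q23985, e3 q24712 L765655 q24218, e3 q24713 L765667 q23592, e3 q24714 L765684 q23608, e3 q24715 L765702 q23714, e3 q24716 L765717 q24197, e3 q24717 L765725 q24198, e3 q24718 (flp_a L773188) q25579, e3 q24719 L765740 q23593, e3 q24720 L765756 q23597, e3 q24721 L765773 q23598, e3 q24722 L765790 q23599, e3 q24723 L765806 q23600, e3 q24724 L765822 q23601, e3 q24725 L765835 q23602, e3 q24726 L765849 q23606, e3 q24727 L765867 q23609, e3 q24728 L765875 q23634, e3 q24729 L765893 q23661, e3 q24730 L765910 q23614, e3 q24731 L765921 q23615, e3 q24732 L765939 q23616, e3 q24733 L765947 q23617, e3 q24734 L765956 q23619, e3 q24735 L765964 q23620, e3 q24736 L765972 q23624, e3 q24737 L765989 q23626, e3 q24738 L766006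 q23627, e3 q24739 L766013 q23629, e3 q24740 L766023 q23635, e3 q24741 L766029 q23568, e3 q24742 L766047 q23637, e3 q24743 L766059 q23638, e3 q24744 (flp_a L777406) q25902, e3 q24745 L766075 q23670, e3 q24746 (flp_a L773413) q25594, e3 q24747 L766103 q23652, e3 q24748 L766109 q23653, e3 q24749 L766117 q23654, e3 q24750 L766125 q23655, e3 q24751 L766137 q23658, e3 q24752 L766145 q23659, e3 q24753 L777544 q25916, e3 q24754 L766159 q24182, e3 q24755 L766177 q23667, e3 q24756 L766194 q23668, e3 q24757 L766203 q23669, e3 q24758 L766220 q23672, e3 q24759 L766234 q23675, e3 q24760 L766248 q23674, e3 q24761 L766263 q24186, e3 q24762 L766280 q23871, e3 q24763 L766297 q23882, e3 q24764 L766314 q24114, e3 q24765 L766328 q24151, e3 q24766 (flp_a L777051) q25874, e3 q24767 (flp_a L777124) q25880, trivial⟩ (by decide +kernel)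

theorem ce_a_387 : ∀ r, r < 64 → sm ga (Qf (24768 + r)) = Qf (tab Gen.a (24768 + r)) :=
  edges_tab (sm ga) Qf (tab Gen.a) 24768 [(24768, 25709), (24769, 25710), (24770, 24072), (24771, 25881), (24772, 25882), (24773, 25883), (24774, 25884), (24775, 25885), (24776, 25886), (24777, 25823), (24778, 23829), (24779, 23875), (24780, 25887), (24781, 25856), (24782, 25875), (24783, 25888), (24784, 24171), (24785, 24174), (24786, 24180), (24787, 25715), (24788, 25891), (24789, 25892), (24790, 25893), (24791, 25894), (24792, 25895), (24793, 25567), (24794, 25896), (24795, 25897), (24796, 25962), (24797, 25850), (24798, 24181), (24799, 24231), (24800, 25569), (24801, 25899), (24802, 25845), (24803, 25900), (24804, 23809), (24805, 25765), (24806, 24312), (24807, 25779), (24808, 25889), (24809, 25901), (24810, 25871), (24811, 25903), (24812, 25865), (24813, 25978), (24814, 23643), (24815, 23645), (24816, 24164), (24817, 25675), (24818, 25979), (24819, 24165), (24820, 25980), (24821, 25595), (24822, 25577), (24823, 25731), (24824, 25766),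 (24825, 25740), (24826, 25780), (24827, 25781), (24828, 25572), (24829, 25909), (24830, 25910), (24831, 26003)]
    ⟨e3 q24768 (flp_a L775004) q25709, e3 q24769 (flp_a L775022) q25710, e3 q24770 L766385 q24072, e3 q24771 (flp_a L777140) q25881, e3 q24772 (flp_a L777157) q25882, e3 q24773 (flp_a L777174) q25883, e3 q24774 (flp_a L777186) q25884, e3 q24775 (flp_a L777201) q25885, e3 q24776 (flp_a L777215) q25886, e3 q24777 (flp_a L776388) q25823, e3 q24778 L766467 q23829, e3 q24779 L766484 q23875, e3 q24780 (flp_a L777227) q25887, e3 q24781 (flp_a L776840) q25856, e3 q24782 (flp_a L777068) q25875, e3 q24783 (flp_a L777243) q25888, e3 q24784 L766530 q24171, e3 q24785 L766545 q24174, e3 q24786 L766559 q24180, e3 q24787 (flp_a L775093) q25715, e3 q24788 (flp_a L777282) q25891, e3 q24789 (flp_a L777294) q25892, e3 q24790 (flp_a L777312) q25893, e3 q24791 (flp_a L777322) q25894, e3 q24792 (flp_a L777332) q25895, e3 q24793 (flp_a L773001) q25567, e3 q24794 (flp_a L777349) q25896, e3 q24795 (flp_a L777357) q25897, e3 q24796 L778031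 q25962, e3 q24797 (flp_a L776768) q25850, e3 q24798 L766657 q24181, e3 q24799 L766674 q24231, e3 q24800 (flp_a L773033) q25569, e3 q24801 (flp_a L777371) q25899, e3 q24802 (flp_a L776705) q25845, e3 q24803 (flp_a L777388) q25900, e3 q24804 L766720 q23809, e3 q24805 (flp_a L775695) q25765, e3 q24806 L766748 q24312, e3 q24807 (flp_a L775865) q25779, e3 q24808 (flp_a L777251) q25889, e3 q24809 (flp_a L777398) q25901, e3 q24810 (flp_a L777013) q25871, e3 q24811 (flp_a L777422) q25903, e3 q24812 (flp_a L776949) q25865, e3 q24813 L778176 q25978, e3 q24814 L766818 q23643, e3 q24815 L766834 q23645, e3 q24816 L766846 q24164, e3 q24817 (flp_a L774520) q25675, e3 q24818 (flp_a L778184) q25979, e3 q24819 L766883 q24165, e3 q24820 (flp_a L778198) q25980, e3 q24821 (flp_a L773431) q25595, e3 q24822 (flp_a L773154) q25577, e3 q24823 (flp_a L775272) q25731, e3 q24824 (flp_a L775712) q25766, e3 q24825 (flp_a L775389) q25740, e3 q24826 (flp_a L775879) q25780, e3 q24827 (flp_a L775889) q25781, e3 q24828 (flp_a L773084) q25572, e3 q24829 (flp_a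 L777492) q25909, e3 q24830 (flp_a L777500) q25910, e3 q24831 L778401 q26003, trivial⟩ (by decide +kernel)

theorem ce_a_388 : ∀ r, r < 64 → sm ga (Qf (24832 + r)) = Qf (tab Gen.a (24832 + r)) :=
  edges_tab (sm ga) Qf (tab Gen.a) 24832 [(24832, 25912), (24833, 25913), (24834, 25907), (24835, 25570), (24836, 25574), (24837, 25575), (24838, 26010), (24839, 25915), (24840, 23660), (24841, 25890), (24842, 24166), (24843, 24168), (24844, 24203), (24845, 25917), (24846, 25918), (24847, 25919), (24848, 25578), (24849, 25665), (24850, 25920), (24851, 24395), (24852, 25814), (24853, 23682), (24854, 25676), (24855, 25596), (24856, 24393), (24857, 25761), (24858, 24394), (24859, 25815), (24860, 23958), (24861, 24133), (24862, 24127), (24863, 24145), (24864, 24134), (24865, 23715), (24866, 23718), (24867, 23725), (24868, 23726), (24869, 26034), (24870, 24253), (24871, 24254), (24872, 24173), (24873, 24184), (24874, 24264), (24875, 24265), (24876, 24246), (24877, 24247), (24878, 24255), (24879, 24256), (24880, 24266), (24881, 24267),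 (24882, 26050), (24883, 24272), (24884, 24242), (24885, 25876), (24886, 26030), (24887, 24243), (24888, 25861), (24889, 25862), (24890, 26058), (24891, 24091), (24892, 24241), (24893, 24244), (24894, 26062), (24895, 24217)]
    ⟨e3 q24832 (flp_a L777516) q25912, e3 q24833 (flp_a L777524) q25913, e3 q24834 (flp_a L777456) q25907, e3 q24835 (flp_a L773050) q25570, e3 q24836 (flp_a L773118) q25574, e3 q24837 (flp_a L773128) q25575, e3 q24838 L778455 q26010, e3 q24839 (flp_a L777538) q25915, e3 q24840 (flp_a L767046) q23660, e3 q24841 (flp_a L777265) q25890, e3 q24842 L767061 q24166, e3 q24843 L767074 q24168, e3 q24844 L767091 q24203, e3 q24845 (flp_a L777554) q25917, e3 q24846 (flp_a L777571) q25918, e3 q24847 (flp_a L777588) q25919, e3 q24848 (flp_a L773172) q25578, e3 q24849 (flp_a L774368) q25665, e3 q24850 (flp_a L777598) q25920, e3 q24851 L767145 q24395, e3 q24852 (flp_a L776259) q25814, e3 q24853 L767167 q23682, e3 q24854 (flp_a L774538) q25676, e3 q24855 (flp_a L773443) q25596, e3 q24856 L767208 q24393, e3 q24857 (flp_a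 L775636) q25761, e3 q24858 L767229 q24394, e3 q24859 (flp_a L776277) q25815, e3 q24860 L767246 q23958, e3 q24861 L767260 q24133, e3 q24862 L767272 q24127, e3 q24863 L767286 q24145, e3 q24864 L767301 q24134, e3 q24865 L767311 q23715, e3 q24866 L767323 q23718, e3 q24867 L767335 q23725, e3 q24868 L767345 q23726, e3 q24869 L778706 q26034, e3 q24870 L767365 q24253, e3 q24871 L767376 q24254, e3 q24872 L767386 q24173, e3 q24873 L767394 q24184, e3 q24874 L767404 q24264, e3 q24875 L767412 q24265, e3 q24876 L767422 q24246, e3 q24877 L767437 q24247, e3 q24878 L767449 q24255, e3 q24879 L767459 q24256, e3 q24880 L767471 q24266, e3 q24881 L767481 q24267, e3 q24882 L778876 q26050, e3 q24883 L767501 q24272, e3 q24884 L767514 q24242, e3 q24885 (flp_a L777082) q25876, e3 q24886 (flp_a L778666) q26030, e3 q24887 L767548 q24243, e3 q24888 (flp_a L776903) q25861, e3 q24889 (flp_a L776919) q25862, e3 q24890 L778965 q26058, e3 q24891 L767586 q24091, e3 q24892 L767602 q24241, e3 q24893 L767618 q24244, e3 q24894 L779019 q26062, e3 q24895 L767644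 q24217, trivial⟩ (by decide +kernel)

theorem ce_a_389 : ∀ r, r < 64 → sm ga (Qf (24896 + r)) = Qf (tab Gen.a (24896 + r)) :=
  edges_tab (sm ga) Qf (tab Gen.a) 24896 [(24896, 25685), (24897, 25686), (24898, 26067), (24899, 26033), (24900, 23727), (24901, 24235), (24902, 25639), (24903, 24185), (24904, 25670), (24905, 25673), (24906, 25674), (24907, 25678), (24908, 25679), (24909, 25680), (24910, 25681), (24911, 25682), (24912, 25683), (24913, 25684), (24914, 26082), (24915, 23810), (24916, 23811), (24917, 23822), (24918, 23823), (24919, 23824), (24920, 23826), (24921, 23827), (24922, 23830), (24923, 23831), (24924, 23837), (24925, 23838), (24926, 23839), (24927, 23851), (24928, 23852), (24929, 26100), (24930, 23857), (24931, 23858), (24932, 23859), (24933, 23867), (24934, 23872), (24935, 23873), (24936, 23876), (24937, 23877), (24938, 23884), (24939, 23886), (24940, 23888), (24941, 23889), (24942, 23890), (24943, 23893), (24944, 23894), (24945, 23895), (24946, 26120), (24947, 25636), (24948, 25747), (24949, 25751), (24950,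 23908), (24951, 23909), (24952, 23910), (24953, 23911), (24954, 23915), (24955, 23916), (24956, 26131), (24957, 26132), (24958, 23924), (24959, 23787)]
    ⟨e3 q24896 (flp_a L774670) q25685, e3 q24897 (flp_a L774686) q25686, e3 q24898 L779067 q26067, e3 q24899 (flp_a L778698) q26033, e3 q24900 (flp_a L767678) q23727, e3 q24901 L767686 q24235, e3 q24902 (flp_a L774045) q25639, e3 q24903 L767706 q24185, e3 q24904 (flp_a L774444) q25670, e3 q24905 (flp_a L774486) q25673, e3 q24906 (flp_a L774504) q25674, e3 q24907 (flp_a L774571) q25678, e3 q24908 (flp_a L774587) q25679, e3 q24909 (flp_a L774601) q25680, e3 q24910 (flp_a L774616) q25681, e3 q24911 (flp_a L774628) q25682, e3 q24912 (flp_a L774644) q25683, e3 q24913 (flp_a L774656) q25684, e3 q24914 L779203 q26082, e3 q24915 L767807 q23810, e3 q24916 L767820 q23811, e3 q24917 L767834 q23822, e3 q24918 L767847 q23823, e3 q24919 L767859 q23824, e3 q24920 L767873 q23826, e3 q24921 L767881 q23827, e3 q24922 L767891 q23830, e3 q24923 L767906 q23831, e3 q24924 L767922 q23837, e3 q24925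 L767934 q23838, e3 q24926 L767944 q23839, e3 q24927 L767956 q23851, e3 q24928 L767966 q23852, e3 q24929 L779401 q26100, e3 q24930 L767986 q23857, e3 q24931 L767996 q23858, e3 q24932 L768009 q23859, e3 q24933 L768020 q23867, e3 q24934 L768031 q23872, e3 q24935 L768046 q23873, e3 q24936 L768060 q23876, e3 q24937 L768068 q23877, e3 q24938 L768076 q23884, e3 q24939 L768089 q23886, e3 q24940 L768103 q23888, e3 q24941 L768117 q23889, e3 q24942 L768129 q23890, e3 q24943 L768141 q23893, e3 q24944 L768147 q23894, e3 q24945 L768155 q23895, e3 q24946 L779608 q26120, e3 q24947 (flp_a L773999) q25636, e3 q24948 (flp_a L775475) q25747, e3 q24949 (flp_a L775522) q25751, e3 q24950 L768207 q23908, e3 q24951 L768220 q23909, e3 q24952 L768228 q23910, e3 q24953 L768244 q23911, e3 q24954 L768254 q23915, e3 q24955 L768264 q23916, e3 q24956 L779723 q26131, e3 q24957 L779735 q26132, e3 q24958 L768288 q23924, e3 q24959 (flp_a L768292) q23787, trivial⟩ (by decide +kernel)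

theorem ce_a_390 : ∀ r, r < 64 → sm ga (Qf (24960 + r)) = Qf (tab Gen.a (24960 + r)) :=
  edges_tab (sm ga) Qf (tab Gen.a) 24960 [(24960, 23928), (24961, 23929), (24962, 23930), (24963, 23932), (24964, 23933), (24965, 23935), (24966, 23941), (24967, 23948), (24968, 23954), (24969, 23955), (24970, 23963), (24971, 25669), (24972, 24252), (24973, 24031), (24974, 24113), (24975, 24115), (24976, 25967), (24977, 26083), (24978, 26084), (24979, 23816), (24980, 23817), (24981, 24022), (24982, 25608), (24983, 26153), (24984, 26154), (24985, 26155), (24986, 24098), (24987, 24073), (24988, 24099), (24989, 25602), (24990, 26085), (24991, 26086), (24992, 26087), (24993, 26088), (24994, 25605), (24995, 26089), (24996, 26090), (24997, 26176), (24998, 23900), (24999, 25939), (25000, 26092), (25001, 26093), (25002, 24286), (25003, 24351), (25004, 24350), (25005, 24349), (25006, 25611), (25007, 26094), (25008, 26095), (25009, 26096), (25010, 26191), (25011, 24282), (25012, 25791), (25013, 24062), (25014, 24343), (25015, 24307), (25016, 24344),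 (25017, 24032), (25018, 24377), (25019, 24374), (25020, 26201), (25021, 25612), (25022, 25619), (25023, 25620)]
    ⟨e3 q24960 L768300 q23928, e3 q24961 L768312 q23929, e3 q24962 L768325 q23930, e3 q24963 L768338 q23932, e3 q24964 L768347 q23933, e3 q24965 L768355 q23935, e3 q24966 L768367 q23941, e3 q24967 L768378 q23948, e3 q24968 L768382 q23954, e3 q24969 L768391 q23955, e3 q24970 L768401 q23963, e3 q24971 (flp_a L774428) q25669, e3 q24972 L768420 q24252, e3 q24973 L768434 q24031, e3 q24974 L768448 q24113, e3 q24975 L768463 q24115, e3 q24976 (flp_a L778073) q25967, e3 q24977 (flp_a L779211) q26083, e3 q24978 (flp_a L779223) q26084, e3 q24979 L768494 q23816, e3 q24980 L768506 q23817, e3 q24981 L768519 q24022, e3 q24982 (flp_a L773623) q25608, e3 q24983 (flp_a L779933) q26153, e3 q24984 (flp_a L779945) q26154, e3 q24985 (flp_a L779958) q26155, e3 q24986 L768567 q24098, e3 q24987 L768583 q24073, e3 q24988 L768601 q24099, e3 q24989 (flp_a L773539) q25602, e3 q24990 (flp_a L779237) q26085, e3 q24991 (flp_a L779249) q26086,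 e3 q24992 (flp_a L779261) q26087, e3 q24993 (flp_a L779275) q26088, e3 q24994 (flp_a L773579) q25605, e3 q24995 (flp_a L779288) q26089, e3 q24996 (flp_a L779296) q26090, e3 q24997 L780136 q26176, e3 q24998 L768672 q23900, e3 q24999 (flp_a L777800) q25939, e3 q25000 (flp_a L779313) q26092, e3 q25001 (flp_a L779327) q26093, e3 q25002 L768713 q24286, e3 q25003 L768727 q24351, e3 q25004 L768745 q24350, e3 q25005 L768757 q24349, e3 q25006 (flp_a L773669) q25611, e3 q25007 (flp_a L779343) q26094, e3 q25008 (flp_a L779351) q26095, e3 q25009 (flp_a L779363) q26096, e3 q25010 L780285 q26191, e3 q25011 L768813 q24282, e3 q25012 (flp_a L776011) q25791, e3 q25013 L768835 q24062, e3 q25014 L768851 q24343, e3 q25015 L768861 q24307, e3 q25016 L768875 q24344, e3 q25017 L768887 q24032, e3 q25018 L768899 q24377, e3 q25019 L768909 q24374, e3 q25020 L780393 q26201, e3 q25021 (flp_a L773687) q25612, e3 q25022 (flp_a L773777) q25619, e3 q25023 (flp_a L773789) q25620, trivial⟩ (by decide +kernel)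

theorem ce_a_391 : ∀ r, r < 64 → sm ga (Qf (25024 + r)) = Qf (tab Gen.a (25024 + r)) :=
  edges_tab (sm ga) Qf (tab Gen.a) 25024 [(25024, 26206), (25025, 26099), (25026, 23853), (25027, 24384), (25028, 25623), (25029, 26101), (25030, 26102), (25031, 25654), (25032, 26103), (25033, 25624), (25034, 25625), (25035, 25626), (25036, 25661), (25037, 26104), (25038, 24308), (25039, 25800), (25040, 25921), (25041, 26105), (25042, 26106), (25043, 24304), (25044, 24303), (25045, 25940), (25046, 26107), (25047, 26108), (25048, 26232), (25049, 23881), (25050, 25734), (25051, 26233), (25052, 25922), (25053, 24313), (25054, 26110), (25055, 24314), (25056, 26111), (25057, 25599), (25058, 26112), (25059, 26113), (25060, 26114), (25061, 26248), (25062, 24309), (25063, 25632), (25064, 26116), (25065, 26117), (25066, 26255), (25067, 26119), (25068, 23896), (25069, 23903), (25070, 24080), (25071, 25744), (25072, 26177), (25073, 24082), (25074, 25745), (25075, 25746), (25076, 26266), (25077, 25801), (25078, 24093), (25079, 25640), (25080, 25641),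 (25081, 26124), (25082, 26125), (25083, 26126), (25084, 26127), (25085, 24321), (25086, 26279), (25087, 24322)]
    ⟨e3 q25024 L780439 q26206, e3 q25025 (flp_a L779393) q26099, e3 q25026 (flp_a L768963) q23853, e3 q25027 L768971 q24384, e3 q25028 (flp_a L773828) q25623, e3 q25029 (flp_a L779415) q26101, e3 q25030 (flp_a L779427) q26102, e3 q25031 (flp_a L774220) q25654, e3 q25032 (flp_a L779436) q26103, e3 q25033 (flp_a L773842) q25624, e3 q25034 (flp_a L773857) q25625, e3 q25035 (flp_a L773870) q25626, e3 q25036 (flp_a L774313) q25661, e3 q25037 (flp_a L779449) q26104, e3 q25038 L769097 q24308, e3 q25039 (flp_a L776125) q25800, e3 q25040 (flp_a L777611) q25921, e3 q25041 (flp_a L779459) q26105, e3 q25042 (flp_a L779473) q26106, e3 q25043 L769152 q24304, e3 q25044 L769168 q24303, e3 q25045 (flp_a L777817) q25940, e3 q25046 (flp_a L779487) q26107, e3 q25047 (flp_a L779495) q26108, e3 q25048 L780694 q26232, e3 q25049 L769208 q23881, e3 q25050 (flp_a L775311) q25734, e3 q25051 (flp_a L780702) q26233, e3 q25052 (flp_a L777628)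 q25922, e3 q25053 L769245 q24313, e3 q25054 (flp_a L779508) q26110, e3 q25055 L769268 q24314, e3 q25056 (flp_a L779522) q26111, e3 q25057 (flp_a L773490) q25599, e3 q25058 (flp_a L779534) q26112, e3 q25059 (flp_a L779544) q26113, e3 q25060 (flp_a L779556) q26114, e3 q25061 L780831 q26248, e3 q25062 L769326 q24309, e3 q25063 (flp_a L773955) q25632, e3 q25064 (flp_a L779582) q26116, e3 q25065 (flp_a L779588) q26117, e3 q25066 L780877 q26255, e3 q25067 (flp_a L779602) q26119, e3 q25068 (flp_a L769364) q23896, e3 q25069 L769370 q23903, e3 q25070 L769376 q24080, e3 q25071 (flp_a L775433) q25744, e3 q25072 (flp_a L780144) q26177, e3 q25073 L769403 q24082, e3 q25074 (flp_a L775449) q25745, e3 q25075 (flp_a L775461) q25746, e3 q25076 L780960 q26266, e3 q25077 (flp_a L776143) q25801, e3 q25078 L769441 q24093, e3 q25079 (flp_a L774061) q25640, e3 q25080 (flp_a L774078) q25641, e3 q25081 (flp_a L779654) q26124, e3 q25082 (flp_a L779668) q26125, e3 q25083 (flp_a L779676) q26126, e3 q25084 (flp_a L779685) q26127, e3 q25085 L769492 q24321,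 e3 q25086 L781063 q26279, e3 q25087 L769512 q24322, trivial⟩ (by decide +kernel)

theorem ce_a_392 : ∀ r, r < 64 → sm ga (Qf (25088 + r)) = Qf (tab Gen.a (25088 + r)) :=
  edges_tab (sm ga) Qf (tab Gen.a) 25088 [(25088, 24320), (25089, 25628), (25090, 25645), (25091, 25646), (25092, 26288), (25093, 26130), (25094, 24326), (25095, 23917), (25096, 26292), (25097, 24325), (25098, 25633), (25099, 25634), (25100, 26296), (25101, 25652), (25102, 23923), (25103, 26299), (25104, 26134), (25105, 25735), (25106, 25600), (25107, 26135), (25108, 26136), (25109, 26137), (25110, 25658), (25111, 25659), (25112, 26307), (25113, 26138), (25114, 26139), (25115, 23934), (25116, 26310), (25117, 26140), (25118, 25655), (25119, 25662), (25120, 26141), (25121, 25660), (25122, 25663), (25123, 23947), (25124, 26317), (25125, 26142), (25126, 25656), (25127, 25664), (25128, 23953), (25129, 26321), (25130, 26017), (25131, 26143), (25132, 23957), (25133, 26325), (25134, 26025), (25135, 23973), (25136, 25667), (25137, 23962), (25138, 26329), (25139, 26330),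 (25140, 26144), (25141, 24298), (25142, 24299), (25143, 24076), (25144, 23971), (25145, 23972), (25146, 26334), (25147, 26335), (25148, 23983), (25149, 26337), (25150, 24178), (25151, 23992)]
    ⟨e3 q25088 L769522 q24320, e3 q25089 (flp_a L773901) q25628, e3 q25090 (flp_a L774126) q25645, e3 q25091 (flp_a L774138) q25646, e3 q25092 L781131 q26288, e3 q25093 (flp_a L779715) q26130, e3 q25094 L769562 q24326, e3 q25095 (flp_a L769570) q23917, e3 q25096 (flp_a L781165) q26292, e3 q25097 L769588 q24325, e3 q25098 (flp_a L773969) q25633, e3 q25099 (flp_a L773977) q25634, e3 q25100 L781199 q26296, e3 q25101 (flp_a L774200) q25652, e3 q25102 (flp_a L769624) q23923, e3 q25103 (flp_a L781221) q26299, e3 q25104 (flp_a L779747) q26134, e3 q25105 (flp_a L775325) q25735, e3 q25106 (flp_a L773508) q25600, e3 q25107 (flp_a L779753) q26135, e3 q25108 (flp_a L779765) q26136, e3 q25109 (flp_a L779776) q26137, e3 q25110 (flp_a L774274) q25658, e3 q25111 (flp_a L774287) q25659, e3 q25112 L781283 q26307, e3 q25113 (flp_a L779789) q26138, e3 q25114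 (flp_a L779799) q26139, e3 q25115 (flp_a L769724) q23934, e3 q25116 (flp_a L781314) q26310, e3 q25117 (flp_a L779808) q26140, e3 q25118 (flp_a L774235) q25655, e3 q25119 (flp_a L774328) q25662, e3 q25120 (flp_a L779816) q26141, e3 q25121 (flp_a L774299) q25660, e3 q25122 (flp_a L774343) q25663, e3 q25123 L769794 q23947, e3 q25124 (flp_a L781380) q26317, e3 q25125 (flp_a L779826) q26142, e3 q25126 (flp_a L774246) q25656, e3 q25127 (flp_a L774351) q25664, e3 q25128 (flp_a L769838) q23953, e3 q25129 (flp_a L781406) q26321, e3 q25130 (flp_a L778511) q26017, e3 q25131 (flp_a L779832) q26143, e3 q25132 L769878 q23957, e3 q25133 (flp_a L781452) q26325, e3 q25134 (flp_a L778603) q26025, e3 q25135 L769908 q23973, e3 q25136 (flp_a L774400) q25667, e3 q25137 L769931 q23962, e3 q25138 (flp_a L781491) q26329, e3 q25139 (flp_a L781503) q26330, e3 q25140 (flp_a L779848) q26144, e3 q25141 L769962 q24298, e3 q25142 L769976 q24299, e3 q25143 L769986 q24076, e3 q25144 L769999 q23971, e3 q25145 L770012 q23972, e3 q25146 (flp_a L781545) q26334,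 e3 q25147 (flp_a L781558) q26335, e3 q25148 L770040 q23983, e3 q25149 L781582 q26337, e3 q25150 L770064 q24178, e3 q25151 L770078 q23992, trivial⟩ (by decide +kernel)

theorem ce_a_393 : ∀ r, r < 64 → sm ga (Qf (25152 + r)) = Qf (tab Gen.a (25152 + r)) :=
  edges_tab (sm ga) Qf (tab Gen.a) 25152 [(25152, 26340), (25153, 26341), (25154, 25568), (25155, 25581), (25156, 26344), (25157, 25851), (25158, 25872), (25159, 24339), (25160, 24353), (25161, 24208), (25162, 25582), (25163, 25583), (25164, 26355), (25165, 25824), (25166, 26357), (25167, 23993), (25168, 25855), (25169, 25585), (25170, 24077), (25171, 24078), (25172, 24079), (25173, 24067), (25174, 26362), (25175, 26363), (25176, 24004), (25177, 26364), (25178, 25794), (25179, 26367), (25180, 24373), (25181, 24008), (25182, 24258), (25183, 26370), (25184, 24086), (25185, 24088), (25186, 24089), (25187, 26375), (25188, 24294), (25189, 24390), (25190, 24094), (25191, 24095), (25192, 24096), (25193, 24097), (25194, 26156), (25195, 25816), (25196, 24102), (25197, 24104), (25198,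 24105), (25199, 24106), (25200, 24107), (25201, 24108), (25202, 24109), (25203, 26397), (25204, 26146), (25205, 26198), (25206, 25818), (25207, 25650), (25208, 24122), (25209, 24124), (25210, 24125), (25211, 24128), (25212, 24129), (25213, 26410), (25214, 24131), (25215, 24132)]
    ⟨e3 q25152 L781622 q26340, e3 q25153 L781630 q26341, e3 q25154 (flp_a L773017) q25568, e3 q25155 (flp_a L773222) q25581, e3 q25156 L781664 q26344, e3 q25157 (flp_a L776785) q25851, e3 q25158 (flp_a L777027) q25872, e3 q25159 L770164 q24339, e3 q25160 L770178 q24353, e3 q25161 L770190 q24208, e3 q25162 (flp_a L773240) q25582, e3 q25163 (flp_a L773256) q25583, e3 q25164 L781799 q26355, e3 q25165 (flp_a L776406) q25824, e3 q25166 L781813 q26357, e3 q25167 (flp_a L770242) q23993, e3 q25168 (flp_a L776823) q25855, e3 q25169 (flp_a L773284) q25585, e3 q25170 L770268 q24077, e3 q25171 L770278 q24078, e3 q25172 L770289 q24079, e3 q25173 L770303 q24067, e3 q25174 L781875 q26362, e3 q25175 L781887 q26363, e3 q25176 L770337 q24004, e3 q25177 (flp_a L781901)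 q26364, e3 q25178 (flp_a L776043) q25794, e3 q25179 L781923 q26367, e3 q25180 L770367 q24373, e3 q25181 (flp_a L770373) q24008, e3 q25182 L770385 q24258, e3 q25183 L781951 q26370, e3 q25184 L770407 q24086, e3 q25185 L770413 q24088, e3 q25186 L770421 q24089, e3 q25187 L781990 q26375, e3 q25188 L770435 q24294, e3 q25189 L770447 q24390, e3 q25190 L770460 q24094, e3 q25191 L770470 q24095, e3 q25192 L770482 q24096, e3 q25193 L770488 q24097, e3 q25194 (flp_a L779970) q26156, e3 q25195 (flp_a L776290) q25816, e3 q25196 L770510 q24102, e3 q25197 L770521 q24104, e3 q25198 L770531 q24105, e3 q25199 L770541 q24106, e3 q25200 L770549 q24107, e3 q25201 L770557 q24108, e3 q25202 L770569 q24109, e3 q25203 L782206 q26397, e3 q25204 (flp_a L779866) q26146, e3 q25205 (flp_a L780363) q26198, e3 q25206 (flp_a L776320) q25818, e3 q25207 (flp_a L774174) q25650, e3 q25208 L770621 q24122, e3 q25209 L770631 q24124, e3 q25210 L770641 q24125, e3 q25211 L770651 q24128, e3 q25212 L770659 q24129, e3 q25213 L782311 q26410, e3 q25214 L770669 q24131, e3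 q25215 L770677 q24132, trivial⟩ (by decide +kernel)

theorem ce_a_394 : ∀ r, r < 64 → sm ga (Qf (25216 + r)) = Qf (tab Gen.a (25216 + r)) :=
  edges_tab (sm ga) Qf (tab Gen.a) 25216 [(25216, 26413), (25217, 24041), (25218, 24296), (25219, 24140), (25220, 24141), (25221, 24391), (25222, 24146), (25223, 24392), (25224, 24148), (25225, 24149), (25226, 24150), (25227, 25657), (25228, 25778), (25229, 25668), (25230, 25666), (25231, 24154), (25232, 26194), (25233, 25622), (25234, 25739), (25235, 25748), (25236, 25795), (25237, 25796), (25238, 26425), (25239, 25601), (25240, 25603), (25241, 25604), (25242, 25606), (25243, 25929), (25244, 26163), (25245, 25762), (25246, 25711), (25247, 26333), (25248, 26358), (25249, 26359), (25250, 26439), (25251, 26259), (25252, 24358), (25253, 26263), (25254, 25764), (25255, 25637), (25256, 25723), (25257, 26371), (25258, 26372), (25259, 25638), (25260, 26451), (25261, 26374), (25262, 24263), (25263, 26454), (25264, 24092), (25265, 26268), (25266, 26378), (25267, 26379), (25268, 26380), (25269,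 26381), (25270, 26382), (25271, 26462), (25272, 26162), (25273, 26164), (25274, 25817), (25275, 25712), (25276, 26387), (25277, 25713), (25278, 26388), (25279, 26389)]
    ⟨e3 q25216 L782331 q26413, e3 q25217 (flp_a L770689) q24041, e3 q25218 L770697 q24296, e3 q25219 L770709 q24140, e3 q25220 L770720 q24141, e3 q25221 L770729 q24391, e3 q25222 L770742 q24146, e3 q25223 L770754 q24392, e3 q25224 L770767 q24148, e3 q25225 L770779 q24149, e3 q25226 L770791 q24150, e3 q25227 (flp_a L774261) q25657, e3 q25228 (flp_a L775853) q25778, e3 q25229 (flp_a L774411) q25668, e3 q25230 (flp_a L774384) q25666, e3 q25231 L770832 q24154, e3 q25232 (flp_a L780315) q26194, e3 q25233 (flp_a L773813) q25622, e3 q25234 (flp_a L775376) q25739, e3 q25235 (flp_a L775493) q25748, e3 q25236 (flp_a L776057) q25795, e3 q25237 (flp_a L776071) q25796, e3 q25238 L782449 q26425, e3 q25239 (flp_a L773522) q25601, e3 q25240 (flp_a L773556) q25603, e3 q25241 (flp_a L773566) q25604, e3 q25242 (flp_a L773593) q25606, e3 q25243 (flp_a L777704) q25929, e3 q25244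 (flp_a L780037) q26163, e3 q25245 (flp_a L775651) q25762, e3 q25246 (flp_a L775036) q25711, e3 q25247 (flp_a L781533) q26333, e3 q25248 (flp_a L781827) q26358, e3 q25249 (flp_a L781839) q26359, e3 q25250 L782576 q26439, e3 q25251 (flp_a L780903) q26259, e3 q25252 L771024 q24358, e3 q25253 (flp_a L780940) q26263, e3 q25254 (flp_a L775683) q25764, e3 q25255 (flp_a L774017) q25637, e3 q25256 (flp_a L775193) q25723, e3 q25257 (flp_a L781963) q26371, e3 q25258 (flp_a L781969) q26372, e3 q25259 (flp_a L774031) q25638, e3 q25260 L782670 q26451, e3 q25261 (flp_a L781982) q26374, e3 q25262 L771097 q24263, e3 q25263 L782692 q26454, e3 q25264 (flp_a L771117) q24092, e3 q25265 (flp_a L780980) q26268, e3 q25266 (flp_a L782024) q26378, e3 q25267 (flp_a L782036) q26379, e3 q25268 (flp_a L782048) q26380, e3 q25269 (flp_a L782059) q26381, e3 q25270 (flp_a L782065) q26382, e3 q25271 L782741 q26462, e3 q25272 (flp_a L780023) q26162, e3 q25273 (flp_a L780051) q26164, e3 q25274 (flp_a L776308) q25817, e3 q25275 (flp_a L775053) q25712, e3 q25276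 (flp_a L782104) q26387, e3 q25277 (flp_a L775070) q25713, e3 q25278 (flp_a L782114) q26388, e3 q25279 (flp_a L782126) q26389, trivial⟩ (by decide +kernel)

theorem ce_a_395 : ∀ r, r < 64 → sm ga (Qf (25280 + r)) = Qf (tab Gen.a (25280 + r)) :=
  edges_tab (sm ga) Qf (tab Gen.a) 25280 [(25280, 26390), (25281, 26391), (25282, 26477), (25283, 26393), (25284, 26394), (25285, 26395), (25286, 26481), (25287, 24110), (25288, 24117), (25289, 24118), (25290, 26147), (25291, 25923), (25292, 26148), (25293, 25819), (25294, 24315), (25295, 26482), (25296, 26483), (25297, 26494), (25298, 25813), (25299, 24337), (25300, 25724), (25301, 26403), (25302, 26404), (25303, 25725), (25304, 25726), (25305, 26505), (25306, 26406), (25307, 26407), (25308, 25788), (25309, 26027), (25310, 26028), (25311, 26512), (25312, 26409), (25313, 24130), (25314, 26514), (25315, 26412), (25316, 26026), (25317, 26517), (25318, 24135), (25319, 24139), (25320, 26518), (25321, 24143), (25322, 25821), (25323, 25714), (25324, 26414), (25325, 26415), (25326, 25820),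 (25327, 25727), (25328, 24167), (25329, 24169), (25330, 24175), (25331, 24176), (25332, 24177), (25333, 26526), (25334, 25838), (25335, 25981), (25336, 25985), (25337, 25986), (25338, 26013), (25339, 26533), (25340, 26534), (25341, 25839), (25342, 25946), (25343, 25840)]
    ⟨e3 q25280 (flp_a L782138) q26390, e3 q25281 (flp_a L782150) q26391, e3 q25282 L782864 q26477, e3 q25283 (flp_a L782166) q26393, e3 q25284 (flp_a L782176) q26394, e3 q25285 (flp_a L782184) q26395, e3 q25286 L782886 q26481, e3 q25287 (flp_a L771278) q24110, e3 q25288 L771286 q24117, e3 q25289 L771298 q24118, e3 q25290 (flp_a L779880) q26147, e3 q25291 (flp_a L777645) q25923, e3 q25292 (flp_a L779894) q26148, e3 q25293 (flp_a L776332) q25819, e3 q25294 L771330 q24315, e3 q25295 (flp_a L782900) q26482, e3 q25296 (flp_a L782912) q26483, e3 q25297 L782987 q26494, e3 q25298 (flp_a L776251) q25813, e3 q25299 L771364 q24337, e3 q25300 (flp_a L775203) q25724, e3 q25301 (flp_a L782252) q26403, e3 q25302 (flp_a L782264) q26404, e3 q25303 (flp_a L775213) q25725,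 e3 q25304 (flp_a L775223) q25726, e3 q25305 L783059 q26505, e3 q25306 (flp_a L782281) q26406, e3 q25307 (flp_a L782291) q26407, e3 q25308 (flp_a L775971) q25788, e3 q25309 (flp_a L778626) q26027, e3 q25310 (flp_a L778640) q26028, e3 q25311 L783099 q26512, e3 q25312 (flp_a L782305) q26409, e3 q25313 (flp_a L771441) q24130, e3 q25314 (flp_a L783111) q26514, e3 q25315 (flp_a L782325) q26412, e3 q25316 (flp_a L778616) q26026, e3 q25317 L783123 q26517, e3 q25318 (flp_a L771463) q24135, e3 q25319 L771471 q24139, e3 q25320 (flp_a L783131) q26518, e3 q25321 L771493 q24143, e3 q25322 (flp_a L776353) q25821, e3 q25323 (flp_a L775080) q25714, e3 q25324 (flp_a L782343) q26414, e3 q25325 (flp_a L782354) q26415, e3 q25326 (flp_a L776342) q25820, e3 q25327 (flp_a L775233) q25727, e3 q25328 L771542 q24167, e3 q25329 L771556 q24169, e3 q25330 L771570 q24175, e3 q25331 L771576 q24176, e3 q25332 L771582 q24177, e3 q25333 L783199 q26526, e3 q25334 (flp_a L776616) q25838, e3 q25335 (flp_a L778212) q25981, e3 q25336 (flp_a L778256) q25985, e3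 q25337 (flp_a L778268) q25986, e3 q25338 (flp_a L778473) q26013, e3 q25339 L783244 q26533, e3 q25340 L783250 q26534, e3 q25341 (flp_a L776633) q25839, e3 q25342 (flp_a L777873) q25946, e3 q25343 (flp_a L776650) q25840, trivial⟩ (by decide +kernel)

theorem ce_a_396 : ∀ r, r < 64 → sm ga (Qf (25344 + r)) = Qf (tab Gen.a (25344 + r)) :=
  edges_tab (sm ga) Qf (tab Gen.a) 25344 [(25344, 26037), (25345, 26038), (25346, 25947), (25347, 25948), (25348, 26546), (25349, 26524), (25350, 26525), (25351, 25908), (25352, 26550), (25353, 24179), (25354, 25949), (25355, 25841), (25356, 26039), (25357, 24200), (25358, 24201), (25359, 24202), (25360, 26556), (25361, 24209), (25362, 26558), (25363, 26559), (25364, 24229), (25365, 24230), (25366, 24196), (25367, 25877), (25368, 25878), (25369, 25846), (25370, 25716), (25371, 26552), (25372, 26553), (25373, 26568), (25374, 26555), (25375, 25999), (25376, 24204), (25377, 25589), (25378, 25590), (25379, 26351), (25380, 26352), (25381, 26575), (25382, 25866), (25383, 25867), (25384, 26578), (25385,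 25592), (25386, 24214), (25387, 24219), (25388, 24220), (25389, 26063), (25390, 26064), (25391, 25873), (25392, 26585), (25393, 26581), (25394, 25860), (25395, 25741), (25396, 25742), (25397, 26590), (25398, 25783), (25399, 25573), (25400, 26593), (25401, 25571), (25402, 24228), (25403, 26595), (25404, 26561), (25405, 25954), (25406, 26598), (25407, 24233)]
    ⟨e3 q25344 (flp_a L778740) q26037, e3 q25345 (flp_a L778750) q26038, e3 q25346 (flp_a L777887) q25947, e3 q25347 (flp_a L777901) q25948, e3 q25348 L783329 q26546, e3 q25349 (flp_a L783187) q26524, e3 q25350 (flp_a L783195) q26525, e3 q25351 (flp_a L777474) q25908, e3 q25352 L783349 q26550, e3 q25353 (flp_a L771717) q24179, e3 q25354 (flp_a L777915) q25949, e3 q25355 (flp_a L776658) q25841, e3 q25356 (flp_a L778760) q26039, e3 q25357 L771742 q24200, e3 q25358 L771752 q24201, e3 q25359 L771760 q24202, e3 q25360 L783396 q26556, e3 q25361 L771772 q24209, e3 q25362 L783408 q26558, e3 q25363 L783416 q26559, e3 q25364 L771790 q24229, e3 q25365 L771796 q24230, e3 q25366 (flp_a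 L771800) q24196, e3 q25367 (flp_a L777096) q25877, e3 q25368 (flp_a L777106) q25878, e3 q25369 (flp_a L776721) q25846, e3 q25370 (flp_a L775110) q25716, e3 q25371 (flp_a L783365) q26552, e3 q25372 (flp_a L783375) q26553, e3 q25373 L783467 q26568, e3 q25374 (flp_a L783390) q26555, e3 q25375 (flp_a L778375) q25999, e3 q25376 (flp_a L771860) q24204, e3 q25377 (flp_a L773351) q25589, e3 q25378 (flp_a L773365) q25590, e3 q25379 (flp_a L781757) q26351, e3 q25380 (flp_a L781771) q26352, e3 q25381 L783511 q26575, e3 q25382 (flp_a L776963) q25866, e3 q25383 (flp_a L776975) q25867, e3 q25384 L783529 q26578, e3 q25385 (flp_a L773395) q25592, e3 q25386 (flp_a L771916) q24214, e3 q25387 L771924 q24219, e3 q25388 L771928 q24220, e3 q25389 (flp_a L779033) q26063, e3 q25390 (flp_a L779043) q26064, e3 q25391 (flp_a L777041) q25873, e3 q25392 L783567 q26585, e3 q25393 (flp_a L783545) q26581, e3 q25394 (flp_a L776889) q25860, e3 q25395 (flp_a L775401) q25741, e3 q25396 (flp_a L775413) q25742, e3 q25397 L783593 q26590, e3 q25398 (flp_a L775913)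 q25783, e3 q25399 (flp_a L773102) q25573, e3 q25400 L783611 q26593, e3 q25401 (flp_a L773068) q25571, e3 q25402 (flp_a L772006) q24228, e3 q25403 (flp_a L783627) q26595, e3 q25404 (flp_a L783428) q26561, e3 q25405 (flp_a L777961) q25954, e3 q25406 L783637 q26598, e3 q25407 (flp_a L772028) q24233, trivial⟩ (by decide +kernel)

theorem ce_a_397 : ∀ r, r < 64 → sm ga (Qf (25408 + r)) = Qf (tab Gen.a (25408 + r)) :=
  edges_tab (sm ga) Qf (tab Gen.a) 25408 [(25408, 24249), (25409, 24250), (25410, 26602), (25411, 24240), (25412, 26603), (25413, 26051), (25414, 26605), (25415, 26606), (25416, 24245), (25417, 26043), (25418, 26044), (25419, 25842), (25420, 26599), (25421, 26600), (25422, 26614), (25423, 25755), (25424, 26145), (25425, 26035), (25426, 26036), (25427, 26045), (25428, 26046), (25429, 26623), (25430, 25843), (25431, 26625), (25432, 24259), (25433, 24305), (25434, 24306), (25435, 25756), (25436, 25757), (25437, 26631), (25438, 26040), (25439, 26041), (25440, 26634), (25441, 26635), (25442, 26049), (25443, 24268), (25444,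 24269), (25445, 25763), (25446, 24300), (25447, 24301), (25448, 26639), (25449, 26640), (25450, 24278), (25451, 24338), (25452, 24340), (25453, 24341), (25454, 26644), (25455, 26192), (25456, 26646), (25457, 24284), (25458, 24287), (25459, 26182), (25460, 26649), (25461, 24367), (25462, 26651), (25463, 24290), (25464, 24295), (25465, 24297), (25466, 26376), (25467, 26652), (25468, 26653), (25469, 26386), (25470, 26332), (25471, 26281)]
    ⟨e3 q25408 L772036 q24249, e3 q25409 L772042 q24250, e3 q25410 L783662 q26602, e3 q25411 (flp_a L772054) q24240, e3 q25412 L783670 q26603, e3 q25413 (flp_a L778890) q26051, e3 q25414 L783684 q26605, e3 q25415 L783692 q26606, e3 q25416 (flp_a L772090) q24245, e3 q25417 (flp_a L778796) q26043, e3 q25418 (flp_a L778810) q26044, e3 q25419 (flp_a L776669) q25842, e3 q25420 (flp_a L783645) q26599, e3 q25421 (flp_a L783651) q26600, e3 q25422 L783742 q26614, e3 q25423 (flp_a L775568) q25755, e3 q25424 (flp_a L779854) q26145, e3 q25425 (flp_a L778720) q26035, e3 q25426 (flp_a L778730) q26036, e3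 q25427 (flp_a L778824) q26045, e3 q25428 (flp_a L778836) q26046, e3 q25429 L783805 q26623, e3 q25430 (flp_a L776683) q25843, e3 q25431 L783819 q26625, e3 q25432 (flp_a L772191) q24259, e3 q25433 L772199 q24305, e3 q25434 L772211 q24306, e3 q25435 (flp_a L775584) q25756, e3 q25436 (flp_a L775598) q25757, e3 q25437 L783870 q26631, e3 q25438 (flp_a L778771) q26040, e3 q25439 (flp_a L778779) q26041, e3 q25440 L783886 q26634, e3 q25441 L783890 q26635, e3 q25442 (flp_a L778866) q26049, e3 q25443 (flp_a L772260) q24268, e3 q25444 (flp_a L772264) q24269, e3 q25445 (flp_a L775666) q25763, e3 q25446 L772279 q24300, e3 q25447 L772285 q24301, e3 q25448 L783910 q26639, e3 q25449 L783916 q26640, e3 q25450 (flp_a L772299) q24278, e3 q25451 L772307 q24338, e3 q25452 L772315 q24340, e3 q25453 L772321 q24341, e3 q25454 L783940 q26644, e3 q25455 (flp_a L780293) q26192, e3 q25456 L783952 q26646, e3 q25457 (flp_a L772338) q24284, e3 q25458 L772346 q24287, e3 q25459 (flp_a L780193) q26182, e3 q25460 L783970 q26649, e3 q25461 L772358 q24367, e3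 q25462 L783978 q26651, e3 q25463 (flp_a L772366) q24290, e3 q25464 L772374 q24295, e3 q25465 L772382 q24297, e3 q25466 (flp_a L782000) q26376, e3 q25467 (flp_a L783986) q26652, e3 q25468 (flp_a L783992) q26653, e3 q25469 (flp_a L782090) q26386, e3 q25470 (flp_a L781523) q26332, e3 q25471 (flp_a L781081) q26281, trivial⟩ (by decide +kernel)

theorem ce_a_398 : ∀ r, r < 64 → sm ga (Qf (25472 + r)) = Qf (tab Gen.a (25472 + r)) :=
  edges_tab (sm ga) Qf (tab Gen.a) 25472 [(25472, 26024), (25473, 26663), (25474, 26638), (25475, 24302), (25476, 26227), (25477, 26226), (25478, 26626), (25479, 26627), (25480, 26670), (25481, 26196), (25482, 26220), (25483, 26673), (25484, 24310), (25485, 24316), (25486, 25969), (25487, 26238), (25488, 26241), (25489, 26491), (25490, 25754), (25491, 26682), (25492, 25614), (25493, 25615), (25494, 25736), (25495, 26282), (25496, 26276), (25497, 26278), (25498, 26691), (25499, 25609), (25500, 25616), (25501, 25617), (25502, 26697), (25503, 26291), (25504, 24327), (25505, 25613), (25506, 26700), (25507,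 24330), (25508, 25618), (25509, 25610), (25510, 26496), (25511, 26497), (25512, 26703), (25513, 26348), (25514, 26349), (25515, 26706), (25516, 26643), (25517, 24342), (25518, 26195), (25519, 25777), (25520, 26711), (25521, 26712), (25522, 26713), (25523, 25798), (25524, 25799), (25525, 24348), (25526, 26717), (25527, 26184), (25528, 26183), (25529, 25627), (25530, 26721), (25531, 24354), (25532, 24359), (25533, 26723), (25534, 26442), (25535, 25806)]
    ⟨e3 q25472 (flp_a L778591) q26024, e3 q25473 L784046 q26663, e3 q25474 (flp_a L783906) q26638, e3 q25475 (flp_a L772434) q24302, e3 q25476 (flp_a L780657) q26227, e3 q25477 (flp_a L780641) q26226, e3 q25478 (flp_a L783829) q26626, e3 q25479 (flp_a L783839) q26627, e3 q25480 L784087 q26670, e3 q25481 (flp_a L780339) q26196, e3 q25482 (flp_a L780584) q26220, e3 q25483 L784109 q26673, e3 q25484 (flp_a L772491) q24310, e3 q25485 L772499 q24316, e3 q25486 (flp_a L778100) q25969, e3 q25487 (flp_a L780748) q26238, e3 q25488 (flp_a L780779) q26241, e3 q25489 (flp_a L782965) q26491,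 e3 q25490 (flp_a L775554) q25754, e3 q25491 L784162 q26682, e3 q25492 (flp_a L773709) q25614, e3 q25493 (flp_a L773726) q25615, e3 q25494 (flp_a L775340) q25736, e3 q25495 (flp_a L781091) q26282, e3 q25496 (flp_a L781036) q26276, e3 q25497 (flp_a L781053) q26278, e3 q25498 L784222 q26691, e3 q25499 (flp_a L773640) q25609, e3 q25500 (flp_a L773738) q25616, e3 q25501 (flp_a L773750) q25617, e3 q25502 L784264 q26697, e3 q25503 (flp_a L781153) q26291, e3 q25504 (flp_a L772615) q24327, e3 q25505 (flp_a L773699) q25613, e3 q25506 L784284 q26700, e3 q25507 (flp_a L772633) q24330, e3 q25508 (flp_a L773762) q25618, e3 q25509 (flp_a L773654) q25610, e3 q25510 (flp_a L783001) q26496, e3 q25511 (flp_a L783013) q26497, e3 q25512 L784300 q26703, e3 q25513 (flp_a L781716) q26348, e3 q25514 (flp_a L781730) q26349, e3 q25515 L784318 q26706, e3 q25516 (flp_a L783936) q26643, e3 q25517 (flp_a L772691) q24342, e3 q25518 (flp_a L780329) q26195, e3 q25519 (flp_a L775841) q25777, e3 q25520 L784349 q26711, e3 q25521 L784359 q26712, e3 q25522 L784369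 q26713, e3 q25523 (flp_a L776097) q25798, e3 q25524 (flp_a L776111) q25799, e3 q25525 (flp_a L772761) q24348, e3 q25526 (flp_a L784405) q26717, e3 q25527 (flp_a L780221) q26184, e3 q25528 (flp_a L780205) q26183, e3 q25529 (flp_a L773885) q25627, e3 q25530 L784435 q26721, e3 q25531 (flp_a L772803) q24354, e3 q25532 L772811 q24359, e3 q25533 L784443 q26723, e3 q25534 (flp_a L782601) q26442, e3 q25535 (flp_a L776191) q25806, trivial⟩ (by decide +kernel)

theorem ce_a_399 : ∀ r, r < 64 → sm ga (Qf (25536 + r)) = Qf (tab Gen.a (25536 + r)) :=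
  edges_tab (sm ga) Qf (tab Gen.a) 25536 [(25536, 26726), (25537, 25805), (25538, 24361), (25539, 25642), (25540, 25643), (25541, 25644), (25542, 25737), (25543, 25738), (25544, 26736), (25545, 25776), (25546, 26739), (25547, 24368), (25548, 25629), (25549, 25630), (25550, 26742), (25551, 25648), (25552, 25649), (25553, 24372), (25554, 26744), (25555, 26200), (25556, 24376), (25557, 26746), (25558, 26747), (25559, 24379), (25560, 25631), (25561, 25822), (25562, 26377), (25563, 26022), (25564, 26020), (25565, 25671), (25566, 25672), (25567, 24793), (25568, 25154), (25569, 24800), (25570, 24835), (25571, 25401), (25572, 24828), (25573, 25399), (25574, 24836), (25575, 24837), (25576, 26758), (25577, 24822), (25578, 24848), (25579, 24718), (25580, 26762), (25581, 25155), (25582, 25162), (25583, 25163), (25584, 26766), (25585, 25169), (25586, 26767), (25587, 26768), (25588, 24698), (25589, 25377), (25590, 25378), (25591, 26772), (25592, 25385), (25593, 24428), (25594, 24746), (25595, 24821), (25596, 24855), (25597, 24568), (25598,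 24569), (25599, 25057)]
    ⟨e3 q25536 L784459 q26726, e3 q25537 (flp_a L776183) q25805, e3 q25538 (flp_a L772839) q24361, e3 q25539 (flp_a L774092) q25642, e3 q25540 (flp_a L774102) q25643, e3 q25541 (flp_a L774114) q25644, e3 q25542 (flp_a L775354) q25737, e3 q25543 (flp_a L775366) q25738, e3 q25544 L784523 q26736, e3 q25545 (flp_a L775831) q25776, e3 q25546 L784543 q26739, e3 q25547 (flp_a L772891) q24368, e3 q25548 (flp_a L773915) q25629, e3 q25549 (flp_a L773927) q25630, e3 q25550 L784559 q26742, e3 q25551 (flp_a L774156) q25648, e3 q25552 (flp_a L774166) q25649, e3 q25553 (flp_a L772923) q24372, e3 q25554 (flp_a L784573) q26744, e3 q25555 (flp_a L780383) q26200, e3 q25556 L772941 q24376, e3 q25557 (flp_a L784583) q26746, e3 q25558 L784585 q26747, e3 q25559 (flp_a L772951) q24379, e3 q25560 (flp_a L773941) q25631, e3 q25561 (flp_a L776370) q25822, e3 q25562 (flp_a L782012) q26377, e3 q25563 (flp_a L778572) q26022, e3 q25564 (flp_a L778546) q26020, e3 q25565 (flp_a L774460) q25671, e3 q25566 (flp_a L774473) q25672, e3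 q25567 L773001 q24793, e3 q25568 L773017 q25154, e3 q25569 L773033 q24800, e3 q25570 L773050 q24835, e3 q25571 L773068 q25401, e3 q25572 L773084 q24828, e3 q25573 L773102 q25399, e3 q25574 L773118 q24836, e3 q25575 L773128 q24837, e3 q25576 L784737 q26758, e3 q25577 L773154 q24822, e3 q25578 L773172 q24848, e3 q25579 L773188 q24718, e3 q25580 L784798 q26762, e3 q25581 L773222 q25155, e3 q25582 L773240 q25162, e3 q25583 L773256 q25163, e3 q25584 L784866 q26766, e3 q25585 L773284 q25169, e3 q25586 L784880 q26767, e3 q25587 L784894 q26768, e3 q25588 L773333 q24698, e3 q25589 L773351 q25377, e3 q25590 L773365 q25378, e3 q25591 L784964 q26772, e3 q25592 L773395 q25385, e3 q25593 (flp_a L773403) q24428, e3 q25594 L773413 q24746, e3 q25595 L773431 q24821, e3 q25596 L773443 q24855, e3 q25597 L773457 q24568, e3 q25598 L773474 q24569, e3 q25599 L773490 q25057, trivial⟩ (by decide +kernel)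

theorem ce_a_400 : ∀ r, r < 64 → sm ga (Qf (25600 + r)) = Qf (tab Gen.a (25600 + r)) :=
  edges_tab (sm ga) Qf (tab Gen.a) 25600 [(25600, 25106), (25601, 25239), (25602, 24989), (25603, 25240), (25604, 25241), (25605, 24994), (25606, 25242), (25607, 24556), (25608, 24982), (25609, 25499), (25610, 25509), (25611, 25006), (25612, 25021), (25613, 25505), (25614, 25492), (25615, 25493), (25616, 25500), (25617, 25501), (25618, 25508), (25619, 25022), (25620, 25023), (25621, 26808), (25622, 25233), (25623, 25028), (25624, 25033), (25625, 25034), (25626, 25035), (25627, 25529), (25628, 25089), (25629, 25548), (25630, 25549), (25631, 25560), (25632, 25063), (25633, 25098), (25634, 25099), (25635, 26825), (25636, 24947), (25637, 25255), (25638, 25259), (25639, 24902), (25640, 25079), (25641, 25080), (25642, 25539), (25643, 25540), (25644, 25541), (25645, 25090), (25646, 25091), (25647, 26842), (25648, 25551), (25649, 25552), (25650, 25207), (25651, 26846), (25652, 25101), (25653, 24485), (25654, 25031), (25655, 25118), (25656, 25126),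 (25657, 25227), (25658, 25110), (25659, 25111), (25660, 25121), (25661, 25036), (25662, 25119), (25663, 25122)]
    ⟨e3 q25600 L773508 q25106, e3 q25601 L773522 q25239, e3 q25602 L773539 q24989, e3 q25603 L773556 q25240, e3 q25604 L773566 q25241, e3 q25605 L773579 q24994, e3 q25606 L773593 q25242, e3 q25607 L773605 q24556, e3 q25608 L773623 q24982, e3 q25609 L773640 q25499, e3 q25610 L773654 q25509, e3 q25611 L773669 q25006, e3 q25612 L773687 q25021, e3 q25613 L773699 q25505, e3 q25614 L773709 q25492, e3 q25615 L773726 q25493, e3 q25616 L773738 q25500, e3 q25617 L773750 q25501, e3 q25618 L773762 q25508, e3 q25619 L773777 q25022, e3 q25620 L773789 q25023, e3 q25621 L785461 q26808, e3 q25622 L773813 q25233, e3 q25623 L773828 q25028, e3 q25624 L773842 q25033, e3 q25625 L773857 q25034, e3 q25626 L773870 q25035, e3 q25627 L773885 q25529, e3 q25628 L773901 q25089, e3 q25629 L773915 q25548, e3 q25630 L773927 q25549, e3 q25631 L773941 q25560, e3 q25632 L773955 q25063, e3 q25633 L773969 q25098, e3 q25634 L773977 q25099, e3 q25635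 L785691 q26825, e3 q25636 L773999 q24947, e3 q25637 L774017 q25255, e3 q25638 L774031 q25259, e3 q25639 L774045 q24902, e3 q25640 L774061 q25079, e3 q25641 L774078 q25080, e3 q25642 L774092 q25539, e3 q25643 L774102 q25540, e3 q25644 L774114 q25541, e3 q25645 L774126 q25090, e3 q25646 L774138 q25091, e3 q25647 L785916 q26842, e3 q25648 L774156 q25551, e3 q25649 L774166 q25552, e3 q25650 L774174 q25207, e3 q25651 L785956 q26846, e3 q25652 L774200 q25101, e3 q25653 (flp_a L774208) q24485, e3 q25654 L774220 q25031, e3 q25655 L774235 q25118, e3 q25656 L774246 q25126, e3 q25657 L774261 q25227, e3 q25658 L774274 q25110, e3 q25659 L774287 q25111, e3 q25660 L774299 q25121, e3 q25661 L774313 q25036, e3 q25662 L774328 q25119, e3 q25663 L774343 q25122, trivial⟩ (by decide +kernel)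

theorem ce_a_401 : ∀ r, r < 64 → sm ga (Qf (25664 + r)) = Qf (tab Gen.a (25664 + r)) :=
  edges_tab (sm ga) Qf (tab Gen.a) 25664 [(25664, 25127), (25665, 24849), (25666, 25230), (25667, 25136), (25668, 25229), (25669, 24971), (25670, 24904), (25671, 25565), (25672, 25566), (25673, 24905), (25674, 24906), (25675, 24817), (25676, 24854), (25677, 24686), (25678, 24907), (25679, 24908), (25680, 24909), (25681, 24910), (25682, 24911), (25683, 24912), (25684, 24913), (25685, 24896), (25686, 24897), (25687, 26875), (25688, 24565), (25689, 24566), (25690, 24577), (25691, 24583), (25692, 24585), (25693, 24586), (25694, 24590), (25695, 24591), (25696, 26886), (25697, 24602), (25698, 24603), (25699, 26890), (25700, 26891), (25701, 24632), (25702, 24635), (25703, 24636), (25704, 24637), (25705, 26897), (25706, 24639), (25707, 24544), (25708, 24647), (25709, 24768), (25710, 24769), (25711, 25246), (25712, 25275), (25713, 25277), (25714, 25323), (25715, 24787), (25716, 25370), (25717, 26791), (25718, 24559), (25719, 24560), (25720, 26910),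 (25721, 26809), (25722, 26911), (25723, 25256), (25724, 25300), (25725, 25303), (25726, 25304), (25727, 25327)]
    ⟨e3 q25664 L774351 q25127, e3 q25665 L774368 q24849, e3 q25666 L774384 q25230, e3 q25667 L774400 q25136, e3 q25668 L774411 q25229, e3 q25669 L774428 q24971, e3 q25670 L774444 q24904, e3 q25671 L774460 q25565, e3 q25672 L774473 q25566, e3 q25673 L774486 q24905, e3 q25674 L774504 q24906, e3 q25675 L774520 q24817, e3 q25676 L774538 q24854, e3 q25677 L774554 q24686, e3 q25678 L774571 q24907, e3 q25679 L774587 q24908, e3 q25680 L774601 q24909, e3 q25681 L774616 q24910, e3 q25682 L774628 q24911, e3 q25683 L774644 q24912, e3 q25684 L774656 q24913, e3 q25685 L774670 q24896, e3 q25686 L774686 q24897, e3 q25687 L786374 q26875, e3 q25688 L774712 q24565, e3 q25689 L774728 q24566, e3 q25690 L774742 q24577, e3 q25691 L774756 q24583, e3 q25692 L774772 q24585, e3 q25693 L774786 q24586, e3 q25694 L774802 q24590, e3 q25695 L774816 q24591, e3 q25696 L786536 q26886, e3 q25697 L774840 q24602, e3 q25698 L774852 q24603, e3 q25699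 L786585 q26890, e3 q25700 L786599 q26891, e3 q25701 L774892 q24632, e3 q25702 L774908 q24635, e3 q25703 L774924 q24636, e3 q25704 L774938 q24637, e3 q25705 L786695 q26897, e3 q25706 L774964 q24639, e3 q25707 (flp_a L774976) q24544, e3 q25708 L774986 q24647, e3 q25709 L775004 q24768, e3 q25710 L775022 q24769, e3 q25711 L775036 q25246, e3 q25712 L775053 q25275, e3 q25713 L775070 q25277, e3 q25714 L775080 q25323, e3 q25715 L775093 q24787, e3 q25716 L775110 q25370, e3 q25717 (flp_a L785235) q26791, e3 q25718 L775134 q24559, e3 q25719 L775152 q24560, e3 q25720 (flp_a L786871) q26910, e3 q25721 (flp_a L785475) q26809, e3 q25722 (flp_a L786887) q26911, e3 q25723 L775193 q25256, e3 q25724 L775203 q25300, e3 q25725 L775213 q25303, e3 q25726 L775223 q25304, e3 q25727 L775233 q25327, trivial⟩ (by decide +kernel)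

theorem ce_a_402 : ∀ r, r < 64 → sm ga (Qf (25728 + r)) = Qf (tab Gen.a (25728 + r)) :=
  edges_tab (sm ga) Qf (tab Gen.a) 25728 [(25728, 26876), (25729, 26877), (25730, 26926), (25731, 24823), (25732, 26778), (25733, 26779), (25734, 25050), (25735, 25105), (25736, 25494), (25737, 25542), (25738, 25543), (25739, 25234), (25740, 24825), (25741, 25395), (25742, 25396), (25743, 26942), (25744, 25071), (25745, 25074), (25746, 25075), (25747, 24948), (25748, 25235), (25749, 26880), (25750, 26881), (25751, 24949), (25752, 26954), (25753, 26883), (25754, 25490), (25755, 25423), (25756, 25435), (25757, 25436), (25758, 26961), (25759, 26885), (25760, 24592), (25761, 24857), (25762, 25245), (25763, 25445), (25764, 25254), (25765, 24805), (25766, 24824), (25767, 26887), (25768, 26888), (25769, 26972), (25770, 24606), (25771, 24607), (25772, 26973), (25773, 26974), (25774, 24658), (25775, 26978), (25776, 25545), (25777, 25519), (25778, 25228), (25779, 24807), (25780, 24826), (25781, 24827), (25782, 26987), (25783, 25398), (25784, 24615),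 (25785, 24620), (25786, 24622), (25787, 24623), (25788, 25308), (25789, 26990), (25790, 26977), (25791, 25012)]
    ⟨e3 q25728 (flp_a L786386) q26876, e3 q25729 (flp_a L786402) q26877, e3 q25730 L787039 q26926, e3 q25731 L775272 q24823, e3 q25732 (flp_a L785051) q26778, e3 q25733 (flp_a L785067) q26779, e3 q25734 L775311 q25050, e3 q25735 L775325 q25105, e3 q25736 L775340 q25494, e3 q25737 L775354 q25542, e3 q25738 L775366 q25543, e3 q25739 L775376 q25234, e3 q25740 L775389 q24825, e3 q25741 L775401 q25395, e3 q25742 L775413 q25396, e3 q25743 L787241 q26942, e3 q25744 L775433 q25071, e3 q25745 L775449 q25074, e3 q25746 L775461 q25075, e3 q25747 L775475 q24948, e3 q25748 L775493 q25235, e3 q25749 (flp_a L786445) q26880, e3 q25750 (flp_a L786461) q26881, e3 q25751 L775522 q24949, e3 q25752 L787404 q26954, e3 q25753 (flp_a L786492) q26883, e3 q25754 L775554 q25490, e3 q25755 L775568 q25423, e3 q25756 L775584 q25435, e3 q25757 L775598 q25436, e3 q25758 L787496 q26961, e3 q25759 (flp_a L786522) q26885, e3 q25760 (flp_a L775626)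 q24592, e3 q25761 L775636 q24857, e3 q25762 L775651 q25245, e3 q25763 L775666 q25445, e3 q25764 L775683 q25254, e3 q25765 L775695 q24805, e3 q25766 L775712 q24824, e3 q25767 (flp_a L786548) q26887, e3 q25768 (flp_a L786562) q26888, e3 q25769 L787620 q26972, e3 q25770 L775749 q24606, e3 q25771 L775765 q24607, e3 q25772 (flp_a L787630) q26973, e3 q25773 (flp_a L787646) q26974, e3 q25774 L775803 q24658, e3 q25775 L787700 q26978, e3 q25776 L775831 q25545, e3 q25777 L775841 q25519, e3 q25778 L775853 q25228, e3 q25779 L775865 q24807, e3 q25780 L775879 q24826, e3 q25781 L775889 q24827, e3 q25782 L787812 q26987, e3 q25783 L775913 q25398, e3 q25784 (flp_a L775921) q24615, e3 q25785 L775929 q24620, e3 q25786 L775945 q24622, e3 q25787 L775957 q24623, e3 q25788 L775971 q25308, e3 q25789 (flp_a L787852) q26990, e3 q25790 (flp_a L787684) q26977, e3 q25791 L776011 q25012, trivial⟩ (by decide +kernel)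

theorem ce_a_403 : ∀ r, r < 64 → sm ga (Qf (25792 + r)) = Qf (tab Gen.a (25792 + r)) :=
  edges_tab (sm ga) Qf (tab Gen.a) 25792 [(25792, 26998), (25793, 26992), (25794, 25178), (25795, 25236), (25796, 25237), (25797, 27003), (25798, 25523), (25799, 25524), (25800, 25039), (25801, 25077), (25802, 27009), (25803, 24631), (25804, 27010), (25805, 25537), (25806, 25535), (25807, 26893), (25808, 26894), (25809, 27015), (25810, 26896), (25811, 24638), (25812, 27017), (25813, 25298), (25814, 24852), (25815, 24859), (25816, 25195), (25817, 25274), (25818, 25206), (25819, 25293), (25820, 25326), (25821, 25322), (25822, 25561), (25823, 24777), (25824, 25165), (25825, 24683), (25826, 24687), (25827, 24688), (25828, 24690), (25829, 24691), (25830, 24695), (25831, 24696), (25832, 24697), (25833, 24701), (25834, 24702), (25835, 24705), (25836, 24706), (25837, 27037), (25838, 25334), (25839, 25341), (25840, 25343), (25841, 25355), (25842, 25419), (25843, 25430), (25844, 27025), (25845, 24802), (25846, 25369), (25847, 26864), (25848, 27026),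 (25849, 27027), (25850, 24797), (25851, 25157), (25852, 27028), (25853, 27029), (25854, 27058), (25855, 25168)]
    ⟨e3 q25792 L787970 q26998, e3 q25793 (flp_a L787880) q26992, e3 q25794 L776043 q25178, e3 q25795 L776057 q25236, e3 q25796 L776071 q25237, e3 q25797 L788028 q27003, e3 q25798 L776097 q25523, e3 q25799 L776111 q25524, e3 q25800 L776125 q25039, e3 q25801 L776143 q25077, e3 q25802 L788122 q27009, e3 q25803 (flp_a L776169) q24631, e3 q25804 (flp_a L788138) q27010, e3 q25805 L776183 q25537, e3 q25806 L776191 q25535, e3 q25807 (flp_a L786633) q26893, e3 q25808 (flp_a L786649) q26894, e3 q25809 L788180 q27015, e3 q25810 (flp_a L786681) q26896, e3 q25811 (flp_a L776237) q24638, e3 q25812 (flp_a L788198) q27017, e3 q25813 L776251 q25298, e3 q25814 L776259 q24852, e3 q25815 L776277 q24859, e3 q25816 L776290 q25195, e3 q25817 L776308 q25274, e3 q25818 L776320 q25206, e3 q25819 L776332 q25293, e3 q25820 L776342 q25326, e3 q25821 L776353 q25322, e3 q25822 L776370 q25561, e3 q25823 L776388 q24777, e3 q25824 L776406 q25165,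 e3 q25825 L776422 q24683, e3 q25826 L776440 q24687, e3 q25827 L776454 q24688, e3 q25828 L776471 q24690, e3 q25829 L776487 q24691, e3 q25830 L776499 q24695, e3 q25831 L776516 q24696, e3 q25832 L776534 q24697, e3 q25833 L776548 q24701, e3 q25834 L776562 q24702, e3 q25835 L776578 q24705, e3 q25836 L776592 q24706, e3 q25837 L788476 q27037, e3 q25838 L776616 q25334, e3 q25839 L776633 q25341, e3 q25840 L776650 q25343, e3 q25841 L776658 q25355, e3 q25842 L776669 q25419, e3 q25843 L776683 q25430, e3 q25844 (flp_a L788296) q27025, e3 q25845 L776705 q24802, e3 q25846 L776721 q25369, e3 q25847 (flp_a L786211) q26864, e3 q25848 (flp_a L788314) q27026, e3 q25849 (flp_a L788328) q27027, e3 q25850 L776768 q24797, e3 q25851 L776785 q25157, e3 q25852 (flp_a L788344) q27028, e3 q25853 (flp_a L788360) q27029, e3 q25854 L788742 q27058, e3 q25855 L776823 q25168, trivial⟩ (by decide +kernel)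

theorem ce_a_404 : ∀ r, r < 64 → sm ga (Qf (25856 + r)) = Qf (tab Gen.a (25856 + r)) :=
  edges_tab (sm ga) Qf (tab Gen.a) 25856 [(25856, 24781), (25857, 27031), (25858, 27061), (25859, 26769), (25860, 25394), (25861, 24888), (25862, 24889), (25863, 27066), (25864, 27034), (25865, 24812), (25866, 25382), (25867, 25383), (25868, 27071), (25869, 27036), (25870, 24707), (25871, 24810), (25872, 25158), (25873, 25391), (25874, 24766), (25875, 24782), (25876, 24885), (25877, 25367), (25878, 25368), (25879, 27082), (25880, 24767), (25881, 24771), (25882, 24772), (25883, 24773), (25884, 24774), (25885, 24775), (25886, 24776), (25887, 24780), (25888, 24783), (25889, 24808), (25890, 24841), (25891, 24788), (25892, 24789), (25893, 24790), (25894, 24791), (25895, 24792), (25896, 24794), (25897, 24795), (25898, 27104), (25899, 24801), (25900, 24803), (25901, 24809), (25902, 24744), (25903, 24811), (25904, 27110), (25905, 27108), (25906, 26775), (25907, 24834), (25908, 25351), (25909, 24829), (25910, 24830), (25911, 27118), (25912, 24832),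 (25913, 24833), (25914, 27121), (25915, 24839), (25916, 24753), (25917, 24845), (25918, 24846), (25919, 24847)]
    ⟨e3 q25856 L776840 q24781, e3 q25857 (flp_a L788390) q27031, e3 q25858 L788786 q27061, e3 q25859 (flp_a L784916) q26769, e3 q25860 L776889 q25394, e3 q25861 L776903 q24888, e3 q25862 L776919 q24889, e3 q25863 L788850 q27066, e3 q25864 (flp_a L788432) q27034, e3 q25865 L776949 q24812, e3 q25866 L776963 q25382, e3 q25867 L776975 q25383, e3 q25868 L788906 q27071, e3 q25869 (flp_a L788462) q27036, e3 q25870 (flp_a L777003) q24707, e3 q25871 L777013 q24810, e3 q25872 L777027 q25158, e3 q25873 L777041 q25391, e3 q25874 L777051 q24766, e3 q25875 L777068 q24782, e3 q25876 L777082 q24885, e3 q25877 L777096 q25367, e3 q25878 L777106 q25368, e3 q25879 L789039 q27082, e3 q25880 L777124 q24767, e3 q25881 L777140 q24771, e3 q25882 L777157 q24772, e3 q25883 L777174 q24773, e3 q25884 L777186 q24774, e3 q25885 L777201 q24775, e3 q25886 L777215 q24776, e3 q25887 L777227 q24780, e3 q25888 L777243 q24783, e3 q25889 L777251 q24808,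 e3 q25890 L777265 q24841, e3 q25891 L777282 q24788, e3 q25892 L777294 q24789, e3 q25893 L777312 q24790, e3 q25894 L777322 q24791, e3 q25895 L777332 q24792, e3 q25896 L777349 q24794, e3 q25897 L777357 q24795, e3 q25898 L789315 q27104, e3 q25899 L777371 q24801, e3 q25900 L777388 q24803, e3 q25901 L777398 q24809, e3 q25902 L777406 q24744, e3 q25903 L777422 q24811, e3 q25904 L789379 q27110, e3 q25905 (flp_a L789355) q27108, e3 q25906 (flp_a L785004) q26775, e3 q25907 L777456 q24834, e3 q25908 L777474 q25351, e3 q25909 L777492 q24829, e3 q25910 L777500 q24830, e3 q25911 L789471 q27118, e3 q25912 L777516 q24832, e3 q25913 L777524 q24833, e3 q25914 L789495 q27121, e3 q25915 L777538 q24839, e3 q25916 (flp_a L777544) q24753, e3 q25917 L777554 q24845, e3 q25918 L777571 q24846, e3 q25919 L777588 q24847, trivial⟩ (by decide +kernel)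

theorem ce_a_405 : ∀ r, r < 64 → sm ga (Qf (25920 + r)) = Qf (tab Gen.a (25920 + r)) :=
  edges_tab (sm ga) Qf (tab Gen.a) 25920 [(25920, 24850), (25921, 25040), (25922, 25052), (25923, 25291), (25924, 27076), (25925, 27083), (25926, 26899), (25927, 26851), (25928, 26900), (25929, 25243), (25930, 27084), (25931, 27085), (25932, 27086), (25933, 27087), (25934, 27088), (25935, 27089), (25936, 27090), (25937, 27148), (25938, 27023), (25939, 24999), (25940, 25045), (25941, 27092), (25942, 27059), (25943, 27077), (25944, 27053), (25945, 27157), (25946, 25342), (25947, 25346), (25948, 25347), (25949, 25354), (25950, 26906), (25951, 27096), (25952, 27097), (25953, 27098), (25954, 25405), (25955, 27170), (25956, 27100), (25957, 27101), (25958, 26749), (25959, 26750), (25960, 27175), (25961, 27103), (25962, 24796), (25963, 27105), (25964, 27047), (25965, 27048), (25966, 27181), (25967, 24976), (25968, 26967), (25969, 25486), (25970, 26982), (25971, 26983), (25972, 27094), (25973, 27095), (25974, 27191), (25975, 27073), (25976, 27193),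 (25977, 27068), (25978, 24813), (25979, 24818), (25980, 24820), (25981, 25335), (25982, 26863), (25983, 27195)]
    ⟨e3 q25920 L777598 q24850, e3 q25921 L777611 q25040, e3 q25922 L777628 q25052, e3 q25923 L777645 q25291, e3 q25924 (flp_a L788960) q27076, e3 q25925 (flp_a L789049) q27083, e3 q25926 (flp_a L786721) q26899, e3 q25927 (flp_a L786018) q26851, e3 q25928 (flp_a L786737) q26900, e3 q25929 L777704 q25243, e3 q25930 (flp_a L789065) q27084, e3 q25931 (flp_a L789081) q27085, e3 q25932 (flp_a L789097) q27086, e3 q25933 (flp_a L789109) q27087, e3 q25934 (flp_a L789123) q27088, e3 q25935 (flp_a L789137) q27089, e3 q25936 (flp_a L789149) q27090, e3 q25937 L789775 q27148, e3 q25938 (flp_a L788262) q27023, e3 q25939 L777800 q24999, e3 q25940 L777817 q25045, e3 q25941 (flp_a L789176) q27092, e3 q25942 (flp_a L788752) q27059, e3 q25943 (flp_a L788976) q27077, e3 q25944 (flp_a L788680) q27053, e3 q25945 L789876 q27157, e3 q25946 L777873 q25342, e3 q25947 L777887 q25346, e3 q25948 L777901 q25347, e3 q25949 L777915 q25354, e3 q25950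 (flp_a L786818) q26906, e3 q25951 (flp_a L789228) q27096, e3 q25952 (flp_a L789240) q27097, e3 q25953 (flp_a L789251) q27098, e3 q25954 L777961 q25405, e3 q25955 L790009 q27170, e3 q25956 (flp_a L789277) q27100, e3 q25957 (flp_a L789287) q27101, e3 q25958 (flp_a L784597) q26749, e3 q25959 (flp_a L784613) q26750, e3 q25960 L790057 q27175, e3 q25961 (flp_a L789309) q27103, e3 q25962 (flp_a L778031) q24796, e3 q25963 (flp_a L789325) q27105, e3 q25964 (flp_a L788603) q27047, e3 q25965 (flp_a L788619) q27048, e3 q25966 L790102 q27181, e3 q25967 L778073 q24976, e3 q25968 (flp_a L787565) q26967, e3 q25969 L778100 q25486, e3 q25970 (flp_a L787748) q26982, e3 q25971 (flp_a L787762) q26983, e3 q25972 (flp_a L789198) q27094, e3 q25973 (flp_a L789212) q27095, e3 q25974 L790205 q27191, e3 q25975 (flp_a L788922) q27073, e3 q25976 L790221 q27193, e3 q25977 (flp_a L788866) q27068, e3 q25978 (flp_a L778176) q24813, e3 q25979 L778184 q24818, e3 q25980 L778198 q24820, e3 q25981 L778212 q25335, e3 q25982 (flp_a L786195) q26863, e3 q25983 (flp_a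 L790243) q27195, trivial⟩ (by decide +kernel)

theorem ce_a_406 : ∀ r, r < 64 → sm ga (Qf (25984 + r)) = Qf (tab Gen.a (25984 + r)) :=
  edges_tab (sm ga) Qf (tab Gen.a) 25984 [(25984, 26776), (25985, 25336), (25986, 25337), (25987, 27207), (25988, 26774), (25989, 26759), (25990, 26927), (25991, 26968), (25992, 26969), (25993, 26938), (25994, 26939), (25995, 27218), (25996, 26985), (25997, 26986), (25998, 26754), (25999, 25375), (26000, 27225), (26001, 27116), (26002, 27117), (26003, 24831), (26004, 27229), (26005, 27120), (26006, 27114), (26007, 26752), (26008, 27233), (26009, 26757), (26010, 24838), (26011, 27235), (26012, 27123), (26013, 25338), (26014, 27124), (26015, 27125), (26016, 26760), (26017, 25130), (26018, 26853), (26019, 27126), (26020, 25564), (26021, 26777), (26022, 25563), (26023, 26964), (26024, 25472), (26025, 25134), (26026, 25316), (26027, 25309), (26028, 25310), (26029, 27249), (26030, 24886), (26031, 27251), (26032, 27252), (26033, 24899), (26034, 24869), (26035, 25425), (26036, 25426), (26037, 25344),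 (26038, 25345), (26039, 25356), (26040, 25438), (26041, 25439), (26042, 27262), (26043, 25417), (26044, 25418), (26045, 25427), (26046, 25428), (26047, 27268)]
    ⟨e3 q25984 (flp_a L785022) q26776, e3 q25985 L778256 q25336, e3 q25986 L778268 q25337, e3 q25987 L790388 q27207, e3 q25988 (flp_a L784990) q26774, e3 q25989 (flp_a L784751) q26759, e3 q25990 (flp_a L787051) q26927, e3 q25991 (flp_a L787581) q26968, e3 q25992 (flp_a L787593) q26969, e3 q25993 (flp_a L787195) q26938, e3 q25994 (flp_a L787207) q26939, e3 q25995 L790476 q27218, e3 q25996 (flp_a L787790) q26985, e3 q25997 (flp_a L787802) q26986, e3 q25998 (flp_a L784681) q26754, e3 q25999 L778375 q25375, e3 q26000 L790542 q27225, e3 q26001 (flp_a L789447) q27116, e3 q26002 (flp_a L789457) q27117, e3 q26003 (flp_a L778401) q24831, e3 q26004 (flp_a L790566) q27229, e3 q26005 (flp_a L789487) q27120, e3 q26006 (flp_a L789425) q27114, e3 q26007 (flp_a L784647) q26752, e3 q26008 L790590 q27233, e3 q26009 (flp_a L784725) q26757, e3 q26010 (flp_a L778455) q24838, e3 q26011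 (flp_a L790612) q27235, e3 q26012 (flp_a L789511) q27123, e3 q26013 L778473 q25338, e3 q26014 (flp_a L789521) q27124, e3 q26015 (flp_a L789537) q27125, e3 q26016 (flp_a L784767) q26760, e3 q26017 L778511 q25130, e3 q26018 (flp_a L786050) q26853, e3 q26019 (flp_a L789549) q27126, e3 q26020 L778546 q25564, e3 q26021 (flp_a L785036) q26777, e3 q26022 L778572 q25563, e3 q26023 (flp_a L787526) q26964, e3 q26024 L778591 q25472, e3 q26025 L778603 q25134, e3 q26026 L778616 q25316, e3 q26027 L778626 q25309, e3 q26028 L778640 q25310, e3 q26029 L790756 q27249, e3 q26030 L778666 q24886, e3 q26031 L790780 q27251, e3 q26032 L790792 q27252, e3 q26033 L778698 q24899, e3 q26034 (flp_a L778706) q24869, e3 q26035 L778720 q25425, e3 q26036 L778730 q25426, e3 q26037 L778740 q25344, e3 q26038 L778750 q25345, e3 q26039 L778760 q25356, e3 q26040 L778771 q25438, e3 q26041 L778779 q25439, e3 q26042 L790887 q27262, e3 q26043 L778796 q25417, e3 q26044 L778810 q25418, e3 q26045 L778824 q25427, e3 q26046 L778836 q25428, e3 q26047 L790962 q27268, trivial⟩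 (by decide +kernel)

theorem ce_a_407 : ∀ r, r < 64 → sm ga (Qf (26048 + r)) = Qf (tab Gen.a (26048 + r)) :=
  edges_tab (sm ga) Qf (tab Gen.a) 26048 [(26048, 27269), (26049, 25442), (26050, 24882), (26051, 25413), (26052, 27078), (26053, 27079), (26054, 27274), (26055, 27275), (26056, 27276), (26057, 27065), (26058, 24890), (26059, 27278), (26060, 27279), (26061, 27280), (26062, 24894), (26063, 25389), (26064, 25390), (26065, 27283), (26066, 26874), (26067, 24898), (26068, 27285), (26069, 26830), (26070, 26828), (26071, 26859), (26072, 26861), (26073, 27290), (26074, 26865), (26075, 26866), (26076, 26867), (26077, 27294), (26078, 26869), (26079, 26870), (26080, 27297), (26081, 26872), (26082, 24914), (26083, 24977), (26084, 24978), (26085, 24990), (26086, 24991), (26087, 24992), (26088, 24993), (26089, 24995), (26090, 24996), (26091, 27310), (26092, 25000), (26093, 25001), (26094, 25007), (26095, 25008), (26096, 25009), (26097, 27318), (26098, 27319), (26099, 25025), (26100, 24929), (26101, 25029), (26102, 25030), (26103,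 25032), (26104, 25037), (26105, 25041), (26106, 25042), (26107, 25046), (26108, 25047), (26109, 27331), (26110, 25054), (26111, 25056)]
    ⟨e3 q26048 L790974 q27269, e3 q26049 L778866 q25442, e3 q26050 (flp_a L778876) q24882, e3 q26051 L778890 q25413, e3 q26052 (flp_a L788990) q27078, e3 q26053 (flp_a L789006) q27079, e3 q26054 L791030 q27274, e3 q26055 L791038 q27275, e3 q26056 L791056 q27276, e3 q26057 (flp_a L788834) q27065, e3 q26058 (flp_a L778965) q24890, e3 q26059 L791074 q27278, e3 q26060 L791092 q27279, e3 q26061 L791110 q27280, e3 q26062 (flp_a L779019) q24894, e3 q26063 L779033 q25389, e3 q26064 L779043 q25390, e3 q26065 L791148 q27283, e3 q26066 (flp_a L786358) q26874, e3 q26067 (flp_a L779067) q24898, e3 q26068 (flp_a L791166) q27285, e3 q26069 (flp_a L785763) q26830, e3 q26070 (flp_a L785733) q26828, e3 q26071 (flp_a L786130) q26859, e3 q26072 (flp_a L786161) q26861, e3 q26073 L791224 q27290, e3 q26074 (flp_a L786227) q26865, e3 q26075 (flp_a L786241) q26866, e3 q26076 (flp_a L786255) q26867, e3 q26077 L791262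 q27294, e3 q26078 (flp_a L786283) q26869, e3 q26079 (flp_a L786299) q26870, e3 q26080 L791290 q27297, e3 q26081 (flp_a L786328) q26872, e3 q26082 (flp_a L779203) q24914, e3 q26083 L779211 q24977, e3 q26084 L779223 q24978, e3 q26085 L779237 q24990, e3 q26086 L779249 q24991, e3 q26087 L779261 q24992, e3 q26088 L779275 q24993, e3 q26089 L779288 q24995, e3 q26090 L779296 q24996, e3 q26091 L791433 q27310, e3 q26092 L779313 q25000, e3 q26093 L779327 q25001, e3 q26094 L779343 q25007, e3 q26095 L779351 q25008, e3 q26096 L779363 q25009, e3 q26097 L791530 q27318, e3 q26098 L791542 q27319, e3 q26099 L779393 q25025, e3 q26100 (flp_a L779401) q24929, e3 q26101 L779415 q25029, e3 q26102 L779427 q25030, e3 q26103 L779436 q25032, e3 q26104 L779449 q25037, e3 q26105 L779459 q25041, e3 q26106 L779473 q25042, e3 q26107 L779487 q25046, e3 q26108 L779495 q25047, e3 q26109 L791671 q27331, e3 q26110 L779508 q25054, e3 q26111 L779522 q25056, trivial⟩ (by decide +kernel)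

theorem ce_a_408 : ∀ r, r < 64 → sm ga (Qf (26112 + r)) = Qf (tab Gen.a (26112 + r)) :=
  edges_tab (sm ga) Qf (tab Gen.a) 26112 [(26112, 25058), (26113, 25059), (26114, 25060), (26115, 27339), (26116, 25064), (26117, 25065), (26118, 27343), (26119, 25067), (26120, 24946), (26121, 26826), (26122, 26947), (26123, 27348), (26124, 25081), (26125, 25082), (26126, 25083), (26127, 25084), (26128, 27354), (26129, 27355), (26130, 25093), (26131, 24956), (26132, 24957), (26133, 27358), (26134, 25104), (26135, 25107), (26136, 25108), (26137, 25109), (26138, 25113), (26139, 25114), (26140, 25117), (26141, 25120), (26142, 25125), (26143, 25131), (26144, 25140), (26145, 25424), (26146, 25204), (26147, 25290), (26148, 25292), (26149, 27182), (26150, 27299), (26151, 27300), (26152, 27375), (26153, 24983), (26154, 24984), (26155, 24985), (26156, 25194), (26157, 26792), (26158, 27376), (26159, 27377), (26160, 27378), (26161, 27379), (26162, 25272), (26163, 25244), (26164, 25273), (26165, 26784), (26166, 27302), (26167, 27303), (26168, 27398),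 (26169, 27305), (26170, 27306), (26171, 27307), (26172, 26788), (26173, 26789), (26174, 27404), (26175, 27309)]
    ⟨e3 q26112 L779534 q25058, e3 q26113 L779544 q25059, e3 q26114 L779556 q25060, e3 q26115 L791764 q27339, e3 q26116 L779582 q25064, e3 q26117 L779588 q25065, e3 q26118 L791800 q27343, e3 q26119 L779602 q25067, e3 q26120 (flp_a L779608) q24946, e3 q26121 (flp_a L785703) q26826, e3 q26122 (flp_a L787310) q26947, e3 q26123 L791852 q27348, e3 q26124 L779654 q25081, e3 q26125 L779668 q25082, e3 q26126 L779676 q25083, e3 q26127 L779685 q25084, e3 q26128 L791921 q27354, e3 q26129 L791931 q27355, e3 q26130 L779715 q25093, e3 q26131 (flp_a L779723) q24956, e3 q26132 (flp_a L779735) q24957, e3 q26133 (flp_a L791963) q27358, e3 q26134 L779747 q25104, e3 q26135 L779753 q25107, e3 q26136 L779765 q25108, e3 q26137 L779776 q25109, e3 q26138 L779789 q25113, e3 q26139 L779799 q25114, e3 q26140 L779808 q25117, e3 q26141 L779816 q25120, e3 q26142 L779826 q25125, e3 q26143 L779832 q25131, e3 q26144 L779848 q25140, e3 q26145 L779854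 q25424, e3 q26146 L779866 q25204, e3 q26147 L779880 q25290, e3 q26148 L779894 q25292, e3 q26149 (flp_a L790112) q27182, e3 q26150 (flp_a L791304) q27299, e3 q26151 (flp_a L791316) q27300, e3 q26152 L792113 q27375, e3 q26153 L779933 q24983, e3 q26154 L779945 q24984, e3 q26155 L779958 q24985, e3 q26156 L779970 q25194, e3 q26157 (flp_a L785253) q26792, e3 q26158 (flp_a L792121) q27376, e3 q26159 (flp_a L792131) q27377, e3 q26160 (flp_a L792145) q27378, e3 q26161 (flp_a L792159) q27379, e3 q26162 L780023 q25272, e3 q26163 L780037 q25244, e3 q26164 L780051 q25273, e3 q26165 (flp_a L785144) q26784, e3 q26166 (flp_a L791343) q27302, e3 q26167 (flp_a L791355) q27303, e3 q26168 L792335 q27398, e3 q26169 (flp_a L791378) q27305, e3 q26170 (flp_a L791392) q27306, e3 q26171 (flp_a L791404) q27307, e3 q26172 (flp_a L785196) q26788, e3 q26173 (flp_a L785208) q26789, e3 q26174 L792379 q27404, e3 q26175 (flp_a L791425) q27309, trivial⟩ (by decide +kernel)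

theorem ce_a_409 : ∀ r, r < 64 → sm ga (Qf (26176 + r)) = Qf (tab Gen.a (26176 + r)) :=
  edges_tab (sm ga) Qf (tab Gen.a) 26176 [(26176, 24997), (26177, 25072), (26178, 27150), (26179, 27311), (26180, 27312), (26181, 27412), (26182, 25459), (26183, 25528), (26184, 25527), (26185, 27416), (26186, 26796), (26187, 27314), (26188, 27315), (26189, 27422), (26190, 27317), (26191, 25010), (26192, 25455), (26193, 27426), (26194, 25232), (26195, 25518), (26196, 25481), (26197, 27430), (26198, 25205), (26199, 27432), (26200, 25555), (26201, 25020), (26202, 26797), (26203, 26798), (26204, 27436), (26205, 26807), (26206, 25024), (26207, 27439), (26208, 27321), (26209, 26810), (26210, 26811), (26211, 26781), (26212, 27322), (26213, 27323), (26214, 26849), (26215, 27324), (26216, 26812), (26217, 26813), (26218, 26855), (26219, 27325), (26220, 25482), (26221, 27007), (26222, 27127), (26223, 27326), (26224, 27327), (26225, 27459), (26226, 25477), (26227, 25476), (26228, 27151), (26229, 27152), (26230, 27464), (26231, 27330), (26232, 25048),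 (26233, 25051), (26234, 26931), (26235, 26932), (26236, 27470), (26237, 27128), (26238, 25487), (26239, 27332)]
    ⟨e3 q26176 (flp_a L780136) q24997, e3 q26177 L780144 q25072, e3 q26178 (flp_a L789801) q27150, e3 q26179 (flp_a L791445) q27311, e3 q26180 (flp_a L791459) q27312, e3 q26181 L792445 q27412, e3 q26182 L780193 q25459, e3 q26183 L780205 q25528, e3 q26184 L780221 q25527, e3 q26185 L792493 q27416, e3 q26186 (flp_a L785312) q26796, e3 q26187 (flp_a L791490) q27314, e3 q26188 (flp_a L791500) q27315, e3 q26189 L792549 q27422, e3 q26190 (flp_a L791520) q27317, e3 q26191 (flp_a L780285) q25010, e3 q26192 L780293 q25455, e3 q26193 L792589 q27426, e3 q26194 L780315 q25232, e3 q26195 L780329 q25518, e3 q26196 L780339 q25481, e3 q26197 L792633 q27430, e3 q26198 L780363 q25205, e3 q26199 L792657 q27432, e3 q26200 L780383 q25555, e3 q26201 (flp_a L780393) q25020, e3 q26202 (flp_a L785328) q26797, e3 q26203 (flp_a L785340) q26798, e3 q26204 L792695 q27436, e3 q26205 (flp_a L785451) q26807, e3 q26206 (flp_a L780439) q25024, e3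 q26207 (flp_a L792725) q27439, e3 q26208 (flp_a L791562) q27321, e3 q26209 (flp_a L785491) q26810, e3 q26210 (flp_a L785507) q26811, e3 q26211 (flp_a L785099) q26781, e3 q26212 (flp_a L791574) q27322, e3 q26213 (flp_a L791585) q27323, e3 q26214 (flp_a L785988) q26849, e3 q26215 (flp_a L791595) q27324, e3 q26216 (flp_a L785520) q26812, e3 q26217 (flp_a L785535) q26813, e3 q26218 (flp_a L786077) q26855, e3 q26219 (flp_a L791607) q27325, e3 q26220 L780584 q25482, e3 q26221 (flp_a L788090) q27007, e3 q26222 (flp_a L789563) q27127, e3 q26223 (flp_a L791616) q27326, e3 q26224 (flp_a L791630) q27327, e3 q26225 L792937 q27459, e3 q26226 L780641 q25477, e3 q26227 L780657 q25476, e3 q26228 (flp_a L789817) q27151, e3 q26229 (flp_a L789829) q27152, e3 q26230 L792989 q27464, e3 q26231 (flp_a L791665) q27330, e3 q26232 (flp_a L780694) q25048, e3 q26233 L780702 q25051, e3 q26234 (flp_a L787102) q26931, e3 q26235 (flp_a L787116) q26932, e3 q26236 L793034 q27470, e3 q26237 (flp_a L789579) q27128, e3 q26238 L780748 q25487, e3 q26239 (flp_a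 L791681) q27332, trivial⟩ (by decide +kernel)

theorem ce_a_410 : ∀ r, r < 64 → sm ga (Qf (26240 + r)) = Qf (tab Gen.a (26240 + r)) :=
  edges_tab (sm ga) Qf (tab Gen.a) 26240 [(26240, 27333), (26241, 25488), (26242, 27477), (26243, 26780), (26244, 27335), (26245, 27336), (26246, 27483), (26247, 27338), (26248, 25061), (26249, 27486), (26250, 26821), (26251, 26822), (26252, 27489), (26253, 27341), (26254, 27342), (26255, 25066), (26256, 27493), (26257, 27345), (26258, 27496), (26259, 25251), (26260, 26943), (26261, 26944), (26262, 27500), (26263, 25253), (26264, 27502), (26265, 26946), (26266, 25076), (26267, 27504), (26268, 25265), (26269, 26831), (26270, 26832), (26271, 26833), (26272, 27349), (26273, 27350), (26274, 27514), (26275, 27352), (26276, 25496), (26277, 27518), (26278, 25497), (26279, 25086), (26280, 27521), (26281, 25471), (26282, 25495), (26283, 26815), (26284, 26816), (26285, 27528), (26286, 26840), (26287, 26841), (26288, 25092), (26289, 27531), (26290, 27357), (26291, 25503), (26292, 25096), (26293, 27535),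 (26294, 27536), (26295, 26824), (26296, 25100), (26297, 27539), (26298, 26848), (26299, 25103), (26300, 27542), (26301, 27360), (26302, 26782), (26303, 27361)]
    ⟨e3 q26240 (flp_a L791693) q27333, e3 q26241 L780779 q25488, e3 q26242 L793103 q27477, e3 q26243 (flp_a L785083) q26780, e3 q26244 (flp_a L791720) q27335, e3 q26245 (flp_a L791730) q27336, e3 q26246 L793153 q27483, e3 q26247 (flp_a L791754) q27338, e3 q26248 (flp_a L780831) q25061, e3 q26249 (flp_a L793181) q27486, e3 q26250 (flp_a L785647) q26821, e3 q26251 (flp_a L785659) q26822, e3 q26252 L793207 q27489, e3 q26253 (flp_a L791784) q27341, e3 q26254 (flp_a L791792) q27342, e3 q26255 (flp_a L780877) q25066, e3 q26256 (flp_a L793229) q27493, e3 q26257 (flp_a L791816) q27345, e3 q26258 L793249 q27496, e3 q26259 L780903 q25251, e3 q26260 (flp_a L787251) q26943, e3 q26261 (flp_a L787267) q26944, e3 q26262 L793281 q27500, e3 q26263 L780940 q25253, e3 q26264 L793303 q27502, e3 q26265 (flp_a L787296) q26946, e3 q26266 (flp_a L780960) q25076, e3 q26267 (flp_a L793317)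 q27504, e3 q26268 L780980 q25265, e3 q26269 (flp_a L785779) q26831, e3 q26270 (flp_a L785795) q26832, e3 q26271 (flp_a L785809) q26833, e3 q26272 (flp_a L791866) q27349, e3 q26273 (flp_a L791878) q27350, e3 q26274 L793398 q27514, e3 q26275 (flp_a L791899) q27352, e3 q26276 L781036 q25496, e3 q26277 L793423 q27518, e3 q26278 L781053 q25497, e3 q26279 (flp_a L781063) q25086, e3 q26280 (flp_a L793453) q27521, e3 q26281 L781081 q25471, e3 q26282 L781091 q25495, e3 q26283 (flp_a L785565) q26815, e3 q26284 (flp_a L785579) q26816, e3 q26285 L793517 q27528, e3 q26286 (flp_a L785894) q26840, e3 q26287 (flp_a L785904) q26841, e3 q26288 (flp_a L781131) q25092, e3 q26289 (flp_a L793541) q27531, e3 q26290 (flp_a L791951) q27357, e3 q26291 L781153 q25503, e3 q26292 L781165 q25096, e3 q26293 (flp_a L793573) q27535, e3 q26294 L793581 q27536, e3 q26295 (flp_a L785681) q26824, e3 q26296 (flp_a L781199) q25100, e3 q26297 (flp_a L793607) q27539, e3 q26298 (flp_a L785978) q26848, e3 q26299 L781221 q25103, e3 q26300 (flp_a L793631) q27542, e3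 q26301 (flp_a L791973) q27360, e3 q26302 (flp_a L785115) q26782, e3 q26303 (flp_a L791979) q27361, trivial⟩ (by decide +kernel)

theorem ce_a_411 : ∀ r, r < 64 → sm ga (Qf (26304 + r)) = Qf (tab Gen.a (26304 + r)) :=
  edges_tab (sm ga) Qf (tab Gen.a) 26304 [(26304, 26923), (26305, 27362), (26306, 26852), (26307, 25112), (26308, 27551), (26309, 27363), (26310, 25116), (26311, 27554), (26312, 27245), (26313, 26850), (26314, 27364), (26315, 26854), (26316, 26856), (26317, 25124), (26318, 27560), (26319, 27561), (26320, 27365), (26321, 25129), (26322, 27563), (26323, 27564), (26324, 27241), (26325, 25133), (26326, 27566), (26327, 27244), (26328, 26858), (26329, 25138), (26330, 25139), (26331, 27567), (26332, 25470), (26333, 25247), (26334, 25146), (26335, 25147), (26336, 27570), (26337, 25149), (26338, 27571), (26339, 27572), (26340, 25152), (26341, 25153), (26342, 27573), (26343, 27574), (26344, 25156), (26345, 27054), (26346, 27055), (26347, 27577), (26348, 25513), (26349, 25514), (26350, 27580), (26351, 25379), (26352, 25380),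 (26353, 27583), (26354, 26765), (26355, 25164), (26356, 27585), (26357, 25166), (26358, 25248), (26359, 25249), (26360, 27588), (26361, 27589), (26362, 25174), (26363, 25175), (26364, 25177), (26365, 27591), (26366, 27000), (26367, 25179)]
    ⟨e3 q26304 (flp_a L787007) q26923, e3 q26305 (flp_a L791990) q27362, e3 q26306 (flp_a L786034) q26852, e3 q26307 (flp_a L781283) q25112, e3 q26308 (flp_a L793694) q27551, e3 q26309 (flp_a L792002) q27363, e3 q26310 L781314 q25116, e3 q26311 (flp_a L793722) q27554, e3 q26312 (flp_a L790706) q27245, e3 q26313 (flp_a L786003) q26850, e3 q26314 (flp_a L792008) q27364, e3 q26315 (flp_a L786065) q26854, e3 q26316 (flp_a L786091) q26856, e3 q26317 L781380 q25124, e3 q26318 (flp_a L793775) q27560, e3 q26319 (flp_a L793785) q27561, e3 q26320 (flp_a L792017) q27365, e3 q26321 L781406 q25129, e3 q26322 (flp_a L793803) q27563, e3 q26323 (flp_a L793819) q27564, e3 q26324 (flp_a L790653) q27241, e3 q26325 L781452 q25133, e3 q26326 (flp_a L793841) q27566, e3 q26327 (flp_a L790692) q27244, e3 q26328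 (flp_a L786118) q26858, e3 q26329 L781491 q25138, e3 q26330 L781503 q25139, e3 q26331 (flp_a L793852) q27567, e3 q26332 L781523 q25470, e3 q26333 L781533 q25247, e3 q26334 L781545 q25146, e3 q26335 L781558 q25147, e3 q26336 L793878 q27570, e3 q26337 (flp_a L781582) q25149, e3 q26338 L793894 q27571, e3 q26339 L793910 q27572, e3 q26340 (flp_a L781622) q25152, e3 q26341 (flp_a L781630) q25153, e3 q26342 L793926 q27573, e3 q26343 L793938 q27574, e3 q26344 (flp_a L781664) q25156, e3 q26345 (flp_a L788696) q27054, e3 q26346 (flp_a L788712) q27055, e3 q26347 L793974 q27577, e3 q26348 L781716 q25513, e3 q26349 L781730 q25514, e3 q26350 L794014 q27580, e3 q26351 L781757 q25379, e3 q26352 L781771 q25380, e3 q26353 L794054 q27583, e3 q26354 (flp_a L784852) q26765, e3 q26355 (flp_a L781799) q25164, e3 q26356 L794072 q27585, e3 q26357 (flp_a L781813) q25166, e3 q26358 L781827 q25248, e3 q26359 L781839 q25249, e3 q26360 L794104 q27588, e3 q26361 L794120 q27589, e3 q26362 (flp_a L781875) q25174, e3 q26363 (flp_a L781887) q25175, e3 q26364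 L781901 q25177, e3 q26365 L794148 q27591, e3 q26366 (flp_a L787988) q27000, e3 q26367 (flp_a L781923) q25179, trivial⟩ (by decide +kernel)

theorem ce_a_412 : ∀ r, r < 64 → sm ga (Qf (26368 + r)) = Qf (tab Gen.a (26368 + r)) :=
  edges_tab (sm ga) Qf (tab Gen.a) 26368 [(26368, 27593), (26369, 27594), (26370, 25183), (26371, 25257), (26372, 25258), (26373, 27597), (26374, 25261), (26375, 25187), (26376, 25466), (26377, 25562), (26378, 25266), (26379, 25267), (26380, 25268), (26381, 25269), (26382, 25270), (26383, 27606), (26384, 27380), (26385, 27020), (26386, 25469), (26387, 25276), (26388, 25278), (26389, 25279), (26390, 25280), (26391, 25281), (26392, 27617), (26393, 25283), (26394, 25284), (26395, 25285), (26396, 27621), (26397, 25203), (26398, 27367), (26399, 26981), (26400, 27625), (26401, 27021), (26402, 26845), (26403, 25301), (26404, 25302), (26405, 27630), (26406, 25306), (26407, 25307), (26408, 27633), (26409, 25312), (26410, 25213), (26411, 27635), (26412, 25315), (26413, 25216), (26414, 25324), (26415, 25325),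 (26416, 26820), (26417, 26857), (26418, 27427), (26419, 26937), (26420, 26795), (26421, 26948), (26422, 26949), (26423, 27644), (26424, 27002), (26425, 25238), (26426, 26783), (26427, 26785), (26428, 26786), (26429, 26787), (26430, 27651), (26431, 27137)]
    ⟨e3 q26368 (flp_a L794164) q27593, e3 q26369 L794170 q27594, e3 q26370 (flp_a L781951) q25183, e3 q26371 L781963 q25257, e3 q26372 L781969 q25258, e3 q26373 L794198 q27597, e3 q26374 L781982 q25261, e3 q26375 (flp_a L781990) q25187, e3 q26376 L782000 q25466, e3 q26377 L782012 q25562, e3 q26378 L782024 q25266, e3 q26379 L782036 q25267, e3 q26380 L782048 q25268, e3 q26381 L782059 q25269, e3 q26382 L782065 q25270, e3 q26383 L794284 q27606, e3 q26384 (flp_a L792170) q27380, e3 q26385 (flp_a L788220) q27020, e3 q26386 L782090 q25469, e3 q26387 L782104 q25276, e3 q26388 L782114 q25278, e3 q26389 L782126 q25279, e3 q26390 L782138 q25280, e3 q26391 L782150 q25281, e3 q26392 L794391 q27617, e3 q26393 L782166 q25283, e3 q26394 L782176 q25284, e3 q26395 L782184 q25285, e3 q26396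 L794423 q27621, e3 q26397 (flp_a L782206) q25203, e3 q26398 (flp_a L792035) q27367, e3 q26399 (flp_a L787734) q26981, e3 q26400 L794465 q27625, e3 q26401 (flp_a L788238) q27021, e3 q26402 (flp_a L785942) q26845, e3 q26403 L782252 q25301, e3 q26404 L782264 q25302, e3 q26405 L794507 q27630, e3 q26406 L782281 q25306, e3 q26407 L782291 q25307, e3 q26408 L794533 q27633, e3 q26409 L782305 q25312, e3 q26410 (flp_a L782311) q25213, e3 q26411 (flp_a L794549) q27635, e3 q26412 L782325 q25315, e3 q26413 (flp_a L782331) q25216, e3 q26414 L782343 q25324, e3 q26415 L782354 q25325, e3 q26416 (flp_a L785631) q26820, e3 q26417 (flp_a L786103) q26857, e3 q26418 (flp_a L792601) q27427, e3 q26419 (flp_a L787179) q26937, e3 q26420 (flp_a L785297) q26795, e3 q26421 (flp_a L787326) q26948, e3 q26422 (flp_a L787342) q26949, e3 q26423 L794626 q27644, e3 q26424 (flp_a L788014) q27002, e3 q26425 (flp_a L782449) q25238, e3 q26426 (flp_a L785128) q26783, e3 q26427 (flp_a L785160) q26785, e3 q26428 (flp_a L785172) q26786, e3 q26429 (flp_a L785184) q26787,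 e3 q26430 L794683 q27651, e3 q26431 (flp_a L789675) q27137, trivial⟩ (by decide +kernel)

theorem ce_a_413 : ∀ r, r < 64 → sm ga (Qf (26432 + r)) = Qf (tab Gen.a (26432 + r)) :=
  edges_tab (sm ga) Qf (tab Gen.a) 26432 [(26432, 27391), (26433, 26965), (26434, 26901), (26435, 27524), (26436, 27569), (26437, 27660), (26438, 27587), (26439, 25250), (26440, 27497), (26441, 26966), (26442, 25534), (26443, 27665), (26444, 26963), (26445, 26827), (26446, 26916), (26447, 26917), (26448, 27670), (26449, 27596), (26450, 27673), (26451, 25260), (26452, 27674), (26453, 27675), (26454, 25263), (26455, 27505), (26456, 27506), (26457, 27679), (26458, 27602), (26459, 27603), (26460, 27682), (26461, 27605), (26462, 25271), (26463, 27389), (26464, 27390), (26465, 27687), (26466, 26989), (26467, 26902), (26468, 27610), (26469, 27611), (26470, 26903), (26471, 26904), (26472, 27696), (26473, 27613), (26474, 27614), (26475, 27700), (26476, 27616), (26477, 25282), (26478, 27702), (26479, 27619), (26480, 27620), (26481, 25286), (26482, 25295), (26483,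 25296), (26484, 27707), (26485, 27368), (26486, 27369), (26487, 27129), (26488, 27022), (26489, 27712), (26490, 27019), (26491, 25489), (26492, 27715), (26493, 27706), (26494, 25297), (26495, 27717)]
    ⟨e3 q26432 (flp_a L792281) q27391, e3 q26433 (flp_a L787540) q26965, e3 q26434 (flp_a L786750) q26901, e3 q26435 (flp_a L793483) q27524, e3 q26436 (flp_a L793869) q27569, e3 q26437 L794771 q27660, e3 q26438 (flp_a L794094) q27587, e3 q26439 (flp_a L782576) q25250, e3 q26440 (flp_a L793257) q27497, e3 q26441 (flp_a L787554) q26966, e3 q26442 L782601 q25534, e3 q26443 L794815 q27665, e3 q26444 (flp_a L787514) q26963, e3 q26445 (flp_a L785719) q26827, e3 q26446 (flp_a L786937) q26916, e3 q26447 (flp_a L786949) q26917, e3 q26448 L794855 q27670, e3 q26449 (flp_a L794192) q27596, e3 q26450 L794868 q27673, e3 q26451 (flp_a L782670) q25260, e3 q26452 (flp_a L794880) q27674, e3 q26453 L794884 q27675, e3 q26454 (flp_a L782692) q25263, e3 q26455 (flp_a L793329) q27505, e3 q26456 (flp_a L793341) q27506, e3 q26457 L794911 q27679, e3 q26458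 (flp_a L794250) q27602, e3 q26459 (flp_a L794264) q27603, e3 q26460 L794931 q27682, e3 q26461 (flp_a L794278) q27605, e3 q26462 (flp_a L782741) q25271, e3 q26463 (flp_a L792253) q27389, e3 q26464 (flp_a L792267) q27390, e3 q26465 L794966 q27687, e3 q26466 (flp_a L787838) q26989, e3 q26467 (flp_a L786766) q26902, e3 q26468 (flp_a L794316) q27610, e3 q26469 (flp_a L794328) q27611, e3 q26470 (flp_a L786782) q26903, e3 q26471 (flp_a L786794) q26904, e3 q26472 L795045 q27696, e3 q26473 (flp_a L794347) q27613, e3 q26474 (flp_a L794361) q27614, e3 q26475 L795073 q27700, e3 q26476 (flp_a L794381) q27616, e3 q26477 (flp_a L782864) q25282, e3 q26478 (flp_a L795093) q27702, e3 q26479 (flp_a L794409) q27619, e3 q26480 (flp_a L794419) q27620, e3 q26481 (flp_a L782886) q25286, e3 q26482 L782900 q25295, e3 q26483 L782912 q25296, e3 q26484 L795129 q27707, e3 q26485 (flp_a L792047) q27368, e3 q26486 (flp_a L792061) q27369, e3 q26487 (flp_a L789595) q27129, e3 q26488 (flp_a L788250) q27022, e3 q26489 L795161 q27712, e3 q26490 (flp_a L788210)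 q27019, e3 q26491 L782965 q25489, e3 q26492 L795187 q27715, e3 q26493 (flp_a L795121) q27706, e3 q26494 (flp_a L782987) q25297, e3 q26495 (flp_a L795203) q27717, trivial⟩ (by decide +kernel)

theorem ce_a_414 : ∀ r, r < 64 → sm ga (Qf (26496 + r)) = Qf (tab Gen.a (26496 + r)) :=
  edges_tab (sm ga) Qf (tab Gen.a) 26496 [(26496, 25510), (26497, 25511), (26498, 26918), (26499, 26919), (26500, 27722), (26501, 27629), (26502, 27725), (26503, 26921), (26504, 26922), (26505, 25305), (26506, 27728), (26507, 27632), (26508, 26993), (26509, 26994), (26510, 27732), (26511, 27248), (26512, 25311), (26513, 27734), (26514, 25314), (26515, 27735), (26516, 27736), (26517, 25317), (26518, 25320), (26519, 26905), (26520, 27637), (26521, 27738), (26522, 27739), (26523, 27740), (26524, 25349), (26525, 25350), (26526, 25333), (26527, 27038), (26528, 27197), (26529, 27198), (26530, 27748), (26531, 27205), (26532, 27206), (26533, 25339), (26534, 25340), (26535, 27039), (26536, 27158), (26537, 27159), (26538, 27040), (26539, 27041), (26540, 27759),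 (26541, 27258), (26542, 27259), (26543, 27762), (26544, 27161), (26545, 27162), (26546, 25348), (26547, 27765), (26548, 27742), (26549, 27113), (26550, 25352), (26551, 27042), (26552, 25371), (26553, 25372), (26554, 27770), (26555, 25374), (26556, 25360), (26557, 27772), (26558, 25362), (26559, 25363)]
    ⟨e3 q26496 L783001 q25510, e3 q26497 L783013 q25511, e3 q26498 (flp_a L786960) q26918, e3 q26499 (flp_a L786972) q26919, e3 q26500 L795239 q27722, e3 q26501 (flp_a L794499) q27629, e3 q26502 L795254 q27725, e3 q26503 (flp_a L786989) q26921, e3 q26504 (flp_a L786999) q26922, e3 q26505 (flp_a L783059) q25305, e3 q26506 (flp_a L795272) q27728, e3 q26507 (flp_a L794527) q27632, e3 q26508 (flp_a L787894) q26993, e3 q26509 (flp_a L787910) q26994, e3 q26510 L795294 q27732, e3 q26511 (flp_a L790742) q27248, e3 q26512 (flp_a L783099) q25311, e3 q26513 (flp_a L795308) q27734, e3 q26514 L783111 q25314, e3 q26515 (flp_a L795312) q27735, e3 q26516 L795314 q27736, e3 q26517 (flp_a L783123) q25317, e3 q26518 L783131 q25320, e3 q26519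 (flp_a L786806) q26905, e3 q26520 (flp_a L794563) q27637, e3 q26521 L795326 q27738, e3 q26522 L795342 q27739, e3 q26523 L795358 q27740, e3 q26524 L783187 q25349, e3 q26525 L783195 q25350, e3 q26526 (flp_a L783199) q25333, e3 q26527 (flp_a L788488) q27038, e3 q26528 (flp_a L790269) q27197, e3 q26529 (flp_a L790281) q27198, e3 q26530 L795410 q27748, e3 q26531 (flp_a L790362) q27205, e3 q26532 (flp_a L790374) q27206, e3 q26533 (flp_a L783244) q25339, e3 q26534 (flp_a L783250) q25340, e3 q26535 (flp_a L788504) q27039, e3 q26536 (flp_a L789884) q27158, e3 q26537 (flp_a L789898) q27159, e3 q26538 (flp_a L788520) q27040, e3 q26539 (flp_a L788530) q27041, e3 q26540 L795492 q27759, e3 q26541 (flp_a L790851) q27258, e3 q26542 (flp_a L790863) q27259, e3 q26543 L795510 q27762, e3 q26544 (flp_a L789925) q27161, e3 q26545 (flp_a L789939) q27162, e3 q26546 (flp_a L783329) q25348, e3 q26547 (flp_a L795528) q27765, e3 q26548 (flp_a L795372) q27742, e3 q26549 (flp_a L789407) q27113, e3 q26550 (flp_a L783349) q25352, e3 q26551 (flp_a L788540)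 q27042, e3 q26552 L783365 q25371, e3 q26553 L783375 q25372, e3 q26554 L795562 q27770, e3 q26555 L783390 q25374, e3 q26556 (flp_a L783396) q25360, e3 q26557 L795576 q27772, e3 q26558 (flp_a L783408) q25362, e3 q26559 (flp_a L783416) q25363, trivial⟩ (by decide +kernel)

theorem ce_a_415 : ∀ r, r < 64 → sm ga (Qf (26560 + r)) = Qf (tab Gen.a (26560 + r)) :=
  edges_tab (sm ga) Qf (tab Gen.a) 26560 [(26560, 27773), (26561, 25404), (26562, 27775), (26563, 27081), (26564, 26907), (26565, 26908), (26566, 27779), (26567, 27769), (26568, 25373), (26569, 27782), (26570, 27224), (26571, 27784), (26572, 26771), (26573, 27786), (26574, 27582), (26575, 25381), (26576, 27788), (26577, 27070), (26578, 25384), (26579, 27790), (26580, 27791), (26581, 25393), (26582, 27793), (26583, 27282), (26584, 27795), (26585, 25392), (26586, 27796), (26587, 27063), (26588, 27798), (26589, 26941), (26590, 25397), (26591, 27800), (26592, 27801), (26593, 25400), (26594, 27802), (26595, 25403), (26596, 27803), (26597, 27169), (26598, 25406), (26599, 25420),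 (26600, 25421), (26601, 27807), (26602, 25410), (26603, 25412), (26604, 27808), (26605, 25414), (26606, 25415), (26607, 27263), (26608, 27264), (26609, 27811), (26610, 27043), (26611, 27044), (26612, 27814), (26613, 27806), (26614, 25422), (26615, 26957), (26616, 26958), (26617, 27819), (26618, 27254), (26619, 27255), (26620, 27822), (26621, 27823), (26622, 27267), (26623, 25429)]
    ⟨e3 q26560 (flp_a L795586) q27773, e3 q26561 L783428 q25404, e3 q26562 L795594 q27775, e3 q26563 (flp_a L789029) q27081, e3 q26564 (flp_a L786834) q26907, e3 q26565 (flp_a L786846) q26908, e3 q26566 L795622 q27779, e3 q26567 (flp_a L795554) q27769, e3 q26568 (flp_a L783467) q25373, e3 q26569 (flp_a L795637) q27782, e3 q26570 (flp_a L790532) q27224, e3 q26571 L795647 q27784, e3 q26572 (flp_a L784948) q26771, e3 q26573 L795661 q27786, e3 q26574 (flp_a L794042) q27582, e3 q26575 (flp_a L783511) q25381, e3 q26576 L795673 q27788, e3 q26577 (flp_a L788892) q27070, e3 q26578 (flp_a L783529) q25384, e3 q26579 (flp_a L795689) q27790, e3 q26580 L795693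 q27791, e3 q26581 L783545 q25393, e3 q26582 L795701 q27793, e3 q26583 (flp_a L791140) q27282, e3 q26584 L795715 q27795, e3 q26585 (flp_a L783567) q25392, e3 q26586 (flp_a L795723) q27796, e3 q26587 (flp_a L788806) q27063, e3 q26588 L795733 q27798, e3 q26589 (flp_a L787233) q26941, e3 q26590 (flp_a L783593) q25397, e3 q26591 (flp_a L795747) q27800, e3 q26592 L795751 q27801, e3 q26593 (flp_a L783611) q25400, e3 q26594 (flp_a L795759) q27802, e3 q26595 L783627 q25403, e3 q26596 (flp_a L795767) q27803, e3 q26597 (flp_a L790001) q27169, e3 q26598 (flp_a L783637) q25406, e3 q26599 L783645 q25420, e3 q26600 L783651 q25421, e3 q26601 L795785 q27807, e3 q26602 (flp_a L783662) q25410, e3 q26603 (flp_a L783670) q25412, e3 q26604 L795793 q27808, e3 q26605 (flp_a L783684) q25414, e3 q26606 (flp_a L783692) q25415, e3 q26607 (flp_a L790899) q27263, e3 q26608 (flp_a L790913) q27264, e3 q26609 L795811 q27811, e3 q26610 (flp_a L788552) q27043, e3 q26611 (flp_a L788564) q27044, e3 q26612 L795835 q27814, e3 q26613 (flp_a L795779) q27806, e3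 q26614 (flp_a L783742) q25422, e3 q26615 (flp_a L787434) q26957, e3 q26616 (flp_a L787450) q26958, e3 q26617 L795866 q27819, e3 q26618 (flp_a L790812) q27254, e3 q26619 (flp_a L790824) q27255, e3 q26620 L795888 q27822, e3 q26621 L795894 q27823, e3 q26622 (flp_a L790950) q27267, e3 q26623 (flp_a L783805) q25429, trivial⟩ (by decide +kernel)

theorem ce_a_416 : ∀ r, r < 64 → sm ga (Qf (26624 + r)) = Qf (tab Gen.a (26624 + r)) :=
  edges_tab (sm ga) Qf (tab Gen.a) 26624 [(26624, 27825), (26625, 25431), (26626, 25478), (26627, 25479), (26628, 27828), (26629, 27829), (26630, 26960), (26631, 25437), (26632, 27831), (26633, 27261), (26634, 25440), (26635, 25441), (26636, 27834), (26637, 27835), (26638, 25474), (26639, 25448), (26640, 25449), (26641, 27837), (26642, 27838), (26643, 25516), (26644, 25454), (26645, 27841), (26646, 25456), (26647, 27842), (26648, 27843), (26649, 25460), (26650, 27844), (26651, 25462), (26652, 25467), (26653, 25468), (26654, 27599), (26655, 27600), (26656, 27849), (26657, 27846), (26658, 27609), (26659,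 27520), (26660, 27243), (26661, 27854), (26662, 27220), (26663, 25473), (26664, 27856), (26665, 27461), (26666, 27458), (26667, 27859), (26668, 27860), (26669, 27827), (26670, 25480), (26671, 27863), (26672, 27864), (26673, 25483), (26674, 27865), (26675, 27185), (26676, 27186), (26677, 27473), (26678, 26952), (26679, 27870), (26680, 27871), (26681, 26956), (26682, 25491), (26683, 26800), (26684, 26801), (26685, 26802), (26686, 26933), (26687, 26934)]
    ⟨e3 q26624 L795908 q27825, e3 q26625 (flp_a L783819) q25431, e3 q26626 L783829 q25478, e3 q26627 L783839 q25479, e3 q26628 L795936 q27828, e3 q26629 L795948 q27829, e3 q26630 (flp_a L787482) q26960, e3 q26631 (flp_a L783870) q25437, e3 q26632 L795962 q27831, e3 q26633 (flp_a L790879) q27261, e3 q26634 (flp_a L783886) q25440, e3 q26635 (flp_a L783890) q25441, e3 q26636 (flp_a L795979) q27834, e3 q26637 L795981 q27835, e3 q26638 L783906 q25474, e3 q26639 (flp_a L783910) q25448, e3 q26640 (flp_a L783916) q25449, e3 q26641 L795991 q27837, e3 q26642 L795999 q27838, e3 q26643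 L783936 q25516, e3 q26644 (flp_a L783940) q25454, e3 q26645 L796014 q27841, e3 q26646 (flp_a L783952) q25456, e3 q26647 L796020 q27842, e3 q26648 L796026 q27843, e3 q26649 (flp_a L783970) q25460, e3 q26650 L796032 q27844, e3 q26651 (flp_a L783978) q25462, e3 q26652 L783986 q25467, e3 q26653 L783992 q25468, e3 q26654 (flp_a L794216) q27599, e3 q26655 (flp_a L794226) q27600, e3 q26656 L796064 q27849, e3 q26657 (flp_a L796046) q27846, e3 q26658 (flp_a L794306) q27609, e3 q26659 (flp_a L793443) q27520, e3 q26660 (flp_a L790680) q27243, e3 q26661 L796090 q27854, e3 q26662 (flp_a L790494) q27220, e3 q26663 (flp_a L784046) q25473, e3 q26664 (flp_a L796104) q27856, e3 q26665 (flp_a L792963) q27461, e3 q26666 (flp_a L792922) q27458, e3 q26667 L796120 q27859, e3 q26668 L796128 q27860, e3 q26669 (flp_a L795928) q27827, e3 q26670 (flp_a L784087) q25480, e3 q26671 L796145 q27863, e3 q26672 L796155 q27864, e3 q26673 (flp_a L784109) q25483, e3 q26674 L796161 q27865, e3 q26675 (flp_a L790147) q27185, e3 q26676 (flp_a L790159) q27186, e3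 q26677 (flp_a L793063) q27473, e3 q26678 (flp_a L787373) q26952, e3 q26679 L796189 q27870, e3 q26680 L796195 q27871, e3 q26681 (flp_a L787422) q26956, e3 q26682 (flp_a L784162) q25491, e3 q26683 (flp_a L785364) q26800, e3 q26684 (flp_a L785380) q26801, e3 q26685 (flp_a L785390) q26802, e3 q26686 (flp_a L787132) q26933, e3 q26687 (flp_a L787144) q26934, trivial⟩ (by decide +kernel)

theorem ce_a_417 : ∀ r, r < 64 → sm ga (Qf (26688 + r)) = Qf (tab Gen.a (26688 + r)) :=
  edges_tab (sm ga) Qf (tab Gen.a) 26688 [(26688, 27881), (26689, 27517), (26690, 27884), (26691, 25498), (26692, 26793), (26693, 26794), (26694, 27887), (26695, 26804), (26696, 26805), (26697, 25502), (26698, 27889), (26699, 27890), (26700, 25506), (26701, 27891), (26702, 27719), (26703, 25512), (26704, 27894), (26705, 27579), (26706, 25515), (26707, 27897), (26708, 27840), (26709, 27900), (26710, 26980), (26711, 25520), (26712, 25521), (26713, 25522), (26714, 27903), (26715, 27005), (26716, 27006), (26717, 25526), (26718, 27906), (26719, 27414), (26720, 27908),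 (26721, 25530), (26722, 27909), (26723, 25533), (26724, 27910), (26725, 27012), (26726, 25536), (26727, 27912), (26728, 26844), (26729, 26834), (26730, 26835), (26731, 27918), (26732, 26837), (26733, 26838), (26734, 27920), (26735, 26936), (26736, 25544), (26737, 27922), (26738, 26818), (26739, 25546), (26740, 27924), (26741, 26819), (26742, 25550), (26743, 27925), (26744, 25554), (26745, 27926), (26746, 25557), (26747, 25558), (26748, 26860), (26749, 25958), (26750, 25959), (26751, 27929)]
    ⟨e3 q26688 L796271 q27881, e3 q26689 (flp_a L793415) q27517, e3 q26690 L796286 q27884, e3 q26691 (flp_a L784222) q25498, e3 q26692 (flp_a L785269) q26793, e3 q26693 (flp_a L785283) q26794, e3 q26694 L796310 q27887, e3 q26695 (flp_a L785413) q26804, e3 q26696 (flp_a L785425) q26805, e3 q26697 (flp_a L784264) q25502, e3 q26698 (flp_a L796328) q27889, e3 q26699 L796332 q27890, e3 q26700 (flp_a L784284) q25506, e3 q26701 L796338 q27891, e3 q26702 (flp_a L795219) q27719, e3 q26703 (flp_a L784300) q25512, e3 q26704 L796353 q27894, e3 q26705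 (flp_a L794002) q27579, e3 q26706 (flp_a L784318) q25515, e3 q26707 (flp_a L796372) q27897, e3 q26708 (flp_a L796011) q27840, e3 q26709 L796381 q27900, e3 q26710 (flp_a L787722) q26980, e3 q26711 (flp_a L784349) q25520, e3 q26712 (flp_a L784359) q25521, e3 q26713 (flp_a L784369) q25522, e3 q26714 (flp_a L796413) q27903, e3 q26715 (flp_a L788056) q27005, e3 q26716 (flp_a L788072) q27006, e3 q26717 L784405 q25526, e3 q26718 (flp_a L796439) q27906, e3 q26719 (flp_a L792467) q27414, e3 q26720 L796455 q27908, e3 q26721 (flp_a L784435) q25530, e3 q26722 L796461 q27909, e3 q26723 (flp_a L784443) q25533, e3 q26724 L796467 q27910, e3 q26725 (flp_a L788150) q27012, e3 q26726 (flp_a L784459) q25536, e3 q26727 (flp_a L796483) q27912, e3 q26728 (flp_a L785934) q26844, e3 q26729 (flp_a L785822) q26834, e3 q26730 (flp_a L785834) q26835, e3 q26731 L796519 q27918, e3 q26732 (flp_a L785856) q26837, e3 q26733 (flp_a L785870) q26838, e3 q26734 L796533 q27920, e3 q26735 (flp_a L787169) q26936, e3 q26736 (flp_a L784523) q25544, e3 q26737 (flp_a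 L796547) q27922, e3 q26738 (flp_a L785605) q26818, e3 q26739 (flp_a L784543) q25546, e3 q26740 L796559 q27924, e3 q26741 (flp_a L785619) q26819, e3 q26742 (flp_a L784559) q25550, e3 q26743 (flp_a L796567) q27925, e3 q26744 L784573 q25554, e3 q26745 (flp_a L796573) q27926, e3 q26746 L784583 q25557, e3 q26747 (flp_a L784585) q25558, e3 q26748 (flp_a L786147) q26860, e3 q26749 L784597 q25958, e3 q26750 L784613 q25959, e3 q26751 L796611 q27929, trivial⟩ (by decide +kernel)

theorem ce_a_418 : ∀ r, r < 64 → sm ga (Qf (26752 + r)) = Qf (tab Gen.a (26752 + r)) :=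
  edges_tab (sm ga) Qf (tab Gen.a) 26752 [(26752, 26007), (26753, 27931), (26754, 25998), (26755, 27933), (26756, 27934), (26757, 26009), (26758, 25576), (26759, 25989), (26760, 26016), (26761, 27939), (26762, 25580), (26763, 27940), (26764, 27941), (26765, 26354), (26766, 25584), (26767, 25586), (26768, 25587), (26769, 25859), (26770, 27944), (26771, 26572), (26772, 25591), (26773, 27946), (26774, 25988), (26775, 25906), (26776, 25984), (26777, 26021), (26778, 25732), (26779, 25733), (26780, 26243), (26781, 26211), (26782, 26302), (26783, 26426), (26784, 26165), (26785, 26427), (26786, 26428), (26787, 26429), (26788, 26172), (26789, 26173), (26790, 27968), (26791, 25717), (26792, 26157), (26793, 26692), (26794, 26693), (26795, 26420), (26796, 26186), (26797, 26202), (26798, 26203), (26799, 27980), (26800, 26683), (26801, 26684), (26802, 26685), (26803, 27986), (26804, 26695), (26805, 26696), (26806, 27989), (26807, 26205), (26808, 25621), (26809, 25721), (26810, 26209), (26811, 26210), (26812, 26216), (26813, 26217), (26814,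 27996), (26815, 26283)]
    ⟨e3 q26752 L784647 q26007, e3 q26753 L796647 q27931, e3 q26754 L784681 q25998, e3 q26755 L796683 q27933, e3 q26756 L796701 q27934, e3 q26757 L784725 q26009, e3 q26758 (flp_a L784737) q25576, e3 q26759 L784751 q25989, e3 q26760 L784767 q26016, e3 q26761 L796775 q27939, e3 q26762 (flp_a L784798) q25580, e3 q26763 L796795 q27940, e3 q26764 L796815 q27941, e3 q26765 L784852 q26354, e3 q26766 (flp_a L784866) q25584, e3 q26767 (flp_a L784880) q25586, e3 q26768 (flp_a L784894) q25587, e3 q26769 L784916 q25859, e3 q26770 L796867 q27944, e3 q26771 L784948 q26572, e3 q26772 (flp_a L784964) q25591, e3 q26773 (flp_a L796903) q27946, e3 q26774 L784990 q25988, e3 q26775 L785004 q25906, e3 q26776 L785022 q25984, e3 q26777 L785036 q26021, e3 q26778 L785051 q25732, e3 q26779 L785067 q25733, e3 q26780 L785083 q26243, e3 q26781 L785099 q26211, e3 q26782 L785115 q26302, e3 q26783 L785128 q26426, e3 q26784 L785144 q26165, e3 q26785 L785160 q26427, e3 q26786 L785172 q26428, e3 q26787 L785184 q26429, e3 q26788 L785196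 q26172, e3 q26789 L785208 q26173, e3 q26790 L797215 q27968, e3 q26791 L785235 q25717, e3 q26792 L785253 q26157, e3 q26793 L785269 q26692, e3 q26794 L785283 q26693, e3 q26795 L785297 q26420, e3 q26796 L785312 q26186, e3 q26797 L785328 q26202, e3 q26798 L785340 q26203, e3 q26799 L797393 q27980, e3 q26800 L785364 q26683, e3 q26801 L785380 q26684, e3 q26802 L785390 q26685, e3 q26803 L797469 q27986, e3 q26804 L785413 q26695, e3 q26805 L785425 q26696, e3 q26806 L797509 q27989, e3 q26807 L785451 q26205, e3 q26808 (flp_a L785461) q25621, e3 q26809 L785475 q25721, e3 q26810 L785491 q26209, e3 q26811 L785507 q26210, e3 q26812 L785520 q26216, e3 q26813 L785535 q26217, e3 q26814 L797609 q27996, e3 q26815 L785565 q26283, trivial⟩ (by decide +kernel)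

theorem ce_a_419 : ∀ r, r < 64 → sm ga (Qf (26816 + r)) = Qf (tab Gen.a (26816 + r)) :=
  edges_tab (sm ga) Qf (tab Gen.a) 26816 [(26816, 26284), (26817, 28000), (26818, 26738), (26819, 26741), (26820, 26416), (26821, 26250), (26822, 26251), (26823, 28007), (26824, 26295), (26825, 25635), (26826, 26121), (26827, 26445), (26828, 26070), (26829, 28014), (26830, 26069), (26831, 26269), (26832, 26270), (26833, 26271), (26834, 26729), (26835, 26730), (26836, 28024), (26837, 26732), (26838, 26733), (26839, 28028), (26840, 26286), (26841, 26287), (26842, 25647), (26843, 28032), (26844, 26728), (26845, 26402), (26846, 25651), (26847, 28035), (26848, 26298), (26849, 26214), (26850, 26313), (26851, 25927), (26852, 26306), (26853, 26018), (26854, 26315), (26855, 26218), (26856, 26316), (26857, 26417), (26858, 26328), (26859, 26071), (26860, 26748), (26861, 26072), (26862, 28045), (26863, 25982), (26864, 25847), (26865, 26074), (26866, 26075), (26867, 26076), (26868, 28052), (26869, 26078), (26870, 26079), (26871, 28055), (26872, 26081),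 (26873, 28057), (26874, 26066), (26875, 25687), (26876, 25728), (26877, 25729), (26878, 28061), (26879, 28062)]
    ⟨e3 q26816 L785579 q26284, e3 q26817 L797669 q28000, e3 q26818 L785605 q26738, e3 q26819 L785619 q26741, e3 q26820 L785631 q26416, e3 q26821 L785647 q26250, e3 q26822 L785659 q26251, e3 q26823 L797763 q28007, e3 q26824 L785681 q26295, e3 q26825 (flp_a L785691) q25635, e3 q26826 L785703 q26121, e3 q26827 L785719 q26445, e3 q26828 L785733 q26070, e3 q26829 L797861 q28014, e3 q26830 L785763 q26069, e3 q26831 L785779 q26269, e3 q26832 L785795 q26270, e3 q26833 L785809 q26271, e3 q26834 L785822 q26729, e3 q26835 L785834 q26730, e3 q26836 L798001 q28024, e3 q26837 L785856 q26732, e3 q26838 L785870 q26733, e3 q26839 L798053 q28028, e3 q26840 L785894 q26286, e3 q26841 L785904 q26287, e3 q26842 (flp_a L785916) q25647, e3 q26843 (flp_a L798107) q28032, e3 q26844 L785934 q26728, e3 q26845 L785942 q26402, e3 q26846 (flp_a L785956) q25651, e3 q26847 (flp_a L798141) q28035, e3 q26848 L785978 q26298, e3 q26849 L785988 q26214,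 e3 q26850 L786003 q26313, e3 q26851 L786018 q25927, e3 q26852 L786034 q26306, e3 q26853 L786050 q26018, e3 q26854 L786065 q26315, e3 q26855 L786077 q26218, e3 q26856 L786091 q26316, e3 q26857 L786103 q26417, e3 q26858 L786118 q26328, e3 q26859 L786130 q26071, e3 q26860 L786147 q26748, e3 q26861 L786161 q26072, e3 q26862 L798277 q28045, e3 q26863 L786195 q25982, e3 q26864 L786211 q25847, e3 q26865 L786227 q26074, e3 q26866 L786241 q26075, e3 q26867 L786255 q26076, e3 q26868 L798388 q28052, e3 q26869 L786283 q26078, e3 q26870 L786299 q26079, e3 q26871 L798434 q28055, e3 q26872 L786328 q26081, e3 q26873 L798462 q28057, e3 q26874 L786358 q26066, e3 q26875 (flp_a L786374) q25687, e3 q26876 L786386 q25728, e3 q26877 L786402 q25729, e3 q26878 L798530 q28061, e3 q26879 L798546 q28062, trivial⟩ (by decide +kernel)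

theorem ce_a_420 : ∀ r, r < 64 → sm ga (Qf (26880 + r)) = Qf (tab Gen.a (26880 + r)) :=
  edges_tab (sm ga) Qf (tab Gen.a) 26880 [(26880, 25749), (26881, 25750), (26882, 28065), (26883, 25753), (26884, 28067), (26885, 25759), (26886, 25696), (26887, 25767), (26888, 25768), (26889, 28071), (26890, 25699), (26891, 25700), (26892, 28072), (26893, 25807), (26894, 25808), (26895, 28075), (26896, 25810), (26897, 25705), (26898, 28077), (26899, 25926), (26900, 25928), (26901, 26434), (26902, 26467), (26903, 26470), (26904, 26471), (26905, 26519), (26906, 25950), (26907, 26564), (26908, 26565), (26909, 28093), (26910, 25720), (26911, 25722), (26912, 28094), (26913, 28095), (26914, 27975), (26915, 28043), (26916, 26446), (26917, 26447), (26918, 26498), (26919, 26499), (26920, 28106), (26921, 26503), (26922, 26504), (26923, 26304), (26924, 28110), (26925, 28060), (26926, 25730), (26927, 25990), (26928, 27951), (26929, 27952), (26930, 28117), (26931, 26234), (26932, 26235), (26933, 26686), (26934, 26687), (26935, 28122), (26936, 26735),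 (26937, 26419), (26938, 25993), (26939, 25994), (26940, 28128), (26941, 26589), (26942, 25743), (26943, 26260)]
    ⟨e3 q26880 L786445 q25749, e3 q26881 L786461 q25750, e3 q26882 L798592 q28065, e3 q26883 L786492 q25753, e3 q26884 L798624 q28067, e3 q26885 L786522 q25759, e3 q26886 (flp_a L786536) q25696, e3 q26887 L786548 q25767, e3 q26888 L786562 q25768, e3 q26889 L798682 q28071, e3 q26890 (flp_a L786585) q25699, e3 q26891 (flp_a L786599) q25700, e3 q26892 (flp_a L798698) q28072, e3 q26893 L786633 q25807, e3 q26894 L786649 q25808, e3 q26895 L798748 q28075, e3 q26896 L786681 q25810, e3 q26897 (flp_a L786695) q25705, e3 q26898 (flp_a L798782) q28077, e3 q26899 L786721 q25926, e3 q26900 L786737 q25928, e3 q26901 L786750 q26434, e3 q26902 L786766 q26467, e3 q26903 L786782 q26470, e3 q26904 L786794 q26471, e3 q26905 L786806 q26519, e3 q26906 L786818 q25950, e3 q26907 L786834 q26564, e3 q26908 L786846 q26565, e3 q26909 L799001 q28093, e3 q26910 L786871 q25720, e3 q26911 L786887 q25722, e3 q26912 (flp_a L799015) q28094, e3 q26913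 (flp_a L799031) q28095, e3 q26914 (flp_a L797322) q27975, e3 q26915 (flp_a L798245) q28043, e3 q26916 L786937 q26446, e3 q26917 L786949 q26447, e3 q26918 L786960 q26498, e3 q26919 L786972 q26499, e3 q26920 L799145 q28106, e3 q26921 L786989 q26503, e3 q26922 L786999 q26504, e3 q26923 L787007 q26304, e3 q26924 L799183 q28110, e3 q26925 (flp_a L798516) q28060, e3 q26926 (flp_a L787039) q25730, e3 q26927 L787051 q25990, e3 q26928 (flp_a L796975) q27951, e3 q26929 (flp_a L796991) q27952, e3 q26930 L799269 q28117, e3 q26931 L787102 q26234, e3 q26932 L787116 q26235, e3 q26933 L787132 q26686, e3 q26934 L787144 q26687, e3 q26935 L799337 q28122, e3 q26936 L787169 q26735, e3 q26937 L787179 q26419, e3 q26938 L787195 q25993, e3 q26939 L787207 q25994, e3 q26940 L799409 q28128, e3 q26941 L787233 q26589, e3 q26942 (flp_a L787241) q25743, e3 q26943 L787251 q26260, trivial⟩ (by decide +kernel)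

theorem ce_a_421 : ∀ r, r < 64 → sm ga (Qf (26944 + r)) = Qf (tab Gen.a (26944 + r)) :=
  edges_tab (sm ga) Qf (tab Gen.a) 26944 [(26944, 26261), (26945, 28133), (26946, 26265), (26947, 26122), (26948, 26421), (26949, 26422), (26950, 28138), (26951, 28064), (26952, 26678), (26953, 28142), (26954, 25752), (26955, 28143), (26956, 26681), (26957, 26615), (26958, 26616), (26959, 28147), (26960, 26630), (26961, 25758), (26962, 28149), (26963, 26444), (26964, 26023), (26965, 26433), (26966, 26441), (26967, 25968), (26968, 25991), (26969, 25992), (26970, 28159), (26971, 28070), (26972, 25769), (26973, 25772), (26974, 25773), (26975, 28164), (26976, 28163), (26977, 25790), (26978, 25775), (26979, 28167), (26980, 26710), (26981, 26399), (26982, 25970), (26983, 25971), (26984, 28172), (26985, 25996), (26986, 25997), (26987, 25782), (26988, 28175), (26989, 26466), (26990, 25789), (26991, 28178), (26992, 25793), (26993, 26508), (26994, 26509), (26995, 28182), (26996, 28166), (26997, 28184), (26998, 25792), (26999, 28185), (27000, 26366),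 (27001, 28187), (27002, 26424), (27003, 25797), (27004, 28189), (27005, 26715), (27006, 26716), (27007, 26221)]
    ⟨e3 q26944 L787267 q26261, e3 q26945 L799479 q28133, e3 q26946 L787296 q26265, e3 q26947 L787310 q26122, e3 q26948 L787326 q26421, e3 q26949 L787342 q26422, e3 q26950 L799555 q28138, e3 q26951 (flp_a L798578) q28064, e3 q26952 L787373 q26678, e3 q26953 L799590 q28142, e3 q26954 (flp_a L787404) q25752, e3 q26955 (flp_a L799610) q28143, e3 q26956 L787422 q26681, e3 q26957 L787434 q26615, e3 q26958 L787450 q26616, e3 q26959 L799662 q28147, e3 q26960 L787482 q26630, e3 q26961 (flp_a L787496) q25758, e3 q26962 (flp_a L799696) q28149, e3 q26963 L787514 q26444, e3 q26964 L787526 q26023, e3 q26965 L787540 q26433, e3 q26966 L787554 q26441, e3 q26967 L787565 q25968, e3 q26968 L787581 q25991, e3 q26969 L787593 q25992, e3 q26970 L799824 q28159, e3 q26971 (flp_a L798670) q28070, e3 q26972 (flp_a L787620) q25769, e3 q26973 L787630 q25772, e3 q26974 L787646 q25773, e3 q26975 L799885 q28164, e3 q26976 (flp_a L799869) q28163,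 e3 q26977 L787684 q25790, e3 q26978 (flp_a L787700) q25775, e3 q26979 (flp_a L799927) q28167, e3 q26980 L787722 q26710, e3 q26981 L787734 q26399, e3 q26982 L787748 q25970, e3 q26983 L787762 q25971, e3 q26984 L799989 q28172, e3 q26985 L787790 q25996, e3 q26986 L787802 q25997, e3 q26987 (flp_a L787812) q25782, e3 q26988 (flp_a L800027) q28175, e3 q26989 L787838 q26466, e3 q26990 L787852 q25789, e3 q26991 L800065 q28178, e3 q26992 L787880 q25793, e3 q26993 L787894 q26508, e3 q26994 L787910 q26509, e3 q26995 L800127 q28182, e3 q26996 (flp_a L799909) q28166, e3 q26997 L800155 q28184, e3 q26998 (flp_a L787970) q25792, e3 q26999 (flp_a L800177) q28185, e3 q27000 L787988 q26366, e3 q27001 L800197 q28187, e3 q27002 L788014 q26424, e3 q27003 (flp_a L788028) q25797, e3 q27004 (flp_a L800227) q28189, e3 q27005 L788056 q26715, e3 q27006 L788072 q26716, e3 q27007 L788090 q26221, trivial⟩ (by decide +kernel)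

theorem ce_a_422 : ∀ r, r < 64 → sm ga (Qf (27008 + r)) = Qf (tab Gen.a (27008 + r)) :=
  edges_tab (sm ga) Qf (tab Gen.a) 27008 [(27008, 28193), (27009, 25802), (27010, 25804), (27011, 28194), (27012, 26725), (27013, 28196), (27014, 28074), (27015, 25809), (27016, 28198), (27017, 25812), (27018, 28199), (27019, 26490), (27020, 26385), (27021, 26401), (27022, 26488), (27023, 25938), (27024, 28205), (27025, 25844), (27026, 25848), (27027, 25849), (27028, 25852), (27029, 25853), (27030, 28211), (27031, 25857), (27032, 28213), (27033, 28214), (27034, 25864), (27035, 28216), (27036, 25869), (27037, 25837), (27038, 26527), (27039, 26535), (27040, 26538), (27041, 26539), (27042, 26551), (27043, 26610), (27044, 26611), (27045, 28227), (27046, 28228), (27047, 25964), (27048, 25965), (27049, 28047), (27050, 28048), (27051, 28234), (27052, 28208), (27053, 25944), (27054, 26345), (27055, 26346), (27056, 28239), (27057, 28210), (27058, 25854), (27059, 25942), (27060, 28242), (27061, 25858), (27062, 28243), (27063, 26587), (27064, 28245),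 (27065, 26057), (27066, 25863), (27067, 28247), (27068, 25977), (27069, 28249), (27070, 26577), (27071, 25868)]
    ⟨e3 q27008 L800289 q28193, e3 q27009 (flp_a L788122) q25802, e3 q27010 L788138 q25804, e3 q27011 (flp_a L800309) q28194, e3 q27012 L788150 q26725, e3 q27013 L800329 q28196, e3 q27014 (flp_a L798732) q28074, e3 q27015 (flp_a L788180) q25809, e3 q27016 (flp_a L800351) q28198, e3 q27017 L788198 q25812, e3 q27018 (flp_a L800359) q28199, e3 q27019 L788210 q26490, e3 q27020 L788220 q26385, e3 q27021 L788238 q26401, e3 q27022 L788250 q26488, e3 q27023 L788262 q25938, e3 q27024 L800433 q28205, e3 q27025 L788296 q25844, e3 q27026 L788314 q25848, e3 q27027 L788328 q25849, e3 q27028 L788344 q25852, e3 q27029 L788360 q25853, e3 q27030 L800533 q28211, e3 q27031 L788390 q25857, e3 q27032 L800565 q28213, e3 q27033 L800579 q28214, e3 q27034 L788432 q25864, e3 q27035 L800609 q28216, e3 q27036 L788462 q25869, e3 q27037 (flp_a L788476) q25837, e3 q27038 L788488 q26527, e3 q27039 L788504 q26535, e3 q27040 L788520 q26538, e3 q27041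 L788530 q26539, e3 q27042 L788540 q26551, e3 q27043 L788552 q26610, e3 q27044 L788564 q26611, e3 q27045 L800759 q28227, e3 q27046 L800773 q28228, e3 q27047 L788603 q25964, e3 q27048 L788619 q25965, e3 q27049 (flp_a L798313) q28047, e3 q27050 (flp_a L798329) q28048, e3 q27051 L800862 q28234, e3 q27052 (flp_a L800485) q28208, e3 q27053 L788680 q25944, e3 q27054 L788696 q26345, e3 q27055 L788712 q26346, e3 q27056 L800930 q28239, e3 q27057 (flp_a L800517) q28210, e3 q27058 (flp_a L788742) q25854, e3 q27059 L788752 q25942, e3 q27060 L800962 q28242, e3 q27061 (flp_a L788786) q25858, e3 q27062 L800980 q28243, e3 q27063 L788806 q26587, e3 q27064 L801004 q28245, e3 q27065 L788834 q26057, e3 q27066 (flp_a L788850) q25863, e3 q27067 (flp_a L801038) q28247, e3 q27068 L788866 q25977, e3 q27069 L801058 q28249, e3 q27070 L788892 q26577, e3 q27071 (flp_a L788906) q25868, trivial⟩ (by decide +kernel)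

theorem ce_a_423 : ∀ r, r < 64 → sm ga (Qf (27072 + r)) = Qf (tab Gen.a (27072 + r)) :=
  edges_tab (sm ga) Qf (tab Gen.a) 27072 [(27072, 28251), (27073, 25975), (27074, 28253), (27075, 28254), (27076, 25924), (27077, 25943), (27078, 26052), (27079, 26053), (27080, 28259), (27081, 26563), (27082, 25879), (27083, 25925), (27084, 25930), (27085, 25931), (27086, 25932), (27087, 25933), (27088, 25934), (27089, 25935), (27090, 25936), (27091, 28272), (27092, 25941), (27093, 28274), (27094, 25972), (27095, 25973), (27096, 25951), (27097, 25952), (27098, 25953), (27099, 28281), (27100, 25956), (27101, 25957), (27102, 28284), (27103, 25961), (27104, 25898), (27105, 25963), (27106, 28288), (27107, 28289), (27108, 25905), (27109, 28291), (27110, 25904), (27111, 28292), (27112, 27949), (27113, 26549), (27114, 26006), (27115, 28296), (27116, 26001), (27117, 26002), (27118, 25911), (27119, 28300), (27120, 26005), (27121, 25914), (27122, 28302), (27123, 26012), (27124, 26014), (27125, 26015), (27126, 26019), (27127, 26222), (27128, 26237),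 (27129, 26487), (27130, 28255), (27131, 28233), (27132, 28313), (27133, 28078), (27134, 28079), (27135, 28039)]
    ⟨e3 q27072 (flp_a L801090) q28251, e3 q27073 L788922 q25975, e3 q27074 L801110 q28253, e3 q27075 L801126 q28254, e3 q27076 L788960 q25924, e3 q27077 L788976 q25943, e3 q27078 L788990 q26052, e3 q27079 L789006 q26053, e3 q27080 L801200 q28259, e3 q27081 L789029 q26563, e3 q27082 (flp_a L789039) q25879, e3 q27083 L789049 q25925, e3 q27084 L789065 q25930, e3 q27085 L789081 q25931, e3 q27086 L789097 q25932, e3 q27087 L789109 q25933, e3 q27088 L789123 q25934, e3 q27089 L789137 q25935, e3 q27090 L789149 q25936, e3 q27091 L801378 q28272, e3 q27092 L789176 q25941, e3 q27093 L801408 q28274, e3 q27094 L789198 q25972, e3 q27095 L789212 q25973, e3 q27096 L789228 q25951, e3 q27097 L789240 q25952, e3 q27098 L789251 q25953, e3 q27099 L801501 q28281, e3 q27100 L789277 q25956, e3 q27101 L789287 q25957, e3 q27102 L801535 q28284, e3 q27103 L789309 q25961, e3 q27104 (flp_a L789315) q25898, e3 q27105 L789325 q25963, e3 q27106 L801580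 q28288, e3 q27107 L801590 q28289, e3 q27108 L789355 q25905, e3 q27109 L801614 q28291, e3 q27110 (flp_a L789379) q25904, e3 q27111 L801626 q28292, e3 q27112 (flp_a L796941) q27949, e3 q27113 L789407 q26549, e3 q27114 L789425 q26006, e3 q27115 L801680 q28296, e3 q27116 L789447 q26001, e3 q27117 L789457 q26002, e3 q27118 (flp_a L789471) q25911, e3 q27119 (flp_a L801730) q28300, e3 q27120 L789487 q26005, e3 q27121 (flp_a L789495) q25914, e3 q27122 (flp_a L801746) q28302, e3 q27123 L789511 q26012, e3 q27124 L789521 q26014, e3 q27125 L789537 q26015, e3 q27126 L789549 q26019, e3 q27127 L789563 q26222, e3 q27128 L789579 q26237, e3 q27129 L789595 q26487, e3 q27130 (flp_a L801140) q28255, e3 q27131 (flp_a L800847) q28233, e3 q27132 L801880 q28313, e3 q27133 (flp_a L798796) q28078, e3 q27134 (flp_a L798812) q28079, e3 q27135 (flp_a L798189) q28039, trivial⟩ (by decide +kernel)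

theorem ce_a_424 : ∀ r, r < 64 → sm ga (Qf (27136 + r)) = Qf (tab Gen.a (27136 + r)) :=
  edges_tab (sm ga) Qf (tab Gen.a) 27136 [(27136, 28080), (27137, 26431), (27138, 28262), (27139, 28263), (27140, 28264), (27141, 28265), (27142, 28327), (27143, 28267), (27144, 28268), (27145, 28269), (27146, 28332), (27147, 28271), (27148, 25937), (27149, 28335), (27150, 26178), (27151, 26228), (27152, 26229), (27153, 28340), (27154, 28241), (27155, 28342), (27156, 28236), (27157, 25945), (27158, 26536), (27159, 26537), (27160, 28347), (27161, 26544), (27162, 26545), (27163, 28089), (27164, 28090), (27165, 28353), (27166, 28278), (27167, 28279), (27168, 28357), (27169, 26597), (27170, 25955), (27171, 28359), (27172, 28283), (27173, 28361), (27174, 27928), (27175, 25960), (27176, 28363), (27177, 28286), (27178, 28287), (27179, 28367), (27180, 28230), (27181, 25966), (27182, 26149), (27183, 28154), (27184, 28155), (27185, 26675), (27186, 26676), (27187, 28375), (27188, 28171), (27189, 28377), (27190, 28276), (27191, 25974), (27192, 28379),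 (27193, 25976), (27194, 28380), (27195, 25983), (27196, 28382), (27197, 26528), (27198, 26529), (27199, 28046)]
    ⟨e3 q27136 (flp_a L798828) q28080, e3 q27137 L789675 q26431, e3 q27138 (flp_a L801238) q28262, e3 q27139 (flp_a L801254) q28263, e3 q27140 (flp_a L801269) q28264, e3 q27141 (flp_a L801285) q28265, e3 q27142 L802016 q28327, e3 q27143 (flp_a L801312) q28267, e3 q27144 (flp_a L801326) q28268, e3 q27145 (flp_a L801338) q28269, e3 q27146 L802062 q28332, e3 q27147 (flp_a L801366) q28271, e3 q27148 (flp_a L789775) q25937, e3 q27149 L802093 q28335, e3 q27150 L789801 q26178, e3 q27151 L789817 q26228, e3 q27152 L789829 q26229, e3 q27153 L802162 q28340, e3 q27154 (flp_a L800946) q28241, e3 q27155 L802182 q28342, e3 q27156 (flp_a L800882) q28236, e3 q27157 (flp_a L789876) q25945, e3 q27158 L789884 q26536, e3 q27159 L789898 q26537, e3 q27160 L802243 q28347, e3 q27161 L789925 q26544, e3 q27162 L789939 q26545, e3 q27163 (flp_a L798948) q28089, e3 q27164 (flp_a L798964) q28090, e3 q27165 L802314 q28353, e3 q27166 (flp_a L801458)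 q28278, e3 q27167 (flp_a L801470) q28279, e3 q27168 L802339 q28357, e3 q27169 L790001 q26597, e3 q27170 (flp_a L790009) q25955, e3 q27171 (flp_a L802361) q28359, e3 q27172 (flp_a L801521) q28283, e3 q27173 L802373 q28361, e3 q27174 (flp_a L796595) q27928, e3 q27175 (flp_a L790057) q25960, e3 q27176 (flp_a L802403) q28363, e3 q27177 (flp_a L801551) q28286, e3 q27178 (flp_a L801567) q28287, e3 q27179 L802430 q28367, e3 q27180 (flp_a L800803) q28230, e3 q27181 (flp_a L790102) q25966, e3 q27182 L790112 q26149, e3 q27183 (flp_a L799756) q28154, e3 q27184 (flp_a L799772) q28155, e3 q27185 L790147 q26675, e3 q27186 L790159 q26676, e3 q27187 L802527 q28375, e3 q27188 (flp_a L799973) q28171, e3 q27189 L802547 q28377, e3 q27190 (flp_a L801432) q28276, e3 q27191 (flp_a L790205) q25974, e3 q27192 (flp_a L802567) q28379, e3 q27193 (flp_a L790221) q25976, e3 q27194 (flp_a L802575) q28380, e3 q27195 L790243 q25983, e3 q27196 L802597 q28382, e3 q27197 L790269 q26528, e3 q27198 L790281 q26529, e3 q27199 (flp_a L798297) q28046, trivial⟩ (by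 decide +kernel)

theorem ce_a_425 : ∀ r, r < 64 → sm ga (Qf (27200 + r)) = Qf (tab Gen.a (27200 + r)) :=
  edges_tab (sm ga) Qf (tab Gen.a) 27200 [(27200, 27950), (27201, 28389), (27202, 27948), (27203, 27937), (27204, 28392), (27205, 26531), (27206, 26532), (27207, 25987), (27208, 28395), (27209, 27936), (27210, 28113), (27211, 28114), (27212, 28400), (27213, 28157), (27214, 28158), (27215, 28404), (27216, 28126), (27217, 28127), (27218, 25995), (27219, 28409), (27220, 26662), (27221, 28174), (27222, 28006), (27223, 28414), (27224, 26570), (27225, 26000), (27226, 28416), (27227, 28298), (27228, 28299), (27229, 26004), (27230, 28420), (27231, 28294), (27232, 28422), (27233, 26008), (27234, 28423), (27235, 26011), (27236, 28424), (27237, 28304), (27238, 28305), (27239, 28306), (27240, 27938), (27241, 26324), (27242, 27993), (27243, 26660), (27244, 26327), (27245, 26312), (27246, 28431), (27247, 28432), (27248, 26511), (27249, 26029), (27250, 28434), (27251, 26031), (27252, 26032), (27253, 28435), (27254, 26618), (27255, 26619),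 (27256, 28438), (27257, 28439), (27258, 26541), (27259, 26542), (27260, 28442), (27261, 26633), (27262, 26042), (27263, 26607)]
    ⟨e3 q27200 (flp_a L796959) q27950, e3 q27201 L802684 q28389, e3 q27202 (flp_a L796927) q27948, e3 q27203 (flp_a L796745) q27937, e3 q27204 L802722 q28392, e3 q27205 L790362 q26531, e3 q27206 L790374 q26532, e3 q27207 (flp_a L790388) q25987, e3 q27208 (flp_a L802766) q28395, e3 q27209 (flp_a L796729) q27936, e3 q27210 (flp_a L799216) q28113, e3 q27211 (flp_a L799232) q28114, e3 q27212 L802809 q28400, e3 q27213 (flp_a L799801) q28157, e3 q27214 (flp_a L799811) q28158, e3 q27215 L802836 q28404, e3 q27216 (flp_a L799385) q28126, e3 q27217 (flp_a L799399) q28127, e3 q27218 (flp_a L790476) q25995, e3 q27219 (flp_a L802884) q28409, e3 q27220 L790494 q26662, e3 q27221 (flp_a L800015) q28174, e3 q27222 (flp_a L797749) q28006, e3 q27223 L802930 q28414, e3 q27224 L790532 q26570, e3 q27225 (flp_a L790542) q26000, e3 q27226 (flp_a L802950) q28416, e3 q27227 (flp_a L801698) q28298, e3 q27228 (flp_a L801714)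 q28299, e3 q27229 L790566 q26004, e3 q27230 (flp_a L802972) q28420, e3 q27231 (flp_a L801648) q28294, e3 q27232 L802982 q28422, e3 q27233 (flp_a L790590) q26008, e3 q27234 (flp_a L802994) q28423, e3 q27235 L790612 q26011, e3 q27236 (flp_a L803006) q28424, e3 q27237 (flp_a L801764) q28304, e3 q27238 (flp_a L801776) q28305, e3 q27239 (flp_a L801791) q28306, e3 q27240 (flp_a L796761) q27938, e3 q27241 L790653 q26324, e3 q27242 (flp_a L797568) q27993, e3 q27243 L790680 q26660, e3 q27244 L790692 q26327, e3 q27245 L790706 q26312, e3 q27246 L803070 q28431, e3 q27247 L803082 q28432, e3 q27248 L790742 q26511, e3 q27249 (flp_a L790756) q26029, e3 q27250 L803114 q28434, e3 q27251 (flp_a L790780) q26031, e3 q27252 (flp_a L790792) q26032, e3 q27253 (flp_a L803130) q28435, e3 q27254 L790812 q26618, e3 q27255 L790824 q26619, e3 q27256 L803160 q28438, e3 q27257 L803170 q28439, e3 q27258 L790851 q26541, e3 q27259 L790863 q26542, e3 q27260 L803202 q28442, e3 q27261 L790879 q26633, e3 q27262 (flp_a L790887) q26042, e3 q27263 L790899 q26607,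 trivial⟩ (by decide +kernel)

theorem ce_a_426 : ∀ r, r < 64 → sm ga (Qf (27264 + r)) = Qf (tab Gen.a (27264 + r)) :=
  edges_tab (sm ga) Qf (tab Gen.a) 27264 [(27264, 26608), (27265, 28447), (27266, 28448), (27267, 26622), (27268, 26047), (27269, 26048), (27270, 28450), (27271, 28451), (27272, 28452), (27273, 28258), (27274, 26054), (27275, 26055), (27276, 26056), (27277, 28455), (27278, 26059), (27279, 26060), (27280, 26061), (27281, 28456), (27282, 26583), (27283, 26065), (27284, 28458), (27285, 26068), (27286, 28459), (27287, 28013), (27288, 28011), (27289, 28462), (27290, 26073), (27291, 28463), (27292, 28464), (27293, 28051), (27294, 26077), (27295, 28466), (27296, 28054), (27297, 26080), (27298, 28469), (27299, 26150), (27300, 26151), (27301, 28472), (27302, 26166), (27303, 26167), (27304, 28476), (27305, 26169), (27306, 26170), (27307, 26171), (27308, 28480), (27309, 26175), (27310, 26091), (27311, 26179), (27312, 26180), (27313, 28485), (27314, 26187), (27315, 26188), (27316, 28489), (27317, 26190), (27318, 26097),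 (27319, 26098), (27320, 28492), (27321, 26208), (27322, 26212), (27323, 26213), (27324, 26215), (27325, 26219), (27326, 26223), (27327, 26224)]
    ⟨e3 q27264 L790913 q26608, e3 q27265 L803255 q28447, e3 q27266 L803269 q28448, e3 q27267 L790950 q26622, e3 q27268 (flp_a L790962) q26047, e3 q27269 (flp_a L790974) q26048, e3 q27270 (flp_a L803295) q28450, e3 q27271 L803305 q28451, e3 q27272 L803323 q28452, e3 q27273 (flp_a L801184) q28258, e3 q27274 (flp_a L791030) q26054, e3 q27275 (flp_a L791038) q26055, e3 q27276 (flp_a L791056) q26056, e3 q27277 (flp_a L803358) q28455, e3 q27278 (flp_a L791074) q26059, e3 q27279 (flp_a L791092) q26060, e3 q27280 (flp_a L791110) q26061, e3 q27281 L803366 q28456, e3 q27282 L791140 q26583, e3 q27283 (flp_a L791148) q26065, e3 q27284 (flp_a L803390) q28458, e3 q27285 L791166 q26068, e3 q27286 (flp_a L803398) q28459, e3 q27287 (flp_a L797847) q28013, e3 q27288 (flp_a L797815) q28011, e3 q27289 L803434 q28462, e3 q27290 (flp_a L791224) q26073, e3 q27291 L803450 q28463, e3 q27292 L803460 q28464,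 e3 q27293 (flp_a L798374) q28051, e3 q27294 (flp_a L791262) q26077, e3 q27295 L803480 q28466, e3 q27296 (flp_a L798420) q28054, e3 q27297 (flp_a L791290) q26080, e3 q27298 (flp_a L803517) q28469, e3 q27299 L791304 q26150, e3 q27300 L791316 q26151, e3 q27301 L803545 q28472, e3 q27302 L791343 q26166, e3 q27303 L791355 q26167, e3 q27304 L803596 q28476, e3 q27305 L791378 q26169, e3 q27306 L791392 q26170, e3 q27307 L791404 q26171, e3 q27308 L803650 q28480, e3 q27309 L791425 q26175, e3 q27310 (flp_a L791433) q26091, e3 q27311 L791445 q26179, e3 q27312 L791459 q26180, e3 q27313 L803701 q28485, e3 q27314 L791490 q26187, e3 q27315 L791500 q26188, e3 q27316 L803747 q28489, e3 q27317 L791520 q26190, e3 q27318 (flp_a L791530) q26097, e3 q27319 (flp_a L791542) q26098, e3 q27320 (flp_a L803785) q28492, e3 q27321 L791562 q26208, e3 q27322 L791574 q26212, e3 q27323 L791585 q26213, e3 q27324 L791595 q26215, e3 q27325 L791607 q26219, e3 q27326 L791616 q26223, e3 q27327 L791630 q26224, trivial⟩ (by decide +kernel)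

theorem ce_a_427 : ∀ r, r < 64 → sm ga (Qf (27328 + r)) = Qf (tab Gen.a (27328 + r)) :=
  edges_tab (sm ga) Qf (tab Gen.a) 27328 [(27328, 28499), (27329, 28500), (27330, 26231), (27331, 26109), (27332, 26239), (27333, 26240), (27334, 28505), (27335, 26244), (27336, 26245), (27337, 28508), (27338, 26247), (27339, 26115), (27340, 28511), (27341, 26253), (27342, 26254), (27343, 26118), (27344, 28515), (27345, 26257), (27346, 28010), (27347, 28518), (27348, 26123), (27349, 26272), (27350, 26273), (27351, 28521), (27352, 26275), (27353, 28524), (27354, 26128), (27355, 26129), (27356, 28525), (27357, 26290), (27358, 26133), (27359, 28528), (27360, 26301), (27361, 26303), (27362, 26305), (27363, 26309), (27364, 26314), (27365, 26320), (27366, 28532), (27367, 26398), (27368, 26485), (27369, 26486), (27370, 28536), (27371, 28369), (27372, 28370), (27373, 28539), (27374, 28471), (27375, 26152), (27376, 26158), (27377, 26159), (27378, 26160), (27379, 26161), (27380, 26384), (27381, 27970), (27382, 27971), (27383, 28552), (27384, 28543),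 (27385, 28544), (27386, 28545), (27387, 28546), (27388, 28547), (27389, 26463), (27390, 26464), (27391, 26432)]
    ⟨e3 q27328 L803862 q28499, e3 q27329 L803878 q28500, e3 q27330 L791665 q26231, e3 q27331 (flp_a L791671) q26109, e3 q27332 L791681 q26239, e3 q27333 L791693 q26240, e3 q27334 L803929 q28505, e3 q27335 L791720 q26244, e3 q27336 L791730 q26245, e3 q27337 L803963 q28508, e3 q27338 L791754 q26247, e3 q27339 (flp_a L791764) q26115, e3 q27340 L804003 q28511, e3 q27341 L791784 q26253, e3 q27342 L791792 q26254, e3 q27343 (flp_a L791800) q26118, e3 q27344 (flp_a L804035) q28515, e3 q27345 L791816 q26257, e3 q27346 (flp_a L797799) q28010, e3 q27347 L804065 q28518, e3 q27348 (flp_a L791852) q26123, e3 q27349 L791866 q26272, e3 q27350 L791878 q26273, e3 q27351 L804105 q28521, e3 q27352 L791899 q26275, e3 q27353 L804128 q28524, e3 q27354 (flp_a L791921) q26128, e3 q27355 (flp_a L791931) q26129, e3 q27356 (flp_a L804146) q28525, e3 q27357 L791951 q26290, e3 q27358 L791963 q26133, e3 q27359 (flp_a L804176) q28528, e3 q27360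 L791973 q26301, e3 q27361 L791979 q26303, e3 q27362 L791990 q26305, e3 q27363 L792002 q26309, e3 q27364 L792008 q26314, e3 q27365 L792017 q26320, e3 q27366 L804200 q28532, e3 q27367 L792035 q26398, e3 q27368 L792047 q26485, e3 q27369 L792061 q26486, e3 q27370 L804252 q28536, e3 q27371 (flp_a L802454) q28369, e3 q27372 (flp_a L802470) q28370, e3 q27373 L804280 q28539, e3 q27374 (flp_a L803535) q28471, e3 q27375 (flp_a L792113) q26152, e3 q27376 L792121 q26158, e3 q27377 L792131 q26159, e3 q27378 L792145 q26160, e3 q27379 L792159 q26161, e3 q27380 L792170 q26384, e3 q27381 (flp_a L797249) q27970, e3 q27382 (flp_a L797265) q27971, e3 q27383 L804420 q28552, e3 q27384 (flp_a L804313) q28543, e3 q27385 (flp_a L804325) q28544, e3 q27386 (flp_a L804337) q28545, e3 q27387 (flp_a L804347) q28546, e3 q27388 (flp_a L804362) q28547, e3 q27389 L792253 q26463, e3 q27390 L792267 q26464, e3 q27391 L792281 q26432, trivial⟩ (by decide +kernel)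

theorem ce_a_428 : ∀ r, r < 64 → sm ga (Qf (27392 + r)) = Qf (tab Gen.a (27392 + r)) :=
  edges_tab (sm ga) Qf (tab Gen.a) 27392 [(27392, 28561), (27393, 27960), (27394, 27961), (27395, 28565), (27396, 28474), (27397, 28475), (27398, 26168), (27399, 28570), (27400, 28478), (27401, 28479), (27402, 28573), (27403, 27967), (27404, 26174), (27405, 28576), (27406, 28482), (27407, 28579), (27408, 28336), (27409, 28337), (27410, 28582), (27411, 28484), (27412, 26181), (27413, 28585), (27414, 26719), (27415, 28587), (27416, 26185), (27417, 27976), (27418, 27977), (27419, 28590), (27420, 28487), (27421, 28488), (27422, 26189), (27423, 28594), (27424, 28491), (27425, 28597), (27426, 26193), (27427, 26418), (27428, 28599), (27429, 28600), (27430, 26197), (27431, 28601), (27432, 26199), (27433, 28602), (27434, 28603), (27435, 27979), (27436, 26204), (27437, 28606), (27438, 27991), (27439, 26207), (27440, 28609), (27441, 28494), (27442, 27992), (27443, 27956), (27444, 28495), (27445, 28038), (27446, 28496), (27447, 27994), (27448, 27995),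 (27449, 28030), (27450, 28041), (27451, 28105), (27452, 28622), (27453, 28623), (27454, 28307), (27455, 28153)]
    ⟨e3 q27392 L804510 q28561, e3 q27393 (flp_a L797114) q27960, e3 q27394 (flp_a L797130) q27961, e3 q27395 L804547 q28565, e3 q27396 (flp_a L803575) q28474, e3 q27397 (flp_a L803585) q28475, e3 q27398 (flp_a L792335) q26168, e3 q27399 (flp_a L804575) q28570, e3 q27400 (flp_a L803626) q28478, e3 q27401 (flp_a L803638) q28479, e3 q27402 L804591 q28573, e3 q27403 (flp_a L797203) q27967, e3 q27404 (flp_a L792379) q26174, e3 q27405 (flp_a L804624) q28576, e3 q27406 (flp_a L803668) q28482, e3 q27407 L804639 q28579, e3 q27408 (flp_a L802109) q28336, e3 q27409 (flp_a L802125) q28337, e3 q27410 L804677 q28582, e3 q27411 (flp_a L803689) q28484, e3 q27412 (flp_a L792445) q26181, e3 q27413 L804700 q28585, e3 q27414 L792467 q26719, e3 q27415 L804730 q28587, e3 q27416 (flp_a L792493) q26185, e3 q27417 (flp_a L797339) q27976, e3 q27418 (flp_a L797355) q27977, e3 q27419 L804766 q28590, e3 q27420 (flp_a L803729) q28487, e3 q27421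 (flp_a L803739) q28488, e3 q27422 (flp_a L792549) q26189, e3 q27423 (flp_a L804798) q28594, e3 q27424 (flp_a L803771) q28491, e3 q27425 L804826 q28597, e3 q27426 (flp_a L792589) q26193, e3 q27427 L792601 q26418, e3 q27428 L804854 q28599, e3 q27429 L804864 q28600, e3 q27430 (flp_a L792633) q26197, e3 q27431 L804878 q28601, e3 q27432 (flp_a L792657) q26199, e3 q27433 (flp_a L804894) q28602, e3 q27434 L804904 q28603, e3 q27435 (flp_a L797383) q27979, e3 q27436 (flp_a L792695) q26204, e3 q27437 (flp_a L804936) q28606, e3 q27438 (flp_a L797537) q27991, e3 q27439 L792725 q26207, e3 q27440 (flp_a L804968) q28609, e3 q27441 (flp_a L803805) q28494, e3 q27442 (flp_a L797551) q27992, e3 q27443 (flp_a L797056) q27956, e3 q27444 (flp_a L803815) q28495, e3 q27445 (flp_a L798173) q28038, e3 q27446 (flp_a L803825) q28496, e3 q27447 (flp_a L797584) q27994, e3 q27448 (flp_a L797598) q27995, e3 q27449 (flp_a L798079) q28030, e3 q27450 (flp_a L798218) q28041, e3 q27451 (flp_a L799136) q28105, e3 q27452 L805109 q28622, e3 q27453 L805123 q28623,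 e3 q27454 (flp_a L801803) q28307, e3 q27455 (flp_a L799741) q28153, trivial⟩ (by decide +kernel)

theorem ce_a_429 : ∀ r, r < 64 → sm ga (Qf (27456 + r)) = Qf (tab Gen.a (27456 + r)) :=
  edges_tab (sm ga) Qf (tab Gen.a) 27456 [(27456, 28626), (27457, 28498), (27458, 26666), (27459, 26225), (27460, 28630), (27461, 26665), (27462, 28632), (27463, 28339), (27464, 26230), (27465, 28635), (27466, 28502), (27467, 28638), (27468, 28639), (27469, 28119), (27470, 26236), (27471, 28308), (27472, 28309), (27473, 26677), (27474, 28644), (27475, 28504), (27476, 28647), (27477, 26242), (27478, 27954), (27479, 27955), (27480, 28651), (27481, 28507), (27482, 28109), (27483, 26246), (27484, 28655), (27485, 28510), (27486, 26249), (27487, 28658), (27488, 28005), (27489, 26252), (27490, 28661), (27491, 28513), (27492, 28514), (27493, 26256), (27494, 28665), (27495, 28412), (27496, 26258), (27497, 26440), (27498, 28670), (27499, 28132), (27500, 26262), (27501, 28673), (27502, 26264), (27503, 28674), (27504, 26267), (27505, 26455), (27506, 26456),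 (27507, 28016), (27508, 28017), (27509, 28681), (27510, 28019), (27511, 28020), (27512, 28685), (27513, 28520), (27514, 26274), (27515, 28688), (27516, 28523), (27517, 26689), (27518, 26277), (27519, 28693)]
    ⟨e3 q27456 L805161 q28626, e3 q27457 (flp_a L803850) q28498, e3 q27458 L792922 q26666, e3 q27459 (flp_a L792937) q26225, e3 q27460 (flp_a L805200) q28630, e3 q27461 L792963 q26665, e3 q27462 L805232 q28632, e3 q27463 (flp_a L802152) q28339, e3 q27464 (flp_a L792989) q26230, e3 q27465 (flp_a L805251) q28635, e3 q27466 (flp_a L803894) q28502, e3 q27467 L805272 q28638, e3 q27468 L805286 q28639, e3 q27469 (flp_a L799297) q28119, e3 q27470 (flp_a L793034) q26236, e3 q27471 (flp_a L801819) q28308, e3 q27472 (flp_a L801835) q28309, e3 q27473 L793063 q26677, e3 q27474 L805340 q28644, e3 q27475 (flp_a L803917) q28504, e3 q27476 L805361 q28647, e3 q27477 (flp_a L793103) q26242, e3 q27478 (flp_a L797024) q27954, e3 q27479 (flp_a L797040) q27955, e3 q27480 L805407 q28651, e3 q27481 (flp_a L803955) q28507, e3 q27482 (flp_a L799173)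 q28109, e3 q27483 (flp_a L793153) q26246, e3 q27484 (flp_a L805439) q28655, e3 q27485 (flp_a L803991) q28510, e3 q27486 L793181 q26249, e3 q27487 L805465 q28658, e3 q27488 (flp_a L797737) q28005, e3 q27489 (flp_a L793207) q26252, e3 q27490 (flp_a L805491) q28661, e3 q27491 (flp_a L804017) q28513, e3 q27492 (flp_a L804025) q28514, e3 q27493 L793229 q26256, e3 q27494 (flp_a L805513) q28665, e3 q27495 (flp_a L802910) q28412, e3 q27496 (flp_a L793249) q26258, e3 q27497 L793257 q26440, e3 q27498 L805553 q28670, e3 q27499 (flp_a L799465) q28132, e3 q27500 (flp_a L793281) q26262, e3 q27501 L805578 q28673, e3 q27502 (flp_a L793303) q26264, e3 q27503 (flp_a L805594) q28674, e3 q27504 L793317 q26267, e3 q27505 L793329 q26455, e3 q27506 L793341 q26456, e3 q27507 (flp_a L797895) q28016, e3 q27508 (flp_a L797911) q28017, e3 q27509 L805652 q28681, e3 q27510 (flp_a L797940) q28019, e3 q27511 (flp_a L797952) q28020, e3 q27512 L805681 q28685, e3 q27513 (flp_a L804093) q28520, e3 q27514 (flp_a L793398) q26274, e3 q27515 (flp_a L805700) q28688,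 e3 q27516 (flp_a L804123) q28523, e3 q27517 L793415 q26689, e3 q27518 (flp_a L793423) q26277, e3 q27519 (flp_a L805736) q28693, trivial⟩ (by decide +kernel)

theorem ce_a_430 : ∀ r, r < 64 → sm ga (Qf (27520 + r)) = Qf (tab Gen.a (27520 + r)) :=
  edges_tab (sm ga) Qf (tab Gen.a) 27520 [(27520, 26659), (27521, 26280), (27522, 28695), (27523, 28696), (27524, 26435), (27525, 28699), (27526, 27998), (27527, 27999), (27528, 26285), (27529, 28702), (27530, 28031), (27531, 26289), (27532, 28704), (27533, 28705), (27534, 28527), (27535, 26293), (27536, 26294), (27537, 28708), (27538, 28009), (27539, 26297), (27540, 28710), (27541, 28037), (27542, 26300), (27543, 28713), (27544, 28714), (27545, 28530), (27546, 27957), (27547, 28531), (27548, 27965), (27549, 28430), (27550, 28040), (27551, 26308), (27552, 28720), (27553, 28428), (27554, 26311), (27555, 28723), (27556, 28724), (27557, 28429), (27558, 28102), (27559, 28042), (27560, 26318), (27561, 26319), (27562, 28727), (27563, 26322), (27564, 26323), (27565, 28331), (27566, 26326),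 (27567, 26331), (27568, 28729), (27569, 26436), (27570, 26336), (27571, 26338), (27572, 26339), (27573, 26342), (27574, 26343), (27575, 28731), (27576, 28238), (27577, 26347), (27578, 28733), (27579, 26705), (27580, 26350), (27581, 28736), (27582, 26574), (27583, 26353)]
    ⟨e3 q27520 L793443 q26659, e3 q27521 L793453 q26280, e3 q27522 (flp_a L805760) q28695, e3 q27523 (flp_a L805772) q28696, e3 q27524 L793483 q26435, e3 q27525 L805802 q28699, e3 q27526 (flp_a L797643) q27998, e3 q27527 (flp_a L797655) q27999, e3 q27528 (flp_a L793517) q26285, e3 q27529 (flp_a L805830) q28702, e3 q27530 (flp_a L798093) q28031, e3 q27531 L793541 q26289, e3 q27532 (flp_a L805844) q28704, e3 q27533 (flp_a L805854) q28705, e3 q27534 (flp_a L804166) q28527, e3 q27535 L793573 q26293, e3 q27536 (flp_a L793581) q26294, e3 q27537 (flp_a L805884) q28708, e3 q27538 (flp_a L797787) q28009, e3 q27539 L793607 q26297, e3 q27540 (flp_a L805904) q28710, e3 q27541 (flp_a L798161) q28037, e3 q27542 L793631 q26300, e3 q27543 (flp_a L805932) q28713, e3 q27544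 (flp_a L805938) q28714, e3 q27545 (flp_a L804186) q28530, e3 q27546 (flp_a L797071) q27957, e3 q27547 (flp_a L804192) q28531, e3 q27548 (flp_a L797179) q27965, e3 q27549 (flp_a L803059) q28430, e3 q27550 (flp_a L798204) q28040, e3 q27551 L793694 q26308, e3 q27552 (flp_a L805980) q28720, e3 q27553 (flp_a L803033) q28428, e3 q27554 L793722 q26311, e3 q27555 (flp_a L806004) q28723, e3 q27556 (flp_a L806014) q28724, e3 q27557 (flp_a L803047) q28429, e3 q27558 (flp_a L799105) q28102, e3 q27559 (flp_a L798233) q28042, e3 q27560 L793775 q26318, e3 q27561 L793785 q26319, e3 q27562 (flp_a L806044) q28727, e3 q27563 L793803 q26322, e3 q27564 L793819 q26323, e3 q27565 (flp_a L802048) q28331, e3 q27566 L793841 q26326, e3 q27567 L793852 q26331, e3 q27568 (flp_a L806062) q28729, e3 q27569 L793869 q26436, e3 q27570 (flp_a L793878) q26336, e3 q27571 (flp_a L793894) q26338, e3 q27572 (flp_a L793910) q26339, e3 q27573 (flp_a L793926) q26342, e3 q27574 (flp_a L793938) q26343, e3 q27575 L806075 q28731, e3 q27576 (flp_a L800914) q28238, e3 q27577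 (flp_a L793974) q26347, e3 q27578 L806103 q28733, e3 q27579 L794002 q26705, e3 q27580 (flp_a L794014) q26350, e3 q27581 L806146 q28736, e3 q27582 L794042 q26574, e3 q27583 (flp_a L794054) q26353, trivial⟩ (by decide +kernel)

theorem ce_a_431 : ∀ r, r < 64 → sm ga (Qf (27584 + r)) = Qf (tab Gen.a (27584 + r)) :=
  edges_tab (sm ga) Qf (tab Gen.a) 27584 [(27584, 28738), (27585, 26356), (27586, 28739), (27587, 26438), (27588, 26360), (27589, 26361), (27590, 28741), (27591, 26365), (27592, 28742), (27593, 26368), (27594, 26369), (27595, 28743), (27596, 26449), (27597, 26373), (27598, 28746), (27599, 26654), (27600, 26655), (27601, 28749), (27602, 26458), (27603, 26459), (27604, 28752), (27605, 26461), (27606, 26383), (27607, 28755), (27608, 28203), (27609, 26658), (27610, 26468), (27611, 26469), (27612, 28760), (27613, 26473), (27614, 26474), (27615, 28764), (27616, 26476), (27617, 26392), (27618, 28766), (27619, 26479), (27620, 26480), (27621, 26396), (27622, 28769), (27623, 28169), (27624, 28027), (27625, 26400), (27626, 28773),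 (27627, 28034), (27628, 28775), (27629, 26501), (27630, 26405), (27631, 28778), (27632, 26507), (27633, 26408), (27634, 28780), (27635, 26411), (27636, 28781), (27637, 26520), (27638, 28003), (27639, 28782), (27640, 28124), (27641, 27974), (27642, 28785), (27643, 28137), (27644, 26423), (27645, 28788), (27646, 27958), (27647, 27959)]
    ⟨e3 q27584 (flp_a L806174) q28738, e3 q27585 (flp_a L794072) q26356, e3 q27586 L806180 q28739, e3 q27587 L794094 q26438, e3 q27588 (flp_a L794104) q26360, e3 q27589 (flp_a L794120) q26361, e3 q27590 L806202 q28741, e3 q27591 (flp_a L794148) q26365, e3 q27592 (flp_a L806218) q28742, e3 q27593 L794164 q26368, e3 q27594 (flp_a L794170) q26369, e3 q27595 L806222 q28743, e3 q27596 L794192 q26449, e3 q27597 (flp_a L794198) q26373, e3 q27598 (flp_a L806243) q28746, e3 q27599 L794216 q26654, e3 q27600 L794226 q26655, e3 q27601 L806273 q28749, e3 q27602 L794250 q26458, e3 q27603 L794264 q26459, e3 q27604 L806309 q28752, e3 q27605 L794278 q26461, e3 q27606 (flp_a L794284) q26383, e3 q27607 L806328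 q28755, e3 q27608 (flp_a L800399) q28203, e3 q27609 L794306 q26658, e3 q27610 L794316 q26468, e3 q27611 L794328 q26469, e3 q27612 L806372 q28760, e3 q27613 L794347 q26473, e3 q27614 L794361 q26474, e3 q27615 L806418 q28764, e3 q27616 L794381 q26476, e3 q27617 (flp_a L794391) q26392, e3 q27618 (flp_a L806442) q28766, e3 q27619 L794409 q26479, e3 q27620 L794419 q26480, e3 q27621 (flp_a L794423) q26396, e3 q27622 L806466 q28769, e3 q27623 (flp_a L799947) q28169, e3 q27624 (flp_a L798039) q28027, e3 q27625 (flp_a L794465) q26400, e3 q27626 (flp_a L806500) q28773, e3 q27627 (flp_a L798125) q28034, e3 q27628 L806516 q28775, e3 q27629 L794499 q26501, e3 q27630 (flp_a L794507) q26405, e3 q27631 (flp_a L806549) q28778, e3 q27632 L794527 q26507, e3 q27633 (flp_a L794533) q26408, e3 q27634 (flp_a L806565) q28780, e3 q27635 L794549 q26411, e3 q27636 (flp_a L806573) q28781, e3 q27637 L794563 q26520, e3 q27638 (flp_a L797711) q28003, e3 q27639 L806579 q28782, e3 q27640 (flp_a L799359) q28124, e3 q27641 (flp_a L797308) q27974, e3 q27642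 L806615 q28785, e3 q27643 (flp_a L799541) q28137, e3 q27644 (flp_a L794626) q26423, e3 q27645 (flp_a L806642) q28788, e3 q27646 (flp_a L797083) q27958, e3 q27647 (flp_a L797099) q27959, trivial⟩ (by decide +kernel)

theorem ce_a_432 : ∀ r, r < 64 → sm ga (Qf (27648 + r)) = Qf (tab Gen.a (27648 + r)) :=
  edges_tab (sm ga) Qf (tab Gen.a) 27648 [(27648, 28792), (27649, 27963), (27650, 27964), (27651, 26430), (27652, 28320), (27653, 28152), (27654, 28797), (27655, 28130), (27656, 28081), (27657, 28082), (27658, 28801), (27659, 28698), (27660, 26437), (27661, 28804), (27662, 28805), (27663, 28151), (27664, 28808), (27665, 26443), (27666, 28809), (27667, 28810), (27668, 28811), (27669, 28101), (27670, 26448), (27671, 28814), (27672, 28745), (27673, 26450), (27674, 26452), (27675, 26453), (27676, 28816), (27677, 28676), (27678, 28677), (27679, 26457), (27680, 28820), (27681, 28751), (27682, 26460), (27683, 28822), (27684, 28754), (27685, 28825), (27686, 28559), (27687, 26465), (27688, 28827), (27689, 28083), (27690, 28084), (27691,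 28830), (27692, 28759), (27693, 28833), (27694, 28086), (27695, 28087), (27696, 26472), (27697, 28837), (27698, 28762), (27699, 28763), (27700, 26475), (27701, 28840), (27702, 26478), (27703, 28841), (27704, 28768), (27705, 28843), (27706, 26493), (27707, 26484), (27708, 28845), (27709, 28535), (27710, 28848), (27711, 28202)]
    ⟨e3 q27648 L806669 q28792, e3 q27649 (flp_a L797155) q27963, e3 q27650 (flp_a L797169) q27964, e3 q27651 (flp_a L794683) q26430, e3 q27652 (flp_a L801956) q28320, e3 q27653 (flp_a L799726) q28152, e3 q27654 L806713 q28797, e3 q27655 (flp_a L799435) q28130, e3 q27656 (flp_a L798840) q28081, e3 q27657 (flp_a L798856) q28082, e3 q27658 L806759 q28801, e3 q27659 (flp_a L805794) q28698, e3 q27660 (flp_a L794771) q26437, e3 q27661 (flp_a L806786) q28804, e3 q27662 L806792 q28805, e3 q27663 (flp_a L799716) q28151, e3 q27664 L806809 q28808, e3 q27665 (flp_a L794815) q26443, e3 q27666 (flp_a L806827) q28809, e3 q27667 L806833 q28810, e3 q27668 L806843 q28811, e3 q27669 (flp_a L799093) q28101, e3 q27670 (flp_a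 L794855) q26448, e3 q27671 (flp_a L806864) q28814, e3 q27672 (flp_a L806236) q28745, e3 q27673 (flp_a L794868) q26450, e3 q27674 L794880 q26452, e3 q27675 (flp_a L794884) q26453, e3 q27676 L806872 q28816, e3 q27677 (flp_a L805610) q28676, e3 q27678 (flp_a L805620) q28677, e3 q27679 (flp_a L794911) q26457, e3 q27680 (flp_a L806895) q28820, e3 q27681 (flp_a L806299) q28751, e3 q27682 (flp_a L794931) q26460, e3 q27683 (flp_a L806909) q28822, e3 q27684 (flp_a L806323) q28754, e3 q27685 L806920 q28825, e3 q27686 (flp_a L804486) q28559, e3 q27687 (flp_a L794966) q26465, e3 q27688 (flp_a L806944) q28827, e3 q27689 (flp_a L798871) q28083, e3 q27690 (flp_a L798887) q28084, e3 q27691 L806974 q28830, e3 q27692 (flp_a L806364) q28759, e3 q27693 L806999 q28833, e3 q27694 (flp_a L798912) q28086, e3 q27695 (flp_a L798926) q28087, e3 q27696 (flp_a L795045) q26472, e3 q27697 (flp_a L807029) q28837, e3 q27698 (flp_a L806398) q28762, e3 q27699 (flp_a L806410) q28763, e3 q27700 (flp_a L795073) q26475, e3 q27701 (flp_a L807051) q28840, e3 q27702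 L795093 q26478, e3 q27703 (flp_a L807059) q28841, e3 q27704 (flp_a L806460) q28768, e3 q27705 L807067 q28843, e3 q27706 L795121 q26493, e3 q27707 (flp_a L795129) q26484, e3 q27708 L807091 q28845, e3 q27709 (flp_a L804242) q28535, e3 q27710 L807110 q28848, e3 q27711 (flp_a L800387) q28202, trivial⟩ (by decide +kernel)

theorem ce_a_433 : ∀ r, r < 64 → sm ga (Qf (27712 + r)) = Qf (tab Gen.a (27712 + r)) :=
  edges_tab (sm ga) Qf (tab Gen.a) 27712 [(27712, 26489), (27713, 28850), (27714, 28851), (27715, 26492), (27716, 28852), (27717, 26495), (27718, 28853), (27719, 26702), (27720, 28856), (27721, 28104), (27722, 26500), (27723, 28859), (27724, 28777), (27725, 26502), (27726, 28861), (27727, 28108), (27728, 26506), (27729, 28863), (27730, 28864), (27731, 28181), (27732, 26510), (27733, 28866), (27734, 26513), (27735, 26515), (27736, 26516), (27737, 28088), (27738, 26521), (27739, 26522), (27740, 26523), (27741, 28867), (27742, 26548), (27743, 28218), (27744, 28219), (27745, 28872), (27746, 28384), (27747, 28385), (27748, 26530),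 (27749, 28876), (27750, 28394), (27751, 28220), (27752, 28221), (27753, 28881), (27754, 28345), (27755, 28346), (27756, 28885), (27757, 28223), (27758, 28224), (27759, 26540), (27760, 28888), (27761, 28441), (27762, 26543), (27763, 28890), (27764, 28349), (27765, 26547), (27766, 28892), (27767, 28295), (27768, 28894), (27769, 26567), (27770, 26554), (27771, 28897), (27772, 26557), (27773, 26560), (27774, 28898), (27775, 26562)]
    ⟨e3 q27712 (flp_a L795161) q26489, e3 q27713 (flp_a L807126) q28850, e3 q27714 L807132 q28851, e3 q27715 (flp_a L795187) q26492, e3 q27716 (flp_a L807148) q28852, e3 q27717 L795203 q26495, e3 q27718 L807152 q28853, e3 q27719 L795219 q26702, e3 q27720 L807181 q28856, e3 q27721 (flp_a L799126) q28104, e3 q27722 (flp_a L795239) q26500, e3 q27723 (flp_a L807200) q28859, e3 q27724 (flp_a L806538) q28777, e3 q27725 (flp_a L795254) q26502, e3 q27726 (flp_a L807210) q28861, e3 q27727 (flp_a L799165) q28108, e3 q27728 L795272 q26506, e3 q27729 (flp_a L807222) q28863, e3 q27730 L807226 q28864, e3 q27731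 (flp_a L800111) q28181, e3 q27732 (flp_a L795294) q26510, e3 q27733 (flp_a L807240) q28866, e3 q27734 L795308 q26513, e3 q27735 L795312 q26515, e3 q27736 (flp_a L795314) q26516, e3 q27737 (flp_a L798936) q28088, e3 q27738 (flp_a L795326) q26521, e3 q27739 (flp_a L795342) q26522, e3 q27740 (flp_a L795358) q26523, e3 q27741 (flp_a L807246) q28867, e3 q27742 L795372 q26548, e3 q27743 (flp_a L800643) q28218, e3 q27744 (flp_a L800659) q28219, e3 q27745 L807283 q28872, e3 q27746 (flp_a L802625) q28384, e3 q27747 (flp_a L802635) q28385, e3 q27748 (flp_a L795410) q26530, e3 q27749 (flp_a L807306) q28876, e3 q27750 (flp_a L802750) q28394, e3 q27751 (flp_a L800674) q28220, e3 q27752 (flp_a L800690) q28221, e3 q27753 L807345 q28881, e3 q27754 (flp_a L802218) q28345, e3 q27755 (flp_a L802230) q28346, e3 q27756 L807376 q28885, e3 q27757 (flp_a L800713) q28223, e3 q27758 (flp_a L800725) q28224, e3 q27759 (flp_a L795492) q26540, e3 q27760 (flp_a L807400) q28888, e3 q27761 (flp_a L803192) q28441, e3 q27762 (flp_a L795510) q26543, e3 q27763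 (flp_a L807412) q28890, e3 q27764 (flp_a L802275) q28349, e3 q27765 L795528 q26547, e3 q27766 (flp_a L807422) q28892, e3 q27767 (flp_a L801664) q28295, e3 q27768 L807432 q28894, e3 q27769 L795554 q26567, e3 q27770 (flp_a L795562) q26554, e3 q27771 (flp_a L807459) q28897, e3 q27772 (flp_a L795576) q26557, e3 q27773 L795586 q26560, e3 q27774 (flp_a L807467) q28898, e3 q27775 (flp_a L795594) q26562, trivial⟩ (by decide +kernel)

theorem ce_a_434 : ∀ r, r < 64 → sm ga (Qf (27776 + r)) = Qf (tab Gen.a (27776 + r)) :=
  edges_tab (sm ga) Qf (tab Gen.a) 27776 [(27776, 28899), (27777, 28900), (27778, 28092), (27779, 26566), (27780, 28903), (27781, 28896), (27782, 26569), (27783, 28905), (27784, 26571), (27785, 28906), (27786, 26573), (27787, 28907), (27788, 26576), (27789, 28908), (27790, 26579), (27791, 26580), (27792, 28909), (27793, 26582), (27794, 28910), (27795, 26584), (27796, 26586), (27797, 28911), (27798, 26588), (27799, 28912), (27800, 26591), (27801, 26592), (27802, 26594), (27803, 26596), (27804, 28913), (27805, 28914),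 (27806, 26613), (27807, 26601), (27808, 26604), (27809, 28916), (27810, 28446), (27811, 26609), (27812, 28919), (27813, 28226), (27814, 26612), (27815, 28922), (27816, 28637), (27817, 28924), (27818, 28146), (27819, 26617), (27820, 28926), (27821, 28437), (27822, 26620), (27823, 26621), (27824, 28929), (27825, 26624), (27826, 28930), (27827, 26669), (27828, 26628), (27829, 26629), (27830, 28933), (27831, 26632), (27832, 28934), (27833, 28444), (27834, 26636), (27835, 26637), (27836, 28936), (27837, 26641), (27838, 26642), (27839, 28937)]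
    ⟨e3 q27776 (flp_a L807473) q28899, e3 q27777 L807479 q28900, e3 q27778 (flp_a L798991) q28092, e3 q27779 (flp_a L795622) q26566, e3 q27780 (flp_a L807500) q28903, e3 q27781 (flp_a L807452) q28896, e3 q27782 L795637 q26569, e3 q27783 (flp_a L807510) q28905, e3 q27784 (flp_a L795647) q26571, e3 q27785 (flp_a L807516) q28906, e3 q27786 (flp_a L795661) q26573, e3 q27787 (flp_a L807524) q28907, e3 q27788 (flp_a L795673) q26576, e3 q27789 (flp_a L807530) q28908, e3 q27790 L795689 q26579, e3 q27791 (flp_a L795693) q26580, e3 q27792 (flp_a L807538) q28909, e3 q27793 (flp_a L795701) q26582, e3 q27794 (flp_a L807544) q28910, e3 q27795 (flp_a L795715) q26584, e3 q27796 L795723 q26586, e3 q27797 (flp_a L807552) q28911, e3 q27798 (flp_a L795733) q26588, e3 q27799 (flp_a L807558) q28912, e3 q27800 L795747 q26591, e3 q27801 (flp_a L795751) q26592, e3 q27802 L795759 q26594, e3 q27803 L795767 q26596, e3 q27804 (flp_a L807564) q28913, e3 q27805 L807566 q28914, e3 q27806 L795779 q26613, e3 q27807 (flp_a L795785) q26601, e3 q27808 (flp_a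 L795793) q26604, e3 q27809 L807578 q28916, e3 q27810 (flp_a L803243) q28446, e3 q27811 (flp_a L795811) q26609, e3 q27812 L807595 q28919, e3 q27813 (flp_a L800747) q28226, e3 q27814 (flp_a L795835) q26612, e3 q27815 (flp_a L807624) q28922, e3 q27816 (flp_a L805263) q28637, e3 q27817 L807634 q28924, e3 q27818 (flp_a L799646) q28146, e3 q27819 (flp_a L795866) q26617, e3 q27820 L807652 q28926, e3 q27821 (flp_a L803150) q28437, e3 q27822 (flp_a L795888) q26620, e3 q27823 (flp_a L795894) q26621, e3 q27824 (flp_a L807675) q28929, e3 q27825 (flp_a L795908) q26624, e3 q27826 L807679 q28930, e3 q27827 L795928 q26669, e3 q27828 (flp_a L795936) q26628, e3 q27829 (flp_a L795948) q26629, e3 q27830 (flp_a L807710) q28933, e3 q27831 (flp_a L795962) q26632, e3 q27832 (flp_a L807716) q28934, e3 q27833 (flp_a L803220) q28444, e3 q27834 L795979 q26636, e3 q27835 (flp_a L795981) q26637, e3 q27836 (flp_a L807726) q28936, e3 q27837 (flp_a L795991) q26641, e3 q27838 (flp_a L795999) q26642, e3 q27839 (flp_a L807732) q28937, trivial⟩ (by decide +kernel)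

theorem ce_a_435 : ∀ r, r < 64 → sm ga (Qf (27840 + r)) = Qf (tab Gen.a (27840 + r)) :=
  edges_tab (sm ga) Qf (tab Gen.a) 27840 [(27840, 26708), (27841, 26645), (27842, 26647), (27843, 26648), (27844, 26650), (27845, 28939), (27846, 26657), (27847, 28941), (27848, 28748), (27849, 26656), (27850, 28943), (27851, 28757), (27852, 28945), (27853, 28406), (27854, 26661), (27855, 28947), (27856, 26664), (27857, 28948), (27858, 28629), (27859, 26667), (27860, 26668), (27861, 28951), (27862, 28932), (27863, 26671), (27864, 26672), (27865, 26674), (27866, 28953), (27867, 28374), (27868, 28955), (27869, 28141), (27870, 26679), (27871, 26680), (27872, 28958), (27873, 27988), (27874, 27981), (27875, 27982), (27876, 28964), (27877, 27984), (27878, 27985), (27879, 28967), (27880, 28121), (27881, 26688), (27882, 28970), (27883, 28691), (27884, 26690), (27885, 28972), (27886, 27973), (27887, 26694), (27888, 28974), (27889, 26698), (27890, 26699), (27891, 26701), (27892, 28975), (27893, 28855), (27894, 26704), (27895, 28977), (27896, 28735),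 (27897, 26707), (27898, 28979), (27899, 28454), (27900, 26709), (27901, 28982), (27902, 28002), (27903, 26714)]
    ⟨e3 q27840 L796011 q26708, e3 q27841 (flp_a L796014) q26645, e3 q27842 (flp_a L796020) q26647, e3 q27843 (flp_a L796026) q26648, e3 q27844 (flp_a L796032) q26650, e3 q27845 L807740 q28939, e3 q27846 L796046 q26657, e3 q27847 L807756 q28941, e3 q27848 (flp_a L806263) q28748, e3 q27849 (flp_a L796064) q26656, e3 q27850 (flp_a L807772) q28943, e3 q27851 (flp_a L806344) q28757, e3 q27852 L807780 q28945, e3 q27853 (flp_a L802854) q28406, e3 q27854 (flp_a L796090) q26661, e3 q27855 (flp_a L807794) q28947, e3 q27856 L796104 q26664, e3 q27857 L807798 q28948, e3 q27858 (flp_a L805184) q28629, e3 q27859 (flp_a L796120) q26667, e3 q27860 (flp_a L796128) q26668, e3 q27861 (flp_a L807821) q28951, e3 q27862 (flp_a L807703) q28932, e3 q27863 (flp_a L796145) q26671, e3 q27864 (flp_a L796155) q26672, e3 q27865 (flp_a L796161) q26674, e3 q27866 L807831 q28953, e3 q27867 (flp_a L802517) q28374, e3 q27868 L807839 q28955, e3 q27869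 (flp_a L799576) q28141, e3 q27870 (flp_a L796189) q26679, e3 q27871 (flp_a L796195) q26680, e3 q27872 (flp_a L807860) q28958, e3 q27873 (flp_a L797497) q27988, e3 q27874 (flp_a L797407) q27981, e3 q27875 (flp_a L797423) q27982, e3 q27876 L807905 q28964, e3 q27877 (flp_a L797448) q27984, e3 q27878 (flp_a L797458) q27985, e3 q27879 L807924 q28967, e3 q27880 (flp_a L799325) q28121, e3 q27881 (flp_a L796271) q26688, e3 q27882 (flp_a L807947) q28970, e3 q27883 (flp_a L805720) q28691, e3 q27884 (flp_a L796286) q26690, e3 q27885 L807955 q28972, e3 q27886 (flp_a L797294) q27973, e3 q27887 (flp_a L796310) q26694, e3 q27888 (flp_a L807975) q28974, e3 q27889 L796328 q26698, e3 q27890 (flp_a L796332) q26699, e3 q27891 (flp_a L796338) q26701, e3 q27892 (flp_a L807983) q28975, e3 q27893 (flp_a L807174) q28855, e3 q27894 (flp_a L796353) q26704, e3 q27895 (flp_a L807993) q28977, e3 q27896 (flp_a L806135) q28735, e3 q27897 L796372 q26707, e3 q27898 (flp_a L808005) q28979, e3 q27899 (flp_a L803347) q28454, e3 q27900 (flp_a L796381) q26709,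 e3 q27901 (flp_a L808016) q28982, e3 q27902 (flp_a L797699) q28002, e3 q27903 L796413 q26714, trivial⟩ (by decide +kernel)

theorem ce_a_436 : ∀ r, r < 64 → sm ga (Qf (27904 + r)) = Qf (tab Gen.a (27904 + r)) :=
  edges_tab (sm ga) Qf (tab Gen.a) 27904 [(27904, 28984), (27905, 28191), (27906, 26718), (27907, 28986), (27908, 26720), (27909, 26722), (27910, 26724), (27911, 28987), (27912, 26727), (27913, 28988), (27914, 28026), (27915, 28991), (27916, 28022), (27917, 28023), (27918, 26731), (27919, 28993), (27920, 26734), (27921, 28994), (27922, 26737), (27923, 28995), (27924, 26740), (27925, 26743), (27926, 26745), (27927, 28996), (27928, 27174), (27929, 26751), (27930, 28998), (27931, 26753), (27932, 28999), (27933, 26755), (27934, 26756), (27935, 29000), (27936, 27209), (27937, 27203), (27938, 27240), (27939, 26761), (27940, 26763), (27941, 26764), (27942, 29004), (27943, 29005), (27944, 26770), (27945, 29006), (27946, 26773), (27947, 29007), (27948, 27202), (27949, 27112), (27950, 27200), (27951, 26928), (27952, 26929),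 (27953, 29013), (27954, 27478), (27955, 27479), (27956, 27443), (27957, 27546), (27958, 27646), (27959, 27647), (27960, 27393), (27961, 27394), (27962, 29026), (27963, 27649), (27964, 27650), (27965, 27548), (27966, 29030), (27967, 27403)]
    ⟨e3 q27904 (flp_a L808036) q28984, e3 q27905 (flp_a L800255) q28191, e3 q27906 L796439 q26718, e3 q27907 (flp_a L808058) q28986, e3 q27908 (flp_a L796455) q26720, e3 q27909 (flp_a L796461) q26722, e3 q27910 (flp_a L796467) q26724, e3 q27911 (flp_a L808066) q28987, e3 q27912 L796483 q26727, e3 q27913 (flp_a L808074) q28988, e3 q27914 (flp_a L798027) q28026, e3 q27915 L808090 q28991, e3 q27916 (flp_a L797977) q28022, e3 q27917 (flp_a L797991) q28023, e3 q27918 (flp_a L796519) q26731, e3 q27919 (flp_a L808106) q28993, e3 q27920 (flp_a L796533) q26734, e3 q27921 (flp_a L808114) q28994, e3 q27922 L796547 q26737, e3 q27923 (flp_a L808120) q28995, e3 q27924 (flp_a L796559) q26740, e3 q27925 L796567 q26743, e3 q27926 L796573 q26745, e3 q27927 L808126 q28996, e3 q27928 L796595 q27174, e3 q27929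 (flp_a L796611) q26751, e3 q27930 L808162 q28998, e3 q27931 (flp_a L796647) q26753, e3 q27932 L808182 q28999, e3 q27933 (flp_a L796683) q26755, e3 q27934 (flp_a L796701) q26756, e3 q27935 (flp_a L808204) q29000, e3 q27936 L796729 q27209, e3 q27937 L796745 q27203, e3 q27938 L796761 q27240, e3 q27939 (flp_a L796775) q26761, e3 q27940 (flp_a L796795) q26763, e3 q27941 (flp_a L796815) q26764, e3 q27942 (flp_a L808270) q29004, e3 q27943 L808286 q29005, e3 q27944 (flp_a L796867) q26770, e3 q27945 (flp_a L808308) q29006, e3 q27946 L796903 q26773, e3 q27947 (flp_a L808328) q29007, e3 q27948 L796927 q27202, e3 q27949 L796941 q27112, e3 q27950 L796959 q27200, e3 q27951 L796975 q26928, e3 q27952 L796991 q26929, e3 q27953 L808420 q29013, e3 q27954 L797024 q27478, e3 q27955 L797040 q27479, e3 q27956 L797056 q27443, e3 q27957 L797071 q27546, e3 q27958 L797083 q27646, e3 q27959 L797099 q27647, e3 q27960 L797114 q27393, e3 q27961 L797130 q27394, e3 q27962 L808622 q29026, e3 q27963 L797155 q27649, e3 q27964 L797169 q27650, e3 q27965 L797179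 q27548, e3 q27966 L808668 q29030, e3 q27967 L797203 q27403, trivial⟩ (by decide +kernel)

theorem ce_a_437 : ∀ r, r < 64 → sm ga (Qf (27968 + r)) = Qf (tab Gen.a (27968 + r)) :=
  edges_tab (sm ga) Qf (tab Gen.a) 27968 [(27968, 26790), (27969, 29033), (27970, 27381), (27971, 27382), (27972, 29037), (27973, 27886), (27974, 27641), (27975, 26914), (27976, 27417), (27977, 27418), (27978, 29044), (27979, 27435), (27980, 26799), (27981, 27874), (27982, 27875), (27983, 29050), (27984, 27877), (27985, 27878), (27986, 26803), (27987, 29054), (27988, 27873), (27989, 26806), (27990, 29056), (27991, 27438), (27992, 27442), (27993, 27242), (27994, 27447), (27995, 27448), (27996, 26814), (27997, 29062), (27998, 27526), (27999, 27527), (28000, 26817), (28001, 29067), (28002, 27902), (28003, 27638), (28004, 29070), (28005, 27488), (28006, 27222), (28007, 26823), (28008, 29074), (28009, 27538), (28010, 27346), (28011, 27288), (28012, 29078), (28013, 27287), (28014, 26829), (28015, 29080), (28016, 27507), (28017, 27508), (28018, 29084), (28019,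 27510), (28020, 27511), (28021, 29088), (28022, 27916), (28023, 27917), (28024, 26836), (28025, 29092), (28026, 27914), (28027, 27624), (28028, 26839), (28029, 29095), (28030, 27449), (28031, 27530)]
    ⟨e3 q27968 (flp_a L797215) q26790, e3 q27969 L808707 q29033, e3 q27970 L797249 q27381, e3 q27971 L797265 q27382, e3 q27972 L808772 q29037, e3 q27973 L797294 q27886, e3 q27974 L797308 q27641, e3 q27975 L797322 q26914, e3 q27976 L797339 q27417, e3 q27977 L797355 q27418, e3 q27978 L808880 q29044, e3 q27979 L797383 q27435, e3 q27980 (flp_a L797393) q26799, e3 q27981 L797407 q27874, e3 q27982 L797423 q27875, e3 q27983 L808967 q29050, e3 q27984 L797448 q27877, e3 q27985 L797458 q27878, e3 q27986 (flp_a L797469) q26803, e3 q27987 (flp_a L809012) q29054, e3 q27988 L797497 q27873, e3 q27989 (flp_a L797509) q26806, e3 q27990 (flp_a L809040) q29056, e3 q27991 L797537 q27438, e3 q27992 L797551 q27442, e3 q27993 L797568 q27242, e3 q27994 L797584 q27447, e3 q27995 L797598 q27448, e3 q27996 (flp_a L797609) q26814, e3 q27997 L809126 q29062,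 e3 q27998 L797643 q27526, e3 q27999 L797655 q27527, e3 q28000 (flp_a L797669) q26817, e3 q28001 (flp_a L809204) q29067, e3 q28002 L797699 q27902, e3 q28003 L797711 q27638, e3 q28004 L809244 q29070, e3 q28005 L797737 q27488, e3 q28006 L797749 q27222, e3 q28007 (flp_a L797763) q26823, e3 q28008 (flp_a L809302) q29074, e3 q28009 L797787 q27538, e3 q28010 L797799 q27346, e3 q28011 L797815 q27288, e3 q28012 L809360 q29078, e3 q28013 L797847 q27287, e3 q28014 (flp_a L797861) q26829, e3 q28015 (flp_a L809394) q29080, e3 q28016 L797895 q27507, e3 q28017 L797911 q27508, e3 q28018 L809457 q29084, e3 q28019 L797940 q27510, e3 q28020 L797952 q27511, e3 q28021 L809510 q29088, e3 q28022 L797977 q27916, e3 q28023 L797991 q27917, e3 q28024 (flp_a L798001) q26836, e3 q28025 (flp_a L809566) q29092, e3 q28026 L798027 q27914, e3 q28027 L798039 q27624, e3 q28028 (flp_a L798053) q26839, e3 q28029 (flp_a L809608) q29095, e3 q28030 L798079 q27449, e3 q28031 L798093 q27530, trivial⟩ (by decide +kernel)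

theorem ce_a_438 : ∀ r, r < 64 → sm ga (Qf (28032 + r)) = Qf (tab Gen.a (28032 + r)) :=
  edges_tab (sm ga) Qf (tab Gen.a) 28032 [(28032, 26843), (28033, 29099), (28034, 27627), (28035, 26847), (28036, 29101), (28037, 27541), (28038, 27445), (28039, 27135), (28040, 27550), (28041, 27450), (28042, 27559), (28043, 26915), (28044, 29105), (28045, 26862), (28046, 27199), (28047, 27049), (28048, 27050), (28049, 29109), (28050, 29110), (28051, 27293), (28052, 26868), (28053, 29112), (28054, 27296), (28055, 26871), (28056, 29115), (28057, 26873), (28058, 29116), (28059, 29117), (28060, 26925), (28061, 26878), (28062, 26879), (28063, 29120), (28064, 26951), (28065, 26882), (28066, 29123), (28067, 26884), (28068, 29124), (28069, 29125), (28070, 26971), (28071, 26889), (28072, 26892), (28073, 29128), (28074, 27014), (28075, 26895), (28076, 29130), (28077, 26898), (28078, 27133), (28079, 27134), (28080, 27136), (28081, 27656), (28082, 27657), (28083, 27689), (28084, 27690), (28085, 29140), (28086, 27694), (28087, 27695), (28088, 27737),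 (28089, 27163), (28090, 27164), (28091, 29147), (28092, 27778), (28093, 26909), (28094, 26912), (28095, 26913)]
    ⟨e3 q28032 L798107 q26843, e3 q28033 (flp_a L809662) q29099, e3 q28034 L798125 q27627, e3 q28035 L798141 q26847, e3 q28036 (flp_a L809688) q29101, e3 q28037 L798161 q27541, e3 q28038 L798173 q27445, e3 q28039 L798189 q27135, e3 q28040 L798204 q27550, e3 q28041 L798218 q27450, e3 q28042 L798233 q27559, e3 q28043 L798245 q26915, e3 q28044 L809735 q29105, e3 q28045 (flp_a L798277) q26862, e3 q28046 L798297 q27199, e3 q28047 L798313 q27049, e3 q28048 L798329 q27050, e3 q28049 L809803 q29109, e3 q28050 L809819 q29110, e3 q28051 L798374 q27293, e3 q28052 (flp_a L798388) q26868, e3 q28053 L809851 q29112, e3 q28054 L798420 q27296, e3 q28055 (flp_a L798434) q26871, e3 q28056 (flp_a L809904) q29115, e3 q28057 (flp_a L798462) q26873, e3 q28058 (flp_a L809920) q29116, e3 q28059 L809938 q29117, e3 q28060 L798516 q26925, e3 q28061 (flp_a L798530) q26878, e3 q28062 (flp_a L798546) q26879, e3 q28063 L809989 q29120, e3 q28064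 L798578 q26951, e3 q28065 (flp_a L798592) q26882, e3 q28066 (flp_a L810042) q29123, e3 q28067 (flp_a L798624) q26884, e3 q28068 (flp_a L810060) q29124, e3 q28069 L810076 q29125, e3 q28070 L798670 q26971, e3 q28071 (flp_a L798682) q26889, e3 q28072 L798698 q26892, e3 q28073 L810115 q29128, e3 q28074 L798732 q27014, e3 q28075 (flp_a L798748) q26895, e3 q28076 (flp_a L810153) q29130, e3 q28077 L798782 q26898, e3 q28078 L798796 q27133, e3 q28079 L798812 q27134, e3 q28080 L798828 q27136, e3 q28081 L798840 q27656, e3 q28082 L798856 q27657, e3 q28083 L798871 q27689, e3 q28084 L798887 q27690, e3 q28085 L810305 q29140, e3 q28086 L798912 q27694, e3 q28087 L798926 q27695, e3 q28088 L798936 q27737, e3 q28089 L798948 q27163, e3 q28090 L798964 q27164, e3 q28091 L810398 q29147, e3 q28092 L798991 q27778, e3 q28093 (flp_a L799001) q26909, e3 q28094 L799015 q26912, e3 q28095 L799031 q26913, trivial⟩ (by decide +kernel)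

theorem ce_a_439 : ∀ r, r < 64 → sm ga (Qf (28096 + r)) = Qf (tab Gen.a (28096 + r)) :=
  edges_tab (sm ga) Qf (tab Gen.a) 28096 [(28096, 29152), (28097, 29151), (28098, 29091), (28099, 29040), (28100, 29157), (28101, 27669), (28102, 27558), (28103, 29161), (28104, 27721), (28105, 27451), (28106, 26920), (28107, 29165), (28108, 27727), (28109, 27482), (28110, 26924), (28111, 29168), (28112, 29119), (28113, 27210), (28114, 27211), (28115, 29174), (28116, 29012), (28117, 26930), (28118, 29177), (28119, 27469), (28120, 29179), (28121, 27880), (28122, 26935), (28123, 29182), (28124, 27640), (28125, 29184), (28126, 27216), (28127, 27217), (28128, 26940), (28129, 29187), (28130, 27655), (28131, 29190), (28132, 27499), (28133, 26945), (28134, 29193), (28135, 29194), (28136, 29195), (28137, 27643), (28138, 26950), (28139, 29198), (28140, 29122), (28141, 27869), (28142, 26953), (28143, 26955), (28144, 29202), (28145, 29203), (28146, 27818), (28147, 26959), (28148, 29205), (28149, 26962), (28150, 29206), (28151, 27663), (28152, 27653),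 (28153, 27455), (28154, 27183), (28155, 27184), (28156, 29211), (28157, 27213), (28158, 27214), (28159, 26970)]
    ⟨e3 q28096 L810463 q29152, e3 q28097 (flp_a L810451) q29151, e3 q28098 (flp_a L809548) q29091, e3 q28099 (flp_a L808818) q29040, e3 q28100 L810512 q29157, e3 q28101 L799093 q27669, e3 q28102 L799105 q27558, e3 q28103 L810557 q29161, e3 q28104 L799126 q27721, e3 q28105 L799136 q27451, e3 q28106 (flp_a L799145) q26920, e3 q28107 (flp_a L810602) q29165, e3 q28108 L799165 q27727, e3 q28109 L799173 q27482, e3 q28110 (flp_a L799183) q26924, e3 q28111 (flp_a L810628) q29168, e3 q28112 (flp_a L809974) q29119, e3 q28113 L799216 q27210, e3 q28114 L799232 q27211, e3 q28115 L810702 q29174, e3 q28116 (flp_a L808406) q29012, e3 q28117 (flp_a L799269) q26930, e3 q28118 L810737 q29177, e3 q28119 L799297 q27469, e3 q28120 L810769 q29179, e3 q28121 L799325 q27880, e3 q28122 (flp_a L799337) q26935, e3 q28123 (flp_a L810810) q29182, e3 q28124 L799359 q27640, e3 q28125 L810832 q29184, e3 q28126 L799385 q27216, e3 q28127 L799399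 q27217, e3 q28128 (flp_a L799409) q26940, e3 q28129 (flp_a L810874) q29187, e3 q28130 L799435 q27655, e3 q28131 L810912 q29190, e3 q28132 L799465 q27499, e3 q28133 (flp_a L799479) q26945, e3 q28134 (flp_a L810965) q29193, e3 q28135 L810979 q29194, e3 q28136 L810997 q29195, e3 q28137 L799541 q27643, e3 q28138 (flp_a L799555) q26950, e3 q28139 (flp_a L811050) q29198, e3 q28140 (flp_a L810025) q29122, e3 q28141 L799576 q27869, e3 q28142 (flp_a L799590) q26953, e3 q28143 L799610 q26955, e3 q28144 (flp_a L811093) q29202, e3 q28145 L811105 q29203, e3 q28146 L799646 q27818, e3 q28147 (flp_a L799662) q26959, e3 q28148 (flp_a L811143) q29205, e3 q28149 L799696 q26962, e3 q28150 (flp_a L811161) q29206, e3 q28151 L799716 q27663, e3 q28152 L799726 q27653, e3 q28153 L799741 q27455, e3 q28154 L799756 q27183, e3 q28155 L799772 q27184, e3 q28156 L811229 q29211, e3 q28157 L799801 q27213, e3 q28158 L799811 q27214, e3 q28159 (flp_a L799824) q26970, trivial⟩ (by decide +kernel)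

theorem ce_a_440 : ∀ r, r < 64 → sm ga (Qf (28160 + r)) = Qf (tab Gen.a (28160 + r)) :=
  edges_tab (sm ga) Qf (tab Gen.a) 28160 [(28160, 29215), (28161, 29127), (28162, 29218), (28163, 26976), (28164, 26975), (28165, 29220), (28166, 26996), (28167, 26979), (28168, 29222), (28169, 27623), (28170, 29224), (28171, 27188), (28172, 26984), (28173, 29226), (28174, 27221), (28175, 26988), (28176, 29228), (28177, 29230), (28178, 26991), (28179, 29231), (28180, 29232), (28181, 27731), (28182, 26995), (28183, 29234), (28184, 26997), (28185, 26999), (28186, 29235), (28187, 27001), (28188, 29236), (28189, 27004), (28190, 29237), (28191, 27905), (28192, 29239), (28193, 27008), (28194, 27011), (28195, 29240), (28196, 27013), (28197, 29241), (28198, 27016), (28199, 27018), (28200, 29242), (28201, 29243), (28202, 27711), (28203, 27608), (28204, 29245), (28205, 27024), (28206, 29246), (28207, 29247), (28208, 27052), (28209, 29249), (28210, 27057), (28211, 27030), (28212, 29251), (28213, 27032), (28214, 27033), (28215, 29252), (28216, 27035),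 (28217, 29253), (28218, 27743), (28219, 27744), (28220, 27751), (28221, 27752), (28222, 29260), (28223, 27757)]
    ⟨e3 q28160 (flp_a L811278) q29215, e3 q28161 (flp_a L810104) q29127, e3 q28162 L811305 q29218, e3 q28163 L799869 q26976, e3 q28164 (flp_a L799885) q26975, e3 q28165 (flp_a L811343) q29220, e3 q28166 L799909 q26996, e3 q28167 L799927 q26979, e3 q28168 (flp_a L811371) q29222, e3 q28169 L799947 q27623, e3 q28170 L811393 q29224, e3 q28171 L799973 q27188, e3 q28172 (flp_a L799989) q26984, e3 q28173 (flp_a L811429) q29226, e3 q28174 L800015 q27221, e3 q28175 L800027 q26988, e3 q28176 (flp_a L811455) q29228, e3 q28177 L811485 q29230, e3 q28178 (flp_a L800065) q26991, e3 q28179 (flp_a L811505) q29231, e3 q28180 L811519 q29232, e3 q28181 L800111 q27731, e3 q28182 (flp_a L800127) q26995, e3 q28183 (flp_a L811557) q29234, e3 q28184 (flp_a L800155) q26997, e3 q28185 L800177 q26999, e3 q28186 (flp_a L811571) q29235, e3 q28187 (flp_a L800197) q27001, e3 q28188 (flp_a L811587) q29236, e3 q28189 L800227 q27004, e3 q28190 (flp_a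 L811603) q29237, e3 q28191 L800255 q27905, e3 q28192 L811635 q29239, e3 q28193 (flp_a L800289) q27008, e3 q28194 L800309 q27011, e3 q28195 (flp_a L811657) q29240, e3 q28196 (flp_a L800329) q27013, e3 q28197 (flp_a L811673) q29241, e3 q28198 L800351 q27016, e3 q28199 L800359 q27018, e3 q28200 (flp_a L811685) q29242, e3 q28201 (flp_a L811699) q29243, e3 q28202 L800387 q27711, e3 q28203 L800399 q27608, e3 q28204 L811717 q29245, e3 q28205 (flp_a L800433) q27024, e3 q28206 L811737 q29246, e3 q28207 L811757 q29247, e3 q28208 L800485 q27052, e3 q28209 L811789 q29249, e3 q28210 L800517 q27057, e3 q28211 (flp_a L800533) q27030, e3 q28212 L811825 q29251, e3 q28213 (flp_a L800565) q27032, e3 q28214 (flp_a L800579) q27033, e3 q28215 (flp_a L811847) q29252, e3 q28216 (flp_a L800609) q27035, e3 q28217 (flp_a L811865) q29253, e3 q28218 L800643 q27743, e3 q28219 L800659 q27744, e3 q28220 L800674 q27751, e3 q28221 L800690 q27752, e3 q28222 L811975 q29260, e3 q28223 L800713 q27757, trivial⟩ (by decide +kernel)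

theorem ce_a_441 : ∀ r, r < 64 → sm ga (Qf (28224 + r)) = Qf (tab Gen.a (28224 + r)) :=
  edges_tab (sm ga) Qf (tab Gen.a) 28224 [(28224, 27758), (28225, 29263), (28226, 27813), (28227, 27045), (28228, 27046), (28229, 29266), (28230, 27180), (28231, 29268), (28232, 29108), (28233, 27131), (28234, 27051), (28235, 29272), (28236, 27156), (28237, 29274), (28238, 27576), (28239, 27056), (28240, 29276), (28241, 27154), (28242, 27060), (28243, 27062), (28244, 29278), (28245, 27064), (28246, 29279), (28247, 27067), (28248, 29280), (28249, 27069), (28250, 29281), (28251, 27072), (28252, 29282), (28253, 27074), (28254, 27075), (28255, 27130), (28256, 29284), (28257, 29285), (28258, 27273), (28259, 27080), (28260, 29287), (28261, 29288), (28262, 27138), (28263, 27139), (28264, 27140), (28265, 27141), (28266, 29295), (28267, 27143), (28268, 27144), (28269, 27145), (28270, 29299), (28271, 27147), (28272, 27091), (28273, 29302), (28274, 27093), (28275, 29303), (28276, 27190), (28277, 29305), (28278, 27166), (28279, 27167), (28280, 29309),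 (28281, 27099), (28282, 29310), (28283, 27172), (28284, 27102), (28285, 29312), (28286, 27177), (28287, 27178)]
    ⟨e3 q28224 L800725 q27758, e3 q28225 L812007 q29263, e3 q28226 L800747 q27813, e3 q28227 (flp_a L800759) q27045, e3 q28228 (flp_a L800773) q27046, e3 q28229 L812048 q29266, e3 q28230 L800803 q27180, e3 q28231 L812084 q29268, e3 q28232 (flp_a L809789) q29108, e3 q28233 L800847 q27131, e3 q28234 (flp_a L800862) q27051, e3 q28235 (flp_a L812141) q29272, e3 q28236 L800882 q27156, e3 q28237 L812165 q29274, e3 q28238 L800914 q27576, e3 q28239 (flp_a L800930) q27056, e3 q28240 (flp_a L812203) q29276, e3 q28241 L800946 q27154, e3 q28242 (flp_a L800962) q27060, e3 q28243 (flp_a L800980) q27062, e3 q28244 (flp_a L812229) q29278, e3 q28245 (flp_a L801004) q27064, e3 q28246 (flp_a L812245) q29279, e3 q28247 L801038 q27067, e3 q28248 (flp_a L812263) q29280, e3 q28249 (flp_a L801058) q27069, e3 q28250 (flp_a L812279) q29281, e3 q28251 L801090 q27072, e3 q28252 (flp_a L812297) q29282, e3 q28253 (flp_a L801110) q27074, e3 q28254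 (flp_a L801126) q27075, e3 q28255 L801140 q27130, e3 q28256 L812327 q29284, e3 q28257 L812343 q29285, e3 q28258 L801184 q27273, e3 q28259 (flp_a L801200) q27080, e3 q28260 (flp_a L812377) q29287, e3 q28261 L812387 q29288, e3 q28262 L801238 q27138, e3 q28263 L801254 q27139, e3 q28264 L801269 q27140, e3 q28265 L801285 q27141, e3 q28266 L812495 q29295, e3 q28267 L801312 q27143, e3 q28268 L801326 q27144, e3 q28269 L801338 q27145, e3 q28270 L812549 q29299, e3 q28271 L801366 q27147, e3 q28272 (flp_a L801378) q27091, e3 q28273 L812588 q29302, e3 q28274 (flp_a L801408) q27093, e3 q28275 L812606 q29303, e3 q28276 L801432 q27190, e3 q28277 L812638 q29305, e3 q28278 L801458 q27166, e3 q28279 L801470 q27167, e3 q28280 L812683 q29309, e3 q28281 (flp_a L801501) q27099, e3 q28282 (flp_a L812705) q29310, e3 q28283 L801521 q27172, e3 q28284 (flp_a L801535) q27102, e3 q28285 (flp_a L812731) q29312, e3 q28286 L801551 q27177, e3 q28287 L801567 q27178, trivial⟩ (by decide +kernel)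

theorem ce_a_442 : ∀ r, r < 64 → sm ga (Qf (28288 + r)) = Qf (tab Gen.a (28288 + r)) :=
  edges_tab (sm ga) Qf (tab Gen.a) 28288 [(28288, 27106), (28289, 27107), (28290, 29316), (28291, 27109), (28292, 27111), (28293, 29317), (28294, 27231), (28295, 27767), (28296, 27115), (28297, 29320), (28298, 27227), (28299, 27228), (28300, 27119), (28301, 29324), (28302, 27122), (28303, 29325), (28304, 27237), (28305, 27238), (28306, 27239), (28307, 27454), (28308, 27471), (28309, 27472), (28310, 29332), (28311, 29333), (28312, 29271), (28313, 27132), (28314, 29336), (28315, 29132), (28316, 29133), (28317, 29066), (28318, 29019), (28319, 29018), (28320, 27652), (28321, 29344), (28322, 29290), (28323, 29291), (28324, 29349), (28325, 29293), (28326, 29294), (28327, 27142), (28328, 29354), (28329, 29297), (28330, 29298), (28331, 27565), (28332, 27146), (28333, 29358), (28334, 29301), (28335, 27149), (28336, 27408), (28337, 27409), (28338, 29363), (28339, 27463), (28340, 27153), (28341, 29366), (28342, 27155), (28343, 29367), (28344, 29368),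 (28345, 27754), (28346, 27755), (28347, 27160), (28348, 29372), (28349, 27764), (28350, 29374), (28351, 29145)]
    ⟨e3 q28288 (flp_a L801580) q27106, e3 q28289 (flp_a L801590) q27107, e3 q28290 L812784 q29316, e3 q28291 (flp_a L801614) q27109, e3 q28292 (flp_a L801626) q27111, e3 q28293 (flp_a L812804) q29317, e3 q28294 L801648 q27231, e3 q28295 L801664 q27767, e3 q28296 (flp_a L801680) q27115, e3 q28297 (flp_a L812850) q29320, e3 q28298 L801698 q27227, e3 q28299 L801714 q27228, e3 q28300 L801730 q27119, e3 q28301 (flp_a L812906) q29324, e3 q28302 L801746 q27122, e3 q28303 (flp_a L812916) q29325, e3 q28304 L801764 q27237, e3 q28305 L801776 q27238, e3 q28306 L801791 q27239, e3 q28307 L801803 q27454, e3 q28308 L801819 q27471, e3 q28309 L801835 q27472, e3 q28310 L813013 q29332, e3 q28311 L813025 q29333, e3 q28312 (flp_a L812125) q29271, e3 q28313 (flp_a L801880) q27132, e3 q28314 L813056 q29336, e3 q28315 (flp_a L810187) q29132, e3 q28316 (flp_a L810201) q29133, e3 q28317 (flp_a L809188) q29066, e3 q28318 (flp_a L808518) q29019,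 e3 q28319 (flp_a L808502) q29018, e3 q28320 L801956 q27652, e3 q28321 L813141 q29344, e3 q28322 (flp_a L812423) q29290, e3 q28323 (flp_a L812437) q29291, e3 q28324 L813177 q29349, e3 q28325 (flp_a L812468) q29293, e3 q28326 (flp_a L812482) q29294, e3 q28327 (flp_a L802016) q27142, e3 q28328 (flp_a L813223) q29354, e3 q28329 (flp_a L812525) q29297, e3 q28330 (flp_a L812537) q29298, e3 q28331 L802048 q27565, e3 q28332 (flp_a L802062) q27146, e3 q28333 (flp_a L813261) q29358, e3 q28334 (flp_a L812579) q29301, e3 q28335 (flp_a L802093) q27149, e3 q28336 L802109 q27408, e3 q28337 L802125 q27409, e3 q28338 L813318 q29363, e3 q28339 L802152 q27463, e3 q28340 (flp_a L802162) q27153, e3 q28341 (flp_a L813357) q29366, e3 q28342 (flp_a L802182) q27155, e3 q28343 (flp_a L813367) q29367, e3 q28344 L813375 q29368, e3 q28345 L802218 q27754, e3 q28346 L802230 q27755, e3 q28347 (flp_a L802243) q27160, e3 q28348 (flp_a L813436) q29372, e3 q28349 L802275 q27764, e3 q28350 L813466 q29374, e3 q28351 (flp_a L810369) q29145, trivial⟩ (by decide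 +kernel)

theorem ce_a_443 : ∀ r, r < 64 → sm ga (Qf (28352 + r)) = Qf (tab Gen.a (28352 + r)) :=
  edges_tab (sm ga) Qf (tab Gen.a) 28352 [(28352, 29146), (28353, 27165), (28354, 29378), (28355, 29307), (28356, 29308), (28357, 27168), (28358, 29382), (28359, 27171), (28360, 29383), (28361, 27173), (28362, 29384), (28363, 27176), (28364, 29385), (28365, 29314), (28366, 29315), (28367, 27179), (28368, 29388), (28369, 27371), (28370, 27372), (28371, 29391), (28372, 29210), (28373, 29394), (28374, 27867), (28375, 27187), (28376, 29396), (28377, 27189), (28378, 29397), (28379, 27192), (28380, 27194), (28381, 29398), (28382, 27196), (28383, 29399), (28384, 27746), (28385, 27747), (28386, 29403), (28387, 29010), (28388, 29003), (28389, 27201), (28390, 29406), (28391, 29002), (28392, 27204), (28393, 29408), (28394, 27750), (28395, 27208), (28396, 29410), (28397, 29411), (28398, 29172), (28399, 29173), (28400, 27212), (28401, 29415), (28402, 29213), (28403, 29214), (28404, 27215), (28405, 29420), (28406, 27853), (28407, 29186), (28408,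 29043), (28409, 27219), (28410, 29425), (28411, 29426), (28412, 27495), (28413, 29073), (28414, 27223), (28415, 29431)]
    ⟨e3 q28352 (flp_a L810383) q29146, e3 q28353 (flp_a L802314) q27165, e3 q28354 (flp_a L813501) q29378, e3 q28355 (flp_a L812662) q29307, e3 q28356 (flp_a L812671) q29308, e3 q28357 (flp_a L802339) q27168, e3 q28358 (flp_a L813526) q29382, e3 q28359 L802361 q27171, e3 q28360 (flp_a L813538) q29383, e3 q28361 (flp_a L802373) q27173, e3 q28362 (flp_a L813544) q29384, e3 q28363 L802403 q27176, e3 q28364 (flp_a L813560) q29385, e3 q28365 (flp_a L812755) q29314, e3 q28366 (flp_a L812769) q29315, e3 q28367 (flp_a L802430) q27179, e3 q28368 (flp_a L813584) q29388, e3 q28369 L802454 q27371, e3 q28370 L802470 q27372, e3 q28371 L813626 q29391, e3 q28372 (flp_a L811215) q29210, e3 q28373 L813655 q29394, e3 q28374 L802517 q27867, e3 q28375 (flp_a L802527) q27187, e3 q28376 (flp_a L813683) q29396, e3 q28377 (flp_a L802547) q27189, e3 q28378 (flp_a L813693) q29397, e3 q28379 L802567 q27192, e3 q28380 L802575 q27194,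 e3 q28381 L813699 q29398, e3 q28382 (flp_a L802597) q27196, e3 q28383 L813715 q29399, e3 q28384 L802625 q27746, e3 q28385 L802635 q27747, e3 q28386 L813764 q29403, e3 q28387 (flp_a L808374) q29010, e3 q28388 (flp_a L808252) q29003, e3 q28389 (flp_a L802684) q27201, e3 q28390 (flp_a L813804) q29406, e3 q28391 (flp_a L808236) q29002, e3 q28392 (flp_a L802722) q27204, e3 q28393 (flp_a L813832) q29408, e3 q28394 L802750 q27750, e3 q28395 L802766 q27208, e3 q28396 (flp_a L813862) q29410, e3 q28397 L813872 q29411, e3 q28398 (flp_a L810673) q29172, e3 q28399 (flp_a L810687) q29173, e3 q28400 (flp_a L802809) q27212, e3 q28401 (flp_a L813903) q29415, e3 q28402 (flp_a L811255) q29213, e3 q28403 (flp_a L811264) q29214, e3 q28404 (flp_a L802836) q27215, e3 q28405 (flp_a L813935) q29420, e3 q28406 L802854 q27853, e3 q28407 (flp_a L810862) q29186, e3 q28408 (flp_a L808864) q29043, e3 q28409 L802884 q27219, e3 q28410 (flp_a L813983) q29425, e3 q28411 (flp_a L813997) q29426, e3 q28412 L802910 q27495, e3 q28413 (flp_a L809286) q29073, e3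 q28414 (flp_a L802930) q27223, e3 q28415 (flp_a L814053) q29431, trivial⟩ (by decide +kernel)

theorem ce_a_444 : ∀ r, r < 64 → sm ga (Qf (28416 + r)) = Qf (tab Gen.a (28416 + r)) :=
  edges_tab (sm ga) Qf (tab Gen.a) 28416 [(28416, 27226), (28417, 29432), (28418, 29433), (28419, 29323), (28420, 27230), (28421, 29436), (28422, 27232), (28423, 27234), (28424, 27236), (28425, 29437), (28426, 29327), (28427, 29328), (28428, 27553), (28429, 27557), (28430, 27549), (28431, 27246), (28432, 27247), (28433, 29440), (28434, 27250), (28435, 27253), (28436, 29441), (28437, 27821), (28438, 27256), (28439, 27257), (28440, 29444), (28441, 27761), (28442, 27260), (28443, 29446), (28444, 27833), (28445, 29448), (28446, 27810), (28447, 27265), (28448, 27266), (28449, 29451), (28450, 27270), (28451, 27271), (28452, 27272), (28453, 29452), (28454, 27899), (28455, 27277), (28456, 27281), (28457, 29454), (28458, 27284), (28459, 27286), (28460, 29455), (28461, 29077), (28462, 27289), (28463, 27291), (28464, 27292), (28465, 29457), (28466, 27295),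 (28467, 29458), (28468, 29114), (28469, 27298), (28470, 29460), (28471, 27374), (28472, 27301), (28473, 29463), (28474, 27396), (28475, 27397), (28476, 27304), (28477, 29468), (28478, 27400), (28479, 27401)]
    ⟨e3 q28416 L802950 q27226, e3 q28417 (flp_a L814065) q29432, e3 q28418 (flp_a L814071) q29433, e3 q28419 (flp_a L812892) q29323, e3 q28420 L802972 q27230, e3 q28421 (flp_a L814093) q29436, e3 q28422 (flp_a L802982) q27232, e3 q28423 L802994 q27234, e3 q28424 L803006 q27236, e3 q28425 (flp_a L814101) q29437, e3 q28426 (flp_a L812940) q29327, e3 q28427 (flp_a L812952) q29328, e3 q28428 L803033 q27553, e3 q28429 L803047 q27557, e3 q28430 L803059 q27549, e3 q28431 (flp_a L803070) q27246, e3 q28432 (flp_a L803082) q27247, e3 q28433 (flp_a L814128) q29440, e3 q28434 (flp_a L803114) q27250, e3 q28435 L803130 q27253, e3 q28436 L814144 q29441, e3 q28437 L803150 q27821, e3 q28438 (flp_a L803160) q27256, e3 q28439 (flp_a L803170) q27257, e3 q28440 (flp_a L814181) q29444, e3 q28441 L803192 q27761, e3 q28442 (flp_a L803202) q27260,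 e3 q28443 (flp_a L814203) q29446, e3 q28444 L803220 q27833, e3 q28445 L814219 q29448, e3 q28446 L803243 q27810, e3 q28447 (flp_a L803255) q27265, e3 q28448 (flp_a L803269) q27266, e3 q28449 (flp_a L814266) q29451, e3 q28450 L803295 q27270, e3 q28451 (flp_a L803305) q27271, e3 q28452 (flp_a L803323) q27272, e3 q28453 (flp_a L814280) q29452, e3 q28454 L803347 q27899, e3 q28455 L803358 q27277, e3 q28456 (flp_a L803366) q27281, e3 q28457 (flp_a L814302) q29454, e3 q28458 L803390 q27284, e3 q28459 L803398 q27286, e3 q28460 (flp_a L814314) q29455, e3 q28461 (flp_a L809344) q29077, e3 q28462 (flp_a L803434) q27289, e3 q28463 (flp_a L803450) q27291, e3 q28464 (flp_a L803460) q27292, e3 q28465 (flp_a L814342) q29457, e3 q28466 (flp_a L803480) q27295, e3 q28467 (flp_a L814352) q29458, e3 q28468 (flp_a L809887) q29114, e3 q28469 L803517 q27298, e3 q28470 L814376 q29460, e3 q28471 L803535 q27374, e3 q28472 (flp_a L803545) q27301, e3 q28473 L814413 q29463, e3 q28474 L803575 q27396, e3 q28475 L803585 q27397, e3 q28476 (flp_a L803596) q27304,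 e3 q28477 (flp_a L814473) q29468, e3 q28478 L803626 q27400, e3 q28479 L803638 q27401, trivial⟩ (by decide +kernel)

theorem ce_a_445 : ∀ r, r < 64 → sm ga (Qf (28480 + r)) = Qf (tab Gen.a (28480 + r)) :=
  edges_tab (sm ga) Qf (tab Gen.a) 28480 [(28480, 27308), (28481, 29471), (28482, 27406), (28483, 29474), (28484, 27411), (28485, 27313), (28486, 29477), (28487, 27420), (28488, 27421), (28489, 27316), (28490, 29481), (28491, 27424), (28492, 27320), (28493, 29484), (28494, 27441), (28495, 27444), (28496, 27446), (28497, 29487), (28498, 27457), (28499, 27328), (28500, 27329), (28501, 29490), (28502, 27466), (28503, 29492), (28504, 27475), (28505, 27334), (28506, 29495), (28507, 27481), (28508, 27337), (28509, 29498), (28510, 27485), (28511, 27340), (28512, 29500), (28513, 27491), (28514, 27492), (28515, 27344), (28516, 29503), (28517, 29504), (28518, 27347), (28519, 29505), (28520, 27513), (28521, 27351), (28522, 29508), (28523, 27516), (28524, 27353), (28525, 27356), (28526, 29511), (28527, 27534), (28528, 27359), (28529,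 29513), (28530, 27545), (28531, 27547), (28532, 27366), (28533, 29515), (28534, 29516), (28535, 27709), (28536, 27370), (28537, 29519), (28538, 29390), (28539, 27373), (28540, 29522), (28541, 29462), (28542, 29525), (28543, 27384)]
    ⟨e3 q28480 (flp_a L803650) q27308, e3 q28481 (flp_a L814515) q29471, e3 q28482 L803668 q27406, e3 q28483 L814538 q29474, e3 q28484 L803689 q27411, e3 q28485 (flp_a L803701) q27313, e3 q28486 L814583 q29477, e3 q28487 L803729 q27420, e3 q28488 L803739 q27421, e3 q28489 (flp_a L803747) q27316, e3 q28490 (flp_a L814625) q29481, e3 q28491 L803771 q27424, e3 q28492 L803785 q27320, e3 q28493 (flp_a L814661) q29484, e3 q28494 L803805 q27441, e3 q28495 L803815 q27444, e3 q28496 L803825 q27446, e3 q28497 L814688 q29487, e3 q28498 L803850 q27457, e3 q28499 (flp_a L803862) q27328, e3 q28500 (flp_a L803878) q27329, e3 q28501 (flp_a L814735) q29490, e3 q28502 L803894 q27466, e3 q28503 L814751 q29492, e3 q28504 L803917 q27475, e3 q28505 (flp_a L803929) q27334, e3 q28506 L814790 q29495, e3 q28507 L803955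 q27481, e3 q28508 (flp_a L803963) q27337, e3 q28509 (flp_a L814826) q29498, e3 q28510 L803991 q27485, e3 q28511 (flp_a L804003) q27340, e3 q28512 (flp_a L814852) q29500, e3 q28513 L804017 q27491, e3 q28514 L804025 q27492, e3 q28515 L804035 q27344, e3 q28516 (flp_a L814874) q29503, e3 q28517 L814882 q29504, e3 q28518 (flp_a L804065) q27347, e3 q28519 L814898 q29505, e3 q28520 L804093 q27513, e3 q28521 (flp_a L804105) q27351, e3 q28522 (flp_a L814939) q29508, e3 q28523 L804123 q27516, e3 q28524 (flp_a L804128) q27353, e3 q28525 L804146 q27356, e3 q28526 (flp_a L814964) q29511, e3 q28527 L804166 q27534, e3 q28528 L804176 q27359, e3 q28529 (flp_a L814984) q29513, e3 q28530 L804186 q27545, e3 q28531 L804192 q27547, e3 q28532 (flp_a L804200) q27366, e3 q28533 L814992 q29515, e3 q28534 L815006 q29516, e3 q28535 L804242 q27709, e3 q28536 (flp_a L804252) q27370, e3 q28537 L815045 q29519, e3 q28538 (flp_a L813614) q29390, e3 q28539 (flp_a L804280) q27373, e3 q28540 (flp_a L815072) q29522, e3 q28541 (flp_a L814404) q29462, e3 q28542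 L815093 q29525, e3 q28543 L804313 q27384, trivial⟩ (by decide +kernel)

theorem ce_a_446 : ∀ r, r < 64 → sm ga (Qf (28544 + r)) = Qf (tab Gen.a (28544 + r)) :=
  edges_tab (sm ga) Qf (tab Gen.a) 28544 [(28544, 27385), (28545, 27386), (28546, 27387), (28547, 27388), (28548, 29531), (28549, 29532), (28550, 29035), (28551, 29036), (28552, 27383), (28553, 29536), (28554, 29527), (28555, 29528), (28556, 29529), (28557, 29530), (28558, 29542), (28559, 27686), (28560, 29544), (28561, 27392), (28562, 29545), (28563, 29024), (28564, 29025), (28565, 27395), (28566, 29550), (28567, 29465), (28568, 29466), (28569, 29467), (28570, 27399), (28571, 29556), (28572, 29470), (28573, 27402), (28574, 29558), (28575, 29032), (28576, 27405), (28577, 29561), (28578, 29473), (28579, 27407), (28580, 29565), (28581, 29362), (28582, 27410), (28583, 29568), (28584, 29476), (28585, 27413), (28586, 29571), (28587, 27415), (28588, 29572), (28589, 29042), (28590, 27419), (28591, 29575), (28592, 29479), (28593, 29480), (28594, 27423), (28595, 29579), (28596,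 29483), (28597, 27425), (28598, 29583), (28599, 27428), (28600, 27429), (28601, 27431), (28602, 27433), (28603, 27434), (28604, 29584), (28605, 29046), (28606, 27437), (28607, 29587)]
    ⟨e3 q28544 L804325 q27385, e3 q28545 L804337 q27386, e3 q28546 L804347 q27387, e3 q28547 L804362 q27388, e3 q28548 L815165 q29531, e3 q28549 L815183 q29532, e3 q28550 (flp_a L808745) q29035, e3 q28551 (flp_a L808759) q29036, e3 q28552 (flp_a L804420) q27383, e3 q28553 (flp_a L815222) q29536, e3 q28554 (flp_a L815119) q29527, e3 q28555 (flp_a L815129) q29528, e3 q28556 (flp_a L815139) q29529, e3 q28557 (flp_a L815153) q29530, e3 q28558 L815277 q29542, e3 q28559 L804486 q27686, e3 q28560 L815305 q29544, e3 q28561 (flp_a L804510) q27392, e3 q28562 L815321 q29545, e3 q28563 (flp_a L808595) q29024, e3 q28564 (flp_a L808609) q29025, e3 q28565 (flp_a L804547) q27395, e3 q28566 (flp_a L815367) q29550, e3 q28567 (flp_a L814439) q29465, e3 q28568 (flp_a L814448) q29466, e3 q28569 (flp_a L814460) q29467, e3 q28570 L804575 q27399, e3 q28571 (flp_a L815407)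 q29556, e3 q28572 (flp_a L814501) q29470, e3 q28573 (flp_a L804591) q27402, e3 q28574 (flp_a L815419) q29558, e3 q28575 (flp_a L808698) q29032, e3 q28576 L804624 q27405, e3 q28577 (flp_a L815448) q29561, e3 q28578 (flp_a L814531) q29473, e3 q28579 (flp_a L804639) q27407, e3 q28580 L815468 q29565, e3 q28581 (flp_a L813306) q29362, e3 q28582 (flp_a L804677) q27410, e3 q28583 (flp_a L815503) q29568, e3 q28584 (flp_a L814570) q29476, e3 q28585 (flp_a L804700) q27413, e3 q28586 L815534 q29571, e3 q28587 (flp_a L804730) q27415, e3 q28588 L815552 q29572, e3 q28589 (flp_a L808850) q29042, e3 q28590 (flp_a L804766) q27419, e3 q28591 (flp_a L815590) q29575, e3 q28592 (flp_a L814603) q29479, e3 q28593 (flp_a L814615) q29480, e3 q28594 L804798 q27423, e3 q28595 (flp_a L815622) q29579, e3 q28596 (flp_a L814649) q29483, e3 q28597 (flp_a L804826) q27425, e3 q28598 L815668 q29583, e3 q28599 (flp_a L804854) q27428, e3 q28600 (flp_a L804864) q27429, e3 q28601 (flp_a L804878) q27431, e3 q28602 L804894 q27433, e3 q28603 (flp_a L804904) q27434,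 e3 q28604 (flp_a L815686) q29584, e3 q28605 (flp_a L808908) q29046, e3 q28606 L804936 q27437, e3 q28607 (flp_a L815720) q29587, trivial⟩ (by decide +kernel)

theorem ce_a_447 : ∀ r, r < 64 → sm ga (Qf (28608 + r)) = Qf (tab Gen.a (28608 + r)) :=
  edges_tab (sm ga) Qf (tab Gen.a) 28608 [(28608, 29058), (28609, 27440), (28610, 29590), (28611, 29591), (28612, 29164), (28613, 29059), (28614, 29017), (28615, 29486), (28616, 29064), (28617, 29139), (28618, 29060), (28619, 29061), (28620, 29098), (28621, 29104), (28622, 27452), (28623, 27453), (28624, 29598), (28625, 29208), (28626, 27456), (28627, 29601), (28628, 29489), (28629, 27858), (28630, 27460), (28631, 29604), (28632, 27462), (28633, 29605), (28634, 29365), (28635, 27465), (28636, 29607), (28637, 27816), (28638, 27467), (28639, 27468), (28640, 29610), (28641, 29611), (28642, 29331), (28643, 29614), (28644, 27474), (28645, 29615), (28646, 29494), (28647, 27476), (28648, 29618), (28649, 29015), (28650, 29016), (28651, 27480), (28652, 29621), (28653, 29497), (28654, 29167),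 (28655, 27484), (28656, 29626), (28657, 29429), (28658, 27487), (28659, 29629), (28660, 29072), (28661, 27490), (28662, 29631), (28663, 29632), (28664, 29430), (28665, 27494), (28666, 29636), (28667, 29637), (28668, 29423), (28669, 29640), (28670, 27498), (28671, 29641)]
    ⟨e3 q28608 (flp_a L809068) q29058, e3 q28609 L804968 q27440, e3 q28610 (flp_a L815758) q29590, e3 q28611 (flp_a L815772) q29591, e3 q28612 (flp_a L810590) q29164, e3 q28613 (flp_a L809080) q29059, e3 q28614 (flp_a L808486) q29017, e3 q28615 (flp_a L814681) q29486, e3 q28616 (flp_a L809156) q29064, e3 q28617 (flp_a L810292) q29139, e3 q28618 (flp_a L809096) q29060, e3 q28619 (flp_a L809111) q29061, e3 q28620 (flp_a L809648) q29098, e3 q28621 (flp_a L809720) q29104, e3 q28622 (flp_a L805109) q27452, e3 q28623 (flp_a L805123) q27453, e3 q28624 L815842 q29598, e3 q28625 (flp_a L811185) q29208, e3 q28626 (flp_a L805161) q27456, e3 q28627 (flp_a L815879) q29601, e3 q28628 (flp_a L814720) q29489, e3 q28629 L805184 q27858, e3 q28630 L805200 q27460, e3 q28631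 (flp_a L815909) q29604, e3 q28632 (flp_a L805232) q27462, e3 q28633 (flp_a L815927) q29605, e3 q28634 (flp_a L813346) q29365, e3 q28635 L805251 q27465, e3 q28636 (flp_a L815939) q29607, e3 q28637 L805263 q27816, e3 q28638 (flp_a L805272) q27467, e3 q28639 (flp_a L805286) q27468, e3 q28640 (flp_a L815960) q29610, e3 q28641 L815966 q29611, e3 q28642 (flp_a L813001) q29331, e3 q28643 L815997 q29614, e3 q28644 (flp_a L805340) q27474, e3 q28645 (flp_a L816015) q29615, e3 q28646 (flp_a L814781) q29494, e3 q28647 (flp_a L805361) q27476, e3 q28648 L816036 q29618, e3 q28649 (flp_a L808456) q29015, e3 q28650 (flp_a L808470) q29016, e3 q28651 (flp_a L805407) q27480, e3 q28652 (flp_a L816070) q29621, e3 q28653 (flp_a L814814) q29497, e3 q28654 (flp_a L810618) q29167, e3 q28655 L805439 q27484, e3 q28656 (flp_a L816114) q29626, e3 q28657 (flp_a L814027) q29429, e3 q28658 (flp_a L805465) q27487, e3 q28659 (flp_a L816148) q29629, e3 q28660 (flp_a L809272) q29072, e3 q28661 L805491 q27490, e3 q28662 (flp_a L816168) q29631, e3 q28663 (flp_a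 L816174) q29632, e3 q28664 (flp_a L814039) q29430, e3 q28665 L805513 q27494, e3 q28666 (flp_a L816200) q29636, e3 q28667 (flp_a L816208) q29637, e3 q28668 (flp_a L813961) q29423, e3 q28669 L816232 q29640, e3 q28670 (flp_a L805553) q27498, e3 q28671 (flp_a L816246) q29641, trivial⟩ (by decide +kernel)

theorem ce_a_448 : ∀ r, r < 64 → sm ga (Qf (28672 + r)) = Qf (tab Gen.a (28672 + r)) :=
  edges_tab (sm ga) Qf (tab Gen.a) 28672 [(28672, 29192), (28673, 27501), (28674, 27503), (28675, 29643), (28676, 27677), (28677, 27678), (28678, 29647), (28679, 29082), (28680, 29083), (28681, 27509), (28682, 29651), (28683, 29086), (28684, 29087), (28685, 27512), (28686, 29655), (28687, 29507), (28688, 27515), (28689, 29658), (28690, 29659), (28691, 27883), (28692, 29510), (28693, 27519), (28694, 29665), (28695, 27522), (28696, 27523), (28697, 29666), (28698, 27659), (28699, 27525), (28700, 29668), (28701, 29065), (28702, 27529), (28703, 29670), (28704, 27532), (28705, 27533), (28706, 29671), (28707, 29160), (28708, 27537), (28709, 29673),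 (28710, 27540), (28711, 29674), (28712, 29103), (28713, 27543), (28714, 27544), (28715, 29677), (28716, 29678), (28717, 29029), (28718, 29439), (28719, 29136), (28720, 27552), (28721, 29682), (28722, 29357), (28723, 27555), (28724, 27556), (28725, 29684), (28726, 29676), (28727, 27562), (28728, 29686), (28729, 27568), (28730, 29342), (28731, 27575), (28732, 29688), (28733, 27578), (28734, 29689), (28735, 27896)]
    ⟨e3 q28672 (flp_a L810948) q29192, e3 q28673 (flp_a L805578) q27501, e3 q28674 L805594 q27503, e3 q28675 L816262 q29643, e3 q28676 L805610 q27677, e3 q28677 L805620 q27678, e3 q28678 L816303 q29647, e3 q28679 (flp_a L809428) q29082, e3 q28680 (flp_a L809442) q29083, e3 q28681 (flp_a L805652) q27509, e3 q28682 (flp_a L816336) q29651, e3 q28683 (flp_a L809487) q29086, e3 q28684 (flp_a L809498) q29087, e3 q28685 (flp_a L805681) q27512, e3 q28686 (flp_a L816365) q29655, e3 q28687 (flp_a L814928) q29507, e3 q28688 L805700 q27515, e3 q28689 (flp_a L816380) q29658, e3 q28690 (flp_a L816384) q29659, e3 q28691 L805720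 q27883, e3 q28692 (flp_a L814955) q29510, e3 q28693 L805736 q27519, e3 q28694 (flp_a L816433) q29665, e3 q28695 L805760 q27522, e3 q28696 L805772 q27523, e3 q28697 (flp_a L816445) q29666, e3 q28698 L805794 q27659, e3 q28699 (flp_a L805802) q27525, e3 q28700 (flp_a L816469) q29668, e3 q28701 (flp_a L809172) q29065, e3 q28702 L805830 q27529, e3 q28703 (flp_a L816487) q29670, e3 q28704 L805844 q27532, e3 q28705 L805854 q27533, e3 q28706 (flp_a L816495) q29671, e3 q28707 (flp_a L810547) q29160, e3 q28708 L805884 q27537, e3 q28709 (flp_a L816513) q29673, e3 q28710 L805904 q27540, e3 q28711 (flp_a L816523) q29674, e3 q28712 (flp_a L809708) q29103, e3 q28713 L805932 q27543, e3 q28714 L805938 q27544, e3 q28715 (flp_a L816555) q29677, e3 q28716 (flp_a L816563) q29678, e3 q28717 (flp_a L808660) q29029, e3 q28718 (flp_a L814115) q29439, e3 q28719 (flp_a L810247) q29136, e3 q28720 L805980 q27552, e3 q28721 (flp_a L816591) q29682, e3 q28722 (flp_a L813247) q29357, e3 q28723 L806004 q27555, e3 q28724 L806014 q27556, e3 q28725 (flp_a L816611)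 q29684, e3 q28726 (flp_a L816549) q29676, e3 q28727 L806044 q27562, e3 q28728 (flp_a L816631) q29686, e3 q28729 L806062 q27568, e3 q28730 (flp_a L813118) q29342, e3 q28731 (flp_a L806075) q27575, e3 q28732 (flp_a L816649) q29688, e3 q28733 (flp_a L806103) q27578, e3 q28734 (flp_a L816663) q29689, e3 q28735 L806135 q27896, trivial⟩ (by decide +kernel)

theorem ce_a_449 : ∀ r, r < 64 → sm ga (Qf (28736 + r)) = Qf (tab Gen.a (28736 + r)) :=
  edges_tab (sm ga) Qf (tab Gen.a) 28736 [(28736, 27581), (28737, 29691), (28738, 27584), (28739, 27586), (28740, 29692), (28741, 27590), (28742, 27592), (28743, 27595), (28744, 29693), (28745, 27672), (28746, 27598), (28747, 29695), (28748, 27848), (28749, 27601), (28750, 29697), (28751, 27681), (28752, 27604), (28753, 29699), (28754, 27684), (28755, 27607), (28756, 29702), (28757, 27851), (28758, 29704), (28759, 27692), (28760, 27612), (28761, 29707), (28762, 27698), (28763, 27699), (28764, 27615), (28765, 29710), (28766, 27618), (28767, 29711), (28768, 27704), (28769, 27622), (28770, 29713),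 (28771, 29069), (28772, 29094), (28773, 27626), (28774, 29716), (28775, 27628), (28776, 29717), (28777, 27724), (28778, 27631), (28779, 29719), (28780, 27634), (28781, 27636), (28782, 27639), (28783, 29720), (28784, 29039), (28785, 27642), (28786, 29722), (28787, 29197), (28788, 27645), (28789, 29724), (28790, 29021), (28791, 29022), (28792, 27648), (28793, 29728), (28794, 29028), (28795, 29730), (28796, 29189), (28797, 27654), (28798, 29733), (28799, 29734)]
    ⟨e3 q28736 (flp_a L806146) q27581, e3 q28737 (flp_a L816691) q29691, e3 q28738 L806174 q27584, e3 q28739 (flp_a L806180) q27586, e3 q28740 (flp_a L816705) q29692, e3 q28741 (flp_a L806202) q27590, e3 q28742 L806218 q27592, e3 q28743 (flp_a L806222) q27595, e3 q28744 (flp_a L816717) q29693, e3 q28745 L806236 q27672, e3 q28746 L806243 q27598, e3 q28747 L816729 q29695, e3 q28748 L806263 q27848, e3 q28749 (flp_a L806273) q27601, e3 q28750 (flp_a L816755) q29697, e3 q28751 L806299 q27681, e3 q28752 (flp_a L806309) q27604, e3 q28753 (flp_a L816779) q29699, e3 q28754 L806323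 q27684, e3 q28755 (flp_a L806328) q27607, e3 q28756 (flp_a L816802) q29702, e3 q28757 L806344 q27851, e3 q28758 L816818 q29704, e3 q28759 L806364 q27692, e3 q28760 (flp_a L806372) q27612, e3 q28761 (flp_a L816851) q29707, e3 q28762 L806398 q27698, e3 q28763 L806410 q27699, e3 q28764 (flp_a L806418) q27615, e3 q28765 (flp_a L816887) q29710, e3 q28766 L806442 q27618, e3 q28767 (flp_a L816899) q29711, e3 q28768 L806460 q27704, e3 q28769 (flp_a L806466) q27622, e3 q28770 (flp_a L816915) q29713, e3 q28771 (flp_a L809232) q29069, e3 q28772 (flp_a L809592) q29094, e3 q28773 L806500 q27626, e3 q28774 (flp_a L816941) q29716, e3 q28775 (flp_a L806516) q27628, e3 q28776 (flp_a L816951) q29717, e3 q28777 L806538 q27724, e3 q28778 L806549 q27631, e3 q28779 (flp_a L816971) q29719, e3 q28780 L806565 q27634, e3 q28781 L806573 q27636, e3 q28782 (flp_a L806579) q27639, e3 q28783 (flp_a L816979) q29720, e3 q28784 (flp_a L808804) q29039, e3 q28785 (flp_a L806615) q27642, e3 q28786 (flp_a L817003) q29722, e3 q28787 (flp_a L811033) q29197, e3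 q28788 L806642 q27645, e3 q28789 L817017 q29724, e3 q28790 (flp_a L808550) q29021, e3 q28791 (flp_a L808564) q29022, e3 q28792 (flp_a L806669) q27648, e3 q28793 (flp_a L817050) q29728, e3 q28794 (flp_a L808648) q29028, e3 q28795 L817066 q29730, e3 q28796 (flp_a L810900) q29189, e3 q28797 (flp_a L806713) q27654, e3 q28798 (flp_a L817095) q29733, e3 q28799 L817105 q29734, trivial⟩ (by decide +kernel)

theorem ce_a_450 : ∀ r, r < 64 → sm ga (Qf (28800 + r)) = Qf (tab Gen.a (28800 + r)) :=
  edges_tab (sm ga) Qf (tab Gen.a) 28800 [(28800, 29135), (28801, 27658), (28802, 29737), (28803, 29663), (28804, 27661), (28805, 27662), (28806, 29739), (28807, 29170), (28808, 27664), (28809, 27666), (28810, 27667), (28811, 27668), (28812, 29741), (28813, 29159), (28814, 27671), (28815, 29743), (28816, 27676), (28817, 29745), (28818, 29645), (28819, 29646), (28820, 27680), (28821, 29748), (28822, 27683), (28823, 29749), (28824, 29701), (28825, 27685), (28826, 29753), (28827, 27688), (28828, 29754), (28829, 29138), (28830, 27691), (28831,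 29757), (28832, 29706), (28833, 27693), (28834, 29759), (28835, 29142), (28836, 29143), (28837, 27697), (28838, 29762), (28839, 29709), (28840, 27701), (28841, 27703), (28842, 29764), (28843, 27705), (28844, 29765), (28845, 27708), (28846, 29766), (28847, 29518), (28848, 27710), (28849, 29768), (28850, 27713), (28851, 27714), (28852, 27716), (28853, 27718), (28854, 29769), (28855, 27893), (28856, 27720), (28857, 29771), (28858, 29163), (28859, 27723), (28860, 29773), (28861, 27726), (28862, 29775), (28863, 27729)]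
    ⟨e3 q28800 (flp_a L810233) q29135, e3 q28801 (flp_a L806759) q27658, e3 q28802 (flp_a L817138) q29737, e3 q28803 (flp_a L816415) q29663, e3 q28804 L806786 q27661, e3 q28805 (flp_a L806792) q27662, e3 q28806 (flp_a L817154) q29739, e3 q28807 (flp_a L810648) q29170, e3 q28808 (flp_a L806809) q27664, e3 q28809 L806827 q27666, e3 q28810 (flp_a L806833) q27667, e3 q28811 (flp_a L806843) q27668, e3 q28812 (flp_a L817166) q29741, e3 q28813 (flp_a L810536) q29159, e3 q28814 L806864 q27671, e3 q28815 (flp_a L817180) q29743, e3 q28816 (flp_a L806872) q27676, e3 q28817 (flp_a L817187) q29745, e3 q28818 (flp_a L816284) q29645, e3 q28819 (flp_a L816293) q29646, e3 q28820 L806895 q27680, e3 q28821 (flp_a L817203) q29748, e3 q28822 L806909 q27683, e3 q28823 (flp_a L817209) q29749, e3 q28824 (flp_a L816793) q29701, e3 q28825 (flp_a L806920) q27685, e3 q28826 (flp_a L817225) q29753, e3 q28827 L806944 q27688, e3 q28828 L817233 q29754, e3 q28829 (flp_a L810278) q29138, e3 q28830 (flp_a L806974) q27691, e3 q28831 (flp_a L817266) q29757,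 e3 q28832 (flp_a L816840) q29706, e3 q28833 (flp_a L806999) q27693, e3 q28834 (flp_a L817282) q29759, e3 q28835 (flp_a L810331) q29142, e3 q28836 (flp_a L810343) q29143, e3 q28837 L807029 q27697, e3 q28838 (flp_a L817304) q29762, e3 q28839 (flp_a L816875) q29709, e3 q28840 L807051 q27701, e3 q28841 L807059 q27703, e3 q28842 (flp_a L817318) q29764, e3 q28843 (flp_a L807067) q27705, e3 q28844 (flp_a L817322) q29765, e3 q28845 (flp_a L807091) q27708, e3 q28846 (flp_a L817334) q29766, e3 q28847 (flp_a L815036) q29518, e3 q28848 (flp_a L807110) q27710, e3 q28849 (flp_a L817346) q29768, e3 q28850 L807126 q27713, e3 q28851 (flp_a L807132) q27714, e3 q28852 L807148 q27716, e3 q28853 (flp_a L807152) q27718, e3 q28854 (flp_a L817354) q29769, e3 q28855 L807174 q27893, e3 q28856 (flp_a L807181) q27720, e3 q28857 (flp_a L817372) q29771, e3 q28858 (flp_a L810579) q29163, e3 q28859 L807200 q27723, e3 q28860 (flp_a L817384) q29773, e3 q28861 L807210 q27726, e3 q28862 (flp_a L817391) q29775, e3 q28863 L807222 q27729, trivial⟩ (by decide +kernel)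

theorem ce_a_451 : ∀ r, r < 64 → sm ga (Qf (28864 + r)) = Qf (tab Gen.a (28864 + r)) :=
  edges_tab (sm ga) Qf (tab Gen.a) 28864 [(28864, 27730), (28865, 29776), (28866, 27733), (28867, 27741), (28868, 29777), (28869, 29778), (28870, 29255), (28871, 29256), (28872, 27745), (28873, 29782), (28874, 29401), (28875, 29402), (28876, 27749), (28877, 29785), (28878, 29786), (28879, 29258), (28880, 29259), (28881, 27753), (28882, 29790), (28883, 29370), (28884, 29371), (28885, 27756), (28886, 29793), (28887, 29262), (28888, 27760), (28889, 29795), (28890, 27763), (28891, 29796), (28892, 27766), (28893, 29797), (28894, 27768), (28895, 29798), (28896, 27781), (28897, 27771), (28898, 27774), (28899, 27776), (28900, 27777), (28901, 29800), (28902, 29149), (28903, 27780), (28904, 29802), (28905, 27783), (28906, 27785), (28907, 27787), (28908, 27789), (28909, 27792), (28910, 27794), (28911, 27797), (28912, 27799), (28913, 27804), (28914, 27805), (28915, 29804), (28916, 27809), (28917, 29805), (28918, 29450), (28919, 27812), (28920, 29807),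 (28921, 29265), (28922, 27815), (28923, 29809), (28924, 27817), (28925, 29811), (28926, 27820), (28927, 29812)]
    ⟨e3 q28864 (flp_a L807226) q27730, e3 q28865 (flp_a L817397) q29776, e3 q28866 L807240 q27733, e3 q28867 L807246 q27741, e3 q28868 (flp_a L817403) q29777, e3 q28869 L817409 q29778, e3 q28870 (flp_a L811899) q29255, e3 q28871 (flp_a L811913) q29256, e3 q28872 (flp_a L807283) q27745, e3 q28873 (flp_a L817444) q29782, e3 q28874 (flp_a L813741) q29401, e3 q28875 (flp_a L813752) q29402, e3 q28876 L807306 q27749, e3 q28877 (flp_a L817462) q29785, e3 q28878 L817468 q29786, e3 q28879 (flp_a L811946) q29258, e3 q28880 (flp_a L811960) q29259, e3 q28881 (flp_a L807345) q27753, e3 q28882 (flp_a L817505) q29790, e3 q28883 (flp_a L813405) q29370, e3 q28884 (flp_a L813420) q29371, e3 q28885 (flp_a L807376) q27756, e3 q28886 (flp_a L817529) q29793, e3 q28887 (flp_a L811997) q29262, e3 q28888 L807400 q27760, e3 q28889 (flp_a L817543) q29795, e3 q28890 L807412 q27763, e3 q28891 (flp_a L817549) q29796, e3 q28892 L807422 q27766,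 e3 q28893 (flp_a L817555) q29797, e3 q28894 (flp_a L807432) q27768, e3 q28895 (flp_a L817561) q29798, e3 q28896 L807452 q27781, e3 q28897 L807459 q27771, e3 q28898 L807467 q27774, e3 q28899 L807473 q27776, e3 q28900 (flp_a L807479) q27777, e3 q28901 (flp_a L817577) q29800, e3 q28902 (flp_a L810426) q29149, e3 q28903 L807500 q27780, e3 q28904 (flp_a L817591) q29802, e3 q28905 L807510 q27783, e3 q28906 L807516 q27785, e3 q28907 L807524 q27787, e3 q28908 L807530 q27789, e3 q28909 L807538 q27792, e3 q28910 L807544 q27794, e3 q28911 L807552 q27797, e3 q28912 L807558 q27799, e3 q28913 L807564 q27804, e3 q28914 (flp_a L807566) q27805, e3 q28915 (flp_a L817598) q29804, e3 q28916 (flp_a L807578) q27809, e3 q28917 (flp_a L817606) q29805, e3 q28918 (flp_a L814251) q29450, e3 q28919 (flp_a L807595) q27812, e3 q28920 (flp_a L817618) q29807, e3 q28921 (flp_a L812037) q29265, e3 q28922 L807624 q27815, e3 q28923 (flp_a L817636) q29809, e3 q28924 (flp_a L807634) q27817, e3 q28925 (flp_a L817647) q29811, e3 q28926 (flp_a L807652) q27820, e3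 q28927 (flp_a L817655) q29812, trivial⟩ (by decide +kernel)

theorem ce_a_452 : ∀ r, r < 64 → sm ga (Qf (28928 + r)) = Qf (tab Gen.a (28928 + r)) :=
  edges_tab (sm ga) Qf (tab Gen.a) 28928 [(28928, 29443), (28929, 27824), (28930, 27826), (28931, 29814), (28932, 27862), (28933, 27830), (28934, 27832), (28935, 29816), (28936, 27836), (28937, 27839), (28938, 29818), (28939, 27845), (28940, 29820), (28941, 27847), (28942, 29821), (28943, 27850), (28944, 29822), (28945, 27852), (28946, 29823), (28947, 27855), (28948, 27857), (28949, 29824), (28950, 29570), (28951, 27861), (28952, 29826), (28953, 27866), (28954, 29828), (28955, 27868), (28956, 29829), (28957, 29201), (28958, 27872), (28959, 29832), (28960, 29053), (28961, 29835), (28962, 29048), (28963, 29049), (28964, 27876), (28965, 29838), (28966, 29052), (28967, 27879), (28968, 29840), (28969, 29181), (28970, 27882), (28971, 29842), (28972, 27885), (28973, 29844), (28974, 27888), (28975, 27892), (28976, 29845), (28977, 27895), (28978, 29847), (28979, 27898), (28980, 29849),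 (28981, 29850), (28982, 27901), (28983, 29852), (28984, 27904), (28985, 29853), (28986, 27907), (28987, 27911), (28988, 27913), (28989, 29854), (28990, 29090), (28991, 27915)]
    ⟨e3 q28928 (flp_a L814168) q29443, e3 q28929 L807675 q27824, e3 q28930 (flp_a L807679) q27826, e3 q28931 (flp_a L817669) q29814, e3 q28932 L807703 q27862, e3 q28933 L807710 q27830, e3 q28934 L807716 q27832, e3 q28935 (flp_a L817687) q29816, e3 q28936 L807726 q27836, e3 q28937 L807732 q27839, e3 q28938 (flp_a L817694) q29818, e3 q28939 (flp_a L807740) q27845, e3 q28940 (flp_a L817703) q29820, e3 q28941 (flp_a L807756) q27847, e3 q28942 (flp_a L817713) q29821, e3 q28943 L807772 q27850, e3 q28944 (flp_a L817721) q29822, e3 q28945 (flp_a L807780) q27852, e3 q28946 (flp_a L817725) q29823, e3 q28947 L807794 q27855, e3 q28948 (flp_a L807798) q27857, e3 q28949 (flp_a L817731) q29824, e3 q28950 (flp_a L815519) q29570, e3 q28951 L807821 q27861, e3 q28952 (flp_a L817745) q29826, e3 q28953 (flp_a L807831) q27866, e3 q28954 (flp_a L817756) q29828, e3 q28955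 (flp_a L807839) q27868, e3 q28956 (flp_a L817760) q29829, e3 q28957 (flp_a L811080) q29201, e3 q28958 L807860 q27872, e3 q28959 (flp_a L817779) q29832, e3 q28960 (flp_a L809000) q29053, e3 q28961 L817799 q29835, e3 q28962 (flp_a L808938) q29048, e3 q28963 (flp_a L808952) q29049, e3 q28964 (flp_a L807905) q27876, e3 q28965 (flp_a L817826) q29838, e3 q28966 (flp_a L808991) q29052, e3 q28967 (flp_a L807924) q27879, e3 q28968 (flp_a L817840) q29840, e3 q28969 (flp_a L810799) q29181, e3 q28970 L807947 q27882, e3 q28971 (flp_a L817854) q29842, e3 q28972 (flp_a L807955) q27885, e3 q28973 (flp_a L817861) q29844, e3 q28974 L807975 q27888, e3 q28975 L807983 q27892, e3 q28976 (flp_a L817871) q29845, e3 q28977 L807993 q27895, e3 q28978 (flp_a L817882) q29847, e3 q28979 L808005 q27898, e3 q28980 (flp_a L817893) q29849, e3 q28981 (flp_a L817897) q29850, e3 q28982 L808016 q27901, e3 q28983 (flp_a L817906) q29852, e3 q28984 L808036 q27904, e3 q28985 (flp_a L817914) q29853, e3 q28986 L808058 q27907, e3 q28987 L808066 q27911, e3 q28988 L808074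 q27913, e3 q28989 (flp_a L817924) q29854, e3 q28990 (flp_a L809536) q29090, e3 q28991 (flp_a L808090) q27915, trivial⟩ (by decide +kernel)

theorem ce_a_453 : ∀ r, r < 64 → sm ga (Qf (28992 + r)) = Qf (tab Gen.a (28992 + r)) :=
  edges_tab (sm ga) Qf (tab Gen.a) 28992 [(28992, 29856), (28993, 27919), (28994, 27921), (28995, 27923), (28996, 27927), (28997, 29857), (28998, 27930), (28999, 27932), (29000, 27935), (29001, 29858), (29002, 28391), (29003, 28388), (29004, 27942), (29005, 27943), (29006, 27945), (29007, 27947), (29008, 29861), (29009, 29862), (29010, 28387), (29011, 29864), (29012, 28116), (29013, 27953), (29014, 29867), (29015, 28649), (29016, 28650), (29017, 28614), (29018, 28319), (29019, 28318), (29020, 29873), (29021, 28790), (29022, 28791), (29023, 29878), (29024, 28563), (29025, 28564), (29026, 27962), (29027, 29883), (29028, 28794), (29029, 28717), (29030, 27966), (29031, 29886), (29032, 28575), (29033, 27969), (29034, 29889), (29035, 28550), (29036, 28551), (29037, 27972), (29038, 29894), (29039, 28784),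 (29040, 28099), (29041, 29897), (29042, 28589), (29043, 28408), (29044, 27978), (29045, 29901), (29046, 28605), (29047, 29904), (29048, 28962), (29049, 28963), (29050, 27983), (29051, 29908), (29052, 28966), (29053, 28960), (29054, 27987), (29055, 29912)]
    ⟨e3 q28992 (flp_a L817936) q29856, e3 q28993 L808106 q27919, e3 q28994 L808114 q27921, e3 q28995 L808120 q27923, e3 q28996 (flp_a L808126) q27927, e3 q28997 (flp_a L817944) q29857, e3 q28998 (flp_a L808162) q27930, e3 q28999 (flp_a L808182) q27932, e3 q29000 L808204 q27935, e3 q29001 (flp_a L817964) q29858, e3 q29002 L808236 q28391, e3 q29003 L808252 q28388, e3 q29004 L808270 q27942, e3 q29005 (flp_a L808286) q27943, e3 q29006 L808308 q27945, e3 q29007 L808328 q27947, e3 q29008 (flp_a L818016) q29861, e3 q29009 (flp_a L818036) q29862, e3 q29010 L808374 q28387, e3 q29011 L818066 q29864, e3 q29012 L808406 q28116, e3 q29013 (flp_a L808420) q27953, e3 q29014 L818115 q29867, e3 q29015 L808456 q28649, e3 q29016 L808470 q28650, e3 q29017 L808486 q28614, e3 q29018 L808502 q28319,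 e3 q29019 L808518 q28318, e3 q29020 L818213 q29873, e3 q29021 L808550 q28790, e3 q29022 L808564 q28791, e3 q29023 L818291 q29878, e3 q29024 L808595 q28563, e3 q29025 L808609 q28564, e3 q29026 (flp_a L808622) q27962, e3 q29027 (flp_a L818369) q29883, e3 q29028 L808648 q28794, e3 q29029 L808660 q28717, e3 q29030 (flp_a L808668) q27966, e3 q29031 (flp_a L818405) q29886, e3 q29032 L808698 q28575, e3 q29033 (flp_a L808707) q27969, e3 q29034 L818440 q29889, e3 q29035 L808745 q28550, e3 q29036 L808759 q28551, e3 q29037 (flp_a L808772) q27972, e3 q29038 (flp_a L818524) q29894, e3 q29039 L808804 q28784, e3 q29040 L808818 q28099, e3 q29041 L818568 q29897, e3 q29042 L808850 q28589, e3 q29043 L808864 q28408, e3 q29044 (flp_a L808880) q27978, e3 q29045 (flp_a L818636) q29901, e3 q29046 L808908 q28605, e3 q29047 L818676 q29904, e3 q29048 L808938 q28962, e3 q29049 L808952 q28963, e3 q29050 (flp_a L808967) q27983, e3 q29051 (flp_a L818741) q29908, e3 q29052 L808991 q28966, e3 q29053 L809000 q28960, e3 q29054 L809012 q27987, e3 q29055 (flp_a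 L818786) q29912, trivial⟩ (by decide +kernel)

theorem ce_a_454 : ∀ r, r < 64 → sm ga (Qf (29056 + r)) = Qf (tab Gen.a (29056 + r)) :=
  edges_tab (sm ga) Qf (tab Gen.a) 29056 [(29056, 27990), (29057, 29913), (29058, 28608), (29059, 28613), (29060, 28618), (29061, 28619), (29062, 27997), (29063, 29917), (29064, 28616), (29065, 28701), (29066, 28317), (29067, 28001), (29068, 29921), (29069, 28771), (29070, 28004), (29071, 29923), (29072, 28660), (29073, 28413), (29074, 28008), (29075, 29926), (29076, 29927), (29077, 28461), (29078, 28012), (29079, 29929), (29080, 28015), (29081, 29930), (29082, 28679), (29083, 28680), (29084, 28018), (29085, 29934), (29086, 28683), (29087, 28684), (29088, 28021), (29089, 29939), (29090, 28990), (29091, 28098), (29092, 28025), (29093, 29942), (29094, 28772), (29095, 28029), (29096, 29944), (29097, 29945), (29098, 28620), (29099, 28033), (29100, 29948), (29101, 28036), (29102, 29949), (29103, 28712), (29104, 28621), (29105, 28044), (29106, 29951), (29107, 29952), (29108, 28232), (29109, 28049),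 (29110, 28050), (29111, 29955), (29112, 28053), (29113, 29956), (29114, 28468), (29115, 28056), (29116, 28058), (29117, 28059), (29118, 29958), (29119, 28112)]
    ⟨e3 q29056 L809040 q27990, e3 q29057 (flp_a L818802) q29913, e3 q29058 L809068 q28608, e3 q29059 L809080 q28613, e3 q29060 L809096 q28618, e3 q29061 L809111 q28619, e3 q29062 (flp_a L809126) q27997, e3 q29063 (flp_a L818863) q29917, e3 q29064 L809156 q28616, e3 q29065 L809172 q28701, e3 q29066 L809188 q28317, e3 q29067 L809204 q28001, e3 q29068 (flp_a L818925) q29921, e3 q29069 L809232 q28771, e3 q29070 (flp_a L809244) q28004, e3 q29071 (flp_a L818953) q29923, e3 q29072 L809272 q28660, e3 q29073 L809286 q28413, e3 q29074 L809302 q28008, e3 q29075 (flp_a L818997) q29926, e3 q29076 L819009 q29927, e3 q29077 L809344 q28461, e3 q29078 (flp_a L809360) q28012, e3 q29079 (flp_a L819047) q29929, e3 q29080 L809394 q28015, e3 q29081 L819063 q29930, e3 q29082 L809428 q28679, e3 q29083 L809442 q28680, e3 q29084 (flp_a L809457) q28018, e3 q29085 (flp_a L819126) q29934, e3 q29086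 L809487 q28683, e3 q29087 L809498 q28684, e3 q29088 (flp_a L809510) q28021, e3 q29089 (flp_a L819194) q29939, e3 q29090 L809536 q28990, e3 q29091 L809548 q28098, e3 q29092 L809566 q28025, e3 q29093 (flp_a L819238) q29942, e3 q29094 L809592 q28772, e3 q29095 L809608 q28029, e3 q29096 (flp_a L819268) q29944, e3 q29097 (flp_a L819284) q29945, e3 q29098 L809648 q28620, e3 q29099 L809662 q28033, e3 q29100 (flp_a L819330) q29948, e3 q29101 L809688 q28036, e3 q29102 (flp_a L819348) q29949, e3 q29103 L809708 q28712, e3 q29104 L809720 q28621, e3 q29105 (flp_a L809735) q28044, e3 q29106 L819368 q29951, e3 q29107 L819386 q29952, e3 q29108 L809789 q28232, e3 q29109 (flp_a L809803) q28049, e3 q29110 (flp_a L809819) q28050, e3 q29111 (flp_a L819439) q29955, e3 q29112 (flp_a L809851) q28053, e3 q29113 (flp_a L819457) q29956, e3 q29114 L809887 q28468, e3 q29115 L809904 q28056, e3 q29116 L809920 q28058, e3 q29117 (flp_a L809938) q28059, e3 q29118 (flp_a L819491) q29958, e3 q29119 L809974 q28112, trivial⟩ (by decide +kernel)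

theorem ce_a_455 : ∀ r, r < 64 → sm ga (Qf (29120 + r)) = Qf (tab Gen.a (29120 + r)) :=
  edges_tab (sm ga) Qf (tab Gen.a) 29120 [(29120, 28063), (29121, 29960), (29122, 28140), (29123, 28066), (29124, 28068), (29125, 28069), (29126, 29962), (29127, 28161), (29128, 28073), (29129, 29965), (29130, 28076), (29131, 29966), (29132, 28315), (29133, 28316), (29134, 29969), (29135, 28800), (29136, 28719), (29137, 29974), (29138, 28829), (29139, 28617), (29140, 28085), (29141, 29979), (29142, 28835), (29143, 28836), (29144, 29982), (29145, 28351), (29146, 28352), (29147, 28091), (29148, 29986), (29149, 28902), (29150, 29989), (29151, 28097), (29152, 28096), (29153, 29991), (29154, 29896), (29155, 29941), (29156, 29893), (29157, 28100), (29158, 29995), (29159, 28813), (29160, 28707), (29161, 28103), (29162, 29999), (29163, 28858), (29164, 28612), (29165, 28107), (29166, 30004), (29167, 28654), (29168, 28111), (29169, 30006), (29170, 28807), (29171, 30010), (29172, 28398), (29173, 28399), (29174, 28115), (29175, 30014), (29176, 29866),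 (29177, 28118), (29178, 30017), (29179, 28120), (29180, 30018), (29181, 28969), (29182, 28123), (29183, 30020)]
    ⟨e3 q29120 (flp_a L809989) q28063, e3 q29121 (flp_a L819525) q29960, e3 q29122 L810025 q28140, e3 q29123 L810042 q28066, e3 q29124 L810060 q28068, e3 q29125 (flp_a L810076) q28069, e3 q29126 (flp_a L819559) q29962, e3 q29127 L810104 q28161, e3 q29128 (flp_a L810115) q28073, e3 q29129 (flp_a L819600) q29965, e3 q29130 L810153 q28076, e3 q29131 L819618 q29966, e3 q29132 L810187 q28315, e3 q29133 L810201 q28316, e3 q29134 L819664 q29969, e3 q29135 L810233 q28800, e3 q29136 L810247 q28719, e3 q29137 L819742 q29974, e3 q29138 L810278 q28829, e3 q29139 L810292 q28617, e3 q29140 (flp_a L810305) q28085, e3 q29141 (flp_a L819822) q29979, e3 q29142 L810331 q28835, e3 q29143 L810343 q28836, e3 q29144 L819856 q29982, e3 q29145 L810369 q28351, e3 q29146 L810383 q28352, e3 q29147 (flp_a L810398) q28091, e3 q29148 (flp_a L819921) q29986, e3 q29149 L810426 q28902, e3 q29150 L819956 q29989, e3 q29151 L810451 q28097, e3 q29152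 (flp_a L810463) q28096, e3 q29153 (flp_a L819990) q29991, e3 q29154 (flp_a L818554) q29896, e3 q29155 (flp_a L819220) q29941, e3 q29156 (flp_a L818507) q29893, e3 q29157 (flp_a L810512) q28100, e3 q29158 (flp_a L820030) q29995, e3 q29159 L810536 q28813, e3 q29160 L810547 q28707, e3 q29161 (flp_a L810557) q28103, e3 q29162 (flp_a L820071) q29999, e3 q29163 L810579 q28858, e3 q29164 L810590 q28612, e3 q29165 L810602 q28107, e3 q29166 (flp_a L820125) q30004, e3 q29167 L810618 q28654, e3 q29168 L810628 q28111, e3 q29169 (flp_a L820143) q30006, e3 q29170 L810648 q28807, e3 q29171 L820181 q30010, e3 q29172 L810673 q28398, e3 q29173 L810687 q28399, e3 q29174 (flp_a L810702) q28115, e3 q29175 (flp_a L820244) q30014, e3 q29176 (flp_a L818102) q29866, e3 q29177 (flp_a L810737) q28118, e3 q29178 (flp_a L820277) q30017, e3 q29179 (flp_a L810769) q28120, e3 q29180 (flp_a L820295) q30018, e3 q29181 L810799 q28969, e3 q29182 L810810 q28123, e3 q29183 (flp_a L820321) q30020, trivial⟩ (by decide +kernel)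

theorem ce_a_456 : ∀ r, r < 64 → sm ga (Qf (29184 + r)) = Qf (tab Gen.a (29184 + r)) :=
  edges_tab (sm ga) Qf (tab Gen.a) 29184 [(29184, 28125), (29185, 30021), (29186, 28407), (29187, 28129), (29188, 30023), (29189, 28796), (29190, 28131), (29191, 30025), (29192, 28672), (29193, 28134), (29194, 28135), (29195, 28136), (29196, 30027), (29197, 28787), (29198, 28139), (29199, 30029), (29200, 30030), (29201, 28957), (29202, 28144), (29203, 28145), (29204, 30034), (29205, 28148), (29206, 28150), (29207, 30035), (29208, 28625), (29209, 30037), (29210, 28372), (29211, 28156), (29212, 30040), (29213, 28402), (29214, 28403), (29215, 28160), (29216, 30045), (29217, 29964), (29218, 28162), (29219, 30049), (29220, 28165), (29221, 30050), (29222, 28168), (29223, 30051), (29224, 28170), (29225, 30052), (29226, 28173), (29227, 30053), (29228, 28176), (29229, 30054), (29230, 28177), (29231, 28179), (29232, 28180), (29233, 30055), (29234, 28183), (29235, 28186), (29236, 28188), (29237, 28190), (29238, 30056), (29239, 28192), (29240, 28195),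 (29241, 28197), (29242, 28200), (29243, 28201), (29244, 30057), (29245, 28204), (29246, 28206), (29247, 28207)]
    ⟨e3 q29184 (flp_a L810832) q28125, e3 q29185 (flp_a L820337) q30021, e3 q29186 L810862 q28407, e3 q29187 L810874 q28129, e3 q29188 (flp_a L820365) q30023, e3 q29189 L810900 q28796, e3 q29190 (flp_a L810912) q28131, e3 q29191 (flp_a L820395) q30025, e3 q29192 L810948 q28672, e3 q29193 L810965 q28134, e3 q29194 (flp_a L810979) q28135, e3 q29195 (flp_a L810997) q28136, e3 q29196 (flp_a L820429) q30027, e3 q29197 L811033 q28787, e3 q29198 L811050 q28139, e3 q29199 (flp_a L820463) q30029, e3 q29200 (flp_a L820469) q30030, e3 q29201 L811080 q28957, e3 q29202 L811093 q28144, e3 q29203 (flp_a L811105) q28145, e3 q29204 (flp_a L820517) q30034, e3 q29205 L811143 q28148, e3 q29206 L811161 q28150, e3 q29207 (flp_a L820537) q30035, e3 q29208 L811185 q28625, e3 q29209 L820561 q30037, e3 q29210 L811215 q28372, e3 q29211 (flp_a L811229) q28156, e3 q29212 (flp_a L820614) q30040, e3 q29213 L811255 q28402, e3 q29214 L811264 q28403,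 e3 q29215 L811278 q28160, e3 q29216 (flp_a L820678) q30045, e3 q29217 (flp_a L819585) q29964, e3 q29218 (flp_a L811305) q28162, e3 q29219 (flp_a L820714) q30049, e3 q29220 L811343 q28165, e3 q29221 (flp_a L820734) q30050, e3 q29222 L811371 q28168, e3 q29223 (flp_a L820754) q30051, e3 q29224 (flp_a L811393) q28170, e3 q29225 (flp_a L820768) q30052, e3 q29226 L811429 q28173, e3 q29227 (flp_a L820788) q30053, e3 q29228 L811455 q28176, e3 q29229 (flp_a L820802) q30054, e3 q29230 (flp_a L811485) q28177, e3 q29231 L811505 q28179, e3 q29232 (flp_a L811519) q28180, e3 q29233 (flp_a L820822) q30055, e3 q29234 L811557 q28183, e3 q29235 L811571 q28186, e3 q29236 L811587 q28188, e3 q29237 L811603 q28190, e3 q29238 (flp_a L820842) q30056, e3 q29239 (flp_a L811635) q28192, e3 q29240 L811657 q28195, e3 q29241 L811673 q28197, e3 q29242 L811685 q28200, e3 q29243 L811699 q28201, e3 q29244 (flp_a L820862) q30057, e3 q29245 (flp_a L811717) q28204, e3 q29246 (flp_a L811737) q28206, e3 q29247 (flp_a L811757) q28207, trivial⟩ (by decide +kernel)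

theorem ce_a_457 : ∀ r, r < 64 → sm ga (Qf (29248 + r)) = Qf (tab Gen.a (29248 + r)) :=
  edges_tab (sm ga) Qf (tab Gen.a) 29248 [(29248, 30058), (29249, 28209), (29250, 30059), (29251, 28212), (29252, 28215), (29253, 28217), (29254, 30060), (29255, 28870), (29256, 28871), (29257, 30064), (29258, 28879), (29259, 28880), (29260, 28222), (29261, 30068), (29262, 28887), (29263, 28225), (29264, 30070), (29265, 28921), (29266, 28229), (29267, 30072), (29268, 28231), (29269, 30073), (29270, 29954), (29271, 28312), (29272, 28235), (29273, 30077), (29274, 28237), (29275, 30078), (29276, 28240), (29277, 30079), (29278, 28244), (29279, 28246), (29280, 28248), (29281, 28250), (29282, 28252), (29283, 30080), (29284, 28256), (29285, 28257), (29286, 30081), (29287, 28260), (29288, 28261), (29289, 30082), (29290, 28322), (29291, 28323), (29292, 30087), (29293, 28325), (29294, 28326), (29295, 28266), (29296, 30092), (29297, 28329), (29298, 28330), (29299, 28270), (29300, 30095), (29301, 28334), (29302, 28273), (29303, 28275), (29304, 30098),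 (29305, 28277), (29306, 30099), (29307, 28355), (29308, 28356), (29309, 28280), (29310, 28282), (29311, 30103)]
    ⟨e3 q29248 (flp_a L820874) q30058, e3 q29249 (flp_a L811789) q28209, e3 q29250 (flp_a L820892) q30059, e3 q29251 (flp_a L811825) q28212, e3 q29252 L811847 q28215, e3 q29253 L811865 q28217, e3 q29254 L820910 q30060, e3 q29255 L811899 q28870, e3 q29256 L811913 q28871, e3 q29257 L820973 q30064, e3 q29258 L811946 q28879, e3 q29259 L811960 q28880, e3 q29260 (flp_a L811975) q28222, e3 q29261 (flp_a L821042) q30068, e3 q29262 L811997 q28887, e3 q29263 (flp_a L812007) q28225, e3 q29264 (flp_a L821064) q30070, e3 q29265 L812037 q28921, e3 q29266 (flp_a L812048) q28229, e3 q29267 (flp_a L821092) q30072, e3 q29268 (flp_a L812084) q28231, e3 q29269 (flp_a L821112) q30073, e3 q29270 (flp_a L819422) q29954, e3 q29271 L812125 q28312, e3 q29272 L812141 q28235, e3 q29273 (flp_a L821171) q30077, e3 q29274 (flp_a L812165) q28237, e3 q29275 (flp_a L821189) q30078, e3 q29276 L812203 q28240, e3 q29277 (flp_a L821209) q30079, e3 q29278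 L812229 q28244, e3 q29279 L812245 q28246, e3 q29280 L812263 q28248, e3 q29281 L812279 q28250, e3 q29282 L812297 q28252, e3 q29283 L821227 q30080, e3 q29284 (flp_a L812327) q28256, e3 q29285 (flp_a L812343) q28257, e3 q29286 (flp_a L821247) q30081, e3 q29287 L812377 q28260, e3 q29288 (flp_a L812387) q28261, e3 q29289 L821263 q30082, e3 q29290 L812423 q28322, e3 q29291 L812437 q28323, e3 q29292 L821341 q30087, e3 q29293 L812468 q28325, e3 q29294 L812482 q28326, e3 q29295 (flp_a L812495) q28266, e3 q29296 (flp_a L821419) q30092, e3 q29297 L812525 q28329, e3 q29298 L812537 q28330, e3 q29299 (flp_a L812549) q28270, e3 q29300 (flp_a L821461) q30095, e3 q29301 L812579 q28334, e3 q29302 (flp_a L812588) q28273, e3 q29303 (flp_a L812606) q28275, e3 q29304 (flp_a L821500) q30098, e3 q29305 (flp_a L812638) q28277, e3 q29306 (flp_a L821518) q30099, e3 q29307 L812662 q28355, e3 q29308 L812671 q28356, e3 q29309 (flp_a L812683) q28280, e3 q29310 L812705 q28282, e3 q29311 (flp_a L821565) q30103, trivial⟩ (by decide +kernel)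

theorem ce_a_458 : ∀ r, r < 64 → sm ga (Qf (29312 + r)) = Qf (tab Gen.a (29312 + r)) :=
  edges_tab (sm ga) Qf (tab Gen.a) 29312 [(29312, 28285), (29313, 30104), (29314, 28365), (29315, 28366), (29316, 28290), (29317, 28293), (29318, 30107), (29319, 30108), (29320, 28297), (29321, 30109), (29322, 30110), (29323, 28419), (29324, 28301), (29325, 28303), (29326, 30113), (29327, 28426), (29328, 28427), (29329, 30115), (29330, 30116), (29331, 28642), (29332, 28310), (29333, 28311), (29334, 30119), (29335, 30076), (29336, 28314), (29337, 30121), (29338, 29920), (29339, 29968), (29340, 29872), (29341, 29871), (29342, 28730), (29343, 30127), (29344, 28321), (29345, 30128), (29346, 30084), (29347, 30085), (29348, 30086), (29349, 28324), (29350, 30133), (29351, 30089), (29352, 30090), (29353, 30091), (29354, 28328), (29355, 30139), (29356, 30094), (29357, 28722), (29358, 28333), (29359, 30142), (29360, 30097), (29361, 30146), (29362, 28581), (29363, 28338), (29364, 30148), (29365, 28634), (29366, 28341), (29367, 28343), (29368, 28344),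 (29369, 30150), (29370, 28883), (29371, 28884), (29372, 28348), (29373, 30153), (29374, 28350), (29375, 30154)]
    ⟨e3 q29312 L812731 q28285, e3 q29313 (flp_a L821583) q30104, e3 q29314 L812755 q28365, e3 q29315 L812769 q28366, e3 q29316 (flp_a L812784) q28290, e3 q29317 L812804 q28293, e3 q29318 (flp_a L821631) q30107, e3 q29319 (flp_a L821649) q30108, e3 q29320 L812850 q28297, e3 q29321 (flp_a L821669) q30109, e3 q29322 (flp_a L821687) q30110, e3 q29323 L812892 q28419, e3 q29324 L812906 q28301, e3 q29325 L812916 q28303, e3 q29326 (flp_a L821735) q30113, e3 q29327 L812940 q28426, e3 q29328 L812952 q28427, e3 q29329 L821759 q30115, e3 q29330 L821777 q30116, e3 q29331 L813001 q28642, e3 q29332 (flp_a L813013) q28310, e3 q29333 (flp_a L813025) q28311, e3 q29334 (flp_a L821824) q30119, e3 q29335 (flp_a L821154) q30076, e3 q29336 (flp_a L813056) q28314, e3 q29337 (flp_a L821844) q30121, e3 q29338 (flp_a L818909) q29920, e3 q29339 (flp_a L819652) q29968, e3 q29340 (flp_a L818197) q29872, e3 q29341 (flp_a L818179) q29871, e3 q29342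 L813118 q28730, e3 q29343 L821904 q30127, e3 q29344 (flp_a L813141) q28321, e3 q29345 (flp_a L821924) q30128, e3 q29346 (flp_a L821297) q30084, e3 q29347 (flp_a L821312) q30085, e3 q29348 (flp_a L821326) q30086, e3 q29349 (flp_a L813177) q28324, e3 q29350 (flp_a L821959) q30133, e3 q29351 (flp_a L821375) q30089, e3 q29352 (flp_a L821388) q30090, e3 q29353 (flp_a L821402) q30091, e3 q29354 L813223 q28328, e3 q29355 (flp_a L822013) q30139, e3 q29356 (flp_a L821447) q30094, e3 q29357 L813247 q28722, e3 q29358 L813261 q28333, e3 q29359 (flp_a L822043) q30142, e3 q29360 (flp_a L821487) q30097, e3 q29361 L822079 q30146, e3 q29362 L813306 q28581, e3 q29363 (flp_a L813318) q28338, e3 q29364 (flp_a L822113) q30148, e3 q29365 L813346 q28634, e3 q29366 L813357 q28341, e3 q29367 L813367 q28343, e3 q29368 (flp_a L813375) q28344, e3 q29369 (flp_a L822137) q30150, e3 q29370 L813405 q28883, e3 q29371 L813420 q28884, e3 q29372 L813436 q28348, e3 q29373 (flp_a L822181) q30153, e3 q29374 (flp_a L813466) q28350, e3 q29375 (flp_a L822199) q30154,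 trivial⟩ (by decide +kernel)

theorem ce_a_459 : ∀ r, r < 64 → sm ga (Qf (29376 + r)) = Qf (tab Gen.a (29376 + r)) :=
  edges_tab (sm ga) Qf (tab Gen.a) 29376 [(29376, 29984), (29377, 29985), (29378, 28354), (29379, 30158), (29380, 30159), (29381, 30102), (29382, 28358), (29383, 28360), (29384, 28362), (29385, 28364), (29386, 30163), (29387, 30106), (29388, 28368), (29389, 30165), (29390, 28538), (29391, 28371), (29392, 30167), (29393, 30039), (29394, 28373), (29395, 30169), (29396, 28376), (29397, 28378), (29398, 28381), (29399, 28383), (29400, 30170), (29401, 28874), (29402, 28875), (29403, 28386), (29404, 30173), (29405, 29860), (29406, 28390), (29407, 30175), (29408, 28393), (29409, 30176), (29410, 28396), (29411, 28397), (29412, 30177), (29413, 30012), (29414, 30013), (29415, 28401), (29416, 30182), (29417, 30183), (29418, 30043), (29419, 30044), (29420, 28405), (29421, 30189), (29422, 30190), (29423, 28668), (29424, 29900), (29425, 28410), (29426, 28411), (29427, 30193), (29428, 30194), (29429, 28657), (29430, 28664),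 (29431, 28415), (29432, 28417), (29433, 28418), (29434, 30198), (29435, 30112), (29436, 28421), (29437, 28425), (29438, 30200), (29439, 28718)]
    ⟨e3 q29376 (flp_a L819890) q29984, e3 q29377 (flp_a L819905) q29985, e3 q29378 L813501 q28354, e3 q29379 (flp_a L822232) q30158, e3 q29380 (flp_a L822238) q30159, e3 q29381 (flp_a L821552) q30102, e3 q29382 L813526 q28358, e3 q29383 L813538 q28360, e3 q29384 L813544 q28362, e3 q29385 L813560 q28364, e3 q29386 (flp_a L822264) q30163, e3 q29387 (flp_a L821615) q30106, e3 q29388 L813584 q28368, e3 q29389 L822280 q30165, e3 q29390 L813614 q28538, e3 q29391 (flp_a L813626) q28371, e3 q29392 (flp_a L822314) q30167, e3 q29393 (flp_a L820597) q30039, e3 q29394 (flp_a L813655) q28373, e3 q29395 (flp_a L822332) q30169, e3 q29396 L813683 q28376, e3 q29397 L813693 q28378, e3 q29398 (flp_a L813699) q28381, e3 q29399 (flp_a L813715) q28383, e3 q29400 (flp_a L822346) q30170, e3 q29401 L813741 q28874, e3 q29402 L813752 q28875, e3 q29403 (flp_a L813764) q28386, e3 q29404 (flp_a L822382) q30173,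 e3 q29405 (flp_a L817998) q29860, e3 q29406 L813804 q28390, e3 q29407 (flp_a L822410) q30175, e3 q29408 L813832 q28393, e3 q29409 (flp_a L822424) q30176, e3 q29410 L813862 q28396, e3 q29411 (flp_a L813872) q28397, e3 q29412 (flp_a L822442) q30177, e3 q29413 (flp_a L820215) q30012, e3 q29414 (flp_a L820228) q30013, e3 q29415 L813903 q28401, e3 q29416 (flp_a L822476) q30182, e3 q29417 (flp_a L822482) q30183, e3 q29418 (flp_a L820648) q30043, e3 q29419 (flp_a L820663) q30044, e3 q29420 L813935 q28405, e3 q29421 (flp_a L822531) q30189, e3 q29422 (flp_a L822545) q30190, e3 q29423 L813961 q28668, e3 q29424 (flp_a L818618) q29900, e3 q29425 L813983 q28410, e3 q29426 L813997 q28411, e3 q29427 (flp_a L822575) q30193, e3 q29428 (flp_a L822589) q30194, e3 q29429 L814027 q28657, e3 q29430 L814039 q28664, e3 q29431 L814053 q28415, e3 q29432 L814065 q28417, e3 q29433 L814071 q28418, e3 q29434 (flp_a L822639) q30198, e3 q29435 (flp_a L821719) q30112, e3 q29436 L814093 q28421, e3 q29437 L814101 q28425, e3 q29438 (flp_a L822655) q30200, e3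 q29439 L814115 q28718, trivial⟩ (by decide +kernel)

theorem ce_a_460 : ∀ r, r < 64 → sm ga (Qf (29440 + r)) = Qf (tab Gen.a (29440 + r)) :=
  edges_tab (sm ga) Qf (tab Gen.a) 29440 [(29440, 28433), (29441, 28436), (29442, 30201), (29443, 28928), (29444, 28440), (29445, 30203), (29446, 28443), (29447, 30204), (29448, 28445), (29449, 30206), (29450, 28918), (29451, 28449), (29452, 28453), (29453, 30208), (29454, 28457), (29455, 28460), (29456, 30210), (29457, 28465), (29458, 28467), (29459, 30211), (29460, 28470), (29461, 30213), (29462, 28541), (29463, 28473), (29464, 30216), (29465, 28567), (29466, 28568), (29467, 28569), (29468, 28477), (29469, 30222), (29470, 28572), (29471, 28481), (29472, 30224), (29473, 28578), (29474, 28483), (29475, 30227), (29476, 28584), (29477, 28486), (29478, 30229), (29479, 28592), (29480, 28593), (29481, 28490), (29482, 30233), (29483, 28596), (29484, 28493), (29485, 30235), (29486, 28615), (29487, 28497), (29488, 30236), (29489, 28628), (29490, 28501), (29491, 30238), (29492, 28503), (29493,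 30240), (29494, 28646), (29495, 28506), (29496, 30242), (29497, 28653), (29498, 28509), (29499, 30244), (29500, 28512), (29501, 30245), (29502, 30246), (29503, 28516)]
    ⟨e3 q29440 L814128 q28433, e3 q29441 (flp_a L814144) q28436, e3 q29442 (flp_a L822663) q30201, e3 q29443 L814168 q28928, e3 q29444 L814181 q28440, e3 q29445 (flp_a L822687) q30203, e3 q29446 L814203 q28443, e3 q29447 (flp_a L822699) q30204, e3 q29448 (flp_a L814219) q28445, e3 q29449 (flp_a L822716) q30206, e3 q29450 L814251 q28918, e3 q29451 L814266 q28449, e3 q29452 L814280 q28453, e3 q29453 (flp_a L822746) q30208, e3 q29454 L814302 q28457, e3 q29455 L814314 q28460, e3 q29456 (flp_a L822769) q30210, e3 q29457 L814342 q28465, e3 q29458 L814352 q28467, e3 q29459 (flp_a L822787) q30211, e3 q29460 (flp_a L814376) q28470, e3 q29461 (flp_a L822814) q30213, e3 q29462 L814404 q28541, e3 q29463 (flp_a L814413) q28473, e3 q29464 (flp_a L822851) q30216, e3 q29465 L814439 q28567, e3 q29466 L814448 q28568, e3 q29467 L814460 q28569, e3 q29468 L814473 q28477, e3 q29469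 (flp_a L822921) q30222, e3 q29470 L814501 q28572, e3 q29471 L814515 q28481, e3 q29472 (flp_a L822949) q30224, e3 q29473 L814531 q28578, e3 q29474 (flp_a L814538) q28483, e3 q29475 (flp_a L822970) q30227, e3 q29476 L814570 q28584, e3 q29477 (flp_a L814583) q28486, e3 q29478 (flp_a L823000) q30229, e3 q29479 L814603 q28592, e3 q29480 L814615 q28593, e3 q29481 L814625 q28490, e3 q29482 (flp_a L823038) q30233, e3 q29483 L814649 q28596, e3 q29484 L814661 q28493, e3 q29485 (flp_a L823062) q30235, e3 q29486 L814681 q28615, e3 q29487 (flp_a L814688) q28497, e3 q29488 (flp_a L823072) q30236, e3 q29489 L814720 q28628, e3 q29490 L814735 q28501, e3 q29491 (flp_a L823102) q30238, e3 q29492 (flp_a L814751) q28503, e3 q29493 (flp_a L823123) q30240, e3 q29494 L814781 q28646, e3 q29495 (flp_a L814790) q28506, e3 q29496 (flp_a L823149) q30242, e3 q29497 L814814 q28653, e3 q29498 L814826 q28509, e3 q29499 (flp_a L823171) q30244, e3 q29500 L814852 q28512, e3 q29501 (flp_a L823185) q30245, e3 q29502 (flp_a L823193) q30246, e3 q29503 L814874 q28516,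 trivial⟩ (by decide +kernel)

theorem ce_a_461 : ∀ r, r < 64 → sm ga (Qf (29504 + r)) = Qf (tab Gen.a (29504 + r)) :=
  edges_tab (sm ga) Qf (tab Gen.a) 29504 [(29504, 28517), (29505, 28519), (29506, 30247), (29507, 28687), (29508, 28522), (29509, 30250), (29510, 28692), (29511, 28526), (29512, 30253), (29513, 28529), (29514, 30254), (29515, 28533), (29516, 28534), (29517, 30255), (29518, 28847), (29519, 28537), (29520, 30257), (29521, 30033), (29522, 28540), (29523, 30260), (29524, 30215), (29525, 28542), (29526, 30264), (29527, 28554), (29528, 28555), (29529, 28556), (29530, 28557), (29531, 28548), (29532, 28549), (29533, 30269), (29534, 29891), (29535, 29892), (29536, 28553), (29537, 30272), (29538, 30273), (29539, 30267), (29540, 30268), (29541, 29916), (29542, 28558), (29543, 30277), (29544, 28560), (29545, 28562), (29546, 30278), (29547, 29880), (29548, 29881), (29549, 29882), (29550, 28566), (29551, 30284), (29552, 30285), (29553, 30219), (29554, 30220), (29555, 30221), (29556, 28571), (29557, 30290), (29558, 28574),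 (29559, 30291), (29560, 29888), (29561, 28577), (29562, 30295), (29563, 30296), (29564, 30002), (29565, 28580), (29566, 30299), (29567, 30003)]
    ⟨e3 q29504 (flp_a L814882) q28517, e3 q29505 (flp_a L814898) q28519, e3 q29506 (flp_a L823203) q30247, e3 q29507 L814928 q28687, e3 q29508 L814939 q28522, e3 q29509 (flp_a L823240) q30250, e3 q29510 L814955 q28692, e3 q29511 L814964 q28526, e3 q29512 (flp_a L823261) q30253, e3 q29513 L814984 q28529, e3 q29514 (flp_a L823271) q30254, e3 q29515 (flp_a L814992) q28533, e3 q29516 (flp_a L815006) q28534, e3 q29517 (flp_a L823277) q30255, e3 q29518 L815036 q28847, e3 q29519 (flp_a L815045) q28537, e3 q29520 (flp_a L823301) q30257, e3 q29521 (flp_a L820504) q30033, e3 q29522 L815072 q28540, e3 q29523 (flp_a L823326) q30260, e3 q29524 (flp_a L822838) q30215, e3 q29525 (flp_a L815093) q28542, e3 q29526 (flp_a L823356) q30264, e3 q29527 L815119 q28554, e3 q29528 L815129 q28555, e3 q29529 L815139 q28556, e3 q29530 L815153 q28557, e3 q29531 (flp_a L815165) q28548, e3 q29532 (flp_a L815183)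 q28549, e3 q29533 (flp_a L823418) q30269, e3 q29534 (flp_a L818474) q29891, e3 q29535 (flp_a L818491) q29892, e3 q29536 L815222 q28553, e3 q29537 (flp_a L823448) q30272, e3 q29538 (flp_a L823454) q30273, e3 q29539 (flp_a L823390) q30267, e3 q29540 (flp_a L823404) q30268, e3 q29541 (flp_a L818846) q29916, e3 q29542 (flp_a L815277) q28558, e3 q29543 (flp_a L823500) q30277, e3 q29544 (flp_a L815305) q28560, e3 q29545 (flp_a L815321) q28562, e3 q29546 (flp_a L823514) q30278, e3 q29547 (flp_a L818325) q29880, e3 q29548 (flp_a L818338) q29881, e3 q29549 (flp_a L818352) q29882, e3 q29550 L815367 q28566, e3 q29551 (flp_a L823568) q30284, e3 q29552 (flp_a L823574) q30285, e3 q29553 (flp_a L822883) q30219, e3 q29554 (flp_a L822896) q30220, e3 q29555 (flp_a L822909) q30221, e3 q29556 L815407 q28571, e3 q29557 (flp_a L823611) q30290, e3 q29558 L815419 q28574, e3 q29559 (flp_a L823619) q30291, e3 q29560 (flp_a L818431) q29888, e3 q29561 L815448 q28577, e3 q29562 (flp_a L823657) q30295, e3 q29563 (flp_a L823661) q30296, e3 q29564 (flp_a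 L820101) q30002, e3 q29565 (flp_a L815468) q28580, e3 q29566 (flp_a L823684) q30299, e3 q29567 (flp_a L820110) q30003, trivial⟩ (by decide +kernel)

theorem ce_a_462 : ∀ r, r < 64 → sm ga (Qf (29568 + r)) = Qf (tab Gen.a (29568 + r)) :=
  edges_tab (sm ga) Qf (tab Gen.a) 29568 [(29568, 28583), (29569, 30301), (29570, 28950), (29571, 28586), (29572, 28588), (29573, 30304), (29574, 29899), (29575, 28591), (29576, 30306), (29577, 30307), (29578, 30232), (29579, 28595), (29580, 30311), (29581, 30312), (29582, 29977), (29583, 28598), (29584, 28604), (29585, 30314), (29586, 29903), (29587, 28607), (29588, 30316), (29589, 29915), (29590, 28610), (29591, 28611), (29592, 30318), (29593, 30319), (29594, 29869), (29595, 29978), (29596, 29938), (29597, 29947), (29598, 28624), (29599, 30323), (29600, 30009), (29601, 28627), (29602, 30325), (29603, 30326), (29604, 28631), (29605, 28633), (29606, 30328), (29607, 28636), (29608, 30330), (29609, 30331), (29610, 28640), (29611, 28641), (29612, 30333), (29613, 30118), (29614, 28643), (29615,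 28645), (29616, 30335), (29617, 30187), (29618, 28648), (29619, 30339), (29620, 29870), (29621, 28652), (29622, 30341), (29623, 30342), (29624, 29885), (29625, 30197), (29626, 28656), (29627, 30347), (29628, 29972), (29629, 28659), (29630, 30349), (29631, 28662)]
    ⟨e3 q29568 L815503 q28583, e3 q29569 (flp_a L823706) q30301, e3 q29570 L815519 q28950, e3 q29571 (flp_a L815534) q28586, e3 q29572 (flp_a L815552) q28588, e3 q29573 (flp_a L823737) q30304, e3 q29574 (flp_a L818602) q29899, e3 q29575 L815590 q28591, e3 q29576 (flp_a L823763) q30306, e3 q29577 (flp_a L823773) q30307, e3 q29578 (flp_a L823028) q30232, e3 q29579 L815622 q28595, e3 q29580 (flp_a L823811) q30311, e3 q29581 (flp_a L823825) q30312, e3 q29582 (flp_a L819791) q29977, e3 q29583 (flp_a L815668) q28598, e3 q29584 L815686 q28604, e3 q29585 (flp_a L823847) q30314, e3 q29586 (flp_a L818664) q29903, e3 q29587 L815720 q28607, e3 q29588 (flp_a L823873) q30316, e3 q29589 (flp_a L818830) q29915, e3 q29590 L815758 q28610, e3 q29591 L815772 q28611, e3 q29592 (flp_a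 L823899) q30318, e3 q29593 (flp_a L823911) q30319, e3 q29594 (flp_a L818149) q29869, e3 q29595 (flp_a L819805) q29978, e3 q29596 (flp_a L819179) q29938, e3 q29597 (flp_a L819314) q29947, e3 q29598 (flp_a L815842) q28624, e3 q29599 (flp_a L823954) q30323, e3 q29600 (flp_a L820168) q30009, e3 q29601 L815879 q28627, e3 q29602 (flp_a L823976) q30325, e3 q29603 (flp_a L823984) q30326, e3 q29604 L815909 q28631, e3 q29605 L815927 q28633, e3 q29606 (flp_a L824009) q30328, e3 q29607 L815939 q28636, e3 q29608 (flp_a L824020) q30330, e3 q29609 (flp_a L824026) q30331, e3 q29610 L815960 q28640, e3 q29611 (flp_a L815966) q28641, e3 q29612 (flp_a L824047) q30333, e3 q29613 (flp_a L821811) q30118, e3 q29614 (flp_a L815997) q28643, e3 q29615 L816015 q28645, e3 q29616 (flp_a L824067) q30335, e3 q29617 (flp_a L822509) q30187, e3 q29618 (flp_a L816036) q28648, e3 q29619 (flp_a L824097) q30339, e3 q29620 (flp_a L818165) q29870, e3 q29621 L816070 q28652, e3 q29622 (flp_a L824119) q30341, e3 q29623 (flp_a L824129) q30342, e3 q29624 (flp_a L818393)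 q29885, e3 q29625 (flp_a L822627) q30197, e3 q29626 L816114 q28656, e3 q29627 (flp_a L824175) q30347, e3 q29628 (flp_a L819713) q29972, e3 q29629 L816148 q28659, e3 q29630 (flp_a L824197) q30349, e3 q29631 L816168 q28662, trivial⟩ (by decide +kernel)

theorem ce_a_463 : ∀ r, r < 64 → sm ga (Qf (29632 + r)) = Qf (tab Gen.a (29632 + r)) :=
  edges_tab (sm ga) Qf (tab Gen.a) 29632 [(29632, 28663), (29633, 30350), (29634, 30351), (29635, 30141), (29636, 28666), (29637, 28667), (29638, 30354), (29639, 30355), (29640, 28669), (29641, 28671), (29642, 30356), (29643, 28675), (29644, 30358), (29645, 28818), (29646, 28819), (29647, 28678), (29648, 30361), (29649, 29932), (29650, 29933), (29651, 28682), (29652, 30366), (29653, 30367), (29654, 29937), (29655, 28686), (29656, 30370), (29657, 30249), (29658, 28689), (29659, 28690), (29660, 30374), (29661, 30375), (29662, 30376), (29663, 28803), (29664, 29998), (29665, 28694), (29666, 28697), (29667, 30381), (29668, 28700), (29669, 30382), (29670, 28703), (29671, 28706), (29672, 30383),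 (29673, 28709), (29674, 28711), (29675, 30384), (29676, 28726), (29677, 28715), (29678, 28716), (29679, 30386), (29680, 29877), (29681, 29973), (29682, 28721), (29683, 30353), (29684, 28725), (29685, 30385), (29686, 28728), (29687, 30125), (29688, 28732), (29689, 28734), (29690, 30391), (29691, 28737), (29692, 28740), (29693, 28744), (29694, 30393), (29695, 28747)]
    ⟨e3 q29632 L816174 q28663, e3 q29633 (flp_a L824207) q30350, e3 q29634 (flp_a L824217) q30351, e3 q29635 (flp_a L822029) q30141, e3 q29636 L816200 q28666, e3 q29637 L816208 q28667, e3 q29638 (flp_a L824241) q30354, e3 q29639 (flp_a L824251) q30355, e3 q29640 (flp_a L816232) q28669, e3 q29641 L816246 q28671, e3 q29642 (flp_a L824259) q30356, e3 q29643 (flp_a L816262) q28675, e3 q29644 (flp_a L824276) q30358, e3 q29645 L816284 q28818, e3 q29646 L816293 q28819, e3 q29647 (flp_a L816303) q28678, e3 q29648 (flp_a L824304) q30361, e3 q29649 (flp_a L819097) q29932, e3 q29650 (flp_a L819110) q29933, e3 q29651 L816336 q28682, e3 q29652 (flp_a L824340) q30366, e3 q29653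 (flp_a L824346) q30367, e3 q29654 (flp_a L819164) q29937, e3 q29655 L816365 q28686, e3 q29656 (flp_a L824367) q30370, e3 q29657 (flp_a L823229) q30249, e3 q29658 L816380 q28689, e3 q29659 L816384 q28690, e3 q29660 (flp_a L824391) q30374, e3 q29661 (flp_a L824395) q30375, e3 q29662 (flp_a L824405) q30376, e3 q29663 L816415 q28803, e3 q29664 (flp_a L820062) q29998, e3 q29665 L816433 q28694, e3 q29666 L816445 q28697, e3 q29667 (flp_a L824447) q30381, e3 q29668 L816469 q28700, e3 q29669 (flp_a L824459) q30382, e3 q29670 L816487 q28703, e3 q29671 L816495 q28706, e3 q29672 (flp_a L824471) q30383, e3 q29673 L816513 q28709, e3 q29674 L816523 q28711, e3 q29675 (flp_a L824481) q30384, e3 q29676 L816549 q28726, e3 q29677 L816555 q28715, e3 q29678 L816563 q28716, e3 q29679 (flp_a L824503) q30386, e3 q29680 (flp_a L818276) q29877, e3 q29681 (flp_a L819727) q29973, e3 q29682 L816591 q28721, e3 q29683 (flp_a L824235) q30353, e3 q29684 L816611 q28725, e3 q29685 (flp_a L824491) q30385, e3 q29686 L816631 q28728, e3 q29687 (flp_a L821884) q30125,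 e3 q29688 L816649 q28732, e3 q29689 L816663 q28734, e3 q29690 (flp_a L824547) q30391, e3 q29691 L816691 q28737, e3 q29692 L816705 q28740, e3 q29693 L816717 q28744, e3 q29694 (flp_a L824574) q30393, e3 q29695 (flp_a L816729) q28747, trivial⟩ (by decide +kernel)

theorem ce_a_464 : ∀ r, r < 64 → sm ga (Qf (29696 + r)) = Qf (tab Gen.a (29696 + r)) :=
  edges_tab (sm ga) Qf (tab Gen.a) 29696 [(29696, 30395), (29697, 28750), (29698, 30396), (29699, 28753), (29700, 30397), (29701, 28824), (29702, 28756), (29703, 30401), (29704, 28758), (29705, 30402), (29706, 28832), (29707, 28761), (29708, 30404), (29709, 28839), (29710, 28765), (29711, 28767), (29712, 30406), (29713, 28770), (29714, 30407), (29715, 30408), (29716, 28774), (29717, 28776), (29718, 30409), (29719, 28779), (29720, 28783), (29721, 30411), (29722, 28786), (29723, 30412), (29724, 28789), (29725, 30414), (29726, 29875), (29727, 29876), (29728, 28793), (29729, 30417), (29730, 28795), (29731, 30418), (29732, 29988), (29733, 28798), (29734, 28799), (29735, 30420), (29736,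 29971), (29737, 28802), (29738, 30422), (29739, 28806), (29740, 30424), (29741, 28812), (29742, 30426), (29743, 28815), (29744, 30428), (29745, 28817), (29746, 30429), (29747, 30430), (29748, 28821), (29749, 28823), (29750, 30432), (29751, 30433), (29752, 30400), (29753, 28826), (29754, 28828), (29755, 30436), (29756, 29976), (29757, 28831), (29758, 30438), (29759, 28834)]
    ⟨e3 q29696 (flp_a L824587) q30395, e3 q29697 L816755 q28750, e3 q29698 (flp_a L824601) q30396, e3 q29699 L816779 q28753, e3 q29700 (flp_a L824613) q30397, e3 q29701 L816793 q28824, e3 q29702 L816802 q28756, e3 q29703 (flp_a L824643) q30401, e3 q29704 (flp_a L816818) q28758, e3 q29705 (flp_a L824655) q30402, e3 q29706 L816840 q28832, e3 q29707 L816851 q28761, e3 q29708 (flp_a L824675) q30404, e3 q29709 L816875 q28839, e3 q29710 L816887 q28765, e3 q29711 L816899 q28767, e3 q29712 (flp_a L824697) q30406, e3 q29713 L816915 q28770, e3 q29714 (flp_a L824705) q30407, e3 q29715 (flp_a L824711) q30408, e3 q29716 L816941 q28774, e3 q29717 L816951 q28776, e3 q29718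 (flp_a L824721) q30409, e3 q29719 L816971 q28779, e3 q29720 L816979 q28783, e3 q29721 (flp_a L824742) q30411, e3 q29722 L817003 q28786, e3 q29723 (flp_a L824754) q30412, e3 q29724 (flp_a L817017) q28789, e3 q29725 (flp_a L824769) q30414, e3 q29726 (flp_a L818247) q29875, e3 q29727 (flp_a L818262) q29876, e3 q29728 L817050 q28793, e3 q29729 (flp_a L824793) q30417, e3 q29730 (flp_a L817066) q28795, e3 q29731 (flp_a L824801) q30418, e3 q29732 (flp_a L819943) q29988, e3 q29733 L817095 q28798, e3 q29734 (flp_a L817105) q28799, e3 q29735 (flp_a L824819) q30420, e3 q29736 (flp_a L819698) q29971, e3 q29737 L817138 q28802, e3 q29738 (flp_a L824839) q30422, e3 q29739 L817154 q28806, e3 q29740 (flp_a L824854) q30424, e3 q29741 L817166 q28812, e3 q29742 (flp_a L824863) q30426, e3 q29743 L817180 q28815, e3 q29744 (flp_a L824874) q30428, e3 q29745 L817187 q28817, e3 q29746 (flp_a L824878) q30429, e3 q29747 (flp_a L824884) q30430, e3 q29748 L817203 q28821, e3 q29749 L817209 q28823, e3 q29750 (flp_a L824895) q30432, e3 q29751 (flp_a L824901)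 q30433, e3 q29752 (flp_a L824634) q30400, e3 q29753 L817225 q28826, e3 q29754 (flp_a L817233) q28828, e3 q29755 (flp_a L824914) q30436, e3 q29756 (flp_a L819776) q29976, e3 q29757 L817266 q28831, e3 q29758 (flp_a L824934) q30438, e3 q29759 L817282 q28834, trivial⟩ (by decide +kernel)

theorem ce_a_465 : ∀ r, r < 64 → sm ga (Qf (29760 + r)) = Qf (tab Gen.a (29760 + r)) :=
  edges_tab (sm ga) Qf (tab Gen.a) 29760 [(29760, 30440), (29761, 29981), (29762, 28838), (29763, 30442), (29764, 28842), (29765, 28844), (29766, 28846), (29767, 30443), (29768, 28849), (29769, 28854), (29770, 30445), (29771, 28857), (29772, 30447), (29773, 28860), (29774, 30449), (29775, 28862), (29776, 28865), (29777, 28868), (29778, 28869), (29779, 30450), (29780, 30062), (29781, 30063), (29782, 28873), (29783, 30453), (29784, 30454), (29785, 28877), (29786, 28878), (29787, 30456), (29788, 30066), (29789, 30067), (29790, 28882), (29791, 30459), (29792, 30460), (29793, 28886), (29794, 30462), (29795, 28889), (29796, 28891), (29797, 28893), (29798, 28895),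 (29799, 30463), (29800, 28901), (29801, 30465), (29802, 28904), (29803, 30467), (29804, 28915), (29805, 28917), (29806, 30468), (29807, 28920), (29808, 30470), (29809, 28923), (29810, 30472), (29811, 28925), (29812, 28927), (29813, 30473), (29814, 28931), (29815, 30475), (29816, 28935), (29817, 30477), (29818, 28938), (29819, 30478), (29820, 28940), (29821, 28942), (29822, 28944), (29823, 28946)]
    ⟨e3 q29760 (flp_a L824949) q30440, e3 q29761 (flp_a L819846) q29981, e3 q29762 L817304 q28838, e3 q29763 (flp_a L824963) q30442, e3 q29764 L817318 q28842, e3 q29765 L817322 q28844, e3 q29766 L817334 q28846, e3 q29767 (flp_a L824969) q30443, e3 q29768 L817346 q28849, e3 q29769 L817354 q28854, e3 q29770 (flp_a L824978) q30445, e3 q29771 L817372 q28857, e3 q29772 (flp_a L824995) q30447, e3 q29773 L817384 q28860, e3 q29774 (flp_a L825006) q30449, e3 q29775 L817391 q28862, e3 q29776 L817397 q28865, e3 q29777 L817403 q28868, e3 q29778 (flp_a L817409) q28869, e3 q29779 (flp_a L825010) q30450, e3 q29780 (flp_a L820944) q30062, e3 q29781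 (flp_a L820959) q30063, e3 q29782 L817444 q28873, e3 q29783 (flp_a L825036) q30453, e3 q29784 (flp_a L825042) q30454, e3 q29785 L817462 q28877, e3 q29786 (flp_a L817468) q28878, e3 q29787 (flp_a L825053) q30456, e3 q29788 (flp_a L821007) q30066, e3 q29789 (flp_a L821024) q30067, e3 q29790 L817505 q28882, e3 q29791 (flp_a L825079) q30459, e3 q29792 (flp_a L825089) q30460, e3 q29793 L817529 q28886, e3 q29794 (flp_a L825106) q30462, e3 q29795 L817543 q28889, e3 q29796 L817549 q28891, e3 q29797 L817555 q28893, e3 q29798 L817561 q28895, e3 q29799 (flp_a L825112) q30463, e3 q29800 L817577 q28901, e3 q29801 (flp_a L825125) q30465, e3 q29802 L817591 q28904, e3 q29803 (flp_a L825136) q30467, e3 q29804 L817598 q28915, e3 q29805 L817606 q28917, e3 q29806 (flp_a L825140) q30468, e3 q29807 L817618 q28920, e3 q29808 (flp_a L825155) q30470, e3 q29809 L817636 q28923, e3 q29810 (flp_a L825172) q30472, e3 q29811 L817647 q28925, e3 q29812 L817655 q28927, e3 q29813 (flp_a L825178) q30473, e3 q29814 L817669 q28931, e3 q29815 (flp_a L825189) q30475,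 e3 q29816 L817687 q28935, e3 q29817 (flp_a L825204) q30477, e3 q29818 L817694 q28938, e3 q29819 (flp_a L825208) q30478, e3 q29820 L817703 q28940, e3 q29821 L817713 q28942, e3 q29822 L817721 q28944, e3 q29823 L817725 q28946, trivial⟩ (by decide +kernel)

theorem ce_a_466 : ∀ r, r < 64 → sm ga (Qf (29824 + r)) = Qf (tab Gen.a (29824 + r)) :=
  edges_tab (sm ga) Qf (tab Gen.a) 29824 [(29824, 28949), (29825, 30479), (29826, 28952), (29827, 30481), (29828, 28954), (29829, 28956), (29830, 30482), (29831, 29911), (29832, 28959), (29833, 30486), (29834, 29907), (29835, 28961), (29836, 30488), (29837, 29906), (29838, 28965), (29839, 30490), (29840, 28968), (29841, 30492), (29842, 28971), (29843, 30494), (29844, 28973), (29845, 28976), (29846, 30495), (29847, 28978), (29848, 30496), (29849, 28980), (29850, 28981), (29851, 30498), (29852, 28983), (29853, 28985), (29854, 28989), (29855, 30500), (29856, 28992), (29857, 28997), (29858, 29001), (29859, 30501), (29860, 29405), (29861, 29008), (29862, 29009), (29863, 30503), (29864, 29011),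 (29865, 30504), (29866, 29176), (29867, 29014), (29868, 30507), (29869, 29594), (29870, 29620), (29871, 29341), (29872, 29340), (29873, 29020), (29874, 30512), (29875, 29726), (29876, 29727), (29877, 29680), (29878, 29023), (29879, 30517), (29880, 29547), (29881, 29548), (29882, 29549), (29883, 29027), (29884, 30523), (29885, 29624), (29886, 29031), (29887, 30525)]
    ⟨e3 q29824 L817731 q28949, e3 q29825 (flp_a L825212) q30479, e3 q29826 L817745 q28952, e3 q29827 (flp_a L825227) q30481, e3 q29828 L817756 q28954, e3 q29829 L817760 q28956, e3 q29830 (flp_a L825233) q30482, e3 q29831 (flp_a L818773) q29911, e3 q29832 L817779 q28959, e3 q29833 (flp_a L825257) q30486, e3 q29834 (flp_a L818725) q29907, e3 q29835 (flp_a L817799) q28961, e3 q29836 (flp_a L825271) q30488, e3 q29837 (flp_a L818710) q29906, e3 q29838 L817826 q28965, e3 q29839 (flp_a L825289) q30490, e3 q29840 L817840 q28968, e3 q29841 (flp_a L825300) q30492, e3 q29842 L817854 q28971, e3 q29843 (flp_a L825311) q30494, e3 q29844 L817861 q28973, e3 q29845 L817871 q28976,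 e3 q29846 (flp_a L825315) q30495, e3 q29847 L817882 q28978, e3 q29848 (flp_a L825321) q30496, e3 q29849 L817893 q28980, e3 q29850 L817897 q28981, e3 q29851 (flp_a L825330) q30498, e3 q29852 L817906 q28983, e3 q29853 L817914 q28985, e3 q29854 L817924 q28989, e3 q29855 (flp_a L825339) q30500, e3 q29856 L817936 q28992, e3 q29857 L817944 q28997, e3 q29858 L817964 q29001, e3 q29859 (flp_a L825345) q30501, e3 q29860 L817998 q29405, e3 q29861 L818016 q29008, e3 q29862 L818036 q29009, e3 q29863 (flp_a L825381) q30503, e3 q29864 (flp_a L818066) q29011, e3 q29865 (flp_a L825399) q30504, e3 q29866 L818102 q29176, e3 q29867 (flp_a L818115) q29014, e3 q29868 (flp_a L825448) q30507, e3 q29869 L818149 q29594, e3 q29870 L818165 q29620, e3 q29871 L818179 q29341, e3 q29872 L818197 q29340, e3 q29873 (flp_a L818213) q29020, e3 q29874 (flp_a L825530) q30512, e3 q29875 L818247 q29726, e3 q29876 L818262 q29727, e3 q29877 L818276 q29680, e3 q29878 (flp_a L818291) q29023, e3 q29879 (flp_a L825603) q30517, e3 q29880 L818325 q29547, e3 q29881 L818338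 q29548, e3 q29882 L818352 q29549, e3 q29883 L818369 q29027, e3 q29884 (flp_a L825687) q30523, e3 q29885 L818393 q29624, e3 q29886 L818405 q29031, e3 q29887 (flp_a L825709) q30525, trivial⟩ (by decide +kernel)

theorem ce_a_467 : ∀ r, r < 64 → sm ga (Qf (29888 + r)) = Qf (tab Gen.a (29888 + r)) :=
  edges_tab (sm ga) Qf (tab Gen.a) 29888 [(29888, 29560), (29889, 29034), (29890, 30529), (29891, 29534), (29892, 29535), (29893, 29156), (29894, 29038), (29895, 30533), (29896, 29154), (29897, 29041), (29898, 30535), (29899, 29574), (29900, 29424), (29901, 29045), (29902, 30539), (29903, 29586), (29904, 29047), (29905, 30541), (29906, 29837), (29907, 29834), (29908, 29051), (29909, 30545), (29910, 30546), (29911, 29831), (29912, 29055), (29913, 29057), (29914, 30550), (29915, 29589), (29916, 29541), (29917, 29063), (29918, 30552), (29919, 30553), (29920, 29338), (29921, 29068), (29922, 30555), (29923, 29071), (29924, 30556), (29925, 30557), (29926, 29075), (29927, 29076), (29928, 30558), (29929, 29079), (29930, 29081), (29931, 30559),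 (29932, 29649), (29933, 29650), (29934, 29085), (29935, 30564), (29936, 30565), (29937, 29654), (29938, 29596), (29939, 29089), (29940, 30570), (29941, 29155), (29942, 29093), (29943, 30572), (29944, 29096), (29945, 29097), (29946, 30573), (29947, 29597), (29948, 29100), (29949, 29102), (29950, 30575), (29951, 29106)]
    ⟨e3 q29888 L818431 q29560, e3 q29889 (flp_a L818440) q29034, e3 q29890 (flp_a L825757) q30529, e3 q29891 L818474 q29534, e3 q29892 L818491 q29535, e3 q29893 L818507 q29156, e3 q29894 L818524 q29038, e3 q29895 (flp_a L825823) q30533, e3 q29896 L818554 q29154, e3 q29897 (flp_a L818568) q29041, e3 q29898 (flp_a L825855) q30535, e3 q29899 L818602 q29574, e3 q29900 L818618 q29424, e3 q29901 L818636 q29045, e3 q29902 (flp_a L825923) q30539, e3 q29903 L818664 q29586, e3 q29904 (flp_a L818676) q29047, e3 q29905 (flp_a L825953) q30541, e3 q29906 L818710 q29837, e3 q29907 L818725 q29834, e3 q29908 L818741 q29051, e3 q29909 (flp_a L826014) q30545, e3 q29910 (flp_a L826024) q30546, e3 q29911 L818773 q29831, e3 q29912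 L818786 q29055, e3 q29913 L818802 q29057, e3 q29914 (flp_a L826072) q30550, e3 q29915 L818830 q29589, e3 q29916 L818846 q29541, e3 q29917 L818863 q29063, e3 q29918 (flp_a L826102) q30552, e3 q29919 (flp_a L826120) q30553, e3 q29920 L818909 q29338, e3 q29921 L818925 q29068, e3 q29922 (flp_a L826154) q30555, e3 q29923 L818953 q29071, e3 q29924 (flp_a L826170) q30556, e3 q29925 (flp_a L826186) q30557, e3 q29926 L818997 q29075, e3 q29927 (flp_a L819009) q29076, e3 q29928 (flp_a L826204) q30558, e3 q29929 L819047 q29079, e3 q29930 (flp_a L819063) q29081, e3 q29931 (flp_a L826224) q30559, e3 q29932 L819097 q29649, e3 q29933 L819110 q29650, e3 q29934 L819126 q29085, e3 q29935 (flp_a L826296) q30564, e3 q29936 (flp_a L826308) q30565, e3 q29937 L819164 q29654, e3 q29938 L819179 q29596, e3 q29939 L819194 q29089, e3 q29940 (flp_a L826378) q30570, e3 q29941 L819220 q29155, e3 q29942 L819238 q29093, e3 q29943 (flp_a L826410) q30572, e3 q29944 L819268 q29096, e3 q29945 L819284 q29097, e3 q29946 (flp_a L826428) q30573, e3 q29947 L819314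 q29597, e3 q29948 L819330 q29100, e3 q29949 L819348 q29102, e3 q29950 (flp_a L826460) q30575, e3 q29951 (flp_a L819368) q29106, trivial⟩ (by decide +kernel)

theorem ce_a_468 : ∀ r, r < 64 → sm ga (Qf (29952 + r)) = Qf (tab Gen.a (29952 + r)) :=
  edges_tab (sm ga) Qf (tab Gen.a) 29952 [(29952, 29107), (29953, 30576), (29954, 29270), (29955, 29111), (29956, 29113), (29957, 30578), (29958, 29118), (29959, 30580), (29960, 29121), (29961, 30582), (29962, 29126), (29963, 30584), (29964, 29217), (29965, 29129), (29966, 29131), (29967, 30588), (29968, 29339), (29969, 29134), (29970, 30590), (29971, 29736), (29972, 29628), (29973, 29681), (29974, 29137), (29975, 30595), (29976, 29756), (29977, 29582), (29978, 29595), (29979, 29141), (29980, 30600), (29981, 29761), (29982, 29144), (29983, 30602), (29984, 29376), (29985, 29377), (29986, 29148), (29987, 30606), (29988, 29732), (29989, 29150), (29990, 30609), (29991, 29153), (29992, 30610), (29993, 30611), (29994, 30532), (29995, 29158), (29996, 30613), (29997, 30614), (29998, 29664),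 (29999, 29162), (30000, 30618), (30001, 30619), (30002, 29564), (30003, 29567), (30004, 29166), (30005, 30624), (30006, 29169), (30007, 30625), (30008, 30626), (30009, 29600), (30010, 29171), (30011, 30629), (30012, 29413), (30013, 29414), (30014, 29175), (30015, 30634)]
    ⟨e3 q29952 (flp_a L819386) q29107, e3 q29953 (flp_a L826472) q30576, e3 q29954 L819422 q29270, e3 q29955 L819439 q29111, e3 q29956 L819457 q29113, e3 q29957 (flp_a L826506) q30578, e3 q29958 L819491 q29118, e3 q29959 (flp_a L826541) q30580, e3 q29960 L819525 q29121, e3 q29961 (flp_a L826576) q30582, e3 q29962 L819559 q29126, e3 q29963 (flp_a L826611) q30584, e3 q29964 L819585 q29217, e3 q29965 L819600 q29129, e3 q29966 (flp_a L819618) q29131, e3 q29967 (flp_a L826667) q30588, e3 q29968 L819652 q29339, e3 q29969 (flp_a L819664) q29134, e3 q29970 (flp_a L826697) q30590, e3 q29971 L819698 q29736, e3 q29972 L819713 q29628, e3 q29973 L819727 q29681, e3 q29974 (flp_a L819742) q29137, e3 q29975 (flp_a L826772) q30595, e3 q29976 L819776 q29756, e3 q29977 L819791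 q29582, e3 q29978 L819805 q29595, e3 q29979 L819822 q29141, e3 q29980 (flp_a L826847) q30600, e3 q29981 L819846 q29761, e3 q29982 (flp_a L819856) q29144, e3 q29983 (flp_a L826869) q30602, e3 q29984 L819890 q29376, e3 q29985 L819905 q29377, e3 q29986 L819921 q29148, e3 q29987 (flp_a L826930) q30606, e3 q29988 L819943 q29732, e3 q29989 (flp_a L819956) q29150, e3 q29990 (flp_a L826963) q30609, e3 q29991 L819990 q29153, e3 q29992 (flp_a L826979) q30610, e3 q29993 (flp_a L826989) q30611, e3 q29994 (flp_a L825805) q30532, e3 q29995 L820030 q29158, e3 q29996 (flp_a L827011) q30613, e3 q29997 (flp_a L827023) q30614, e3 q29998 L820062 q29664, e3 q29999 L820071 q29162, e3 q30000 (flp_a L827067) q30618, e3 q30001 (flp_a L827079) q30619, e3 q30002 L820101 q29564, e3 q30003 L820110 q29567, e3 q30004 L820125 q29166, e3 q30005 (flp_a L827137) q30624, e3 q30006 L820143 q29169, e3 q30007 (flp_a L827149) q30625, e3 q30008 (flp_a L827159) q30626, e3 q30009 L820168 q29600, e3 q30010 (flp_a L820181) q29171, e3 q30011 (flp_a L827192) q30629, e3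 q30012 L820215 q29413, e3 q30013 L820228 q29414, e3 q30014 L820244 q29175, e3 q30015 (flp_a L827264) q30634, trivial⟩ (by decide +kernel)

theorem ce_a_469 : ∀ r, r < 64 → sm ga (Qf (30016 + r)) = Qf (tab Gen.a (30016 + r)) :=
  edges_tab (sm ga) Qf (tab Gen.a) 30016 [(30016, 30506), (30017, 29178), (30018, 29180), (30019, 30638), (30020, 29183), (30021, 29185), (30022, 30640), (30023, 29188), (30024, 30641), (30025, 29191), (30026, 30642), (30027, 29196), (30028, 30644), (30029, 29199), (30030, 29200), (30031, 30646), (30032, 30647), (30033, 29521), (30034, 29204), (30035, 29207), (30036, 30650), (30037, 29209), (30038, 30651), (30039, 29393), (30040, 29212), (30041, 30653), (30042, 30654), (30043, 29418), (30044, 29419), (30045, 29216), (30046, 30658), (30047, 30659), (30048, 30587), (30049, 29219), (30050, 29221), (30051, 29223), (30052, 29225), (30053, 29227), (30054, 29229), (30055, 29233), (30056, 29238), (30057, 29244), (30058, 29248), (30059, 29250), (30060, 29254), (30061, 30662), (30062, 29780), (30063, 29781),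 (30064, 29257), (30065, 30665), (30066, 29788), (30067, 29789), (30068, 29261), (30069, 30668), (30070, 29264), (30071, 30669), (30072, 29267), (30073, 29269), (30074, 30671), (30075, 30672), (30076, 29335), (30077, 29273), (30078, 29275), (30079, 29277)]
    ⟨e3 q30016 (flp_a L825431) q30506, e3 q30017 L820277 q29178, e3 q30018 L820295 q29180, e3 q30019 (flp_a L827308) q30638, e3 q30020 L820321 q29183, e3 q30021 L820337 q29185, e3 q30022 (flp_a L827331) q30640, e3 q30023 L820365 q29188, e3 q30024 (flp_a L827345) q30641, e3 q30025 L820395 q29191, e3 q30026 (flp_a L827361) q30642, e3 q30027 L820429 q29196, e3 q30028 (flp_a L827396) q30644, e3 q30029 L820463 q29199, e3 q30030 L820469 q29200, e3 q30031 (flp_a L827431) q30646, e3 q30032 (flp_a L827437) q30647, e3 q30033 L820504 q29521, e3 q30034 L820517 q29204, e3 q30035 L820537 q29207, e3 q30036 (flp_a L827476) q30650, e3 q30037 (flp_a L820561) q29209, e3 q30038 (flp_a L827492) q30651, e3 q30039 L820597 q29393, e3 q30040 L820614 q29212, e3 q30041 (flp_a L827526) q30653, e3 q30042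 (flp_a L827536) q30654, e3 q30043 L820648 q29418, e3 q30044 L820663 q29419, e3 q30045 L820678 q29216, e3 q30046 (flp_a L827589) q30658, e3 q30047 (flp_a L827599) q30659, e3 q30048 (flp_a L826650) q30587, e3 q30049 L820714 q29219, e3 q30050 L820734 q29221, e3 q30051 L820754 q29223, e3 q30052 L820768 q29225, e3 q30053 L820788 q29227, e3 q30054 L820802 q29229, e3 q30055 L820822 q29233, e3 q30056 L820842 q29238, e3 q30057 L820862 q29244, e3 q30058 L820874 q29248, e3 q30059 L820892 q29250, e3 q30060 (flp_a L820910) q29254, e3 q30061 (flp_a L827628) q30662, e3 q30062 L820944 q29780, e3 q30063 L820959 q29781, e3 q30064 (flp_a L820973) q29257, e3 q30065 (flp_a L827674) q30665, e3 q30066 L821007 q29788, e3 q30067 L821024 q29789, e3 q30068 L821042 q29261, e3 q30069 (flp_a L827724) q30668, e3 q30070 L821064 q29264, e3 q30071 (flp_a L827736) q30669, e3 q30072 L821092 q29267, e3 q30073 L821112 q29269, e3 q30074 (flp_a L827763) q30671, e3 q30075 (flp_a L827775) q30672, e3 q30076 L821154 q29335, e3 q30077 L821171 q29273, e3 q30078 L821189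 q29275, e3 q30079 L821209 q29277, trivial⟩ (by decide +kernel)

theorem ce_a_470 : ∀ r, r < 64 → sm ga (Qf (30080 + r)) = Qf (tab Gen.a (30080 + r)) :=
  edges_tab (sm ga) Qf (tab Gen.a) 30080 [(30080, 29283), (30081, 29286), (30082, 29289), (30083, 30675), (30084, 29346), (30085, 29347), (30086, 29348), (30087, 29292), (30088, 30679), (30089, 29351), (30090, 29352), (30091, 29353), (30092, 29296), (30093, 30685), (30094, 29356), (30095, 29300), (30096, 30687), (30097, 29360), (30098, 29304), (30099, 29306), (30100, 30690), (30101, 30691), (30102, 29381), (30103, 29311), (30104, 29313), (30105, 30695), (30106, 29387), (30107, 29318), (30108, 29319), (30109, 29321), (30110, 29322), (30111, 30697), (30112, 29435), (30113, 29326), (30114, 30699), (30115, 29329), (30116, 29330), (30117, 30700), (30118, 29613), (30119, 29334), (30120, 30702), (30121, 29337), (30122, 30704), (30123, 30705), (30124, 30511), (30125, 29687), (30126, 30510), (30127, 29343), (30128, 29345), (30129, 30709), (30130, 30710), (30131, 30637), (30132, 30678),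 (30133, 29350), (30134, 30716), (30135, 30717), (30136, 30682), (30137, 30683), (30138, 30684), (30139, 29355), (30140, 30724), (30141, 29635), (30142, 29359), (30143, 30726)]
    ⟨e3 q30080 (flp_a L821227) q29283, e3 q30081 L821247 q29286, e3 q30082 (flp_a L821263) q29289, e3 q30083 (flp_a L827826) q30675, e3 q30084 L821297 q29346, e3 q30085 L821312 q29347, e3 q30086 L821326 q29348, e3 q30087 (flp_a L821341) q29292, e3 q30088 (flp_a L827886) q30679, e3 q30089 L821375 q29351, e3 q30090 L821388 q29352, e3 q30091 L821402 q29353, e3 q30092 L821419 q29296, e3 q30093 (flp_a L827970) q30685, e3 q30094 L821447 q29356, e3 q30095 L821461 q29300, e3 q30096 (flp_a L827998) q30687, e3 q30097 L821487 q29360, e3 q30098 L821500 q29304, e3 q30099 L821518 q29306, e3 q30100 (flp_a L828035) q30690, e3 q30101 (flp_a L828045) q30691, e3 q30102 L821552 q29381, e3 q30103 L821565 q29311, e3 q30104 L821583 q29313, e3 q30105 (flp_a L828093) q30695, e3 q30106 L821615 q29387, e3 q30107 L821631 q29318, e3 q30108 L821649 q29319, e3 q30109 L821669 q29321,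 e3 q30110 L821687 q29322, e3 q30111 (flp_a L828125) q30697, e3 q30112 L821719 q29435, e3 q30113 L821735 q29326, e3 q30114 (flp_a L828157) q30699, e3 q30115 (flp_a L821759) q29329, e3 q30116 (flp_a L821777) q29330, e3 q30117 (flp_a L828171) q30700, e3 q30118 L821811 q29613, e3 q30119 L821824 q29334, e3 q30120 (flp_a L828199) q30702, e3 q30121 L821844 q29337, e3 q30122 (flp_a L828216) q30704, e3 q30123 (flp_a L828226) q30705, e3 q30124 (flp_a L825512) q30511, e3 q30125 L821884 q29687, e3 q30126 (flp_a L825494) q30510, e3 q30127 (flp_a L821904) q29343, e3 q30128 L821924 q29345, e3 q30129 (flp_a L828270) q30709, e3 q30130 (flp_a L828278) q30710, e3 q30131 (flp_a L827295) q30637, e3 q30132 (flp_a L827870) q30678, e3 q30133 L821959 q29350, e3 q30134 (flp_a L828331) q30716, e3 q30135 (flp_a L828341) q30717, e3 q30136 (flp_a L827928) q30682, e3 q30137 (flp_a L827941) q30683, e3 q30138 (flp_a L827954) q30684, e3 q30139 L822013 q29355, e3 q30140 (flp_a L828414) q30724, e3 q30141 L822029 q29635, e3 q30142 L822043 q29359, e3 q30143 (flp_a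 L828438) q30726, trivial⟩ (by decide +kernel)

theorem ce_a_471 : ∀ r, r < 64 → sm ga (Qf (30144 + r)) = Qf (tab Gen.a (30144 + r)) :=
  edges_tab (sm ga) Qf (tab Gen.a) 30144 [(30144, 30727), (30145, 30623), (30146, 29361), (30147, 30730), (30148, 29364), (30149, 30731), (30150, 29369), (30151, 30733), (30152, 30734), (30153, 29373), (30154, 29375), (30155, 30736), (30156, 30737), (30157, 30605), (30158, 29379), (30159, 29380), (30160, 30741), (30161, 30742), (30162, 30694), (30163, 29386), (30164, 30745), (30165, 29389), (30166, 30746), (30167, 29392), (30168, 30747), (30169, 29395), (30170, 29400), (30171, 30749), (30172, 30750), (30173, 29404), (30174, 30752), (30175, 29407), (30176, 29409), (30177, 29412), (30178, 30753), (30179, 30754), (30180, 30632), (30181, 30633), (30182, 29416), (30183, 29417), (30184, 30759), (30185, 30760), (30186, 30761), (30187, 29617), (30188, 30617), (30189, 29421), (30190, 29422), (30191, 30766), (30192, 30767), (30193, 29427), (30194, 29428), (30195, 30768), (30196, 30769), (30197, 29625),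 (30198, 29434), (30199, 30771), (30200, 29438), (30201, 29442), (30202, 30772), (30203, 29445), (30204, 29447), (30205, 30774), (30206, 29449), (30207, 30775)]
    ⟨e3 q30144 (flp_a L828448) q30727, e3 q30145 (flp_a L827122) q30623, e3 q30146 (flp_a L822079) q29361, e3 q30147 (flp_a L828479) q30730, e3 q30148 L822113 q29364, e3 q30149 (flp_a L828495) q30731, e3 q30150 L822137 q29369, e3 q30151 (flp_a L828518) q30733, e3 q30152 (flp_a L828534) q30734, e3 q30153 L822181 q29373, e3 q30154 L822199 q29375, e3 q30155 (flp_a L828567) q30736, e3 q30156 (flp_a L828575) q30737, e3 q30157 (flp_a L826915) q30605, e3 q30158 L822232 q29379, e3 q30159 L822238 q29380, e3 q30160 (flp_a L828611) q30741, e3 q30161 (flp_a L828617) q30742, e3 q30162 (flp_a L828080) q30694, e3 q30163 L822264 q29386, e3 q30164 (flp_a L828642) q30745, e3 q30165 (flp_a L822280) q29389, e3 q30166 (flp_a L828652) q30746, e3 q30167 L822314 q29392, e3 q30168 (flp_a L828668) q30747, e3 q30169 L822332 q29395, e3 q30170 L822346 q29400, e3 q30171 (flp_a L828687) q30749,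 e3 q30172 (flp_a L828699) q30750, e3 q30173 L822382 q29404, e3 q30174 (flp_a L828726) q30752, e3 q30175 L822410 q29407, e3 q30176 L822424 q29409, e3 q30177 L822442 q29412, e3 q30178 (flp_a L828740) q30753, e3 q30179 (flp_a L828748) q30754, e3 q30180 (flp_a L827236) q30632, e3 q30181 (flp_a L827251) q30633, e3 q30182 L822476 q29416, e3 q30183 L822482 q29417, e3 q30184 (flp_a L828790) q30759, e3 q30185 (flp_a L828796) q30760, e3 q30186 (flp_a L828802) q30761, e3 q30187 L822509 q29617, e3 q30188 (flp_a L827052) q30617, e3 q30189 L822531 q29421, e3 q30190 L822545 q29422, e3 q30191 (flp_a L828844) q30766, e3 q30192 (flp_a L828858) q30767, e3 q30193 L822575 q29427, e3 q30194 L822589 q29428, e3 q30195 (flp_a L828870) q30768, e3 q30196 (flp_a L828884) q30769, e3 q30197 L822627 q29625, e3 q30198 L822639 q29434, e3 q30199 (flp_a L828912) q30771, e3 q30200 L822655 q29438, e3 q30201 L822663 q29442, e3 q30202 (flp_a L828922) q30772, e3 q30203 L822687 q29445, e3 q30204 L822699 q29447, e3 q30205 (flp_a L828947) q30774, e3 q30206 L822716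 q29449, e3 q30207 (flp_a L828955) q30775, trivial⟩ (by decide +kernel)

theorem ce_a_472 : ∀ r, r < 64 → sm ga (Qf (30208 + r)) = Qf (tab Gen.a (30208 + r)) :=
  edges_tab (sm ga) Qf (tab Gen.a) 30208 [(30208, 29453), (30209, 30777), (30210, 29456), (30211, 29459), (30212, 30778), (30213, 29461), (30214, 30779), (30215, 29524), (30216, 29464), (30217, 30782), (30218, 30783), (30219, 29553), (30220, 29554), (30221, 29555), (30222, 29469), (30223, 30788), (30224, 29472), (30225, 30789), (30226, 30790), (30227, 29475), (30228, 30792), (30229, 29478), (30230, 30794), (30231, 30795), (30232, 29578), (30233, 29482), (30234, 30797), (30235, 29485), (30236, 29488), (30237, 30798), (30238, 29491), (30239, 30800), (30240, 29493), (30241, 30801), (30242, 29496), (30243, 30803), (30244, 29499), (30245, 29501), (30246, 29502), (30247, 29506), (30248, 30804), (30249, 29657), (30250, 29509), (30251, 30807), (30252, 30808), (30253, 29512), (30254, 29514), (30255, 29517), (30256, 30810), (30257, 29520), (30258, 30812), (30259, 30549), (30260,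 29523), (30261, 30815), (30262, 30816), (30263, 30598), (30264, 29526), (30265, 30819), (30266, 30820), (30267, 29539), (30268, 29540), (30269, 29533), (30270, 30823), (30271, 30824)]
    ⟨e3 q30208 L822746 q29453, e3 q30209 (flp_a L828986) q30777, e3 q30210 L822769 q29456, e3 q30211 L822787 q29459, e3 q30212 (flp_a L828998) q30778, e3 q30213 L822814 q29461, e3 q30214 (flp_a L829012) q30779, e3 q30215 L822838 q29524, e3 q30216 L822851 q29464, e3 q30217 (flp_a L829049) q30782, e3 q30218 (flp_a L829059) q30783, e3 q30219 L822883 q29553, e3 q30220 L822896 q29554, e3 q30221 L822909 q29555, e3 q30222 L822921 q29469, e3 q30223 (flp_a L829118) q30788, e3 q30224 L822949 q29472, e3 q30225 (flp_a L829134) q30789, e3 q30226 (flp_a L829140) q30790, e3 q30227 L822970 q29475, e3 q30228 (flp_a L829157) q30792, e3 q30229 L823000 q29478, e3 q30230 (flp_a L829188) q30794, e3 q30231 (flp_a L829200) q30795, e3 q30232 L823028 q29578, e3 q30233 L823038 q29482, e3 q30234 (flp_a L829218) q30797, e3 q30235 L823062 q29485, e3 q30236 L823072 q29488,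 e3 q30237 (flp_a L829230) q30798, e3 q30238 L823102 q29491, e3 q30239 (flp_a L829261) q30800, e3 q30240 L823123 q29493, e3 q30241 (flp_a L829271) q30801, e3 q30242 L823149 q29496, e3 q30243 (flp_a L829294) q30803, e3 q30244 L823171 q29499, e3 q30245 L823185 q29501, e3 q30246 L823193 q29502, e3 q30247 L823203 q29506, e3 q30248 (flp_a L829306) q30804, e3 q30249 L823229 q29657, e3 q30250 L823240 q29509, e3 q30251 (flp_a L829339) q30807, e3 q30252 (flp_a L829345) q30808, e3 q30253 L823261 q29512, e3 q30254 L823271 q29514, e3 q30255 L823277 q29517, e3 q30256 (flp_a L829362) q30810, e3 q30257 L823301 q29520, e3 q30258 (flp_a L829385) q30812, e3 q30259 (flp_a L826059) q30549, e3 q30260 L823326 q29523, e3 q30261 (flp_a L829410) q30815, e3 q30262 (flp_a L829416) q30816, e3 q30263 (flp_a L826816) q30598, e3 q30264 L823356 q29526, e3 q30265 (flp_a L829445) q30819, e3 q30266 (flp_a L829457) q30820, e3 q30267 L823390 q29539, e3 q30268 L823404 q29540, e3 q30269 L823418 q29533, e3 q30270 (flp_a L829497) q30823, e3 q30271 (flp_a L829505)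 q30824, trivial⟩ (by decide +kernel)

theorem ce_a_473 : ∀ r, r < 64 → sm ga (Qf (30272 + r)) = Qf (tab Gen.a (30272 + r)) :=
  edges_tab (sm ga) Qf (tab Gen.a) 30272 [(30272, 29537), (30273, 29538), (30274, 30826), (30275, 30827), (30276, 30538), (30277, 29543), (30278, 29546), (30279, 30829), (30280, 30830), (30281, 30520), (30282, 30521), (30283, 30522), (30284, 29551), (30285, 29552), (30286, 30835), (30287, 30836), (30288, 30837), (30289, 30838), (30290, 29557), (30291, 29559), (30292, 30841), (30293, 30842), (30294, 30528), (30295, 29562), (30296, 29563), (30297, 30846), (30298, 30847), (30299, 29566), (30300, 30850), (30301, 29569), (30302, 30852), (30303, 30853), (30304, 29573), (30305, 30855), (30306, 29576), (30307, 29577), (30308, 30856), (30309, 30857), (30310, 30599), (30311, 29580), (30312, 29581), (30313, 30859), (30314, 29585), (30315, 30860), (30316, 29588), (30317, 30861), (30318, 29592), (30319, 29593), (30320, 30862), (30321, 30863), (30322, 30569), (30323, 29599), (30324, 30865), (30325, 29602), (30326,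 29603), (30327, 30867), (30328, 29606), (30329, 30868), (30330, 29608), (30331, 29609), (30332, 30870), (30333, 29612), (30334, 30871), (30335, 29616)]
    ⟨e3 q30272 L823448 q29537, e3 q30273 L823454 q29538, e3 q30274 (flp_a L829526) q30826, e3 q30275 (flp_a L829540) q30827, e3 q30276 (flp_a L825905) q30538, e3 q30277 L823500 q29543, e3 q30278 L823514 q29546, e3 q30279 (flp_a L829566) q30829, e3 q30280 (flp_a L829576) q30830, e3 q30281 (flp_a L825645) q30520, e3 q30282 (flp_a L825658) q30521, e3 q30283 (flp_a L825671) q30522, e3 q30284 L823568 q29551, e3 q30285 L823574 q29552, e3 q30286 (flp_a L829623) q30835, e3 q30287 (flp_a L829629) q30836, e3 q30288 (flp_a L829639) q30837, e3 q30289 (flp_a L829649) q30838, e3 q30290 L823611 q29557, e3 q30291 L823619 q29559, e3 q30292 (flp_a L829673) q30841, e3 q30293 (flp_a L829683) q30842, e3 q30294 (flp_a L825742) q30528, e3 q30295 L823657 q29562, e3 q30296 L823661 q29563, e3 q30297 (flp_a L829719) q30846, e3 q30298 (flp_a L829727) q30847, e3 q30299 L823684 q29566, e3 q30300 (flp_a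 L829753) q30850, e3 q30301 L823706 q29569, e3 q30302 (flp_a L829776) q30852, e3 q30303 (flp_a L829784) q30853, e3 q30304 L823737 q29573, e3 q30305 (flp_a L829819) q30855, e3 q30306 L823763 q29576, e3 q30307 L823773 q29577, e3 q30308 (flp_a L829833) q30856, e3 q30309 (flp_a L829847) q30857, e3 q30310 (flp_a L826831) q30599, e3 q30311 L823811 q29580, e3 q30312 L823825 q29581, e3 q30313 (flp_a L829865) q30859, e3 q30314 L823847 q29585, e3 q30315 (flp_a L829877) q30860, e3 q30316 L823873 q29588, e3 q30317 (flp_a L829889) q30861, e3 q30318 L823899 q29592, e3 q30319 L823911 q29593, e3 q30320 (flp_a L829903) q30862, e3 q30321 (flp_a L829913) q30863, e3 q30322 (flp_a L826363) q30569, e3 q30323 L823954 q29599, e3 q30324 (flp_a L829937) q30865, e3 q30325 L823976 q29602, e3 q30326 L823984 q29603, e3 q30327 (flp_a L829958) q30867, e3 q30328 L824009 q29606, e3 q30329 (flp_a L829966) q30868, e3 q30330 L824020 q29608, e3 q30331 L824026 q29609, e3 q30332 (flp_a L829977) q30870, e3 q30333 L824047 q29612, e3 q30334 (flp_a L829987) q30871,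 e3 q30335 L824067 q29616, trivial⟩ (by decide +kernel)

theorem ce_a_474 : ∀ r, r < 64 → sm ga (Qf (30336 + r)) = Qf (tab Gen.a (30336 + r)) :=
  edges_tab (sm ga) Qf (tab Gen.a) 30336 [(30336, 30873), (30337, 30874), (30338, 30593), (30339, 29619), (30340, 30877), (30341, 29622), (30342, 29623), (30343, 30878), (30344, 30879), (30345, 30516), (30346, 30594), (30347, 29627), (30348, 30882), (30349, 29630), (30350, 29633), (30351, 29634), (30352, 30884), (30353, 29683), (30354, 29638), (30355, 29639), (30356, 29642), (30357, 30886), (30358, 29644), (30359, 30887), (30360, 30888), (30361, 29648), (30362, 30890), (30363, 30891), (30364, 30562), (30365, 30563), (30366, 29652), (30367, 29653), (30368, 30895), (30369, 30896), (30370, 29656), (30371, 30898), (30372, 30899), (30373, 30515), (30374, 29660), (30375, 29661), (30376, 29662), (30377, 30903), (30378, 30904), (30379, 30905), (30380, 30906), (30381, 29667), (30382, 29669), (30383, 29672), (30384, 29675), (30385, 29685), (30386, 29679), (30387, 30910), (30388, 30883), (30389,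 30885), (30390, 30909), (30391, 29690), (30392, 30911), (30393, 29694), (30394, 30912), (30395, 29696), (30396, 29698), (30397, 29700), (30398, 30913), (30399, 30914)]
    ⟨e3 q30336 (flp_a L830006) q30873, e3 q30337 (flp_a L830012) q30874, e3 q30338 (flp_a L826741) q30593, e3 q30339 L824097 q29619, e3 q30340 (flp_a L830041) q30877, e3 q30341 L824119 q29622, e3 q30342 L824129 q29623, e3 q30343 (flp_a L830051) q30878, e3 q30344 (flp_a L830061) q30879, e3 q30345 (flp_a L825587) q30516, e3 q30346 (flp_a L826756) q30594, e3 q30347 L824175 q29627, e3 q30348 (flp_a L830087) q30882, e3 q30349 L824197 q29630, e3 q30350 L824207 q29633, e3 q30351 L824217 q29634, e3 q30352 (flp_a L830111) q30884, e3 q30353 L824235 q29683, e3 q30354 L824241 q29638, e3 q30355 L824251 q29639, e3 q30356 L824259 q29642, e3 q30357 (flp_a L830129) q30886, e3 q30358 L824276 q29644, e3 q30359 (flp_a L830139) q30887, e3 q30360 (flp_a L830149) q30888, e3 q30361 L824304 q29648, e3 q30362 (flp_a L830168) q30890, e3 q30363 (flp_a L830176) q30891, e3 q30364 (flp_a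 L826268) q30562, e3 q30365 (flp_a L826283) q30563, e3 q30366 L824340 q29652, e3 q30367 L824346 q29653, e3 q30368 (flp_a L830205) q30895, e3 q30369 (flp_a L830211) q30896, e3 q30370 L824367 q29656, e3 q30371 (flp_a L830226) q30898, e3 q30372 (flp_a L830232) q30899, e3 q30373 (flp_a L825574) q30515, e3 q30374 L824391 q29660, e3 q30375 L824395 q29661, e3 q30376 L824405 q29662, e3 q30377 (flp_a L830254) q30903, e3 q30378 (flp_a L830264) q30904, e3 q30379 (flp_a L830272) q30905, e3 q30380 (flp_a L830284) q30906, e3 q30381 L824447 q29667, e3 q30382 L824459 q29669, e3 q30383 L824471 q29672, e3 q30384 L824481 q29675, e3 q30385 L824491 q29685, e3 q30386 L824503 q29679, e3 q30387 (flp_a L830322) q30910, e3 q30388 (flp_a L830105) q30883, e3 q30389 (flp_a L830117) q30885, e3 q30390 (flp_a L830310) q30909, e3 q30391 L824547 q29690, e3 q30392 (flp_a L830328) q30911, e3 q30393 L824574 q29694, e3 q30394 (flp_a L830342) q30912, e3 q30395 L824587 q29696, e3 q30396 L824601 q29698, e3 q30397 L824613 q29700, e3 q30398 (flp_a L830348) q30913,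 e3 q30399 (flp_a L830354) q30914, trivial⟩ (by decide +kernel)

theorem ce_a_475 : ∀ r, r < 64 → sm ga (Qf (30400 + r)) = Qf (tab Gen.a (30400 + r)) :=
  edges_tab (sm ga) Qf (tab Gen.a) 30400 [(30400, 29752), (30401, 29703), (30402, 29705), (30403, 30917), (30404, 29708), (30405, 30919), (30406, 29712), (30407, 29714), (30408, 29715), (30409, 29718), (30410, 30920), (30411, 29721), (30412, 29723), (30413, 30921), (30414, 29725), (30415, 30922), (30416, 30923), (30417, 29729), (30418, 29731), (30419, 30925), (30420, 29735), (30421, 30927), (30422, 29738), (30423, 30929), (30424, 29740), (30425, 30930), (30426, 29742), (30427, 30931), (30428, 29744), (30429, 29746), (30430, 29747), (30431, 30933), (30432, 29750), (30433, 29751), (30434, 30935), (30435, 30936), (30436, 29755), (30437, 30938), (30438, 29758), (30439, 30940), (30440, 29760), (30441, 30941), (30442, 29763), (30443, 29767), (30444, 30942), (30445, 29770), (30446, 30943), (30447, 29772), (30448, 30944), (30449, 29774), (30450, 29779), (30451, 30946), (30452, 30947),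 (30453, 29783), (30454, 29784), (30455, 30949), (30456, 29787), (30457, 30950), (30458, 30951), (30459, 29791), (30460, 29792), (30461, 30953), (30462, 29794), (30463, 29799)]
    ⟨e3 q30400 L824634 q29752, e3 q30401 L824643 q29703, e3 q30402 L824655 q29705, e3 q30403 (flp_a L830379) q30917, e3 q30404 L824675 q29708, e3 q30405 (flp_a L830400) q30919, e3 q30406 L824697 q29712, e3 q30407 L824705 q29714, e3 q30408 L824711 q29715, e3 q30409 L824721 q29718, e3 q30410 (flp_a L830412) q30920, e3 q30411 L824742 q29721, e3 q30412 L824754 q29723, e3 q30413 (flp_a L830422) q30921, e3 q30414 L824769 q29725, e3 q30415 (flp_a L830430) q30922, e3 q30416 (flp_a L830440) q30923, e3 q30417 L824793 q29729, e3 q30418 L824801 q29731, e3 q30419 (flp_a L830455) q30925, e3 q30420 L824819 q29735, e3 q30421 (flp_a L830472) q30927, e3 q30422 L824839 q29738, e3 q30423 (flp_a L830491) q30929, e3 q30424 L824854 q29740, e3 q30425 (flp_a L830499) q30930, e3 q30426 L824863 q29742, e3 q30427 (flp_a L830505) q30931, e3 q30428 L824874 q29744, e3 q30429 L824878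 q29746, e3 q30430 L824884 q29747, e3 q30431 (flp_a L830514) q30933, e3 q30432 L824895 q29750, e3 q30433 L824901 q29751, e3 q30434 (flp_a L830525) q30935, e3 q30435 (flp_a L830531) q30936, e3 q30436 L824914 q29755, e3 q30437 (flp_a L830540) q30938, e3 q30438 L824934 q29758, e3 q30439 (flp_a L830559) q30940, e3 q30440 L824949 q29760, e3 q30441 (flp_a L830567) q30941, e3 q30442 L824963 q29763, e3 q30443 L824969 q29767, e3 q30444 (flp_a L830573) q30942, e3 q30445 L824978 q29770, e3 q30446 (flp_a L830579) q30943, e3 q30447 L824995 q29772, e3 q30448 (flp_a L830587) q30944, e3 q30449 L825006 q29774, e3 q30450 L825010 q29779, e3 q30451 (flp_a L830596) q30946, e3 q30452 (flp_a L830604) q30947, e3 q30453 L825036 q29783, e3 q30454 L825042 q29784, e3 q30455 (flp_a L830619) q30949, e3 q30456 L825053 q29787, e3 q30457 (flp_a L830625) q30950, e3 q30458 (flp_a L830635) q30951, e3 q30459 L825079 q29791, e3 q30460 L825089 q29792, e3 q30461 (flp_a L830652) q30953, e3 q30462 L825106 q29794, e3 q30463 L825112 q29799, trivial⟩ (by decide +kernel)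

theorem ce_a_476 : ∀ r, r < 64 → sm ga (Qf (30464 + r)) = Qf (tab Gen.a (30464 + r)) :=
  edges_tab (sm ga) Qf (tab Gen.a) 30464 [(30464, 30954), (30465, 29801), (30466, 30955), (30467, 29803), (30468, 29806), (30469, 30957), (30470, 29808), (30471, 30958), (30472, 29810), (30473, 29813), (30474, 30960), (30475, 29815), (30476, 30961), (30477, 29817), (30478, 29819), (30479, 29825), (30480, 30964), (30481, 29827), (30482, 29830), (30483, 30966), (30484, 30967), (30485, 30544), (30486, 29833), (30487, 30970), (30488, 29836), (30489, 30971), (30490, 29839), (30491, 30973), (30492, 29841), (30493, 30974), (30494, 29843), (30495, 29846), (30496, 29848), (30497, 30497), (30498, 29851), (30499, 30979), (30500, 29855), (30501, 29859), (30502, 30980), (30503, 29863), (30504, 29865), (30505, 30981), (30506, 30016), (30507, 29868), (30508, 30984), (30509, 30985), (30510, 30126), (30511, 30124), (30512, 29874), (30513, 30988), (30514, 30989), (30515, 30373), (30516, 30345), (30517, 29879), (30518, 30995), (30519, 30996), (30520, 30281),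 (30521, 30282), (30522, 30283), (30523, 29884), (30524, 31003), (30525, 29887), (30526, 31004), (30527, 31005)]
    ⟨e3 q30464 (flp_a L830662) q30954, e3 q30465 L825125 q29801, e3 q30466 (flp_a L830668) q30955, e3 q30467 L825136 q29803, e3 q30468 L825140 q29806, e3 q30469 (flp_a L830677) q30957, e3 q30470 L825155 q29808, e3 q30471 (flp_a L830685) q30958, e3 q30472 L825172 q29810, e3 q30473 L825178 q29813, e3 q30474 (flp_a L830700) q30960, e3 q30475 L825189 q29815, e3 q30476 (flp_a L830706) q30961, e3 q30477 L825204 q29817, e3 q30478 L825208 q29819, e3 q30479 L825212 q29825, e3 q30480 (flp_a L830722) q30964, e3 q30481 L825227 q29827, e3 q30482 L825233 q29830, e3 q30483 (flp_a L830735) q30966, e3 q30484 (flp_a L830741) q30967, e3 q30485 (flp_a L825999) q30544, e3 q30486 L825257 q29833, e3 q30487 (flp_a L830764) q30970, e3 q30488 L825271 q29836, e3 q30489 (flp_a L830772) q30971, e3 q30490 L825289 q29839, e3 q30491 (flp_a L830787) q30973, e3 q30492 L825300 q29841, e3 q30493 (flp_a L830793) q30974, e3 q30494 L825311 q29843, e3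 q30495 L825315 q29846, e3 q30496 L825321 q29848, e3 q30497 L825327 q30497, e3 q30498 L825330 q29851, e3 q30499 (flp_a L830817) q30979, e3 q30500 L825339 q29855, e3 q30501 L825345 q29859, e3 q30502 (flp_a L830821) q30980, e3 q30503 L825381 q29863, e3 q30504 L825399 q29865, e3 q30505 (flp_a L830841) q30981, e3 q30506 L825431 q30016, e3 q30507 L825448 q29868, e3 q30508 (flp_a L830888) q30984, e3 q30509 (flp_a L830906) q30985, e3 q30510 L825494 q30126, e3 q30511 L825512 q30124, e3 q30512 L825530 q29874, e3 q30513 (flp_a L830958) q30988, e3 q30514 (flp_a L830974) q30989, e3 q30515 L825574 q30373, e3 q30516 L825587 q30345, e3 q30517 L825603 q29879, e3 q30518 (flp_a L831067) q30995, e3 q30519 (flp_a L831081) q30996, e3 q30520 L825645 q30281, e3 q30521 L825658 q30282, e3 q30522 L825671 q30283, e3 q30523 L825687 q29884, e3 q30524 (flp_a L831184) q31003, e3 q30525 L825709 q29887, e3 q30526 (flp_a L831196) q31004, e3 q30527 (flp_a L831208) q31005, trivial⟩ (by decide +kernel)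

theorem ce_a_477 : ∀ r, r < 64 → sm ga (Qf (30528 + r)) = Qf (tab Gen.a (30528 + r)) :=
  edges_tab (sm ga) Qf (tab Gen.a) 30528 [(30528, 30294), (30529, 29890), (30530, 31008), (30531, 31009), (30532, 29994), (30533, 29895), (30534, 31012), (30535, 29898), (30536, 31013), (30537, 31014), (30538, 30276), (30539, 29902), (30540, 31016), (30541, 29905), (30542, 31017), (30543, 31018), (30544, 30485), (30545, 29909), (30546, 29910), (30547, 31022), (30548, 31023), (30549, 30259), (30550, 29914), (30551, 31026), (30552, 29918), (30553, 29919), (30554, 31027), (30555, 29922), (30556, 29924), (30557, 29925), (30558, 29928), (30559, 29931), (30560, 31028), (30561, 31029), (30562, 30364), (30563, 30365), (30564, 29935), (30565, 29936), (30566, 31034), (30567, 31035), (30568, 31036), (30569, 30322), (30570, 29940), (30571, 31040), (30572, 29943), (30573, 29946), (30574, 31041), (30575, 29950), (30576, 29953), (30577, 31042), (30578, 29957), (30579, 31044), (30580, 29959), (30581, 31045), (30582, 29961), (30583, 31046), (30584, 29963),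 (30585, 31047), (30586, 31048), (30587, 30048), (30588, 29967), (30589, 31051), (30590, 29970), (30591, 31052)]
    ⟨e3 q30528 L825742 q30294, e3 q30529 L825757 q29890, e3 q30530 (flp_a L831245) q31008, e3 q30531 (flp_a L831263) q31009, e3 q30532 L825805 q29994, e3 q30533 L825823 q29895, e3 q30534 (flp_a L831316) q31012, e3 q30535 L825855 q29898, e3 q30536 (flp_a L831334) q31013, e3 q30537 (flp_a L831352) q31014, e3 q30538 L825905 q30276, e3 q30539 L825923 q29902, e3 q30540 (flp_a L831390) q31016, e3 q30541 L825953 q29905, e3 q30542 (flp_a L831406) q31017, e3 q30543 (flp_a L831422) q31018, e3 q30544 L825999 q30485, e3 q30545 L826014 q29909, e3 q30546 L826024 q29910, e3 q30547 (flp_a L831486) q31022, e3 q30548 (flp_a L831496) q31023, e3 q30549 L826059 q30259, e3 q30550 L826072 q29914, e3 q30551 (flp_a L831535) q31026, e3 q30552 L826102 q29918, e3 q30553 L826120 q29919, e3 q30554 (flp_a L831553) q31027, e3 q30555 L826154 q29922, e3 q30556 L826170 q29924, e3 q30557 L826186 q29925, e3 q30558 L826204 q29928, e3 q30559 L826224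 q29931, e3 q30560 (flp_a L831571) q31028, e3 q30561 (flp_a L831585) q31029, e3 q30562 L826268 q30364, e3 q30563 L826283 q30365, e3 q30564 L826296 q29935, e3 q30565 L826308 q29936, e3 q30566 (flp_a L831659) q31034, e3 q30567 (flp_a L831671) q31035, e3 q30568 (flp_a L831687) q31036, e3 q30569 L826363 q30322, e3 q30570 L826378 q29940, e3 q30571 (flp_a L831747) q31040, e3 q30572 L826410 q29943, e3 q30573 L826428 q29946, e3 q30574 (flp_a L831767) q31041, e3 q30575 L826460 q29950, e3 q30576 L826472 q29953, e3 q30577 (flp_a L831785) q31042, e3 q30578 L826506 q29957, e3 q30579 (flp_a L831820) q31044, e3 q30580 L826541 q29959, e3 q30581 (flp_a L831838) q31045, e3 q30582 L826576 q29961, e3 q30583 (flp_a L831856) q31046, e3 q30584 L826611 q29963, e3 q30585 (flp_a L831874) q31047, e3 q30586 (flp_a L831886) q31048, e3 q30587 L826650 q30048, e3 q30588 L826667 q29967, e3 q30589 (flp_a L831933) q31051, e3 q30590 L826697 q29970, e3 q30591 (flp_a L831949) q31052, trivial⟩ (by decide +kernel)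

theorem ce_a_478 : ∀ r, r < 64 → sm ga (Qf (30592 + r)) = Qf (tab Gen.a (30592 + r)) :=
  edges_tab (sm ga) Qf (tab Gen.a) 30592 [(30592, 31053), (30593, 30338), (30594, 30346), (30595, 29975), (30596, 31057), (30597, 31058), (30598, 30263), (30599, 30310), (30600, 29980), (30601, 31062), (30602, 29983), (30603, 31063), (30604, 31064), (30605, 30157), (30606, 29987), (30607, 31067), (30608, 31068), (30609, 29990), (30610, 29992), (30611, 29993), (30612, 31070), (30613, 29996), (30614, 29997), (30615, 31071), (30616, 31072), (30617, 30188), (30618, 30000), (30619, 30001), (30620, 31075), (30621, 31076), (30622, 31077), (30623, 30145), (30624, 30005), (30625, 30007), (30626, 30008), (30627, 31082), (30628, 31083), (30629, 30011), (30630, 31085), (30631, 31086), (30632, 30180), (30633, 30181), (30634, 30015), (30635, 31090), (30636, 31091), (30637, 30131), (30638, 30019), (30639, 31094), (30640, 30022), (30641, 30024), (30642, 30026), (30643, 31095), (30644, 30028), (30645, 31096), (30646, 30031), (30647, 30032), (30648, 31098),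 (30649, 31099), (30650, 30036), (30651, 30038), (30652, 31101), (30653, 30041), (30654, 30042), (30655, 31103)]
    ⟨e3 q30592 (flp_a L831965) q31053, e3 q30593 L826741 q30338, e3 q30594 L826756 q30346, e3 q30595 L826772 q29975, e3 q30596 (flp_a L832026) q31057, e3 q30597 (flp_a L832042) q31058, e3 q30598 L826816 q30263, e3 q30599 L826831 q30310, e3 q30600 L826847 q29980, e3 q30601 (flp_a L832103) q31062, e3 q30602 L826869 q29983, e3 q30603 (flp_a L832115) q31063, e3 q30604 (flp_a L832131) q31064, e3 q30605 L826915 q30157, e3 q30606 L826930 q29987, e3 q30607 (flp_a L832178) q31067, e3 q30608 (flp_a L832188) q31068, e3 q30609 L826963 q29990, e3 q30610 L826979 q29992, e3 q30611 L826989 q29993, e3 q30612 (flp_a L832219) q31070, e3 q30613 L827011 q29996, e3 q30614 L827023 q29997, e3 q30615 (flp_a L832231) q31071, e3 q30616 (flp_a L832241) q31072, e3 q30617 L827052 q30188, e3 q30618 L827067 q30000, e3 q30619 L827079 q30001, e3 q30620 (flp_a L832272) q31075, e3 q30621 (flp_a L832282) q31076, e3 q30622 (flp_a L832292) q31077, e3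 q30623 L827122 q30145, e3 q30624 L827137 q30005, e3 q30625 L827149 q30007, e3 q30626 L827159 q30008, e3 q30627 (flp_a L832353) q31082, e3 q30628 (flp_a L832363) q31083, e3 q30629 L827192 q30011, e3 q30630 (flp_a L832394) q31085, e3 q30631 (flp_a L832408) q31086, e3 q30632 L827236 q30180, e3 q30633 L827251 q30181, e3 q30634 L827264 q30015, e3 q30635 (flp_a L832465) q31090, e3 q30636 (flp_a L832477) q31091, e3 q30637 L827295 q30131, e3 q30638 L827308 q30019, e3 q30639 (flp_a L832510) q31094, e3 q30640 L827331 q30022, e3 q30641 L827345 q30024, e3 q30642 L827361 q30026, e3 q30643 (flp_a L832522) q31095, e3 q30644 L827396 q30028, e3 q30645 (flp_a L832540) q31096, e3 q30646 L827431 q30031, e3 q30647 L827437 q30032, e3 q30648 (flp_a L832563) q31098, e3 q30649 (flp_a L832577) q31099, e3 q30650 L827476 q30036, e3 q30651 L827492 q30038, e3 q30652 (flp_a L832604) q31101, e3 q30653 L827526 q30041, e3 q30654 L827536 q30042, e3 q30655 (flp_a L832639) q31103, trivial⟩ (by decide +kernel)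

theorem ce_a_479 : ∀ r, r < 64 → sm ga (Qf (30656 + r)) = Qf (tab Gen.a (30656 + r)) :=
  edges_tab (sm ga) Qf (tab Gen.a) 30656 [(30656, 31104), (30657, 31105), (30658, 30046), (30659, 30047), (30660, 31109), (30661, 31110), (30662, 30061), (30663, 31113), (30664, 31114), (30665, 30065), (30666, 31116), (30667, 31117), (30668, 30069), (30669, 30071), (30670, 31119), (30671, 30074), (30672, 30075), (30673, 31120), (30674, 31121), (30675, 30083), (30676, 31122), (30677, 31123), (30678, 30132), (30679, 30088), (30680, 31126), (30681, 31127), (30682, 30136), (30683, 30137), (30684, 30138), (30685, 30093), (30686, 31132), (30687, 30096), (30688, 31133), (30689, 31134), (30690, 30100), (30691, 30101), (30692, 31135), (30693, 31136), (30694, 30162), (30695, 30105), (30696, 31139), (30697, 30111), (30698, 31140), (30699, 30114), (30700, 30117), (30701, 31141), (30702, 30120), (30703, 31143), (30704, 30122), (30705, 30123), (30706, 31144), (30707, 31145), (30708, 31146), (30709, 30129), (30710, 30130), (30711, 31147), (30712, 31148),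 (30713, 31149), (30714, 30994), (30715, 30993), (30716, 30134), (30717, 30135), (30718, 31153), (30719, 31154)]
    ⟨e3 q30656 (flp_a L832649) q31104, e3 q30657 (flp_a L832665) q31105, e3 q30658 L827589 q30046, e3 q30659 L827599 q30047, e3 q30660 (flp_a L832720) q31109, e3 q30661 (flp_a L832730) q31110, e3 q30662 L827628 q30061, e3 q30663 (flp_a L832762) q31113, e3 q30664 (flp_a L832778) q31114, e3 q30665 L827674 q30065, e3 q30666 (flp_a L832811) q31116, e3 q30667 (flp_a L832829) q31117, e3 q30668 L827724 q30069, e3 q30669 L827736 q30071, e3 q30670 (flp_a L832866) q31119, e3 q30671 L827763 q30074, e3 q30672 L827775 q30075, e3 q30673 (flp_a L832880) q31120, e3 q30674 (flp_a L832896) q31121, e3 q30675 L827826 q30083, e3 q30676 (flp_a L832916) q31122, e3 q30677 (flp_a L832932) q31123, e3 q30678 L827870 q30132, e3 q30679 L827886 q30088, e3 q30680 (flp_a L832979) q31126, e3 q30681 (flp_a L832993) q31127, e3 q30682 L827928 q30136, e3 q30683 L827941 q30137, e3 q30684 L827954 q30138, e3 q30685 L827970 q30093, e3 q30686 (flp_a L833062)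 q31132, e3 q30687 L827998 q30096, e3 q30688 (flp_a L833078) q31133, e3 q30689 (flp_a L833092) q31134, e3 q30690 L828035 q30100, e3 q30691 L828045 q30101, e3 q30692 (flp_a L833106) q31135, e3 q30693 (flp_a L833114) q31136, e3 q30694 L828080 q30162, e3 q30695 L828093 q30105, e3 q30696 (flp_a L833153) q31139, e3 q30697 L828125 q30111, e3 q30698 (flp_a L833171) q31140, e3 q30699 L828157 q30114, e3 q30700 L828171 q30117, e3 q30701 (flp_a L833189) q31141, e3 q30702 L828199 q30120, e3 q30703 (flp_a L833216) q31143, e3 q30704 L828216 q30122, e3 q30705 L828226 q30123, e3 q30706 (flp_a L833226) q31144, e3 q30707 (flp_a L833240) q31145, e3 q30708 (flp_a L833250) q31146, e3 q30709 L828270 q30129, e3 q30710 L828278 q30130, e3 q30711 (flp_a L833264) q31147, e3 q30712 (flp_a L833272) q31148, e3 q30713 (flp_a L833278) q31149, e3 q30714 (flp_a L831050) q30994, e3 q30715 (flp_a L831033) q30993, e3 q30716 L828331 q30134, e3 q30717 L828341 q30135, e3 q30718 (flp_a L833319) q31153, e3 q30719 (flp_a L833329) q31154, trivial⟩ (by decide +kernel)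

theorem ce_a_480 : ∀ r, r < 64 → sm ga (Qf (30720 + r)) = Qf (tab Gen.a (30720 + r)) :=
  edges_tab (sm ga) Qf (tab Gen.a) 30720 [(30720, 31155), (30721, 31156), (30722, 31002), (30723, 31001), (30724, 30140), (30725, 31161), (30726, 30143), (30727, 30144), (30728, 31163), (30729, 31164), (30730, 30147), (30731, 30149), (30732, 31166), (30733, 30151), (30734, 30152), (30735, 31167), (30736, 30155), (30737, 30156), (30738, 31168), (30739, 31169), (30740, 31033), (30741, 30160), (30742, 30161), (30743, 31173), (30744, 31174), (30745, 30164), (30746, 30166), (30747, 30168), (30748, 31176), (30749, 30171), (30750, 30172), (30751, 31177), (30752, 30174), (30753, 30178), (30754, 30179), (30755, 31178), (30756, 31179), (30757, 31180), (30758, 31021), (30759, 30184), (30760, 30185), (30761, 30186), (30762, 31185), (30763, 31186), (30764, 31187), (30765, 31188), (30766, 30191), (30767, 30192), (30768, 30195), (30769, 30196), (30770, 31191), (30771, 30199), (30772, 30202), (30773, 31192), (30774, 30205), (30775, 30207), (30776, 31194),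 (30777, 30209), (30778, 30212), (30779, 30214), (30780, 31197), (30781, 31198), (30782, 30217), (30783, 30218)]
    ⟨e3 q30720 (flp_a L833339) q31155, e3 q30721 (flp_a L833349) q31156, e3 q30722 (flp_a L831167) q31002, e3 q30723 (flp_a L831150) q31001, e3 q30724 L828414 q30140, e3 q30725 (flp_a L833405) q31161, e3 q30726 L828438 q30143, e3 q30727 L828448 q30144, e3 q30728 (flp_a L833430) q31163, e3 q30729 (flp_a L833440) q31164, e3 q30730 L828479 q30147, e3 q30731 L828495 q30149, e3 q30732 (flp_a L833463) q31166, e3 q30733 L828518 q30151, e3 q30734 L828534 q30152, e3 q30735 (flp_a L833475) q31167, e3 q30736 L828567 q30155, e3 q30737 L828575 q30156, e3 q30738 (flp_a L833491) q31168, e3 q30739 (flp_a L833499) q31169, e3 q30740 (flp_a L831642) q31033, e3 q30741 L828611 q30160, e3 q30742 L828617 q30161, e3 q30743 (flp_a L833535) q31173, e3 q30744 (flp_a L833545) q31174, e3 q30745 L828642 q30164, e3 q30746 L828652 q30166, e3 q30747 L828668 q30168, e3 q30748 (flp_a L833564) q31176, e3 q30749 L828687 q30171, e3 q30750 L828699 q30172,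 e3 q30751 (flp_a L833576) q31177, e3 q30752 L828726 q30174, e3 q30753 L828740 q30178, e3 q30754 L828748 q30179, e3 q30755 (flp_a L833588) q31178, e3 q30756 (flp_a L833596) q31179, e3 q30757 (flp_a L833604) q31180, e3 q30758 (flp_a L831469) q31021, e3 q30759 L828790 q30184, e3 q30760 L828796 q30185, e3 q30761 L828802 q30186, e3 q30762 (flp_a L833643) q31185, e3 q30763 (flp_a L833649) q31186, e3 q30764 (flp_a L833657) q31187, e3 q30765 (flp_a L833671) q31188, e3 q30766 L828844 q30191, e3 q30767 L828858 q30192, e3 q30768 L828870 q30195, e3 q30769 L828884 q30196, e3 q30770 (flp_a L833703) q31191, e3 q30771 L828912 q30199, e3 q30772 L828922 q30202, e3 q30773 (flp_a L833717) q31192, e3 q30774 L828947 q30205, e3 q30775 L828955 q30207, e3 q30776 (flp_a L833738) q31194, e3 q30777 L828986 q30209, e3 q30778 L828998 q30212, e3 q30779 L829012 q30214, e3 q30780 (flp_a L833780) q31197, e3 q30781 (flp_a L833794) q31198, e3 q30782 L829049 q30217, e3 q30783 L829059 q30218, trivial⟩ (by decide +kernel)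

theorem ce_a_481 : ∀ r, r < 64 → sm ga (Qf (30784 + r)) = Qf (tab Gen.a (30784 + r)) :=
  edges_tab (sm ga) Qf (tab Gen.a) 30784 [(30784, 31200), (30785, 31201), (30786, 31202), (30787, 31203), (30788, 30223), (30789, 30225), (30790, 30226), (30791, 31207), (30792, 30228), (30793, 31208), (30794, 30230), (30795, 30231), (30796, 31209), (30797, 30234), (30798, 30237), (30799, 31210), (30800, 30239), (30801, 30241), (30802, 31212), (30803, 30243), (30804, 30248), (30805, 31213), (30806, 31214), (30807, 30251), (30808, 30252), (30809, 31217), (30810, 30256), (30811, 31218), (30812, 30258), (30813, 31219), (30814, 31220), (30815, 30261), (30816, 30262), (30817, 31223), (30818, 31224), (30819, 30265), (30820, 30266), (30821, 31226), (30822, 31227), (30823, 30270), (30824, 30271), (30825, 31228), (30826, 30274), (30827, 30275), (30828, 31229), (30829, 30279), (30830, 30280), (30831, 31230), (30832, 31231), (30833, 31232), (30834, 31233), (30835, 30286), (30836, 30287), (30837, 30288), (30838, 30289), (30839, 31237), (30840, 31238),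 (30841, 30292), (30842, 30293), (30843, 31240), (30844, 31241), (30845, 30845), (30846, 30297), (30847, 30298)]
    ⟨e3 q30784 (flp_a L833821) q31200, e3 q30785 (flp_a L833831) q31201, e3 q30786 (flp_a L833845) q31202, e3 q30787 (flp_a L833859) q31203, e3 q30788 L829118 q30223, e3 q30789 L829134 q30225, e3 q30790 L829140 q30226, e3 q30791 (flp_a L833904) q31207, e3 q30792 L829157 q30228, e3 q30793 (flp_a L833912) q31208, e3 q30794 L829188 q30230, e3 q30795 L829200 q30231, e3 q30796 (flp_a L833928) q31209, e3 q30797 L829218 q30234, e3 q30798 L829230 q30237, e3 q30799 (flp_a L833938) q31210, e3 q30800 L829261 q30239, e3 q30801 L829271 q30241, e3 q30802 (flp_a L833965) q31212, e3 q30803 L829294 q30243, e3 q30804 L829306 q30248, e3 q30805 (flp_a L833977) q31213, e3 q30806 (flp_a L833989) q31214, e3 q30807 L829339 q30251, e3 q30808 L829345 q30252, e3 q30809 (flp_a L834019) q31217, e3 q30810 L829362 q30256, e3 q30811 (flp_a L834027) q31218, e3 q30812 L829385 q30258, e3 q30813 (flp_a L834039) q31219, e3 q30814 (flp_a L834047) q31220,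 e3 q30815 L829410 q30261, e3 q30816 L829416 q30262, e3 q30817 (flp_a L834071) q31223, e3 q30818 (flp_a L834081) q31224, e3 q30819 L829445 q30265, e3 q30820 L829457 q30266, e3 q30821 (flp_a L834100) q31226, e3 q30822 (flp_a L834116) q31227, e3 q30823 L829497 q30270, e3 q30824 L829505 q30271, e3 q30825 (flp_a L834132) q31228, e3 q30826 L829526 q30274, e3 q30827 L829540 q30275, e3 q30828 (flp_a L834142) q31229, e3 q30829 L829566 q30279, e3 q30830 L829576 q30280, e3 q30831 (flp_a L834154) q31230, e3 q30832 (flp_a L834164) q31231, e3 q30833 (flp_a L834174) q31232, e3 q30834 (flp_a L834184) q31233, e3 q30835 L829623 q30286, e3 q30836 L829629 q30287, e3 q30837 L829639 q30288, e3 q30838 L829649 q30289, e3 q30839 (flp_a L834217) q31237, e3 q30840 (flp_a L834227) q31238, e3 q30841 L829673 q30292, e3 q30842 L829683 q30293, e3 q30843 (flp_a L834246) q31240, e3 q30844 (flp_a L834258) q31241, e3 q30845 L829716 q30845, e3 q30846 L829719 q30297, e3 q30847 L829727 q30298, trivial⟩ (by decide +kernel)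

theorem ce_a_482 : ∀ r, r < 64 → sm ga (Qf (30848 + r)) = Qf (tab Gen.a (30848 + r)) :=
  edges_tab (sm ga) Qf (tab Gen.a) 30848 [(30848, 31244), (30849, 31245), (30850, 30300), (30851, 31247), (30852, 30302), (30853, 30303), (30854, 31249), (30855, 30305), (30856, 30308), (30857, 30309), (30858, 31250), (30859, 30313), (30860, 30315), (30861, 30317), (30862, 30320), (30863, 30321), (30864, 31251), (30865, 30324), (30866, 31252), (30867, 30327), (30868, 30329), (30869, 30869), (30870, 30332), (30871, 30334), (30872, 31256), (30873, 30336), (30874, 30337), (30875, 31258), (30876, 31259), (30877, 30340), (30878, 30343), (30879, 30344), (30880, 31261), (30881, 31262), (30882, 30348), (30883, 30388), (30884, 30352), (30885, 30389), (30886, 30357), (30887, 30359), (30888, 30360), (30889, 31264), (30890, 30362), (30891, 30363), (30892, 31265), (30893, 31266), (30894, 31267), (30895, 30368), (30896, 30369), (30897, 31271), (30898, 30371), (30899, 30372), (30900, 31273), (30901, 31274), (30902, 30902), (30903, 30377), (30904, 30378),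 (30905, 30379), (30906, 30380), (30907, 31278), (30908, 31279), (30909, 30390), (30910, 30387), (30911, 30392)]
    ⟨e3 q30848 (flp_a L834290) q31244, e3 q30849 (flp_a L834302) q31245, e3 q30850 L829753 q30300, e3 q30851 (flp_a L834321) q31247, e3 q30852 L829776 q30302, e3 q30853 L829784 q30303, e3 q30854 (flp_a L834340) q31249, e3 q30855 L829819 q30305, e3 q30856 L829833 q30308, e3 q30857 L829847 q30309, e3 q30858 (flp_a L834358) q31250, e3 q30859 L829865 q30313, e3 q30860 L829877 q30315, e3 q30861 L829889 q30317, e3 q30862 L829903 q30320, e3 q30863 L829913 q30321, e3 q30864 (flp_a L834368) q31251, e3 q30865 L829937 q30324, e3 q30866 (flp_a L834378) q31252, e3 q30867 L829958 q30327, e3 q30868 L829966 q30329, e3 q30869 L829974 q30869, e3 q30870 L829977 q30332, e3 q30871 L829987 q30334, e3 q30872 (flp_a L834413) q31256, e3 q30873 L830006 q30336, e3 q30874 L830012 q30337, e3 q30875 (flp_a L834430) q31258, e3 q30876 (flp_a L834440) q31259, e3 q30877 L830041 q30340, e3 q30878 L830051 q30343, e3 q30879 L830061 q30344, e3 q30880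 (flp_a L834459) q31261, e3 q30881 (flp_a L834467) q31262, e3 q30882 L830087 q30348, e3 q30883 L830105 q30388, e3 q30884 L830111 q30352, e3 q30885 L830117 q30389, e3 q30886 L830129 q30357, e3 q30887 L830139 q30359, e3 q30888 L830149 q30360, e3 q30889 (flp_a L834486) q31264, e3 q30890 L830168 q30362, e3 q30891 L830176 q30363, e3 q30892 (flp_a L834494) q31265, e3 q30893 (flp_a L834502) q31266, e3 q30894 (flp_a L834510) q31267, e3 q30895 L830205 q30368, e3 q30896 L830211 q30369, e3 q30897 (flp_a L834535) q31271, e3 q30898 L830226 q30371, e3 q30899 L830232 q30372, e3 q30900 (flp_a L834548) q31273, e3 q30901 (flp_a L834554) q31274, e3 q30902 L830251 q30902, e3 q30903 L830254 q30377, e3 q30904 L830264 q30378, e3 q30905 L830272 q30379, e3 q30906 L830284 q30380, e3 q30907 (flp_a L834591) q31278, e3 q30908 (flp_a L834603) q31279, e3 q30909 L830310 q30390, e3 q30910 L830322 q30387, e3 q30911 L830328 q30392, trivial⟩ (by decide +kernel)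

theorem ce_a_483 : ∀ r, r < 64 → sm ga (Qf (30912 + r)) = Qf (tab Gen.a (30912 + r)) :=
  edges_tab (sm ga) Qf (tab Gen.a) 30912 [(30912, 30394), (30913, 30398), (30914, 30399), (30915, 31283), (30916, 31284), (30917, 30403), (30918, 31286), (30919, 30405), (30920, 30410), (30921, 30413), (30922, 30415), (30923, 30416), (30924, 31289), (30925, 30419), (30926, 31290), (30927, 30421), (30928, 31291), (30929, 30423), (30930, 30425), (30931, 30427), (30932, 30932), (30933, 30431), (30934, 30934), (30935, 30434), (30936, 30435), (30937, 31297), (30938, 30437), (30939, 31298), (30940, 30439), (30941, 30441), (30942, 30444), (30943, 30446), (30944, 30448), (30945, 30945), (30946, 30451), (30947, 30452), (30948, 31303), (30949, 30455), (30950, 30457), (30951, 30458), (30952, 31305), (30953, 30461), (30954, 30464), (30955, 30466), (30956, 30956), (30957, 30469), (30958, 30471), (30959, 30959), (30960, 30474), (30961, 30476), (30962, 30962), (30963, 30963), (30964, 30480), (30965, 30965), (30966, 30483), (30967, 30484), (30968, 31315),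 (30969, 31316), (30970, 30487), (30971, 30489), (30972, 31318), (30973, 30491), (30974, 30493), (30975, 30975)]
    ⟨e3 q30912 L830342 q30394, e3 q30913 L830348 q30398, e3 q30914 L830354 q30399, e3 q30915 (flp_a L834640) q31283, e3 q30916 (flp_a L834648) q31284, e3 q30917 L830379 q30403, e3 q30918 (flp_a L834665) q31286, e3 q30919 L830400 q30405, e3 q30920 L830412 q30410, e3 q30921 L830422 q30413, e3 q30922 L830430 q30415, e3 q30923 L830440 q30416, e3 q30924 (flp_a L834693) q31289, e3 q30925 L830455 q30419, e3 q30926 (flp_a L834703) q31290, e3 q30927 L830472 q30421, e3 q30928 (flp_a L834713) q31291, e3 q30929 L830491 q30423, e3 q30930 L830499 q30425, e3 q30931 L830505 q30427, e3 q30932 L830511 q30932, e3 q30933 L830514 q30431, e3 q30934 L830522 q30934, e3 q30935 L830525 q30434, e3 q30936 L830531 q30435, e3 q30937 (flp_a L834750) q31297, e3 q30938 L830540 q30437, e3 q30939 (flp_a L834756) q31298, e3 q30940 L830559 q30439, e3 q30941 L830567 q30441, e3 q30942 L830573 q30444, e3 q30943 L830579 q30446, e3 q30944 L830587 q30448,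 e3 q30945 L830593 q30945, e3 q30946 L830596 q30451, e3 q30947 L830604 q30452, e3 q30948 (flp_a L834792) q31303, e3 q30949 L830619 q30455, e3 q30950 L830625 q30457, e3 q30951 L830635 q30458, e3 q30952 (flp_a L834805) q31305, e3 q30953 L830652 q30461, e3 q30954 L830662 q30464, e3 q30955 L830668 q30466, e3 q30956 L830674 q30956, e3 q30957 L830677 q30469, e3 q30958 L830685 q30471, e3 q30959 L830697 q30959, e3 q30960 L830700 q30474, e3 q30961 L830706 q30476, e3 q30962 L830714 q30962, e3 q30963 L830717 q30963, e3 q30964 L830722 q30480, e3 q30965 L830732 q30965, e3 q30966 L830735 q30483, e3 q30967 L830741 q30484, e3 q30968 (flp_a L834878) q31315, e3 q30969 (flp_a L834886) q31316, e3 q30970 L830764 q30487, e3 q30971 L830772 q30489, e3 q30972 (flp_a L834901) q31318, e3 q30973 L830787 q30491, e3 q30974 L830793 q30493, e3 q30975 L830799 q30975, trivial⟩ (by decide +kernel)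

theorem ce_a_484 : ∀ r, r < 64 → sm ga (Qf (30976 + r)) = Qf (tab Gen.a (30976 + r)) :=
  edges_tab (sm ga) Qf (tab Gen.a) 30976 [(30976, 30976), (30977, 30977), (30978, 30978), (30979, 30499), (30980, 30502), (30981, 30505), (30982, 31322), (30983, 31323), (30984, 30508), (30985, 30509), (30986, 31325), (30987, 31326), (30988, 30513), (30989, 30514), (30990, 31327), (30991, 31328), (30992, 31329), (30993, 30715), (30994, 30714), (30995, 30518), (30996, 30519), (30997, 31333), (30998, 31334), (30999, 31335), (31000, 31336), (31001, 30723), (31002, 30722), (31003, 30524), (31004, 30526), (31005, 30527), (31006, 31342), (31007, 31343), (31008, 30530), (31009, 30531), (31010, 31345), (31011, 31346), (31012, 30534), (31013, 30536), (31014, 30537), (31015, 31347), (31016, 30540), (31017, 30542), (31018, 30543), (31019, 31348), (31020, 31349), (31021, 30758), (31022, 30547), (31023, 30548), (31024, 31353), (31025, 31354), (31026, 30551), (31027, 30554), (31028, 30560), (31029, 30561), (31030, 31356), (31031, 31357), (31032, 31358),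 (31033, 30740), (31034, 30566), (31035, 30567), (31036, 30568), (31037, 31363), (31038, 31364), (31039, 31365)]
    ⟨e3 q30976 L830804 q30976, e3 q30977 L830809 q30977, e3 q30978 L830812 q30978, e3 q30979 L830817 q30499, e3 q30980 L830821 q30502, e3 q30981 L830841 q30505, e3 q30982 (flp_a L834924) q31322, e3 q30983 (flp_a L834940) q31323, e3 q30984 L830888 q30508, e3 q30985 L830906 q30509, e3 q30986 (flp_a L834975) q31325, e3 q30987 (flp_a L834995) q31326, e3 q30988 L830958 q30513, e3 q30989 L830974 q30514, e3 q30990 (flp_a L835015) q31327, e3 q30991 (flp_a L835031) q31328, e3 q30992 (flp_a L835045) q31329, e3 q30993 L831033 q30715, e3 q30994 L831050 q30714, e3 q30995 L831067 q30518, e3 q30996 L831081 q30519, e3 q30997 (flp_a L835108) q31333, e3 q30998 (flp_a L835122) q31334, e3 q30999 (flp_a L835136) q31335, e3 q31000 (flp_a L835150) q31336, e3 q31001 L831150 q30723, e3 q31002 L831167 q30722, e3 q31003 L831184 q30524, e3 q31004 L831196 q30526, e3 q31005 L831208 q30527, e3 q31006 (flp_a L835239) q31342, e3 q31007 (flp_a L835251)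 q31343, e3 q31008 L831245 q30530, e3 q31009 L831263 q30531, e3 q31010 (flp_a L835282) q31345, e3 q31011 (flp_a L835300) q31346, e3 q31012 L831316 q30534, e3 q31013 L831334 q30536, e3 q31014 L831352 q30537, e3 q31015 (flp_a L835320) q31347, e3 q31016 L831390 q30540, e3 q31017 L831406 q30542, e3 q31018 L831422 q30543, e3 q31019 (flp_a L835340) q31348, e3 q31020 (flp_a L835356) q31349, e3 q31021 L831469 q30758, e3 q31022 L831486 q30547, e3 q31023 L831496 q30548, e3 q31024 (flp_a L835414) q31353, e3 q31025 (flp_a L835428) q31354, e3 q31026 L831535 q30551, e3 q31027 L831553 q30554, e3 q31028 L831571 q30560, e3 q31029 L831585 q30561, e3 q31030 (flp_a L835455) q31356, e3 q31031 (flp_a L835469) q31357, e3 q31032 (flp_a L835485) q31358, e3 q31033 L831642 q30740, e3 q31034 L831659 q30566, e3 q31035 L831671 q30567, e3 q31036 L831687 q30568, e3 q31037 (flp_a L835556) q31363, e3 q31038 (flp_a L835572) q31364, e3 q31039 (flp_a L835588) q31365, trivial⟩ (by decide +kernel)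

theorem ce_a_485 : ∀ r, r < 64 → sm ga (Qf (31040 + r)) = Qf (tab Gen.a (31040 + r)) :=
  edges_tab (sm ga) Qf (tab Gen.a) 31040 [(31040, 30571), (31041, 30574), (31042, 30577), (31043, 31367), (31044, 30579), (31045, 30581), (31046, 30583), (31047, 30585), (31048, 30586), (31049, 31372), (31050, 31373), (31051, 30589), (31052, 30591), (31053, 30592), (31054, 31375), (31055, 31376), (31056, 31377), (31057, 30596), (31058, 30597), (31059, 31379), (31060, 31380), (31061, 31381), (31062, 30601), (31063, 30603), (31064, 30604), (31065, 31383), (31066, 31384), (31067, 30607), (31068, 30608), (31069, 31387), (31070, 30612), (31071, 30615), (31072, 30616), (31073, 31389), (31074, 31390), (31075, 30620), (31076, 30621), (31077, 30622), (31078, 31393), (31079, 31394), (31080, 31395), (31081, 31081), (31082, 30627), (31083, 30628), (31084, 31398), (31085, 30630), (31086, 30631), (31087, 31399), (31088, 31400), (31089, 31401), (31090, 30635), (31091, 30636), (31092, 31405), (31093, 31406), (31094, 30639), (31095, 30643), (31096, 30645),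 (31097, 31097), (31098, 30648), (31099, 30649), (31100, 31412), (31101, 30652), (31102, 31413), (31103, 30655)]
    ⟨e3 q31040 L831747 q30571, e3 q31041 L831767 q30574, e3 q31042 L831785 q30577, e3 q31043 (flp_a L835619) q31367, e3 q31044 L831820 q30579, e3 q31045 L831838 q30581, e3 q31046 L831856 q30583, e3 q31047 L831874 q30585, e3 q31048 L831886 q30586, e3 q31049 (flp_a L835707) q31372, e3 q31050 (flp_a L835723) q31373, e3 q31051 L831933 q30589, e3 q31052 L831949 q30591, e3 q31053 L831965 q30592, e3 q31054 (flp_a L835758) q31375, e3 q31055 (flp_a L835774) q31376, e3 q31056 (flp_a L835790) q31377, e3 q31057 L832026 q30596, e3 q31058 L832042 q30597, e3 q31059 (flp_a L835823) q31379, e3 q31060 (flp_a L835839) q31380, e3 q31061 (flp_a L835855) q31381, e3 q31062 L832103 q30601, e3 q31063 L832115 q30603, e3 q31064 L832131 q30604, e3 q31065 (flp_a L835888) q31383, e3 q31066 (flp_a L835904) q31384, e3 q31067 L832178 q30607, e3 q31068 L832188 q30608, e3 q31069 (flp_a L835946) q31387, e3 q31070 L832219 q30612, e3 q31071 L832231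 q30615, e3 q31072 L832241 q30616, e3 q31073 (flp_a L835973) q31389, e3 q31074 (flp_a L835981) q31390, e3 q31075 L832272 q30620, e3 q31076 L832282 q30621, e3 q31077 L832292 q30622, e3 q31078 (flp_a L836023) q31393, e3 q31079 (flp_a L836031) q31394, e3 q31080 (flp_a L836047) q31395, e3 q31081 L832350 q31081, e3 q31082 L832353 q30627, e3 q31083 L832363 q30628, e3 q31084 (flp_a L836089) q31398, e3 q31085 L832394 q30630, e3 q31086 L832408 q30631, e3 q31087 (flp_a L836105) q31399, e3 q31088 (flp_a L836119) q31400, e3 q31089 (flp_a L836135) q31401, e3 q31090 L832465 q30635, e3 q31091 L832477 q30636, e3 q31092 (flp_a L836188) q31405, e3 q31093 (flp_a L836200) q31406, e3 q31094 L832510 q30639, e3 q31095 L832522 q30643, e3 q31096 L832540 q30645, e3 q31097 L832560 q31097, e3 q31098 L832563 q30648, e3 q31099 L832577 q30649, e3 q31100 (flp_a L836293) q31412, e3 q31101 L832604 q30652, e3 q31102 (flp_a L836307) q31413, e3 q31103 L832639 q30655, trivial⟩ (by decide +kernel)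

theorem ce_a_486 : ∀ r, r < 64 → sm ga (Qf (31104 + r)) = Qf (tab Gen.a (31104 + r)) :=
  edges_tab (sm ga) Qf (tab Gen.a) 31104 [(31104, 30656), (31105, 30657), (31106, 31415), (31107, 31416), (31108, 31108), (31109, 30660), (31110, 30661), (31111, 31418), (31112, 31419), (31113, 30663), (31114, 30664), (31115, 31421), (31116, 30666), (31117, 30667), (31118, 31422), (31119, 30670), (31120, 30673), (31121, 30674), (31122, 30676), (31123, 30677), (31124, 31425), (31125, 31426), (31126, 30680), (31127, 30681), (31128, 31427), (31129, 31428), (31130, 31429), (31131, 31430), (31132, 30686), (31133, 30688), (31134, 30689), (31135, 30692), (31136, 30693), (31137, 31434), (31138, 31435), (31139, 30696), (31140, 30698), (31141, 30701), (31142, 31437), (31143, 30703), (31144, 30706), (31145, 30707), (31146, 30708), (31147, 30711), (31148, 30712), (31149, 30713), (31150, 31440), (31151, 31441), (31152, 31442), (31153, 30718), (31154, 30719), (31155, 30720), (31156, 30721), (31157, 31446), (31158, 31447), (31159, 31448), (31160, 31449),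 (31161, 30725), (31162, 31162), (31163, 30728), (31164, 30729), (31165, 31453), (31166, 30732), (31167, 30735)]
    ⟨e3 q31104 L832649 q30656, e3 q31105 L832665 q30657, e3 q31106 (flp_a L836336) q31415, e3 q31107 (flp_a L836352) q31416, e3 q31108 L832717 q31108, e3 q31109 L832720 q30660, e3 q31110 L832730 q30661, e3 q31111 (flp_a L836377) q31418, e3 q31112 (flp_a L836391) q31419, e3 q31113 L832762 q30663, e3 q31114 L832778 q30664, e3 q31115 (flp_a L836414) q31421, e3 q31116 L832811 q30666, e3 q31117 L832829 q30667, e3 q31118 (flp_a L836430) q31422, e3 q31119 L832866 q30670, e3 q31120 L832880 q30673, e3 q31121 L832896 q30674, e3 q31122 L832916 q30676, e3 q31123 L832932 q30677, e3 q31124 (flp_a L836478) q31425, e3 q31125 (flp_a L836494) q31426, e3 q31126 L832979 q30680, e3 q31127 L832993 q30681, e3 q31128 (flp_a L836512) q31427, e3 q31129 (flp_a L836526) q31428, e3 q31130 (flp_a L836540) q31429, e3 q31131 (flp_a L836554) q31430, e3 q31132 L833062 q30686, e3 q31133 L833078 q30688, e3 q31134 L833092 q30689, e3 q31135 L833106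 q30692, e3 q31136 L833114 q30693, e3 q31137 (flp_a L836609) q31434, e3 q31138 (flp_a L836623) q31435, e3 q31139 L833153 q30696, e3 q31140 L833171 q30698, e3 q31141 L833189 q30701, e3 q31142 (flp_a L836650) q31437, e3 q31143 L833216 q30703, e3 q31144 L833226 q30706, e3 q31145 L833240 q30707, e3 q31146 L833250 q30708, e3 q31147 L833264 q30711, e3 q31148 L833272 q30712, e3 q31149 L833278 q30713, e3 q31150 (flp_a L836682) q31440, e3 q31151 (flp_a L836688) q31441, e3 q31152 (flp_a L836702) q31442, e3 q31153 L833319 q30718, e3 q31154 L833329 q30719, e3 q31155 L833339 q30720, e3 q31156 L833349 q30721, e3 q31157 (flp_a L836751) q31446, e3 q31158 (flp_a L836761) q31447, e3 q31159 (flp_a L836771) q31448, e3 q31160 (flp_a L836785) q31449, e3 q31161 L833405 q30725, e3 q31162 L833427 q31162, e3 q31163 L833430 q30728, e3 q31164 L833440 q30729, e3 q31165 (flp_a L836834) q31453, e3 q31166 L833463 q30732, e3 q31167 L833475 q30735, trivial⟩ (by decide +kernel)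

theorem ce_a_487 : ∀ r, r < 64 → sm ga (Qf (31168 + r)) = Qf (tab Gen.a (31168 + r)) :=
  edges_tab (sm ga) Qf (tab Gen.a) 31168 [(31168, 30738), (31169, 30739), (31170, 31457), (31171, 31458), (31172, 31172), (31173, 30743), (31174, 30744), (31175, 31461), (31176, 30748), (31177, 30751), (31178, 30755), (31179, 30756), (31180, 30757), (31181, 31465), (31182, 31466), (31183, 31467), (31184, 31184), (31185, 30762), (31186, 30763), (31187, 30764), (31188, 30765), (31189, 31471), (31190, 31472), (31191, 30770), (31192, 30773), (31193, 31193), (31194, 30776), (31195, 31195), (31196, 31196), (31197, 30780), (31198, 30781), (31199, 31476), (31200, 30784), (31201, 30785), (31202, 30786), (31203, 30787), (31204, 31478), (31205, 31479), (31206, 31206), (31207, 30791), (31208, 30793), (31209, 30796), (31210, 30799), (31211, 31211), (31212, 30802), (31213, 30805), (31214, 30806), (31215, 31485), (31216, 31216), (31217, 30809), (31218, 30811), (31219, 30813), (31220, 30814), (31221, 31489), (31222, 31222), (31223, 30817), (31224, 30818),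 (31225, 31491), (31226, 30821), (31227, 30822), (31228, 30825), (31229, 30828), (31230, 30831), (31231, 30832)]
    ⟨e3 q31168 L833491 q30738, e3 q31169 L833499 q30739, e3 q31170 (flp_a L836883) q31457, e3 q31171 (flp_a L836893) q31458, e3 q31172 L833532 q31172, e3 q31173 L833535 q30743, e3 q31174 L833545 q30744, e3 q31175 (flp_a L836929) q31461, e3 q31176 L833564 q30748, e3 q31177 L833576 q30751, e3 q31178 L833588 q30755, e3 q31179 L833596 q30756, e3 q31180 L833604 q30757, e3 q31181 (flp_a L836970) q31465, e3 q31182 (flp_a L836978) q31466, e3 q31183 (flp_a L836986) q31467, e3 q31184 L833640 q31184, e3 q31185 L833643 q30762, e3 q31186 L833649 q30763, e3 q31187 L833657 q30764, e3 q31188 L833671 q30765, e3 q31189 (flp_a L837025) q31471, e3 q31190 (flp_a L837039) q31472, e3 q31191 L833703 q30770, e3 q31192 L833717 q30773, e3 q31193 L833733 q31193, e3 q31194 L833738 q30776, e3 q31195 L833762 q31195, e3 q31196 L833777 q31196, e3 q31197 L833780 q30780, e3 q31198 L833794 q30781, e3 q31199 (flp_a L837094) q31476, e3 q31200 L833821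 q30784, e3 q31201 L833831 q30785, e3 q31202 L833845 q30786, e3 q31203 L833859 q30787, e3 q31204 (flp_a L837119) q31478, e3 q31205 (flp_a L837133) q31479, e3 q31206 L833899 q31206, e3 q31207 L833904 q30791, e3 q31208 L833912 q30793, e3 q31209 L833928 q30796, e3 q31210 L833938 q30799, e3 q31211 L833960 q31211, e3 q31212 L833965 q30802, e3 q31213 L833977 q30805, e3 q31214 L833989 q30806, e3 q31215 (flp_a L837214) q31485, e3 q31216 L834014 q31216, e3 q31217 L834019 q30809, e3 q31218 L834027 q30811, e3 q31219 L834039 q30813, e3 q31220 L834047 q30814, e3 q31221 (flp_a L837255) q31489, e3 q31222 L834068 q31222, e3 q31223 L834071 q30817, e3 q31224 L834081 q30818, e3 q31225 (flp_a L837274) q31491, e3 q31226 L834100 q30821, e3 q31227 L834116 q30822, e3 q31228 L834132 q30825, e3 q31229 L834142 q30828, e3 q31230 L834154 q30831, e3 q31231 L834164 q30832, trivial⟩ (by decide +kernel)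

theorem ce_a_488 : ∀ r, r < 64 → sm ga (Qf (31232 + r)) = Qf (tab Gen.a (31232 + r)) :=
  edges_tab (sm ga) Qf (tab Gen.a) 31232 [(31232, 30833), (31233, 30834), (31234, 31494), (31235, 31495), (31236, 31236), (31237, 30839), (31238, 30840), (31239, 31239), (31240, 30843), (31241, 30844), (31242, 31499), (31243, 31243), (31244, 30848), (31245, 30849), (31246, 31502), (31247, 30851), (31248, 31248), (31249, 30854), (31250, 30858), (31251, 30864), (31252, 30866), (31253, 31253), (31254, 31254), (31255, 31255), (31256, 30872), (31257, 31257), (31258, 30875), (31259, 30876), (31260, 31508), (31261, 30880), (31262, 30881), (31263, 31263), (31264, 30889), (31265, 30892), (31266, 30893), (31267, 30894), (31268, 31511), (31269, 31512), (31270, 31270), (31271, 30897), (31272, 31272), (31273, 30900), (31274, 30901), (31275, 31515), (31276, 31276), (31277, 31277), (31278, 30907), (31279, 30908), (31280, 31280), (31281, 31281), (31282, 31282), (31283, 30915), (31284, 30916), (31285, 31519), (31286, 30918), (31287, 31287), (31288, 31288),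 (31289, 30924), (31290, 30926), (31291, 30928), (31292, 31292), (31293, 31293), (31294, 31294), (31295, 31295)]
    ⟨e3 q31232 L834174 q30833, e3 q31233 L834184 q30834, e3 q31234 (flp_a L837302) q31494, e3 q31235 (flp_a L837312) q31495, e3 q31236 L834214 q31236, e3 q31237 L834217 q30839, e3 q31238 L834227 q30840, e3 q31239 L834243 q31239, e3 q31240 L834246 q30843, e3 q31241 L834258 q30844, e3 q31242 (flp_a L837351) q31499, e3 q31243 L834283 q31243, e3 q31244 L834290 q30848, e3 q31245 L834302 q30849, e3 q31246 (flp_a L837383) q31502, e3 q31247 L834321 q30851, e3 q31248 L834337 q31248, e3 q31249 L834340 q30854, e3 q31250 L834358 q30858, e3 q31251 L834368 q30864, e3 q31252 L834378 q30866, e3 q31253 L834394 q31253, e3 q31254 L834399 q31254, e3 q31255 L834402 q31255, e3 q31256 L834413 q30872, e3 q31257 L834427 q31257, e3 q31258 L834430 q30875, e3 q31259 L834440 q30876, e3 q31260 (flp_a L837456) q31508, e3 q31261 L834459 q30880, e3 q31262 L834467 q30881, e3 q31263 L834483 q31263, e3 q31264 L834486 q30889, e3 q31265 L834494 q30892,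 e3 q31266 L834502 q30893, e3 q31267 L834510 q30894, e3 q31268 (flp_a L837482) q31511, e3 q31269 (flp_a L837490) q31512, e3 q31270 L834532 q31270, e3 q31271 L834535 q30897, e3 q31272 L834545 q31272, e3 q31273 L834548 q30900, e3 q31274 L834554 q30901, e3 q31275 (flp_a L837510) q31515, e3 q31276 L834573 q31276, e3 q31277 L834584 q31277, e3 q31278 L834591 q30907, e3 q31279 L834603 q30908, e3 q31280 L834621 q31280, e3 q31281 L834628 q31281, e3 q31282 L834635 q31282, e3 q31283 L834640 q30915, e3 q31284 L834648 q30916, e3 q31285 (flp_a L837549) q31519, e3 q31286 L834665 q30918, e3 q31287 L834681 q31287, e3 q31288 L834690 q31288, e3 q31289 L834693 q30924, e3 q31290 L834703 q30926, e3 q31291 L834713 q30928, e3 q31292 L834727 q31292, e3 q31293 L834732 q31293, e3 q31294 L834737 q31294, e3 q31295 L834742 q31295, trivial⟩ (by decide +kernel)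

theorem ce_a_489 : ∀ r, r < 64 → sm ga (Qf (31296 + r)) = Qf (tab Gen.a (31296 + r)) :=
  edges_tab (sm ga) Qf (tab Gen.a) 31296 [(31296, 31296), (31297, 30937), (31298, 30939), (31299, 31299), (31300, 31300), (31301, 31301), (31302, 31302), (31303, 30948), (31304, 31304), (31305, 30952), (31306, 31306), (31307, 31307), (31308, 31308), (31309, 31309), (31310, 31310), (31311, 31311), (31312, 31312), (31313, 31313), (31314, 31314), (31315, 30968), (31316, 30969), (31317, 31529), (31318, 30972), (31319, 31319), (31320, 31320), (31321, 31321), (31322, 30982), (31323, 30983), (31324, 31532), (31325, 30986), (31326, 30987), (31327, 30990), (31328, 30991), (31329, 30992), (31330, 31534), (31331, 31535), (31332, 31536), (31333, 30997), (31334, 30998), (31335, 30999), (31336, 31000), (31337, 31540), (31338, 31541), (31339, 31542), (31340, 31543), (31341, 31341), (31342, 31006), (31343, 31007), (31344, 31547), (31345, 31010), (31346, 31011), (31347, 31015), (31348, 31019), (31349, 31020), (31350, 31550), (31351, 31551), (31352, 31352),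 (31353, 31024), (31354, 31025), (31355, 31554), (31356, 31030), (31357, 31031), (31358, 31032), (31359, 31556)]
    ⟨e3 q31296 L834745 q31296, e3 q31297 L834750 q30937, e3 q31298 L834756 q30939, e3 q31299 L834770 q31299, e3 q31300 L834775 q31300, e3 q31301 L834782 q31301, e3 q31302 L834789 q31302, e3 q31303 L834792 q30948, e3 q31304 L834802 q31304, e3 q31305 L834805 q30952, e3 q31306 L834821 q31306, e3 q31307 L834826 q31307, e3 q31308 L834833 q31308, e3 q31309 L834840 q31309, e3 q31310 L834849 q31310, e3 q31311 L834854 q31311, e3 q31312 L834861 q31312, e3 q31313 L834870 q31313, e3 q31314 L834875 q31314, e3 q31315 L834878 q30968, e3 q31316 L834886 q30969, e3 q31317 (flp_a L837632) q31529, e3 q31318 L834901 q30972, e3 q31319 L834911 q31319, e3 q31320 L834916 q31320, e3 q31321 L834919 q31321, e3 q31322 L834924 q30982, e3 q31323 L834940 q30983, e3 q31324 (flp_a L837664) q31532, e3 q31325 L834975 q30986, e3 q31326 L834995 q30987, e3 q31327 L835015 q30990, e3 q31328 L835031 q30991, e3 q31329 L835045 q30992, e3 q31330 (flp_a L837699)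 q31534, e3 q31331 (flp_a L837713) q31535, e3 q31332 (flp_a L837731) q31536, e3 q31333 L835108 q30997, e3 q31334 L835122 q30998, e3 q31335 L835136 q30999, e3 q31336 L835150 q31000, e3 q31337 (flp_a L837798) q31540, e3 q31338 (flp_a L837812) q31541, e3 q31339 (flp_a L837826) q31542, e3 q31340 (flp_a L837844) q31543, e3 q31341 L835234 q31341, e3 q31342 L835239 q31006, e3 q31343 L835251 q31007, e3 q31344 (flp_a L837909) q31547, e3 q31345 L835282 q31010, e3 q31346 L835300 q31011, e3 q31347 L835320 q31015, e3 q31348 L835340 q31019, e3 q31349 L835356 q31020, e3 q31350 (flp_a L837961) q31550, e3 q31351 (flp_a L837977) q31551, e3 q31352 L835409 q31352, e3 q31353 L835414 q31024, e3 q31354 L835428 q31025, e3 q31355 (flp_a L838027) q31554, e3 q31356 L835455 q31030, e3 q31357 L835469 q31031, e3 q31358 L835485 q31032, e3 q31359 (flp_a L838056) q31556, trivial⟩ (by decide +kernel)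

theorem ce_a_490 : ∀ r, r < 64 → sm ga (Qf (31360 + r)) = Qf (tab Gen.a (31360 + r)) :=
  edges_tab (sm ga) Qf (tab Gen.a) 31360 [(31360, 31557), (31361, 31558), (31362, 31362), (31363, 31037), (31364, 31038), (31365, 31039), (31366, 31562), (31367, 31043), (31368, 31368), (31369, 31369), (31370, 31370), (31371, 31371), (31372, 31049), (31373, 31050), (31374, 31565), (31375, 31054), (31376, 31055), (31377, 31056), (31378, 31567), (31379, 31059), (31380, 31060), (31381, 31061), (31382, 31569), (31383, 31065), (31384, 31066), (31385, 31571), (31386, 31386), (31387, 31069), (31388, 31388), (31389, 31073), (31390, 31074), (31391, 31574), (31392, 31392), (31393, 31078), (31394, 31079), (31395, 31080), (31396, 31577), (31397, 31397), (31398, 31084), (31399, 31087), (31400, 31088), (31401, 31089), (31402, 31580), (31403, 31581), (31404, 31404), (31405, 31092), (31406, 31093), (31407, 31583), (31408, 31408), (31409, 31409), (31410, 31410), (31411, 31411), (31412, 31100), (31413, 31102), (31414, 31414), (31415, 31106), (31416, 31107),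 (31417, 31417), (31418, 31111), (31419, 31112), (31420, 31590), (31421, 31115), (31422, 31118), (31423, 31423)]
    ⟨e3 q31360 (flp_a L838072) q31557, e3 q31361 (flp_a L838086) q31558, e3 q31362 L835551 q31362, e3 q31363 L835556 q31037, e3 q31364 L835572 q31038, e3 q31365 L835588 q31039, e3 q31366 (flp_a L838155) q31562, e3 q31367 L835619 q31043, e3 q31368 L835651 q31368, e3 q31369 L835670 q31369, e3 q31370 L835689 q31370, e3 q31371 L835702 q31371, e3 q31372 L835707 q31049, e3 q31373 L835723 q31050, e3 q31374 (flp_a L838207) q31565, e3 q31375 L835758 q31054, e3 q31376 L835774 q31055, e3 q31377 L835790 q31056, e3 q31378 (flp_a L838242) q31567, e3 q31379 L835823 q31059, e3 q31380 L835839 q31060, e3 q31381 L835855 q31061, e3 q31382 (flp_a L838275) q31569, e3 q31383 L835888 q31065, e3 q31384 L835904 q31066, e3 q31385 (flp_a L838308) q31571, e3 q31386 L835941 q31386, e3 q31387 L835946 q31069, e3 q31388 L835968 q31388, e3 q31389 L835973 q31073, e3 q31390 L835981 q31074, e3 q31391 (flp_a L838350) q31574, e3 q31392 L836018 q31392,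 e3 q31393 L836023 q31078, e3 q31394 L836031 q31079, e3 q31395 L836047 q31080, e3 q31396 (flp_a L838392) q31577, e3 q31397 L836078 q31397, e3 q31398 L836089 q31084, e3 q31399 L836105 q31087, e3 q31400 L836119 q31088, e3 q31401 L836135 q31089, e3 q31402 (flp_a L838440) q31580, e3 q31403 (flp_a L838456) q31581, e3 q31404 L836185 q31404, e3 q31405 L836188 q31092, e3 q31406 L836200 q31093, e3 q31407 (flp_a L838481) q31583, e3 q31408 L836235 q31408, e3 q31409 L836254 q31409, e3 q31410 L836273 q31410, e3 q31411 L836278 q31411, e3 q31412 L836293 q31100, e3 q31413 L836307 q31102, e3 q31414 L836331 q31414, e3 q31415 L836336 q31106, e3 q31416 L836352 q31107, e3 q31417 L836368 q31417, e3 q31418 L836377 q31111, e3 q31419 L836391 q31112, e3 q31420 (flp_a L838587) q31590, e3 q31421 L836414 q31115, e3 q31422 L836430 q31118, e3 q31423 L836458 q31423, trivial⟩ (by decide +kernel)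

theorem ce_a_491 : ∀ r, r < 64 → sm ga (Qf (31424 + r)) = Qf (tab Gen.a (31424 + r)) :=
  edges_tab (sm ga) Qf (tab Gen.a) 31424 [(31424, 31424), (31425, 31124), (31426, 31125), (31427, 31128), (31428, 31129), (31429, 31130), (31430, 31131), (31431, 31595), (31432, 31432), (31433, 31433), (31434, 31137), (31435, 31138), (31436, 31597), (31437, 31142), (31438, 31438), (31439, 31439), (31440, 31150), (31441, 31151), (31442, 31152), (31443, 31600), (31444, 31601), (31445, 31445), (31446, 31157), (31447, 31158), (31448, 31159), (31449, 31160), (31450, 31604), (31451, 31605), (31452, 31452), (31453, 31165), (31454, 31454), (31455, 31455), (31456, 31456), (31457, 31170), (31458, 31171), (31459, 31608), (31460, 31460), (31461, 31175), (31462, 31462), (31463, 31463), (31464, 31464), (31465, 31181), (31466, 31182), (31467, 31183), (31468, 31612), (31469, 31469), (31470, 31470), (31471, 31189), (31472, 31190), (31473, 31473), (31474, 31474), (31475, 31475), (31476, 31199), (31477, 31477), (31478, 31204), (31479, 31205), (31480, 31480),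 (31481, 31481), (31482, 31482), (31483, 31483), (31484, 31484), (31485, 31215), (31486, 31486), (31487, 31487)]
    ⟨e3 q31424 L836475 q31424, e3 q31425 L836478 q31124, e3 q31426 L836494 q31125, e3 q31427 L836512 q31128, e3 q31428 L836526 q31129, e3 q31429 L836540 q31130, e3 q31430 L836554 q31131, e3 q31431 (flp_a L838669) q31595, e3 q31432 L836595 q31432, e3 q31433 L836604 q31433, e3 q31434 L836609 q31137, e3 q31435 L836623 q31138, e3 q31436 (flp_a L838698) q31597, e3 q31437 L836650 q31142, e3 q31438 L836670 q31438, e3 q31439 L836679 q31439, e3 q31440 L836682 q31150, e3 q31441 L836688 q31151, e3 q31442 L836702 q31152, e3 q31443 (flp_a L838732) q31600, e3 q31444 (flp_a L838746) q31601, e3 q31445 L836748 q31445, e3 q31446 L836751 q31157, e3 q31447 L836761 q31158, e3 q31448 L836771 q31159, e3 q31449 L836785 q31160, e3 q31450 (flp_a L838778) q31604, e3 q31451 (flp_a L838792) q31605, e3 q31452 L836825 q31452, e3 q31453 L836834 q31165, e3 q31454 L836854 q31454, e3 q31455 L836871 q31455, e3 q31456 L836880 q31456, e3 q31457 L836883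 q31170, e3 q31458 L836893 q31171, e3 q31459 (flp_a L838826) q31608, e3 q31460 L836920 q31460, e3 q31461 L836929 q31175, e3 q31462 L836947 q31462, e3 q31463 L836958 q31463, e3 q31464 L836967 q31464, e3 q31465 L836970 q31181, e3 q31466 L836978 q31182, e3 q31467 L836986 q31183, e3 q31468 (flp_a L838863) q31612, e3 q31469 L837013 q31469, e3 q31470 L837018 q31470, e3 q31471 L837025 q31189, e3 q31472 L837039 q31190, e3 q31473 L837057 q31473, e3 q31474 L837074 q31474, e3 q31475 L837089 q31475, e3 q31476 L837094 q31199, e3 q31477 L837114 q31477, e3 q31478 L837119 q31204, e3 q31479 L837133 q31205, e3 q31480 L837145 q31480, e3 q31481 L837166 q31481, e3 q31482 L837183 q31482, e3 q31483 L837196 q31483, e3 q31484 L837209 q31484, e3 q31485 L837214 q31215, e3 q31486 L837226 q31486, e3 q31487 L837243 q31487, trivial⟩ (by decide +kernel)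

theorem ce_a_492 : ∀ r, r < 64 → sm ga (Qf (31488 + r)) = Qf (tab Gen.a (31488 + r)) :=
  edges_tab (sm ga) Qf (tab Gen.a) 31488 [(31488, 31488), (31489, 31221), (31490, 31490), (31491, 31225), (31492, 31492), (31493, 31493), (31494, 31234), (31495, 31235), (31496, 31496), (31497, 31497), (31498, 31498), (31499, 31242), (31500, 31500), (31501, 31501), (31502, 31246), (31503, 31503), (31504, 31504), (31505, 31505), (31506, 31506), (31507, 31507), (31508, 31260), (31509, 31509), (31510, 31510), (31511, 31268), (31512, 31269), (31513, 31513), (31514, 31514), (31515, 31275), (31516, 31516), (31517, 31517), (31518, 31518), (31519, 31285), (31520, 31520), (31521, 31521), (31522, 31522), (31523, 31523), (31524, 31524), (31525, 31525), (31526, 31526), (31527, 31527), (31528, 31528), (31529, 31317), (31530, 31530), (31531, 31531), (31532, 31324), (31533, 31533), (31534, 31330), (31535, 31331), (31536, 31332), (31537, 31633), (31538, 31634), (31539, 31539), (31540, 31337), (31541, 31338), (31542, 31339), (31543, 31340), (31544, 31637),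 (31545, 31638), (31546, 31546), (31547, 31344), (31548, 31548), (31549, 31549), (31550, 31350), (31551, 31351)]
    ⟨e3 q31488 L837252 q31488, e3 q31489 L837255 q31221, e3 q31490 L837265 q31490, e3 q31491 L837274 q31225, e3 q31492 L837290 q31492, e3 q31493 L837299 q31493, e3 q31494 L837302 q31234, e3 q31495 L837312 q31235, e3 q31496 L837322 q31496, e3 q31497 L837331 q31497, e3 q31498 L837340 q31498, e3 q31499 L837351 q31242, e3 q31500 L837365 q31500, e3 q31501 L837376 q31501, e3 q31502 L837383 q31246, e3 q31503 L837403 q31503, e3 q31504 L837406 q31504, e3 q31505 L837433 q31505, e3 q31506 L837444 q31506, e3 q31507 L837447 q31507, e3 q31508 L837456 q31260, e3 q31509 L837470 q31509, e3 q31510 L837479 q31510, e3 q31511 L837482 q31268, e3 q31512 L837490 q31269, e3 q31513 L837498 q31513, e3 q31514 L837505 q31514, e3 q31515 L837510 q31275, e3 q31516 L837520 q31516, e3 q31517 L837533 q31517, e3 q31518 L837540 q31518, e3 q31519 L837549 q31285, e3 q31520 L837563 q31520, e3 q31521 L837574 q31521, e3 q31522 L837583 q31522, e3 q31523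 L837592 q31523, e3 q31524 L837595 q31524, e3 q31525 L837606 q31525, e3 q31526 L837613 q31526, e3 q31527 L837622 q31527, e3 q31528 L837625 q31528, e3 q31529 L837632 q31317, e3 q31530 L837644 q31530, e3 q31531 L837659 q31531, e3 q31532 L837664 q31324, e3 q31533 L837694 q31533, e3 q31534 L837699 q31330, e3 q31535 L837713 q31331, e3 q31536 L837731 q31332, e3 q31537 (flp_a L839099) q31633, e3 q31538 (flp_a L839117) q31634, e3 q31539 L837793 q31539, e3 q31540 L837798 q31337, e3 q31541 L837812 q31338, e3 q31542 L837826 q31339, e3 q31543 L837844 q31340, e3 q31544 (flp_a L839165) q31637, e3 q31545 (flp_a L839183) q31638, e3 q31546 L837896 q31546, e3 q31547 L837909 q31344, e3 q31548 L837939 q31548, e3 q31549 L837956 q31549, e3 q31550 L837961 q31350, e3 q31551 L837977 q31351, trivial⟩ (by decide +kernel)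

theorem ce_a_493 : ∀ r, r < 64 → sm ga (Qf (31552 + r)) = Qf (tab Gen.a (31552 + r)) :=
  edges_tab (sm ga) Qf (tab Gen.a) 31552 [(31552, 31641), (31553, 31553), (31554, 31355), (31555, 31555), (31556, 31359), (31557, 31360), (31558, 31361), (31559, 31645), (31560, 31560), (31561, 31561), (31562, 31366), (31563, 31563), (31564, 31564), (31565, 31374), (31566, 31566), (31567, 31378), (31568, 31568), (31569, 31382), (31570, 31570), (31571, 31385), (31572, 31572), (31573, 31573), (31574, 31391), (31575, 31575), (31576, 31576), (31577, 31396), (31578, 31578), (31579, 31579), (31580, 31402), (31581, 31403), (31582, 31582), (31583, 31407), (31584, 31584), (31585, 31585), (31586, 31586), (31587, 31587), (31588, 31588), (31589, 31589), (31590, 31420), (31591, 31591), (31592, 31592), (31593, 31593), (31594, 31594), (31595, 31431), (31596, 31596), (31597, 31436), (31598, 31598), (31599, 31599), (31600, 31443), (31601, 31444), (31602, 31602), (31603, 31603), (31604, 31450), (31605, 31451), (31606, 31606), (31607, 31607), (31608, 31459),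 (31609, 31609), (31610, 31610), (31611, 31611), (31612, 31468), (31613, 31613), (31614, 31614), (31615, 31615)]
    ⟨e3 q31552 (flp_a L839235) q31641, e3 q31553 L838012 q31553, e3 q31554 L838027 q31355, e3 q31555 L838051 q31555, e3 q31556 L838056 q31359, e3 q31557 L838072 q31360, e3 q31558 L838086 q31361, e3 q31559 (flp_a L839300) q31645, e3 q31560 L838121 q31560, e3 q31561 L838138 q31561, e3 q31562 L838155 q31366, e3 q31563 L838185 q31563, e3 q31564 L838190 q31564, e3 q31565 L838207 q31374, e3 q31566 L838237 q31566, e3 q31567 L838242 q31378, e3 q31568 L838270 q31568, e3 q31569 L838275 q31382, e3 q31570 L838303 q31570, e3 q31571 L838308 q31385, e3 q31572 L838324 q31572, e3 q31573 L838341 q31573, e3 q31574 L838350 q31391, e3 q31575 L838366 q31575, e3 q31576 L838375 q31576, e3 q31577 L838392 q31396, e3 q31578 L838408 q31578, e3 q31579 L838435 q31579, e3 q31580 L838440 q31402, e3 q31581 L838456 q31403, e3 q31582 L838470 q31582, e3 q31583 L838481 q31407, e3 q31584 L838495 q31584, e3 q31585 L838524 q31585, e3 q31586 L838529 q31586,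 e3 q31587 L838546 q31587, e3 q31588 L838563 q31588, e3 q31589 L838578 q31589, e3 q31590 L838587 q31420, e3 q31591 L838613 q31591, e3 q31592 L838632 q31592, e3 q31593 L838649 q31593, e3 q31594 L838664 q31594, e3 q31595 L838669 q31431, e3 q31596 L838683 q31596, e3 q31597 L838698 q31436, e3 q31598 L838722 q31598, e3 q31599 L838727 q31599, e3 q31600 L838732 q31443, e3 q31601 L838746 q31444, e3 q31602 L838760 q31602, e3 q31603 L838769 q31603, e3 q31604 L838778 q31450, e3 q31605 L838792 q31451, e3 q31606 L838806 q31606, e3 q31607 L838817 q31607, e3 q31608 L838826 q31459, e3 q31609 L838840 q31609, e3 q31610 L838849 q31610, e3 q31611 L838856 q31611, e3 q31612 L838863 q31468, e3 q31613 L838877 q31613, e3 q31614 L838892 q31614, e3 q31615 L838901 q31615, trivial⟩ (by decide +kernel)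

theorem ce_a_494 : ∀ r, r < 55 → sm ga (Qf (31616 + r)) = Qf (tab Gen.a (31616 + r)) :=
  edges_tab (sm ga) Qf (tab Gen.a) 31616 [(31616, 31616), (31617, 31617), (31618, 31618), (31619, 31619), (31620, 31620), (31621, 31621), (31622, 31622), (31623, 31623), (31624, 31624), (31625, 31625), (31626, 31626), (31627, 31627), (31628, 31628), (31629, 31629), (31630, 31630), (31631, 31631), (31632, 31632), (31633, 31537), (31634, 31538), (31635, 31635), (31636, 31636), (31637, 31544), (31638, 31545), (31639, 31639), (31640, 31640), (31641, 31552), (31642, 31642), (31643, 31643), (31644, 31644), (31645, 31559), (31646, 31646), (31647, 31647), (31648, 31648), (31649, 31649), (31650, 31650), (31651, 31651), (31652, 31652), (31653, 31653), (31654, 31654), (31655, 31655), (31656, 31656), (31657, 31657), (31658, 31658), (31659, 31659), (31660, 31660), (31661, 31661), (31662, 31662), (31663, 31663), (31664, 31664), (31665, 31665), (31666, 31666), (31667, 31667), (31668, 31668), (31669, 31669), (31670, 31670)]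
    ⟨e3 q31616 L838916 q31616, e3 q31617 L838931 q31617, e3 q31618 L838944 q31618, e3 q31619 L838957 q31619, e3 q31620 L838966 q31620, e3 q31621 L838975 q31621, e3 q31622 L838984 q31622, e3 q31623 L838993 q31623, e3 q31624 L839006 q31624, e3 q31625 L839017 q31625, e3 q31626 L839026 q31626, e3 q31627 L839033 q31627, e3 q31628 L839040 q31628, e3 q31629 L839049 q31629, e3 q31630 L839058 q31630, e3 q31631 L839065 q31631, e3 q31632 L839084 q31632, e3 q31633 L839099 q31537, e3 q31634 L839117 q31538, e3 q31635 L839135 q31635, e3 q31636 L839150 q31636, e3 q31637 L839165 q31544, e3 q31638 L839183 q31545, e3 q31639 L839201 q31639, e3 q31640 L839218 q31640, e3 q31641 L839235 q31552, e3 q31642 L839253 q31642, e3 q31643 L839268 q31643, e3 q31644 L839285 q31644, e3 q31645 L839300 q31559, e3 q31646 L839318 q31646, e3 q31647 L839335 q31647, e3 q31648 L839354 q31648, e3 q31649 L839371 q31649, e3 q31650 L839388 q31650, e3 q31651 L839405 q31651, e3 q31652 L839422 q31652, e3 q31653 L839439 q31653, e3 q31654 L839456 q31654, e3 q31655 L839471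 q31655, e3 q31656 L839486 q31656, e3 q31657 L839501 q31657, e3 q31658 L839516 q31658, e3 q31659 L839531 q31659, e3 q31660 L839544 q31660, e3 q31661 L839557 q31661, e3 q31662 L839570 q31662, e3 q31663 L839583 q31663, e3 q31664 L839596 q31664, e3 q31665 L839609 q31665, e3 q31666 L839628 q31666, e3 q31667 L839647 q31667, e3 q31668 L839666 q31668, e3 q31669 L839685 q31669, e3 q31670 L839704 q31670, trivial⟩ (by decide +kernel)

theorem cl_a : ∀ i, i < 31671 → sm ga (Qf i) = Qf (tab Gen.a i) :=
  all_of_chunks (fun i => sm ga (Qf i) = Qf (tab Gen.a i)) 494 55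
    ⟨ce_a_0, ce_a_1, ce_a_2, ce_a_3, ce_a_4, ce_a_5, ce_a_6, ce_a_7, ce_a_8, ce_a_9, ce_a_10, ce_a_11, ce_a_12, ce_a_13, ce_a_14, ce_a_15, ce_a_16, ce_a_17, ce_a_18, ce_a_19, ce_a_20, ce_a_21, ce_a_22, ce_a_23, ce_a_24, ce_a_25, ce_a_26, ce_a_27, ce_a_28, ce_a_29, ce_a_30, ce_a_31, ce_a_32, ce_a_33, ce_a_34, ce_a_35, ce_a_36, ce_a_37, ce_a_38, ce_a_39, ce_a_40, ce_a_41, ce_a_42, ce_a_43, ce_a_44, ce_a_45, ce_a_46, ce_a_47, ce_a_48, ce_a_49, ce_a_50, ce_a_51, ce_a_52, ce_a_53, ce_a_54, ce_a_55, ce_a_56, ce_a_57, ce_a_58, ce_a_59, ce_a_60, ce_a_61, ce_a_62, ce_a_63, ce_a_64, ce_a_65, ce_a_66, ce_a_67, ce_a_68, ce_a_69, ce_a_70, ce_a_71, ce_a_72, ce_a_73, ce_a_74, ce_a_75, ce_a_76, ce_a_77, ce_a_78, ce_a_79, ce_a_80, ce_a_81, ce_a_82, ce_a_83, ce_a_84, ce_a_85, ce_a_86, ce_a_87, ce_a_88, ce_a_89, ce_a_90, ce_a_91, ce_a_92, ce_a_93, ce_a_94, ce_a_95, ce_a_96, ce_a_97, ce_a_98, ce_a_99, ce_a_100, ce_a_101, ce_a_102, ce_a_103, ce_a_104, ce_a_105, ce_a_106, ce_a_107, ce_a_108, ce_a_109, ce_a_110, ce_a_111, ce_a_112, ce_a_113, ce_a_114,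 ce_a_115, ce_a_116, ce_a_117, ce_a_118, ce_a_119, ce_a_120, ce_a_121, ce_a_122, ce_a_123, ce_a_124, ce_a_125, ce_a_126, ce_a_127, ce_a_128, ce_a_129, ce_a_130, ce_a_131, ce_a_132, ce_a_133, ce_a_134, ce_a_135, ce_a_136, ce_a_137, ce_a_138, ce_a_139, ce_a_140, ce_a_141, ce_a_142, ce_a_143, ce_a_144, ce_a_145, ce_a_146, ce_a_147, ce_a_148, ce_a_149, ce_a_150, ce_a_151, ce_a_152, ce_a_153, ce_a_154, ce_a_155, ce_a_156, ce_a_157, ce_a_158, ce_a_159, ce_a_160, ce_a_161, ce_a_162, ce_a_163, ce_a_164, ce_a_165, ce_a_166, ce_a_167, ce_a_168, ce_a_169, ce_a_170, ce_a_171, ce_a_172, ce_a_173, ce_a_174, ce_a_175, ce_a_176, ce_a_177, ce_a_178, ce_a_179, ce_a_180, ce_a_181, ce_a_182, ce_a_183, ce_a_184, ce_a_185, ce_a_186, ce_a_187, ce_a_188, ce_a_189, ce_a_190, ce_a_191, ce_a_192, ce_a_193, ce_a_194, ce_a_195, ce_a_196, ce_a_197, ce_a_198, ce_a_199, ce_a_200, ce_a_201, ce_a_202, ce_a_203, ce_a_204, ce_a_205, ce_a_206, ce_a_207, ce_a_208, ce_a_209, ce_a_210, ce_a_211, ce_a_212, ce_a_213, ce_a_214, ce_a_215, ce_a_216, ce_a_217, ce_a_218,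 ce_a_219, ce_a_220, ce_a_221, ce_a_222, ce_a_223, ce_a_224, ce_a_225, ce_a_226, ce_a_227, ce_a_228, ce_a_229, ce_a_230, ce_a_231, ce_a_232, ce_a_233, ce_a_234, ce_a_235, ce_a_236, ce_a_237, ce_a_238, ce_a_239, ce_a_240, ce_a_241, ce_a_242, ce_a_243, ce_a_244, ce_a_245, ce_a_246, ce_a_247, ce_a_248, ce_a_249, ce_a_250, ce_a_251, ce_a_252, ce_a_253, ce_a_254, ce_a_255, ce_a_256, ce_a_257, ce_a_258, ce_a_259, ce_a_260, ce_a_261, ce_a_262, ce_a_263, ce_a_264, ce_a_265, ce_a_266, ce_a_267, ce_a_268, ce_a_269, ce_a_270, ce_a_271, ce_a_272, ce_a_273, ce_a_274, ce_a_275, ce_a_276, ce_a_277, ce_a_278, ce_a_279, ce_a_280, ce_a_281, ce_a_282, ce_a_283, ce_a_284, ce_a_285, ce_a_286, ce_a_287, ce_a_288, ce_a_289, ce_a_290, ce_a_291, ce_a_292, ce_a_293, ce_a_294, ce_a_295, ce_a_296, ce_a_297, ce_a_298, ce_a_299, ce_a_300, ce_a_301, ce_a_302, ce_a_303, ce_a_304, ce_a_305, ce_a_306, ce_a_307, ce_a_308, ce_a_309, ce_a_310, ce_a_311, ce_a_312, ce_a_313, ce_a_314, ce_a_315, ce_a_316, ce_a_317, ce_a_318, ce_a_319, ce_a_320, ce_a_321, ce_a_322,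 ce_a_323, ce_a_324, ce_a_325, ce_a_326, ce_a_327, ce_a_328, ce_a_329, ce_a_330, ce_a_331, ce_a_332, ce_a_333, ce_a_334, ce_a_335, ce_a_336, ce_a_337, ce_a_338, ce_a_339, ce_a_340, ce_a_341, ce_a_342, ce_a_343, ce_a_344, ce_a_345, ce_a_346, ce_a_347, ce_a_348, ce_a_349, ce_a_350, ce_a_351, ce_a_352, ce_a_353, ce_a_354, ce_a_355, ce_a_356, ce_a_357, ce_a_358, ce_a_359, ce_a_360, ce_a_361, ce_a_362, ce_a_363, ce_a_364, ce_a_365, ce_a_366, ce_a_367, ce_a_368, ce_a_369, ce_a_370, ce_a_371, ce_a_372, ce_a_373, ce_a_374, ce_a_375, ce_a_376, ce_a_377, ce_a_378, ce_a_379, ce_a_380, ce_a_381, ce_a_382, ce_a_383, ce_a_384, ce_a_385, ce_a_386, ce_a_387, ce_a_388, ce_a_389, ce_a_390, ce_a_391, ce_a_392, ce_a_393, ce_a_394, ce_a_395, ce_a_396, ce_a_397, ce_a_398, ce_a_399, ce_a_400, ce_a_401, ce_a_402, ce_a_403, ce_a_404, ce_a_405, ce_a_406, ce_a_407, ce_a_408, ce_a_409, ce_a_410, ce_a_411, ce_a_412, ce_a_413, ce_a_414, ce_a_415, ce_a_416, ce_a_417, ce_a_418, ce_a_419, ce_a_420, ce_a_421, ce_a_422, ce_a_423, ce_a_424, ce_a_425, ce_a_426,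 ce_a_427, ce_a_428, ce_a_429, ce_a_430, ce_a_431, ce_a_432, ce_a_433, ce_a_434, ce_a_435, ce_a_436, ce_a_437, ce_a_438, ce_a_439, ce_a_440, ce_a_441, ce_a_442, ce_a_443, ce_a_444, ce_a_445, ce_a_446, ce_a_447, ce_a_448, ce_a_449, ce_a_450, ce_a_451, ce_a_452, ce_a_453, ce_a_454, ce_a_455, ce_a_456, ce_a_457, ce_a_458, ce_a_459, ce_a_460, ce_a_461, ce_a_462, ce_a_463, ce_a_464, ce_a_465, ce_a_466, ce_a_467, ce_a_468, ce_a_469, ce_a_470, ce_a_471, ce_a_472, ce_a_473, ce_a_474, ce_a_475, ce_a_476, ce_a_477, ce_a_478, ce_a_479, ce_a_480, ce_a_481, ce_a_482, ce_a_483, ce_a_484, ce_a_485, ce_a_486, ce_a_487, ce_a_488, ce_a_489, ce_a_490, ce_a_491, ce_a_492, ce_a_493, trivial⟩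
    ce_a_494


end Cfsg.Agent.Helper28.FicA
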