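import Cfsg.Agent.Helper28.FicC0

/-!
# The Fi₂₃ presentation, cosets of the subgroup generated by a, …, i: the action of the generator b (helper28; generated)
-/

set_option autoImplicit false
set_option maxRecDepth 100000
set_option linter.unusedSimpArgs false
set_option linter.constructorNameAsVariable false

noncomputable section

namespace Cfsg.Agent.Helper28.FicA

open Cfsg.Spor Cfsg.Spor.Fi23 Cfsg.Agent.Helper28.CosetTable

theorem ce_b_0 : ∀ r, r < 64 → sm gb (Qf (0 + r)) = Qf (tab Gen.b (0 + r)) :=
  edges_tab (sm gb) Qf (tab Gen.b) 0 [(0, 0), (1, 1), (2, 2), (3, 3), (4, 4), (5, 5), (6, 8), (7, 7), (8, 6), (9, 12), (10, 10), (11, 11), (12, 9), (13, 16), (14, 17), (15, 15), (16, 13), (17, 14), (18, 23), (19, 24), (20, 20), (21, 21), (22, 22), (23, 18), (24, 19), (25, 33), (26, 34), (27, 35), (28, 39), (29, 29), (30, 30), (31, 31), (32, 32), (33, 25), (34, 26), (35, 27), (36, 49), (37, 50), (38, 51), (39, 28), (40, 56), (41, 57), (42, 42), (43, 43), (44, 44), (45, 45), (46, 46), (47, 47), (48, 48), (49, 36), (50, 37),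 (51, 38), (52, 72), (53, 73), (54, 74), (55, 75), (56, 40), (57, 41), (58, 80), (59, 81), (60, 82), (61, 83), (62, 62), (63, 63)]
    ⟨e3 q0 L1 q0, e3 q1 L12 q1, e3 q2 L22 q2, e3 q3 L32 q3, e3 q4 L42 q4, e3 q5 L52 q5, e3 q6 L76 q8, e3 q7 L70 q7, e3 q8 (flp_b L76) q6, e3 q9 (flp_b L116) q12, e3 q10 L97 q10, e3 q11 L113 q11, e3 q12 L116 q9, e3 q13 (flp_b L153) q16, e3 q14 (flp_b L161) q17, e3 q15 L145 q15, e3 q16 L153 q13, e3 q17 L161 q14, e3 q18 (flp_b L216) q23, e3 q19 (flp_b L224) q24, e3 q20 L190 q20, e3 q21 L199 q21, e3 q22 L212 q22, e3 q23 L216 q18, e3 q24 L224 q19, e3 q25 (flp_b L304) q33, e3 q26 (flp_b L312) q34, e3 q27 (flp_b L321) q35, e3 q28 L354 q39, e3 q29 L270 q29, e3 q30 L279 q30, e3 q31 L287 q31, e3 q32 L295 q32, e3 q33 L304 q25, e3 q34 L312 q26, e3 q35 L321 q27, e3 q36 (flp_b L446) q49, e3 q37 (flp_b L454) q50, e3 q38 (flp_b L463) q51, e3 q39 (flp_b L354) q28, e3 q40 (flp_b L508) q56, e3 q41 (flp_b L517) q57, e3 q42 L386 q42, e3 q43 L395 q43, e3 q44 L405 q44, e3 q45 L413 q45, e3 q46 L420 q46, e3 q47 L428 q47,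 e3 q48 L437 q48, e3 q49 L446 q36, e3 q50 L454 q37, e3 q51 L463 q38, e3 q52 (flp_b L652) q72, e3 q53 (flp_b L661) q73, e3 q54 (flp_b L670) q74, e3 q55 (flp_b L679) q75, e3 q56 L508 q40, e3 q57 L517 q41, e3 q58 (flp_b L725) q80, e3 q59 (flp_b L733) q81, e3 q60 (flp_b L742) q82, e3 q61 (flp_b L752) q83, e3 q62 L565 q62, e3 q63 L574 q63, trivial⟩ (by decide +kernel)

theorem ce_b_1 : ∀ r, r < 64 → sm gb (Qf (64 + r)) = Qf (tab Gen.b (64 + r)) :=
  edges_tab (sm gb) Qf (tab Gen.b) 64 [(64, 64), (65, 65), (66, 66), (67, 67), (68, 68), (69, 69), (70, 70), (71, 71), (72, 52), (73, 53), (74, 54), (75, 55), (76, 106), (77, 107), (78, 108), (79, 114), (80, 58), (81, 59), (82, 60), (83, 61), (84, 116), (85, 117), (86, 118), (87, 119), (88, 120), (89, 121), (90, 122), (91, 91), (92, 92), (93, 93), (94, 94), (95, 95), (96, 96), (97, 97), (98, 98), (99, 99), (100, 100), (101, 101), (102, 102), (103, 103), (104, 104), (105, 105), (106, 76), (107, 77), (108, 78), (109, 158), (110, 154), (111, 155), (112, 162), (113, 157), (114, 79), (115,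 115), (116, 84), (117, 85), (118, 86), (119, 87), (120, 88), (121, 89), (122, 90), (123, 168), (124, 169), (125, 170), (126, 171), (127, 172)]
    ⟨e3 q64 L584 q64, e3 q65 L592 q65, e3 q66 L599 q66, e3 q67 L607 q67, e3 q68 L616 q68, e3 q69 L624 q69, e3 q70 L633 q70, e3 q71 L643 q71, e3 q72 L652 q52, e3 q73 L661 q53, e3 q74 L670 q54, e3 q75 L679 q55, e3 q76 (flp_b L956) q106, e3 q77 (flp_b L966) q107, e3 q78 (flp_b L975) q108, e3 q79 L1024 q114, e3 q80 L725 q58, e3 q81 L733 q59, e3 q82 L742 q60, e3 q83 L752 q61, e3 q84 (flp_b L1043) q116, e3 q85 (flp_b L1051) q117, e3 q86 (flp_b L1060) q118, e3 q87 (flp_b L1070) q119, e3 q88 (flp_b L1079) q120, e3 q89 (flp_b L1089) q121, e3 q90 (flp_b L1100) q122, e3 q91 L830 q91, e3 q92 L840 q92, e3 q93 L850 q93, e3 q94 L860 q94, e3 q95 L868 q95, e3 q96 L875 q96, e3 q97 L882 q97, e3 q98 L890 q98, e3 q99 L899 q99, e3 q100 L907 q100, e3 q101 L914 q101, e3 q102 L923 q102, e3 q103 L932 q103, e3 q104 L942 q104, e3 q105 L948 q105, e3 q106 L956 q76, e3 q107 L966 q77, e3 q108 L975 q78, e3 q109 L1411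 q158, e3 q110 (flp_b L1378) q154, e3 q111 (flp_b L1388) q155, e3 q112 L1446 q162, e3 q113 (flp_b L1404) q157, e3 q114 (flp_b L1024) q79, e3 q115 L1038 q115, e3 q116 L1043 q84, e3 q117 L1051 q85, e3 q118 L1060 q86, e3 q119 L1070 q87, e3 q120 L1079 q88, e3 q121 L1089 q89, e3 q122 L1100 q90, e3 q123 (flp_b L1502) q168, e3 q124 (flp_b L1510) q169, e3 q125 (flp_b L1518) q170, e3 q126 (flp_b L1527) q171, e3 q127 (flp_b L1537) q172, trivial⟩ (by decide +kernel)

theorem ce_b_2 : ∀ r, r < 64 → sm gb (Qf (128 + r)) = Qf (tab Gen.b (128 + r)) :=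
  edges_tab (sm gb) Qf (tab Gen.b) 128 [(128, 173), (129, 174), (130, 175), (131, 176), (132, 177), (133, 179), (134, 134), (135, 135), (136, 136), (137, 200), (138, 138), (139, 139), (140, 140), (141, 141), (142, 142), (143, 143), (144, 144), (145, 145), (146, 146), (147, 147), (148, 148), (149, 149), (150, 150), (151, 221), (152, 152), (153, 153), (154, 110), (155, 111), (156, 228), (157, 113), (158, 109), (159, 225), (160, 233), (161, 227), (162, 112), (163, 237), (164, 164), (165, 165), (166, 166), (167, 167), (168, 123), (169, 124), (170, 125), (171, 126), (172, 127), (173, 128), (174, 129), (175, 130), (176, 131), (177, 132), (178, 178), (179, 133), (180, 246), (181, 247), (182, 248), (183, 249), (184, 250), (185, 251), (186, 252), (187, 253), (188, 254), (189, 255), (190, 256), (191, 257)]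
    ⟨e3 q128 (flp_b L1546) q173, e3 q129 (flp_b L1554) q174, e3 q130 (flp_b L1564) q175, e3 q131 (flp_b L1574) q176, e3 q132 (flp_b L1585) q177, e3 q133 (flp_b L1603) q179, e3 q134 L1210 q134, e3 q135 L1221 q135, e3 q136 L1231 q136, e3 q137 L1796 q200, e3 q138 L1248 q138, e3 q139 L1255 q139, e3 q140 L1263 q140, e3 q141 L1272 q141, e3 q142 L1280 q142, e3 q143 L1288 q143, e3 q144 L1297 q144, e3 q145 L1305 q145, e3 q146 L1312 q146, e3 q147 L1321 q147, e3 q148 L1328 q148, e3 q149 L1338 q149, e3 q150 L1348 q150, e3 q151 L1965 q221, e3 q152 L1362 q152, e3 q153 L1370 q153, e3 q154 L1378 q110, e3 q155 L1388 q111, e3 q156 L2022 q228, e3 q157 L1404 q113, e3 q158 (flp_b L1411) q109, e3 q159 (flp_b L1998) q225, e3 q160 L2067 q233, e3 q161 (flp_b L2015) q227, e3 q162 (flp_b L1446) q112, e3 q163 (flp_b L2103) q237, e3 q164 L1471 q164, e3 q165 L1475 q165, e3 q166 L1483 q166, e3 q167 L1492 q167, e3 q168 L1502 q123, e3 q169 L1510 q124, e3 q170 L1518 q125, e3 q171 L1527 q126, e3 q172 L1537 q127, e3 q173 L1546 q128, e3 q174 L1554 q129, e3 q175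 L1564 q130, e3 q176 L1574 q131, e3 q177 L1585 q132, e3 q178 L1598 q178, e3 q179 L1603 q133, e3 q180 (flp_b L2181) q246, e3 q181 (flp_b L2189) q247, e3 q182 (flp_b L2198) q248, e3 q183 (flp_b L2208) q249, e3 q184 (flp_b L2217) q250, e3 q185 (flp_b L2226) q251, e3 q186 (flp_b L2236) q252, e3 q187 (flp_b L2245) q253, e3 q188 (flp_b L2253) q254, e3 q189 (flp_b L2263) q255, e3 q190 (flp_b L2272) q256, e3 q191 (flp_b L2283) q257, trivial⟩ (by decide +kernel)

theorem ce_b_3 : ∀ r, r < 64 → sm gb (Qf (192 + r)) = Qf (tab Gen.b (192 + r)) :=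
  edges_tab (sm gb) Qf (tab Gen.b) 192 [(192, 258), (193, 283), (194, 260), (195, 262), (196, 196), (197, 197), (198, 290), (199, 199), (200, 137), (201, 201), (202, 202), (203, 203), (204, 204), (205, 205), (206, 206), (207, 207), (208, 208), (209, 209), (210, 210), (211, 211), (212, 212), (213, 213), (214, 214), (215, 314), (216, 216), (217, 217), (218, 218), (219, 320), (220, 220), (221, 151), (222, 324), (223, 223), (224, 224), (225, 159), (226, 330), (227, 161), (228, 156), (229, 334), (230, 292), (231, 336), (232, 329), (233, 160), (234, 340), (235, 332), (236, 236), (237, 163), (238, 344), (239, 239), (240, 240), (241, 241), (242, 242), (243, 243), (244, 244), (245, 245), (246, 180), (247, 181), (248, 182), (249, 183), (250, 184), (251, 185), (252, 186), (253, 187), (254, 188), (255, 189)]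
    ⟨e3 q192 (flp_b L2294) q258, e3 q193 L2519 q283, e3 q194 (flp_b L2310) q260, e3 q195 (flp_b L2330) q262, e3 q196 L1760 q196, e3 q197 L1771 q197, e3 q198 L2583 q290, e3 q199 L1790 q199, e3 q200 (flp_b L1796) q137, e3 q201 L1806 q201, e3 q202 L1813 q202, e3 q203 L1821 q203, e3 q204 L1829 q204, e3 q205 L1838 q205, e3 q206 L1845 q206, e3 q207 L1853 q207, e3 q208 L1861 q208, e3 q209 L1870 q209, e3 q210 L1880 q210, e3 q211 L1888 q211, e3 q212 L1895 q212, e3 q213 L1904 q213, e3 q214 L1912 q214, e3 q215 L2783 q314, e3 q216 L1927 q216, e3 q217 L1935 q217, e3 q218 L1946 q218, e3 q219 L2829 q320, e3 q220 L1961 q220, e3 q221 (flp_b L1965) q151, e3 q222 (flp_b L2862) q324, e3 q223 L1983 q223, e3 q224 L1990 q224, e3 q225 L1998 q159, e3 q226 L2910 q330, e3 q227 L2015 q161, e3 q228 (flp_b L2022) q156, e3 q229 (flp_b L2947) q334, e3 q230 (flp_b L2609) q292, e3 q231 L2961 q336, e3 q232 (flp_b L2902) q329, e3 q233 (flp_b L2067) q160, e3 q234 (flp_b L3000) q340, e3 q235 (flp_b L2929) q332, e3 q236 L2100 q236, e3 q237 L2103 q163, e3 q238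 (flp_b L3034) q344, e3 q239 L2120 q239, e3 q240 L2128 q240, e3 q241 L2136 q241, e3 q242 L2145 q242, e3 q243 L2155 q243, e3 q244 L2163 q244, e3 q245 L2172 q245, e3 q246 L2181 q180, e3 q247 L2189 q181, e3 q248 L2198 q182, e3 q249 L2208 q183, e3 q250 L2217 q184, e3 q251 L2226 q185, e3 q252 L2236 q186, e3 q253 L2245 q187, e3 q254 L2253 q188, e3 q255 L2263 q189, trivial⟩ (by decide +kernel)

theorem ce_b_4 : ∀ r, r < 64 → sm gb (Qf (256 + r)) = Qf (tab Gen.b (256 + r)) :=
  edges_tab (sm gb) Qf (tab Gen.b) 256 [(256, 190), (257, 191), (258, 192), (259, 380), (260, 194), (261, 261), (262, 195), (263, 360), (264, 361), (265, 362), (266, 363), (267, 364), (268, 365), (269, 366), (270, 367), (271, 368), (272, 369), (273, 370), (274, 371), (275, 372), (276, 373), (277, 407), (278, 375), (279, 376), (280, 377), (281, 413), (282, 379), (283, 193), (284, 417), (285, 382), (286, 385), (287, 287), (288, 423), (289, 289), (290, 198), (291, 427), (292, 230), (293, 293), (294, 294), (295, 295), (296, 296), (297, 297), (298, 298), (299, 299),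 (300, 300), (301, 442), (302, 302), (303, 303), (304, 304), (305, 305), (306, 306), (307, 307), (308, 308), (309, 309), (310, 455), (311, 311), (312, 458), (313, 313), (314, 215), (315, 462), (316, 316), (317, 317), (318, 468), (319, 319)]
    ⟨e3 q256 L2272 q190, e3 q257 L2283 q191, e3 q258 L2294 q192, e3 q259 L3365 q380, e3 q260 L2310 q194, e3 q261 L2320 q261, e3 q262 L2330 q195, e3 q263 (flp_b L3182) q360, e3 q264 (flp_b L3190) q361, e3 q265 (flp_b L3199) q362, e3 q266 (flp_b L3208) q363, e3 q267 (flp_b L3218) q364, e3 q268 (flp_b L3228) q365, e3 q269 (flp_b L3237) q366, e3 q270 (flp_b L3246) q367, e3 q271 (flp_b L3256) q368, e3 q272 (flp_b L3267) q369, e3 q273 (flp_b L3276) q370, e3 q274 (flp_b L3284) q371, e3 q275 (flp_b L3294) q372, e3 q276 (flp_b L3304) q373, e3 q277 L3614 q407, e3 q278 (flp_b L3321) q375, e3 q279 (flp_b L3331) q376, e3 q280 (flp_b L3343) q377, e3 q281 L3666 q413, e3 q282 (flp_b L3360) q379, e3 q283 (flp_b L2519) q193, e3 q284 (flp_b L3702) q417, e3 q285 (flp_b L3384) q382, e3 q286 (flp_b L3411) q385,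 e3 q287 L2557 q287, e3 q288 L3756 q423, e3 q289 L2577 q289, e3 q290 (flp_b L2583) q198, e3 q291 (flp_b L3796) q427, e3 q292 L2609 q230, e3 q293 L2613 q293, e3 q294 L2621 q294, e3 q295 L2629 q295, e3 q296 L2638 q296, e3 q297 L2647 q297, e3 q298 L2657 q298, e3 q299 L2664 q299, e3 q300 L2672 q300, e3 q301 L3918 q442, e3 q302 L2687 q302, e3 q303 L2695 q303, e3 q304 L2705 q304, e3 q305 L2711 q305, e3 q306 L2720 q306, e3 q307 L2728 q307, e3 q308 L2737 q308, e3 q309 L2745 q309, e3 q310 L4021 q455, e3 q311 L2762 q311, e3 q312 L4045 q458, e3 q313 L2776 q313, e3 q314 (flp_b L2783) q215, e3 q315 (flp_b L4081) q462, e3 q316 L2801 q316, e3 q317 L2808 q317, e3 q318 L4126 q468, e3 q319 L2824 q319, trivial⟩ (by decide +kernel)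

theorem ce_b_5 : ∀ r, r < 64 → sm gb (Qf (320 + r)) = Qf (tab Gen.b (320 + r)) :=
  edges_tab (sm gb) Qf (tab Gen.b) 320 [(320, 219), (321, 472), (322, 322), (323, 416), (324, 222), (325, 477), (326, 326), (327, 327), (328, 480), (329, 232), (330, 226), (331, 484), (332, 235), (333, 426), (334, 229), (335, 488), (336, 231), (337, 491), (338, 482), (339, 339), (340, 234), (341, 496), (342, 497), (343, 343), (344, 238), (345, 443), (346, 346), (347, 347), (348, 348), (349, 349), (350, 350), (351, 351), (352, 352), (353, 353), (354, 354), (355, 355), (356, 356), (357, 357), (358, 358), (359, 359), (360, 263), (361, 264), (362, 265), (363, 266), (364, 267), (365, 268), (366, 269), (367, 270), (368, 271), (369, 272), (370, 273), (371, 274), (372, 275), (373, 276), (374, 542), (375, 278), (376, 279), (377, 280), (378, 548), (379, 282), (380, 259), (381, 552), (382, 285), (383, 383)]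
    ⟨e3 q320 (flp_b L2829) q219, e3 q321 (flp_b L4159) q472, e3 q322 L2846 q322, e3 q323 (flp_b L3698) q416, e3 q324 L2862 q222, e3 q325 (flp_b L4197) q477, e3 q326 L2878 q326, e3 q327 L2885 q327, e3 q328 L4218 q480, e3 q329 L2902 q232, e3 q330 (flp_b L2910) q226, e3 q331 (flp_b L4258) q484, e3 q332 L2929 q235, e3 q333 (flp_b L3792) q426, e3 q334 L2947 q229, e3 q335 (flp_b L4292) q488, e3 q336 (flp_b L2961) q231, e3 q337 (flp_b L4315) q491, e3 q338 (flp_b L4239) q482, e3 q339 L2997 q339, e3 q340 L3000 q234, e3 q341 (flp_b L4361) q496, e3 q342 (flp_b L4369) q497, e3 q343 L3027 q343, e3 q344 L3034 q238, e3 q345 L494754 q443, e3 q346 L3051 q346, e3 q347 L3060 q347, e3 q348 L3068 q348, e3 q349 L3079 q349, e3 q350 L3089 q350, e3 q351 L3098 q351, e3 q352 L3107 q352, e3 q353 L3117 q353, e3 q354 L3127 q354, e3 q355 L3136 q355, e3 q356 L3145 q356, e3 q357 L3155 q357, e3 q358 L3164 q358, e3 q359 L3175 q359, e3 q360 L3182 q263, e3 q361 L3190 q264, e3 q362 L3199 q265, e3 q363 L3208 q266, e3 q364 L3218 q267, e3 q365 L3228 q268, e3 q366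 L3237 q269, e3 q367 L3246 q270, e3 q368 L3256 q271, e3 q369 L3267 q272, e3 q370 L3276 q273, e3 q371 L3284 q274, e3 q372 L3294 q275, e3 q373 L3304 q276, e3 q374 L4816 q542, e3 q375 L3321 q278, e3 q376 L3331 q279, e3 q377 L3343 q280, e3 q378 L4869 q548, e3 q379 L3360 q282, e3 q380 (flp_b L3365) q259, e3 q381 (flp_b L4906) q552, e3 q382 L3384 q285, e3 q383 L3393 q383, trivial⟩ (by decide +kernel)

theorem ce_b_6 : ∀ r, r < 64 → sm gb (Qf (384 + r)) = Qf (tab Gen.b (384 + r)) :=
  edges_tab (sm gb) Qf (tab Gen.b) 384 [(384, 384), (385, 286), (386, 522), (387, 523), (388, 524), (389, 525), (390, 526), (391, 527), (392, 528), (393, 529), (394, 394), (395, 530), (396, 531), (397, 532), (398, 533), (399, 534), (400, 535), (401, 536), (402, 537), (403, 585), (404, 539), (405, 588), (406, 541), (407, 277), (408, 592), (409, 544), (410, 545), (411, 598), (412, 547), (413, 281), (414, 602), (415, 550), (416, 323), (417, 284), (418, 607), (419, 555), (420, 559), (421, 610), (422, 422), (423, 288), (424, 614), (425, 425), (426, 333), (427,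 291), (428, 618), (429, 429), (430, 430), (431, 431), (432, 432), (433, 433), (434, 434), (435, 435), (436, 436), (437, 437), (438, 634), (439, 439), (440, 440), (441, 441), (442, 301), (443, 345), (444, 444), (445, 445), (446, 643), (447, 447)]
    ⟨e3 q384 L3401 q384, e3 q385 L3411 q286, e3 q386 (flp_b L4627) q522, e3 q387 (flp_b L4636) q523, e3 q388 (flp_b L4645) q524, e3 q389 (flp_b L4655) q525, e3 q390 (flp_b L4665) q526, e3 q391 (flp_b L4676) q527, e3 q392 (flp_b L4686) q528, e3 q393 (flp_b L4695) q529, e3 q394 L3500 q394, e3 q395 (flp_b L4704) q530, e3 q396 (flp_b L4715) q531, e3 q397 (flp_b L4726) q532, e3 q398 (flp_b L4734) q533, e3 q399 (flp_b L4744) q534, e3 q400 (flp_b L4753) q535, e3 q401 (flp_b L4763) q536, e3 q402 (flp_b L4773) q537, e3 q403 L5207 q585, e3 q404 (flp_b L4792) q539, e3 q405 L5233 q588, e3 q406 (flp_b L4808) q541, e3 q407 (flp_b L3614) q277, e3 q408 (flp_b L5272) q592, e3 q409 (flp_b L4836) q544, e3 q410 (flp_b L4845) q545, e3 q411 L5324 q598, e3 q412 (flp_b L4863) q547, e3 q413 (flp_b L3666)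 q281, e3 q414 (flp_b L5360) q602, e3 q415 (flp_b L4888) q550, e3 q416 L3698 q323, e3 q417 L3702 q284, e3 q418 (flp_b L5403) q607, e3 q419 (flp_b L4932) q555, e3 q420 (flp_b L4967) q559, e3 q421 L5426 q610, e3 q422 L3749 q422, e3 q423 (flp_b L3756) q288, e3 q424 (flp_b L5469) q614, e3 q425 L3778 q425, e3 q426 L3792 q333, e3 q427 L3796 q291, e3 q428 (flp_b L5507) q618, e3 q429 L3813 q429, e3 q430 L3821 q430, e3 q431 L3830 q431, e3 q432 L3840 q432, e3 q433 L3847 q433, e3 q434 L3855 q434, e3 q435 L3863 q435, e3 q436 L3871 q436, e3 q437 L3880 q437, e3 q438 L5639 q634, e3 q439 L3896 q439, e3 q440 L3904 q440, e3 q441 L3914 q441, e3 q442 (flp_b L3918) q301, e3 q443 (flp_b L494754) q345, e3 q444 L3937 q444, e3 q445 L3944 q445, e3 q446 L5725 q643, e3 q447 L3957 q447, trivial⟩ (by decide +kernel)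

theorem ce_b_7 : ∀ r, r < 64 → sm gb (Qf (448 + r)) = Qf (tab Gen.b (448 + r)) :=
  edges_tab (sm gb) Qf (tab Gen.b) 448 [(448, 448), (449, 449), (450, 450), (451, 651), (452, 452), (453, 654), (454, 454), (455, 310), (456, 658), (457, 457), (458, 312), (459, 663), (460, 460), (461, 591), (462, 315), (463, 668), (464, 669), (465, 465), (466, 673), (467, 467), (468, 318), (469, 677), (470, 470), (471, 601), (472, 321), (473, 682), (474, 683), (475, 475), (476, 606), (477, 325), (478, 689), (479, 479), (480, 328), (481, 692), (482, 338), (483, 613), (484, 331), (485, 697), (486, 698), (487, 617), (488, 335), (489, 641), (490, 490), (491, 337), (492, 703), (493, 704), (494, 695), (495, 495), (496, 341), (497, 342), (498, 710), (499, 635), (500, 500), (501, 501), (502, 502), (503, 503), (504, 504), (505, 505), (506, 506), (507, 507), (508, 508), (509, 509), (510, 510), (511, 511)]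
    ⟨e3 q448 L3964 q448, e3 q449 L3974 q449, e3 q450 L3983 q450, e3 q451 L5790 q651, e3 q452 L4000 q452, e3 q453 L5813 q654, e3 q454 L4016 q454, e3 q455 (flp_b L4021) q310, e3 q456 (flp_b L5851) q658, e3 q457 L4039 q457, e3 q458 (flp_b L4045) q312, e3 q459 (flp_b L5888) q663, e3 q460 L4065 q460, e3 q461 (flp_b L5268) q591, e3 q462 L4081 q315, e3 q463 (flp_b L5931) q668, e3 q464 (flp_b L5939) q669, e3 q465 L4104 q465, e3 q466 L5967 q673, e3 q467 L4120 q467, e3 q468 (flp_b L4126) q318, e3 q469 (flp_b L6004) q677, e3 q470 L4144 q470, e3 q471 (flp_b L5356) q601, e3 q472 L4159 q321, e3 q473 (flp_b L6041) q682, e3 q474 (flp_b L6049) q683, e3 q475 L4181 q475, e3 q476 (flp_b L5395) q606, e3 q477 L4197 q325, e3 q478 (flp_b L6095) q689, e3 q479 L4212 q479, e3 q480 (flp_b L4218) q328, e3 q481 (flp_b L6121) q692, e3 q482 L4239 q338, e3 q483 (flp_b L5465) q613, e3 q484 L4258 q331, e3 q485 (flp_b L6168) q697, e3 q486 (flp_b L6175) q698, e3 q487 (flp_b L5498) q617, e3 q488 L4292 q335, e3 q489 L594451 q641, e3 q490 L4312 q490, e3 q491 L4315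 q337, e3 q492 (flp_b L6237) q703, e3 q493 (flp_b L6246) q704, e3 q494 (flp_b L6148) q695, e3 q495 L4354 q495, e3 q496 L4361 q341, e3 q497 L4369 q342, e3 q498 (flp_b L6308) q710, e3 q499 L564438 q635, e3 q500 L4395 q500, e3 q501 L4427 q501, e3 q502 L4436 q502, e3 q503 L4446 q503, e3 q504 L4454 q504, e3 q505 L4463 q505, e3 q506 L4474 q506, e3 q507 L4484 q507, e3 q508 L4495 q508, e3 q509 L4505 q509, e3 q510 L4515 q510, e3 q511 L4526 q511, trivial⟩ (by decide +kernel)

theorem ce_b_8 : ∀ r, r < 64 → sm gb (Qf (512 + r)) = Qf (tab Gen.b (512 + r)) :=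
  edges_tab (sm gb) Qf (tab Gen.b) 512 [(512, 512), (513, 513), (514, 514), (515, 515), (516, 516), (517, 517), (518, 518), (519, 519), (520, 740), (521, 521), (522, 386), (523, 387), (524, 388), (525, 389), (526, 390), (527, 391), (528, 392), (529, 393), (530, 395), (531, 396), (532, 397), (533, 398), (534, 399), (535, 400), (536, 401), (537, 402), (538, 766), (539, 404), (540, 769), (541, 406), (542, 374), (543, 773), (544, 409), (545, 410), (546, 779), (547, 412), (548, 378), (549, 783), (550, 415), (551, 551), (552, 381), (553, 788), (554, 789), (555, 419), (556, 556), (557, 557), (558, 558), (559, 420), (560, 743), (561, 744), (562, 745), (563, 746), (564, 747), (565, 748), (566, 749), (567, 750), (568, 751), (569, 569), (570, 752), (571, 753), (572, 754), (573, 573), (574, 755), (575, 756)]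
    ⟨e3 q512 L4536 q512, e3 q513 L4545 q513, e3 q514 L4554 q514, e3 q515 L4565 q515, e3 q516 L4576 q516, e3 q517 L4584 q517, e3 q518 L4595 q518, e3 q519 L4603 q519, e3 q520 L6644 q740, e3 q521 L4619 q521, e3 q522 L4627 q386, e3 q523 L4636 q387, e3 q524 L4645 q388, e3 q525 L4655 q389, e3 q526 L4665 q390, e3 q527 L4676 q391, e3 q528 L4686 q392, e3 q529 L4695 q393, e3 q530 L4704 q395, e3 q531 L4715 q396, e3 q532 L4726 q397, e3 q533 L4734 q398, e3 q534 L4744 q399, e3 q535 L4753 q400, e3 q536 L4763 q401, e3 q537 L4773 q402, e3 q538 L6888 q766, e3 q539 L4792 q404, e3 q540 L6915 q769, e3 q541 L4808 q406, e3 q542 (flp_b L4816) q374, e3 q543 (flp_b L6955) q773, e3 q544 L4836 q409, e3 q545 L4845 q410, e3 q546 L7005 q779, e3 q547 L4863 q412, e3 q548 (flp_b L4869) q378, e3 q549 (flp_b L7042) q783, e3 q550 L4888 q415, e3 q551 L4903 q551, e3 q552 L4906 q381, e3 q553 (flp_b L7085) q788, e3 q554 (flp_b L7094) q789, e3 q555 L4932 q419, e3 q556 L4941 q556, e3 q557 L4949 q557, e3 q558 L4957 q558, e3 q559 L4967 q420, e3 q560 (flp_b L6670) q743,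 e3 q561 (flp_b L6679) q744, e3 q562 (flp_b L6689) q745, e3 q563 (flp_b L6700) q746, e3 q564 (flp_b L6710) q747, e3 q565 (flp_b L6719) q748, e3 q566 (flp_b L6728) q749, e3 q567 (flp_b L6739) q750, e3 q568 (flp_b L6749) q751, e3 q569 L5067 q569, e3 q570 (flp_b L6759) q752, e3 q571 (flp_b L6770) q753, e3 q572 (flp_b L6781) q754, e3 q573 L5100 q573, e3 q574 (flp_b L6789) q755, e3 q575 (flp_b L6799) q756, trivial⟩ (by decide +kernel)

theorem ce_b_9 : ∀ r, r < 64 → sm gb (Qf (576 + r)) = Qf (tab Gen.b (576 + r)) :=
  edges_tab (sm gb) Qf (tab Gen.b) 576 [(576, 821), (577, 758), (578, 759), (579, 760), (580, 761), (581, 829), (582, 763), (583, 832), (584, 765), (585, 403), (586, 836), (587, 768), (588, 405), (589, 841), (590, 771), (591, 461), (592, 408), (593, 846), (594, 847), (595, 776), (596, 851), (597, 778), (598, 411), (599, 855), (600, 781), (601, 471), (602, 414), (603, 860), (604, 861), (605, 786), (606, 476), (607, 418), (608, 867), (609, 793), (610, 421), (611, 870), (612, 612), (613, 483), (614, 424), (615, 875), (616,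 876), (617, 487), (618, 428), (619, 881), (620, 620), (621, 621), (622, 622), (623, 623), (624, 624), (625, 891), (626, 626), (627, 627), (628, 628), (629, 629), (630, 899), (631, 631), (632, 632), (633, 633), (634, 438), (635, 499), (636, 636), (637, 637), (638, 908), (639, 639)]
    ⟨e3 q576 L7397 q821, e3 q577 (flp_b L6814) q758, e3 q578 (flp_b L6823) q759, e3 q579 (flp_b L6834) q760, e3 q580 (flp_b L6845) q761, e3 q581 L7471 q829, e3 q582 (flp_b L6864) q763, e3 q583 L7496 q832, e3 q584 (flp_b L6882) q765, e3 q585 (flp_b L5207) q403, e3 q586 (flp_b L7537) q836, e3 q587 (flp_b L6908) q768, e3 q588 (flp_b L5233) q405, e3 q589 (flp_b L7579) q841, e3 q590 (flp_b L6937) q771, e3 q591 L5268 q461, e3 q592 L5272 q408, e3 q593 (flp_b L7627) q846, e3 q594 (flp_b L7635) q847, e3 q595 (flp_b L6980) q776, e3 q596 L7667 q851, e3 q597 (flp_b L6998) q778, e3 q598 (flp_b L5324) q411, e3 q599 (flp_b L7707) q855, e3 q600 (flp_b L7025) q781, e3 q601 L5356 q471, e3 q602 L5360 q414, e3 q603 (flp_b L7749) q860, e3 q604 (flp_b L7757) q861, e3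 q605 (flp_b L7067) q786, e3 q606 L5395 q476, e3 q607 L5403 q418, e3 q608 (flp_b L7810) q867, e3 q609 (flp_b L7127) q793, e3 q610 (flp_b L5426) q421, e3 q611 (flp_b L7838) q870, e3 q612 L5450 q612, e3 q613 L5465 q483, e3 q614 L5469 q424, e3 q615 (flp_b L7890) q875, e3 q616 (flp_b L7897) q876, e3 q617 L5498 q487, e3 q618 L5507 q428, e3 q619 (flp_b L7939) q881, e3 q620 L5522 q620, e3 q621 L5531 q621, e3 q622 L5541 q622, e3 q623 L5549 q623, e3 q624 L5558 q624, e3 q625 L8023 q891, e3 q626 L5574 q626, e3 q627 L5581 q627, e3 q628 L5589 q628, e3 q629 L5599 q629, e3 q630 L8083 q899, e3 q631 L5614 q631, e3 q632 L5623 q632, e3 q633 L5634 q633, e3 q634 (flp_b L5639) q438, e3 q635 (flp_b L564438) q499, e3 q636 L5658 q636, e3 q637 L5665 q637, e3 q638 L8176 q908, e3 q639 L5678 q639, trivial⟩ (by decide +kernel)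

theorem ce_b_10 : ∀ r, r < 64 → sm gb (Qf (640 + r)) = Qf (tab Gen.b (640 + r)) :=
  edges_tab (sm gb) Qf (tab Gen.b) 640 [(640, 640), (641, 489), (642, 642), (643, 446), (644, 914), (645, 645), (646, 646), (647, 920), (648, 648), (649, 923), (650, 650), (651, 451), (652, 927), (653, 653), (654, 453), (655, 932), (656, 656), (657, 835), (658, 456), (659, 937), (660, 938), (661, 661), (662, 840), (663, 459), (664, 944), (665, 945), (666, 666), (667, 845), (668, 463), (669, 464), (670, 953), (671, 954), (672, 672), (673, 466), (674, 959), (675, 675), (676, 854), (677, 469), (678, 964), (679, 965), (680, 680), (681, 859), (682, 473), (683, 474), (684, 972), (685, 912), (686, 973), (687, 687), (688, 866), (689, 478), (690, 978), (691, 869), (692, 481), (693, 980), (694, 981), (695, 494), (696, 874), (697, 485), (698, 486), (699, 987), (700, 906), (701, 879), (702, 702), (703, 492)]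
    ⟨e3 q640 L5704 q640, e3 q641 (flp_b L594451) q489, e3 q642 L5719 q642, e3 q643 (flp_b L5725) q446, e3 q644 (flp_b L8260) q914, e3 q645 L5740 q645, e3 q646 L5748 q646, e3 q647 L8304 q920, e3 q648 L5767 q648, e3 q649 L8331 q923, e3 q650 L5784 q650, e3 q651 (flp_b L5790) q451, e3 q652 (flp_b L8368) q927, e3 q653 L5809 q653, e3 q654 (flp_b L5813) q453, e3 q655 (flp_b L8407) q932, e3 q656 L5833 q656, e3 q657 (flp_b L7533) q835, e3 q658 L5851 q456, e3 q659 (flp_b L8448) q937, e3 q660 (flp_b L8454) q938, e3 q661 L5872 q661, e3 q662 (flp_b L7575) q840, e3 q663 L5888 q459, e3 q664 (flp_b L8501) q944, e3 q665 (flp_b L8510) q945, e3 q666 L5914 q666, e3 q667 (flp_b L7619) q845, e3 q668 L5931 q463, e3 q669 L5939 q464, e3 q670 (flp_b L8576) q953, e3 q671 (flp_b L8584) q954, e3 q672 L5961 q672, e3 q673 (flp_b L5967) q466, e3 q674 (flp_b L8623) q959, e3 q675 L5987 q675, e3 q676 (flp_b L7703) q854, e3 q677 L6004 q469, e3 q678 (flp_b L8664) q964, e3 q679 (flp_b L8673) q965, e3 q680 L6026 q680, e3 q681 (flp_b L7743) q859, e3 q682 L6041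 q473, e3 q683 L6049 q474, e3 q684 (flp_b L8734) q972, e3 q685 L598182 q912, e3 q686 (flp_b L8750) q973, e3 q687 L6079 q687, e3 q688 (flp_b L7803) q866, e3 q689 L6095 q478, e3 q690 (flp_b L8795) q978, e3 q691 (flp_b L7834) q869, e3 q692 L6121 q481, e3 q693 (flp_b L8815) q980, e3 q694 (flp_b L8823) q981, e3 q695 L6148 q494, e3 q696 (flp_b L7881) q874, e3 q697 L6168 q485, e3 q698 L6175 q486, e3 q699 (flp_b L8883) q987, e3 q700 L598152 q906, e3 q701 (flp_b L7925) q879, e3 q702 L6229 q702, e3 q703 L6237 q492, trivial⟩ (by decide +kernel)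

theorem ce_b_11 : ∀ r, r < 64 → sm gb (Qf (704 + r)) = Qf (tab Gen.b (704 + r)) :=
  edges_tab (sm gb) Qf (tab Gen.b) 704 [(704, 493), (705, 992), (706, 900), (707, 993), (708, 708), (709, 709), (710, 498), (711, 998), (712, 893), (713, 713), (714, 714), (715, 715), (716, 716), (717, 717), (718, 718), (719, 719), (720, 720), (721, 721), (722, 722), (723, 723), (724, 724), (725, 725), (726, 726), (727, 727), (728, 728), (729, 729), (730, 730), (731, 731), (732, 732), (733, 733), (734, 1028), (735, 735), (736, 736), (737, 737), (738, 1034), (739, 739), (740, 520), (741, 1038), (742, 742), (743, 560), (744, 561), (745, 562), (746, 563), (747, 564), (748, 565), (749, 566), (750, 567), (751, 568), (752, 570), (753, 571), (754, 572), (755, 574), (756, 575), (757, 1061), (758, 577), (759, 578), (760, 579), (761, 580), (762, 1069), (763, 582), (764, 1072), (765, 584), (766, 538), (767, 1076)]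
    ⟨e3 q704 L6246 q493, e3 q705 (flp_b L8977) q992, e3 q706 (flp_b L572428) q900, e3 q707 (flp_b L8995) q993, e3 q708 L6285 q708, e3 q709 L6294 q709, e3 q710 L6308 q498, e3 q711 (flp_b L9082) q998, e3 q712 (flp_b L572472) q893, e3 q713 L6384 q713, e3 q714 L6393 q714, e3 q715 L6403 q715, e3 q716 L6413 q716, e3 q717 L6422 q717, e3 q718 L6431 q718, e3 q719 L6442 q719, e3 q720 L6452 q720, e3 q721 L6464 q721, e3 q722 L6475 q722, e3 q723 L6486 q723, e3 q724 L6496 q724, e3 q725 L6508 q725, e3 q726 L6514 q726, e3 q727 L6525 q727, e3 q728 L6535 q728, e3 q729 L6545 q729, e3 q730 L6556 q730, e3 q731 L6567 q731, e3 q732 L6575 q732, e3 q733 L6585 q733, e3 q734 L9434 q1028, e3 q735 L6603 q735, e3 q736 L6609 q736, e3 q737 L6620 q737, e3 q738 L9485 q1034, e3 q739 L6638 q739, e3 q740 (flp_b L6644) q520, e3 q741 (flp_b L9522) q1038, e3 q742 L6663 q742, e3 q743 L6670 q560, e3 q744 L6679 q561, e3 q745 L6689 q562, e3 q746 L6700 q563, e3 q747 L6710 q564, e3 q748 L6719 q565, e3 q749 L6728 q566, e3 q750 L6739 q567, e3 q751 L6749 q568, e3 q752 L6759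 q570, e3 q753 L6770 q571, e3 q754 L6781 q572, e3 q755 L6789 q574, e3 q756 L6799 q575, e3 q757 L9738 q1061, e3 q758 L6814 q577, e3 q759 L6823 q578, e3 q760 L6834 q579, e3 q761 L6845 q580, e3 q762 L9812 q1069, e3 q763 L6864 q582, e3 q764 L9838 q1072, e3 q765 L6882 q584, e3 q766 (flp_b L6888) q538, e3 q767 (flp_b L9880) q1076, trivial⟩ (by decide +kernel)

theorem ce_b_12 : ∀ r, r < 64 → sm gb (Qf (768 + r)) = Qf (tab Gen.b (768 + r)) :=
  edges_tab (sm gb) Qf (tab Gen.b) 768 [(768, 587), (769, 540), (770, 1081), (771, 590), (772, 772), (773, 543), (774, 1086), (775, 1087), (776, 595), (777, 1092), (778, 597), (779, 546), (780, 1096), (781, 600), (782, 782), (783, 549), (784, 1101), (785, 1102), (786, 605), (787, 787), (788, 553), (789, 554), (790, 1109), (791, 1110), (792, 1111), (793, 609), (794, 794), (795, 795), (796, 796), (797, 797), (798, 798), (799, 1042), (800, 1043), (801, 1044), (802, 1045), (803, 1046), (804, 804), (805, 1047), (806, 1048), (807, 1049), (808, 1050), (809, 809), (810, 1051), (811, 1052), (812, 1053),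 (813, 813), (814, 1054), (815, 1055), (816, 1145), (817, 1057), (818, 1058), (819, 1149), (820, 1060), (821, 576), (822, 1153), (823, 1063), (824, 1064), (825, 1159), (826, 1066), (827, 1162), (828, 1068), (829, 581), (830, 1166), (831, 1071)]
    ⟨e3 q768 L6908 q587, e3 q769 (flp_b L6915) q540, e3 q770 (flp_b L9922) q1081, e3 q771 L6937 q590, e3 q772 L6952 q772, e3 q773 L6955 q543, e3 q774 (flp_b L9971) q1086, e3 q775 (flp_b L9977) q1087, e3 q776 L6980 q595, e3 q777 L10017 q1092, e3 q778 L6998 q597, e3 q779 (flp_b L7005) q546, e3 q780 (flp_b L10058) q1096, e3 q781 L7025 q600, e3 q782 L7039 q782, e3 q783 L7042 q549, e3 q784 (flp_b L10101) q1101, e3 q785 (flp_b L10108) q1102, e3 q786 L7067 q605, e3 q787 L7077 q787, e3 q788 L7085 q553, e3 q789 L7094 q554, e3 q790 (flp_b L10169) q1109, e3 q791 (flp_b L10178) q1110, e3 q792 (flp_b L10186) q1111, e3 q793 L7127 q609, e3 q794 L7137 q794, e3 q795 L7145 q795, e3 q796 L7153 q796, e3 q797 L7161 q797, e3 q798 L7170 q798, e3 q799 (flp_b L9553) q1042, e3 q800 (flp_b L9563) q1043, e3 q801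 (flp_b L9574) q1044, e3 q802 (flp_b L9585) q1045, e3 q803 (flp_b L9595) q1046, e3 q804 L7236 q804, e3 q805 (flp_b L9605) q1047, e3 q806 (flp_b L9615) q1048, e3 q807 (flp_b L9626) q1049, e3 q808 (flp_b L9637) q1050, e3 q809 L7283 q809, e3 q810 (flp_b L9646) q1051, e3 q811 (flp_b L9658) q1052, e3 q812 (flp_b L9670) q1053, e3 q813 L7319 q813, e3 q814 (flp_b L9679) q1054, e3 q815 (flp_b L9689) q1055, e3 q816 L10507 q1145, e3 q817 (flp_b L9704) q1057, e3 q818 (flp_b L9714) q1058, e3 q819 L10556 q1149, e3 q820 (flp_b L9731) q1060, e3 q821 (flp_b L7397) q576, e3 q822 (flp_b L10592) q1153, e3 q823 (flp_b L9755) q1063, e3 q824 (flp_b L9765) q1064, e3 q825 L10643 q1159, e3 q826 (flp_b L9786) q1066, e3 q827 L10672 q1162, e3 q828 (flp_b L9805) q1068, e3 q829 (flp_b L7471) q581, e3 q830 (flp_b L10712) q1166, e3 q831 (flp_b L9833) q1071, trivial⟩ (by decide +kernel)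

theorem ce_b_13 : ∀ r, r < 64 → sm gb (Qf (832 + r)) = Qf (tab Gen.b (832 + r)) :=
  edges_tab (sm gb) Qf (tab Gen.b) 832 [(832, 583), (833, 1171), (834, 1074), (835, 657), (836, 586), (837, 1176), (838, 1177), (839, 1079), (840, 662), (841, 589), (842, 1183), (843, 1184), (844, 1084), (845, 667), (846, 593), (847, 594), (848, 1192), (849, 1193), (850, 1091), (851, 596), (852, 1198), (853, 1094), (854, 676), (855, 599), (856, 1203), (857, 1204), (858, 1099), (859, 681), (860, 603), (861, 604), (862, 1212), (863, 1213), (864, 1214), (865, 1106), (866, 688), (867, 608), (868, 1220), (869, 691), (870, 611), (871, 1222), (872, 1223), (873, 873), (874, 696), (875, 615), (876, 616), (877, 1230), (878, 1231), (879, 701), (880, 880), (881, 619), (882, 1152), (883, 883), (884, 884), (885, 885), (886, 1242), (887, 887), (888, 888), (889, 889), (890, 890), (891, 625), (892, 1250), (893, 712), (894, 894), (895, 895)]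
    ⟨e3 q832 (flp_b L7496) q583, e3 q833 (flp_b L10756) q1171, e3 q834 (flp_b L9860) q1074, e3 q835 L7533 q657, e3 q836 L7537 q586, e3 q837 (flp_b L10802) q1176, e3 q838 (flp_b L10808) q1177, e3 q839 (flp_b L9904) q1079, e3 q840 L7575 q662, e3 q841 L7579 q589, e3 q842 (flp_b L10862) q1183, e3 q843 (flp_b L10871) q1184, e3 q844 (flp_b L9951) q1084, e3 q845 L7619 q667, e3 q846 L7627 q593, e3 q847 L7635 q594, e3 q848 (flp_b L10945) q1192, e3 q849 (flp_b L10953) q1193, e3 q850 (flp_b L10010) q1091, e3 q851 (flp_b L7667) q596, e3 q852 (flp_b L10998) q1198, e3 q853 (flp_b L10039) q1094, e3 q854 L7703 q676, e3 q855 L7707 q599, e3 q856 (flp_b L11044) q1203, e3 q857 (flp_b L11053) q1204, e3 q858 (flp_b L10083) q1099, e3 q859 L7743 q681, e3 q860 L7749 q603, e3 q861 L7757 q604, e3 q862 (flp_b L11122) q1212, e3 q863 (flp_b L11131) q1213, e3 q864 (flp_b L11138) q1214, e3 q865 (flp_b L10141) q1106, e3 q866 L7803 q688, e3 q867 L7810 q608, e3 q868 (flp_b L11191) q1220, e3 q869 L7834 q691, e3 q870 L7838 q611, e3 q871 (flp_b L11211) q1222,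 e3 q872 (flp_b L11219) q1223, e3 q873 L7870 q873, e3 q874 L7881 q696, e3 q875 L7890 q615, e3 q876 L7897 q616, e3 q877 (flp_b L11286) q1230, e3 q878 (flp_b L11294) q1231, e3 q879 L7925 q701, e3 q880 L7935 q880, e3 q881 L7939 q619, e3 q882 (flp_b L594470) q1152, e3 q883 L7955 q883, e3 q884 L7963 q884, e3 q885 L7972 q885, e3 q886 L11401 q1242, e3 q887 L7989 q887, e3 q888 L7997 q888, e3 q889 L8006 q889, e3 q890 L8017 q890, e3 q891 (flp_b L8023) q625, e3 q892 (flp_b L11472) q1250, e3 q893 L572472 q712, e3 q894 L8049 q894, e3 q895 L8057 q895, trivial⟩ (by decide +kernel)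

theorem ce_b_14 : ∀ r, r < 64 → sm gb (Qf (896 + r)) = Qf (tab Gen.b (896 + r)) :=
  edges_tab (sm gb) Qf (tab Gen.b) 896 [(896, 896), (897, 1257), (898, 898), (899, 630), (900, 706), (901, 901), (902, 902), (903, 1263), (904, 904), (905, 905), (906, 700), (907, 907), (908, 638), (909, 1269), (910, 910), (911, 911), (912, 685), (913, 913), (914, 644), (915, 1277), (916, 1278), (917, 917), (918, 1283), (919, 919), (920, 647), (921, 1287), (922, 922), (923, 649), (924, 1292), (925, 925), (926, 1165), (927, 652), (928, 1297), (929, 1298), (930, 930), (931, 1170), (932, 655), (933, 1304), (934, 1305), (935, 935), (936, 1175), (937, 659), (938, 660), (939, 1312), (940, 1274), (941, 1313), (942, 942), (943, 1182), (944, 664), (945, 665), (946, 1321), (947, 1322), (948, 1323), (949, 949), (950, 1189), (951, 1190), (952, 952), (953, 670), (954, 671), (955, 1332), (956, 1333), (957, 1334), (958, 1197), (959, 674)]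
    ⟨e3 q896 L8064 q896, e3 q897 L11542 q1257, e3 q898 L8079 q898, e3 q899 (flp_b L8083) q630, e3 q900 L572428 q706, e3 q901 L8104 q901, e3 q902 L8112 q902, e3 q903 L11610 q1263, e3 q904 L8127 q904, e3 q905 L8154 q905, e3 q906 (flp_b L598152) q700, e3 q907 L8169 q907, e3 q908 (flp_b L8176) q638, e3 q909 (flp_b L11698) q1269, e3 q910 L8192 q910, e3 q911 L8221 q911, e3 q912 (flp_b L598182) q685, e3 q913 L8244 q913, e3 q914 L8260 q644, e3 q915 (flp_b L11821) q1277, e3 q916 (flp_b L11827) q1278, e3 q917 L8280 q917, e3 q918 L11861 q1283, e3 q919 L8297 q919, e3 q920 (flp_b L8304) q647, e3 q921 (flp_b L11903) q1287, e3 q922 L8325 q922, e3 q923 (flp_b L8331) q649, e3 q924 (flp_b L11945) q1292, e3 q925 L8352 q925, e3 q926 (flp_b L10708) q1165, e3 q927 L8368 q652, e3 q928 (flp_b L11988) q1297, e3 q929 (flp_b L11995) q1298, e3 q930 L8389 q930, e3 q931 (flp_b L10752) q1170, e3 q932 L8407 q655, e3 q933 (flp_b L12040) q1304, e3 q934 (flp_b L12048) q1305, e3 q935 L8432 q935, e3 q936 (flp_b L10795) q1175, e3 q937 L8448 q659, e3 q938 L8454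 q660, e3 q939 (flp_b L12110) q1312, e3 q940 (flp_b L598193) q1274, e3 q941 (flp_b L12125) q1313, e3 q942 L8483 q942, e3 q943 (flp_b L10853) q1182, e3 q944 L8501 q664, e3 q945 L8510 q665, e3 q946 (flp_b L12193) q1321, e3 q947 (flp_b L12202) q1322, e3 q948 (flp_b L12211) q1323, e3 q949 L8543 q949, e3 q950 (flp_b L10921) q1189, e3 q951 (flp_b L10931) q1190, e3 q952 L8572 q952, e3 q953 L8576 q670, e3 q954 L8584 q671, e3 q955 (flp_b L12285) q1332, e3 q956 (flp_b L12292) q1333, e3 q957 (flp_b L12300) q1334, e3 q958 (flp_b L10994) q1197, e3 q959 L8623 q674, trivial⟩ (by decide +kernel)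

theorem ce_b_15 : ∀ r, r < 64 → sm gb (Qf (960 + r)) = Qf (tab Gen.b (960 + r)) :=
  edges_tab (sm gb) Qf (tab Gen.b) 960 [(960, 1338), (961, 1339), (962, 962), (963, 1202), (964, 678), (965, 679), (966, 1346), (967, 1267), (968, 1347), (969, 969), (970, 1209), (971, 1210), (972, 684), (973, 686), (974, 1354), (975, 1275), (976, 1355), (977, 1219), (978, 690), (979, 1221), (980, 693), (981, 694), (982, 1361), (983, 1261), (984, 1362), (985, 1227), (986, 1228), (987, 699), (988, 1367), (989, 1255), (990, 990), (991, 991), (992, 705), (993, 707), (994, 1371), (995, 1372), (996, 1244), (997, 997), (998, 711), (999, 1252), (1000, 1000), (1001, 1001), (1002, 1002), (1003, 1003), (1004, 1004), (1005, 1005), (1006, 1006), (1007, 1007), (1008, 1008), (1009, 1009), (1010, 1010), (1011, 1011), (1012, 1012), (1013, 1013), (1014, 1014), (1015, 1015), (1016, 1400), (1017, 1017), (1018, 1018), (1019, 1019), (1020, 1020), (1021, 1021), (1022, 1022), (1023, 1410)]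
    ⟨e3 q960 (flp_b L12332) q1338, e3 q961 (flp_b L12342) q1339, e3 q962 L8649 q962, e3 q963 (flp_b L11037) q1202, e3 q964 L8664 q678, e3 q965 L8673 q679, e3 q966 (flp_b L12408) q1346, e3 q967 (flp_b L598158) q1267, e3 q968 (flp_b L12423) q1347, e3 q969 L8701 q969, e3 q970 (flp_b L11097) q1209, e3 q971 (flp_b L11107) q1210, e3 q972 L8734 q684, e3 q973 L8750 q686, e3 q974 (flp_b L12518) q1354, e3 q975 L560020 q1275, e3 q976 (flp_b L12542) q1355, e3 q977 (flp_b L11184) q1219, e3 q978 L8795 q690, e3 q979 (flp_b L11201) q1221, e3 q980 L8815 q693, e3 q981 L8823 q694, e3 q982 (flp_b L12610) q1361, e3 q983 L597601 q1261, e3 q984 (flp_b L12627) q1362, e3 q985 (flp_b L11261) q1227, e3 q986 (flp_b L11270) q1228, e3 q987 L8883 q699, e3 q988 (flp_b L12709) q1367, e3 q989 L597592 q1255, e3 q990 L8951 q990, e3 q991 L8961 q991, e3 q992 L8977 q705, e3 q993 L8995 q707, e3 q994 (flp_b L12842) q1371, e3 q995 (flp_b L12851) q1372, e3 q996 L564496 q1244, e3 q997 L9051 q997, e3 q998 L9082 q711, e3 q999 L564446 q1252, e3 q1000 L9167 q1000, e3 q1001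 L9176 q1001, e3 q1002 L9186 q1002, e3 q1003 L9196 q1003, e3 q1004 L9207 q1004, e3 q1005 L9216 q1005, e3 q1006 L9225 q1006, e3 q1007 L9234 q1007, e3 q1008 L9246 q1008, e3 q1009 L9257 q1009, e3 q1010 L9268 q1010, e3 q1011 L9278 q1011, e3 q1012 L9290 q1012, e3 q1013 L9301 q1013, e3 q1014 L9313 q1014, e3 q1015 L9319 q1015, e3 q1016 L13287 q1400, e3 q1017 L9335 q1017, e3 q1018 L9342 q1018, e3 q1019 L9354 q1019, e3 q1020 L9366 q1020, e3 q1021 L9375 q1021, e3 q1022 L9385 q1022, e3 q1023 L13375 q1410, trivial⟩ (by decide +kernel)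

theorem ce_b_16 : ∀ r, r < 64 → sm gb (Qf (1024 + r)) = Qf (tab Gen.b (1024 + r)) :=
  edges_tab (sm gb) Qf (tab Gen.b) 1024 [(1024, 1024), (1025, 1025), (1026, 1415), (1027, 1027), (1028, 734), (1029, 1419), (1030, 1030), (1031, 1031), (1032, 1425), (1033, 1033), (1034, 738), (1035, 1429), (1036, 1036), (1037, 1037), (1038, 741), (1039, 1434), (1040, 1435), (1041, 1041), (1042, 799), (1043, 800), (1044, 801), (1045, 802), (1046, 803), (1047, 805), (1048, 806), (1049, 807), (1050, 808), (1051, 810), (1052, 811), (1053, 812), (1054, 814), (1055, 815), (1056, 1459), (1057, 817), (1058, 818), (1059, 1464), (1060, 820), (1061, 757), (1062, 1468), (1063, 823), (1064, 824), (1065, 1474), (1066, 826), (1067, 1477), (1068, 828), (1069, 762), (1070, 1481), (1071, 831), (1072, 764), (1073, 1486), (1074, 834), (1075, 1075), (1076, 767), (1077, 1491), (1078, 1492), (1079, 839), (1080, 1080), (1081, 770), (1082, 1498), (1083, 1499), (1084, 844), (1085, 1085), (1086, 774), (1087, 775)]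
    ⟨e3 q1024 L9403 q1024, e3 q1025 L9410 q1025, e3 q1026 L13417 q1415, e3 q1027 L9430 q1027, e3 q1028 (flp_b L9434) q734, e3 q1029 (flp_b L13456) q1419, e3 q1030 L9453 q1030, e3 q1031 L9461 q1031, e3 q1032 L13502 q1425, e3 q1033 L9479 q1033, e3 q1034 (flp_b L9485) q738, e3 q1035 (flp_b L13541) q1429, e3 q1036 L9506 q1036, e3 q1037 L9519 q1037, e3 q1038 L9522 q741, e3 q1039 (flp_b L13585) q1434, e3 q1040 (flp_b L13593) q1435, e3 q1041 L9546 q1041, e3 q1042 L9553 q799, e3 q1043 L9563 q800, e3 q1044 L9574 q801, e3 q1045 L9585 q802, e3 q1046 L9595 q803, e3 q1047 L9605 q805, e3 q1048 L9615 q806, e3 q1049 L9626 q807, e3 q1050 L9637 q808, e3 q1051 L9646 q810, e3 q1052 L9658 q811, e3 q1053 L9670 q812, e3 q1054 L9679 q814, e3 q1055 L9689 q815, e3 q1056 L13818 q1459, e3 q1057 L9704 q817, e3 q1058 L9714 q818, e3 q1059 L13860 q1464, e3 q1060 L9731 q820, e3 q1061 (flp_b L9738) q757, e3 q1062 (flp_b L13897) q1468, e3 q1063 L9755 q823, e3 q1064 L9765 q824, e3 q1065 L13947 q1474, e3 q1066 L9786 q826, e3 q1067 L13977 q1477, e3 q1068 L9805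 q828, e3 q1069 (flp_b L9812) q762, e3 q1070 (flp_b L14018) q1481, e3 q1071 L9833 q831, e3 q1072 (flp_b L9838) q764, e3 q1073 (flp_b L14062) q1486, e3 q1074 L9860 q834, e3 q1075 L9877 q1075, e3 q1076 L9880 q767, e3 q1077 (flp_b L14109) q1491, e3 q1078 (flp_b L14114) q1492, e3 q1079 L9904 q839, e3 q1080 L9919 q1080, e3 q1081 L9922 q770, e3 q1082 (flp_b L14168) q1498, e3 q1083 (flp_b L14176) q1499, e3 q1084 L9951 q844, e3 q1085 L9962 q1085, e3 q1086 L9971 q774, e3 q1087 L9977 q775, trivial⟩ (by decide +kernel)

theorem ce_b_17 : ∀ r, r < 64 → sm gb (Qf (1088 + r)) = Qf (tab Gen.b (1088 + r)) :=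
  edges_tab (sm gb) Qf (tab Gen.b) 1088 [(1088, 1507), (1089, 1508), (1090, 1509), (1091, 850), (1092, 777), (1093, 1516), (1094, 853), (1095, 1095), (1096, 780), (1097, 1521), (1098, 1522), (1099, 858), (1100, 1100), (1101, 784), (1102, 785), (1103, 1530), (1104, 1531), (1105, 1532), (1106, 865), (1107, 1107), (1108, 1108), (1109, 790), (1110, 791), (1111, 792), (1112, 1541), (1113, 1542), (1114, 1543), (1115, 1544), (1116, 1545), (1117, 1117), (1118, 1118), (1119, 1119), (1120, 1120), (1121, 1121), (1122, 1440), (1123, 1441), (1124, 1442), (1125, 1125), (1126, 1443), (1127, 1444), (1128, 1445), (1129, 1446), (1130, 1130), (1131, 1131), (1132, 1447), (1133, 1448), (1134, 1449), (1135, 1576), (1136, 1451), (1137, 1137), (1138, 1452), (1139, 1453), (1140, 1582), (1141, 1455), (1142, 1456), (1143, 1586), (1144, 1458), (1145, 816), (1146, 1590), (1147, 1461), (1148, 1463), (1149, 819), (1150, 1595), (1151, 1466)]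
    ⟨e3 q1088 (flp_b L14246) q1507, e3 q1089 (flp_b L14253) q1508, e3 q1090 (flp_b L14261) q1509, e3 q1091 L10010 q850, e3 q1092 (flp_b L10017) q777, e3 q1093 (flp_b L14319) q1516, e3 q1094 L10039 q853, e3 q1095 L10055 q1095, e3 q1096 L10058 q780, e3 q1097 (flp_b L14366) q1521, e3 q1098 (flp_b L14374) q1522, e3 q1099 L10083 q858, e3 q1100 L10094 q1100, e3 q1101 L10101 q784, e3 q1102 L10108 q785, e3 q1103 (flp_b L14442) q1530, e3 q1104 (flp_b L14450) q1531, e3 q1105 (flp_b L14456) q1532, e3 q1106 L10141 q865, e3 q1107 L10152 q1107, e3 q1108 L10162 q1108, e3 q1109 L10169 q790, e3 q1110 L10178 q791, e3 q1111 L10186 q792, e3 q1112 (flp_b L14532) q1541, e3 q1113 (flp_b L14540) q1542, e3 q1114 (flp_b L14549) q1543, e3 q1115 (flp_b L14557) q1544, e3 q1116 (flp_b L14566) q1545, e3 q1117 L10237 q1117, e3 q1118 L10245 q1118, e3 q1119 L10253 q1119, e3 q1120 L10262 q1120, e3 q1121 L10270 q1121, e3 q1122 (flp_b L13632) q1440, e3 q1123 (flp_b L13643) q1441, e3 q1124 (flp_b L13653) q1442, e3 q1125 L10314 q1125, e3 q1126 (flp_b L13663) q1443,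 e3 q1127 (flp_b L13674) q1444, e3 q1128 (flp_b L13686) q1445, e3 q1129 (flp_b L13698) q1446, e3 q1130 L10360 q1130, e3 q1131 L10370 q1131, e3 q1132 (flp_b L13708) q1447, e3 q1133 (flp_b L13719) q1448, e3 q1134 (flp_b L13729) q1449, e3 q1135 L14866 q1576, e3 q1136 (flp_b L13746) q1451, e3 q1137 L10423 q1137, e3 q1138 (flp_b L13754) q1452, e3 q1139 (flp_b L13765) q1453, e3 q1140 L14932 q1582, e3 q1141 (flp_b L13782) q1455, e3 q1142 (flp_b L13793) q1456, e3 q1143 L14986 q1586, e3 q1144 (flp_b L13810) q1458, e3 q1145 (flp_b L10507) q816, e3 q1146 (flp_b L15021) q1590, e3 q1147 (flp_b L13836) q1461, e3 q1148 (flp_b L13853) q1463, e3 q1149 (flp_b L10556) q819, e3 q1150 (flp_b L15108) q1595, e3 q1151 (flp_b L13879) q1466, trivial⟩ (by decide +kernel)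

theorem ce_b_18 : ∀ r, r < 64 → sm gb (Qf (1152 + r)) = Qf (tab Gen.b (1152 + r)) :=
  edges_tab (sm gb) Qf (tab Gen.b) 1152 [(1152, 882), (1153, 822), (1154, 1600), (1155, 1601), (1156, 1471), (1157, 1606), (1158, 1473), (1159, 825), (1160, 1610), (1161, 1476), (1162, 827), (1163, 1615), (1164, 1479), (1165, 926), (1166, 830), (1167, 1620), (1168, 1621), (1169, 1484), (1170, 931), (1171, 833), (1172, 1627), (1173, 1628), (1174, 1489), (1175, 936), (1176, 837), (1177, 838), (1178, 1636), (1179, 1637), (1180, 1638), (1181, 1496), (1182, 943), (1183, 842), (1184, 843), (1185, 1647), (1186, 1648), (1187, 1649), (1188, 1503), (1189, 950), (1190, 951), (1191, 1191), (1192, 848), (1193, 849), (1194, 1658), (1195, 1659), (1196, 1660), (1197, 958), (1198, 852), (1199, 1664), (1200, 1665), (1201, 1519), (1202, 963), (1203, 856), (1204, 857), (1205, 1673), (1206, 1674), (1207, 1675), (1208, 1526), (1209, 970), (1210, 971), (1211, 1211), (1212, 862), (1213, 863), (1214, 864), (1215, 1686)]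
    ⟨e3 q1152 L594470 q882, e3 q1153 L10592 q822, e3 q1154 (flp_b L15152) q1600, e3 q1155 (flp_b L15158) q1601, e3 q1156 (flp_b L13920) q1471, e3 q1157 L15198 q1606, e3 q1158 (flp_b L13939) q1473, e3 q1159 (flp_b L10643) q825, e3 q1160 (flp_b L15243) q1610, e3 q1161 (flp_b L13970) q1476, e3 q1162 (flp_b L10672) q827, e3 q1163 (flp_b L15290) q1615, e3 q1164 (flp_b L14000) q1479, e3 q1165 L10708 q926, e3 q1166 L10712 q830, e3 q1167 (flp_b L15338) q1620, e3 q1168 (flp_b L15345) q1621, e3 q1169 (flp_b L14042) q1484, e3 q1170 L10752 q931, e3 q1171 L10756 q833, e3 q1172 (flp_b L15397) q1627, e3 q1173 (flp_b L15405) q1628, e3 q1174 (flp_b L14090) q1489, e3 q1175 L10795 q936, e3 q1176 L10802 q837, e3 q1177 L10808 q838, e3 q1178 (flp_b L15475) q1636, e3 q1179 (flp_b L15482) q1637, e3 q1180 (flp_b L15490) q1638, e3 q1181 (flp_b L14147) q1496, e3 q1182 L10853 q943, e3 q1183 L10862 q842, e3 q1184 L10871 q843, e3 q1185 (flp_b L15569) q1647, e3 q1186 (flp_b L15578) q1648, e3 q1187 (flp_b L15587) q1649, e3 q1188 (flp_b L14212) q1503, e3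 q1189 L10921 q950, e3 q1190 L10931 q951, e3 q1191 L10942 q1191, e3 q1192 L10945 q848, e3 q1193 L10953 q849, e3 q1194 (flp_b L15669) q1658, e3 q1195 (flp_b L15676) q1659, e3 q1196 (flp_b L15684) q1660, e3 q1197 L10994 q958, e3 q1198 L10998 q852, e3 q1199 (flp_b L15720) q1664, e3 q1200 (flp_b L15730) q1665, e3 q1201 (flp_b L14348) q1519, e3 q1202 L11037 q963, e3 q1203 L11044 q856, e3 q1204 L11053 q857, e3 q1205 (flp_b L15804) q1673, e3 q1206 (flp_b L15811) q1674, e3 q1207 (flp_b L15819) q1675, e3 q1208 (flp_b L14406) q1526, e3 q1209 L11097 q970, e3 q1210 L11107 q971, e3 q1211 L11119 q1211, e3 q1212 L11122 q862, e3 q1213 L11131 q863, e3 q1214 L11138 q864, e3 q1215 (flp_b L15926) q1686, trivial⟩ (by decide +kernel)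

theorem ce_b_19 : ∀ r, r < 64 → sm gb (Qf (1216 + r)) = Qf (tab Gen.b (1216 + r)) :=
  edges_tab (sm gb) Qf (tab Gen.b) 1216 [(1216, 1687), (1217, 1599), (1218, 1688), (1219, 977), (1220, 868), (1221, 979), (1222, 871), (1223, 872), (1224, 1696), (1225, 1697), (1226, 1698), (1227, 985), (1228, 986), (1229, 1229), (1230, 877), (1231, 878), (1232, 1707), (1233, 1708), (1234, 1589), (1235, 1462), (1236, 1236), (1237, 1712), (1238, 1238), (1239, 1239), (1240, 1240), (1241, 1241), (1242, 886), (1243, 1721), (1244, 996), (1245, 1245), (1246, 1246), (1247, 1247), (1248, 1728), (1249, 1249), (1250, 892), (1251, 1731), (1252, 999), (1253, 1253), (1254, 1254), (1255, 989), (1256, 1256), (1257, 897), (1258, 1738), (1259, 1259), (1260, 1260), (1261, 983), (1262, 1262), (1263, 903), (1264, 1745), (1265, 1265), (1266, 1266), (1267, 967), (1268, 1268), (1269, 909), (1270, 1753), (1271, 1754), (1272, 1272), (1273, 1273), (1274, 940), (1275, 975), (1276, 1276), (1277, 915), (1278, 916), (1279, 1764)]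
    ⟨e3 q1216 (flp_b L15934) q1687, e3 q1217 L594463 q1599, e3 q1218 (flp_b L15950) q1688, e3 q1219 L11184 q977, e3 q1220 L11191 q868, e3 q1221 L11201 q979, e3 q1222 L11211 q871, e3 q1223 L11219 q872, e3 q1224 (flp_b L16026) q1696, e3 q1225 (flp_b L16035) q1697, e3 q1226 (flp_b L16043) q1698, e3 q1227 L11261 q985, e3 q1228 L11270 q986, e3 q1229 L11282 q1229, e3 q1230 L11286 q877, e3 q1231 L11294 q878, e3 q1232 (flp_b L16134) q1707, e3 q1233 (flp_b L16141) q1708, e3 q1234 (flp_b L594490) q1589, e3 q1235 L593263 q1462, e3 q1236 L11344 q1236, e3 q1237 L16215 q1712, e3 q1238 L11367 q1238, e3 q1239 L11375 q1239, e3 q1240 L11384 q1240, e3 q1241 L11395 q1241, e3 q1242 (flp_b L11401) q886, e3 q1243 (flp_b L16295) q1721, e3 q1244 (flp_b L564496) q996, e3 q1245 L11430 q1245, e3 q1246 L11439 q1246, e3 q1247 L11447 q1247, e3 q1248 L16374 q1728, e3 q1249 L11464 q1249, e3 q1250 L11472 q892, e3 q1251 (flp_b L16402) q1731, e3 q1252 (flp_b L564446) q999, e3 q1253 L11512 q1253, e3 q1254 L11520 q1254, e3 q1255 (flp_b L597592) q989, e3 q1256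 L11537 q1256, e3 q1257 (flp_b L11542) q897, e3 q1258 (flp_b L16514) q1738, e3 q1259 L11558 q1259, e3 q1260 L11585 q1260, e3 q1261 (flp_b L597601) q983, e3 q1262 L11602 q1262, e3 q1263 (flp_b L11610) q903, e3 q1264 (flp_b L16612) q1745, e3 q1265 L11628 q1265, e3 q1266 L11659 q1266, e3 q1267 L598158 q967, e3 q1268 L11684 q1268, e3 q1269 L11698 q909, e3 q1270 (flp_b L16740) q1753, e3 q1271 (flp_b L16747) q1754, e3 q1272 L11718 q1272, e3 q1273 L11765 q1273, e3 q1274 L598193 q940, e3 q1275 (flp_b L560020) q975, e3 q1276 L11806 q1276, e3 q1277 L11821 q915, e3 q1278 L11827 q916, e3 q1279 (flp_b L16937) q1764, trivial⟩ (by decide +kernel)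

theorem ce_b_20 : ∀ r, r < 64 → sm gb (Qf (1280 + r)) = Qf (tab Gen.b (1280 + r)) :=
  edges_tab (sm gb) Qf (tab Gen.b) 1280 [(1280, 1765), (1281, 1766), (1282, 1282), (1283, 918), (1284, 1772), (1285, 1285), (1286, 1609), (1287, 921), (1288, 1777), (1289, 1778), (1290, 1290), (1291, 1614), (1292, 924), (1293, 1784), (1294, 1785), (1295, 1295), (1296, 1619), (1297, 928), (1298, 929), (1299, 1792), (1300, 1750), (1301, 1793), (1302, 1302), (1303, 1626), (1304, 933), (1305, 934), (1306, 1800), (1307, 1763), (1308, 1801), (1309, 1309), (1310, 1633), (1311, 1634), (1312, 939), (1313, 941), (1314, 1808), (1315, 1809), (1316, 1760), (1317, 1810), (1318, 1644), (1319, 1645), (1320, 1320), (1321, 946), (1322, 947), (1323, 948), (1324, 1821), (1325, 1822), (1326, 1823), (1327, 1824), (1328, 1829), (1329, 1655), (1330, 1656), (1331, 1331), (1332, 955), (1333, 956), (1334, 957), (1335, 1836), (1336, 1837), (1337, 1663), (1338, 960), (1339, 961), (1340, 1842), (1341, 1743), (1342, 1843), (1343, 1343)]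
    ⟨e3 q1280 (flp_b L16944) q1765, e3 q1281 (flp_b L16951) q1766, e3 q1282 L11855 q1282, e3 q1283 (flp_b L11861) q918, e3 q1284 (flp_b L17004) q1772, e3 q1285 L11884 q1285, e3 q1286 (flp_b L15239) q1609, e3 q1287 L11903 q921, e3 q1288 (flp_b L17051) q1777, e3 q1289 (flp_b L17059) q1778, e3 q1290 L11928 q1290, e3 q1291 (flp_b L15286) q1614, e3 q1292 L11945 q924, e3 q1293 (flp_b L17110) q1784, e3 q1294 (flp_b L17119) q1785, e3 q1295 L11970 q1295, e3 q1296 (flp_b L15330) q1619, e3 q1297 L11988 q928, e3 q1298 L11995 q929, e3 q1299 (flp_b L17180) q1792, e3 q1300 (flp_b L598172) q1750, e3 q1301 (flp_b L17195) q1793, e3 q1302 L12023 q1302, e3 q1303 (flp_b L15389) q1626, e3 q1304 L12040 q933, e3 q1305 L12048 q934, e3 q1306 (flp_b L17263) q1800, e3 q1307 (flp_b L589586) q1763, e3 q1308 (flp_b L17279) q1801, e3 q1309 L12080 q1309, e3 q1310 (flp_b L15454) q1633, e3 q1311 (flp_b L15462) q1634, e3 q1312 L12110 q939, e3 q1313 L12125 q941, e3 q1314 (flp_b L17369) q1808, e3 q1315 (flp_b L17377) q1809, e3 q1316 L598346 q1760, e3 q1317 (flp_b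 L17400) q1810, e3 q1318 (flp_b L15542) q1644, e3 q1319 (flp_b L15553) q1645, e3 q1320 L12189 q1320, e3 q1321 L12193 q946, e3 q1322 L12202 q947, e3 q1323 L12211 q948, e3 q1324 (flp_b L17496) q1821, e3 q1325 (flp_b L17504) q1822, e3 q1326 (flp_b L17513) q1823, e3 q1327 (flp_b L17522) q1824, e3 q1328 L17562 q1829, e3 q1329 (flp_b L15645) q1655, e3 q1330 (flp_b L15655) q1656, e3 q1331 L12277 q1331, e3 q1332 L12285 q955, e3 q1333 L12292 q956, e3 q1334 L12300 q957, e3 q1335 (flp_b L17621) q1836, e3 q1336 (flp_b L17628) q1837, e3 q1337 (flp_b L15712) q1663, e3 q1338 L12332 q960, e3 q1339 L12342 q961, e3 q1340 (flp_b L17679) q1842, e3 q1341 L598136 q1743, e3 q1342 (flp_b L17697) q1843, e3 q1343 L12374 q1343, trivial⟩ (by decide +kernel)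

theorem ce_b_21 : ∀ r, r < 64 → sm gb (Qf (1344 + r)) = Qf (tab Gen.b (1344 + r)) :=
  edges_tab (sm gb) Qf (tab Gen.b) 1344 [(1344, 1670), (1345, 1671), (1346, 966), (1347, 968), (1348, 1850), (1349, 1851), (1350, 1751), (1351, 1852), (1352, 1682), (1353, 1683), (1354, 974), (1355, 976), (1356, 1859), (1357, 1761), (1358, 1692), (1359, 1693), (1360, 1694), (1361, 982), (1362, 984), (1363, 1863), (1364, 1864), (1365, 1726), (1366, 1704), (1367, 988), (1368, 1736), (1369, 1369), (1370, 1370), (1371, 994), (1372, 995), (1373, 1872), (1374, 1723), (1375, 1714), (1376, 1376), (1377, 1733), (1378, 1378), (1379, 1379), (1380, 1380), (1381, 1381), (1382, 1382), (1383, 1383), (1384, 1384), (1385, 1886), (1386, 1386), (1387, 1387), (1388, 1388), (1389, 1389), (1390, 1390), (1391, 1391), (1392, 1392), (1393, 1393), (1394, 1394), (1395, 1395), (1396, 1901), (1397, 1397), (1398, 1904), (1399, 1399), (1400, 1016), (1401, 1908), (1402, 1402), (1403, 1403), (1404, 1404), (1405, 1915), (1406, 1406), (1407, 1407)]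
    ⟨e3 q1344 (flp_b L15779) q1670, e3 q1345 (flp_b L15790) q1671, e3 q1346 L12408 q966, e3 q1347 L12423 q968, e3 q1348 (flp_b L17796) q1850, e3 q1349 (flp_b L17804) q1851, e3 q1350 L598144 q1751, e3 q1351 (flp_b L17828) q1852, e3 q1352 (flp_b L15883) q1682, e3 q1353 (flp_b L15903) q1683, e3 q1354 L12518 q974, e3 q1355 L12542 q976, e3 q1356 (flp_b L17964) q1859, e3 q1357 (flp_b L583503) q1761, e3 q1358 (flp_b L15988) q1692, e3 q1359 (flp_b L15998) q1693, e3 q1360 (flp_b L16008) q1694, e3 q1361 L12610 q982, e3 q1362 L12627 q984, e3 q1363 (flp_b L18059) q1863, e3 q1364 (flp_b L18067) q1864, e3 q1365 (flp_b L597611) q1726, e3 q1366 (flp_b L16102) q1704, e3 q1367 L12709 q988, e3 q1368 (flp_b L597542) q1736, e3 q1369 L12797 q1369, e3 q1370 L12817 q1370, e3 q1371 L12842 q994, e3 q1372 L12851 q995, e3 q1373 (flp_b L18386) q1872, e3 q1374 (flp_b L572550) q1723, e3 q1375 (flp_b L572044) q1714, e3 q1376 L12943 q1376, e3 q1377 (flp_b L557570) q1733, e3 q1378 L13074 q1378, e3 q1379 L13084 q1379, e3 q1380 L13094 q1380, e3 q1381 L13104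 q1381, e3 q1382 L13115 q1382, e3 q1383 L13124 q1383, e3 q1384 L13134 q1384, e3 q1385 L18764 q1886, e3 q1386 L13152 q1386, e3 q1387 L13161 q1387, e3 q1388 L13173 q1388, e3 q1389 L13184 q1389, e3 q1390 L13196 q1390, e3 q1391 L13207 q1391, e3 q1392 L13219 q1392, e3 q1393 L13226 q1393, e3 q1394 L13239 q1394, e3 q1395 L13246 q1395, e3 q1396 L18908 q1901, e3 q1397 L13262 q1397, e3 q1398 L18928 q1904, e3 q1399 L13280 q1399, e3 q1400 (flp_b L13287) q1016, e3 q1401 (flp_b L18968) q1908, e3 q1402 L13303 q1402, e3 q1403 L13311 q1403, e3 q1404 L13322 q1404, e3 q1405 L19025 q1915, e3 q1406 L13342 q1406, e3 q1407 L13350 q1407, trivial⟩ (by decide +kernel)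

theorem ce_b_22 : ∀ r, r < 64 → sm gb (Qf (1408 + r)) = Qf (tab Gen.b (1408 + r)) :=
  edges_tab (sm gb) Qf (tab Gen.b) 1408 [(1408, 1920), (1409, 1409), (1410, 1023), (1411, 1924), (1412, 1412), (1413, 1928), (1414, 1414), (1415, 1026), (1416, 1932), (1417, 1417), (1418, 1418), (1419, 1029), (1420, 1937), (1421, 1938), (1422, 1422), (1423, 1943), (1424, 1424), (1425, 1032), (1426, 1947), (1427, 1427), (1428, 1428), (1429, 1035), (1430, 1952), (1431, 1953), (1432, 1432), (1433, 1433), (1434, 1039), (1435, 1040), (1436, 1961), (1437, 1962), (1438, 1963), (1439, 1439), (1440, 1122), (1441, 1123), (1442, 1124), (1443, 1126), (1444, 1127), (1445, 1128), (1446, 1129), (1447, 1132), (1448, 1133), (1449, 1134), (1450, 1982), (1451, 1136), (1452, 1138), (1453, 1139), (1454, 1988), (1455, 1141), (1456, 1142), (1457, 1993), (1458, 1144), (1459, 1056), (1460, 1997), (1461, 1147), (1462, 1235), (1463, 1148), (1464, 1059), (1465, 2003), (1466, 1151), (1467, 1467), (1468, 1062), (1469, 2008), (1470, 2009), (1471, 1156)]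
    ⟨e3 q1408 L19072 q1920, e3 q1409 L13370 q1409, e3 q1410 (flp_b L13375) q1023, e3 q1411 (flp_b L19110) q1924, e3 q1412 L13395 q1412, e3 q1413 L19138 q1928, e3 q1414 L13411 q1414, e3 q1415 (flp_b L13417) q1026, e3 q1416 (flp_b L19181) q1932, e3 q1417 L13438 q1417, e3 q1418 L13453 q1418, e3 q1419 L13456 q1029, e3 q1420 (flp_b L19223) q1937, e3 q1421 (flp_b L19230) q1938, e3 q1422 L13479 q1422, e3 q1423 L19266 q1943, e3 q1424 L13495 q1424, e3 q1425 (flp_b L13502) q1032, e3 q1426 (flp_b L19306) q1947, e3 q1427 L13524 q1427, e3 q1428 L13538 q1428, e3 q1429 L13541 q1035, e3 q1430 (flp_b L19350) q1952, e3 q1431 (flp_b L19360) q1953, e3 q1432 L13569 q1432, e3 q1433 L13578 q1433, e3 q1434 L13585 q1039, e3 q1435 L13593 q1040, e3 q1436 (flp_b L19427) q1961, e3 q1437 (flp_b L19434) q1962, e3 q1438 (flp_b L19443) q1963, e3 q1439 L13624 q1439, e3 q1440 L13632 q1122, e3 q1441 L13643 q1123, e3 q1442 L13653 q1124, e3 q1443 L13663 q1126, e3 q1444 L13674 q1127, e3 q1445 L13686 q1128, e3 q1446 L13698 q1129, e3 q1447 L13708 q1132, e3 q1448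 L13719 q1133, e3 q1449 L13729 q1134, e3 q1450 L19622 q1982, e3 q1451 L13746 q1136, e3 q1452 L13754 q1138, e3 q1453 L13765 q1139, e3 q1454 L19677 q1988, e3 q1455 L13782 q1141, e3 q1456 L13793 q1142, e3 q1457 L19724 q1993, e3 q1458 L13810 q1144, e3 q1459 (flp_b L13818) q1056, e3 q1460 (flp_b L19760) q1997, e3 q1461 L13836 q1147, e3 q1462 (flp_b L593263) q1235, e3 q1463 L13853 q1148, e3 q1464 (flp_b L13860) q1059, e3 q1465 (flp_b L19831) q2003, e3 q1466 L13879 q1151, e3 q1467 L13894 q1467, e3 q1468 L13897 q1062, e3 q1469 (flp_b L19876) q2008, e3 q1470 (flp_b L19881) q2009, e3 q1471 L13920 q1156, trivial⟩ (by decide +kernel)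

theorem ce_b_23 : ∀ r, r < 64 → sm gb (Qf (1472 + r)) = Qf (tab Gen.b (1472 + r)) :=
  edges_tab (sm gb) Qf (tab Gen.b) 1472 [(1472, 2014), (1473, 1158), (1474, 1065), (1475, 2018), (1476, 1161), (1477, 1067), (1478, 2023), (1479, 1164), (1480, 1480), (1481, 1070), (1482, 2028), (1483, 2029), (1484, 1169), (1485, 1485), (1486, 1073), (1487, 2035), (1488, 2036), (1489, 1174), (1490, 1490), (1491, 1077), (1492, 1078), (1493, 2044), (1494, 2045), (1495, 2046), (1496, 1181), (1497, 1497), (1498, 1082), (1499, 1083), (1500, 2055), (1501, 2056), (1502, 2057), (1503, 1188), (1504, 1504), (1505, 1505), (1506, 1506), (1507, 1088), (1508, 1089), (1509, 1090), (1510, 2069), (1511, 2070), (1512, 2071), (1513, 2072), (1514, 2073), (1515, 1515), (1516, 1093), (1517, 2080), (1518, 2081), (1519, 1201), (1520, 1520), (1521, 1097), (1522, 1098), (1523, 2089), (1524, 2090), (1525, 2091), (1526, 1208), (1527, 1527), (1528, 1528), (1529, 1529), (1530, 1103), (1531, 1104), (1532, 1105), (1533, 2103), (1534, 2104), (1535, 2105)]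
    ⟨e3 q1472 L19920 q2014, e3 q1473 L13939 q1158, e3 q1474 (flp_b L13947) q1065, e3 q1475 (flp_b L19966) q2018, e3 q1476 L13970 q1161, e3 q1477 (flp_b L13977) q1067, e3 q1478 (flp_b L20013) q2023, e3 q1479 L14000 q1164, e3 q1480 L14015 q1480, e3 q1481 L14018 q1070, e3 q1482 (flp_b L20062) q2028, e3 q1483 (flp_b L20068) q2029, e3 q1484 L14042 q1169, e3 q1485 L14059 q1485, e3 q1486 L14062 q1073, e3 q1487 (flp_b L20120) q2035, e3 q1488 (flp_b L20127) q2036, e3 q1489 L14090 q1174, e3 q1490 L14101 q1490, e3 q1491 L14109 q1077, e3 q1492 L14114 q1078, e3 q1493 (flp_b L20196) q2044, e3 q1494 (flp_b L20203) q2045, e3 q1495 (flp_b L20210) q2046, e3 q1496 L14147 q1181, e3 q1497 L14158 q1497, e3 q1498 L14168 q1082, e3 q1499 L14176 q1083, e3 q1500 (flp_b L20284) q2055, e3 q1501 (flp_b L20293) q2056, e3 q1502 (flp_b L20300) q2057, e3 q1503 L14212 q1188, e3 q1504 L14224 q1504, e3 q1505 L14231 q1505, e3 q1506 L14241 q1506, e3 q1507 L14246 q1088, e3 q1508 L14253 q1089, e3 q1509 L14261 q1090, e3 q1510 (flp_b L20404) q2069, e3 q1511 (flp_b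 L20409) q2070, e3 q1512 (flp_b L20416) q2071, e3 q1513 (flp_b L20425) q2072, e3 q1514 (flp_b L20433) q2073, e3 q1515 L14316 q1515, e3 q1516 L14319 q1093, e3 q1517 (flp_b L20493) q2080, e3 q1518 (flp_b L20502) q2081, e3 q1519 L14348 q1201, e3 q1520 L14358 q1520, e3 q1521 L14366 q1097, e3 q1522 L14374 q1098, e3 q1523 (flp_b L20575) q2089, e3 q1524 (flp_b L20582) q2090, e3 q1525 (flp_b L20589) q2091, e3 q1526 L14406 q1208, e3 q1527 L14417 q1527, e3 q1528 L14425 q1528, e3 q1529 L14437 q1529, e3 q1530 L14442 q1103, e3 q1531 L14450 q1104, e3 q1532 L14456 q1105, e3 q1533 (flp_b L20689) q2103, e3 q1534 (flp_b L20698) q2104, e3 q1535 (flp_b L20705) q2105, trivial⟩ (by decide +kernel)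

theorem ce_b_24 : ∀ r, r < 64 → sm gb (Qf (1536 + r)) = Qf (tab Gen.b (1536 + r)) :=
  edges_tab (sm gb) Qf (tab Gen.b) 1536 [(1536, 2106), (1537, 2107), (1538, 1538), (1539, 1539), (1540, 1540), (1541, 1112), (1542, 1113), (1543, 1114), (1544, 1115), (1545, 1116), (1546, 2118), (1547, 2119), (1548, 2120), (1549, 2121), (1550, 2122), (1551, 1551), (1552, 1552), (1553, 1553), (1554, 1554), (1555, 1555), (1556, 1556), (1557, 1557), (1558, 1558), (1559, 1969), (1560, 1970), (1561, 1971), (1562, 1972), (1563, 1563), (1564, 1564), (1565, 1973), (1566, 1974), (1567, 1975), (1568, 2152), (1569, 1977), (1570, 1570), (1571, 1571), (1572, 1978), (1573, 1979), (1574, 2159), (1575, 1981), (1576, 1135), (1577, 2163), (1578, 1984), (1579, 1985), (1580, 2168), (1581, 1987), (1582, 1140), (1583, 2172), (1584, 1990), (1585, 1992), (1586, 1143), (1587, 2177), (1588, 1995), (1589, 1234), (1590, 1146), (1591, 2182), (1592, 2183), (1593, 2000), (1594, 2002), (1595, 1150), (1596, 2189), (1597, 2190), (1598, 2006), (1599, 1217)]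
    ⟨e3 q1536 (flp_b L20712) q2106, e3 q1537 (flp_b L20719) q2107, e3 q1538 L14506 q1538, e3 q1539 L14516 q1539, e3 q1540 L14525 q1540, e3 q1541 L14532 q1112, e3 q1542 L14540 q1113, e3 q1543 L14549 q1114, e3 q1544 L14557 q1115, e3 q1545 L14566 q1116, e3 q1546 (flp_b L20816) q2118, e3 q1547 (flp_b L20824) q2119, e3 q1548 (flp_b L20833) q2120, e3 q1549 (flp_b L20843) q2121, e3 q1550 (flp_b L20851) q2122, e3 q1551 L14620 q1551, e3 q1552 L14628 q1552, e3 q1553 L14637 q1553, e3 q1554 L14645 q1554, e3 q1555 L14653 q1555, e3 q1556 L14662 q1556, e3 q1557 L14671 q1557, e3 q1558 L14686 q1558, e3 q1559 (flp_b L19490) q1969, e3 q1560 (flp_b L19501) q1970, e3 q1561 (flp_b L19513) q1971, e3 q1562 (flp_b L19525) q1972, e3 q1563 L14732 q1563, e3 q1564 L14743 q1564, e3 q1565 (flp_b L19535) q1973, e3 q1566 (flp_b L19547) q1974, e3 q1567 (flp_b L19558) q1975, e3 q1568 L21141 q2152, e3 q1569 (flp_b L19577) q1977, e3 q1570 L14802 q1570, e3 q1571 L14811 q1571, e3 q1572 (flp_b L19586) q1978, e3 q1573 (flp_b L19597) q1979, e3 q1574 L21237 q2159,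 e3 q1575 (flp_b L19616) q1981, e3 q1576 (flp_b L14866) q1135, e3 q1577 (flp_b L21274) q2163, e3 q1578 (flp_b L19640) q1984, e3 q1579 (flp_b L19649) q1985, e3 q1580 L21334 q2168, e3 q1581 (flp_b L19668) q1987, e3 q1582 (flp_b L14932) q1140, e3 q1583 (flp_b L21374) q2172, e3 q1584 (flp_b L19697) q1990, e3 q1585 (flp_b L19716) q1992, e3 q1586 (flp_b L14986) q1143, e3 q1587 (flp_b L21464) q2177, e3 q1588 (flp_b L19744) q1995, e3 q1589 L594490 q1234, e3 q1590 L15021 q1146, e3 q1591 (flp_b L21510) q2182, e3 q1592 (flp_b L21517) q2183, e3 q1593 (flp_b L19783) q2000, e3 q1594 (flp_b L19812) q2002, e3 q1595 L15108 q1150, e3 q1596 (flp_b L21639) q2189, e3 q1597 (flp_b L21647) q2190, e3 q1598 (flp_b L19858) q2006, e3 q1599 (flp_b L594463) q1217, trivial⟩ (by decide +kernel)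

theorem ce_b_25 : ∀ r, r < 64 → sm gb (Qf (1600 + r)) = Qf (tab Gen.b (1600 + r)) :=
  edges_tab (sm gb) Qf (tab Gen.b) 1600 [(1600, 1154), (1601, 1155), (1602, 2197), (1603, 2198), (1604, 2199), (1605, 2013), (1606, 1157), (1607, 2206), (1608, 2016), (1609, 1286), (1610, 1160), (1611, 2211), (1612, 2212), (1613, 2021), (1614, 1291), (1615, 1163), (1616, 2218), (1617, 2219), (1618, 2026), (1619, 1296), (1620, 1167), (1621, 1168), (1622, 2227), (1623, 2228), (1624, 2229), (1625, 2033), (1626, 1303), (1627, 1172), (1628, 1173), (1629, 2238), (1630, 2239), (1631, 2240), (1632, 2040), (1633, 1310), (1634, 1311), (1635, 2196), (1636, 1178), (1637, 1179), (1638, 1180), (1639, 2251), (1640, 2252), (1641, 2253), (1642, 2194), (1643, 2254), (1644, 1318), (1645, 1319), (1646, 1646), (1647, 1185), (1648, 1186), (1649, 1187), (1650, 2266), (1651, 2267), (1652, 2268), (1653, 2269), (1654, 2274), (1655, 1329), (1656, 1330), (1657, 1657), (1658, 1194), (1659, 1195), (1660, 1196), (1661, 2281), (1662, 2282), (1663, 1337)]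
    ⟨e3 q1600 L15152 q1154, e3 q1601 L15158 q1155, e3 q1602 (flp_b L21716) q2197, e3 q1603 (flp_b L21723) q2198, e3 q1604 (flp_b L21730) q2199, e3 q1605 (flp_b L19913) q2013, e3 q1606 (flp_b L15198) q1157, e3 q1607 (flp_b L21793) q2206, e3 q1608 (flp_b L19945) q2016, e3 q1609 L15239 q1286, e3 q1610 L15243 q1160, e3 q1611 (flp_b L21845) q2211, e3 q1612 (flp_b L21853) q2212, e3 q1613 (flp_b L19994) q2021, e3 q1614 L15286 q1291, e3 q1615 L15290 q1163, e3 q1616 (flp_b L21911) q2218, e3 q1617 (flp_b L21920) q2219, e3 q1618 (flp_b L20041) q2026, e3 q1619 L15330 q1296, e3 q1620 L15338 q1167, e3 q1621 L15345 q1168, e3 q1622 (flp_b L21989) q2227, e3 q1623 (flp_b L21995) q2228, e3 q1624 (flp_b L22004) q2229, e3 q1625 (flp_b L20100) q2033, e3 q1626 L15389 q1303, e3 q1627 L15397 q1172, e3 q1628 L15405 q1173, e3 q1629 (flp_b L22083) q2238, e3 q1630 (flp_b L22092) q2239, e3 q1631 (flp_b L22099) q2240, e3 q1632 (flp_b L20163) q2040, e3 q1633 L15454 q1310, e3 q1634 L15462 q1311, e3 q1635 (flp_b L21712) q2196, e3 q1636 L15475 q1178, e3 q1637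 L15482 q1179, e3 q1638 L15490 q1180, e3 q1639 (flp_b L22201) q2251, e3 q1640 (flp_b L22209) q2252, e3 q1641 (flp_b L22215) q2253, e3 q1642 L598231 q2194, e3 q1643 (flp_b L22232) q2254, e3 q1644 L15542 q1318, e3 q1645 L15553 q1319, e3 q1646 L15566 q1646, e3 q1647 L15569 q1185, e3 q1648 L15578 q1186, e3 q1649 L15587 q1187, e3 q1650 (flp_b L22340) q2266, e3 q1651 (flp_b L22348) q2267, e3 q1652 (flp_b L22357) q2268, e3 q1653 (flp_b L22366) q2269, e3 q1654 L22413 q2274, e3 q1655 L15645 q1329, e3 q1656 L15655 q1330, e3 q1657 L15662 q1657, e3 q1658 L15669 q1194, e3 q1659 L15676 q1195, e3 q1660 L15684 q1196, e3 q1661 (flp_b L22476) q2281, e3 q1662 (flp_b L22483) q2282, e3 q1663 L15712 q1337, trivial⟩ (by decide +kernel)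

theorem ce_b_26 : ∀ r, r < 64 → sm gb (Qf (1664 + r)) = Qf (tab Gen.b (1664 + r)) :=
  edges_tab (sm gb) Qf (tab Gen.b) 1664 [(1664, 1199), (1665, 1200), (1666, 2288), (1667, 2289), (1668, 2290), (1669, 2085), (1670, 1344), (1671, 1345), (1672, 1672), (1673, 1205), (1674, 1206), (1675, 1207), (1676, 2301), (1677, 2302), (1678, 2303), (1679, 2181), (1680, 2304), (1681, 2001), (1682, 1352), (1683, 1353), (1684, 1684), (1685, 1685), (1686, 1215), (1687, 1216), (1688, 1218), (1689, 2316), (1690, 2317), (1691, 2195), (1692, 1358), (1693, 1359), (1694, 1360), (1695, 1695), (1696, 1224), (1697, 1225), (1698, 1226), (1699, 2325), (1700, 2326), (1701, 2327), (1702, 2171), (1703, 1991), (1704, 1366), (1705, 1705), (1706, 1706), (1707, 1232), (1708, 1233), (1709, 2337), (1710, 2162), (1711, 1711), (1712, 1237), (1713, 2341), (1714, 1375), (1715, 1715), (1716, 1716), (1717, 1717), (1718, 1718), (1719, 2350), (1720, 1720), (1721, 1243), (1722, 2353), (1723, 1374), (1724, 1724), (1725, 1725), (1726, 1365), (1727, 1727)]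
    ⟨e3 q1664 L15720 q1199, e3 q1665 L15730 q1200, e3 q1666 (flp_b L22540) q2288, e3 q1667 (flp_b L22549) q2289, e3 q1668 (flp_b L22558) q2290, e3 q1669 (flp_b L20538) q2085, e3 q1670 L15779 q1344, e3 q1671 L15790 q1345, e3 q1672 L15801 q1672, e3 q1673 L15804 q1205, e3 q1674 L15811 q1206, e3 q1675 L15819 q1207, e3 q1676 (flp_b L22669) q2301, e3 q1677 (flp_b L22677) q2302, e3 q1678 (flp_b L22686) q2303, e3 q1679 L598129 q2181, e3 q1680 (flp_b L22701) q2304, e3 q1681 (flp_b L570237) q2001, e3 q1682 L15883 q1352, e3 q1683 L15903 q1353, e3 q1684 L15910 q1684, e3 q1685 L15918 q1685, e3 q1686 L15926 q1215, e3 q1687 L15934 q1216, e3 q1688 L15950 q1218, e3 q1689 (flp_b L22851) q2316, e3 q1690 (flp_b L22860) q2317, e3 q1691 (flp_b L593324) q2195, e3 q1692 L15988 q1358, e3 q1693 L15998 q1359, e3 q1694 L16008 q1360, e3 q1695 L16022 q1695, e3 q1696 L16026 q1224, e3 q1697 L16035 q1225, e3 q1698 L16043 q1226, e3 q1699 (flp_b L22953) q2325, e3 q1700 (flp_b L22961) q2326, e3 q1701 (flp_b L22970) q2327, e3 q1702 (flp_b L594497) q2171, e3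 q1703 (flp_b L593259) q1991, e3 q1704 L16102 q1366, e3 q1705 L16119 q1705, e3 q1706 L16127 q1706, e3 q1707 L16134 q1232, e3 q1708 L16141 q1233, e3 q1709 (flp_b L23113) q2337, e3 q1710 L597574 q2162, e3 q1711 L16202 q1711, e3 q1712 (flp_b L16215) q1237, e3 q1713 (flp_b L23186) q2341, e3 q1714 L572044 q1375, e3 q1715 L16244 q1715, e3 q1716 L16252 q1716, e3 q1717 L16261 q1717, e3 q1718 L16269 q1718, e3 q1719 L23283 q2350, e3 q1720 L16286 q1720, e3 q1721 L16295 q1243, e3 q1722 (flp_b L23310) q2353, e3 q1723 L572550 q1374, e3 q1724 L16340 q1724, e3 q1725 L16349 q1725, e3 q1726 L597611 q1365, e3 q1727 L16368 q1727, trivial⟩ (by decide +kernel)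

theorem ce_b_27 : ∀ r, r < 64 → sm gb (Qf (1728 + r)) = Qf (tab Gen.b (1728 + r)) :=
  edges_tab (sm gb) Qf (tab Gen.b) 1728 [(1728, 1248), (1729, 2360), (1730, 1730), (1731, 1251), (1732, 2365), (1733, 1377), (1734, 1734), (1735, 1735), (1736, 1368), (1737, 1737), (1738, 1258), (1739, 2371), (1740, 2372), (1741, 1741), (1742, 1742), (1743, 1341), (1744, 1744), (1745, 1264), (1746, 2381), (1747, 2382), (1748, 1748), (1749, 1749), (1750, 1300), (1751, 1350), (1752, 1752), (1753, 1270), (1754, 1271), (1755, 2392), (1756, 2393), (1757, 2394), (1758, 1758), (1759, 1759), (1760, 1316), (1761, 1357), (1762, 1762), (1763, 1307), (1764, 1279), (1765, 1280), (1766, 1281), (1767, 2404), (1768, 2405), (1769, 2406), (1770, 2407), (1771, 2205), (1772, 1284), (1773, 2413), (1774, 2414), (1775, 1775), (1776, 2210), (1777, 1288), (1778, 1289), (1779, 2421), (1780, 2378), (1781, 2422), (1782, 1782), (1783, 2217), (1784, 1293), (1785, 1294), (1786, 2429), (1787, 2391), (1788, 2430), (1789, 1789), (1790, 2224), (1791, 2225)]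
    ⟨e3 q1728 (flp_b L16374) q1248, e3 q1729 (flp_b L23437) q2360, e3 q1730 L16392 q1730, e3 q1731 L16402 q1251, e3 q1732 (flp_b L23476) q2365, e3 q1733 L557570 q1377, e3 q1734 L16460 q1734, e3 q1735 L16475 q1735, e3 q1736 L597542 q1368, e3 q1737 L16498 q1737, e3 q1738 L16514 q1258, e3 q1739 (flp_b L23634) q2371, e3 q1740 (flp_b L23640) q2372, e3 q1741 L16533 q1741, e3 q1742 L16567 q1742, e3 q1743 (flp_b L598136) q1341, e3 q1744 L16595 q1744, e3 q1745 L16612 q1264, e3 q1746 (flp_b L23784) q2381, e3 q1747 (flp_b L23792) q2382, e3 q1748 L16636 q1748, e3 q1749 L16684 q1749, e3 q1750 L598172 q1300, e3 q1751 (flp_b L598144) q1350, e3 q1752 L16723 q1752, e3 q1753 L16740 q1270, e3 q1754 L16747 q1271, e3 q1755 (flp_b L23989) q2392, e3 q1756 (flp_b L23995) q2393, e3 q1757 (flp_b L24003) q2394, e3 q1758 L16774 q1758, e3 q1759 L16852 q1759, e3 q1760 (flp_b L598346) q1316, e3 q1761 L583503 q1357, e3 q1762 L16907 q1762, e3 q1763 L589586 q1307, e3 q1764 L16937 q1279, e3 q1765 L16944 q1280, e3 q1766 L16951 q1281, e3 q1767 (flp_b L24297)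 q2404, e3 q1768 (flp_b L24304) q2405, e3 q1769 (flp_b L24310) q2406, e3 q1770 (flp_b L24325) q2407, e3 q1771 (flp_b L21789) q2205, e3 q1772 L17004 q1284, e3 q1773 (flp_b L24381) q2413, e3 q1774 (flp_b L24391) q2414, e3 q1775 L17033 q1775, e3 q1776 (flp_b L21836) q2210, e3 q1777 L17051 q1288, e3 q1778 L17059 q1289, e3 q1779 (flp_b L24461) q2421, e3 q1780 L598658 q2378, e3 q1781 (flp_b L24479) q2422, e3 q1782 L17091 q1782, e3 q1783 (flp_b L21902) q2217, e3 q1784 L17110 q1293, e3 q1785 L17119 q1294, e3 q1786 (flp_b L24551) q2429, e3 q1787 L598589 q2391, e3 q1788 (flp_b L24567) q2430, e3 q1789 L17150 q1789, e3 q1790 (flp_b L21968) q2224, e3 q1791 (flp_b L21977) q2225, trivial⟩ (by decide +kernel)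

theorem ce_b_28 : ∀ r, r < 64 → sm gb (Qf (1792 + r)) = Qf (tab Gen.b (1792 + r)) :=
  edges_tab (sm gb) Qf (tab Gen.b) 1792 [(1792, 1299), (1793, 1301), (1794, 2437), (1795, 2438), (1796, 2388), (1797, 2439), (1798, 2235), (1799, 2236), (1800, 1306), (1801, 1308), (1802, 2446), (1803, 2447), (1804, 2403), (1805, 2448), (1806, 2247), (1807, 2248), (1808, 1314), (1809, 1315), (1810, 1317), (1811, 2456), (1812, 2400), (1813, 2457), (1814, 2401), (1815, 2462), (1816, 2261), (1817, 2262), (1818, 2263), (1819, 1819), (1820, 1820), (1821, 1324), (1822, 1325), (1823, 1326), (1824, 1327), (1825, 2473), (1826, 2474), (1827, 2475), (1828, 2476), (1829, 1328), (1830, 2482), (1831, 2276), (1832, 2277), (1833, 2278), (1834, 1834), (1835, 1835), (1836, 1335), (1837, 1336), (1838, 2490), (1839, 2491), (1840, 2285), (1841, 2286), (1842, 1340), (1843, 1342), (1844, 2495), (1845, 2496), (1846, 2379), (1847, 2497), (1848, 2297), (1849, 2298), (1850, 1348), (1851, 1349), (1852, 1351), (1853, 2505), (1854, 2369), (1855, 2506)]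
    ⟨e3 q1792 L17180 q1299, e3 q1793 L17195 q1301, e3 q1794 (flp_b L24660) q2437, e3 q1795 (flp_b L24666) q2438, e3 q1796 L598652 q2388, e3 q1797 (flp_b L24691) q2439, e3 q1798 (flp_b L22057) q2235, e3 q1799 (flp_b L22067) q2236, e3 q1800 L17263 q1306, e3 q1801 L17279 q1308, e3 q1802 (flp_b L24780) q2446, e3 q1803 (flp_b L24790) q2447, e3 q1804 (flp_b L598316) q2403, e3 q1805 (flp_b L24815) q2448, e3 q1806 (flp_b L22163) q2247, e3 q1807 (flp_b L22182) q2248, e3 q1808 L17369 q1314, e3 q1809 L17377 q1315, e3 q1810 L17400 q1317, e3 q1811 (flp_b L24952) q2456, e3 q1812 (flp_b L589700) q2400, e3 q1813 (flp_b L24969) q2457, e3 q1814 L598493 q2401, e3 q1815 L25030 q2462, e3 q1816 (flp_b L22293) q2261, e3 q1817 (flp_b L22304) q2262, e3 q1818 (flp_b L22315) q2263, e3 q1819 L17478 q1819, e3 q1820 L17487 q1820, e3 q1821 L17496 q1324, e3 q1822 L17504 q1325, e3 q1823 L17513 q1326, e3 q1824 L17522 q1327, e3 q1825 (flp_b L25132) q2473, e3 q1826 (flp_b L25140) q2474, e3 q1827 (flp_b L25149) q2475, e3 q1828 (flp_b L25159) q2476, e3 q1829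 (flp_b L17562) q1328, e3 q1830 (flp_b L25207) q2482, e3 q1831 (flp_b L22434) q2276, e3 q1832 (flp_b L22443) q2277, e3 q1833 (flp_b L22453) q2278, e3 q1834 L17605 q1834, e3 q1835 L17613 q1835, e3 q1836 L17621 q1335, e3 q1837 L17628 q1336, e3 q1838 (flp_b L25271) q2490, e3 q1839 (flp_b L25278) q2491, e3 q1840 (flp_b L22511) q2285, e3 q1841 (flp_b L22523) q2286, e3 q1842 L17679 q1340, e3 q1843 L17697 q1342, e3 q1844 (flp_b L25349) q2495, e3 q1845 (flp_b L25359) q2496, e3 q1846 L598664 q2379, e3 q1847 (flp_b L25385) q2497, e3 q1848 (flp_b L22627) q2297, e3 q1849 (flp_b L22646) q2298, e3 q1850 L17796 q1348, e3 q1851 L17804 q1349, e3 q1852 L17828 q1351, e3 q1853 (flp_b L25542) q2505, e3 q1854 L598010 q2369, e3 q1855 (flp_b L25559) q2506, trivial⟩ (by decide +kernel)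

theorem ce_b_29 : ∀ r, r < 64 → sm gb (Qf (1856 + r)) = Qf (tab Gen.b (1856 + r)) :=
  edges_tab (sm gb) Qf (tab Gen.b) 1856 [(1856, 2389), (1857, 2311), (1858, 2312), (1859, 1356), (1860, 2402), (1861, 2321), (1862, 2322), (1863, 1363), (1864, 1364), (1865, 2514), (1866, 2358), (1867, 2348), (1868, 2333), (1869, 2368), (1870, 1870), (1871, 1871), (1872, 1373), (1873, 2520), (1874, 2344), (1875, 2355), (1876, 1876), (1877, 1877), (1878, 1878), (1879, 1879), (1880, 1880), (1881, 1881), (1882, 1882), (1883, 1883), (1884, 2534), (1885, 1885), (1886, 1385), (1887, 2538), (1888, 1888), (1889, 1889), (1890, 1890), (1891, 1891), (1892, 1892), (1893, 1893), (1894, 2549), (1895, 1895), (1896, 1896), (1897, 2554), (1898, 1898), (1899, 2557), (1900, 1900), (1901, 1396), (1902, 2561), (1903, 1903), (1904, 1398), (1905, 2565), (1906, 1906), (1907, 1907), (1908, 1401), (1909, 2570), (1910, 2571), (1911, 1911), (1912, 1912), (1913, 2578), (1914, 1914), (1915, 1405), (1916, 2582), (1917, 1917), (1918, 2586), (1919, 1919)]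
    ⟨e3 q1856 L598497 q2389, e3 q1857 (flp_b L22784) q2311, e3 q1858 (flp_b L22814) q2312, e3 q1859 L17964 q1356, e3 q1860 L598469 q2402, e3 q1861 (flp_b L22905) q2321, e3 q1862 (flp_b L22926) q2322, e3 q1863 L18059 q1363, e3 q1864 L18067 q1364, e3 q1865 (flp_b L25884) q2514, e3 q1866 L598022 q2358, e3 q1867 L597669 q2348, e3 q1868 (flp_b L23056) q2333, e3 q1869 (flp_b L597532) q2368, e3 q1870 L18304 q1870, e3 q1871 L18314 q1871, e3 q1872 L18386 q1373, e3 q1873 (flp_b L26339) q2520, e3 q1874 (flp_b L558207) q2344, e3 q1875 L558117 q2355, e3 q1876 L557577 q1876, e3 q1877 L18676 q1877, e3 q1878 L18686 q1878, e3 q1879 L18697 q1879, e3 q1880 L18707 q1880, e3 q1881 L18718 q1881, e3 q1882 L18728 q1882, e3 q1883 L18738 q1883, e3 q1884 L26801 q2534, e3 q1885 L18757 q1885, e3 q1886 (flp_b L18764) q1385, e3 q1887 (flp_b L26840) q2538, e3 q1888 L18785 q1888, e3 q1889 L18795 q1889, e3 q1890 L18807 q1890, e3 q1891 L18818 q1891, e3 q1892 L18831 q1892, e3 q1893 L18839 q1893, e3 q1894 L26941 q2549, e3 q1895 L18857 q1895, e3 q1896 L18863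 q1896, e3 q1897 L26985 q2554, e3 q1898 L18881 q1898, e3 q1899 L27009 q2557, e3 q1900 L18900 q1900, e3 q1901 (flp_b L18908) q1396, e3 q1902 (flp_b L27048) q2561, e3 q1903 L18925 q1903, e3 q1904 (flp_b L18928) q1398, e3 q1905 (flp_b L27088) q2565, e3 q1906 L18950 q1906, e3 q1907 L18965 q1907, e3 q1908 L18968 q1401, e3 q1909 (flp_b L27134) q2570, e3 q1910 (flp_b L27141) q2571, e3 q1911 L18990 q1911, e3 q1912 L18997 q1912, e3 q1913 L27198 q2578, e3 q1914 L19019 q1914, e3 q1915 (flp_b L19025) q1405, e3 q1916 (flp_b L27241) q2582, e3 q1917 L19047 q1917, e3 q1918 L27272 q2586, e3 q1919 L19065 q1919, trivial⟩ (by decide +kernel)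

theorem ce_b_30 : ∀ r, r < 64 → sm gb (Qf (1920 + r)) = Qf (tab Gen.b (1920 + r)) :=
  edges_tab (sm gb) Qf (tab Gen.b) 1920 [(1920, 1408), (1921, 2590), (1922, 1922), (1923, 1923), (1924, 1411), (1925, 2595), (1926, 2596), (1927, 1927), (1928, 1413), (1929, 2602), (1930, 1930), (1931, 1931), (1932, 1416), (1933, 2607), (1934, 2608), (1935, 1935), (1936, 1936), (1937, 1420), (1938, 1421), (1939, 2616), (1940, 2617), (1941, 2618), (1942, 1942), (1943, 1423), (1944, 2625), (1945, 1945), (1946, 1946), (1947, 1426), (1948, 2630), (1949, 2631), (1950, 1950), (1951, 1951), (1952, 1430), (1953, 1431), (1954, 2639), (1955, 2640), (1956, 2641), (1957, 1957), (1958, 1958), (1959, 1959), (1960, 1960), (1961, 1436), (1962, 1437), (1963, 1438), (1964, 2653), (1965, 2654), (1966, 2655), (1967, 2656), (1968, 2657), (1969, 1559), (1970, 1560), (1971, 1561), (1972, 1562), (1973, 1565), (1974, 1566), (1975, 1567), (1976, 2673), (1977, 1569), (1978, 1572), (1979, 1573), (1980, 2679), (1981, 1575), (1982, 1450), (1983, 2683)]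
    ⟨e3 q1920 (flp_b L19072) q1408, e3 q1921 (flp_b L27314) q2590, e3 q1922 L19094 q1922, e3 q1923 L19107 q1923, e3 q1924 L19110 q1411, e3 q1925 (flp_b L27358) q2595, e3 q1926 (flp_b L27366) q2596, e3 q1927 L19133 q1927, e3 q1928 (flp_b L19138) q1413, e3 q1929 (flp_b L27414) q2602, e3 q1930 L19160 q1930, e3 q1931 L19178 q1931, e3 q1932 L19181 q1416, e3 q1933 (flp_b L27460) q2607, e3 q1934 (flp_b L27469) q2608, e3 q1935 L19208 q1935, e3 q1936 L19217 q1936, e3 q1937 L19223 q1420, e3 q1938 L19230 q1421, e3 q1939 (flp_b L27535) q2616, e3 q1940 (flp_b L27542) q2617, e3 q1941 (flp_b L27550) q2618, e3 q1942 L19261 q1942, e3 q1943 (flp_b L19266) q1423, e3 q1944 (flp_b L27604) q2625, e3 q1945 L19287 q1945, e3 q1946 L19303 q1946, e3 q1947 L19306 q1426, e3 q1948 (flp_b L27652) q2630, e3 q1949 (flp_b L27660) q2631, e3 q1950 L19333 q1950, e3 q1951 L19342 q1951, e3 q1952 L19350 q1430, e3 q1953 L19360 q1431, e3 q1954 (flp_b L27732) q2639, e3 q1955 (flp_b L27741) q2640, e3 q1956 (flp_b L27749) q2641, e3 q1957 L19394 q1957, e3 q1958 L19404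 q1958, e3 q1959 L19413 q1959, e3 q1960 L19423 q1960, e3 q1961 L19427 q1436, e3 q1962 L19434 q1437, e3 q1963 L19443 q1438, e3 q1964 (flp_b L27852) q2653, e3 q1965 (flp_b L27859) q2654, e3 q1966 (flp_b L27866) q2655, e3 q1967 (flp_b L27874) q2656, e3 q1968 (flp_b L27883) q2657, e3 q1969 L19490 q1559, e3 q1970 L19501 q1560, e3 q1971 L19513 q1561, e3 q1972 L19525 q1562, e3 q1973 L19535 q1565, e3 q1974 L19547 q1566, e3 q1975 L19558 q1567, e3 q1976 L28034 q2673, e3 q1977 L19577 q1569, e3 q1978 L19586 q1572, e3 q1979 L19597 q1573, e3 q1980 L28090 q2679, e3 q1981 L19616 q1575, e3 q1982 (flp_b L19622) q1450, e3 q1983 (flp_b L28128) q2683, trivial⟩ (by decide +kernel)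

theorem ce_b_31 : ∀ r, r < 64 → sm gb (Qf (1984 + r)) = Qf (tab Gen.b (1984 + r)) :=
  edges_tab (sm gb) Qf (tab Gen.b) 1984 [(1984, 1578), (1985, 1579), (1986, 2689), (1987, 1581), (1988, 1454), (1989, 2693), (1990, 1584), (1991, 1703), (1992, 1585), (1993, 1457), (1994, 2699), (1995, 1588), (1996, 1996), (1997, 1460), (1998, 2704), (1999, 2705), (2000, 1593), (2001, 1681), (2002, 1594), (2003, 1465), (2004, 2713), (2005, 2714), (2006, 1598), (2007, 2007), (2008, 1469), (2009, 1470), (2010, 2722), (2011, 2723), (2012, 2724), (2013, 1605), (2014, 1472), (2015, 2731), (2016, 1608), (2017, 2017), (2018, 1475), (2019, 2736), (2020, 2737), (2021, 1613), (2022, 2022), (2023, 1478), (2024, 2743), (2025, 2744), (2026, 1618), (2027, 2027), (2028, 1482), (2029, 1483), (2030, 2752), (2031, 2753), (2032, 2754), (2033, 1625), (2034, 2034), (2035, 1487), (2036, 1488), (2037, 2763), (2038, 2764), (2039, 2765), (2040, 1632), (2041, 2041), (2042, 2042), (2043, 2721), (2044, 1493), (2045, 1494), (2046, 1495), (2047, 2777)]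
    ⟨e3 q1984 L19640 q1578, e3 q1985 L19649 q1579, e3 q1986 L28179 q2689, e3 q1987 L19668 q1581, e3 q1988 (flp_b L19677) q1454, e3 q1989 (flp_b L28220) q2693, e3 q1990 L19697 q1584, e3 q1991 L593259 q1703, e3 q1992 L19716 q1585, e3 q1993 (flp_b L19724) q1457, e3 q1994 (flp_b L28293) q2699, e3 q1995 L19744 q1588, e3 q1996 L19757 q1996, e3 q1997 L19760 q1460, e3 q1998 (flp_b L28340) q2704, e3 q1999 (flp_b L28346) q2705, e3 q2000 L19783 q1593, e3 q2001 L570237 q1681, e3 q2002 L19812 q1594, e3 q2003 L19831 q1465, e3 q2004 (flp_b L28444) q2713, e3 q2005 (flp_b L28451) q2714, e3 q2006 L19858 q1598, e3 q2007 L19869 q2007, e3 q2008 L19876 q1469, e3 q2009 L19881 q1470, e3 q2010 (flp_b L28519) q2722, e3 q2011 (flp_b L28526) q2723, e3 q2012 (flp_b L28532) q2724, e3 q2013 L19913 q1605, e3 q2014 (flp_b L19920) q1472, e3 q2015 (flp_b L28590) q2731, e3 q2016 L19945 q1608, e3 q2017 L19963 q2017, e3 q2018 L19966 q1475, e3 q2019 (flp_b L28643) q2736, e3 q2020 (flp_b L28650) q2737, e3 q2021 L19994 q1613, e3 q2022 L20010 q2022, e3 q2023 L20013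 q1478, e3 q2024 (flp_b L28708) q2743, e3 q2025 (flp_b L28716) q2744, e3 q2026 L20041 q1618, e3 q2027 L20053 q2027, e3 q2028 L20062 q1482, e3 q2029 L20068 q1483, e3 q2030 (flp_b L28784) q2752, e3 q2031 (flp_b L28790) q2753, e3 q2032 (flp_b L28798) q2754, e3 q2033 L20100 q1625, e3 q2034 L20111 q2034, e3 q2035 L20120 q1487, e3 q2036 L20127 q1488, e3 q2037 (flp_b L28872) q2763, e3 q2038 (flp_b L28881) q2764, e3 q2039 (flp_b L28887) q2765, e3 q2040 L20163 q1632, e3 q2041 L20175 q2041, e3 q2042 L20181 q2042, e3 q2043 (flp_b L28513) q2721, e3 q2044 L20196 q1493, e3 q2045 L20203 q1494, e3 q2046 L20210 q1495, e3 q2047 (flp_b L28984) q2777, trivial⟩ (by decide +kernel)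

theorem ce_b_32 : ∀ r, r < 64 → sm gb (Qf (2048 + r)) = Qf (tab Gen.b (2048 + r)) :=
  edges_tab (sm gb) Qf (tab Gen.b) 2048 [(2048, 2778), (2049, 2779), (2050, 2780), (2051, 2781), (2052, 2052), (2053, 2053), (2054, 2054), (2055, 1500), (2056, 1501), (2057, 1502), (2058, 2790), (2059, 2791), (2060, 2792), (2061, 2647), (2062, 2793), (2063, 2645), (2064, 2064), (2065, 2065), (2066, 2066), (2067, 2067), (2068, 2068), (2069, 1510), (2070, 1511), (2071, 1512), (2072, 1513), (2073, 1514), (2074, 2807), (2075, 2808), (2076, 2809), (2077, 2810), (2078, 2811), (2079, 2079), (2080, 1517), (2081, 1518), (2082, 2822), (2083, 2823), (2084, 2824), (2085, 1669), (2086, 2086), (2087, 2087), (2088, 2088), (2089, 1523), (2090, 1524), (2091, 1525), (2092, 2836), (2093, 2837), (2094, 2838), (2095, 2839), (2096, 2840), (2097, 2710), (2098, 2098), (2099, 2099), (2100, 2100), (2101, 2101), (2102, 2102), (2103, 1533), (2104, 1534), (2105, 1535), (2106, 1536), (2107, 1537), (2108, 2858), (2109, 2859), (2110, 2860), (2111, 2861)]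
    ⟨e3 q2048 (flp_b L28991) q2778, e3 q2049 (flp_b L28997) q2779, e3 q2050 (flp_b L29006) q2780, e3 q2051 (flp_b L29013) q2781, e3 q2052 L20257 q2052, e3 q2053 L20266 q2053, e3 q2054 L20279 q2054, e3 q2055 L20284 q1500, e3 q2056 L20293 q1501, e3 q2057 L20300 q1502, e3 q2058 (flp_b L29114) q2790, e3 q2059 (flp_b L29121) q2791, e3 q2060 (flp_b L29130) q2792, e3 q2061 L563498 q2647, e3 q2062 (flp_b L29147) q2793, e3 q2063 L563417 q2645, e3 q2064 L20363 q2064, e3 q2065 L20371 q2065, e3 q2066 L20380 q2066, e3 q2067 L20388 q2067, e3 q2068 L20396 q2068, e3 q2069 L20404 q1510, e3 q2070 L20409 q1511, e3 q2071 L20416 q1512, e3 q2072 L20425 q1513, e3 q2073 L20433 q1514, e3 q2074 (flp_b L29302) q2807, e3 q2075 (flp_b L29308) q2808, e3 q2076 (flp_b L29315) q2809, e3 q2077 (flp_b L29323) q2810, e3 q2078 (flp_b L29332) q2811, e3 q2079 L20484 q2079, e3 q2080 L20493 q1517, e3 q2081 L20502 q1518, e3 q2082 (flp_b L29424) q2822, e3 q2083 (flp_b L29433) q2823, e3 q2084 (flp_b L29441) q2824, e3 q2085 L20538 q1669, e3 q2086 L20550 q2086, e3 q2087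 L20559 q2087, e3 q2088 L20570 q2088, e3 q2089 L20575 q1523, e3 q2090 L20582 q1524, e3 q2091 L20589 q1525, e3 q2092 (flp_b L29547) q2836, e3 q2093 (flp_b L29554) q2837, e3 q2094 (flp_b L29563) q2838, e3 q2095 (flp_b L29569) q2839, e3 q2096 (flp_b L29577) q2840, e3 q2097 L549496 q2710, e3 q2098 L20649 q2098, e3 q2099 L20658 q2099, e3 q2100 L20665 q2100, e3 q2101 L20673 q2101, e3 q2102 L20682 q2102, e3 q2103 L20689 q1533, e3 q2104 L20698 q1534, e3 q2105 L20705 q1535, e3 q2106 L20712 q1536, e3 q2107 L20719 q1537, e3 q2108 (flp_b L29737) q2858, e3 q2109 (flp_b L29746) q2859, e3 q2110 (flp_b L29754) q2860, e3 q2111 (flp_b L29762) q2861, trivial⟩ (by decide +kernel)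

theorem ce_b_33 : ∀ r, r < 64 → sm gb (Qf (2112 + r)) = Qf (tab Gen.b (2112 + r)) :=
  edges_tab (sm gb) Qf (tab Gen.b) 2112 [(2112, 2862), (2113, 2113), (2114, 2114), (2115, 2115), (2116, 2116), (2117, 2117), (2118, 1546), (2119, 1547), (2120, 1548), (2121, 1549), (2122, 1550), (2123, 2875), (2124, 2876), (2125, 2877), (2126, 2878), (2127, 2879), (2128, 2880), (2129, 2881), (2130, 2130), (2131, 2131), (2132, 2132), (2133, 2133), (2134, 2134), (2135, 2895), (2136, 2136), (2137, 2137), (2138, 2138), (2139, 2139), (2140, 2663), (2141, 2664), (2142, 2665), (2143, 2666), (2144, 2905), (2145, 2668), (2146, 2146), (2147, 2147), (2148, 2669), (2149, 2670), (2150, 2912), (2151, 2672), (2152, 1568), (2153, 2916), (2154, 2675), (2155, 2155), (2156, 2156), (2157, 2676), (2158, 2678), (2159, 1574), (2160, 2922), (2161, 2681), (2162, 1710), (2163, 1577), (2164, 2927), (2165, 2928), (2166, 2686), (2167, 2688), (2168, 1580), (2169, 2934), (2170, 2691), (2171, 1702), (2172, 1583), (2173, 2939), (2174, 2940), (2175, 2696)]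
    ⟨e3 q2112 (flp_b L29768) q2862, e3 q2113 L20770 q2113, e3 q2114 L20779 q2114, e3 q2115 L20789 q2115, e3 q2116 L20798 q2116, e3 q2117 L20808 q2117, e3 q2118 L20816 q1546, e3 q2119 L20824 q1547, e3 q2120 L20833 q1548, e3 q2121 L20843 q1549, e3 q2122 L20851 q1550, e3 q2123 (flp_b L29881) q2875, e3 q2124 (flp_b L29889) q2876, e3 q2125 (flp_b L29898) q2877, e3 q2126 (flp_b L29907) q2878, e3 q2127 (flp_b L29913) q2879, e3 q2128 (flp_b L29923) q2880, e3 q2129 (flp_b L29932) q2881, e3 q2130 L20920 q2130, e3 q2131 L20929 q2131, e3 q2132 L20937 q2132, e3 q2133 L20946 q2133, e3 q2134 L20954 q2134, e3 q2135 L30076 q2895, e3 q2136 L20970 q2136, e3 q2137 L20979 q2137, e3 q2138 L20990 q2138, e3 q2139 L21001 q2139, e3 q2140 (flp_b L27931) q2663, e3 q2141 (flp_b L27942) q2664, e3 q2142 (flp_b L27954) q2665, e3 q2143 (flp_b L27965) q2666, e3 q2144 L30197 q2905, e3 q2145 (flp_b L27984) q2668, e3 q2146 L21070 q2146, e3 q2147 L21080 q2147, e3 q2148 (flp_b L27994) q2669, e3 q2149 (flp_b L28006) q2670, e3 q2150 L30299 q2912, e3 q2151 (flp_b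 L28027) q2672, e3 q2152 (flp_b L21141) q1568, e3 q2153 (flp_b L30341) q2916, e3 q2154 (flp_b L28054) q2675, e3 q2155 L21172 q2155, e3 q2156 L21182 q2156, e3 q2157 (flp_b L28065) q2676, e3 q2158 (flp_b L28084) q2678, e3 q2159 (flp_b L21237) q1574, e3 q2160 (flp_b L30475) q2922, e3 q2161 (flp_b L28110) q2681, e3 q2162 (flp_b L597574) q1710, e3 q2163 L21274 q1577, e3 q2164 (flp_b L30519) q2927, e3 q2165 (flp_b L30525) q2928, e3 q2166 (flp_b L28150) q2686, e3 q2167 (flp_b L28170) q2688, e3 q2168 (flp_b L21334) q1580, e3 q2169 (flp_b L30628) q2934, e3 q2170 (flp_b L28201) q2691, e3 q2171 L594497 q1702, e3 q2172 L21374 q1583, e3 q2173 (flp_b L30678) q2939, e3 q2174 (flp_b L30686) q2940, e3 q2175 (flp_b L28247) q2696, trivial⟩ (by decide +kernel)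

theorem ce_b_34 : ∀ r, r < 64 → sm gb (Qf (2176 + r)) = Qf (tab Gen.b (2176 + r)) :=
  edges_tab (sm gb) Qf (tab Gen.b) 2176 [(2176, 2698), (2177, 1587), (2178, 2946), (2179, 2947), (2180, 2702), (2181, 1679), (2182, 1591), (2183, 1592), (2184, 2954), (2185, 2955), (2186, 2956), (2187, 2709), (2188, 2712), (2189, 1596), (2190, 1597), (2191, 2964), (2192, 2965), (2193, 2718), (2194, 1642), (2195, 1691), (2196, 1635), (2197, 1602), (2198, 1603), (2199, 1604), (2200, 2975), (2201, 2976), (2202, 2977), (2203, 2978), (2204, 2979), (2205, 1771), (2206, 1607), (2207, 2986), (2208, 2987), (2209, 2734), (2210, 1776), (2211, 1611), (2212, 1612), (2213, 2995), (2214, 2996), (2215, 2997), (2216, 2741), (2217, 1783), (2218, 1616), (2219, 1617), (2220, 3006), (2221, 3007), (2222, 3008), (2223, 2748), (2224, 1790), (2225, 1791), (2226, 2953), (2227, 1622), (2228, 1623), (2229, 1624), (2230, 3019), (2231, 3020), (2232, 3021), (2233, 2951), (2234, 3022), (2235, 1798), (2236, 1799), (2237, 2963), (2238, 1629), (2239, 1630)]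
    ⟨e3 q2176 (flp_b L28276) q2698, e3 q2177 L21464 q1587, e3 q2178 (flp_b L30814) q2946, e3 q2179 (flp_b L30823) q2947, e3 q2180 (flp_b L28320) q2702, e3 q2181 (flp_b L598129) q1679, e3 q2182 L21510 q1591, e3 q2183 L21517 q1592, e3 q2184 (flp_b L30891) q2954, e3 q2185 (flp_b L30897) q2955, e3 q2186 (flp_b L30905) q2956, e3 q2187 (flp_b L28377) q2709, e3 q2188 (flp_b L28425) q2712, e3 q2189 L21639 q1596, e3 q2190 L21647 q1597, e3 q2191 (flp_b L31094) q2964, e3 q2192 (flp_b L31109) q2965, e3 q2193 (flp_b L28486) q2718, e3 q2194 (flp_b L598231) q1642, e3 q2195 L593324 q1691, e3 q2196 L21712 q1635, e3 q2197 L21716 q1602, e3 q2198 L21723 q1603, e3 q2199 L21730 q1604, e3 q2200 (flp_b L31213) q2975, e3 q2201 (flp_b L31220) q2976, e3 q2202 (flp_b L31226) q2977, e3 q2203 (flp_b L31234) q2978, e3 q2204 (flp_b L31241) q2979, e3 q2205 L21789 q1771, e3 q2206 L21793 q1607, e3 q2207 (flp_b L31307) q2986, e3 q2208 (flp_b L31317) q2987, e3 q2209 (flp_b L28622) q2734, e3 q2210 L21836 q1776, e3 q2211 L21845 q1611, e3 q2212 L21853 q1612, e3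 q2213 (flp_b L31395) q2995, e3 q2214 (flp_b L31403) q2996, e3 q2215 (flp_b L31413) q2997, e3 q2216 (flp_b L28686) q2741, e3 q2217 L21902 q1783, e3 q2218 L21911 q1616, e3 q2219 L21920 q1617, e3 q2220 (flp_b L31496) q3006, e3 q2221 (flp_b L31504) q3007, e3 q2222 (flp_b L31512) q3008, e3 q2223 (flp_b L28751) q2748, e3 q2224 L21968 q1790, e3 q2225 L21977 q1791, e3 q2226 (flp_b L30887) q2953, e3 q2227 L21989 q1622, e3 q2228 L21995 q1623, e3 q2229 L22004 q1624, e3 q2230 (flp_b L31617) q3019, e3 q2231 (flp_b L31623) q3020, e3 q2232 (flp_b L31631) q3021, e3 q2233 (flp_b L594134) q2951, e3 q2234 (flp_b L31648) q3022, e3 q2235 L22057 q1798, e3 q2236 L22067 q1799, e3 q2237 (flp_b L31090) q2963, e3 q2238 L22083 q1629, e3 q2239 L22092 q1630, trivial⟩ (by decide +kernel)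

theorem ce_b_35 : ∀ r, r < 64 → sm gb (Qf (2240 + r)) = Qf (tab Gen.b (2240 + r)) :=
  edges_tab (sm gb) Qf (tab Gen.b) 2240 [(2240, 1631), (2241, 3033), (2242, 3034), (2243, 3035), (2244, 2971), (2245, 3036), (2246, 3032), (2247, 1806), (2248, 1807), (2249, 2973), (2250, 2974), (2251, 1639), (2252, 1640), (2253, 1641), (2254, 1643), (2255, 3050), (2256, 3051), (2257, 3052), (2258, 3053), (2259, 2970), (2260, 2633), (2261, 1816), (2262, 1817), (2263, 1818), (2264, 2264), (2265, 2265), (2266, 1650), (2267, 1651), (2268, 1652), (2269, 1653), (2270, 3068), (2271, 3069), (2272, 3070), (2273, 3071), (2274, 1654), (2275, 3077), (2276, 1831), (2277, 1832), (2278, 1833), (2279, 2279), (2280, 2280), (2281, 1661), (2282, 1662), (2283, 3085), (2284, 3086), (2285, 1840), (2286, 1841), (2287, 2287), (2288, 1666), (2289, 1667), (2290, 1668), (2291, 3093), (2292, 3094), (2293, 3095), (2294, 2938), (2295, 3096), (2296, 2697), (2297, 1848), (2298, 1849), (2299, 2299), (2300, 2300), (2301, 1676), (2302, 1677), (2303, 1678)]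
    ⟨e3 q2240 L22099 q1631, e3 q2241 (flp_b L31749) q3033, e3 q2242 (flp_b L31759) q3034, e3 q2243 (flp_b L31767) q3035, e3 q2244 (flp_b L591081) q2971, e3 q2245 (flp_b L31784) q3036, e3 q2246 L591006 q3032, e3 q2247 L22163 q1806, e3 q2248 L22182 q1807, e3 q2249 (flp_b L31198) q2973, e3 q2250 (flp_b L31205) q2974, e3 q2251 L22201 q1639, e3 q2252 L22209 q1640, e3 q2253 L22215 q1641, e3 q2254 L22232 q1643, e3 q2255 (flp_b L31937) q3050, e3 q2256 (flp_b L31945) q3051, e3 q2257 (flp_b L31954) q3052, e3 q2258 (flp_b L31961) q3053, e3 q2259 L598264 q2970, e3 q2260 (flp_b L563381) q2633, e3 q2261 L22293 q1816, e3 q2262 L22304 q1817, e3 q2263 L22315 q1818, e3 q2264 L22323 q2264, e3 q2265 L22331 q2265, e3 q2266 L22340 q1650, e3 q2267 L22348 q1651, e3 q2268 L22357 q1652, e3 q2269 L22366 q1653, e3 q2270 (flp_b L32134) q3068, e3 q2271 (flp_b L32142) q3069, e3 q2272 (flp_b L32151) q3070, e3 q2273 (flp_b L32161) q3071, e3 q2274 (flp_b L22413) q1654, e3 q2275 (flp_b L32219) q3077, e3 q2276 L22434 q1831, e3 q2277 L22443 q1832, e3 q2278 L22453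 q1833, e3 q2279 L22461 q2279, e3 q2280 L22469 q2280, e3 q2281 L22476 q1661, e3 q2282 L22483 q1662, e3 q2283 (flp_b L32285) q3085, e3 q2284 (flp_b L32292) q3086, e3 q2285 L22511 q1840, e3 q2286 L22523 q1841, e3 q2287 L22537 q2287, e3 q2288 L22540 q1666, e3 q2289 L22549 q1667, e3 q2290 L22558 q1668, e3 q2291 (flp_b L32368) q3093, e3 q2292 (flp_b L32378) q3094, e3 q2293 (flp_b L32386) q3095, e3 q2294 L598104 q2938, e3 q2295 (flp_b L32404) q3096, e3 q2296 L593246 q2697, e3 q2297 L22627 q1848, e3 q2298 L22646 q1849, e3 q2299 L22654 q2299, e3 q2300 L22660 q2300, e3 q2301 L22669 q1676, e3 q2302 L22677 q1677, e3 q2303 L22686 q1678, trivial⟩ (by decide +kernel)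

theorem ce_b_36 : ∀ r, r < 64 → sm gb (Qf (2304 + r)) = Qf (tab Gen.b (2304 + r)) :=
  edges_tab (sm gb) Qf (tab Gen.b) 2304 [(2304, 1680), (2305, 3110), (2306, 3111), (2307, 3112), (2308, 3113), (2309, 2952), (2310, 2711), (2311, 1857), (2312, 1858), (2313, 2313), (2314, 2314), (2315, 2315), (2316, 1689), (2317, 1690), (2318, 3126), (2319, 2972), (2320, 2687), (2321, 1861), (2322, 1862), (2323, 2323), (2324, 2324), (2325, 1699), (2326, 1700), (2327, 1701), (2328, 3135), (2329, 3136), (2330, 3137), (2331, 2915), (2332, 2677), (2333, 1868), (2334, 2334), (2335, 2335), (2336, 2336), (2337, 1709), (2338, 3148), (2339, 2926), (2340, 2340), (2341, 1713), (2342, 3152), (2343, 3153), (2344, 1874), (2345, 2345), (2346, 2346), (2347, 2347), (2348, 1867), (2349, 2349), (2350, 1719), (2351, 3163), (2352, 2352), (2353, 1722), (2354, 3168), (2355, 1875), (2356, 2356), (2357, 2357), (2358, 1866), (2359, 2359), (2360, 1729), (2361, 3174), (2362, 3175), (2363, 2363), (2364, 2364), (2365, 1732), (2366, 2366), (2367, 2367)]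
    ⟨e3 q2304 L22701 q1680, e3 q2305 (flp_b L32577) q3110, e3 q2306 (flp_b L32586) q3111, e3 q2307 (flp_b L32594) q3112, e3 q2308 (flp_b L32603) q3113, e3 q2309 L594645 q2952, e3 q2310 L593379 q2711, e3 q2311 L22784 q1857, e3 q2312 L22814 q1858, e3 q2313 L22822 q2313, e3 q2314 L22829 q2314, e3 q2315 L22838 q2315, e3 q2316 L22851 q1689, e3 q2317 L22860 q1690, e3 q2318 (flp_b L32802) q3126, e3 q2319 L594654 q2972, e3 q2320 L593228 q2687, e3 q2321 L22905 q1861, e3 q2322 L22926 q1862, e3 q2323 L22936 q2323, e3 q2324 L22945 q2324, e3 q2325 L22953 q1699, e3 q2326 L22961 q1700, e3 q2327 L22970 q1701, e3 q2328 (flp_b L32943) q3135, e3 q2329 (flp_b L32952) q3136, e3 q2330 (flp_b L32960) q3137, e3 q2331 L597586 q2915, e3 q2332 L593237 q2677, e3 q2333 L23056 q1868, e3 q2334 L23083 q2334, e3 q2335 L23090 q2335, e3 q2336 L23098 q2336, e3 q2337 L23113 q1709, e3 q2338 (flp_b L33147) q3148, e3 q2339 L597562 q2926, e3 q2340 L23171 q2340, e3 q2341 L23186 q1713, e3 q2342 (flp_b L33235) q3152, e3 q2343 (flp_b L33244) q3153, e3 q2344 L558207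 q1874, e3 q2345 L23239 q2345, e3 q2346 L23248 q2346, e3 q2347 L23257 q2347, e3 q2348 (flp_b L597669) q1867, e3 q2349 L23276 q2349, e3 q2350 (flp_b L23283) q1719, e3 q2351 (flp_b L33397) q3163, e3 q2352 L23302 q2352, e3 q2353 L23310 q1722, e3 q2354 (flp_b L33438) q3168, e3 q2355 (flp_b L558117) q1875, e3 q2356 L23375 q2356, e3 q2357 L23392 q2357, e3 q2358 (flp_b L598022) q1866, e3 q2359 L23418 q2359, e3 q2360 L23437 q1729, e3 q2361 (flp_b L33616) q3174, e3 q2362 (flp_b L33623) q3175, e3 q2363 L23460 q2363, e3 q2364 L23471 q2364, e3 q2365 L23476 q1732, e3 q2366 L23553 q2366, e3 q2367 L23578 q2367, trivial⟩ (by decide +kernel)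

theorem ce_b_37 : ∀ r, r < 64 → sm gb (Qf (2368 + r)) = Qf (tab Gen.b (2368 + r)) :=
  edges_tab (sm gb) Qf (tab Gen.b) 2368 [(2368, 1869), (2369, 1854), (2370, 2370), (2371, 1739), (2372, 1740), (2373, 3187), (2374, 3188), (2375, 3189), (2376, 2376), (2377, 2377), (2378, 1780), (2379, 1846), (2380, 2380), (2381, 1746), (2382, 1747), (2383, 3199), (2384, 3200), (2385, 3201), (2386, 2386), (2387, 2387), (2388, 1796), (2389, 1856), (2390, 2390), (2391, 1787), (2392, 1755), (2393, 1756), (2394, 1757), (2395, 3211), (2396, 3212), (2397, 3213), (2398, 3214), (2399, 2399), (2400, 1812), (2401, 1814), (2402, 1860), (2403, 1804), (2404, 1767), (2405, 1768), (2406, 1769), (2407, 1770), (2408, 3223), (2409, 3224), (2410, 3225), (2411, 3226), (2412, 2985), (2413, 1773), (2414, 1774), (2415, 3234), (2416, 3198), (2417, 3235), (2418, 2418), (2419, 2992), (2420, 2993), (2421, 1779), (2422, 1781), (2423, 3242), (2424, 3243), (2425, 3195), (2426, 3244), (2427, 3003), (2428, 3004), (2429, 1786), (2430, 1788), (2431, 3247)]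
    ⟨e3 q2368 L597532 q1869, e3 q2369 (flp_b L598010) q1854, e3 q2370 L23618 q2370, e3 q2371 L23634 q1739, e3 q2372 L23640 q1740, e3 q2373 (flp_b L33910) q3187, e3 q2374 (flp_b L33916) q3188, e3 q2375 (flp_b L33923) q3189, e3 q2376 L23667 q2376, e3 q2377 L23721 q2377, e3 q2378 (flp_b L598658) q1780, e3 q2379 (flp_b L598664) q1846, e3 q2380 L23767 q2380, e3 q2381 L23784 q1746, e3 q2382 L23792 q1747, e3 q2383 (flp_b L34142) q3199, e3 q2384 (flp_b L34150) q3200, e3 q2385 (flp_b L34159) q3201, e3 q2386 L23823 q2386, e3 q2387 L23902 q2387, e3 q2388 (flp_b L598652) q1796, e3 q2389 (flp_b L598497) q1856, e3 q2390 L23959 q2390, e3 q2391 (flp_b L598589) q1787, e3 q2392 L23989 q1755, e3 q2393 L23995 q1756, e3 q2394 L24003 q1757, e3 q2395 (flp_b L34461) q3211, e3 q2396 (flp_b L34466) q3212, e3 q2397 (flp_b L34474) q3213, e3 q2398 (flp_b L34489) q3214, e3 q2399 L24155 q2399, e3 q2400 L589700 q1812, e3 q2401 (flp_b L598493) q1814, e3 q2402 (flp_b L598469) q1860, e3 q2403 L598316 q1804, e3 q2404 L24297 q1767, e3 q2405 L24304 q1768, e3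 q2406 L24310 q1769, e3 q2407 L24325 q1770, e3 q2408 (flp_b L34941) q3223, e3 q2409 (flp_b L34948) q3224, e3 q2410 (flp_b L34956) q3225, e3 q2411 (flp_b L34963) q3226, e3 q2412 (flp_b L31297) q2985, e3 q2413 L24381 q1773, e3 q2414 L24391 q1774, e3 q2415 (flp_b L35060) q3234, e3 q2416 (flp_b L589404) q3198, e3 q2417 (flp_b L35079) q3235, e3 q2418 L24426 q2418, e3 q2419 (flp_b L31370) q2992, e3 q2420 (flp_b L31380) q2993, e3 q2421 L24461 q1779, e3 q2422 L24479 q1781, e3 q2423 (flp_b L35182) q3242, e3 q2424 (flp_b L35190) q3243, e3 q2425 (flp_b L600590) q3195, e3 q2426 (flp_b L35217) q3244, e3 q2427 (flp_b L31470) q3003, e3 q2428 (flp_b L31481) q3004, e3 q2429 L24551 q1786, e3 q2430 L24567 q1788, e3 q2431 (flp_b L35313) q3247, trivial⟩ (by decide +kernel)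

theorem ce_b_38 : ∀ r, r < 64 → sm gb (Qf (2432 + r)) = Qf (tab Gen.b (2432 + r)) :=
  edges_tab (sm gb) Qf (tab Gen.b) 2432 [(2432, 3248), (2433, 3210), (2434, 3249), (2435, 3015), (2436, 3016), (2437, 1794), (2438, 1795), (2439, 1797), (2440, 3257), (2441, 3207), (2442, 3258), (2443, 3208), (2444, 3029), (2445, 3030), (2446, 1802), (2447, 1803), (2448, 1805), (2449, 3262), (2450, 3221), (2451, 3263), (2452, 3222), (2453, 3043), (2454, 3044), (2455, 3045), (2456, 1811), (2457, 1813), (2458, 3271), (2459, 3272), (2460, 3219), (2461, 3220), (2462, 1815), (2463, 3273), (2464, 2626), (2465, 3061), (2466, 3062), (2467, 3063), (2468, 3064), (2469, 2469), (2470, 2470), (2471, 2471), (2472, 2472), (2473, 1825), (2474, 1826), (2475, 1827), (2476, 1828), (2477, 3287), (2478, 3288), (2479, 3289), (2480, 3290), (2481, 3291), (2482, 1830), (2483, 3297), (2484, 3298), (2485, 3080), (2486, 3081), (2487, 2487), (2488, 2488), (2489, 2489), (2490, 1838), (2491, 1839), (2492, 3307), (2493, 3089), (2494, 3090), (2495, 1844)]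
    ⟨e3 q2432 (flp_b L35321) q3248, e3 q2433 (flp_b L600548) q3210, e3 q2434 (flp_b L35348) q3249, e3 q2435 (flp_b L31578) q3015, e3 q2436 (flp_b L31597) q3016, e3 q2437 L24660 q1794, e3 q2438 L24666 q1795, e3 q2439 L24691 q1797, e3 q2440 (flp_b L35488) q3257, e3 q2441 L599434 q3207, e3 q2442 (flp_b L35502) q3258, e3 q2443 (flp_b L600466) q3208, e3 q2444 (flp_b L31707) q3029, e3 q2445 (flp_b L31727) q3030, e3 q2446 L24780 q1802, e3 q2447 L24790 q1803, e3 q2448 L24815 q1805, e3 q2449 (flp_b L35678) q3262, e3 q2450 (flp_b L589771) q3221, e3 q2451 (flp_b L35696) q3263, e3 q2452 (flp_b L600434) q3222, e3 q2453 (flp_b L31861) q3043, e3 q2454 (flp_b L31871) q3044, e3 q2455 (flp_b L31900) q3045, e3 q2456 L24952 q1811, e3 q2457 L24969 q1813, e3 q2458 (flp_b L35927) q3271, e3 q2459 (flp_b L35934) q3272, e3 q2460 L560344 q3219, e3 q2461 (flp_b L598477) q3220, e3 q2462 (flp_b L25030) q1815, e3 q2463 (flp_b L36013) q3273, e3 q2464 L579542 q2626, e3 q2465 (flp_b L32060) q3061, e3 q2466 (flp_b L32070) q3062, e3 q2467 (flp_b L32081) q3063,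 e3 q2468 (flp_b L32092) q3064, e3 q2469 L25097 q2469, e3 q2470 L25106 q2470, e3 q2471 L25115 q2471, e3 q2472 L25124 q2472, e3 q2473 L25132 q1825, e3 q2474 L25140 q1826, e3 q2475 L25149 q1827, e3 q2476 L25159 q1828, e3 q2477 (flp_b L36169) q3287, e3 q2478 (flp_b L36177) q3288, e3 q2479 (flp_b L36186) q3289, e3 q2480 (flp_b L36195) q3290, e3 q2481 (flp_b L36203) q3291, e3 q2482 L25207 q1830, e3 q2483 (flp_b L36252) q3297, e3 q2484 (flp_b L36260) q3298, e3 q2485 (flp_b L32246) q3080, e3 q2486 (flp_b L32255) q3081, e3 q2487 L25248 q2487, e3 q2488 L25254 q2488, e3 q2489 L25262 q2489, e3 q2490 L25271 q1838, e3 q2491 L25278 q1839, e3 q2492 (flp_b L36338) q3307, e3 q2493 (flp_b L32321) q3089, e3 q2494 (flp_b L32343) q3090, e3 q2495 L25349 q1844, trivial⟩ (by decide +kernel)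

theorem ce_b_39 : ∀ r, r < 64 → sm gb (Qf (2496 + r)) = Qf (tab Gen.b (2496 + r)) :=
  edges_tab (sm gb) Qf (tab Gen.b) 2496 [(2496, 1845), (2497, 1847), (2498, 3311), (2499, 3172), (2500, 3312), (2501, 3196), (2502, 3103), (2503, 3104), (2504, 3105), (2505, 1853), (2506, 1855), (2507, 3315), (2508, 3184), (2509, 3183), (2510, 3209), (2511, 3121), (2512, 3129), (2513, 3130), (2514, 1865), (2515, 3317), (2516, 3161), (2517, 3171), (2518, 2518), (2519, 2519), (2520, 1873), (2521, 3157), (2522, 3156), (2523, 2523), (2524, 2524), (2525, 2525), (2526, 2526), (2527, 2527), (2528, 2528), (2529, 2529), (2530, 3329), (2531, 2531), (2532, 3332), (2533, 2533), (2534, 1884), (2535, 3336), (2536, 2536), (2537, 2537), (2538, 1887), (2539, 3341), (2540, 3342), (2541, 2541), (2542, 2542), (2543, 2543), (2544, 2544), (2545, 3352), (2546, 2546), (2547, 3355), (2548, 2548), (2549, 1894), (2550, 3359), (2551, 2551), (2552, 3363), (2553, 2553), (2554, 1897), (2555, 3367), (2556, 2556), (2557, 1899), (2558, 3371), (2559, 2559)]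
    ⟨e3 q2496 L25359 q1845, e3 q2497 L25385 q1847, e3 q2498 (flp_b L36475) q3311, e3 q2499 (flp_b L598032) q3172, e3 q2500 (flp_b L36493) q3312, e3 q2501 L598671 q3196, e3 q2502 (flp_b L32491) q3103, e3 q2503 (flp_b L32501) q3104, e3 q2504 (flp_b L32531) q3105, e3 q2505 L25542 q1853, e3 q2506 L25559 q1855, e3 q2507 (flp_b L36750) q3315, e3 q2508 (flp_b L597939) q3184, e3 q2509 L597517 q3183, e3 q2510 L598486 q3209, e3 q2511 (flp_b L32729) q3121, e3 q2512 (flp_b L32859) q3129, e3 q2513 (flp_b L32869) q3130, e3 q2514 L25884 q1865, e3 q2515 (flp_b L37192) q3317, e3 q2516 (flp_b L597684) q3161, e3 q2517 (flp_b L597509) q3171, e3 q2518 L540847 q2518, e3 q2519 L26229 q2519, e3 q2520 L26339 q1873, e3 q2521 (flp_b L557899) q3157, e3 q2522 (flp_b L572594) q3156, e3 q2523 L557593 q2523, e3 q2524 L26704 q2524, e3 q2525 L26714 q2525, e3 q2526 L26725 q2526, e3 q2527 L26736 q2527, e3 q2528 L26744 q2528, e3 q2529 L26754 q2529, e3 q2530 L38379 q3329, e3 q2531 L26775 q2531, e3 q2532 L38407 q3332, e3 q2533 L26793 q2533, e3 q2534 (flp_b L26801)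 q1884, e3 q2535 (flp_b L38450) q3336, e3 q2536 L26823 q2536, e3 q2537 L26837 q2537, e3 q2538 L26840 q1887, e3 q2539 (flp_b L38496) q3341, e3 q2540 (flp_b L38503) q3342, e3 q2541 L26867 q2541, e3 q2542 L26876 q2542, e3 q2543 L26889 q2543, e3 q2544 L26897 q2544, e3 q2545 L38596 q3352, e3 q2546 L26917 q2546, e3 q2547 L38621 q3355, e3 q2548 L26935 q2548, e3 q2549 (flp_b L26941) q1894, e3 q2550 (flp_b L38662) q3359, e3 q2551 L26958 q2551, e3 q2552 L38688 q3363, e3 q2553 L26976 q2553, e3 q2554 (flp_b L26985) q1897, e3 q2555 (flp_b L38732) q3367, e3 q2556 L27004 q2556, e3 q2557 (flp_b L27009) q1899, e3 q2558 (flp_b L38775) q3371, e3 q2559 L27032 q2559, trivial⟩ (by decide +kernel)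

theorem ce_b_40 : ∀ r, r < 64 → sm gb (Qf (2560 + r)) = Qf (tab Gen.b (2560 + r)) :=
  edges_tab (sm gb) Qf (tab Gen.b) 2560 [(2560, 2560), (2561, 1902), (2562, 3376), (2563, 3377), (2564, 2564), (2565, 1905), (2566, 3382), (2567, 3383), (2568, 2568), (2569, 2569), (2570, 1909), (2571, 1910), (2572, 3391), (2573, 3392), (2574, 3393), (2575, 2575), (2576, 3399), (2577, 2577), (2578, 1913), (2579, 3403), (2580, 2580), (2581, 2581), (2582, 1916), (2583, 3408), (2584, 3409), (2585, 2585), (2586, 1918), (2587, 3415), (2588, 2588), (2589, 2589), (2590, 1921), (2591, 3420), (2592, 3421), (2593, 2593), (2594, 2594), (2595, 1925), (2596, 1926), (2597, 3429), (2598, 3430), (2599, 3431), (2600, 2600), (2601, 2601), (2602, 1929), (2603, 3438), (2604, 3439), (2605, 2605), (2606, 2606), (2607, 1933), (2608, 1934), (2609, 3447), (2610, 3448), (2611, 3449), (2612, 2612), (2613, 2613), (2614, 2614), (2615, 3390), (2616, 1939), (2617, 1940), (2618, 1941), (2619, 3461), (2620, 3462), (2621, 3463), (2622, 3464), (2623, 3465)]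
    ⟨e3 q2560 L27045 q2560, e3 q2561 L27048 q1902, e3 q2562 (flp_b L38823) q3376, e3 q2563 (flp_b L38831) q3377, e3 q2564 L27070 q2564, e3 q2565 L27088 q1905, e3 q2566 (flp_b L38877) q3382, e3 q2567 (flp_b L38886) q3383, e3 q2568 L27118 q2568, e3 q2569 L27129 q2569, e3 q2570 L27134 q1909, e3 q2571 L27141 q1910, e3 q2572 (flp_b L38959) q3391, e3 q2573 (flp_b L38966) q3392, e3 q2574 (flp_b L38973) q3393, e3 q2575 L27171 q2575, e3 q2576 L39016 q3399, e3 q2577 L27190 q2577, e3 q2578 (flp_b L27198) q1913, e3 q2579 (flp_b L39063) q3403, e3 q2580 L27222 q2580, e3 q2581 L27238 q2581, e3 q2582 L27241 q1916, e3 q2583 (flp_b L39111) q3408, e3 q2584 (flp_b L39120) q3409, e3 q2585 L27268 q2585, e3 q2586 (flp_b L27272) q1918, e3 q2587 (flp_b L39173) q3415, e3 q2588 L27295 q2588, e3 q2589 L27311 q2589, e3 q2590 L27314 q1921, e3 q2591 (flp_b L39221) q3420, e3 q2592 (flp_b L39231) q3421, e3 q2593 L27341 q2593, e3 q2594 L27351 q2594, e3 q2595 L27358 q1925, e3 q2596 L27366 q1926, e3 q2597 (flp_b L39296) q3429, e3 q2598 (flp_b L39302) q3430,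 e3 q2599 (flp_b L39311) q3431, e3 q2600 L27396 q2600, e3 q2601 L27411 q2601, e3 q2602 L27414 q1929, e3 q2603 (flp_b L39366) q3438, e3 q2604 (flp_b L39373) q3439, e3 q2605 L27442 q2605, e3 q2606 L27453 q2606, e3 q2607 L27460 q1933, e3 q2608 L27469 q1934, e3 q2609 (flp_b L39450) q3447, e3 q2610 (flp_b L39459) q3448, e3 q2611 (flp_b L39466) q3449, e3 q2612 L27503 q2612, e3 q2613 L27513 q2613, e3 q2614 L27521 q2614, e3 q2615 (flp_b L38954) q3390, e3 q2616 L27535 q1939, e3 q2617 L27542 q1940, e3 q2618 L27550 q1941, e3 q2619 (flp_b L39563) q3461, e3 q2620 (flp_b L39572) q3462, e3 q2621 (flp_b L39578) q3463, e3 q2622 (flp_b L39586) q3464, e3 q2623 (flp_b L39594) q3465, trivial⟩ (by decide +kernel)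

theorem ce_b_41 : ∀ r, r < 64 → sm gb (Qf (2624 + r)) = Qf (tab Gen.b (2624 + r)) :=
  edges_tab (sm gb) Qf (tab Gen.b) 2624 [(2624, 2624), (2625, 1944), (2626, 2464), (2627, 3471), (2628, 2628), (2629, 2629), (2630, 1948), (2631, 1949), (2632, 3476), (2633, 2260), (2634, 3477), (2635, 2635), (2636, 2636), (2637, 2637), (2638, 2638), (2639, 1954), (2640, 1955), (2641, 1956), (2642, 3485), (2643, 3486), (2644, 3487), (2645, 2063), (2646, 3488), (2647, 2061), (2648, 2648), (2649, 2649), (2650, 2650), (2651, 2651), (2652, 2652), (2653, 1964), (2654, 1965), (2655, 1966), (2656, 1967), (2657, 1968), (2658, 3502), (2659, 3503), (2660, 3504), (2661, 3505), (2662, 3506), (2663, 2140), (2664, 2141), (2665, 2142), (2666, 2143), (2667, 3519), (2668, 2145), (2669, 2148), (2670, 2149), (2671, 3525), (2672, 2151), (2673, 1976), (2674, 3529), (2675, 2154), (2676, 2157), (2677, 2332), (2678, 2158), (2679, 1980), (2680, 3537), (2681, 2161), (2682, 2682), (2683, 1983), (2684, 3542), (2685, 3543), (2686, 2166), (2687, 2320)]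
    ⟨e3 q2624 L27601 q2624, e3 q2625 L27604 q1944, e3 q2626 (flp_b L579542) q2464, e3 q2627 (flp_b L39655) q3471, e3 q2628 L27632 q2628, e3 q2629 L27643 q2629, e3 q2630 L27652 q1948, e3 q2631 L27660 q1949, e3 q2632 (flp_b L39728) q3476, e3 q2633 L563381 q2260, e3 q2634 (flp_b L39745) q3477, e3 q2635 L27694 q2635, e3 q2636 L27704 q2636, e3 q2637 L27715 q2637, e3 q2638 L27728 q2638, e3 q2639 L27732 q1954, e3 q2640 L27741 q1955, e3 q2641 L27749 q1956, e3 q2642 (flp_b L39851) q3485, e3 q2643 (flp_b L39860) q3486, e3 q2644 (flp_b L39869) q3487, e3 q2645 (flp_b L563417) q2063, e3 q2646 (flp_b L39886) q3488, e3 q2647 (flp_b L563498) q2061, e3 q2648 L27812 q2648, e3 q2649 L27820 q2649, e3 q2650 L27830 q2650, e3 q2651 L27836 q2651, e3 q2652 L27843 q2652, e3 q2653 L27852 q1964, e3 q2654 L27859 q1965, e3 q2655 L27866 q1966, e3 q2656 L27874 q1967, e3 q2657 L27883 q1968, e3 q2658 (flp_b L40049) q3502, e3 q2659 (flp_b L40055) q3503, e3 q2660 (flp_b L40064) q3504, e3 q2661 (flp_b L40072) q3505, e3 q2662 (flp_b L40080) q3506, e3 q2663 L27931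 q2140, e3 q2664 L27942 q2141, e3 q2665 L27954 q2142, e3 q2666 L27965 q2143, e3 q2667 L40197 q3519, e3 q2668 L27984 q2145, e3 q2669 L27994 q2148, e3 q2670 L28006 q2149, e3 q2671 L40255 q3525, e3 q2672 L28027 q2151, e3 q2673 (flp_b L28034) q1976, e3 q2674 (flp_b L40298) q3529, e3 q2675 L28054 q2154, e3 q2676 L28065 q2157, e3 q2677 (flp_b L593237) q2332, e3 q2678 L28084 q2158, e3 q2679 (flp_b L28090) q1980, e3 q2680 (flp_b L40390) q3537, e3 q2681 L28110 q2161, e3 q2682 L28125 q2682, e3 q2683 L28128 q1983, e3 q2684 (flp_b L40435) q3542, e3 q2685 (flp_b L40440) q3543, e3 q2686 L28150 q2166, e3 q2687 (flp_b L593228) q2320, trivial⟩ (by decide +kernel)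

theorem ce_b_42 : ∀ r, r < 64 → sm gb (Qf (2688 + r)) = Qf (tab Gen.b (2688 + r)) :=
  edges_tab (sm gb) Qf (tab Gen.b) 2688 [(2688, 2167), (2689, 1986), (2690, 3550), (2691, 2170), (2692, 2692), (2693, 1989), (2694, 3555), (2695, 3556), (2696, 2175), (2697, 2296), (2698, 2176), (2699, 1994), (2700, 3564), (2701, 3565), (2702, 2180), (2703, 2703), (2704, 1998), (2705, 1999), (2706, 3573), (2707, 3574), (2708, 3575), (2709, 2187), (2710, 2097), (2711, 2310), (2712, 2188), (2713, 2004), (2714, 2005), (2715, 3586), (2716, 3587), (2717, 3588), (2718, 2193), (2719, 2719), (2720, 2720), (2721, 2043), (2722, 2010), (2723, 2011), (2724, 2012), (2725, 3600), (2726, 3601), (2727, 3602), (2728, 3603), (2729, 3604), (2730, 2730), (2731, 2015), (2732, 3611), (2733, 3612), (2734, 2209), (2735, 2735), (2736, 2019), (2737, 2020), (2738, 3620), (2739, 3621), (2740, 3622), (2741, 2216), (2742, 2742), (2743, 2024), (2744, 2025), (2745, 3631), (2746, 3632), (2747, 3633), (2748, 2223), (2749, 2749), (2750, 2750), (2751, 3572)]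
    ⟨e3 q2688 L28170 q2167, e3 q2689 (flp_b L28179) q1986, e3 q2690 (flp_b L40523) q3550, e3 q2691 L28201 q2170, e3 q2692 L28217 q2692, e3 q2693 L28220 q1989, e3 q2694 (flp_b L40574) q3555, e3 q2695 (flp_b L40581) q3556, e3 q2696 L28247 q2175, e3 q2697 (flp_b L593246) q2296, e3 q2698 L28276 q2176, e3 q2699 L28293 q1994, e3 q2700 (flp_b L40686) q3564, e3 q2701 (flp_b L40694) q3565, e3 q2702 L28320 q2180, e3 q2703 L28332 q2703, e3 q2704 L28340 q1998, e3 q2705 L28346 q1999, e3 q2706 (flp_b L40761) q3573, e3 q2707 (flp_b L40767) q3574, e3 q2708 (flp_b L40774) q3575, e3 q2709 L28377 q2187, e3 q2710 (flp_b L549496) q2097, e3 q2711 (flp_b L593379) q2310, e3 q2712 L28425 q2188, e3 q2713 L28444 q2004, e3 q2714 L28451 q2005, e3 q2715 (flp_b L40914) q3586, e3 q2716 (flp_b L40923) q3587, e3 q2717 (flp_b L40928) q3588, e3 q2718 L28486 q2193, e3 q2719 L28498 q2719, e3 q2720 L28504 q2720, e3 q2721 L28513 q2043, e3 q2722 L28519 q2010, e3 q2723 L28526 q2011, e3 q2724 L28532 q2012, e3 q2725 (flp_b L41027) q3600, e3 q2726 (flp_b L41033) q3601,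 e3 q2727 (flp_b L41039) q3602, e3 q2728 (flp_b L41047) q3603, e3 q2729 (flp_b L41053) q3604, e3 q2730 L28587 q2730, e3 q2731 L28590 q2015, e3 q2732 (flp_b L41116) q3611, e3 q2733 (flp_b L41125) q3612, e3 q2734 L28622 q2209, e3 q2735 L28633 q2735, e3 q2736 L28643 q2019, e3 q2737 L28650 q2020, e3 q2738 (flp_b L41202) q3620, e3 q2739 (flp_b L41210) q3621, e3 q2740 (flp_b L41219) q3622, e3 q2741 L28686 q2216, e3 q2742 L28698 q2742, e3 q2743 L28708 q2024, e3 q2744 L28716 q2025, e3 q2745 (flp_b L41297) q3631, e3 q2746 (flp_b L41305) q3632, e3 q2747 (flp_b L41312) q3633, e3 q2748 L28751 q2223, e3 q2749 L28763 q2749, e3 q2750 L28770 q2750, e3 q2751 (flp_b L40755) q3572, trivial⟩ (by decide +kernel)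

theorem ce_b_43 : ∀ r, r < 64 → sm gb (Qf (2752 + r)) = Qf (tab Gen.b (2752 + r)) :=
  edges_tab (sm gb) Qf (tab Gen.b) 2752 [(2752, 2030), (2753, 2031), (2754, 2032), (2755, 3645), (2756, 3646), (2757, 3647), (2758, 3648), (2759, 3649), (2760, 2760), (2761, 2761), (2762, 3585), (2763, 2037), (2764, 2038), (2765, 2039), (2766, 3661), (2767, 3662), (2768, 3663), (2769, 3664), (2770, 3665), (2771, 3671), (2772, 2772), (2773, 2773), (2774, 2774), (2775, 3598), (2776, 3599), (2777, 2047), (2778, 2048), (2779, 2049), (2780, 2050), (2781, 2051), (2782, 3684), (2783, 3685), (2784, 3686), (2785, 3687), (2786, 3688), (2787, 2787), (2788, 2788), (2789, 2789), (2790, 2058), (2791, 2059), (2792, 2060), (2793, 2062), (2794, 3701), (2795, 3702), (2796, 3703), (2797, 3704), (2798, 3494), (2799, 3493), (2800, 2800), (2801, 2801), (2802, 2802), (2803, 2803), (2804, 2804), (2805, 2805), (2806, 2806), (2807, 2074), (2808, 2075), (2809, 2076), (2810, 2077), (2811, 2078), (2812, 3723), (2813, 3724), (2814, 3725), (2815, 3726)]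
    ⟨e3 q2752 L28784 q2030, e3 q2753 L28790 q2031, e3 q2754 L28798 q2032, e3 q2755 (flp_b L41412) q3645, e3 q2756 (flp_b L41417) q3646, e3 q2757 (flp_b L41425) q3647, e3 q2758 (flp_b L41433) q3648, e3 q2759 (flp_b L41441) q3649, e3 q2760 L28846 q2760, e3 q2761 L28854 q2761, e3 q2762 (flp_b L40908) q3585, e3 q2763 L28872 q2037, e3 q2764 L28881 q2038, e3 q2765 L28887 q2039, e3 q2766 (flp_b L41538) q3661, e3 q2767 (flp_b L41547) q3662, e3 q2768 (flp_b L41555) q3663, e3 q2769 (flp_b L41563) q3664, e3 q2770 (flp_b L41571) q3665, e3 q2771 L41619 q3671, e3 q2772 L28947 q2772, e3 q2773 L28955 q2773, e3 q2774 L28963 q2774, e3 q2775 (flp_b L41011) q3598, e3 q2776 (flp_b L41020) q3599, e3 q2777 L28984 q2047, e3 q2778 L28991 q2048, e3 q2779 L28997 q2049, e3 q2780 L29006 q2050, e3 q2781 L29013 q2051, e3 q2782 (flp_b L41718) q3684, e3 q2783 (flp_b L41726) q3685, e3 q2784 (flp_b L41733) q3686, e3 q2785 (flp_b L41740) q3687, e3 q2786 (flp_b L41748) q3688, e3 q2787 L29070 q2787, e3 q2788 L29088 q2788, e3 q2789 L29097 q2789, e3 q2790 L29114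 q2058, e3 q2791 L29121 q2059, e3 q2792 L29130 q2060, e3 q2793 L29147 q2062, e3 q2794 (flp_b L41927) q3701, e3 q2795 (flp_b L41935) q3702, e3 q2796 (flp_b L41942) q3703, e3 q2797 (flp_b L41952) q3704, e3 q2798 (flp_b L563510) q3494, e3 q2799 (flp_b L563401) q3493, e3 q2800 L29229 q2800, e3 q2801 L29235 q2801, e3 q2802 L29243 q2802, e3 q2803 L29262 q2803, e3 q2804 L29271 q2804, e3 q2805 L29277 q2805, e3 q2806 L29285 q2806, e3 q2807 L29302 q2074, e3 q2808 L29308 q2075, e3 q2809 L29315 q2076, e3 q2810 L29323 q2077, e3 q2811 L29332 q2078, e3 q2812 (flp_b L42172) q3723, e3 q2813 (flp_b L42177) q3724, e3 q2814 (flp_b L42184) q3725, e3 q2815 (flp_b L42192) q3726, trivial⟩ (by decide +kernel)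

theorem ce_b_44 : ∀ r, r < 64 → sm gb (Qf (2816 + r)) = Qf (tab Gen.b (2816 + r)) :=
  edges_tab (sm gb) Qf (tab Gen.b) 2816 [(2816, 3727), (2817, 3728), (2818, 3729), (2819, 2819), (2820, 2820), (2821, 2821), (2822, 2082), (2823, 2083), (2824, 2084), (2825, 3744), (2826, 3745), (2827, 3746), (2828, 3747), (2829, 3748), (2830, 3561), (2831, 2831), (2832, 2832), (2833, 2833), (2834, 2834), (2835, 2835), (2836, 2092), (2837, 2093), (2838, 2094), (2839, 2095), (2840, 2096), (2841, 3766), (2842, 3767), (2843, 3768), (2844, 3769), (2845, 3770), (2846, 3581), (2847, 3582), (2848, 2848), (2849, 2849), (2850, 2850), (2851, 2851), (2852, 2852), (2853, 2853), (2854, 2854), (2855, 2855), (2856, 2856), (2857, 2857), (2858, 2108), (2859, 2109), (2860, 2110), (2861, 2111), (2862, 2112), (2863, 3795), (2864, 3796), (2865, 3797), (2866, 3798), (2867, 3799), (2868, 3800), (2869, 3801), (2870, 2870), (2871, 2871), (2872, 2872), (2873, 2873), (2874, 2874), (2875, 2123), (2876, 2124), (2877, 2125), (2878, 2126), (2879, 2127)]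
    ⟨e3 q2816 (flp_b L42199) q3727, e3 q2817 (flp_b L42206) q3728, e3 q2818 (flp_b L42216) q3729, e3 q2819 L29395 q2819, e3 q2820 L29405 q2820, e3 q2821 L29419 q2821, e3 q2822 L29424 q2082, e3 q2823 L29433 q2083, e3 q2824 L29441 q2084, e3 q2825 (flp_b L42347) q3744, e3 q2826 (flp_b L42356) q3745, e3 q2827 (flp_b L42364) q3746, e3 q2828 (flp_b L42372) q3747, e3 q2829 (flp_b L42381) q3748, e3 q2830 L549662 q3561, e3 q2831 L29506 q2831, e3 q2832 L29514 q2832, e3 q2833 L29522 q2833, e3 q2834 L29531 q2834, e3 q2835 L29539 q2835, e3 q2836 L29547 q2092, e3 q2837 L29554 q2093, e3 q2838 L29563 q2094, e3 q2839 L29569 q2095, e3 q2840 L29577 q2096, e3 q2841 (flp_b L42548) q3766, e3 q2842 (flp_b L42556) q3767, e3 q2843 (flp_b L42563) q3768, e3 q2844 (flp_b L42572) q3769, e3 q2845 (flp_b L42580) q3770, e3 q2846 L549488 q3581, e3 q2847 L549521 q3582, e3 q2848 L29655 q2848, e3 q2849 L29665 q2849, e3 q2850 L29673 q2850, e3 q2851 L29681 q2851, e3 q2852 L29689 q2852, e3 q2853 L29698 q2853, e3 q2854 L29707 q2854, e3 q2855 L29715 q2855, e3 q2856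 L29723 q2856, e3 q2857 L29729 q2857, e3 q2858 L29737 q2108, e3 q2859 L29746 q2109, e3 q2860 L29754 q2110, e3 q2861 L29762 q2111, e3 q2862 L29768 q2112, e3 q2863 (flp_b L42812) q3795, e3 q2864 (flp_b L42820) q3796, e3 q2865 (flp_b L42830) q3797, e3 q2866 (flp_b L42838) q3798, e3 q2867 (flp_b L42846) q3799, e3 q2868 (flp_b L42855) q3800, e3 q2869 (flp_b L42862) q3801, e3 q2870 L29834 q2870, e3 q2871 L29843 q2871, e3 q2872 L29853 q2872, e3 q2873 L29864 q2873, e3 q2874 L29873 q2874, e3 q2875 L29881 q2123, e3 q2876 L29889 q2124, e3 q2877 L29898 q2125, e3 q2878 L29907 q2126, e3 q2879 L29913 q2127, trivial⟩ (by decide +kernel)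

theorem ce_b_45 : ∀ r, r < 64 → sm gb (Qf (2880 + r)) = Qf (tab Gen.b (2880 + r)) :=
  edges_tab (sm gb) Qf (tab Gen.b) 2880 [(2880, 2128), (2881, 2129), (2882, 3817), (2883, 3818), (2884, 3819), (2885, 3820), (2886, 3821), (2887, 3833), (2888, 3823), (2889, 3824), (2890, 2890), (2891, 2891), (2892, 2892), (2893, 2893), (2894, 3836), (2895, 2135), (2896, 3838), (2897, 2897), (2898, 2898), (2899, 2899), (2900, 3514), (2901, 3515), (2902, 3516), (2903, 3846), (2904, 3518), (2905, 2144), (2906, 3850), (2907, 3521), (2908, 2908), (2909, 2909), (2910, 3522), (2911, 3524), (2912, 2150), (2913, 3856), (2914, 3527), (2915, 2331), (2916, 2153), (2917, 3861), (2918, 3862), (2919, 3532), (2920, 3534), (2921, 3536), (2922, 2160), (2923, 3869), (2924, 3870), (2925, 3540), (2926, 2339), (2927, 2164), (2928, 2165), (2929, 3877), (2930, 3878), (2931, 3879), (2932, 3547), (2933, 3549), (2934, 2169), (2935, 3885), (2936, 3886), (2937, 3553), (2938, 2294), (2939, 2173), (2940, 2174), (2941, 3893), (2942, 3894), (2943, 3895)]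
    ⟨e3 q2880 L29923 q2128, e3 q2881 L29932 q2129, e3 q2882 (flp_b L43000) q3817, e3 q2883 (flp_b L43009) q3818, e3 q2884 (flp_b L43018) q3819, e3 q2885 (flp_b L43028) q3820, e3 q2886 (flp_b L43034) q3821, e3 q2887 L43131 q3833, e3 q2888 (flp_b L43049) q3823, e3 q2889 (flp_b L43057) q3824, e3 q2890 L30009 q2890, e3 q2891 L30018 q2891, e3 q2892 L30027 q2892, e3 q2893 L30035 q2893, e3 q2894 L43222 q3836, e3 q2895 (flp_b L30076) q2135, e3 q2896 (flp_b L43256) q3838, e3 q2897 L30104 q2897, e3 q2898 L30114 q2898, e3 q2899 L30125 q2899, e3 q2900 (flp_b L40144) q3514, e3 q2901 (flp_b L40156) q3515, e3 q2902 (flp_b L40168) q3516, e3 q2903 L43380 q3846, e3 q2904 (flp_b L40189) q3518, e3 q2905 (flp_b L30197) q2144, e3 q2906 (flp_b L43421) q3850, e3 q2907 (flp_b L40218) q3521, e3 q2908 L30227 q2908, e3 q2909 L30238 q2909, e3 q2910 (flp_b L40227) q3522, e3 q2911 (flp_b L40248) q3524, e3 q2912 (flp_b L30299) q2150, e3 q2913 (flp_b L43568) q3856, e3 q2914 (flp_b L40277) q3527, e3 q2915 (flp_b L597586) q2331, e3 q2916 L30341 q2153, e3 q2917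 (flp_b L43616) q3861, e3 q2918 (flp_b L43623) q3862, e3 q2919 (flp_b L40324) q3532, e3 q2920 (flp_b L40341) q3534, e3 q2921 (flp_b L40371) q3536, e3 q2922 L30475 q2160, e3 q2923 (flp_b L43813) q3869, e3 q2924 (flp_b L43821) q3870, e3 q2925 (flp_b L40416) q3540, e3 q2926 (flp_b L597562) q2339, e3 q2927 L30519 q2164, e3 q2928 L30525 q2165, e3 q2929 (flp_b L43888) q3877, e3 q2930 (flp_b L43894) q3878, e3 q2931 (flp_b L43901) q3879, e3 q2932 (flp_b L40471) q3547, e3 q2933 (flp_b L40503) q3549, e3 q2934 L30628 q2169, e3 q2935 (flp_b L44042) q3885, e3 q2936 (flp_b L44052) q3886, e3 q2937 (flp_b L40554) q3553, e3 q2938 (flp_b L598104) q2294, e3 q2939 L30678 q2173, e3 q2940 L30686 q2174, e3 q2941 (flp_b L44129) q3893, e3 q2942 (flp_b L44137) q3894, e3 q2943 (flp_b L44146) q3895, trivial⟩ (by decide +kernel)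

theorem ce_b_46 : ∀ r, r < 64 → sm gb (Qf (2944 + r)) = Qf (tab Gen.b (2944 + r)) :=
  edges_tab (sm gb) Qf (tab Gen.b) 2944 [(2944, 3560), (2945, 3563), (2946, 2178), (2947, 2179), (2948, 3903), (2949, 3904), (2950, 3569), (2951, 2233), (2952, 2309), (2953, 2226), (2954, 2184), (2955, 2185), (2956, 2186), (2957, 3914), (2958, 3915), (2959, 3916), (2960, 3917), (2961, 3918), (2962, 3584), (2963, 2237), (2964, 2191), (2965, 2192), (2966, 3925), (2967, 3926), (2968, 3927), (2969, 3930), (2970, 2259), (2971, 2244), (2972, 2319), (2973, 2249), (2974, 2250), (2975, 2200), (2976, 2201), (2977, 2202), (2978, 2203), (2979, 2204), (2980, 3941), (2981, 3942), (2982, 3943), (2983, 3944), (2984, 3945), (2985, 2412), (2986, 2207), (2987, 2208), (2988, 3956), (2989, 3957), (2990, 3958), (2991, 3616), (2992, 2419), (2993, 2420), (2994, 3892), (2995, 2213), (2996, 2214), (2997, 2215), (2998, 3969), (2999, 3970), (3000, 3971), (3001, 3890), (3002, 3972), (3003, 2427), (3004, 2428), (3005, 3902), (3006, 2220), (3007, 2221)]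
    ⟨e3 q2944 (flp_b L40616) q3560, e3 q2945 (flp_b L40665) q3563, e3 q2946 L30814 q2178, e3 q2947 L30823 q2179, e3 q2948 (flp_b L44341) q3903, e3 q2949 (flp_b L44356) q3904, e3 q2950 (flp_b L40728) q3569, e3 q2951 L594134 q2233, e3 q2952 (flp_b L594645) q2309, e3 q2953 L30887 q2226, e3 q2954 L30891 q2184, e3 q2955 L30897 q2185, e3 q2956 L30905 q2186, e3 q2957 (flp_b L44463) q3914, e3 q2958 (flp_b L44468) q3915, e3 q2959 (flp_b L44476) q3916, e3 q2960 (flp_b L44483) q3917, e3 q2961 (flp_b L44491) q3918, e3 q2962 (flp_b L40876) q3584, e3 q2963 L31090 q2237, e3 q2964 L31094 q2191, e3 q2965 L31109 q2192, e3 q2966 (flp_b L44755) q3925, e3 q2967 (flp_b L44764) q3926, e3 q2968 (flp_b L44787) q3927, e3 q2969 L44844 q3930, e3 q2970 (flp_b L598264) q2259, e3 q2971 L591081 q2244, e3 q2972 (flp_b L594654) q2319, e3 q2973 L31198 q2249, e3 q2974 L31205 q2250, e3 q2975 L31213 q2200, e3 q2976 L31220 q2201, e3 q2977 L31226 q2202, e3 q2978 L31234 q2203, e3 q2979 L31241 q2204, e3 q2980 (flp_b L44951) q3941, e3 q2981 (flp_b L44958) q3942, e3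 q2982 (flp_b L44966) q3943, e3 q2983 (flp_b L44973) q3944, e3 q2984 (flp_b L44980) q3945, e3 q2985 L31297 q2412, e3 q2986 L31307 q2207, e3 q2987 L31317 q2208, e3 q2988 (flp_b L45086) q3956, e3 q2989 (flp_b L45096) q3957, e3 q2990 (flp_b L45105) q3958, e3 q2991 (flp_b L41164) q3616, e3 q2992 L31370 q2419, e3 q2993 L31380 q2420, e3 q2994 (flp_b L44125) q3892, e3 q2995 L31395 q2213, e3 q2996 L31403 q2214, e3 q2997 L31413 q2215, e3 q2998 (flp_b L45220) q3969, e3 q2999 (flp_b L45228) q3970, e3 q3000 (flp_b L45235) q3971, e3 q3001 (flp_b L594105) q3890, e3 q3002 (flp_b L45255) q3972, e3 q3003 L31470 q2427, e3 q3004 L31481 q2428, e3 q3005 (flp_b L44337) q3902, e3 q3006 L31496 q2220, e3 q3007 L31504 q2221, trivial⟩ (by decide +kernel)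

theorem ce_b_47 : ∀ r, r < 64 → sm gb (Qf (3008 + r)) = Qf (tab Gen.b (3008 + r)) :=
  edges_tab (sm gb) Qf (tab Gen.b) 3008 [(3008, 2222), (3009, 3979), (3010, 3980), (3011, 3981), (3012, 3910), (3013, 3982), (3014, 3978), (3015, 2435), (3016, 2436), (3017, 3912), (3018, 3913), (3019, 2230), (3020, 2231), (3021, 2232), (3022, 2234), (3023, 3996), (3024, 3997), (3025, 3998), (3026, 3999), (3027, 3909), (3028, 3932), (3029, 2444), (3030, 2445), (3031, 3924), (3032, 2246), (3033, 2241), (3034, 2242), (3035, 2243), (3036, 2245), (3037, 4009), (3038, 4010), (3039, 4011), (3040, 4012), (3041, 3935), (3042, 4008), (3043, 2453), (3044, 2454), (3045, 2455), (3046, 3937), (3047, 3938), (3048, 3939), (3049, 3940), (3050, 2255), (3051, 2256), (3052, 2257), (3053, 2258), (3054, 4031), (3055, 4032), (3056, 4033), (3057, 3933), (3058, 4034), (3059, 3934), (3060, 3480), (3061, 2465), (3062, 2466), (3063, 2467), (3064, 2468), (3065, 3065), (3066, 3066), (3067, 3067), (3068, 2270), (3069, 2271), (3070, 2272), (3071, 2273)]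
    ⟨e3 q3008 L31512 q2222, e3 q3009 (flp_b L45363) q3979, e3 q3010 (flp_b L45371) q3980, e3 q3011 (flp_b L45381) q3981, e3 q3012 (flp_b L591100) q3910, e3 q3013 (flp_b L45398) q3982, e3 q3014 (flp_b L576323) q3978, e3 q3015 L31578 q2435, e3 q3016 L31597 q2436, e3 q3017 (flp_b L44448) q3912, e3 q3018 (flp_b L44454) q3913, e3 q3019 L31617 q2230, e3 q3020 L31623 q2231, e3 q3021 L31631 q2232, e3 q3022 L31648 q2234, e3 q3023 (flp_b L45554) q3996, e3 q3024 (flp_b L45561) q3997, e3 q3025 (flp_b L45568) q3998, e3 q3026 (flp_b L45576) q3999, e3 q3027 (flp_b L591357) q3909, e3 q3028 L591089 q3932, e3 q3029 L31707 q2444, e3 q3030 L31727 q2445, e3 q3031 (flp_b L44738) q3924, e3 q3032 (flp_b L591006) q2246, e3 q3033 L31749 q2241, e3 q3034 L31759 q2242, e3 q3035 L31767 q2243, e3 q3036 L31784 q2245, e3 q3037 (flp_b L45765) q4009, e3 q3038 (flp_b L45775) q4010, e3 q3039 (flp_b L45783) q4011, e3 q3040 (flp_b L45792) q4012, e3 q3041 L598296 q3935, e3 q3042 (flp_b L590941) q4008, e3 q3043 L31861 q2453, e3 q3044 L31871 q2454, e3 q3045 L31900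 q2455, e3 q3046 (flp_b L44914) q3937, e3 q3047 (flp_b L44922) q3938, e3 q3048 (flp_b L44928) q3939, e3 q3049 (flp_b L44937) q3940, e3 q3050 L31937 q2255, e3 q3051 L31945 q2256, e3 q3052 L31954 q2257, e3 q3053 L31961 q2258, e3 q3054 (flp_b L46035) q4031, e3 q3055 (flp_b L46042) q4032, e3 q3056 (flp_b L46051) q4033, e3 q3057 (flp_b L580365) q3933, e3 q3058 (flp_b L46069) q4034, e3 q3059 L587411 q3934, e3 q3060 (flp_b L563362) q3480, e3 q3061 L32060 q2465, e3 q3062 L32070 q2466, e3 q3063 L32081 q2467, e3 q3064 L32092 q2468, e3 q3065 L32101 q3065, e3 q3066 L32110 q3066, e3 q3067 L32118 q3067, e3 q3068 L32134 q2270, e3 q3069 L32142 q2271, e3 q3070 L32151 q2272, e3 q3071 L32161 q2273, trivial⟩ (by decide +kernel)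

theorem ce_b_48 : ∀ r, r < 64 → sm gb (Qf (3072 + r)) = Qf (tab Gen.b (3072 + r)) :=
  edges_tab (sm gb) Qf (tab Gen.b) 3072 [(3072, 4048), (3073, 4049), (3074, 4050), (3075, 4051), (3076, 4052), (3077, 2275), (3078, 4058), (3079, 4059), (3080, 2485), (3081, 2486), (3082, 3082), (3083, 3083), (3084, 3084), (3085, 2283), (3086, 2284), (3087, 4069), (3088, 3548), (3089, 2493), (3090, 2494), (3091, 3091), (3092, 3092), (3093, 2291), (3094, 2292), (3095, 2293), (3096, 2295), (3097, 4078), (3098, 4079), (3099, 4080), (3100, 4081), (3101, 3891), (3102, 3562), (3103, 2502), (3104, 2503), (3105, 2504), (3106, 3106), (3107, 3107), (3108, 3108), (3109, 3109), (3110, 2305), (3111, 2306), (3112, 2307), (3113, 2308), (3114, 4095), (3115, 4096), (3116, 4097), (3117, 3875), (3118, 4098), (3119, 3911), (3120, 3583), (3121, 2511), (3122, 3122), (3123, 3123), (3124, 3124), (3125, 3125), (3126, 2318), (3127, 3936), (3128, 3523), (3129, 2512), (3130, 2513), (3131, 3131), (3132, 3132), (3133, 3133), (3134, 3134), (3135, 2328)]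
    ⟨e3 q3072 (flp_b L46292) q4048, e3 q3073 (flp_b L46300) q4049, e3 q3074 (flp_b L46309) q4050, e3 q3075 (flp_b L46318) q4051, e3 q3076 (flp_b L46326) q4052, e3 q3077 L32219 q2275, e3 q3078 (flp_b L46385) q4058, e3 q3079 (flp_b L46395) q4059, e3 q3080 L32246 q2485, e3 q3081 L32255 q2486, e3 q3082 L32264 q3082, e3 q3083 L32269 q3083, e3 q3084 L32277 q3084, e3 q3085 L32285 q2283, e3 q3086 L32292 q2284, e3 q3087 (flp_b L46474) q4069, e3 q3088 (flp_b L570286) q3548, e3 q3089 L32321 q2493, e3 q3090 L32343 q2494, e3 q3091 L32350 q3091, e3 q3092 L32358 q3092, e3 q3093 L32368 q2291, e3 q3094 L32378 q2292, e3 q3095 L32386 q2293, e3 q3096 L32404 q2295, e3 q3097 (flp_b L46620) q4078, e3 q3098 (flp_b L46628) q4079, e3 q3099 (flp_b L46638) q4080, e3 q3100 (flp_b L46648) q4081, e3 q3101 L598077 q3891, e3 q3102 (flp_b L592967) q3562, e3 q3103 L32491 q2502, e3 q3104 L32501 q2503, e3 q3105 L32531 q2504, e3 q3106 L32539 q3106, e3 q3107 L32547 q3107, e3 q3108 L32555 q3108, e3 q3109 L32562 q3109, e3 q3110 L32577 q2305, e3 q3111 L32586 q2306,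 e3 q3112 L32594 q2307, e3 q3113 L32603 q2308, e3 q3114 (flp_b L46916) q4095, e3 q3115 (flp_b L46925) q4096, e3 q3116 (flp_b L46934) q4097, e3 q3117 L593866 q3875, e3 q3118 (flp_b L46950) q4098, e3 q3119 (flp_b L594660) q3911, e3 q3120 L593401 q3583, e3 q3121 L32729 q2511, e3 q3122 L32758 q3122, e3 q3123 L32766 q3123, e3 q3124 L32774 q3124, e3 q3125 L32790 q3125, e3 q3126 L32802 q2318, e3 q3127 L594622 q3936, e3 q3128 (flp_b L593088) q3523, e3 q3129 L32859 q2512, e3 q3130 L32869 q2513, e3 q3131 L32900 q3131, e3 q3132 L32908 q3132, e3 q3133 L32917 q3133, e3 q3134 L32926 q3134, e3 q3135 L32943 q2328, trivial⟩ (by decide +kernel)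

theorem ce_b_49 : ∀ r, r < 64 → sm gb (Qf (3136 + r)) = Qf (tab Gen.b (3136 + r)) :=
  edges_tab (sm gb) Qf (tab Gen.b) 3136 [(3136, 2329), (3137, 2330), (3138, 4116), (3139, 4117), (3140, 4118), (3141, 3860), (3142, 3849), (3143, 3535), (3144, 3144), (3145, 3145), (3146, 3146), (3147, 3147), (3148, 2338), (3149, 4127), (3150, 3874), (3151, 3151), (3152, 2342), (3153, 2343), (3154, 4132), (3155, 4133), (3156, 2522), (3157, 2521), (3158, 3158), (3159, 3159), (3160, 3160), (3161, 2516), (3162, 3162), (3163, 2351), (3164, 4141), (3165, 4140), (3166, 3166), (3167, 3167), (3168, 2354), (3169, 3169), (3170, 3170), (3171, 2517), (3172, 2499), (3173, 3173), (3174, 2361), (3175, 2362), (3176, 4147), (3177, 4149), (3178, 4146), (3179, 3179), (3180, 3180), (3181, 3181), (3182, 3182), (3183, 2509), (3184, 2508), (3185, 3185), (3186, 3186), (3187, 2373), (3188, 2374), (3189, 2375), (3190, 4157), (3191, 4155), (3192, 4158), (3193, 4154), (3194, 3194), (3195, 2425), (3196, 2501), (3197, 3197), (3198, 2416), (3199, 2383)]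
    ⟨e3 q3136 L32952 q2329, e3 q3137 L32960 q2330, e3 q3138 (flp_b L47377) q4116, e3 q3139 (flp_b L47385) q4117, e3 q3140 (flp_b L47394) q4118, e3 q3141 (flp_b L594320) q3860, e3 q3142 L594306 q3849, e3 q3143 L593811 q3535, e3 q3144 L33100 q3144, e3 q3145 L33107 q3145, e3 q3146 L33115 q3146, e3 q3147 L33132 q3147, e3 q3148 L33147 q2338, e3 q3149 L47643 q4127, e3 q3150 (flp_b L578216) q3874, e3 q3151 L33212 q3151, e3 q3152 L33235 q2342, e3 q3153 L33244 q2343, e3 q3154 (flp_b L47750) q4132, e3 q3155 (flp_b L47759) q4133, e3 q3156 L572594 q2522, e3 q3157 L557899 q2521, e3 q3158 L33326 q3158, e3 q3159 L33335 q3159, e3 q3160 L33352 q3160, e3 q3161 L597684 q2516, e3 q3162 L33380 q3162, e3 q3163 L33397 q2351, e3 q3164 (flp_b L625543) q4141, e3 q3165 L625576 q4140, e3 q3166 L33420 q3166, e3 q3167 L33433 q3167, e3 q3168 L33438 q2354, e3 q3169 L33525 q3169, e3 q3170 L33553 q3170, e3 q3171 L597509 q2517, e3 q3172 L598032 q2499, e3 q3173 L33600 q3173, e3 q3174 L33616 q2361, e3 q3175 L33623 q2362, e3 q3176 L625724 q4147, e3 q3177 (flp_b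 L48330) q4149, e3 q3178 L626931 q4146, e3 q3179 L33654 q3179, e3 q3180 L33664 q3180, e3 q3181 L33787 q3181, e3 q3182 L33826 q3182, e3 q3183 (flp_b L597517) q2509, e3 q3184 L597939 q2508, e3 q3185 L33881 q3185, e3 q3186 L33906 q3186, e3 q3187 L33910 q2373, e3 q3188 L33916 q2374, e3 q3189 L33923 q2375, e3 q3190 (flp_b L48766) q4157, e3 q3191 L625834 q4155, e3 q3192 (flp_b L48780) q4158, e3 q3193 (flp_b L625789) q4154, e3 q3194 L34045 q3194, e3 q3195 L600590 q2425, e3 q3196 (flp_b L598671) q2501, e3 q3197 L34107 q3197, e3 q3198 L589404 q2416, e3 q3199 L34142 q2383, trivial⟩ (by decide +kernel)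

theorem ce_b_50 : ∀ r, r < 64 → sm gb (Qf (3200 + r)) = Qf (tab Gen.b (3200 + r)) :=
  edges_tab (sm gb) Qf (tab Gen.b) 3200 [(3200, 2384), (3201, 2385), (3202, 4161), (3203, 4160), (3204, 4163), (3205, 4153), (3206, 3206), (3207, 2441), (3208, 2443), (3209, 2510), (3210, 2433), (3211, 2395), (3212, 2396), (3213, 2397), (3214, 2398), (3215, 4165), (3216, 4168), (3217, 4164), (3218, 4169), (3219, 2460), (3220, 2461), (3221, 2450), (3222, 2452), (3223, 2408), (3224, 2409), (3225, 2410), (3226, 2411), (3227, 4171), (3228, 4170), (3229, 4175), (3230, 4176), (3231, 4177), (3232, 3953), (3233, 3954), (3234, 2415), (3235, 2417), (3236, 4180), (3237, 4181), (3238, 4162), (3239, 4182), (3240, 3965), (3241, 3966), (3242, 2423), (3243, 2424), (3244, 2426), (3245, 3975), (3246, 3976), (3247, 2431), (3248, 2432), (3249, 2434), (3250, 4189), (3251, 4166), (3252, 4190), (3253, 4167), (3254, 3989), (3255, 3990), (3256, 3991), (3257, 2440), (3258, 2442), (3259, 4003), (3260, 4004), (3261, 4005), (3262, 2449), (3263, 2451)]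
    ⟨e3 q3200 L34150 q2384, e3 q3201 L34159 q2385, e3 q3202 L626154 q4161, e3 q3203 L626144 q4160, e3 q3204 (flp_b L49136) q4163, e3 q3205 L625987 q4153, e3 q3206 L34316 q3206, e3 q3207 (flp_b L599434) q2441, e3 q3208 L600466 q2443, e3 q3209 (flp_b L598486) q2510, e3 q3210 L600548 q2433, e3 q3211 L34461 q2395, e3 q3212 L34466 q2396, e3 q3213 L34474 q2397, e3 q3214 L34489 q2398, e3 q3215 (flp_b L626602) q4165, e3 q3216 (flp_b L49625) q4168, e3 q3217 L626634 q4164, e3 q3218 (flp_b L49640) q4169, e3 q3219 (flp_b L560344) q2460, e3 q3220 L598477 q2461, e3 q3221 L589771 q2450, e3 q3222 L600434 q2452, e3 q3223 L34941 q2408, e3 q3224 L34948 q2409, e3 q3225 L34956 q2410, e3 q3226 L34963 q2411, e3 q3227 (flp_b L626610) q4171, e3 q3228 L626643 q4170, e3 q3229 (flp_b L50362) q4175, e3 q3230 (flp_b L50370) q4176, e3 q3231 (flp_b L50386) q4177, e3 q3232 (flp_b L45056) q3953, e3 q3233 (flp_b L45068) q3954, e3 q3234 L35060 q2415, e3 q3235 L35079 q2417, e3 q3236 (flp_b L50512) q4180, e3 q3237 (flp_b L50522) q4181, e3 q3238 (flp_b L600567)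 q4162, e3 q3239 (flp_b L50551) q4182, e3 q3240 (flp_b L45176) q3965, e3 q3241 (flp_b L45198) q3966, e3 q3242 L35182 q2423, e3 q3243 L35190 q2424, e3 q3244 L35217 q2426, e3 q3245 (flp_b L45320) q3975, e3 q3246 (flp_b L45340) q3976, e3 q3247 L35313 q2431, e3 q3248 L35321 q2432, e3 q3249 L35348 q2434, e3 q3250 (flp_b L50912) q4189, e3 q3251 (flp_b L599496) q4166, e3 q3252 (flp_b L50928) q4190, e3 q3253 (flp_b L599504) q4167, e3 q3254 (flp_b L45476) q3989, e3 q3255 (flp_b L45484) q3990, e3 q3256 (flp_b L45515) q3991, e3 q3257 L35488 q2440, e3 q3258 L35502 q2442, e3 q3259 (flp_b L45679) q4003, e3 q3260 (flp_b L45691) q4004, e3 q3261 (flp_b L45722) q4005, e3 q3262 L35678 q2449, e3 q3263 L35696 q2451, trivial⟩ (by decide +kernel)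

theorem ce_b_51 : ∀ r, r < 64 → sm gb (Qf (3264 + r)) = Qf (tab Gen.b (3264 + r)) :=
  edges_tab (sm gb) Qf (tab Gen.b) 3264 [(3264, 4195), (3265, 4196), (3266, 4173), (3267, 4172), (3268, 4174), (3269, 4022), (3270, 4023), (3271, 2458), (3272, 2459), (3273, 2463), (3274, 4200), (3275, 4201), (3276, 3472), (3277, 4039), (3278, 4040), (3279, 4041), (3280, 4042), (3281, 3281), (3282, 3282), (3283, 3283), (3284, 3284), (3285, 3285), (3286, 3286), (3287, 2477), (3288, 2478), (3289, 2479), (3290, 2480), (3291, 2481), (3292, 4197), (3293, 4218), (3294, 4219), (3295, 4220), (3296, 3296), (3297, 2483), (3298, 2484), (3299, 4222), (3300, 4223), (3301, 4224), (3302, 4063), (3303, 4064), (3304, 3304), (3305, 3305), (3306, 3306), (3307, 2492), (3308, 4071), (3309, 4072), (3310, 4073), (3311, 2498), (3312, 2500), (3313, 4086), (3314, 4087), (3315, 2507), (3316, 4109), (3317, 2515), (3318, 3318), (3319, 4136), (3320, 3320), (3321, 3321), (3322, 3322), (3323, 3323), (3324, 4239), (3325, 3325), (3326, 3326), (3327, 4244)]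
    ⟨e3 q3264 (flp_b L51443) q4195, e3 q3265 (flp_b L51452) q4196, e3 q3266 (flp_b L589797) q4173, e3 q3267 L560711 q4172, e3 q3268 (flp_b L600412) q4174, e3 q3269 (flp_b L45928) q4022, e3 q3270 (flp_b L45949) q4023, e3 q3271 L35927 q2458, e3 q3272 L35934 q2459, e3 q3273 L36013 q2463, e3 q3274 (flp_b L51901) q4200, e3 q3275 (flp_b L51910) q4201, e3 q3276 L579570 q3472, e3 q3277 (flp_b L46190) q4039, e3 q3278 (flp_b L46200) q4040, e3 q3279 (flp_b L46211) q4041, e3 q3280 (flp_b L46223) q4042, e3 q3281 L36105 q3281, e3 q3282 L36113 q3282, e3 q3283 L36122 q3283, e3 q3284 L36132 q3284, e3 q3285 L36142 q3285, e3 q3286 L36151 q3286, e3 q3287 L36169 q2477, e3 q3288 L36177 q2478, e3 q3289 L36186 q2479, e3 q3290 L36195 q2480, e3 q3291 L36203 q2481, e3 q3292 (flp_b L623921) q4197, e3 q3293 (flp_b L52143) q4218, e3 q3294 (flp_b L52152) q4219, e3 q3295 (flp_b L52162) q4220, e3 q3296 L429020 q3296, e3 q3297 L36252 q2483, e3 q3298 L36260 q2484, e3 q3299 (flp_b L52221) q4222, e3 q3300 (flp_b L52229) q4223, e3 q3301 (flp_b L52237) q4224,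 e3 q3302 (flp_b L46429) q4063, e3 q3303 (flp_b L46438) q4064, e3 q3304 L36308 q3304, e3 q3305 L36321 q3305, e3 q3306 L36329 q3306, e3 q3307 L36338 q2492, e3 q3308 (flp_b L46524) q4071, e3 q3309 (flp_b L46536) q4072, e3 q3310 (flp_b L46568) q4073, e3 q3311 L36475 q2498, e3 q3312 L36493 q2500, e3 q3313 (flp_b L46798) q4086, e3 q3314 (flp_b L46819) q4087, e3 q3315 L36750 q2507, e3 q3316 (flp_b L47264) q4109, e3 q3317 L37192 q2515, e3 q3318 L37672 q3318, e3 q3319 L557847 q4136, e3 q3320 L498524 q3320, e3 q3321 L38303 q3321, e3 q3322 L38314 q3322, e3 q3323 L38325 q3323, e3 q3324 L55077 q4239, e3 q3325 L38342 q3325, e3 q3326 L38351 q3326, e3 q3327 L55123 q4244, trivial⟩ (by decide +kernel)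

theorem ce_b_52 : ∀ r, r < 64 → sm gb (Qf (3328 + r)) = Qf (tab Gen.b (3328 + r)) :=
  edges_tab (sm gb) Qf (tab Gen.b) 3328 [(3328, 3328), (3329, 2530), (3330, 4248), (3331, 3331), (3332, 2532), (3333, 4253), (3334, 3334), (3335, 3335), (3336, 2535), (3337, 4258), (3338, 4259), (3339, 3339), (3340, 3340), (3341, 2539), (3342, 2540), (3343, 4267), (3344, 4268), (3345, 4269), (3346, 3346), (3347, 3347), (3348, 4277), (3349, 3349), (3350, 4280), (3351, 3351), (3352, 2545), (3353, 4284), (3354, 3354), (3355, 2547), (3356, 4288), (3357, 3357), (3358, 3358), (3359, 2550), (3360, 4293), (3361, 4294), (3362, 3362), (3363, 2552), (3364, 4299), (3365, 3365), (3366, 3366), (3367, 2555), (3368, 4304), (3369, 4305), (3370, 3370), (3371, 2558), (3372, 4310), (3373, 4311), (3374, 3374), (3375, 3375), (3376, 2562), (3377, 2563), (3378, 4319), (3379, 4320), (3380, 4321), (3381, 3381), (3382, 2566), (3383, 2567), (3384, 4328), (3385, 4329), (3386, 4330), (3387, 3387), (3388, 3388), (3389, 3389), (3390, 2615), (3391, 2572)]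
    ⟨e3 q3328 L38373 q3328, e3 q3329 (flp_b L38379) q2530, e3 q3330 (flp_b L55168) q4248, e3 q3331 L38401 q3331, e3 q3332 (flp_b L38407) q2532, e3 q3333 (flp_b L55214) q4253, e3 q3334 L38431 q3334, e3 q3335 L38447 q3335, e3 q3336 L38450 q2535, e3 q3337 (flp_b L55264) q4258, e3 q3338 (flp_b L55272) q4259, e3 q3339 L38477 q3339, e3 q3340 L38488 q3340, e3 q3341 L38496 q2539, e3 q3342 L38503 q2540, e3 q3343 (flp_b L55342) q4267, e3 q3344 (flp_b L55350) q4268, e3 q3345 (flp_b L55358) q4269, e3 q3346 L38539 q3346, e3 q3347 L38549 q3347, e3 q3348 L55431 q4277, e3 q3349 L38569 q3349, e3 q3350 L55455 q4280, e3 q3351 L38589 q3351, e3 q3352 (flp_b L38596) q2545, e3 q3353 (flp_b L55501) q4284, e3 q3354 L38615 q3354, e3 q3355 (flp_b L38621) q2547, e3 q3356 (flp_b L55544) q4288, e3 q3357 L38644 q3357, e3 q3358 L38659 q3358, e3 q3359 L38662 q2550, e3 q3360 (flp_b L55590) q4293, e3 q3361 (flp_b L55597) q4294, e3 q3362 L38683 q3362, e3 q3363 (flp_b L38688) q2552, e3 q3364 (flp_b L55645) q4299, e3 q3365 L38713 q3365, e3 q3366 L38729 q3366,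 e3 q3367 L38732 q2555, e3 q3368 (flp_b L55697) q4304, e3 q3369 (flp_b L55706) q4305, e3 q3370 L38758 q3370, e3 q3371 L38775 q2558, e3 q3372 (flp_b L55758) q4310, e3 q3373 (flp_b L55768) q4311, e3 q3374 L38805 q3374, e3 q3375 L38817 q3375, e3 q3376 L38823 q2562, e3 q3377 L38831 q2563, e3 q3378 (flp_b L55840) q4319, e3 q3379 (flp_b L55846) q4320, e3 q3380 (flp_b L55854) q4321, e3 q3381 L38860 q3381, e3 q3382 L38877 q2566, e3 q3383 L38886 q2567, e3 q3384 (flp_b L55931) q4328, e3 q3385 (flp_b L55940) q4329, e3 q3386 (flp_b L55948) q4330, e3 q3387 L38925 q3387, e3 q3388 L38937 q3388, e3 q3389 L38945 q3389, e3 q3390 L38954 q2615, e3 q3391 L38959 q2572, trivial⟩ (by decide +kernel)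

theorem ce_b_53 : ∀ r, r < 64 → sm gb (Qf (3392 + r)) = Qf (tab Gen.b (3392 + r)) :=
  edges_tab (sm gb) Qf (tab Gen.b) 3392 [(3392, 2573), (3393, 2574), (3394, 4342), (3395, 4343), (3396, 4344), (3397, 4345), (3398, 4346), (3399, 2576), (3400, 4353), (3401, 3401), (3402, 3402), (3403, 2579), (3404, 4358), (3405, 4359), (3406, 3406), (3407, 3407), (3408, 2583), (3409, 2584), (3410, 4367), (3411, 4368), (3412, 4369), (3413, 3413), (3414, 3414), (3415, 2587), (3416, 4376), (3417, 4377), (3418, 3418), (3419, 3419), (3420, 2591), (3421, 2592), (3422, 4385), (3423, 4386), (3424, 4387), (3425, 3425), (3426, 3426), (3427, 3427), (3428, 4318), (3429, 2597), (3430, 2598), (3431, 2599), (3432, 4399), (3433, 4400), (3434, 4401), (3435, 4402), (3436, 4403), (3437, 3437), (3438, 2603), (3439, 2604), (3440, 4412), (3441, 4413), (3442, 4414), (3443, 3443), (3444, 3444), (3445, 3445), (3446, 4327), (3447, 2609), (3448, 2610), (3449, 2611), (3450, 4426), (3451, 4427), (3452, 4428), (3453, 4429), (3454, 4430), (3455, 4436)]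
    ⟨e3 q3392 L38966 q2573, e3 q3393 L38973 q2574, e3 q3394 (flp_b L56055) q4342, e3 q3395 (flp_b L56063) q4343, e3 q3396 (flp_b L56069) q4344, e3 q3397 (flp_b L56076) q4345, e3 q3398 (flp_b L56083) q4346, e3 q3399 (flp_b L39016) q2576, e3 q3400 (flp_b L56143) q4353, e3 q3401 L39041 q3401, e3 q3402 L39060 q3402, e3 q3403 L39063 q2579, e3 q3404 (flp_b L56195) q4358, e3 q3405 (flp_b L56206) q4359, e3 q3406 L39094 q3406, e3 q3407 L39103 q3407, e3 q3408 L39111 q2583, e3 q3409 L39120 q2584, e3 q3410 (flp_b L56280) q4367, e3 q3411 (flp_b L56288) q4368, e3 q3412 (flp_b L56298) q4369, e3 q3413 L39154 q3413, e3 q3414 L39170 q3414, e3 q3415 L39173 q2587, e3 q3416 (flp_b L56358) q4376, e3 q3417 (flp_b L56366) q4377, e3 q3418 L39201 q3418, e3 q3419 L39213 q3419, e3 q3420 L39221 q2591, e3 q3421 L39231 q2592, e3 q3422 (flp_b L56442) q4385, e3 q3423 (flp_b L56450) q4386, e3 q3424 (flp_b L56458) q4387, e3 q3425 L39264 q3425, e3 q3426 L39274 q3426, e3 q3427 L39283 q3427, e3 q3428 (flp_b L55835) q4318, e3 q3429 L39296 q2597, e3 q3430 L39302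 q2598, e3 q3431 L39311 q2599, e3 q3432 (flp_b L56558) q4399, e3 q3433 (flp_b L56565) q4400, e3 q3434 (flp_b L56573) q4401, e3 q3435 (flp_b L56580) q4402, e3 q3436 (flp_b L56589) q4403, e3 q3437 L39358 q3437, e3 q3438 L39366 q2603, e3 q3439 L39373 q2604, e3 q3440 (flp_b L56659) q4412, e3 q3441 (flp_b L56667) q4413, e3 q3442 (flp_b L56675) q4414, e3 q3443 L39411 q3443, e3 q3444 L39423 q3444, e3 q3445 L39433 q3445, e3 q3446 (flp_b L55926) q4327, e3 q3447 L39450 q2609, e3 q3448 L39459 q2610, e3 q3449 L39466 q2611, e3 q3450 (flp_b L56783) q4426, e3 q3451 (flp_b L56794) q4427, e3 q3452 (flp_b L56802) q4428, e3 q3453 (flp_b L56809) q4429, e3 q3454 (flp_b L56818) q4430, e3 q3455 L56864 q4436, trivial⟩ (by decide +kernel)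

theorem ce_b_54 : ∀ r, r < 64 → sm gb (Qf (3456 + r)) = Qf (tab Gen.b (3456 + r)) :=
  edges_tab (sm gb) Qf (tab Gen.b) 3456 [(3456, 3456), (3457, 3457), (3458, 3458), (3459, 4340), (3460, 4341), (3461, 2619), (3462, 2620), (3463, 2621), (3464, 2622), (3465, 2623), (3466, 4449), (3467, 4450), (3468, 4451), (3469, 4452), (3470, 4453), (3471, 2627), (3472, 3276), (3473, 4461), (3474, 3474), (3475, 3475), (3476, 2632), (3477, 2634), (3478, 4466), (3479, 4467), (3480, 3060), (3481, 4468), (3482, 3482), (3483, 3483), (3484, 3484), (3485, 2642), (3486, 2643), (3487, 2644), (3488, 2646), (3489, 4478), (3490, 4479), (3491, 4480), (3492, 4481), (3493, 2799), (3494, 2798), (3495, 3495), (3496, 3496), (3497, 3497), (3498, 3498), (3499, 3499), (3500, 3500), (3501, 3501), (3502, 2658), (3503, 2659), (3504, 2660), (3505, 2661), (3506, 2662), (3507, 4500), (3508, 4501), (3509, 4502), (3510, 4503), (3511, 4504), (3512, 4505), (3513, 4506), (3514, 2900), (3515, 2901), (3516, 2902), (3517, 4519), (3518, 2904), (3519, 2667)]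
    ⟨e3 q3456 L39526 q3456, e3 q3457 L39534 q3457, e3 q3458 L39543 q3458, e3 q3459 (flp_b L56038) q4340, e3 q3460 (flp_b L56046) q4341, e3 q3461 L39563 q2619, e3 q3462 L39572 q2620, e3 q3463 L39578 q2621, e3 q3464 L39586 q2622, e3 q3465 L39594 q2623, e3 q3466 (flp_b L56966) q4449, e3 q3467 (flp_b L56974) q4450, e3 q3468 (flp_b L56983) q4451, e3 q3469 (flp_b L56990) q4452, e3 q3470 (flp_b L56997) q4453, e3 q3471 L39655 q2627, e3 q3472 (flp_b L579570) q3276, e3 q3473 (flp_b L57101) q4461, e3 q3474 L39692 q3474, e3 q3475 L39713 q3475, e3 q3476 L39728 q2632, e3 q3477 L39745 q2634, e3 q3478 (flp_b L57209) q4466, e3 q3479 (flp_b L57216) q4467, e3 q3480 L563362 q3060, e3 q3481 (flp_b L57243) q4468, e3 q3482 L39807 q3482, e3 q3483 L39826 q3483, e3 q3484 L39833 q3484, e3 q3485 L39851 q2642, e3 q3486 L39860 q2643, e3 q3487 L39869 q2644, e3 q3488 L39886 q2646, e3 q3489 (flp_b L57415) q4478, e3 q3490 (flp_b L57423) q4479, e3 q3491 (flp_b L57432) q4480, e3 q3492 (flp_b L57442) q4481, e3 q3493 L563401 q2799, e3 q3494 L563510 q2798, e3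 q3495 L39967 q3495, e3 q3496 L39975 q3496, e3 q3497 L39983 q3497, e3 q3498 L40002 q3498, e3 q3499 L40009 q3499, e3 q3500 L40017 q3500, e3 q3501 L40024 q3501, e3 q3502 L40049 q2658, e3 q3503 L40055 q2659, e3 q3504 L40064 q2660, e3 q3505 L40072 q2661, e3 q3506 L40080 q2662, e3 q3507 (flp_b L57690) q4500, e3 q3508 (flp_b L57697) q4501, e3 q3509 (flp_b L57704) q4502, e3 q3510 (flp_b L57712) q4503, e3 q3511 (flp_b L57720) q4504, e3 q3512 (flp_b L57729) q4505, e3 q3513 (flp_b L57738) q4506, e3 q3514 L40144 q2900, e3 q3515 L40156 q2901, e3 q3516 L40168 q2902, e3 q3517 L57853 q4519, e3 q3518 L40189 q2904, e3 q3519 (flp_b L40197) q2667, trivial⟩ (by decide +kernel)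

theorem ce_b_55 : ∀ r, r < 64 → sm gb (Qf (3520 + r)) = Qf (tab Gen.b (3520 + r)) :=
  edges_tab (sm gb) Qf (tab Gen.b) 3520 [(3520, 4523), (3521, 2907), (3522, 2910), (3523, 3128), (3524, 2911), (3525, 2671), (3526, 4531), (3527, 2914), (3528, 3528), (3529, 2674), (3530, 4536), (3531, 4537), (3532, 2919), (3533, 3533), (3534, 2920), (3535, 3143), (3536, 2921), (3537, 2680), (3538, 4547), (3539, 4548), (3540, 2925), (3541, 3541), (3542, 2684), (3543, 2685), (3544, 4556), (3545, 4557), (3546, 4558), (3547, 2932), (3548, 3088), (3549, 2933), (3550, 2690), (3551, 4567), (3552, 4568), (3553, 2937), (3554, 3554), (3555, 2694), (3556, 2695), (3557, 4576), (3558, 4577), (3559, 4578), (3560, 2944), (3561, 2830), (3562, 3102), (3563, 2945), (3564, 2700), (3565, 2701), (3566, 4589), (3567, 4590), (3568, 4591), (3569, 2950), (3570, 3570), (3571, 3571), (3572, 2751), (3573, 2706), (3574, 2707), (3575, 2708), (3576, 4603), (3577, 4604), (3578, 4605), (3579, 4606), (3580, 4607), (3581, 2846), (3582, 2847), (3583, 3120)]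
    ⟨e3 q3520 (flp_b L57895) q4523, e3 q3521 L40218 q2907, e3 q3522 L40227 q2910, e3 q3523 L593088 q3128, e3 q3524 L40248 q2911, e3 q3525 (flp_b L40255) q2671, e3 q3526 (flp_b L57995) q4531, e3 q3527 L40277 q2914, e3 q3528 L40295 q3528, e3 q3529 L40298 q2674, e3 q3530 (flp_b L58044) q4536, e3 q3531 (flp_b L58050) q4537, e3 q3532 L40324 q2919, e3 q3533 L435893 q3533, e3 q3534 L40341 q2920, e3 q3535 (flp_b L593811) q3143, e3 q3536 L40371 q2921, e3 q3537 L40390 q2680, e3 q3538 (flp_b L58181) q4547, e3 q3539 (flp_b L58188) q4548, e3 q3540 L40416 q2925, e3 q3541 L40428 q3541, e3 q3542 L40435 q2684, e3 q3543 L40440 q2685, e3 q3544 (flp_b L58254) q4556, e3 q3545 (flp_b L58260) q4557, e3 q3546 (flp_b L58266) q4558, e3 q3547 L40471 q2932, e3 q3548 L570286 q3088, e3 q3549 L40503 q2933, e3 q3550 L40523 q2690, e3 q3551 (flp_b L58376) q4567, e3 q3552 (flp_b L58385) q4568, e3 q3553 L40554 q2937, e3 q3554 L40565 q3554, e3 q3555 L40574 q2694, e3 q3556 L40581 q2695, e3 q3557 (flp_b L58461) q4576, e3 q3558 (flp_b L58469) q4577, e3 q3559 (flp_b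 L58477) q4578, e3 q3560 L40616 q2944, e3 q3561 (flp_b L549662) q2830, e3 q3562 L592967 q3102, e3 q3563 L40665 q2945, e3 q3564 L40686 q2700, e3 q3565 L40694 q2701, e3 q3566 (flp_b L58622) q4589, e3 q3567 (flp_b L58630) q4590, e3 q3568 (flp_b L58636) q4591, e3 q3569 L40728 q2950, e3 q3570 L40740 q3570, e3 q3571 L40747 q3571, e3 q3572 L40755 q2751, e3 q3573 L40761 q2706, e3 q3574 L40767 q2707, e3 q3575 L40774 q2708, e3 q3576 (flp_b L58738) q4603, e3 q3577 (flp_b L58742) q4604, e3 q3578 (flp_b L58750) q4605, e3 q3579 (flp_b L58757) q4606, e3 q3580 (flp_b L58764) q4607, e3 q3581 (flp_b L549488) q2846, e3 q3582 (flp_b L549521) q2847, e3 q3583 (flp_b L593401) q3120, trivial⟩ (by decide +kernel)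

theorem ce_b_56 : ∀ r, r < 64 → sm gb (Qf (3584 + r)) = Qf (tab Gen.b (3584 + r)) :=
  edges_tab (sm gb) Qf (tab Gen.b) 3584 [(3584, 2962), (3585, 2762), (3586, 2715), (3587, 2716), (3588, 2717), (3589, 4620), (3590, 4621), (3591, 4622), (3592, 4623), (3593, 4624), (3594, 4630), (3595, 3595), (3596, 3596), (3597, 3597), (3598, 2775), (3599, 2776), (3600, 2725), (3601, 2726), (3602, 2727), (3603, 2728), (3604, 2729), (3605, 4643), (3606, 4644), (3607, 4645), (3608, 4646), (3609, 4647), (3610, 3610), (3611, 2732), (3612, 2733), (3613, 4658), (3614, 4659), (3615, 4660), (3616, 2991), (3617, 3617), (3618, 3618), (3619, 4575), (3620, 2738), (3621, 2739), (3622, 2740), (3623, 4672), (3624, 4673), (3625, 4674), (3626, 4675), (3627, 4676), (3628, 3628), (3629, 3629), (3630, 4588), (3631, 2745), (3632, 2746), (3633, 2747), (3634, 4688), (3635, 4689), (3636, 4690), (3637, 4691), (3638, 4692), (3639, 4698), (3640, 3640), (3641, 3641), (3642, 3642), (3643, 4601), (3644, 4602), (3645, 2755), (3646, 2756), (3647, 2757)]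
    ⟨e3 q3584 L40876 q2962, e3 q3585 L40908 q2762, e3 q3586 L40914 q2715, e3 q3587 L40923 q2716, e3 q3588 L40928 q2717, e3 q3589 (flp_b L58964) q4620, e3 q3590 (flp_b L58972) q4621, e3 q3591 (flp_b L58980) q4622, e3 q3592 (flp_b L58987) q4623, e3 q3593 (flp_b L58994) q4624, e3 q3594 L59047 q4630, e3 q3595 L40989 q3595, e3 q3596 L40997 q3596, e3 q3597 L41004 q3597, e3 q3598 L41011 q2775, e3 q3599 L41020 q2776, e3 q3600 L41027 q2725, e3 q3601 L41033 q2726, e3 q3602 L41039 q2727, e3 q3603 L41047 q2728, e3 q3604 L41053 q2729, e3 q3605 (flp_b L59152) q4643, e3 q3606 (flp_b L59159) q4644, e3 q3607 (flp_b L59166) q4645, e3 q3608 (flp_b L59173) q4646, e3 q3609 (flp_b L59180) q4647, e3 q3610 L41105 q3610, e3 q3611 L41116 q2732, e3 q3612 L41125 q2733, e3 q3613 (flp_b L59275) q4658, e3 q3614 (flp_b L59285) q4659, e3 q3615 (flp_b L59293) q4660, e3 q3616 L41164 q2991, e3 q3617 L41177 q3617, e3 q3618 L41185 q3618, e3 q3619 (flp_b L58455) q4575, e3 q3620 L41202 q2738, e3 q3621 L41210 q2739, e3 q3622 L41219 q2740, e3 q3623 (flp_b L59403)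 q4672, e3 q3624 (flp_b L59410) q4673, e3 q3625 (flp_b L59417) q4674, e3 q3626 (flp_b L59427) q4675, e3 q3627 (flp_b L59436) q4676, e3 q3628 L41271 q3628, e3 q3629 L41280 q3629, e3 q3630 (flp_b L58616) q4588, e3 q3631 L41297 q2745, e3 q3632 L41305 q2746, e3 q3633 L41312 q2747, e3 q3634 (flp_b L59540) q4688, e3 q3635 (flp_b L59547) q4689, e3 q3636 (flp_b L59557) q4690, e3 q3637 (flp_b L59564) q4691, e3 q3638 (flp_b L59573) q4692, e3 q3639 L59621 q4698, e3 q3640 L41374 q3640, e3 q3641 L41381 q3641, e3 q3642 L41390 q3642, e3 q3643 (flp_b L58722) q4601, e3 q3644 (flp_b L58730) q4602, e3 q3645 L41412 q2755, e3 q3646 L41417 q2756, e3 q3647 L41425 q2757, trivial⟩ (by decide +kernel)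

theorem ce_b_57 : ∀ r, r < 64 → sm gb (Qf (3648 + r)) = Qf (tab Gen.b (3648 + r)) :=
  edges_tab (sm gb) Qf (tab Gen.b) 3648 [(3648, 2758), (3649, 2759), (3650, 4711), (3651, 4712), (3652, 4713), (3653, 4714), (3654, 4715), (3655, 4723), (3656, 3656), (3657, 3657), (3658, 3658), (3659, 4618), (3660, 4619), (3661, 2766), (3662, 2767), (3663, 2768), (3664, 2769), (3665, 2770), (3666, 4736), (3667, 4737), (3668, 4738), (3669, 4739), (3670, 4740), (3671, 2771), (3672, 4748), (3673, 4734), (3674, 3674), (3675, 3675), (3676, 3676), (3677, 3677), (3678, 3678), (3679, 4638), (3680, 4639), (3681, 4640), (3682, 4641), (3683, 4642), (3684, 2782), (3685, 2783), (3686, 2784), (3687, 2785), (3688, 2786), (3689, 4767), (3690, 4768), (3691, 4769), (3692, 4770), (3693, 4771), (3694, 4772), (3695, 4773), (3696, 3696), (3697, 3697), (3698, 3698), (3699, 3699), (3700, 3700), (3701, 2794), (3702, 2795), (3703, 2796), (3704, 2797), (3705, 4787), (3706, 4788), (3707, 4789), (3708, 4790), (3709, 4489), (3710, 4791), (3711, 4490)]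
    ⟨e3 q3648 L41433 q2758, e3 q3649 L41441 q2759, e3 q3650 (flp_b L59723) q4711, e3 q3651 (flp_b L59730) q4712, e3 q3652 (flp_b L59736) q4713, e3 q3653 (flp_b L59744) q4714, e3 q3654 (flp_b L59754) q4715, e3 q3655 L59808 q4723, e3 q3656 L41497 q3656, e3 q3657 L41507 q3657, e3 q3658 L41514 q3658, e3 q3659 (flp_b L58946) q4618, e3 q3660 (flp_b L58957) q4619, e3 q3661 L41538 q2766, e3 q3662 L41547 q2767, e3 q3663 L41555 q2768, e3 q3664 L41563 q2769, e3 q3665 L41571 q2770, e3 q3666 (flp_b L59921) q4736, e3 q3667 (flp_b L59931) q4737, e3 q3668 (flp_b L59938) q4738, e3 q3669 (flp_b L59947) q4739, e3 q3670 (flp_b L59954) q4740, e3 q3671 (flp_b L41619) q2771, e3 q3672 (flp_b L60018) q4748, e3 q3673 (flp_b L553608) q4734, e3 q3674 L41645 q3674, e3 q3675 L41653 q3675, e3 q3676 L41660 q3676, e3 q3677 L41670 q3677, e3 q3678 L41678 q3678, e3 q3679 (flp_b L59113) q4638, e3 q3680 (flp_b L59120) q4639, e3 q3681 (flp_b L59128) q4640, e3 q3682 (flp_b L59137) q4641, e3 q3683 (flp_b L59145) q4642, e3 q3684 L41718 q2782, e3 q3685 L41726 q2783,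 e3 q3686 L41733 q2784, e3 q3687 L41740 q2785, e3 q3688 L41748 q2786, e3 q3689 (flp_b L60179) q4767, e3 q3690 (flp_b L60185) q4768, e3 q3691 (flp_b L60194) q4769, e3 q3692 (flp_b L60202) q4770, e3 q3693 (flp_b L60211) q4771, e3 q3694 (flp_b L60218) q4772, e3 q3695 (flp_b L60227) q4773, e3 q3696 L41837 q3696, e3 q3697 L41845 q3697, e3 q3698 L41874 q3698, e3 q3699 L41884 q3699, e3 q3700 L41892 q3700, e3 q3701 L41927 q2794, e3 q3702 L41935 q2795, e3 q3703 L41942 q2796, e3 q3704 L41952 q2797, e3 q3705 (flp_b L60490) q4787, e3 q3706 (flp_b L60497) q4788, e3 q3707 (flp_b L60506) q4789, e3 q3708 (flp_b L60514) q4790, e3 q3709 L563505 q4489, e3 q3710 (flp_b L60529) q4791, e3 q3711 (flp_b L563524) q4490, trivial⟩ (by decide +kernel)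

theorem ce_b_58 : ∀ r, r < 64 → sm gb (Qf (3712 + r)) = Qf (tab Gen.b (3712 + r)) :=
  edges_tab (sm gb) Qf (tab Gen.b) 3712 [(3712, 4486), (3713, 4488), (3714, 3714), (3715, 3715), (3716, 3716), (3717, 3717), (3718, 3718), (3719, 3719), (3720, 3720), (3721, 3721), (3722, 3722), (3723, 2812), (3724, 2813), (3725, 2814), (3726, 2815), (3727, 2816), (3728, 2817), (3729, 2818), (3730, 4815), (3731, 4816), (3732, 4817), (3733, 4818), (3734, 4819), (3735, 4831), (3736, 4821), (3737, 4822), (3738, 4564), (3739, 3739), (3740, 3740), (3741, 3741), (3742, 3742), (3743, 3743), (3744, 2825), (3745, 2826), (3746, 2827), (3747, 2828), (3748, 2829), (3749, 4846), (3750, 4847), (3751, 4848), (3752, 4849), (3753, 4850), (3754, 4584), (3755, 4585), (3756, 3756), (3757, 3757), (3758, 3758), (3759, 3759), (3760, 3760), (3761, 3761), (3762, 3762), (3763, 3763), (3764, 3764), (3765, 3765), (3766, 2841), (3767, 2842), (3768, 2843), (3769, 2844), (3770, 2845), (3771, 4876), (3772, 4877), (3773, 4878), (3774, 4879), (3775, 4880)]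
    ⟨e3 q3712 (flp_b L562572) q4486, e3 q3713 L563284 q4488, e3 q3714 L42082 q3714, e3 q3715 L42089 q3715, e3 q3716 L42097 q3716, e3 q3717 L42106 q3717, e3 q3718 L42124 q3718, e3 q3719 L42130 q3719, e3 q3720 L42137 q3720, e3 q3721 L42145 q3721, e3 q3722 L42154 q3722, e3 q3723 L42172 q2812, e3 q3724 L42177 q2813, e3 q3725 L42184 q2814, e3 q3726 L42192 q2815, e3 q3727 L42199 q2816, e3 q3728 L42206 q2817, e3 q3729 L42216 q2818, e3 q3730 (flp_b L60830) q4815, e3 q3731 (flp_b L60837) q4816, e3 q3732 (flp_b L60844) q4817, e3 q3733 (flp_b L60853) q4818, e3 q3734 (flp_b L60861) q4819, e3 q3735 L60952 q4831, e3 q3736 (flp_b L60874) q4821, e3 q3737 (flp_b L60883) q4822, e3 q3738 (flp_b L549610) q4564, e3 q3739 L42301 q3739, e3 q3740 L42311 q3740, e3 q3741 L42320 q3741, e3 q3742 L42328 q3742, e3 q3743 L42338 q3743, e3 q3744 L42347 q2825, e3 q3745 L42356 q2826, e3 q3746 L42364 q2827, e3 q3747 L42372 q2828, e3 q3748 L42381 q2829, e3 q3749 (flp_b L61102) q4846, e3 q3750 (flp_b L61110) q4847, e3 q3751 (flp_b L61119) q4848, e3 q3752 (flp_b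 L61129) q4849, e3 q3753 (flp_b L61136) q4850, e3 q3754 (flp_b L549692) q4584, e3 q3755 L592222 q4585, e3 q3756 L42465 q3756, e3 q3757 L42473 q3757, e3 q3758 L42483 q3758, e3 q3759 L42490 q3759, e3 q3760 L42499 q3760, e3 q3761 L42508 q3761, e3 q3762 L42515 q3762, e3 q3763 L42525 q3763, e3 q3764 L42532 q3764, e3 q3765 L42539 q3765, e3 q3766 L42548 q2841, e3 q3767 L42556 q2842, e3 q3768 L42563 q2843, e3 q3769 L42572 q2844, e3 q3770 L42580 q2845, e3 q3771 (flp_b L61385) q4876, e3 q3772 (flp_b L61394) q4877, e3 q3773 (flp_b L61402) q4878, e3 q3774 (flp_b L61410) q4879, e3 q3775 (flp_b L61416) q4880, trivial⟩ (by decide +kernel)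

theorem ce_b_59 : ∀ r, r < 64 → sm gb (Qf (3776 + r)) = Qf (tab Gen.b (3776 + r)) :=
  edges_tab (sm gb) Qf (tab Gen.b) 3776 [(3776, 4881), (3777, 4882), (3778, 4613), (3779, 4614), (3780, 4615), (3781, 4616), (3782, 3782), (3783, 3783), (3784, 3784), (3785, 3785), (3786, 3786), (3787, 3787), (3788, 3788), (3789, 3789), (3790, 3790), (3791, 3791), (3792, 3792), (3793, 3793), (3794, 3794), (3795, 2863), (3796, 2864), (3797, 2865), (3798, 2866), (3799, 2867), (3800, 2868), (3801, 2869), (3802, 4915), (3803, 4916), (3804, 4917), (3805, 4918), (3806, 4919), (3807, 4931), (3808, 4921), (3809, 4922), (3810, 3810), (3811, 3811), (3812, 3812), (3813, 3813), (3814, 3814), (3815, 3815), (3816, 3816), (3817, 2882), (3818, 2883), (3819, 2884), (3820, 2885), (3821, 2886), (3822, 4950), (3823, 2888), (3824, 2889), (3825, 4942), (3826, 4943), (3827, 4944), (3828, 4945), (3829, 4946), (3830, 4947), (3831, 4957), (3832, 4949), (3833, 2887), (3834, 4960), (3835, 4952), (3836, 2894), (3837, 3837), (3838, 2896), (3839, 3839)]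
    ⟨e3 q3776 (flp_b L61424) q4881, e3 q3777 (flp_b L61432) q4882, e3 q3778 (flp_b L549459) q4613, e3 q3779 L549451 q4614, e3 q3780 L592367 q4615, e3 q3781 L549561 q4616, e3 q3782 L42706 q3782, e3 q3783 L42716 q3783, e3 q3784 L42725 q3784, e3 q3785 L42734 q3785, e3 q3786 L42741 q3786, e3 q3787 L42748 q3787, e3 q3788 L42757 q3788, e3 q3789 L42766 q3789, e3 q3790 L42775 q3790, e3 q3791 L42782 q3791, e3 q3792 L42790 q3792, e3 q3793 L42799 q3793, e3 q3794 L42806 q3794, e3 q3795 L42812 q2863, e3 q3796 L42820 q2864, e3 q3797 L42830 q2865, e3 q3798 L42838 q2866, e3 q3799 L42846 q2867, e3 q3800 L42855 q2868, e3 q3801 L42862 q2869, e3 q3802 (flp_b L61786) q4915, e3 q3803 (flp_b L61795) q4916, e3 q3804 (flp_b L61802) q4917, e3 q3805 (flp_b L61811) q4918, e3 q3806 (flp_b L61819) q4919, e3 q3807 L61914 q4931, e3 q3808 (flp_b L61834) q4921, e3 q3809 (flp_b L61842) q4922, e3 q3810 L42935 q3810, e3 q3811 L42944 q3811, e3 q3812 L42954 q3812, e3 q3813 L42964 q3813, e3 q3814 L42971 q3814, e3 q3815 L42982 q3815, e3 q3816 L42992 q3816, e3 q3817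 L43000 q2882, e3 q3818 L43009 q2883, e3 q3819 L43018 q2884, e3 q3820 L43028 q2885, e3 q3821 L43034 q2886, e3 q3822 L62080 q4950, e3 q3823 L43049 q2888, e3 q3824 L43057 q2889, e3 q3825 (flp_b L62015) q4942, e3 q3826 (flp_b L62024) q4943, e3 q3827 (flp_b L62034) q4944, e3 q3828 (flp_b L62041) q4945, e3 q3829 (flp_b L62051) q4946, e3 q3830 (flp_b L62058) q4947, e3 q3831 L62166 q4957, e3 q3832 (flp_b L62074) q4949, e3 q3833 (flp_b L43131) q2887, e3 q3834 (flp_b L62196) q4960, e3 q3835 (flp_b L62096) q4952, e3 q3836 (flp_b L43222) q2894, e3 q3837 L43253 q3837, e3 q3838 L43256 q2896, e3 q3839 L43275 q3839, trivial⟩ (by decide +kernel)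

theorem ce_b_60 : ∀ r, r < 64 → sm gb (Qf (3840 + r)) = Qf (tab Gen.b (3840 + r)) :=
  edges_tab (sm gb) Qf (tab Gen.b) 3840 [(3840, 3840), (3841, 3841), (3842, 3842), (3843, 4515), (3844, 4516), (3845, 4518), (3846, 2903), (3847, 4970), (3848, 4521), (3849, 3142), (3850, 2906), (3851, 4975), (3852, 4976), (3853, 4526), (3854, 4528), (3855, 4530), (3856, 2913), (3857, 4979), (3858, 4980), (3859, 4534), (3860, 3141), (3861, 2917), (3862, 2918), (3863, 4987), (3864, 4988), (3865, 4989), (3866, 4541), (3867, 4543), (3868, 4546), (3869, 2923), (3870, 2924), (3871, 4993), (3872, 4994), (3873, 4552), (3874, 3150), (3875, 3117), (3876, 3876), (3877, 2929), (3878, 2930), (3879, 2931), (3880, 5004), (3881, 5005), (3882, 5006), (3883, 5007), (3884, 4566), (3885, 2935), (3886, 2936), (3887, 5010), (3888, 5011), (3889, 4572), (3890, 3001), (3891, 3101), (3892, 2994), (3893, 2941), (3894, 2942), (3895, 2943), (3896, 5021), (3897, 5022), (3898, 5023), (3899, 5024), (3900, 5025), (3901, 4587), (3902, 3005), (3903, 2948)]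
    ⟨e3 q3840 L43285 q3840, e3 q3841 L43296 q3841, e3 q3842 L43308 q3842, e3 q3843 (flp_b L57812) q4515, e3 q3844 (flp_b L57824) q4516, e3 q3845 (flp_b L57845) q4518, e3 q3846 (flp_b L43380) q2903, e3 q3847 (flp_b L62544) q4970, e3 q3848 (flp_b L57876) q4521, e3 q3849 (flp_b L594306) q3142, e3 q3850 L43421 q2906, e3 q3851 (flp_b L62594) q4975, e3 q3852 (flp_b L62602) q4976, e3 q3853 (flp_b L57921) q4526, e3 q3854 (flp_b L57940) q4528, e3 q3855 (flp_b L57973) q4530, e3 q3856 L43568 q2913, e3 q3857 (flp_b L62808) q4979, e3 q3858 (flp_b L62817) q4980, e3 q3859 (flp_b L58025) q4534, e3 q3860 L594320 q3141, e3 q3861 L43616 q2917, e3 q3862 L43623 q2918, e3 q3863 (flp_b L62893) q4987, e3 q3864 (flp_b L62901) q4988, e3 q3865 (flp_b L62909) q4989, e3 q3866 (flp_b L58085) q4541, e3 q3867 (flp_b L58113) q4543, e3 q3868 (flp_b L58161) q4546, e3 q3869 L43813 q2923, e3 q3870 L43821 q2924, e3 q3871 (flp_b L63194) q4993, e3 q3872 (flp_b L63208) q4994, e3 q3873 (flp_b L58222) q4552, e3 q3874 L578216 q3150, e3 q3875 (flp_b L593866) q3117,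 e3 q3876 L43885 q3876, e3 q3877 L43888 q2929, e3 q3878 L43894 q2930, e3 q3879 L43901 q2931, e3 q3880 (flp_b L63309) q5004, e3 q3881 (flp_b L63316) q5005, e3 q3882 (flp_b L63323) q5006, e3 q3883 (flp_b L63337) q5007, e3 q3884 (flp_b L58355) q4566, e3 q3885 L44042 q2935, e3 q3886 L44052 q2936, e3 q3887 (flp_b L63541) q5010, e3 q3888 (flp_b L63559) q5011, e3 q3889 (flp_b L58423) q4572, e3 q3890 L594105 q3001, e3 q3891 (flp_b L598077) q3101, e3 q3892 L44125 q2994, e3 q3893 L44129 q2941, e3 q3894 L44137 q2942, e3 q3895 L44146 q2943, e3 q3896 (flp_b L63676) q5021, e3 q3897 (flp_b L63683) q5022, e3 q3898 (flp_b L63690) q5023, e3 q3899 (flp_b L63699) q5024, e3 q3900 (flp_b L63708) q5025, e3 q3901 (flp_b L58584) q4587, e3 q3902 L44337 q3005, e3 q3903 L44341 q2948, trivial⟩ (by decide +kernel)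

theorem ce_b_61 : ∀ r, r < 64 → sm gb (Qf (3904 + r)) = Qf (tab Gen.b (3904 + r)) :=
  edges_tab (sm gb) Qf (tab Gen.b) 3904 [(3904, 2949), (3905, 5028), (3906, 5029), (3907, 5030), (3908, 5033), (3909, 3027), (3910, 3012), (3911, 3119), (3912, 3017), (3913, 3018), (3914, 2957), (3915, 2958), (3916, 2959), (3917, 2960), (3918, 2961), (3919, 5044), (3920, 5045), (3921, 5046), (3922, 5047), (3923, 5048), (3924, 3031), (3925, 2966), (3926, 2967), (3927, 2968), (3928, 5053), (3929, 5054), (3930, 2969), (3931, 5057), (3932, 3028), (3933, 3057), (3934, 3059), (3935, 3041), (3936, 3127), (3937, 3046), (3938, 3047), (3939, 3048), (3940, 3049), (3941, 2980), (3942, 2981), (3943, 2982), (3944, 2983), (3945, 2984), (3946, 5072), (3947, 5073), (3948, 5074), (3949, 5075), (3950, 5076), (3951, 5077), (3952, 5078), (3953, 3232), (3954, 3233), (3955, 5009), (3956, 2988), (3957, 2989), (3958, 2990), (3959, 5087), (3960, 5088), (3961, 5089), (3962, 5017), (3963, 5090), (3964, 5086), (3965, 3240), (3966, 3241), (3967, 5019)]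
    ⟨e3 q3904 L44356 q2949, e3 q3905 (flp_b L63981) q5028, e3 q3906 (flp_b L63988) q5029, e3 q3907 (flp_b L64013) q5030, e3 q3908 L64070 q5033, e3 q3909 L591357 q3027, e3 q3910 L591100 q3012, e3 q3911 L594660 q3119, e3 q3912 L44448 q3017, e3 q3913 L44454 q3018, e3 q3914 L44463 q2957, e3 q3915 L44468 q2958, e3 q3916 L44476 q2959, e3 q3917 L44483 q2960, e3 q3918 L44491 q2961, e3 q3919 (flp_b L64180) q5044, e3 q3920 (flp_b L64186) q5045, e3 q3921 (flp_b L64193) q5046, e3 q3922 (flp_b L64201) q5047, e3 q3923 (flp_b L64210) q5048, e3 q3924 L44738 q3031, e3 q3925 L44755 q2966, e3 q3926 L44764 q2967, e3 q3927 L44787 q2968, e3 q3928 (flp_b L64634) q5053, e3 q3929 (flp_b L64651) q5054, e3 q3930 (flp_b L44844) q2969, e3 q3931 (flp_b L64747) q5057, e3 q3932 (flp_b L591089) q3028, e3 q3933 L580365 q3057, e3 q3934 (flp_b L587411) q3059, e3 q3935 (flp_b L598296) q3041, e3 q3936 (flp_b L594622) q3127, e3 q3937 L44914 q3046, e3 q3938 L44922 q3047, e3 q3939 L44928 q3048, e3 q3940 L44937 q3049, e3 q3941 L44951 q2980, e3 q3942 L44958 q2981,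 e3 q3943 L44966 q2982, e3 q3944 L44973 q2983, e3 q3945 L44980 q2984, e3 q3946 (flp_b L64920) q5072, e3 q3947 (flp_b L64926) q5073, e3 q3948 (flp_b L64934) q5074, e3 q3949 (flp_b L64942) q5075, e3 q3950 (flp_b L64950) q5076, e3 q3951 (flp_b L64958) q5077, e3 q3952 (flp_b L64966) q5078, e3 q3953 L45056 q3232, e3 q3954 L45068 q3233, e3 q3955 (flp_b L63537) q5009, e3 q3956 L45086 q2988, e3 q3957 L45096 q2989, e3 q3958 L45105 q2990, e3 q3959 (flp_b L65101) q5087, e3 q3960 (flp_b L65111) q5088, e3 q3961 (flp_b L65120) q5089, e3 q3962 L588933 q5017, e3 q3963 (flp_b L65140) q5090, e3 q3964 (flp_b L591219) q5086, e3 q3965 L45176 q3240, e3 q3966 L45198 q3241, e3 q3967 (flp_b L63658) q5019, trivial⟩ (by decide +kernel)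

theorem ce_b_62 : ∀ r, r < 64 → sm gb (Qf (3968 + r)) = Qf (tab Gen.b (3968 + r)) :=
  edges_tab (sm gb) Qf (tab Gen.b) 3968 [(3968, 5020), (3969, 2998), (3970, 2999), (3971, 3000), (3972, 3002), (3973, 5016), (3974, 5035), (3975, 3245), (3976, 3246), (3977, 5027), (3978, 3014), (3979, 3009), (3980, 3010), (3981, 3011), (3982, 3013), (3983, 5109), (3984, 5110), (3985, 5111), (3986, 5112), (3987, 5038), (3988, 5108), (3989, 3254), (3990, 3255), (3991, 3256), (3992, 5040), (3993, 5041), (3994, 5042), (3995, 5043), (3996, 3023), (3997, 3024), (3998, 3025), (3999, 3026), (4000, 5036), (4001, 5037), (4002, 5060), (4003, 3259), (4004, 3260), (4005, 3261), (4006, 5051), (4007, 5052), (4008, 3042), (4009, 3037), (4010, 3038), (4011, 3039), (4012, 3040), (4013, 5138), (4014, 5139), (4015, 5140), (4016, 5141), (4017, 5062), (4018, 5142), (4019, 5064), (4020, 5135), (4021, 5137), (4022, 3269), (4023, 3270), (4024, 5065), (4025, 5066), (4026, 5067), (4027, 5068), (4028, 5069), (4029, 5070), (4030, 5071), (4031, 3054)]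
    ⟨e3 q3968 (flp_b L63666) q5020, e3 q3969 L45220 q2998, e3 q3970 L45228 q2999, e3 q3971 L45235 q3000, e3 q3972 L45255 q3002, e3 q3973 (flp_b L594093) q5016, e3 q3974 L591108 q5035, e3 q3975 L45320 q3245, e3 q3976 L45340 q3246, e3 q3977 (flp_b L63964) q5027, e3 q3978 L576323 q3014, e3 q3979 L45363 q3009, e3 q3980 L45371 q3010, e3 q3981 L45381 q3011, e3 q3982 L45398 q3013, e3 q3983 (flp_b L65538) q5109, e3 q3984 (flp_b L65547) q5110, e3 q3985 (flp_b L65554) q5111, e3 q3986 (flp_b L65564) q5112, e3 q3987 (flp_b L588973) q5038, e3 q3988 (flp_b L591429) q5108, e3 q3989 L45476 q3254, e3 q3990 L45484 q3255, e3 q3991 L45515 q3256, e3 q3992 (flp_b L64141) q5040, e3 q3993 (flp_b L64148) q5041, e3 q3994 (flp_b L64156) q5042, e3 q3995 (flp_b L64164) q5043, e3 q3996 L45554 q3023, e3 q3997 L45561 q3024, e3 q3998 L45568 q3025, e3 q3999 L45576 q3026, e3 q4000 L589000 q5036, e3 q4001 L598533 q5037, e3 q4002 L590966 q5060, e3 q4003 L45679 q3259, e3 q4004 L45691 q3260, e3 q4005 L45722 q3261, e3 q4006 (flp_b L64592) q5051, e3 q4007 (flp_b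 L64602) q5052, e3 q4008 L590941 q3042, e3 q4009 L45765 q3037, e3 q4010 L45775 q3038, e3 q4011 L45783 q3039, e3 q4012 L45792 q3040, e3 q4013 (flp_b L66113) q5138, e3 q4014 (flp_b L66122) q5139, e3 q4015 (flp_b L66133) q5140, e3 q4016 (flp_b L66141) q5141, e3 q4017 L580408 q5062, e3 q4018 (flp_b L66160) q5142, e3 q4019 L580432 q5064, e3 q4020 (flp_b L551477) q5135, e3 q4021 (flp_b L591439) q5137, e3 q4022 L45928 q3269, e3 q4023 L45949 q3270, e3 q4024 (flp_b L64848) q5065, e3 q4025 (flp_b L64855) q5066, e3 q4026 (flp_b L64863) q5067, e3 q4027 (flp_b L64873) q5068, e3 q4028 (flp_b L64880) q5069, e3 q4029 (flp_b L64888) q5070, e3 q4030 (flp_b L64905) q5071, e3 q4031 L46035 q3054, trivial⟩ (by decide +kernel)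

theorem ce_b_63 : ∀ r, r < 64 → sm gb (Qf (4032 + r)) = Qf (tab Gen.b (4032 + r)) :=
  edges_tab (sm gb) Qf (tab Gen.b) 4032 [(4032, 3055), (4033, 3056), (4034, 3058), (4035, 5061), (4036, 5063), (4037, 4470), (4038, 4472), (4039, 3277), (4040, 3278), (4041, 3279), (4042, 3280), (4043, 4043), (4044, 4044), (4045, 4045), (4046, 4046), (4047, 4047), (4048, 3072), (4049, 3073), (4050, 3074), (4051, 3075), (4052, 3076), (4053, 5179), (4054, 5180), (4055, 5181), (4056, 5182), (4057, 5188), (4058, 3078), (4059, 3079), (4060, 5189), (4061, 5190), (4062, 5191), (4063, 3302), (4064, 3303), (4065, 4065), (4066, 4066), (4067, 4067), (4068, 4068), (4069, 3087), (4070, 4565), (4071, 3308), (4072, 3309), (4073, 3310), (4074, 4074), (4075, 4075), (4076, 4076), (4077, 4077), (4078, 3097), (4079, 3098), (4080, 3099), (4081, 3100), (4082, 4985), (4083, 5018), (4084, 4545), (4085, 4586), (4086, 3313), (4087, 3314), (4088, 4088), (4089, 4089), (4090, 4090), (4091, 4091), (4092, 4092), (4093, 4093), (4094, 4094), (4095, 3114)]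
    ⟨e3 q4032 L46042 q3055, e3 q4033 L46051 q3056, e3 q4034 L46069 q3058, e3 q4035 (flp_b L580454) q5061, e3 q4036 L598455 q5063, e3 q4037 (flp_b L561580) q4470, e3 q4038 L527959 q4472, e3 q4039 L46190 q3277, e3 q4040 L46200 q3278, e3 q4041 L46211 q3279, e3 q4042 L46223 q3280, e3 q4043 L46232 q4043, e3 q4044 L46239 q4044, e3 q4045 L46248 q4045, e3 q4046 L46258 q4046, e3 q4047 L46267 q4047, e3 q4048 L46292 q3072, e3 q4049 L46300 q3073, e3 q4050 L46309 q3074, e3 q4051 L46318 q3075, e3 q4052 L46326 q3076, e3 q4053 (flp_b L66841) q5179, e3 q4054 (flp_b L66850) q5180, e3 q4055 (flp_b L66859) q5181, e3 q4056 (flp_b L66869) q5182, e3 q4057 L66928 q5188, e3 q4058 L46385 q3078, e3 q4059 L46395 q3079, e3 q4060 (flp_b L66938) q5189, e3 q4061 (flp_b L66945) q5190, e3 q4062 (flp_b L66955) q5191, e3 q4063 L46429 q3302, e3 q4064 L46438 q3303, e3 q4065 L46446 q4065, e3 q4066 L46451 q4066, e3 q4067 L46457 q4067, e3 q4068 L46465 q4068, e3 q4069 L46474 q3087, e3 q4070 L593572 q4565, e3 q4071 L46524 q3308, e3 q4072 L46536 q3309, e3 q4073 L46568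 q3310, e3 q4074 L46577 q4074, e3 q4075 L46587 q4075, e3 q4076 L46594 q4076, e3 q4077 L46603 q4077, e3 q4078 L46620 q3097, e3 q4079 L46628 q3098, e3 q4080 L46638 q3099, e3 q4081 L46648 q3100, e3 q4082 L598067 q4985, e3 q4083 (flp_b L594599) q5018, e3 q4084 L592979 q4545, e3 q4085 (flp_b L520360) q4586, e3 q4086 L46798 q3313, e3 q4087 L46819 q3314, e3 q4088 L46847 q4088, e3 q4089 L46854 q4089, e3 q4090 L46863 q4090, e3 q4091 L46872 q4091, e3 q4092 L46880 q4092, e3 q4093 L46889 q4093, e3 q4094 L46902 q4094, e3 q4095 L46916 q3114, trivial⟩ (by decide +kernel)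

theorem ce_b_64 : ∀ r, r < 64 → sm gb (Qf (4096 + r)) = Qf (tab Gen.b (4096 + r)) :=
  edges_tab (sm gb) Qf (tab Gen.b) 4096 [(4096, 3115), (4097, 3116), (4098, 3118), (4099, 5001), (4100, 4999), (4101, 5039), (4102, 4617), (4103, 4103), (4104, 4104), (4105, 4105), (4106, 4106), (4107, 4529), (4108, 4517), (4109, 3316), (4110, 4110), (4111, 4111), (4112, 4112), (4113, 4113), (4114, 4114), (4115, 4115), (4116, 3138), (4117, 3139), (4118, 3140), (4119, 4974), (4120, 4984), (4121, 4544), (4122, 4122), (4123, 4123), (4124, 4124), (4125, 4125), (4126, 5252), (4127, 3149), (4128, 5253), (4129, 5000), (4130, 4130), (4131, 4131), (4132, 3154), (4133, 3155), (4134, 5258), (4135, 5259), (4136, 3319), (4137, 4137), (4138, 4138), (4139, 4139), (4140, 3165), (4141, 3164), (4142, 4142), (4143, 4143), (4144, 4144), (4145, 4145), (4146, 3178), (4147, 3176), (4148, 4148), (4149, 3177), (4150, 4150), (4151, 4151), (4152, 4152), (4153, 3205), (4154, 3193), (4155, 3191), (4156, 4156), (4157, 3190), (4158, 3192), (4159, 4159)]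
    ⟨e3 q4096 L46925 q3115, e3 q4097 L46934 q3116, e3 q4098 L46950 q3118, e3 q4099 L597919 q5001, e3 q4100 L597412 q4999, e3 q4101 (flp_b L594637) q5039, e3 q4102 L593439 q4617, e3 q4103 L47129 q4103, e3 q4104 L47138 q4104, e3 q4105 L47152 q4105, e3 q4106 L47165 q4106, e3 q4107 L593080 q4529, e3 q4108 (flp_b L453846) q4517, e3 q4109 L47264 q3316, e3 q4110 L47306 q4110, e3 q4111 L47314 q4111, e3 q4112 L47323 q4112, e3 q4113 L47332 q4113, e3 q4114 L47341 q4114, e3 q4115 L47360 q4115, e3 q4116 L47377 q3138, e3 q4117 L47385 q3139, e3 q4118 L47394 q3140, e3 q4119 L597714 q4974, e3 q4120 L597498 q4984, e3 q4121 (flp_b L592995) q4544, e3 q4122 L47577 q4122, e3 q4123 L47583 q4123, e3 q4124 L47596 q4124, e3 q4125 L47611 q4125, e3 q4126 L68618 q5252, e3 q4127 (flp_b L47643) q3149, e3 q4128 (flp_b L68649) q5253, e3 q4129 L597452 q5000, e3 q4130 L47718 q4130, e3 q4131 L47745 q4131, e3 q4132 L47750 q3154, e3 q4133 L47759 q3155, e3 q4134 (flp_b L68793) q5258, e3 q4135 (flp_b L68802) q5259, e3 q4136 (flp_b L557847) q3319, e3 q4137 L47885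 q4137, e3 q4138 L47901 q4138, e3 q4139 L47931 q4139, e3 q4140 (flp_b L625576) q3165, e3 q4141 L625543 q3164, e3 q4142 L47976 q4142, e3 q4143 L48042 q4143, e3 q4144 L48182 q4144, e3 q4145 L48228 q4145, e3 q4146 (flp_b L626931) q3178, e3 q4147 (flp_b L625724) q3176, e3 q4148 L48288 q4148, e3 q4149 L48330 q3177, e3 q4150 L48384 q4150, e3 q4151 L48575 q4151, e3 q4152 L48629 q4152, e3 q4153 (flp_b L625987) q3205, e3 q4154 L625789 q3193, e3 q4155 (flp_b L625834) q3191, e3 q4156 L48759 q4156, e3 q4157 L48766 q3190, e3 q4158 L48780 q3192, e3 q4159 L48959 q4159, trivial⟩ (by decide +kernel)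

theorem ce_b_65 : ∀ r, r < 64 → sm gb (Qf (4160 + r)) = Qf (tab Gen.b (4160 + r)) :=
  edges_tab (sm gb) Qf (tab Gen.b) 4160 [(4160, 3203), (4161, 3202), (4162, 3238), (4163, 3204), (4164, 3217), (4165, 3215), (4166, 3251), (4167, 3253), (4168, 3216), (4169, 3218), (4170, 3228), (4171, 3227), (4172, 3267), (4173, 3266), (4174, 3268), (4175, 3229), (4176, 3230), (4177, 3231), (4178, 5083), (4179, 5084), (4180, 3236), (4181, 3237), (4182, 3239), (4183, 5095), (4184, 5096), (4185, 5097), (4186, 5103), (4187, 5104), (4188, 5105), (4189, 3250), (4190, 3252), (4191, 5120), (4192, 5121), (4193, 5131), (4194, 5132), (4195, 3264), (4196, 3265), (4197, 3292), (4198, 5152), (4199, 5153), (4200, 3274), (4201, 3275), (4202, 5271), (4203, 5272), (4204, 4462), (4205, 5273), (4206, 4463), (4207, 5167), (4208, 5168), (4209, 5169), (4210, 5170), (4211, 5171), (4212, 4212), (4213, 4213), (4214, 4214), (4215, 4215), (4216, 4216), (4217, 4217), (4218, 3293), (4219, 3294), (4220, 3295), (4221, 4221), (4222, 3299), (4223, 3300)]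
    ⟨e3 q4160 (flp_b L626144) q3203, e3 q4161 (flp_b L626154) q3202, e3 q4162 L600567 q3238, e3 q4163 L49136 q3204, e3 q4164 (flp_b L626634) q3217, e3 q4165 L626602 q3215, e3 q4166 L599496 q3251, e3 q4167 L599504 q3253, e3 q4168 L49625 q3216, e3 q4169 L49640 q3218, e3 q4170 (flp_b L626643) q3228, e3 q4171 L626610 q3227, e3 q4172 (flp_b L560711) q3267, e3 q4173 L589797 q3266, e3 q4174 L600412 q3268, e3 q4175 L50362 q3229, e3 q4176 L50370 q3230, e3 q4177 L50386 q3231, e3 q4178 (flp_b L65053) q5083, e3 q4179 (flp_b L65076) q5084, e3 q4180 L50512 q3236, e3 q4181 L50522 q3237, e3 q4182 L50551 q3239, e3 q4183 (flp_b L65227) q5095, e3 q4184 (flp_b L65237) q5096, e3 q4185 (flp_b L65270) q5097, e3 q4186 (flp_b L65450) q5103, e3 q4187 (flp_b L65460) q5104, e3 q4188 (flp_b L65493) q5105, e3 q4189 L50912 q3250, e3 q4190 L50928 q3252, e3 q4191 (flp_b L65702) q5120, e3 q4192 (flp_b L65720) q5121, e3 q4193 (flp_b L65998) q5131, e3 q4194 (flp_b L66020) q5132, e3 q4195 L51443 q3264, e3 q4196 L51452 q3265, e3 q4197 L623921 q3292, e3 q4198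 (flp_b L66365) q5152, e3 q4199 (flp_b L66374) q5153, e3 q4200 L51901 q3274, e3 q4201 L51910 q3275, e3 q4202 (flp_b L74977) q5271, e3 q4203 (flp_b L74987) q5272, e3 q4204 (flp_b L561043) q4462, e3 q4205 (flp_b L75006) q5273, e3 q4206 L579589 q4463, e3 q4207 (flp_b L66711) q5167, e3 q4208 (flp_b L66721) q5168, e3 q4209 (flp_b L66732) q5169, e3 q4210 (flp_b L66743) q5170, e3 q4211 (flp_b L66753) q5171, e3 q4212 L52051 q4212, e3 q4213 L52065 q4213, e3 q4214 L52074 q4214, e3 q4215 L52084 q4215, e3 q4216 L52100 q4216, e3 q4217 L52110 q4217, e3 q4218 L52143 q3293, e3 q4219 L52152 q3294, e3 q4220 L52162 q3295, e3 q4221 L429052 q4221, e3 q4222 L52221 q3299, e3 q4223 L52229 q3300, trivial⟩ (by decide +kernel)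

theorem ce_b_66 : ∀ r, r < 64 → sm gb (Qf (4224 + r)) = Qf (tab Gen.b (4224 + r)) :=
  edges_tab (sm gb) Qf (tab Gen.b) 4224 [(4224, 3301), (4225, 5283), (4226, 5284), (4227, 5285), (4228, 5196), (4229, 5204), (4230, 5205), (4231, 5216), (4232, 5234), (4233, 4233), (4234, 5261), (4235, 4235), (4236, 4236), (4237, 5290), (4238, 4238), (4239, 3324), (4240, 5294), (4241, 4241), (4242, 5298), (4243, 4243), (4244, 3327), (4245, 5302), (4246, 4246), (4247, 4247), (4248, 3330), (4249, 5307), (4250, 5308), (4251, 4251), (4252, 4252), (4253, 3333), (4254, 5314), (4255, 5315), (4256, 4256), (4257, 4257), (4258, 3337), (4259, 3338), (4260, 5323), (4261, 5324), (4262, 5325), (4263, 4263), (4264, 4264), (4265, 4265), (4266, 4266), (4267, 3343), (4268, 3344), (4269, 3345), (4270, 5337), (4271, 5338), (4272, 5339), (4273, 5340), (4274, 5341), (4275, 5347), (4276, 4276), (4277, 3348), (4278, 5351), (4279, 4279), (4280, 3350), (4281, 5355), (4282, 4282), (4283, 4283), (4284, 3353), (4285, 5360), (4286, 5361), (4287, 4287)]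
    ⟨e3 q4224 L52237 q3301, e3 q4225 (flp_b L75421) q5283, e3 q4226 (flp_b L75438) q5284, e3 q4227 (flp_b L75446) q5285, e3 q4228 (flp_b L66998) q5196, e3 q4229 (flp_b L67119) q5204, e3 q4230 (flp_b L67141) q5205, e3 q4231 (flp_b L67521) q5216, e3 q4232 (flp_b L68133) q5234, e3 q4233 L498536 q4233, e3 q4234 L557828 q5261, e3 q4235 L55041 q4235, e3 q4236 L55052 q4236, e3 q4237 L79366 q5290, e3 q4238 L55070 q4238, e3 q4239 (flp_b L55077) q3324, e3 q4240 (flp_b L79406) q5294, e3 q4241 L55096 q4241, e3 q4242 L79438 q5298, e3 q4243 L55116 q4243, e3 q4244 (flp_b L55123) q3327, e3 q4245 (flp_b L79483) q5302, e3 q4246 L55147 q4246, e3 q4247 L55165 q4247, e3 q4248 L55168 q3330, e3 q4249 (flp_b L79531) q5307, e3 q4250 (flp_b L79538) q5308, e3 q4251 L55194 q4251, e3 q4252 L55211 q4252, e3 q4253 L55214 q3333, e3 q4254 (flp_b L79594) q5314, e3 q4255 (flp_b L79603) q5315, e3 q4256 L55245 q4256, e3 q4257 L55255 q4257, e3 q4258 L55264 q3337, e3 q4259 L55272 q3338, e3 q4260 (flp_b L79678) q5323, e3 q4261 (flp_b L79685) q5324, e3 q4262 (flp_b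 L79694) q5325, e3 q4263 L55307 q4263, e3 q4264 L55318 q4264, e3 q4265 L55326 q4265, e3 q4266 L55338 q4266, e3 q4267 L55342 q3343, e3 q4268 L55350 q3344, e3 q4269 L55358 q3345, e3 q4270 (flp_b L79798) q5337, e3 q4271 (flp_b L79806) q5338, e3 q4272 (flp_b L79813) q5339, e3 q4273 (flp_b L79822) q5340, e3 q4274 (flp_b L79831) q5341, e3 q4275 L79881 q5347, e3 q4276 L55423 q4276, e3 q4277 (flp_b L55431) q3348, e3 q4278 (flp_b L79926) q5351, e3 q4279 L55451 q4279, e3 q4280 (flp_b L55455) q3350, e3 q4281 (flp_b L79971) q5355, e3 q4282 L55480 q4282, e3 q4283 L55498 q4283, e3 q4284 L55501 q3353, e3 q4285 (flp_b L80021) q5360, e3 q4286 (flp_b L80029) q5361, e3 q4287 L55526 q4287, trivial⟩ (by decide +kernel)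

theorem ce_b_67 : ∀ r, r < 64 → sm gb (Qf (4288 + r)) = Qf (tab Gen.b (4288 + r)) :=
  edges_tab (sm gb) Qf (tab Gen.b) 4288 [(4288, 3356), (4289, 5366), (4290, 5367), (4291, 4291), (4292, 4292), (4293, 3360), (4294, 3361), (4295, 5375), (4296, 5376), (4297, 5377), (4298, 4298), (4299, 3364), (4300, 5383), (4301, 5384), (4302, 4302), (4303, 4303), (4304, 3368), (4305, 3369), (4306, 5392), (4307, 5393), (4308, 5394), (4309, 4309), (4310, 3372), (4311, 3373), (4312, 5401), (4313, 5402), (4314, 5403), (4315, 4315), (4316, 4316), (4317, 4317), (4318, 3428), (4319, 3378), (4320, 3379), (4321, 3380), (4322, 5415), (4323, 5416), (4324, 5417), (4325, 5418), (4326, 5419), (4327, 3446), (4328, 3384), (4329, 3385), (4330, 3386), (4331, 5427), (4332, 5428), (4333, 5429), (4334, 5430), (4335, 5431), (4336, 5437), (4337, 4337), (4338, 4338), (4339, 4339), (4340, 3459), (4341, 3460), (4342, 3394), (4343, 3395), (4344, 3396), (4345, 3397), (4346, 3398), (4347, 5450), (4348, 5451), (4349, 5452), (4350, 5453), (4351, 5454)]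
    ⟨e3 q4288 L55544 q3356, e3 q4289 (flp_b L80080) q5366, e3 q4290 (flp_b L80089) q5367, e3 q4291 L55573 q4291, e3 q4292 L55585 q4292, e3 q4293 L55590 q3360, e3 q4294 L55597 q3361, e3 q4295 (flp_b L80160) q5375, e3 q4296 (flp_b L80166) q5376, e3 q4297 (flp_b L80173) q5377, e3 q4298 L55626 q4298, e3 q4299 L55645 q3364, e3 q4300 (flp_b L80229) q5383, e3 q4301 (flp_b L80240) q5384, e3 q4302 L55679 q4302, e3 q4303 L55690 q4303, e3 q4304 L55697 q3368, e3 q4305 L55706 q3369, e3 q4306 (flp_b L80321) q5392, e3 q4307 (flp_b L80329) q5393, e3 q4308 (flp_b L80338) q5394, e3 q4309 L55739 q4309, e3 q4310 L55758 q3372, e3 q4311 L55768 q3373, e3 q4312 (flp_b L80419) q5401, e3 q4313 (flp_b L80427) q5402, e3 q4314 (flp_b L80436) q5403, e3 q4315 L55806 q4315, e3 q4316 L55818 q4316, e3 q4317 L55827 q4317, e3 q4318 L55835 q3428, e3 q4319 L55840 q3378, e3 q4320 L55846 q3379, e3 q4321 L55854 q3380, e3 q4322 (flp_b L80546) q5415, e3 q4323 (flp_b L80552) q5416, e3 q4324 (flp_b L80560) q5417, e3 q4325 (flp_b L80566) q5418, e3 q4326 (flp_b L80574)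 q5419, e3 q4327 L55926 q3446, e3 q4328 L55931 q3384, e3 q4329 L55940 q3385, e3 q4330 L55948 q3386, e3 q4331 (flp_b L80680) q5427, e3 q4332 (flp_b L80690) q5428, e3 q4333 (flp_b L80698) q5429, e3 q4334 (flp_b L80706) q5430, e3 q4335 (flp_b L80716) q5431, e3 q4336 L80773 q5437, e3 q4337 L56017 q4337, e3 q4338 L56025 q4338, e3 q4339 L56033 q4339, e3 q4340 L56038 q3459, e3 q4341 L56046 q3460, e3 q4342 L56055 q3394, e3 q4343 L56063 q3395, e3 q4344 L56069 q3396, e3 q4345 L56076 q3397, e3 q4346 L56083 q3398, e3 q4347 (flp_b L80881) q5450, e3 q4348 (flp_b L80888) q5451, e3 q4349 (flp_b L80897) q5452, e3 q4350 (flp_b L80904) q5453, e3 q4351 (flp_b L80910) q5454, trivial⟩ (by decide +kernel)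

theorem ce_b_68 : ∀ r, r < 64 → sm gb (Qf (4352 + r)) = Qf (tab Gen.b (4352 + r)) :=
  edges_tab (sm gb) Qf (tab Gen.b) 4352 [(4352, 4352), (4353, 3400), (4354, 5463), (4355, 5464), (4356, 4356), (4357, 4357), (4358, 3404), (4359, 3405), (4360, 5472), (4361, 5473), (4362, 5474), (4363, 4363), (4364, 4364), (4365, 4365), (4366, 5391), (4367, 3410), (4368, 3411), (4369, 3412), (4370, 5486), (4371, 5487), (4372, 5488), (4373, 5489), (4374, 5490), (4375, 4375), (4376, 3416), (4377, 3417), (4378, 5499), (4379, 5500), (4380, 5501), (4381, 4381), (4382, 4382), (4383, 4383), (4384, 5400), (4385, 3422), (4386, 3423), (4387, 3424), (4388, 5513), (4389, 5514), (4390, 5515), (4391, 5516), (4392, 5517), (4393, 5523), (4394, 4394), (4395, 4395), (4396, 4396), (4397, 5413), (4398, 5414), (4399, 3432), (4400, 3433), (4401, 3434), (4402, 3435), (4403, 3436), (4404, 5536), (4405, 5537), (4406, 5538), (4407, 5539), (4408, 5540), (4409, 4409), (4410, 4410), (4411, 4411), (4412, 3440), (4413, 3441), (4414, 3442), (4415, 5554)]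
    ⟨e3 q4352 L56140 q4352, e3 q4353 L56143 q3400, e3 q4354 (flp_b L80987) q5463, e3 q4355 (flp_b L80996) q5464, e3 q4356 L56175 q4356, e3 q4357 L56186 q4357, e3 q4358 L56195 q3404, e3 q4359 L56206 q3405, e3 q4360 (flp_b L81081) q5472, e3 q4361 (flp_b L81091) q5473, e3 q4362 (flp_b L81100) q5474, e3 q4363 L56243 q4363, e3 q4364 L56254 q4364, e3 q4365 L56264 q4365, e3 q4366 (flp_b L80316) q5391, e3 q4367 L56280 q3410, e3 q4368 L56288 q3411, e3 q4369 L56298 q3412, e3 q4370 (flp_b L81210) q5486, e3 q4371 (flp_b L81219) q5487, e3 q4372 (flp_b L81226) q5488, e3 q4373 (flp_b L81235) q5489, e3 q4374 (flp_b L81245) q5490, e3 q4375 L56349 q4375, e3 q4376 L56358 q3416, e3 q4377 L56366 q3417, e3 q4378 (flp_b L81320) q5499, e3 q4379 (flp_b L81327) q5500, e3 q4380 (flp_b L81336) q5501, e3 q4381 L56403 q4381, e3 q4382 L56415 q4382, e3 q4383 L56426 q4383, e3 q4384 (flp_b L80414) q5400, e3 q4385 L56442 q3422, e3 q4386 L56450 q3423, e3 q4387 L56458 q3424, e3 q4388 (flp_b L81447) q5513, e3 q4389 (flp_b L81456) q5514, e3 q4390 (flp_b L81466)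 q5515, e3 q4391 (flp_b L81472) q5516, e3 q4392 (flp_b L81482) q5517, e3 q4393 L81528 q5523, e3 q4394 L56520 q4394, e3 q4395 L56527 q4395, e3 q4396 L56537 q4396, e3 q4397 (flp_b L80529) q5413, e3 q4398 (flp_b L80536) q5414, e3 q4399 L56558 q3432, e3 q4400 L56565 q3433, e3 q4401 L56573 q3434, e3 q4402 L56580 q3435, e3 q4403 L56589 q3436, e3 q4404 (flp_b L81633) q5536, e3 q4405 (flp_b L81640) q5537, e3 q4406 (flp_b L81648) q5538, e3 q4407 (flp_b L81656) q5539, e3 q4408 (flp_b L81665) q5540, e3 q4409 L56634 q4409, e3 q4410 L56642 q4410, e3 q4411 L56655 q4411, e3 q4412 L56659 q3440, e3 q4413 L56667 q3441, e3 q4414 L56675 q3442, e3 q4415 (flp_b L81775) q5554, trivial⟩ (by decide +kernel)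

theorem ce_b_69 : ∀ r, r < 64 → sm gb (Qf (4416 + r)) = Qf (tab Gen.b (4416 + r)) :=
  edges_tab (sm gb) Qf (tab Gen.b) 4416 [(4416, 5555), (4417, 5556), (4418, 5557), (4419, 5558), (4420, 5564), (4421, 4421), (4422, 4422), (4423, 4423), (4424, 5425), (4425, 5426), (4426, 3450), (4427, 3451), (4428, 3452), (4429, 3453), (4430, 3454), (4431, 5577), (4432, 5578), (4433, 5579), (4434, 5580), (4435, 5581), (4436, 3455), (4437, 5589), (4438, 5590), (4439, 4439), (4440, 4440), (4441, 4441), (4442, 4442), (4443, 4443), (4444, 5445), (4445, 5446), (4446, 5447), (4447, 5448), (4448, 5449), (4449, 3466), (4450, 3467), (4451, 3468), (4452, 3469), (4453, 3470), (4454, 5610), (4455, 5611), (4456, 5612), (4457, 5613), (4458, 5614), (4459, 5615), (4460, 5616), (4461, 3473), (4462, 4204), (4463, 4206), (4464, 5625), (4465, 4465), (4466, 3478), (4467, 3479), (4468, 3481), (4469, 5629), (4470, 4037), (4471, 5630), (4472, 4038), (4473, 4473), (4474, 4474), (4475, 4475), (4476, 4476), (4477, 4477), (4478, 3489), (4479, 3490)]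
    ⟨e3 q4416 (flp_b L81784) q5555, e3 q4417 (flp_b L81791) q5556, e3 q4418 (flp_b L81800) q5557, e3 q4419 (flp_b L81809) q5558, e3 q4420 L81861 q5564, e3 q4421 L56742 q4421, e3 q4422 L56752 q4422, e3 q4423 L56760 q4423, e3 q4424 (flp_b L80661) q5425, e3 q4425 (flp_b L80671) q5426, e3 q4426 L56783 q3450, e3 q4427 L56794 q3451, e3 q4428 L56802 q3452, e3 q4429 L56809 q3453, e3 q4430 L56818 q3454, e3 q4431 (flp_b L81977) q5577, e3 q4432 (flp_b L81987) q5578, e3 q4433 (flp_b L81996) q5579, e3 q4434 (flp_b L82005) q5580, e3 q4435 (flp_b L82011) q5581, e3 q4436 (flp_b L56864) q3455, e3 q4437 (flp_b L82077) q5589, e3 q4438 (flp_b L82084) q5590, e3 q4439 L56892 q4439, e3 q4440 L56902 q4440, e3 q4441 L56909 q4441, e3 q4442 L56918 q4442, e3 q4443 L56927 q4443, e3 q4444 (flp_b L80841) q5445, e3 q4445 (flp_b L80850) q5446, e3 q4446 (flp_b L80857) q5447, e3 q4447 (flp_b L80866) q5448, e3 q4448 (flp_b L80872) q5449, e3 q4449 L56966 q3466, e3 q4450 L56974 q3467, e3 q4451 L56983 q3468, e3 q4452 L56990 q3469, e3 q4453 L56997 q3470, e3 q4454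 (flp_b L82239) q5610, e3 q4455 (flp_b L82247) q5611, e3 q4456 (flp_b L82256) q5612, e3 q4457 (flp_b L82264) q5613, e3 q4458 (flp_b L82274) q5614, e3 q4459 (flp_b L82283) q5615, e3 q4460 (flp_b L82291) q5616, e3 q4461 L57101 q3473, e3 q4462 L561043 q4204, e3 q4463 (flp_b L579589) q4206, e3 q4464 (flp_b L82448) q5625, e3 q4465 L57187 q4465, e3 q4466 L57209 q3478, e3 q4467 L57216 q3479, e3 q4468 L57243 q3481, e3 q4469 (flp_b L82616) q5629, e3 q4470 L561580 q4037, e3 q4471 (flp_b L82631) q5630, e3 q4472 (flp_b L527959) q4038, e3 q4473 L57324 q4473, e3 q4474 L57334 q4474, e3 q4475 L57363 q4475, e3 q4476 L57371 q4476, e3 q4477 L57381 q4477, e3 q4478 L57415 q3489, e3 q4479 L57423 q3490, trivial⟩ (by decide +kernel)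

theorem ce_b_70 : ∀ r, r < 64 → sm gb (Qf (4480 + r)) = Qf (tab Gen.b (4480 + r)) :=
  edges_tab (sm gb) Qf (tab Gen.b) 4480 [(4480, 3491), (4481, 3492), (4482, 5641), (4483, 5642), (4484, 5643), (4485, 5644), (4486, 3712), (4487, 5645), (4488, 3713), (4489, 3709), (4490, 3711), (4491, 4491), (4492, 4492), (4493, 4493), (4494, 4494), (4495, 4495), (4496, 4496), (4497, 4497), (4498, 4498), (4499, 4499), (4500, 3507), (4501, 3508), (4502, 3509), (4503, 3510), (4504, 3511), (4505, 3512), (4506, 3513), (4507, 5669), (4508, 5670), (4509, 5671), (4510, 5672), (4511, 5673), (4512, 5685), (4513, 5675), (4514, 5676), (4515, 3843), (4516, 3844), (4517, 4108), (4518, 3845), (4519, 3517), (4520, 5693), (4521, 3848), (4522, 4522), (4523, 3520), (4524, 5698), (4525, 5699), (4526, 3853), (4527, 4527), (4528, 3854), (4529, 4107), (4530, 3855), (4531, 3526), (4532, 5708), (4533, 5709), (4534, 3859), (4535, 4535), (4536, 3530), (4537, 3531), (4538, 5717), (4539, 5718), (4540, 5719), (4541, 3866), (4542, 4542), (4543, 3867)]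
    ⟨e3 q4480 L57432 q3491, e3 q4481 L57442 q3492, e3 q4482 (flp_b L82907) q5641, e3 q4483 (flp_b L82916) q5642, e3 q4484 (flp_b L82925) q5643, e3 q4485 (flp_b L82933) q5644, e3 q4486 L562572 q3712, e3 q4487 (flp_b L82951) q5645, e3 q4488 (flp_b L563284) q3713, e3 q4489 (flp_b L563505) q3709, e3 q4490 L563524 q3711, e3 q4491 L57583 q4491, e3 q4492 L57590 q4492, e3 q4493 L57600 q4493, e3 q4494 L57609 q4494, e3 q4495 L57625 q4495, e3 q4496 L57632 q4496, e3 q4497 L57639 q4497, e3 q4498 L57649 q4498, e3 q4499 L57657 q4499, e3 q4500 L57690 q3507, e3 q4501 L57697 q3508, e3 q4502 L57704 q3509, e3 q4503 L57712 q3510, e3 q4504 L57720 q3511, e3 q4505 L57729 q3512, e3 q4506 L57738 q3513, e3 q4507 (flp_b L83319) q5669, e3 q4508 (flp_b L83326) q5670, e3 q4509 (flp_b L83335) q5671, e3 q4510 (flp_b L83344) q5672, e3 q4511 (flp_b L83351) q5673, e3 q4512 L83446 q5685, e3 q4513 (flp_b L83365) q5675, e3 q4514 (flp_b L83375) q5676, e3 q4515 L57812 q3843, e3 q4516 L57824 q3844, e3 q4517 L453846 q4108, e3 q4518 L57845 q3845, e3 q4519 (flp_b L57853)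 q3517, e3 q4520 (flp_b L83548) q5693, e3 q4521 L57876 q3848, e3 q4522 L57892 q4522, e3 q4523 L57895 q3520, e3 q4524 (flp_b L83599) q5698, e3 q4525 (flp_b L83606) q5699, e3 q4526 L57921 q3853, e3 q4527 L407541 q4527, e3 q4528 L57940 q3854, e3 q4529 (flp_b L593080) q4107, e3 q4530 L57973 q3855, e3 q4531 L57995 q3526, e3 q4532 (flp_b L83745) q5708, e3 q4533 (flp_b L83753) q5709, e3 q4534 L58025 q3859, e3 q4535 L58036 q4535, e3 q4536 L58044 q3530, e3 q4537 L58050 q3531, e3 q4538 (flp_b L83828) q5717, e3 q4539 (flp_b L83836) q5718, e3 q4540 (flp_b L83843) q5719, e3 q4541 L58085 q3866, e3 q4542 L435875 q4542, e3 q4543 L58113 q3867, trivial⟩ (by decide +kernel)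

theorem ce_b_71 : ∀ r, r < 64 → sm gb (Qf (4544 + r)) = Qf (tab Gen.b (4544 + r)) :=
  edges_tab (sm gb) Qf (tab Gen.b) 4544 [(4544, 4121), (4545, 4084), (4546, 3868), (4547, 3538), (4548, 3539), (4549, 5733), (4550, 5734), (4551, 5735), (4552, 3873), (4553, 4553), (4554, 4554), (4555, 4555), (4556, 3544), (4557, 3545), (4558, 3546), (4559, 5744), (4560, 5745), (4561, 5746), (4562, 5747), (4563, 5748), (4564, 3738), (4565, 4070), (4566, 3884), (4567, 3551), (4568, 3552), (4569, 5759), (4570, 5760), (4571, 5761), (4572, 3889), (4573, 4573), (4574, 4574), (4575, 3619), (4576, 3557), (4577, 3558), (4578, 3559), (4579, 5773), (4580, 5774), (4581, 5775), (4582, 5776), (4583, 5777), (4584, 3754), (4585, 3755), (4586, 4085), (4587, 3901), (4588, 3630), (4589, 3566), (4590, 3567), (4591, 3568), (4592, 5790), (4593, 5791), (4594, 5792), (4595, 5793), (4596, 5794), (4597, 5800), (4598, 4598), (4599, 4599), (4600, 4600), (4601, 3643), (4602, 3644), (4603, 3576), (4604, 3577), (4605, 3578), (4606, 3579), (4607, 3580)]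
    ⟨e3 q4544 L592995 q4121, e3 q4545 (flp_b L592979) q4084, e3 q4546 L58161 q3868, e3 q4547 L58181 q3538, e3 q4548 L58188 q3539, e3 q4549 (flp_b L84029) q5733, e3 q4550 (flp_b L84037) q5734, e3 q4551 (flp_b L84042) q5735, e3 q4552 L58222 q3873, e3 q4553 L58234 q4553, e3 q4554 L58240 q4554, e3 q4555 L58249 q4555, e3 q4556 L58254 q3544, e3 q4557 L58260 q3545, e3 q4558 L58266 q3546, e3 q4559 (flp_b L84138) q5744, e3 q4560 (flp_b L84144) q5745, e3 q4561 (flp_b L84151) q5746, e3 q4562 (flp_b L84158) q5747, e3 q4563 (flp_b L84164) q5748, e3 q4564 L549610 q3738, e3 q4565 (flp_b L593572) q4070, e3 q4566 L58355 q3884, e3 q4567 L58376 q3551, e3 q4568 L58385 q3552, e3 q4569 (flp_b L84315) q5759, e3 q4570 (flp_b L84325) q5760, e3 q4571 (flp_b L84332) q5761, e3 q4572 L58423 q3889, e3 q4573 L58436 q4573, e3 q4574 L58444 q4574, e3 q4575 L58455 q3619, e3 q4576 L58461 q3557, e3 q4577 L58469 q3558, e3 q4578 L58477 q3559, e3 q4579 (flp_b L84444) q5773, e3 q4580 (flp_b L84450) q5774, e3 q4581 (flp_b L84457) q5775, e3 q4582 (flp_b L84466) q5776,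 e3 q4583 (flp_b L84474) q5777, e3 q4584 L549692 q3754, e3 q4585 (flp_b L592222) q3755, e3 q4586 L520360 q4085, e3 q4587 L58584 q3901, e3 q4588 L58616 q3630, e3 q4589 L58622 q3566, e3 q4590 L58630 q3567, e3 q4591 L58636 q3568, e3 q4592 (flp_b L84682) q5790, e3 q4593 (flp_b L84688) q5791, e3 q4594 (flp_b L84698) q5792, e3 q4595 (flp_b L84704) q5793, e3 q4596 (flp_b L84712) q5794, e3 q4597 L84765 q5800, e3 q4598 L58699 q4598, e3 q4599 L58706 q4599, e3 q4600 L58714 q4600, e3 q4601 L58722 q3643, e3 q4602 L58730 q3644, e3 q4603 L58738 q3576, e3 q4604 L58742 q3577, e3 q4605 L58750 q3578, e3 q4606 L58757 q3579, e3 q4607 L58764 q3580, trivial⟩ (by decide +kernel)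

theorem ce_b_72 : ∀ r, r < 64 → sm gb (Qf (4608 + r)) = Qf (tab Gen.b (4608 + r)) :=
  edges_tab (sm gb) Qf (tab Gen.b) 4608 [(4608, 5813), (4609, 5814), (4610, 5815), (4611, 5816), (4612, 5817), (4613, 3778), (4614, 3779), (4615, 3780), (4616, 3781), (4617, 4102), (4618, 3659), (4619, 3660), (4620, 3589), (4621, 3590), (4622, 3591), (4623, 3592), (4624, 3593), (4625, 5834), (4626, 5835), (4627, 5836), (4628, 5837), (4629, 5838), (4630, 3594), (4631, 5846), (4632, 5847), (4633, 4633), (4634, 4634), (4635, 4635), (4636, 4636), (4637, 4637), (4638, 3679), (4639, 3680), (4640, 3681), (4641, 3682), (4642, 3683), (4643, 3605), (4644, 3606), (4645, 3607), (4646, 3608), (4647, 3609), (4648, 5867), (4649, 5868), (4650, 5869), (4651, 5870), (4652, 5871), (4653, 5872), (4654, 5873), (4655, 4655), (4656, 4656), (4657, 5758), (4658, 3613), (4659, 3614), (4660, 3615), (4661, 5888), (4662, 5889), (4663, 5890), (4664, 5891), (4665, 5892), (4666, 5898), (4667, 4667), (4668, 4668), (4669, 4669), (4670, 5771), (4671, 5772)]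
    ⟨e3 q4608 (flp_b L84873) q5813, e3 q4609 (flp_b L84879) q5814, e3 q4610 (flp_b L84885) q5815, e3 q4611 (flp_b L84893) q5816, e3 q4612 (flp_b L84902) q5817, e3 q4613 L549459 q3778, e3 q4614 (flp_b L549451) q3779, e3 q4615 (flp_b L592367) q3780, e3 q4616 (flp_b L549561) q3781, e3 q4617 (flp_b L593439) q4102, e3 q4618 L58946 q3659, e3 q4619 L58957 q3660, e3 q4620 L58964 q3589, e3 q4621 L58972 q3590, e3 q4622 L58980 q3591, e3 q4623 L58987 q3592, e3 q4624 L58994 q3593, e3 q4625 (flp_b L85220) q5834, e3 q4626 (flp_b L85229) q5835, e3 q4627 (flp_b L85236) q5836, e3 q4628 (flp_b L85245) q5837, e3 q4629 (flp_b L85251) q5838, e3 q4630 (flp_b L59047) q3594, e3 q4631 (flp_b L85322) q5846, e3 q4632 (flp_b L85332) q5847, e3 q4633 L59075 q4633, e3 q4634 L59082 q4634, e3 q4635 L59089 q4635, e3 q4636 L59098 q4636, e3 q4637 L59105 q4637, e3 q4638 L59113 q3679, e3 q4639 L59120 q3680, e3 q4640 L59128 q3681, e3 q4641 L59137 q3682, e3 q4642 L59145 q3683, e3 q4643 L59152 q3605, e3 q4644 L59159 q3606, e3 q4645 L59166 q3607, e3 q4646 L59173 q3608,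 e3 q4647 L59180 q3609, e3 q4648 (flp_b L85495) q5867, e3 q4649 (flp_b L85500) q5868, e3 q4650 (flp_b L85508) q5869, e3 q4651 (flp_b L85516) q5870, e3 q4652 (flp_b L85523) q5871, e3 q4653 (flp_b L85530) q5872, e3 q4654 (flp_b L85538) q5873, e3 q4655 L59245 q4655, e3 q4656 L59255 q4656, e3 q4657 (flp_b L84309) q5758, e3 q4658 L59275 q3613, e3 q4659 L59285 q3614, e3 q4660 L59293 q3615, e3 q4661 (flp_b L85670) q5888, e3 q4662 (flp_b L85679) q5889, e3 q4663 (flp_b L85688) q5890, e3 q4664 (flp_b L85697) q5891, e3 q4665 (flp_b L85707) q5892, e3 q4666 L85760 q5898, e3 q4667 L59360 q4667, e3 q4668 L59369 q4668, e3 q4669 L59379 q4669, e3 q4670 (flp_b L84425) q5771, e3 q4671 (flp_b L84435) q5772, trivial⟩ (by decide +kernel)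

theorem ce_b_73 : ∀ r, r < 64 → sm gb (Qf (4672 + r)) = Qf (tab Gen.b (4672 + r)) :=
  edges_tab (sm gb) Qf (tab Gen.b) 4672 [(4672, 3623), (4673, 3624), (4674, 3625), (4675, 3626), (4676, 3627), (4677, 5911), (4678, 5912), (4679, 5913), (4680, 5914), (4681, 5915), (4682, 5923), (4683, 4683), (4684, 4684), (4685, 4685), (4686, 5788), (4687, 5789), (4688, 3634), (4689, 3635), (4690, 3636), (4691, 3637), (4692, 3638), (4693, 5936), (4694, 5937), (4695, 5938), (4696, 5939), (4697, 5940), (4698, 3639), (4699, 5948), (4700, 5934), (4701, 4701), (4702, 4702), (4703, 4703), (4704, 4704), (4705, 4705), (4706, 5808), (4707, 5809), (4708, 5810), (4709, 5811), (4710, 5812), (4711, 3650), (4712, 3651), (4713, 3652), (4714, 3653), (4715, 3654), (4716, 5967), (4717, 5968), (4718, 5969), (4719, 5970), (4720, 5971), (4721, 5972), (4722, 5973), (4723, 3655), (4724, 5982), (4725, 5851), (4726, 4726), (4727, 4727), (4728, 4728), (4729, 4729), (4730, 4730), (4731, 5830), (4732, 5831), (4733, 5832), (4734, 3673), (4735, 5833)]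
    ⟨e3 q4672 L59403 q3623, e3 q4673 L59410 q3624, e3 q4674 L59417 q3625, e3 q4675 L59427 q3626, e3 q4676 L59436 q3627, e3 q4677 (flp_b L85876) q5911, e3 q4678 (flp_b L85883) q5912, e3 q4679 (flp_b L85891) q5913, e3 q4680 (flp_b L85900) q5914, e3 q4681 (flp_b L85909) q5915, e3 q4682 L85970 q5923, e3 q4683 L59498 q4683, e3 q4684 L59507 q4684, e3 q4685 L59515 q4685, e3 q4686 (flp_b L84664) q5788, e3 q4687 (flp_b L84674) q5789, e3 q4688 L59540 q3634, e3 q4689 L59547 q3635, e3 q4690 L59557 q3636, e3 q4691 L59564 q3637, e3 q4692 L59573 q3638, e3 q4693 (flp_b L86086) q5936, e3 q4694 (flp_b L86095) q5937, e3 q4695 (flp_b L86101) q5938, e3 q4696 (flp_b L86111) q5939, e3 q4697 (flp_b L86120) q5940, e3 q4698 (flp_b L59621) q3639, e3 q4699 (flp_b L86182) q5948, e3 q4700 (flp_b L576564) q5934, e3 q4701 L59648 q4701, e3 q4702 L59654 q4702, e3 q4703 L59663 q4703, e3 q4704 L59672 q4704, e3 q4705 L59681 q4705, e3 q4706 (flp_b L84832) q5808, e3 q4707 (flp_b L84838) q5809, e3 q4708 (flp_b L84848) q5810, e3 q4709 (flp_b L84856) q5811, e3 q4710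 (flp_b L84865) q5812, e3 q4711 L59723 q3650, e3 q4712 L59730 q3651, e3 q4713 L59736 q3652, e3 q4714 L59744 q3653, e3 q4715 L59754 q3654, e3 q4716 (flp_b L86345) q5967, e3 q4717 (flp_b L86352) q5968, e3 q4718 (flp_b L86359) q5969, e3 q4719 (flp_b L86367) q5970, e3 q4720 (flp_b L86374) q5971, e3 q4721 (flp_b L86380) q5972, e3 q4722 (flp_b L86390) q5973, e3 q4723 (flp_b L59808) q3655, e3 q4724 (flp_b L86459) q5982, e3 q4725 (flp_b L576239) q5851, e3 q4726 L59838 q4726, e3 q4727 L59848 q4727, e3 q4728 L59857 q4728, e3 q4729 L59866 q4729, e3 q4730 L59875 q4730, e3 q4731 (flp_b L85176) q5830, e3 q4732 (flp_b L85185) q5831, e3 q4733 (flp_b L85195) q5832, e3 q4734 L553608 q3673, e3 q4735 (flp_b L85211) q5833, trivial⟩ (by decide +kernel)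

theorem ce_b_74 : ∀ r, r < 64 → sm gb (Qf (4736 + r)) = Qf (tab Gen.b (4736 + r)) :=
  edges_tab (sm gb) Qf (tab Gen.b) 4736 [(4736, 3666), (4737, 3667), (4738, 3668), (4739, 3669), (4740, 3670), (4741, 6000), (4742, 6001), (4743, 6002), (4744, 6003), (4745, 6004), (4746, 6005), (4747, 6006), (4748, 3672), (4749, 6015), (4750, 6016), (4751, 5997), (4752, 5999), (4753, 4753), (4754, 4754), (4755, 4755), (4756, 4756), (4757, 4757), (4758, 5858), (4759, 5859), (4760, 5860), (4761, 5861), (4762, 5862), (4763, 5863), (4764, 5864), (4765, 5865), (4766, 5866), (4767, 3689), (4768, 3690), (4769, 3691), (4770, 3692), (4771, 3693), (4772, 3694), (4773, 3695), (4774, 6044), (4775, 6045), (4776, 6046), (4777, 6047), (4778, 6048), (4779, 6060), (4780, 6050), (4781, 6051), (4782, 4782), (4783, 4783), (4784, 4784), (4785, 4785), (4786, 4786), (4787, 3705), (4788, 3706), (4789, 3707), (4790, 3708), (4791, 3710), (4792, 6069), (4793, 6070), (4794, 6071), (4795, 6072), (4796, 5655), (4797, 6082), (4798, 5654), (4799, 5656)]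
    ⟨e3 q4736 L59921 q3666, e3 q4737 L59931 q3667, e3 q4738 L59938 q3668, e3 q4739 L59947 q3669, e3 q4740 L59954 q3670, e3 q4741 (flp_b L86636) q6000, e3 q4742 (flp_b L86644) q6001, e3 q4743 (flp_b L86655) q6002, e3 q4744 (flp_b L86663) q6003, e3 q4745 (flp_b L86671) q6004, e3 q4746 (flp_b L86680) q6005, e3 q4747 (flp_b L86688) q6006, e3 q4748 L60018 q3672, e3 q4749 (flp_b L86759) q6015, e3 q4750 (flp_b L86765) q6016, e3 q4751 L553252 q5997, e3 q4752 L526905 q5999, e3 q4753 L60074 q4753, e3 q4754 L60083 q4754, e3 q4755 L60091 q4755, e3 q4756 L60099 q4756, e3 q4757 L60108 q4757, e3 q4758 (flp_b L85418) q5858, e3 q4759 (flp_b L85426) q5859, e3 q4760 (flp_b L85434) q5860, e3 q4761 (flp_b L85443) q5861, e3 q4762 (flp_b L85452) q5862, e3 q4763 (flp_b L85460) q5863, e3 q4764 (flp_b L85470) q5864, e3 q4765 (flp_b L85479) q5865, e3 q4766 (flp_b L85487) q5866, e3 q4767 L60179 q3689, e3 q4768 L60185 q3690, e3 q4769 L60194 q3691, e3 q4770 L60202 q3692, e3 q4771 L60211 q3693, e3 q4772 L60218 q3694, e3 q4773 L60227 q3695, e3 q4774 (flp_b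 L87039) q6044, e3 q4775 (flp_b L87047) q6045, e3 q4776 (flp_b L87053) q6046, e3 q4777 (flp_b L87062) q6047, e3 q4778 (flp_b L87072) q6048, e3 q4779 L87164 q6060, e3 q4780 (flp_b L87087) q6050, e3 q4781 (flp_b L87096) q6051, e3 q4782 L60364 q4782, e3 q4783 L60381 q4783, e3 q4784 L60410 q4784, e3 q4785 L60418 q4785, e3 q4786 L60435 q4786, e3 q4787 L60490 q3705, e3 q4788 L60497 q3706, e3 q4789 L60506 q3707, e3 q4790 L60514 q3708, e3 q4791 L60529 q3710, e3 q4792 (flp_b L87508) q6069, e3 q4793 (flp_b L87517) q6070, e3 q4794 (flp_b L87524) q6071, e3 q4795 (flp_b L87533) q6072, e3 q4796 L563520 q5655, e3 q4797 L87635 q6082, e3 q4798 (flp_b L562012) q5654, e3 q4799 (flp_b L563539) q5656, trivial⟩ (by decide +kernel)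

theorem ce_b_75 : ∀ r, r < 64 → sm gb (Qf (4800 + r)) = Qf (tab Gen.b (4800 + r)) :=
  edges_tab (sm gb) Qf (tab Gen.b) 4800 [(4800, 5652), (4801, 5650), (4802, 5653), (4803, 4803), (4804, 4804), (4805, 4805), (4806, 4806), (4807, 4807), (4808, 4808), (4809, 4809), (4810, 4810), (4811, 4811), (4812, 4812), (4813, 4813), (4814, 4814), (4815, 3730), (4816, 3731), (4817, 3732), (4818, 3733), (4819, 3734), (4820, 6112), (4821, 3736), (4822, 3737), (4823, 6104), (4824, 6105), (4825, 6106), (4826, 6107), (4827, 6108), (4828, 6109), (4829, 6123), (4830, 6111), (4831, 3735), (4832, 6127), (4833, 6114), (4834, 5754), (4835, 5755), (4836, 4836), (4837, 4837), (4838, 4838), (4839, 4839), (4840, 4840), (4841, 4841), (4842, 4842), (4843, 4843), (4844, 4844), (4845, 4845), (4846, 3749), (4847, 3750), (4848, 3751), (4849, 3752), (4850, 3753), (4851, 6147), (4852, 6148), (4853, 6149), (4854, 6150), (4855, 6151), (4856, 6152), (4857, 6153), (4858, 5783), (4859, 5784), (4860, 5785), (4861, 5786), (4862, 4862), (4863, 4863)]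
    ⟨e3 q4800 L562566 q5652, e3 q4801 (flp_b L563273) q5650, e3 q4802 L563263 q5653, e3 q4803 L60704 q4803, e3 q4804 L60710 q4804, e3 q4805 L60718 q4805, e3 q4806 L60727 q4806, e3 q4807 L60743 q4807, e3 q4808 L60762 q4808, e3 q4809 L60769 q4809, e3 q4810 L60775 q4810, e3 q4811 L60781 q4811, e3 q4812 L60789 q4812, e3 q4813 L60798 q4813, e3 q4814 L60811 q4814, e3 q4815 L60830 q3730, e3 q4816 L60837 q3731, e3 q4817 L60844 q3732, e3 q4818 L60853 q3733, e3 q4819 L60861 q3734, e3 q4820 L88018 q6112, e3 q4821 L60874 q3736, e3 q4822 L60883 q3737, e3 q4823 (flp_b L87958) q6104, e3 q4824 (flp_b L87964) q6105, e3 q4825 (flp_b L87973) q6106, e3 q4826 (flp_b L87979) q6107, e3 q4827 (flp_b L87986) q6108, e3 q4828 (flp_b L87995) q6109, e3 q4829 L88101 q6123, e3 q4830 (flp_b L88010) q6111, e3 q4831 (flp_b L60952) q3735, e3 q4832 (flp_b L88134) q6127, e3 q4833 (flp_b L88034) q6114, e3 q4834 (flp_b L549624) q5754, e3 q4835 (flp_b L507386) q5755, e3 q4836 L61009 q4836, e3 q4837 L61019 q4837, e3 q4838 L61028 q4838, e3 q4839 L61037 q4839, e3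 q4840 L61047 q4840, e3 q4841 L61057 q4841, e3 q4842 L61066 q4842, e3 q4843 L61075 q4843, e3 q4844 L61084 q4844, e3 q4845 L61092 q4845, e3 q4846 L61102 q3749, e3 q4847 L61110 q3750, e3 q4848 L61119 q3751, e3 q4849 L61129 q3752, e3 q4850 L61136 q3753, e3 q4851 (flp_b L88352) q6147, e3 q4852 (flp_b L88360) q6148, e3 q4853 (flp_b L88370) q6149, e3 q4854 (flp_b L88378) q6150, e3 q4855 (flp_b L88386) q6151, e3 q4856 (flp_b L88396) q6152, e3 q4857 (flp_b L88405) q6153, e3 q4858 L549669 q5783, e3 q4859 L549655 q5784, e3 q4860 (flp_b L549720) q5785, e3 q4861 L592183 q5786, e3 q4862 L61270 q4862, e3 q4863 L61279 q4863, trivial⟩ (by decide +kernel)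

theorem ce_b_76 : ∀ r, r < 64 → sm gb (Qf (4864 + r)) = Qf (tab Gen.b (4864 + r)) :=
  edges_tab (sm gb) Qf (tab Gen.b) 4864 [(4864, 4864), (4865, 4865), (4866, 4866), (4867, 4867), (4868, 4868), (4869, 4869), (4870, 4870), (4871, 4871), (4872, 4872), (4873, 4873), (4874, 4874), (4875, 4875), (4876, 3771), (4877, 3772), (4878, 3773), (4879, 3774), (4880, 3775), (4881, 3776), (4882, 3777), (4883, 6189), (4884, 6190), (4885, 6191), (4886, 6192), (4887, 6193), (4888, 6205), (4889, 6195), (4890, 6196), (4891, 5825), (4892, 5826), (4893, 5827), (4894, 5828), (4895, 5829), (4896, 4896), (4897, 4897), (4898, 4898), (4899, 4899), (4900, 4900), (4901, 4901), (4902, 4902), (4903, 4903), (4904, 4904), (4905, 4905), (4906, 4906), (4907, 4907), (4908, 4908), (4909, 4909), (4910, 4910), (4911, 4911), (4912, 4912), (4913, 4913), (4914, 4914), (4915, 3802), (4916, 3803), (4917, 3804), (4918, 3805), (4919, 3806), (4920, 6247), (4921, 3808), (4922, 3809), (4923, 6239), (4924, 6240), (4925, 6241), (4926, 6242), (4927, 6243)]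
    ⟨e3 q4864 L61287 q4864, e3 q4865 L61297 q4865, e3 q4866 L61306 q4866, e3 q4867 L61312 q4867, e3 q4868 L61320 q4868, e3 q4869 L61328 q4869, e3 q4870 L61336 q4870, e3 q4871 L61346 q4871, e3 q4872 L61355 q4872, e3 q4873 L61362 q4873, e3 q4874 L61370 q4874, e3 q4875 L61378 q4875, e3 q4876 L61385 q3771, e3 q4877 L61394 q3772, e3 q4878 L61402 q3773, e3 q4879 L61410 q3774, e3 q4880 L61416 q3775, e3 q4881 L61424 q3776, e3 q4882 L61432 q3777, e3 q4883 (flp_b L88789) q6189, e3 q4884 (flp_b L88799) q6190, e3 q4885 (flp_b L88808) q6191, e3 q4886 (flp_b L88816) q6192, e3 q4887 (flp_b L88823) q6193, e3 q4888 L88915 q6205, e3 q4889 (flp_b L88836) q6195, e3 q4890 (flp_b L88843) q6196, e3 q4891 (flp_b L549444) q5825, e3 q4892 (flp_b L549408) q5826, e3 q4893 (flp_b L549429) q5827, e3 q4894 L592392 q5828, e3 q4895 L592338 q5829, e3 q4896 L61623 q4896, e3 q4897 L61632 q4897, e3 q4898 L61643 q4898, e3 q4899 L61652 q4899, e3 q4900 L61661 q4900, e3 q4901 L61671 q4901, e3 q4902 L61679 q4902, e3 q4903 L61685 q4903, e3 q4904 L61693 q4904, e3 q4905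 L61703 q4905, e3 q4906 L61712 q4906, e3 q4907 L61718 q4907, e3 q4908 L61728 q4908, e3 q4909 L61736 q4909, e3 q4910 L61743 q4910, e3 q4911 L61751 q4911, e3 q4912 L61757 q4912, e3 q4913 L61765 q4913, e3 q4914 L61772 q4914, e3 q4915 L61786 q3802, e3 q4916 L61795 q3803, e3 q4917 L61802 q3804, e3 q4918 L61811 q3805, e3 q4919 L61819 q3806, e3 q4920 L89408 q6247, e3 q4921 L61834 q3808, e3 q4922 L61842 q3809, e3 q4923 (flp_b L89343) q6239, e3 q4924 (flp_b L89352) q6240, e3 q4925 (flp_b L89360) q6241, e3 q4926 (flp_b L89369) q6242, e3 q4927 (flp_b L89377) q6243, trivial⟩ (by decide +kernel)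

theorem ce_b_77 : ∀ r, r < 64 → sm gb (Qf (4928 + r)) = Qf (tab Gen.b (4928 + r)) :=
  edges_tab (sm gb) Qf (tab Gen.b) 4928 [(4928, 6244), (4929, 6258), (4930, 6246), (4931, 3807), (4932, 6262), (4933, 6249), (4934, 4934), (4935, 4935), (4936, 4936), (4937, 4937), (4938, 4938), (4939, 6272), (4940, 4940), (4941, 4941), (4942, 3825), (4943, 3826), (4944, 3827), (4945, 3828), (4946, 3829), (4947, 3830), (4948, 6281), (4949, 3832), (4950, 3822), (4951, 6285), (4952, 3835), (4953, 6275), (4954, 6280), (4955, 6277), (4956, 6278), (4957, 3831), (4958, 6283), (4959, 4959), (4960, 3834), (4961, 6289), (4962, 4962), (4963, 4963), (4964, 4964), (4965, 4965), (4966, 4966), (4967, 5688), (4968, 5690), (4969, 5692), (4970, 3847), (4971, 6295), (4972, 6296), (4973, 5696), (4974, 4119), (4975, 3851), (4976, 3852), (4977, 5704), (4978, 5707), (4979, 3857), (4980, 3858), (4981, 6301), (4982, 6302), (4983, 5713), (4984, 4120), (4985, 4082), (4986, 4986), (4987, 3863), (4988, 3864), (4989, 3865), (4990, 5727), (4991, 5731)]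
    ⟨e3 q4928 (flp_b L89386) q6244, e3 q4929 L89497 q6258, e3 q4930 (flp_b L89402) q6246, e3 q4931 (flp_b L61914) q3807, e3 q4932 (flp_b L89530) q6262, e3 q4933 (flp_b L89424) q6249, e3 q4934 L61941 q4934, e3 q4935 L61951 q4935, e3 q4936 L61961 q4936, e3 q4937 L61972 q4937, e3 q4938 L61979 q4938, e3 q4939 L89620 q6272, e3 q4940 L61997 q4940, e3 q4941 L62006 q4941, e3 q4942 L62015 q3825, e3 q4943 L62024 q3826, e3 q4944 L62034 q3827, e3 q4945 L62041 q3828, e3 q4946 L62051 q3829, e3 q4947 L62058 q3830, e3 q4948 L89708 q6281, e3 q4949 L62074 q3832, e3 q4950 (flp_b L62080) q3822, e3 q4951 (flp_b L89738) q6285, e3 q4952 L62096 q3835, e3 q4953 (flp_b L89655) q6275, e3 q4954 (flp_b L647566) q6280, e3 q4955 (flp_b L89680) q6277, e3 q4956 (flp_b L89686) q6278, e3 q4957 (flp_b L62166) q3831, e3 q4958 (flp_b L89724) q6283, e3 q4959 L62193 q4959, e3 q4960 L62196 q3834, e3 q4961 (flp_b L89887) q6289, e3 q4962 L62330 q4962, e3 q4963 L62352 q4963, e3 q4964 L62377 q4964, e3 q4965 L62387 q4965, e3 q4966 L62398 q4966, e3 q4967 (flp_b L83473)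 q5688, e3 q4968 (flp_b L83493) q5690, e3 q4969 (flp_b L83528) q5692, e3 q4970 L62544 q3847, e3 q4971 (flp_b L90343) q6295, e3 q4972 (flp_b L90353) q6296, e3 q4973 (flp_b L83578) q5696, e3 q4974 (flp_b L597714) q4119, e3 q4975 L62594 q3851, e3 q4976 L62602 q3852, e3 q4977 (flp_b L83670) q5704, e3 q4978 (flp_b L83725) q5707, e3 q4979 L62808 q3857, e3 q4980 L62817 q3858, e3 q4981 (flp_b L90756) q6301, e3 q4982 (flp_b L90773) q6302, e3 q4983 (flp_b L83791) q5713, e3 q4984 (flp_b L597498) q4120, e3 q4985 (flp_b L598067) q4082, e3 q4986 L62890 q4986, e3 q4987 L62893 q3863, e3 q4988 L62901 q3864, e3 q4989 L62909 q3865, e3 q4990 (flp_b L83928) q5727, e3 q4991 (flp_b L83992) q5731, trivial⟩ (by decide +kernel)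

theorem ce_b_78 : ∀ r, r < 64 → sm gb (Qf (4992 + r)) = Qf (tab Gen.b (4992 + r)) :=
  edges_tab (sm gb) Qf (tab Gen.b) 4992 [(4992, 4992), (4993, 3871), (4994, 3872), (4995, 6309), (4996, 6310), (4997, 6311), (4998, 5310), (4999, 4100), (5000, 4129), (5001, 4099), (5002, 5002), (5003, 5003), (5004, 3880), (5005, 3881), (5006, 3882), (5007, 3883), (5008, 5757), (5009, 3955), (5010, 3887), (5011, 3888), (5012, 6319), (5013, 6320), (5014, 6313), (5015, 6321), (5016, 3973), (5017, 3962), (5018, 4083), (5019, 3967), (5020, 3968), (5021, 3896), (5022, 3897), (5023, 3898), (5024, 3899), (5025, 3900), (5026, 6329), (5027, 3977), (5028, 3905), (5029, 3906), (5030, 3907), (5031, 6332), (5032, 6333), (5033, 3908), (5034, 6334), (5035, 3974), (5036, 4000), (5037, 4001), (5038, 3987), (5039, 4101), (5040, 3992), (5041, 3993), (5042, 3994), (5043, 3995), (5044, 3919), (5045, 3920), (5046, 3921), (5047, 3922), (5048, 3923), (5049, 6347), (5050, 6348), (5051, 4006), (5052, 4007), (5053, 3928), (5054, 3929), (5055, 6352)]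
    ⟨e3 q4992 L63191 q4992, e3 q4993 L63194 q3871, e3 q4994 L63208 q3872, e3 q4995 (flp_b L91325) q6309, e3 q4996 (flp_b L91334) q6310, e3 q4997 (flp_b L91357) q6311, e3 q4998 (flp_b L643289) q5310, e3 q4999 (flp_b L597412) q4100, e3 q5000 (flp_b L597452) q4129, e3 q5001 (flp_b L597919) q4099, e3 q5002 L63297 q5002, e3 q5003 L63302 q5003, e3 q5004 L63309 q3880, e3 q5005 L63316 q3881, e3 q5006 L63323 q3882, e3 q5007 L63337 q3883, e3 q5008 (flp_b L84272) q5757, e3 q5009 L63537 q3955, e3 q5010 L63541 q3887, e3 q5011 L63559 q3888, e3 q5012 (flp_b L91846) q6319, e3 q5013 (flp_b L91855) q6320, e3 q5014 L626854 q6313, e3 q5015 L91944 q6321, e3 q5016 L594093 q3973, e3 q5017 (flp_b L588933) q3962, e3 q5018 L594599 q4083, e3 q5019 L63658 q3967, e3 q5020 L63666 q3968, e3 q5021 L63676 q3896, e3 q5022 L63683 q3897, e3 q5023 L63690 q3898, e3 q5024 L63699 q3899, e3 q5025 L63708 q3900, e3 q5026 (flp_b L92100) q6329, e3 q5027 L63964 q3977, e3 q5028 L63981 q3905, e3 q5029 L63988 q3906, e3 q5030 L64013 q3907, e3 q5031 (flp_b L92537) q6332,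 e3 q5032 (flp_b L92552) q6333, e3 q5033 (flp_b L64070) q3908, e3 q5034 (flp_b L92649) q6334, e3 q5035 (flp_b L591108) q3974, e3 q5036 (flp_b L589000) q4000, e3 q5037 (flp_b L598533) q4001, e3 q5038 L588973 q3987, e3 q5039 L594637 q4101, e3 q5040 L64141 q3992, e3 q5041 L64148 q3993, e3 q5042 L64156 q3994, e3 q5043 L64164 q3995, e3 q5044 L64180 q3919, e3 q5045 L64186 q3920, e3 q5046 L64193 q3921, e3 q5047 L64201 q3922, e3 q5048 L64210 q3923, e3 q5049 (flp_b L92851) q6347, e3 q5050 (flp_b L92867) q6348, e3 q5051 L64592 q4006, e3 q5052 L64602 q4007, e3 q5053 L64634 q3928, e3 q5054 L64651 q3929, e3 q5055 (flp_b L93495) q6352, trivial⟩ (by decide +kernel)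

theorem ce_b_79 : ∀ r, r < 64 → sm gb (Qf (5056 + r)) = Qf (tab Gen.b (5056 + r)) :=
  edges_tab (sm gb) Qf (tab Gen.b) 5056 [(5056, 6353), (5057, 3931), (5058, 6354), (5059, 6355), (5060, 4002), (5061, 4035), (5062, 4017), (5063, 4036), (5064, 4019), (5065, 4024), (5066, 4025), (5067, 4026), (5068, 4027), (5069, 4028), (5070, 4029), (5071, 4030), (5072, 3946), (5073, 3947), (5074, 3948), (5075, 3949), (5076, 3950), (5077, 3951), (5078, 3952), (5079, 6374), (5080, 6376), (5081, 6377), (5082, 6323), (5083, 4178), (5084, 4179), (5085, 6318), (5086, 3964), (5087, 3959), (5088, 3960), (5089, 3961), (5090, 3963), (5091, 6380), (5092, 6379), (5093, 6324), (5094, 6384), (5095, 4183), (5096, 4184), (5097, 4185), (5098, 6325), (5099, 6326), (5100, 6327), (5101, 6328), (5102, 6337), (5103, 4186), (5104, 4187), (5105, 4188), (5106, 6330), (5107, 6331), (5108, 3988), (5109, 3983), (5110, 3984), (5111, 3985), (5112, 3986), (5113, 6393), (5114, 6381), (5115, 6338), (5116, 6392), (5117, 6339), (5118, 6396), (5119, 6398)]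
    ⟨e3 q5056 (flp_b L93503) q6353, e3 q5057 L64747 q3931, e3 q5058 (flp_b L93633) q6354, e3 q5059 (flp_b L93643) q6355, e3 q5060 (flp_b L590966) q4002, e3 q5061 L580454 q4035, e3 q5062 (flp_b L580408) q4017, e3 q5063 (flp_b L598455) q4036, e3 q5064 (flp_b L580432) q4019, e3 q5065 L64848 q4024, e3 q5066 L64855 q4025, e3 q5067 L64863 q4026, e3 q5068 L64873 q4027, e3 q5069 L64880 q4028, e3 q5070 L64888 q4029, e3 q5071 L64905 q4030, e3 q5072 L64920 q3946, e3 q5073 L64926 q3947, e3 q5074 L64934 q3948, e3 q5075 L64942 q3949, e3 q5076 L64950 q3950, e3 q5077 L64958 q3951, e3 q5078 L64966 q3952, e3 q5079 (flp_b L93965) q6374, e3 q5080 (flp_b L93980) q6376, e3 q5081 (flp_b L93989) q6377, e3 q5082 L551834 q6323, e3 q5083 L65053 q4178, e3 q5084 L65076 q4179, e3 q5085 (flp_b L91826) q6318, e3 q5086 L591219 q3964, e3 q5087 L65101 q3959, e3 q5088 L65111 q3960, e3 q5089 L65120 q3961, e3 q5090 L65140 q3963, e3 q5091 (flp_b L623396) q6380, e3 q5092 (flp_b L621876) q6379, e3 q5093 (flp_b L591197) q6324, e3 q5094 L591273 q6384, e3 q5095 L65227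 q4183, e3 q5096 L65237 q4184, e3 q5097 L65270 q4185, e3 q5098 (flp_b L92024) q6325, e3 q5099 (flp_b L92033) q6326, e3 q5100 (flp_b L92040) q6327, e3 q5101 (flp_b L92050) q6328, e3 q5102 (flp_b L601137) q6337, e3 q5103 L65450 q4186, e3 q5104 L65460 q4187, e3 q5105 L65493 q4188, e3 q5106 (flp_b L92493) q6330, e3 q5107 (flp_b L92502) q6331, e3 q5108 L591429 q3988, e3 q5109 L65538 q3983, e3 q5110 L65547 q3984, e3 q5111 L65554 q3985, e3 q5112 L65564 q3986, e3 q5113 L623007 q6393, e3 q5114 (flp_b L623428) q6381, e3 q5115 L588960 q6338, e3 q5116 L623029 q6392, e3 q5117 L598561 q6339, e3 q5118 L577696 q6396, e3 q5119 L591485 q6398, trivial⟩ (by decide +kernel)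

theorem ce_b_80 : ∀ r, r < 64 → sm gb (Qf (5120 + r)) = Qf (tab Gen.b (5120 + r)) :=
  edges_tab (sm gb) Qf (tab Gen.b) 5120 [(5120, 4191), (5121, 4192), (5122, 6340), (5123, 6341), (5124, 6342), (5125, 6343), (5126, 6344), (5127, 6345), (5128, 6346), (5129, 6358), (5130, 6360), (5131, 4193), (5132, 4194), (5133, 6349), (5134, 6350), (5135, 4020), (5136, 6351), (5137, 4021), (5138, 4013), (5139, 4014), (5140, 4015), (5141, 4016), (5142, 4018), (5143, 6412), (5144, 6411), (5145, 6420), (5146, 6361), (5147, 6362), (5148, 6363), (5149, 6418), (5150, 6417), (5151, 6419), (5152, 4198), (5153, 4199), (5154, 6364), (5155, 6365), (5156, 6366), (5157, 6367), (5158, 6368), (5159, 6369), (5160, 6370), (5161, 6371), (5162, 6372), (5163, 6373), (5164, 5634), (5165, 5633), (5166, 5635), (5167, 4207), (5168, 4208), (5169, 4209), (5170, 4210), (5171, 4211), (5172, 5172), (5173, 5173), (5174, 5174), (5175, 5175), (5176, 5176), (5177, 5177), (5178, 5178), (5179, 4053), (5180, 4054), (5181, 4055), (5182, 4056), (5183, 6456)]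
    ⟨e3 q5120 L65702 q4191, e3 q5121 L65720 q4192, e3 q5122 (flp_b L92752) q6340, e3 q5123 (flp_b L92757) q6341, e3 q5124 (flp_b L92765) q6342, e3 q5125 (flp_b L92774) q6343, e3 q5126 (flp_b L92782) q6344, e3 q5127 (flp_b L92792) q6345, e3 q5128 (flp_b L92807) q6346, e3 q5129 (flp_b L590839) q6358, e3 q5130 (flp_b L590823) q6360, e3 q5131 L65998 q4193, e3 q5132 L66020 q4194, e3 q5133 (flp_b L93418) q6349, e3 q5134 (flp_b L93427) q6350, e3 q5135 L551477 q4020, e3 q5136 (flp_b L93447) q6351, e3 q5137 L591439 q4021, e3 q5138 L66113 q4013, e3 q5139 L66122 q4014, e3 q5140 L66133 q4015, e3 q5141 L66141 q4016, e3 q5142 L66160 q4018, e3 q5143 (flp_b L624696) q6412, e3 q5144 L624724 q6411, e3 q5145 (flp_b L95731) q6420, e3 q5146 L587577 q6361, e3 q5147 (flp_b L580388) q6362, e3 q5148 L598433 q6363, e3 q5149 L590599 q6418, e3 q5150 L590639 q6417, e3 q5151 L559635 q6419, e3 q5152 L66365 q4198, e3 q5153 L66374 q4199, e3 q5154 (flp_b L93816) q6364, e3 q5155 (flp_b L93823) q6365, e3 q5156 (flp_b L93830) q6366, e3 q5157 (flp_b L93837) q6367,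 e3 q5158 (flp_b L93846) q6368, e3 q5159 (flp_b L93856) q6369, e3 q5160 (flp_b L93872) q6370, e3 q5161 (flp_b L93881) q6371, e3 q5162 (flp_b L93896) q6372, e3 q5163 (flp_b L93912) q6373, e3 q5164 L561694 q5634, e3 q5165 L561712 q5633, e3 q5166 (flp_b L563230) q5635, e3 q5167 L66711 q4207, e3 q5168 L66721 q4208, e3 q5169 L66732 q4209, e3 q5170 L66743 q4210, e3 q5171 L66753 q4211, e3 q5172 L66763 q5172, e3 q5173 L66770 q5173, e3 q5174 L66775 q5174, e3 q5175 L66784 q5175, e3 q5176 L66794 q5176, e3 q5177 L66804 q5177, e3 q5178 L66810 q5178, e3 q5179 L66841 q4053, e3 q5180 L66850 q4054, e3 q5181 L66859 q4055, e3 q5182 L66869 q4056, e3 q5183 L96707 q6456, trivial⟩ (by decide +kernel)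

theorem ce_b_81 : ∀ r, r < 64 → sm gb (Qf (5184 + r)) = Qf (tab Gen.b (5184 + r)) :=
  edges_tab (sm gb) Qf (tab Gen.b) 5184 [(5184, 6443), (5185, 6442), (5186, 6441), (5187, 6459), (5188, 4057), (5189, 4060), (5190, 4061), (5191, 4062), (5192, 6461), (5193, 6462), (5194, 6463), (5195, 6464), (5196, 4228), (5197, 5197), (5198, 5198), (5199, 5199), (5200, 5200), (5201, 5201), (5202, 5706), (5203, 5756), (5204, 4229), (5205, 4230), (5206, 5206), (5207, 5207), (5208, 5208), (5209, 5209), (5210, 5210), (5211, 5211), (5212, 5212), (5213, 5728), (5214, 5730), (5215, 5787), (5216, 4231), (5217, 5217), (5218, 5218), (5219, 5219), (5220, 5220), (5221, 5221), (5222, 5222), (5223, 5223), (5224, 5224), (5225, 5225), (5226, 5724), (5227, 6314), (5228, 5228), (5229, 5229), (5230, 5230), (5231, 5231), (5232, 5705), (5233, 5691), (5234, 4232), (5235, 5235), (5236, 5236), (5237, 5237), (5238, 5238), (5239, 5239), (5240, 5240), (5241, 5241), (5242, 5242), (5243, 5702), (5244, 6304), (5245, 5729), (5246, 5246), (5247, 5247)]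
    ⟨e3 q5184 (flp_b L624535) q6443, e3 q5185 L624503 q6442, e3 q5186 (flp_b L624521) q6441, e3 q5187 L96762 q6459, e3 q5188 (flp_b L66928) q4057, e3 q5189 L66938 q4060, e3 q5190 L66945 q4061, e3 q5191 L66955 q4062, e3 q5192 (flp_b L96788) q6461, e3 q5193 (flp_b L96795) q6462, e3 q5194 (flp_b L96803) q6463, e3 q5195 (flp_b L96813) q6464, e3 q5196 L66998 q4228, e3 q5197 L67006 q5197, e3 q5198 L67012 q5198, e3 q5199 L67018 q5199, e3 q5200 L67024 q5200, e3 q5201 L67030 q5201, e3 q5202 (flp_b L593006) q5706, e3 q5203 L593582 q5756, e3 q5204 L67119 q4229, e3 q5205 L67141 q4230, e3 q5206 L67171 q5206, e3 q5207 L67180 q5207, e3 q5208 L67188 q5208, e3 q5209 L67199 q5209, e3 q5210 L67208 q5210, e3 q5211 L67216 q5211, e3 q5212 L67233 q5212, e3 q5213 (flp_b L592971) q5728, e3 q5214 (flp_b L592962) q5730, e3 q5215 (flp_b L592860) q5787, e3 q5216 L67521 q4231, e3 q5217 L67582 q5217, e3 q5218 L67590 q5218, e3 q5219 L67596 q5219, e3 q5220 L67605 q5220, e3 q5221 L67615 q5221, e3 q5222 L67630 q5222, e3 q5223 L67639 q5223, e3 q5224 L67656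 q5224, e3 q5225 L67666 q5225, e3 q5226 (flp_b L619774) q5724, e3 q5227 L597434 q6314, e3 q5228 L67931 q5228, e3 q5229 L67947 q5229, e3 q5230 L67960 q5230, e3 q5231 L67981 q5231, e3 q5232 (flp_b L593011) q5705, e3 q5233 L593719 q5691, e3 q5234 L68133 q4232, e3 q5235 L68185 q5235, e3 q5236 L68194 q5236, e3 q5237 L68201 q5237, e3 q5238 L68209 q5238, e3 q5239 L68219 q5239, e3 q5240 L68234 q5240, e3 q5241 L68253 q5241, e3 q5242 L68270 q5242, e3 q5243 L621017 q5702, e3 q5244 L597482 q6304, e3 q5245 (flp_b L565834) q5729, e3 q5246 L68545 q5246, e3 q5247 L68551 q5247, trivial⟩ (by decide +kernel)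

theorem ce_b_82 : ∀ r, r < 64 → sm gb (Qf (5248 + r)) = Qf (tab Gen.b (5248 + r)) :=
  edges_tab (sm gb) Qf (tab Gen.b) 5248 [(5248, 5381), (5249, 5249), (5250, 5250), (5251, 5251), (5252, 4126), (5253, 4128), (5254, 5295), (5255, 5255), (5256, 5256), (5257, 5257), (5258, 4134), (5259, 4135), (5260, 6525), (5261, 4234), (5262, 5262), (5263, 5263), (5264, 5264), (5265, 5265), (5266, 5266), (5267, 5267), (5268, 5268), (5269, 5269), (5270, 5270), (5271, 4202), (5272, 4203), (5273, 4205), (5274, 6533), (5275, 6534), (5276, 6535), (5277, 5626), (5278, 5627), (5279, 5279), (5280, 5280), (5281, 5281), (5282, 6421), (5283, 4225), (5284, 4226), (5285, 4227), (5286, 5286), (5287, 5287), (5288, 6540), (5289, 5289), (5290, 4237), (5291, 6544), (5292, 5292), (5293, 5293), (5294, 4240), (5295, 5254), (5296, 6548), (5297, 5297), (5298, 4242), (5299, 6553), (5300, 5300), (5301, 5301), (5302, 4245), (5303, 6558), (5304, 6559), (5305, 5305), (5306, 5306), (5307, 4249), (5308, 4250), (5309, 6565), (5310, 4998), (5311, 6566)]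
    ⟨e3 q5248 L643274 q5381, e3 q5249 L68563 q5249, e3 q5250 L68575 q5250, e3 q5251 L68598 q5251, e3 q5252 (flp_b L68618) q4126, e3 q5253 L68649 q4128, e3 q5254 (flp_b L639488) q5295, e3 q5255 L68733 q5255, e3 q5256 L68763 q5256, e3 q5257 L68772 q5257, e3 q5258 L68793 q4134, e3 q5259 L68802 q4135, e3 q5260 (flp_b L99317) q6525, e3 q5261 (flp_b L557828) q4234, e3 q5262 L68986 q5262, e3 q5263 L69011 q5263, e3 q5264 L69055 q5264, e3 q5265 L69214 q5265, e3 q5266 L69432 q5266, e3 q5267 L69491 q5267, e3 q5268 L69725 q5268, e3 q5269 L70016 q5269, e3 q5270 L70308 q5270, e3 q5271 L74977 q4202, e3 q5272 L74987 q4203, e3 q5273 L75006 q4205, e3 q5274 (flp_b L108508) q6533, e3 q5275 (flp_b L108526) q6534, e3 q5276 (flp_b L108535) q6535, e3 q5277 L561071 q5626, e3 q5278 L561028 q5627, e3 q5279 L75237 q5279, e3 q5280 L75247 q5280, e3 q5281 L75278 q5281, e3 q5282 L561327 q6421, e3 q5283 L75421 q4225, e3 q5284 L75438 q4226, e3 q5285 L75446 q4227, e3 q5286 L557708 q5286, e3 q5287 L79339 q5287, e3 q5288 L114596 q6540, e3 q5289 L79358 q5289,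 e3 q5290 (flp_b L79366) q4237, e3 q5291 (flp_b L114636) q6544, e3 q5292 L79387 q5292, e3 q5293 L79403 q5293, e3 q5294 L79406 q4240, e3 q5295 L639488 q5254, e3 q5296 (flp_b L114689) q6548, e3 q5297 L79431 q5297, e3 q5298 (flp_b L79438) q4242, e3 q5299 (flp_b L114744) q6553, e3 q5300 L79463 q5300, e3 q5301 L79480 q5301, e3 q5302 L79483 q4245, e3 q5303 (flp_b L114794) q6558, e3 q5304 (flp_b L114802) q6559, e3 q5305 L79513 q5305, e3 q5306 L79523 q5306, e3 q5307 L79531 q4249, e3 q5308 L79538 q4250, e3 q5309 (flp_b L114876) q6565, e3 q5310 L643289 q4998, e3 q5311 (flp_b L114891) q6566, trivial⟩ (by decide +kernel)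

theorem ce_b_83 : ∀ r, r < 64 → sm gb (Qf (5312 + r)) = Qf (tab Gen.b (5312 + r)) :=
  edges_tab (sm gb) Qf (tab Gen.b) 5312 [(5312, 5312), (5313, 5313), (5314, 4254), (5315, 4255), (5316, 6574), (5317, 6575), (5318, 6576), (5319, 5319), (5320, 5320), (5321, 5321), (5322, 5322), (5323, 4260), (5324, 4261), (5325, 4262), (5326, 6588), (5327, 6589), (5328, 6590), (5329, 6591), (5330, 6592), (5331, 6598), (5332, 5332), (5333, 5333), (5334, 5334), (5335, 5335), (5336, 5336), (5337, 4270), (5338, 4271), (5339, 4272), (5340, 4273), (5341, 4274), (5342, 6611), (5343, 6612), (5344, 6613), (5345, 6614), (5346, 6615), (5347, 4275), (5348, 6623), (5349, 5349), (5350, 5350), (5351, 4278), (5352, 6628), (5353, 6629), (5354, 5354), (5355, 4281), (5356, 6634), (5357, 6635), (5358, 5358), (5359, 5359), (5360, 4285), (5361, 4286), (5362, 6643), (5363, 6644), (5364, 6645), (5365, 5365), (5366, 4289), (5367, 4290), (5368, 6652), (5369, 6653), (5370, 6654), (5371, 5371), (5372, 5372), (5373, 5373), (5374, 5374), (5375, 4295)]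
    ⟨e3 q5312 L79573 q5312, e3 q5313 L79584 q5313, e3 q5314 L79594 q4254, e3 q5315 L79603 q4255, e3 q5316 (flp_b L114972) q6574, e3 q5317 (flp_b L114981) q6575, e3 q5318 (flp_b L114991) q6576, e3 q5319 L79642 q5319, e3 q5320 L79654 q5320, e3 q5321 L79663 q5321, e3 q5322 L79674 q5322, e3 q5323 L79678 q4260, e3 q5324 L79685 q4261, e3 q5325 L79694 q4262, e3 q5326 (flp_b L115101) q6588, e3 q5327 (flp_b L115107) q6589, e3 q5328 (flp_b L115116) q6590, e3 q5329 (flp_b L115124) q6591, e3 q5330 (flp_b L115134) q6592, e3 q5331 L115184 q6598, e3 q5332 L79757 q5332, e3 q5333 L79766 q5333, e3 q5334 L79775 q5334, e3 q5335 L79783 q5335, e3 q5336 L79791 q5336, e3 q5337 L79798 q4270, e3 q5338 L79806 q4271, e3 q5339 L79813 q4272, e3 q5340 L79822 q4273, e3 q5341 L79831 q4274, e3 q5342 (flp_b L115297) q6611, e3 q5343 (flp_b L115305) q6612, e3 q5344 (flp_b L115313) q6613, e3 q5345 (flp_b L115321) q6614, e3 q5346 (flp_b L115329) q6615, e3 q5347 (flp_b L79881) q4275, e3 q5348 (flp_b L115411) q6623, e3 q5349 L79907 q5349, e3 q5350 L79923 q5350,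 e3 q5351 L79926 q4278, e3 q5352 (flp_b L115463) q6628, e3 q5353 (flp_b L115472) q6629, e3 q5354 L79951 q5354, e3 q5355 L79971 q4281, e3 q5356 (flp_b L115523) q6634, e3 q5357 (flp_b L115533) q6635, e3 q5358 L80004 q5358, e3 q5359 L80015 q5359, e3 q5360 L80021 q4285, e3 q5361 L80029 q4286, e3 q5362 (flp_b L115613) q6643, e3 q5363 (flp_b L115621) q6644, e3 q5364 (flp_b L115629) q6645, e3 q5365 L80062 q5365, e3 q5366 L80080 q4289, e3 q5367 L80089 q4290, e3 q5368 (flp_b L115707) q6652, e3 q5369 (flp_b L115715) q6653, e3 q5370 (flp_b L115723) q6654, e3 q5371 L80127 q5371, e3 q5372 L80139 q5372, e3 q5373 L80147 q5373, e3 q5374 L80156 q5374, e3 q5375 L80160 q4295, trivial⟩ (by decide +kernel)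

theorem ce_b_84 : ∀ r, r < 64 → sm gb (Qf (5376 + r)) = Qf (tab Gen.b (5376 + r)) :=
  edges_tab (sm gb) Qf (tab Gen.b) 5376 [(5376, 4296), (5377, 4297), (5378, 6663), (5379, 6664), (5380, 6665), (5381, 5248), (5382, 6666), (5383, 4300), (5384, 4301), (5385, 6673), (5386, 6674), (5387, 6675), (5388, 5388), (5389, 5389), (5390, 5390), (5391, 4366), (5392, 4306), (5393, 4307), (5394, 4308), (5395, 6687), (5396, 6688), (5397, 6689), (5398, 6690), (5399, 6691), (5400, 4384), (5401, 4312), (5402, 4313), (5403, 4314), (5404, 6699), (5405, 6700), (5406, 6701), (5407, 6702), (5408, 6703), (5409, 6709), (5410, 5410), (5411, 5411), (5412, 5412), (5413, 4397), (5414, 4398), (5415, 4322), (5416, 4323), (5417, 4324), (5418, 4325), (5419, 4326), (5420, 6722), (5421, 6723), (5422, 6724), (5423, 6725), (5424, 6726), (5425, 4424), (5426, 4425), (5427, 4331), (5428, 4332), (5429, 4333), (5430, 4334), (5431, 4335), (5432, 6739), (5433, 6740), (5434, 6741), (5435, 6742), (5436, 6743), (5437, 4336), (5438, 6751), (5439, 6752)]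
    ⟨e3 q5376 L80166 q4296, e3 q5377 L80173 q4297, e3 q5378 (flp_b L115827) q6663, e3 q5379 (flp_b L115835) q6664, e3 q5380 (flp_b L115842) q6665, e3 q5381 (flp_b L643274) q5248, e3 q5382 (flp_b L115855) q6666, e3 q5383 L80229 q4300, e3 q5384 L80240 q4301, e3 q5385 (flp_b L115934) q6673, e3 q5386 (flp_b L115944) q6674, e3 q5387 (flp_b L115954) q6675, e3 q5388 L80282 q5388, e3 q5389 L80295 q5389, e3 q5390 L80305 q5390, e3 q5391 L80316 q4366, e3 q5392 L80321 q4306, e3 q5393 L80329 q4307, e3 q5394 L80338 q4308, e3 q5395 (flp_b L116074) q6687, e3 q5396 (flp_b L116082) q6688, e3 q5397 (flp_b L116089) q6689, e3 q5398 (flp_b L116097) q6690, e3 q5399 (flp_b L116106) q6691, e3 q5400 L80414 q4384, e3 q5401 L80419 q4312, e3 q5402 L80427 q4313, e3 q5403 L80436 q4314, e3 q5404 (flp_b L116219) q6699, e3 q5405 (flp_b L116227) q6700, e3 q5406 (flp_b L116237) q6701, e3 q5407 (flp_b L116244) q6702, e3 q5408 (flp_b L116255) q6703, e3 q5409 L116312 q6709, e3 q5410 L80507 q5410, e3 q5411 L80514 q5411, e3 q5412 L80523 q5412, e3 q5413 L80529 q4397,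 e3 q5414 L80536 q4398, e3 q5415 L80546 q4322, e3 q5416 L80552 q4323, e3 q5417 L80560 q4324, e3 q5418 L80566 q4325, e3 q5419 L80574 q4326, e3 q5420 (flp_b L116423) q6722, e3 q5421 (flp_b L116429) q6723, e3 q5422 (flp_b L116437) q6724, e3 q5423 (flp_b L116445) q6725, e3 q5424 (flp_b L116453) q6726, e3 q5425 L80661 q4424, e3 q5426 L80671 q4425, e3 q5427 L80680 q4331, e3 q5428 L80690 q4332, e3 q5429 L80698 q4333, e3 q5430 L80706 q4334, e3 q5431 L80716 q4335, e3 q5432 (flp_b L116644) q6739, e3 q5433 (flp_b L116653) q6740, e3 q5434 (flp_b L116662) q6741, e3 q5435 (flp_b L116671) q6742, e3 q5436 (flp_b L116678) q6743, e3 q5437 (flp_b L80773) q4336, e3 q5438 (flp_b L116759) q6751, e3 q5439 (flp_b L116768) q6752, trivial⟩ (by decide +kernel)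

theorem ce_b_85 : ∀ r, r < 64 → sm gb (Qf (5440 + r)) = Qf (tab Gen.b (5440 + r)) :=
  edges_tab (sm gb) Qf (tab Gen.b) 5440 [(5440, 5440), (5441, 5441), (5442, 5442), (5443, 5443), (5444, 5444), (5445, 4444), (5446, 4445), (5447, 4446), (5448, 4447), (5449, 4448), (5450, 4347), (5451, 4348), (5452, 4349), (5453, 4350), (5454, 4351), (5455, 6772), (5456, 6773), (5457, 6774), (5458, 6775), (5459, 6776), (5460, 6777), (5461, 6778), (5462, 5462), (5463, 4354), (5464, 4355), (5465, 6790), (5466, 6791), (5467, 6792), (5468, 5468), (5469, 5469), (5470, 5470), (5471, 6672), (5472, 4360), (5473, 4361), (5474, 4362), (5475, 6804), (5476, 6805), (5477, 6806), (5478, 6807), (5479, 6808), (5480, 6814), (5481, 5481), (5482, 5482), (5483, 5483), (5484, 6685), (5485, 6686), (5486, 4370), (5487, 4371), (5488, 4372), (5489, 4373), (5490, 4374), (5491, 6827), (5492, 6828), (5493, 6829), (5494, 6830), (5495, 6831), (5496, 5496), (5497, 5497), (5498, 5498), (5499, 4378), (5500, 4379), (5501, 4380), (5502, 6845), (5503, 6846)]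
    ⟨e3 q5440 L80803 q5440, e3 q5441 L80812 q5441, e3 q5442 L80819 q5442, e3 q5443 L80827 q5443, e3 q5444 L80835 q5444, e3 q5445 L80841 q4444, e3 q5446 L80850 q4445, e3 q5447 L80857 q4446, e3 q5448 L80866 q4447, e3 q5449 L80872 q4448, e3 q5450 L80881 q4347, e3 q5451 L80888 q4348, e3 q5452 L80897 q4349, e3 q5453 L80904 q4350, e3 q5454 L80910 q4351, e3 q5455 (flp_b L116933) q6772, e3 q5456 (flp_b L116940) q6773, e3 q5457 (flp_b L116948) q6774, e3 q5458 (flp_b L116956) q6775, e3 q5459 (flp_b L116964) q6776, e3 q5460 (flp_b L116973) q6777, e3 q5461 (flp_b L116980) q6778, e3 q5462 L80977 q5462, e3 q5463 L80987 q4354, e3 q5464 L80996 q4355, e3 q5465 (flp_b L117084) q6790, e3 q5466 (flp_b L117093) q6791, e3 q5467 (flp_b L117103) q6792, e3 q5468 L81037 q5468, e3 q5469 L81050 q5469, e3 q5470 L81062 q5470, e3 q5471 (flp_b L115929) q6672, e3 q5472 L81081 q4360, e3 q5473 L81091 q4361, e3 q5474 L81100 q4362, e3 q5475 (flp_b L117224) q6804, e3 q5476 (flp_b L117235) q6805, e3 q5477 (flp_b L117244) q6806, e3 q5478 (flp_b L117252) q6807,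 e3 q5479 (flp_b L117263) q6808, e3 q5480 L117314 q6814, e3 q5481 L81167 q5481, e3 q5482 L81176 q5482, e3 q5483 L81187 q5483, e3 q5484 (flp_b L116054) q6685, e3 q5485 (flp_b L116063) q6686, e3 q5486 L81210 q4370, e3 q5487 L81219 q4371, e3 q5488 L81226 q4372, e3 q5489 L81235 q4373, e3 q5490 L81245 q4374, e3 q5491 (flp_b L117433) q6827, e3 q5492 (flp_b L117440) q6828, e3 q5493 (flp_b L117450) q6829, e3 q5494 (flp_b L117459) q6830, e3 q5495 (flp_b L117467) q6831, e3 q5496 L81295 q5496, e3 q5497 L81304 q5497, e3 q5498 L81316 q5498, e3 q5499 L81320 q4378, e3 q5500 L81327 q4379, e3 q5501 L81336 q4380, e3 q5502 (flp_b L117586) q6845, e3 q5503 (flp_b L117593) q6846, trivial⟩ (by decide +kernel)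

theorem ce_b_86 : ∀ r, r < 64 → sm gb (Qf (5504 + r)) = Qf (tab Gen.b (5504 + r)) :=
  edges_tab (sm gb) Qf (tab Gen.b) 5504 [(5504, 6847), (5505, 6848), (5506, 6849), (5507, 6855), (5508, 5508), (5509, 5509), (5510, 5510), (5511, 6697), (5512, 6698), (5513, 4388), (5514, 4389), (5515, 4390), (5516, 4391), (5517, 4392), (5518, 6868), (5519, 6869), (5520, 6870), (5521, 6871), (5522, 6872), (5523, 4393), (5524, 6880), (5525, 6881), (5526, 5526), (5527, 5527), (5528, 5528), (5529, 5529), (5530, 5530), (5531, 6717), (5532, 6718), (5533, 6719), (5534, 6720), (5535, 6721), (5536, 4404), (5537, 4405), (5538, 4406), (5539, 4407), (5540, 4408), (5541, 6901), (5542, 6902), (5543, 6903), (5544, 6904), (5545, 6905), (5546, 6906), (5547, 6907), (5548, 6916), (5549, 5549), (5550, 5550), (5551, 5551), (5552, 5552), (5553, 5553), (5554, 4415), (5555, 4416), (5556, 4417), (5557, 4418), (5558, 4419), (5559, 6928), (5560, 6929), (5561, 6930), (5562, 6931), (5563, 6932), (5564, 4420), (5565, 6940), (5566, 6941), (5567, 5567)]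
    ⟨e3 q5504 (flp_b L117602) q6847, e3 q5505 (flp_b L117610) q6848, e3 q5506 (flp_b L117620) q6849, e3 q5507 L117672 q6855, e3 q5508 L81405 q5508, e3 q5509 L81414 q5509, e3 q5510 L81423 q5510, e3 q5511 (flp_b L116200) q6697, e3 q5512 (flp_b L116209) q6698, e3 q5513 L81447 q4388, e3 q5514 L81456 q4389, e3 q5515 L81466 q4390, e3 q5516 L81472 q4391, e3 q5517 L81482 q4392, e3 q5518 (flp_b L117791) q6868, e3 q5519 (flp_b L117800) q6869, e3 q5520 (flp_b L117808) q6870, e3 q5521 (flp_b L117818) q6871, e3 q5522 (flp_b L117826) q6872, e3 q5523 (flp_b L81528) q4393, e3 q5524 (flp_b L117890) q6880, e3 q5525 (flp_b L117896) q6881, e3 q5526 L81557 q5526, e3 q5527 L81565 q5527, e3 q5528 L81574 q5528, e3 q5529 L81582 q5529, e3 q5530 L81592 q5530, e3 q5531 (flp_b L116381) q6717, e3 q5532 (flp_b L116389) q6718, e3 q5533 (flp_b L116398) q6719, e3 q5534 (flp_b L116406) q6720, e3 q5535 (flp_b L116413) q6721, e3 q5536 L81633 q4404, e3 q5537 L81640 q4405, e3 q5538 L81648 q4406, e3 q5539 L81656 q4407, e3 q5540 L81665 q4408, e3 q5541 (flp_b L118054)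 q6901, e3 q5542 (flp_b L118063) q6902, e3 q5543 (flp_b L118070) q6903, e3 q5544 (flp_b L118078) q6904, e3 q5545 (flp_b L118086) q6905, e3 q5546 (flp_b L118094) q6906, e3 q5547 (flp_b L118103) q6907, e3 q5548 L118171 q6916, e3 q5549 L81733 q5549, e3 q5550 L81742 q5550, e3 q5551 L81751 q5551, e3 q5552 L81760 q5552, e3 q5553 L81768 q5553, e3 q5554 L81775 q4415, e3 q5555 L81784 q4416, e3 q5556 L81791 q4417, e3 q5557 L81800 q4418, e3 q5558 L81809 q4419, e3 q5559 (flp_b L118286) q6928, e3 q5560 (flp_b L118295) q6929, e3 q5561 (flp_b L118303) q6930, e3 q5562 (flp_b L118311) q6931, e3 q5563 (flp_b L118319) q6932, e3 q5564 (flp_b L81861) q4420, e3 q5565 (flp_b L118391) q6940, e3 q5566 (flp_b L118400) q6941, e3 q5567 L81893 q5567, trivial⟩ (by decide +kernel)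

theorem ce_b_87 : ∀ r, r < 64 → sm gb (Qf (5568 + r)) = Qf (tab Gen.b (5568 + r)) :=
  edges_tab (sm gb) Qf (tab Gen.b) 5568 [(5568, 5568), (5569, 5569), (5570, 5570), (5571, 5571), (5572, 6734), (5573, 6735), (5574, 6736), (5575, 6737), (5576, 6738), (5577, 4431), (5578, 4432), (5579, 4433), (5580, 4434), (5581, 4435), (5582, 6961), (5583, 6962), (5584, 6963), (5585, 6964), (5586, 6965), (5587, 6966), (5588, 6967), (5589, 4437), (5590, 4438), (5591, 6976), (5592, 6977), (5593, 6978), (5594, 6959), (5595, 6979), (5596, 5596), (5597, 5597), (5598, 5598), (5599, 5599), (5600, 5600), (5601, 6763), (5602, 6764), (5603, 6765), (5604, 6766), (5605, 6767), (5606, 6768), (5607, 6769), (5608, 6770), (5609, 6771), (5610, 4454), (5611, 4455), (5612, 4456), (5613, 4457), (5614, 4458), (5615, 4459), (5616, 4460), (5617, 7010), (5618, 7011), (5619, 7012), (5620, 7013), (5621, 7014), (5622, 7026), (5623, 7016), (5624, 7017), (5625, 4464), (5626, 5277), (5627, 5278), (5628, 5628), (5629, 4469), (5630, 4471), (5631, 7031)]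
    ⟨e3 q5568 L81905 q5568, e3 q5569 L81914 q5569, e3 q5570 L81922 q5570, e3 q5571 L81932 q5571, e3 q5572 (flp_b L116597) q6734, e3 q5573 (flp_b L116608) q6735, e3 q5574 (flp_b L116617) q6736, e3 q5575 (flp_b L116626) q6737, e3 q5576 (flp_b L116633) q6738, e3 q5577 L81977 q4431, e3 q5578 L81987 q4432, e3 q5579 L81996 q4433, e3 q5580 L82005 q4434, e3 q5581 L82011 q4435, e3 q5582 (flp_b L118569) q6961, e3 q5583 (flp_b L118579) q6962, e3 q5584 (flp_b L118590) q6963, e3 q5585 (flp_b L118598) q6964, e3 q5586 (flp_b L118607) q6965, e3 q5587 (flp_b L118618) q6966, e3 q5588 (flp_b L118625) q6967, e3 q5589 L82077 q4437, e3 q5590 L82084 q4438, e3 q5591 (flp_b L118697) q6976, e3 q5592 (flp_b L118705) q6977, e3 q5593 (flp_b L118711) q6978, e3 q5594 (flp_b L553619) q6959, e3 q5595 (flp_b L118725) q6979, e3 q5596 L82135 q5596, e3 q5597 L82144 q5597, e3 q5598 L82154 q5598, e3 q5599 L82162 q5599, e3 q5600 L82170 q5600, e3 q5601 (flp_b L116857) q6763, e3 q5602 (flp_b L116866) q6764, e3 q5603 (flp_b L116874) q6765, e3 q5604 (flp_b L116885)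 q6766, e3 q5605 (flp_b L116893) q6767, e3 q5606 (flp_b L116901) q6768, e3 q5607 (flp_b L116909) q6769, e3 q5608 (flp_b L116918) q6770, e3 q5609 (flp_b L116926) q6771, e3 q5610 L82239 q4454, e3 q5611 L82247 q4455, e3 q5612 L82256 q4456, e3 q5613 L82264 q4457, e3 q5614 L82274 q4458, e3 q5615 L82283 q4459, e3 q5616 L82291 q4460, e3 q5617 (flp_b L118981) q7010, e3 q5618 (flp_b L118989) q7011, e3 q5619 (flp_b L118997) q7012, e3 q5620 (flp_b L119006) q7013, e3 q5621 (flp_b L119015) q7014, e3 q5622 L119111 q7026, e3 q5623 (flp_b L119031) q7016, e3 q5624 (flp_b L119041) q7017, e3 q5625 L82448 q4464, e3 q5626 (flp_b L561071) q5277, e3 q5627 (flp_b L561028) q5278, e3 q5628 L82571 q5628, e3 q5629 L82616 q4469, e3 q5630 L82631 q4471, e3 q5631 (flp_b L119545) q7031, trivial⟩ (by decide +kernel)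

theorem ce_b_88 : ∀ r, r < 64 → sm gb (Qf (5632 + r)) = Qf (tab Gen.b (5632 + r)) :=
  edges_tab (sm gb) Qf (tab Gen.b) 5632 [(5632, 7032), (5633, 5165), (5634, 5164), (5635, 5166), (5636, 5636), (5637, 5637), (5638, 5638), (5639, 5639), (5640, 5640), (5641, 4482), (5642, 4483), (5643, 4484), (5644, 4485), (5645, 4487), (5646, 7044), (5647, 7045), (5648, 7046), (5649, 7047), (5650, 4801), (5651, 7057), (5652, 4800), (5653, 4802), (5654, 4798), (5655, 4796), (5656, 4799), (5657, 5657), (5658, 5658), (5659, 5659), (5660, 5660), (5661, 5661), (5662, 5662), (5663, 5663), (5664, 5664), (5665, 5665), (5666, 5666), (5667, 5667), (5668, 5668), (5669, 4507), (5670, 4508), (5671, 4509), (5672, 4510), (5673, 4511), (5674, 7087), (5675, 4513), (5676, 4514), (5677, 7079), (5678, 7080), (5679, 7081), (5680, 7082), (5681, 7083), (5682, 7084), (5683, 7098), (5684, 7086), (5685, 4512), (5686, 7102), (5687, 7089), (5688, 4967), (5689, 5689), (5690, 4968), (5691, 5233), (5692, 4969), (5693, 4520), (5694, 7104), (5695, 7105)]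
    ⟨e3 q5632 (flp_b L119552) q7032, e3 q5633 (flp_b L561712) q5165, e3 q5634 (flp_b L561694) q5164, e3 q5635 L563230 q5166, e3 q5636 L82783 q5636, e3 q5637 L82802 q5637, e3 q5638 L82829 q5638, e3 q5639 L82838 q5639, e3 q5640 L82857 q5640, e3 q5641 L82907 q4482, e3 q5642 L82916 q4483, e3 q5643 L82925 q4484, e3 q5644 L82933 q4485, e3 q5645 L82951 q4487, e3 q5646 (flp_b L119998) q7044, e3 q5647 (flp_b L120007) q7045, e3 q5648 (flp_b L120016) q7046, e3 q5649 (flp_b L120025) q7047, e3 q5650 L563273 q4801, e3 q5651 L120130 q7057, e3 q5652 (flp_b L562566) q4800, e3 q5653 (flp_b L563263) q4802, e3 q5654 L562012 q4798, e3 q5655 (flp_b L563520) q4796, e3 q5656 L563539 q4799, e3 q5657 L83155 q5657, e3 q5658 L83163 q5658, e3 q5659 L83171 q5659, e3 q5660 L83180 q5660, e3 q5661 L83199 q5661, e3 q5662 L83216 q5662, e3 q5663 L83222 q5663, e3 q5664 L83229 q5664, e3 q5665 L83237 q5665, e3 q5666 L83245 q5666, e3 q5667 L83254 q5667, e3 q5668 L83270 q5668, e3 q5669 L83319 q4507, e3 q5670 L83326 q4508, e3 q5671 L83335 q4509, e3 q5672 L83344 q4510,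 e3 q5673 L83351 q4511, e3 q5674 L120640 q7087, e3 q5675 L83365 q4513, e3 q5676 L83375 q4514, e3 q5677 (flp_b L120577) q7079, e3 q5678 (flp_b L120585) q7080, e3 q5679 (flp_b L120594) q7081, e3 q5680 (flp_b L120602) q7082, e3 q5681 (flp_b L120611) q7083, e3 q5682 (flp_b L120619) q7084, e3 q5683 L120731 q7098, e3 q5684 (flp_b L120633) q7086, e3 q5685 (flp_b L83446) q4512, e3 q5686 (flp_b L120762) q7102, e3 q5687 (flp_b L120658) q7089, e3 q5688 L83473 q4967, e3 q5689 L407530 q5689, e3 q5690 L83493 q4968, e3 q5691 (flp_b L593719) q5233, e3 q5692 L83528 q4969, e3 q5693 L83548 q4520, e3 q5694 (flp_b L120896) q7104, e3 q5695 (flp_b L120905) q7105, trivial⟩ (by decide +kernel)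

theorem ce_b_89 : ∀ r, r < 64 → sm gb (Qf (5696 + r)) = Qf (tab Gen.b (5696 + r)) :=
  edges_tab (sm gb) Qf (tab Gen.b) 5696 [(5696, 4973), (5697, 5697), (5698, 4524), (5699, 4525), (5700, 7109), (5701, 7110), (5702, 5243), (5703, 5703), (5704, 4977), (5705, 5232), (5706, 5202), (5707, 4978), (5708, 4532), (5709, 4533), (5710, 7114), (5711, 7115), (5712, 7116), (5713, 4983), (5714, 5714), (5715, 5715), (5716, 5716), (5717, 4538), (5718, 4539), (5719, 4540), (5720, 7122), (5721, 7123), (5722, 7124), (5723, 7125), (5724, 5226), (5725, 5725), (5726, 5726), (5727, 4990), (5728, 5213), (5729, 5245), (5730, 5214), (5731, 4991), (5732, 5732), (5733, 4549), (5734, 4550), (5735, 4551), (5736, 7133), (5737, 7134), (5738, 7135), (5739, 7136), (5740, 7137), (5741, 5741), (5742, 5742), (5743, 5743), (5744, 4559), (5745, 4560), (5746, 4561), (5747, 4562), (5748, 4563), (5749, 7146), (5750, 7147), (5751, 7148), (5752, 7149), (5753, 7150), (5754, 4834), (5755, 4835), (5756, 5203), (5757, 5008), (5758, 4657), (5759, 4569)]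
    ⟨e3 q5696 L83578 q4973, e3 q5697 L83590 q5697, e3 q5698 L83599 q4524, e3 q5699 L83606 q4525, e3 q5700 (flp_b L120979) q7109, e3 q5701 (flp_b L120986) q7110, e3 q5702 (flp_b L621017) q5243, e3 q5703 L435855 q5703, e3 q5704 L83670 q4977, e3 q5705 L593011 q5232, e3 q5706 L593006 q5202, e3 q5707 L83725 q4978, e3 q5708 L83745 q4532, e3 q5709 L83753 q4533, e3 q5710 (flp_b L121196) q7114, e3 q5711 (flp_b L121206) q7115, e3 q5712 (flp_b L121212) q7116, e3 q5713 L83791 q4983, e3 q5714 L83804 q5714, e3 q5715 L83811 q5715, e3 q5716 L83823 q5716, e3 q5717 L83828 q4538, e3 q5718 L83836 q4539, e3 q5719 L83843 q4540, e3 q5720 (flp_b L121318) q7122, e3 q5721 (flp_b L121326) q7123, e3 q5722 (flp_b L121332) q7124, e3 q5723 (flp_b L121341) q7125, e3 q5724 L619774 q5226, e3 q5725 L436141 q5725, e3 q5726 L434747 q5726, e3 q5727 L83928 q4990, e3 q5728 L592971 q5213, e3 q5729 L565834 q5245, e3 q5730 L592962 q5214, e3 q5731 L83992 q4991, e3 q5732 L84024 q5732, e3 q5733 L84029 q4549, e3 q5734 L84037 q4550, e3 q5735 L84042 q4551, e3 q5736 (flp_b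 L121606) q7133, e3 q5737 (flp_b L121614) q7134, e3 q5738 (flp_b L121623) q7135, e3 q5739 (flp_b L121629) q7136, e3 q5740 (flp_b L121636) q7137, e3 q5741 L84102 q5741, e3 q5742 L84116 q5742, e3 q5743 L84125 q5743, e3 q5744 L84138 q4559, e3 q5745 L84144 q4560, e3 q5746 L84151 q4561, e3 q5747 L84158 q4562, e3 q5748 L84164 q4563, e3 q5749 (flp_b L121783) q7146, e3 q5750 (flp_b L121791) q7147, e3 q5751 (flp_b L121797) q7148, e3 q5752 (flp_b L121804) q7149, e3 q5753 (flp_b L121812) q7150, e3 q5754 L549624 q4834, e3 q5755 L507386 q4835, e3 q5756 (flp_b L593582) q5203, e3 q5757 L84272 q5008, e3 q5758 L84309 q4657, e3 q5759 L84315 q4569, trivial⟩ (by decide +kernel)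

theorem ce_b_90 : ∀ r, r < 64 → sm gb (Qf (5760 + r)) = Qf (tab Gen.b (5760 + r)) :=
  edges_tab (sm gb) Qf (tab Gen.b) 5760 [(5760, 4570), (5761, 4571), (5762, 7162), (5763, 7163), (5764, 7164), (5765, 7165), (5766, 7166), (5767, 7172), (5768, 5768), (5769, 5769), (5770, 5770), (5771, 4670), (5772, 4671), (5773, 4579), (5774, 4580), (5775, 4581), (5776, 4582), (5777, 4583), (5778, 7185), (5779, 7186), (5780, 7187), (5781, 7188), (5782, 7189), (5783, 4858), (5784, 4859), (5785, 4860), (5786, 4861), (5787, 5215), (5788, 4686), (5789, 4687), (5790, 4592), (5791, 4593), (5792, 4594), (5793, 4595), (5794, 4596), (5795, 7204), (5796, 7205), (5797, 7206), (5798, 7207), (5799, 7208), (5800, 4597), (5801, 7216), (5802, 7217), (5803, 5803), (5804, 5804), (5805, 5805), (5806, 5806), (5807, 5807), (5808, 4706), (5809, 4707), (5810, 4708), (5811, 4709), (5812, 4710), (5813, 4608), (5814, 4609), (5815, 4610), (5816, 4611), (5817, 4612), (5818, 7237), (5819, 7238), (5820, 7239), (5821, 7240), (5822, 7241), (5823, 7242)]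
    ⟨e3 q5760 L84325 q4570, e3 q5761 L84332 q4571, e3 q5762 (flp_b L122040) q7162, e3 q5763 (flp_b L122048) q7163, e3 q5764 (flp_b L122057) q7164, e3 q5765 (flp_b L122065) q7165, e3 q5766 (flp_b L122074) q7166, e3 q5767 L122132 q7172, e3 q5768 L84400 q5768, e3 q5769 L84409 q5769, e3 q5770 L84418 q5770, e3 q5771 L84425 q4670, e3 q5772 L84435 q4671, e3 q5773 L84444 q4579, e3 q5774 L84450 q4580, e3 q5775 L84457 q4581, e3 q5776 L84466 q4582, e3 q5777 L84474 q4583, e3 q5778 (flp_b L122254) q7185, e3 q5779 (flp_b L122260) q7186, e3 q5780 (flp_b L122268) q7187, e3 q5781 (flp_b L122277) q7188, e3 q5782 (flp_b L122285) q7189, e3 q5783 (flp_b L549669) q4858, e3 q5784 (flp_b L549655) q4859, e3 q5785 L549720 q4860, e3 q5786 (flp_b L592183) q4861, e3 q5787 L592860 q5215, e3 q5788 L84664 q4686, e3 q5789 L84674 q4687, e3 q5790 L84682 q4592, e3 q5791 L84688 q4593, e3 q5792 L84698 q4594, e3 q5793 L84704 q4595, e3 q5794 L84712 q4596, e3 q5795 (flp_b L122615) q7204, e3 q5796 (flp_b L122623) q7205, e3 q5797 (flp_b L122629) q7206, e3 q5798 (flp_b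 L122639) q7207, e3 q5799 (flp_b L122647) q7208, e3 q5800 (flp_b L84765) q4597, e3 q5801 (flp_b L122716) q7216, e3 q5802 (flp_b L122725) q7217, e3 q5803 L84794 q5803, e3 q5804 L84799 q5804, e3 q5805 L84808 q5805, e3 q5806 L84816 q5806, e3 q5807 L84824 q5807, e3 q5808 L84832 q4706, e3 q5809 L84838 q4707, e3 q5810 L84848 q4708, e3 q5811 L84856 q4709, e3 q5812 L84865 q4710, e3 q5813 L84873 q4608, e3 q5814 L84879 q4609, e3 q5815 L84885 q4610, e3 q5816 L84893 q4611, e3 q5817 L84902 q4612, e3 q5818 (flp_b L122891) q7237, e3 q5819 (flp_b L122897) q7238, e3 q5820 (flp_b L122903) q7239, e3 q5821 (flp_b L122911) q7240, e3 q5822 (flp_b L122916) q7241, e3 q5823 (flp_b L122922) q7242, trivial⟩ (by decide +kernel)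

theorem ce_b_91 : ∀ r, r < 64 → sm gb (Qf (5824 + r)) = Qf (tab Gen.b (5824 + r)) :=
  edges_tab (sm gb) Qf (tab Gen.b) 5824 [(5824, 7243), (5825, 4891), (5826, 4892), (5827, 4893), (5828, 4894), (5829, 4895), (5830, 4731), (5831, 4732), (5832, 4733), (5833, 4735), (5834, 4625), (5835, 4626), (5836, 4627), (5837, 4628), (5838, 4629), (5839, 7263), (5840, 7264), (5841, 7265), (5842, 7266), (5843, 7267), (5844, 7268), (5845, 7269), (5846, 4631), (5847, 4632), (5848, 7278), (5849, 7279), (5850, 7280), (5851, 4725), (5852, 7281), (5853, 5853), (5854, 5854), (5855, 5855), (5856, 5856), (5857, 5857), (5858, 4758), (5859, 4759), (5860, 4760), (5861, 4761), (5862, 4762), (5863, 4763), (5864, 4764), (5865, 4765), (5866, 4766), (5867, 4648), (5868, 4649), (5869, 4650), (5870, 4651), (5871, 4652), (5872, 4653), (5873, 4654), (5874, 7311), (5875, 7312), (5876, 7313), (5877, 7314), (5878, 7315), (5879, 7327), (5880, 7317), (5881, 7318), (5882, 7330), (5883, 5883), (5884, 5884), (5885, 5885), (5886, 7160), (5887, 7161)]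
    ⟨e3 q5824 (flp_b L122931) q7243, e3 q5825 L549444 q4891, e3 q5826 L549408 q4892, e3 q5827 L549429 q4893, e3 q5828 (flp_b L592392) q4894, e3 q5829 (flp_b L592338) q4895, e3 q5830 L85176 q4731, e3 q5831 L85185 q4732, e3 q5832 L85195 q4733, e3 q5833 L85211 q4735, e3 q5834 L85220 q4625, e3 q5835 L85229 q4626, e3 q5836 L85236 q4627, e3 q5837 L85245 q4628, e3 q5838 L85251 q4629, e3 q5839 (flp_b L123412) q7263, e3 q5840 (flp_b L123419) q7264, e3 q5841 (flp_b L123429) q7265, e3 q5842 (flp_b L123437) q7266, e3 q5843 (flp_b L123443) q7267, e3 q5844 (flp_b L123452) q7268, e3 q5845 (flp_b L123459) q7269, e3 q5846 L85322 q4631, e3 q5847 L85332 q4632, e3 q5848 (flp_b L123536) q7278, e3 q5849 (flp_b L123544) q7279, e3 q5850 (flp_b L123553) q7280, e3 q5851 L576239 q4725, e3 q5852 (flp_b L123572) q7281, e3 q5853 L85379 q5853, e3 q5854 L85387 q5854, e3 q5855 L85395 q5855, e3 q5856 L85403 q5856, e3 q5857 L85411 q5857, e3 q5858 L85418 q4758, e3 q5859 L85426 q4759, e3 q5860 L85434 q4760, e3 q5861 L85443 q4761, e3 q5862 L85452 q4762, e3 q5863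 L85460 q4763, e3 q5864 L85470 q4764, e3 q5865 L85479 q4765, e3 q5866 L85487 q4766, e3 q5867 L85495 q4648, e3 q5868 L85500 q4649, e3 q5869 L85508 q4650, e3 q5870 L85516 q4651, e3 q5871 L85523 q4652, e3 q5872 L85530 q4653, e3 q5873 L85538 q4654, e3 q5874 (flp_b L123836) q7311, e3 q5875 (flp_b L123843) q7312, e3 q5876 (flp_b L123849) q7313, e3 q5877 (flp_b L123858) q7314, e3 q5878 (flp_b L123866) q7315, e3 q5879 L123957 q7327, e3 q5880 (flp_b L123879) q7317, e3 q5881 (flp_b L123887) q7318, e3 q5882 L123979 q7330, e3 q5883 L85623 q5883, e3 q5884 L85634 q5884, e3 q5885 L85643 q5885, e3 q5886 (flp_b L122019) q7160, e3 q5887 (flp_b L122031) q7161, trivial⟩ (by decide +kernel)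

theorem ce_b_92 : ∀ r, r < 64 → sm gb (Qf (5888 + r)) = Qf (tab Gen.b (5888 + r)) :=
  edges_tab (sm gb) Qf (tab Gen.b) 5888 [(5888, 4661), (5889, 4662), (5890, 4663), (5891, 4664), (5892, 4665), (5893, 7343), (5894, 7344), (5895, 7345), (5896, 7346), (5897, 7347), (5898, 4666), (5899, 7355), (5900, 7341), (5901, 5901), (5902, 5902), (5903, 5903), (5904, 5904), (5905, 5905), (5906, 7180), (5907, 7181), (5908, 7182), (5909, 7183), (5910, 7184), (5911, 4677), (5912, 4678), (5913, 4679), (5914, 4680), (5915, 4681), (5916, 7374), (5917, 7375), (5918, 7376), (5919, 7377), (5920, 7378), (5921, 7379), (5922, 7380), (5923, 4682), (5924, 7389), (5925, 7221), (5926, 5926), (5927, 5927), (5928, 5928), (5929, 5929), (5930, 5930), (5931, 7200), (5932, 7201), (5933, 7202), (5934, 4700), (5935, 7203), (5936, 4693), (5937, 4694), (5938, 4695), (5939, 4696), (5940, 4697), (5941, 7407), (5942, 7408), (5943, 7409), (5944, 7410), (5945, 7411), (5946, 7412), (5947, 7413), (5948, 4699), (5949, 7422), (5950, 7423), (5951, 7404)]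
    ⟨e3 q5888 L85670 q4661, e3 q5889 L85679 q4662, e3 q5890 L85688 q4663, e3 q5891 L85697 q4664, e3 q5892 L85707 q4665, e3 q5893 (flp_b L124109) q7343, e3 q5894 (flp_b L124118) q7344, e3 q5895 (flp_b L124126) q7345, e3 q5896 (flp_b L124137) q7346, e3 q5897 (flp_b L124145) q7347, e3 q5898 (flp_b L85760) q4666, e3 q5899 (flp_b L124214) q7355, e3 q5900 L552863 q7341, e3 q5901 L85791 q5901, e3 q5902 L85799 q5902, e3 q5903 L85807 q5903, e3 q5904 L85818 q5904, e3 q5905 L85828 q5905, e3 q5906 (flp_b L122208) q7180, e3 q5907 (flp_b L122216) q7181, e3 q5908 (flp_b L122225) q7182, e3 q5909 (flp_b L122235) q7183, e3 q5910 (flp_b L122245) q7184, e3 q5911 L85876 q4677, e3 q5912 L85883 q4678, e3 q5913 L85891 q4679, e3 q5914 L85900 q4680, e3 q5915 L85909 q4681, e3 q5916 (flp_b L124399) q7374, e3 q5917 (flp_b L124405) q7375, e3 q5918 (flp_b L124414) q7376, e3 q5919 (flp_b L124422) q7377, e3 q5920 (flp_b L124431) q7378, e3 q5921 (flp_b L124439) q7379, e3 q5922 (flp_b L124450) q7380, e3 q5923 (flp_b L85970) q4682, e3 q5924 (flp_b L124523)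 q7389, e3 q5925 L576256 q7221, e3 q5926 L86001 q5926, e3 q5927 L86009 q5927, e3 q5928 L86020 q5928, e3 q5929 L86028 q5929, e3 q5930 L86038 q5930, e3 q5931 (flp_b L122569) q7200, e3 q5932 (flp_b L122577) q7201, e3 q5933 (flp_b L122589) q7202, e3 q5934 L576564 q4700, e3 q5935 (flp_b L122605) q7203, e3 q5936 L86086 q4693, e3 q5937 L86095 q4694, e3 q5938 L86101 q4695, e3 q5939 L86111 q4696, e3 q5940 L86120 q4697, e3 q5941 (flp_b L124702) q7407, e3 q5942 (flp_b L124711) q7408, e3 q5943 (flp_b L124720) q7409, e3 q5944 (flp_b L124728) q7410, e3 q5945 (flp_b L124734) q7411, e3 q5946 (flp_b L124742) q7412, e3 q5947 (flp_b L124751) q7413, e3 q5948 L86182 q4699, e3 q5949 (flp_b L124823) q7422, e3 q5950 (flp_b L124828) q7423, e3 q5951 L576374 q7404, trivial⟩ (by decide +kernel)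

theorem ce_b_93 : ∀ r, r < 64 → sm gb (Qf (5952 + r)) = Qf (tab Gen.b (5952 + r)) :=
  edges_tab (sm gb) Qf (tab Gen.b) 5952 [(5952, 7406), (5953, 5953), (5954, 5954), (5955, 5955), (5956, 5956), (5957, 5957), (5958, 7228), (5959, 7229), (5960, 7230), (5961, 7231), (5962, 7232), (5963, 7233), (5964, 7234), (5965, 7235), (5966, 7236), (5967, 4716), (5968, 4717), (5969, 4718), (5970, 4719), (5971, 4720), (5972, 4721), (5973, 4722), (5974, 7451), (5975, 7452), (5976, 7453), (5977, 7454), (5978, 7455), (5979, 7467), (5980, 7457), (5981, 7458), (5982, 4724), (5983, 7470), (5984, 7471), (5985, 7287), (5986, 7289), (5987, 5987), (5988, 5988), (5989, 5989), (5990, 5990), (5991, 5991), (5992, 7257), (5993, 7258), (5994, 7259), (5995, 7260), (5996, 7261), (5997, 4751), (5998, 7262), (5999, 4752), (6000, 4741), (6001, 4742), (6002, 4743), (6003, 4744), (6004, 4745), (6005, 4746), (6006, 4747), (6007, 7495), (6008, 7496), (6009, 7497), (6010, 7498), (6011, 7499), (6012, 7511), (6013, 7501), (6014, 7502), (6015, 4749)]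
    ⟨e3 q5952 (flp_b L576551) q7406, e3 q5953 L86240 q5953, e3 q5954 L86248 q5954, e3 q5955 L86255 q5955, e3 q5956 L86264 q5956, e3 q5957 L86275 q5957, e3 q5958 (flp_b L122814) q7228, e3 q5959 (flp_b L122820) q7229, e3 q5960 (flp_b L122828) q7230, e3 q5961 (flp_b L122836) q7231, e3 q5962 (flp_b L122846) q7232, e3 q5963 (flp_b L122856) q7233, e3 q5964 (flp_b L122865) q7234, e3 q5965 (flp_b L122873) q7235, e3 q5966 (flp_b L122882) q7236, e3 q5967 L86345 q4716, e3 q5968 L86352 q4717, e3 q5969 L86359 q4718, e3 q5970 L86367 q4719, e3 q5971 L86374 q4720, e3 q5972 L86380 q4721, e3 q5973 L86390 q4722, e3 q5974 (flp_b L125104) q7451, e3 q5975 (flp_b L125113) q7452, e3 q5976 (flp_b L125121) q7453, e3 q5977 (flp_b L125129) q7454, e3 q5978 (flp_b L125138) q7455, e3 q5979 L125227 q7467, e3 q5980 (flp_b L125151) q7457, e3 q5981 (flp_b L125159) q7458, e3 q5982 L86459 q4724, e3 q5983 (flp_b L125247) q7470, e3 q5984 (flp_b L125255) q7471, e3 q5985 (flp_b L554291) q7287, e3 q5986 (flp_b L551119) q7289, e3 q5987 L86522 q5987, e3 q5988 L86533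 q5988, e3 q5989 L86541 q5989, e3 q5990 L86551 q5990, e3 q5991 L86559 q5991, e3 q5992 (flp_b L123330) q7257, e3 q5993 (flp_b L123340) q7258, e3 q5994 (flp_b L123350) q7259, e3 q5995 (flp_b L123359) q7260, e3 q5996 (flp_b L123370) q7261, e3 q5997 (flp_b L553252) q4751, e3 q5998 (flp_b L123387) q7262, e3 q5999 (flp_b L526905) q4752, e3 q6000 L86636 q4741, e3 q6001 L86644 q4742, e3 q6002 L86655 q4743, e3 q6003 L86663 q4744, e3 q6004 L86671 q4745, e3 q6005 L86680 q4746, e3 q6006 L86688 q4747, e3 q6007 (flp_b L125549) q7495, e3 q6008 (flp_b L125559) q7496, e3 q6009 (flp_b L125565) q7497, e3 q6010 (flp_b L125574) q7498, e3 q6011 (flp_b L125583) q7499, e3 q6012 L125679 q7511, e3 q6013 (flp_b L125599) q7501, e3 q6014 (flp_b L125607) q7502, e3 q6015 L86759 q4749, trivial⟩ (by decide +kernel)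

theorem ce_b_94 : ∀ r, r < 64 → sm gb (Qf (6016 + r)) = Qf (tab Gen.b (6016 + r)) :=
  edges_tab (sm gb) Qf (tab Gen.b) 6016 [(6016, 4750), (6017, 7514), (6018, 7515), (6019, 7493), (6020, 7516), (6021, 7491), (6022, 7494), (6023, 6023), (6024, 6024), (6025, 6025), (6026, 6026), (6027, 6027), (6028, 6028), (6029, 6029), (6030, 7297), (6031, 7298), (6032, 7299), (6033, 7300), (6034, 7301), (6035, 7302), (6036, 7303), (6037, 7304), (6038, 7305), (6039, 7306), (6040, 7307), (6041, 7308), (6042, 7309), (6043, 7310), (6044, 4774), (6045, 4775), (6046, 4776), (6047, 4777), (6048, 4778), (6049, 7563), (6050, 4780), (6051, 4781), (6052, 7555), (6053, 7556), (6054, 7557), (6055, 7558), (6056, 7559), (6057, 7560), (6058, 7574), (6059, 7562), (6060, 4779), (6061, 7578), (6062, 7565), (6063, 6063), (6064, 6064), (6065, 6065), (6066, 6066), (6067, 6067), (6068, 6068), (6069, 4792), (6070, 4793), (6071, 4794), (6072, 4795), (6073, 7591), (6074, 7586), (6075, 7587), (6076, 7588), (6077, 7062), (6078, 7589), (6079, 7063)]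
    ⟨e3 q6016 L86765 q4750, e3 q6017 (flp_b L125703) q7514, e3 q6018 (flp_b L125710) q7515, e3 q6019 (flp_b L553277) q7493, e3 q6020 (flp_b L125725) q7516, e3 q6021 (flp_b L554135) q7491, e3 q6022 L553221 q7494, e3 q6023 L86876 q6023, e3 q6024 L86883 q6024, e3 q6025 L86893 q6025, e3 q6026 L86902 q6026, e3 q6027 L86912 q6027, e3 q6028 L86920 q6028, e3 q6029 L86930 q6029, e3 q6030 (flp_b L123712) q7297, e3 q6031 (flp_b L123721) q7298, e3 q6032 (flp_b L123729) q7299, e3 q6033 (flp_b L123735) q7300, e3 q6034 (flp_b L123744) q7301, e3 q6035 (flp_b L123754) q7302, e3 q6036 (flp_b L123759) q7303, e3 q6037 (flp_b L123768) q7304, e3 q6038 (flp_b L123777) q7305, e3 q6039 (flp_b L123786) q7306, e3 q6040 (flp_b L123794) q7307, e3 q6041 (flp_b L123802) q7308, e3 q6042 (flp_b L123812) q7309, e3 q6043 (flp_b L123820) q7310, e3 q6044 L87039 q4774, e3 q6045 L87047 q4775, e3 q6046 L87053 q4776, e3 q6047 L87062 q4777, e3 q6048 L87072 q4778, e3 q6049 L126213 q7563, e3 q6050 L87087 q4780, e3 q6051 L87096 q4781, e3 q6052 (flp_b L126148) q7555,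 e3 q6053 (flp_b L126155) q7556, e3 q6054 (flp_b L126163) q7557, e3 q6055 (flp_b L126171) q7558, e3 q6056 (flp_b L126177) q7559, e3 q6057 (flp_b L126188) q7560, e3 q6058 L126301 q7574, e3 q6059 (flp_b L126205) q7562, e3 q6060 (flp_b L87164) q4779, e3 q6061 (flp_b L126337) q7578, e3 q6062 (flp_b L126231) q7565, e3 q6063 L87328 q6063, e3 q6064 L87336 q6064, e3 q6065 L87391 q6065, e3 q6066 L87400 q6066, e3 q6067 L87406 q6067, e3 q6068 L87414 q6068, e3 q6069 L87508 q4792, e3 q6070 L87517 q4793, e3 q6071 L87524 q4794, e3 q6072 L87533 q4795, e3 q6073 L126891 q7591, e3 q6074 (flp_b L126828) q7586, e3 q6075 (flp_b L126836) q7587, e3 q6076 (flp_b L126845) q7588, e3 q6077 (flp_b L563063) q7062, e3 q6078 (flp_b L126860) q7589, e3 q6079 L563534 q7063, trivial⟩ (by decide +kernel)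

theorem ce_b_95 : ∀ r, r < 64 → sm gb (Qf (6080 + r)) = Qf (tab Gen.b (6080 + r)) :=
  edges_tab (sm gb) Qf (tab Gen.b) 6080 [(6080, 7600), (6081, 7060), (6082, 4797), (6083, 7604), (6084, 7061), (6085, 7056), (6086, 7059), (6087, 7052), (6088, 7054), (6089, 6089), (6090, 6090), (6091, 6091), (6092, 6092), (6093, 7616), (6094, 6094), (6095, 6095), (6096, 6096), (6097, 6097), (6098, 6098), (6099, 6099), (6100, 6100), (6101, 6101), (6102, 6102), (6103, 7630), (6104, 4823), (6105, 4824), (6106, 4825), (6107, 4826), (6108, 4827), (6109, 4828), (6110, 7639), (6111, 4830), (6112, 4820), (6113, 7643), (6114, 4833), (6115, 7631), (6116, 7632), (6117, 7633), (6118, 7650), (6119, 7635), (6120, 7636), (6121, 7652), (6122, 7638), (6123, 4829), (6124, 7655), (6125, 7641), (6126, 6126), (6127, 4832), (6128, 7658), (6129, 6578), (6130, 6577), (6131, 7158), (6132, 7159), (6133, 6133), (6134, 6134), (6135, 6135), (6136, 6136), (6137, 6137), (6138, 6138), (6139, 6139), (6140, 6140), (6141, 6141), (6142, 6142), (6143, 6143)]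
    ⟨e3 q6080 L126972 q7600, e3 q6081 (flp_b L562793) q7060, e3 q6082 (flp_b L87635) q4797, e3 q6083 (flp_b L127003) q7604, e3 q6084 L561526 q7061, e3 q6085 L562542 q7056, e3 q6086 L561997 q7059, e3 q6087 (flp_b L563131) q7052, e3 q6088 (flp_b L563249) q7054, e3 q6089 L87791 q6089, e3 q6090 L87799 q6090, e3 q6091 L87807 q6091, e3 q6092 L87817 q6092, e3 q6093 L127284 q7616, e3 q6094 L87861 q6094, e3 q6095 L87866 q6095, e3 q6096 L87874 q6096, e3 q6097 L87881 q6097, e3 q6098 L87888 q6098, e3 q6099 L87894 q6099, e3 q6100 L87902 q6100, e3 q6101 L87910 q6101, e3 q6102 L87920 q6102, e3 q6103 L127423 q7630, e3 q6104 L87958 q4823, e3 q6105 L87964 q4824, e3 q6106 L87973 q4825, e3 q6107 L87979 q4826, e3 q6108 L87986 q4827, e3 q6109 L87995 q4828, e3 q6110 L127505 q7639, e3 q6111 L88010 q4830, e3 q6112 (flp_b L88018) q4820, e3 q6113 (flp_b L127538) q7643, e3 q6114 L88034 q4833, e3 q6115 (flp_b L127445) q7631, e3 q6116 (flp_b L127453) q7632, e3 q6117 (flp_b L127461) q7633, e3 q6118 L127591 q7650, e3 q6119 (flp_b L127474) q7635, e3 q6120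 (flp_b L127481) q7636, e3 q6121 L127624 q7652, e3 q6122 (flp_b L127496) q7638, e3 q6123 (flp_b L88101) q4829, e3 q6124 (flp_b L127661) q7655, e3 q6125 (flp_b L127523) q7641, e3 q6126 L88131 q6126, e3 q6127 L88134 q4832, e3 q6128 (flp_b L127688) q7658, e3 q6129 (flp_b L643959) q6578, e3 q6130 L642857 q6577, e3 q6131 (flp_b L592696) q7158, e3 q6132 L549761 q7159, e3 q6133 L88223 q6133, e3 q6134 L88232 q6134, e3 q6135 L88242 q6135, e3 q6136 L88253 q6136, e3 q6137 L88261 q6137, e3 q6138 L88269 q6138, e3 q6139 L88279 q6139, e3 q6140 L88287 q6140, e3 q6141 L88297 q6141, e3 q6142 L88308 q6142, e3 q6143 L88316 q6143, trivial⟩ (by decide +kernel)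

theorem ce_b_96 : ∀ r, r < 64 → sm gb (Qf (6144 + r)) = Qf (tab Gen.b (6144 + r)) :=
  edges_tab (sm gb) Qf (tab Gen.b) 6144 [(6144, 6144), (6145, 6145), (6146, 6146), (6147, 4851), (6148, 4852), (6149, 4853), (6150, 4854), (6151, 4855), (6152, 4856), (6153, 4857), (6154, 6582), (6155, 7678), (6156, 7679), (6157, 7680), (6158, 7681), (6159, 7692), (6160, 7683), (6161, 7684), (6162, 6581), (6163, 6595), (6164, 7197), (6165, 6593), (6166, 7198), (6167, 7199), (6168, 6168), (6169, 6169), (6170, 6170), (6171, 6171), (6172, 6172), (6173, 6173), (6174, 6174), (6175, 6175), (6176, 6176), (6177, 6177), (6178, 6178), (6179, 6179), (6180, 6180), (6181, 6181), (6182, 6182), (6183, 6183), (6184, 6184), (6185, 6185), (6186, 6186), (6187, 6187), (6188, 6188), (6189, 4883), (6190, 4884), (6191, 4885), (6192, 4886), (6193, 4887), (6194, 7731), (6195, 4889), (6196, 4890), (6197, 6599), (6198, 7724), (6199, 7725), (6200, 7726), (6201, 7727), (6202, 7728), (6203, 7742), (6204, 7730), (6205, 4888), (6206, 7746), (6207, 7733)]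
    ⟨e3 q6144 L88325 q6144, e3 q6145 L88335 q6145, e3 q6146 L88344 q6146, e3 q6147 L88352 q4851, e3 q6148 L88360 q4852, e3 q6149 L88370 q4853, e3 q6150 L88378 q4854, e3 q6151 L88386 q4855, e3 q6152 L88396 q4856, e3 q6153 L88405 q4857, e3 q6154 L647900 q6582, e3 q6155 (flp_b L128051) q7678, e3 q6156 (flp_b L128059) q7679, e3 q6157 (flp_b L128069) q7680, e3 q6158 (flp_b L128076) q7681, e3 q6159 L128176 q7692, e3 q6160 (flp_b L128091) q7683, e3 q6161 (flp_b L128100) q7684, e3 q6162 L643933 q6581, e3 q6163 (flp_b L643882) q6595, e3 q6164 L549715 q7197, e3 q6165 (flp_b L643012) q6593, e3 q6166 (flp_b L592592) q7198, e3 q6167 (flp_b L592665) q7199, e3 q6168 L88611 q6168, e3 q6169 L88621 q6169, e3 q6170 L88630 q6170, e3 q6171 L88639 q6171, e3 q6172 L88646 q6172, e3 q6173 L88655 q6173, e3 q6174 L88664 q6174, e3 q6175 L88672 q6175, e3 q6176 L88681 q6176, e3 q6177 L88688 q6177, e3 q6178 L88697 q6178, e3 q6179 L88705 q6179, e3 q6180 L88714 q6180, e3 q6181 L88718 q6181, e3 q6182 L88727 q6182, e3 q6183 L88736 q6183, e3 q6184 L88745 q6184,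 e3 q6185 L88755 q6185, e3 q6186 L88760 q6186, e3 q6187 L88767 q6187, e3 q6188 L88773 q6188, e3 q6189 L88789 q4883, e3 q6190 L88799 q4884, e3 q6191 L88808 q4885, e3 q6192 L88816 q4886, e3 q6193 L88823 q4887, e3 q6194 L128741 q7731, e3 q6195 L88836 q4889, e3 q6196 L88843 q4890, e3 q6197 (flp_b L647856) q6599, e3 q6198 (flp_b L128686) q7724, e3 q6199 (flp_b L128696) q7725, e3 q6200 (flp_b L128704) q7726, e3 q6201 (flp_b L128714) q7727, e3 q6202 (flp_b L128721) q7728, e3 q6203 L128824 q7742, e3 q6204 (flp_b L128735) q7730, e3 q6205 (flp_b L88915) q4888, e3 q6206 (flp_b L128853) q7746, e3 q6207 (flp_b L128754) q7733, trivial⟩ (by decide +kernel)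

theorem ce_b_97 : ∀ r, r < 64 → sm gb (Qf (6208 + r)) = Qf (tab Gen.b (6208 + r)) :=
  edges_tab (sm gb) Qf (tab Gen.b) 6208 [(6208, 6617), (6209, 6616), (6210, 7252), (6211, 7253), (6212, 7254), (6213, 7255), (6214, 7256), (6215, 6215), (6216, 6216), (6217, 6217), (6218, 6218), (6219, 6219), (6220, 7762), (6221, 6221), (6222, 6222), (6223, 6223), (6224, 6224), (6225, 6225), (6226, 6226), (6227, 6227), (6228, 7773), (6229, 6229), (6230, 6230), (6231, 6231), (6232, 6232), (6233, 6233), (6234, 6234), (6235, 6235), (6236, 6236), (6237, 6237), (6238, 6238), (6239, 4923), (6240, 4924), (6241, 4925), (6242, 4926), (6243, 4927), (6244, 4928), (6245, 7795), (6246, 4930), (6247, 4920), (6248, 7799), (6249, 4933), (6250, 7787), (6251, 7788), (6252, 7789), (6253, 7803), (6254, 7791), (6255, 7792), (6256, 7807), (6257, 7794), (6258, 4929), (6259, 7809), (6260, 7797), (6261, 6261), (6262, 4932), (6263, 7811), (6264, 6264), (6265, 6265), (6266, 6266), (6267, 6267), (6268, 6268), (6269, 6269), (6270, 7818), (6271, 6271)]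
    ⟨e3 q6208 L640837 q6617, e3 q6209 (flp_b L643023) q6616, e3 q6210 L549425 q7252, e3 q6211 L549267 q7253, e3 q6212 (flp_b L549376) q7254, e3 q6213 (flp_b L592563) q7255, e3 q6214 (flp_b L592531) q7256, e3 q6215 L89133 q6215, e3 q6216 L89143 q6216, e3 q6217 L89151 q6217, e3 q6218 L89161 q6218, e3 q6219 L89170 q6219, e3 q6220 L129243 q7762, e3 q6221 L89188 q6221, e3 q6222 L89197 q6222, e3 q6223 L89204 q6223, e3 q6224 L89213 q6224, e3 q6225 L89221 q6225, e3 q6226 L89231 q6226, e3 q6227 L89237 q6227, e3 q6228 L129342 q7773, e3 q6229 L89254 q6229, e3 q6230 L89261 q6230, e3 q6231 L89268 q6231, e3 q6232 L89276 q6232, e3 q6233 L89285 q6233, e3 q6234 L89292 q6234, e3 q6235 L89299 q6235, e3 q6236 L89307 q6236, e3 q6237 L89322 q6237, e3 q6238 L89328 q6238, e3 q6239 L89343 q4923, e3 q6240 L89352 q4924, e3 q6241 L89360 q4925, e3 q6242 L89369 q4926, e3 q6243 L89377 q4927, e3 q6244 L89386 q4928, e3 q6245 L129541 q7795, e3 q6246 L89402 q4930, e3 q6247 (flp_b L89408) q4920, e3 q6248 (flp_b L129574) q7799, e3 q6249 L89424 q4933, e3 q6250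 (flp_b L129477) q7787, e3 q6251 (flp_b L129485) q7788, e3 q6252 (flp_b L129495) q7789, e3 q6253 L129632 q7803, e3 q6254 (flp_b L129511) q7791, e3 q6255 (flp_b L129518) q7792, e3 q6256 L129672 q7807, e3 q6257 (flp_b L129534) q7794, e3 q6258 (flp_b L89497) q4929, e3 q6259 (flp_b L129708) q7809, e3 q6260 (flp_b L129557) q7797, e3 q6261 L89527 q6261, e3 q6262 L89530 q4932, e3 q6263 (flp_b L129732) q7811, e3 q6264 L89548 q6264, e3 q6265 L89558 q6265, e3 q6266 L89569 q6266, e3 q6267 L89577 q6267, e3 q6268 L89588 q6268, e3 q6269 L89596 q6269, e3 q6270 L129822 q7818, e3 q6271 L89615 q6271, trivial⟩ (by decide +kernel)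

theorem ce_b_98 : ∀ r, r < 64 → sm gb (Qf (6272 + r)) = Qf (tab Gen.b (6272 + r)) :=
  edges_tab (sm gb) Qf (tab Gen.b) 6272 [(6272, 4939), (6273, 7822), (6274, 6274), (6275, 4953), (6276, 7825), (6277, 4955), (6278, 4956), (6279, 7827), (6280, 4954), (6281, 4948), (6282, 7824), (6283, 4958), (6284, 7821), (6285, 4951), (6286, 7831), (6287, 6287), (6288, 6288), (6289, 4961), (6290, 6290), (6291, 6291), (6292, 6538), (6293, 6541), (6294, 6545), (6295, 4971), (6296, 4972), (6297, 6297), (6298, 6546), (6299, 6549), (6300, 6300), (6301, 4981), (6302, 4982), (6303, 6561), (6304, 5244), (6305, 6305), (6306, 6306), (6307, 6550), (6308, 6308), (6309, 4995), (6310, 4996), (6311, 4997), (6312, 6569), (6313, 5014), (6314, 5227), (6315, 6315), (6316, 6316), (6317, 6317), (6318, 5085), (6319, 5012), (6320, 5013), (6321, 5015), (6322, 7838), (6323, 5082), (6324, 5093), (6325, 5098), (6326, 5099), (6327, 5100), (6328, 5101), (6329, 5026), (6330, 5106), (6331, 5107), (6332, 5031), (6333, 5032), (6334, 5034), (6335, 7846)]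
    ⟨e3 q6272 (flp_b L89620) q4939, e3 q6273 (flp_b L129855) q7822, e3 q6274 L89639 q6274, e3 q6275 L89655 q4953, e3 q6276 L129912 q7825, e3 q6277 L89680 q4955, e3 q6278 L89686 q4956, e3 q6279 (flp_b L646286) q7827, e3 q6280 L647566 q4954, e3 q6281 (flp_b L89708) q4948, e3 q6282 L646181 q7824, e3 q6283 L89724 q4958, e3 q6284 (flp_b L129851) q7821, e3 q6285 L89738 q4951, e3 q6286 (flp_b L130006) q7831, e3 q6287 L89860 q6287, e3 q6288 L89880 q6288, e3 q6289 L89887 q4961, e3 q6290 L90110 q6290, e3 q6291 L90121 q6291, e3 q6292 L639265 q6538, e3 q6293 (flp_b L639293) q6541, e3 q6294 (flp_b L639572) q6545, e3 q6295 L90343 q4971, e3 q6296 L90353 q4972, e3 q6297 L90425 q6297, e3 q6298 (flp_b L643677) q6546, e3 q6299 (flp_b L639674) q6549, e3 q6300 L90753 q6300, e3 q6301 L90756 q4981, e3 q6302 L90773 q4982, e3 q6303 (flp_b L643169) q6561, e3 q6304 (flp_b L597482) q5244, e3 q6305 L90869 q6305, e3 q6306 L90876 q6306, e3 q6307 (flp_b L643635) q6550, e3 q6308 L91311 q6308, e3 q6309 L91325 q4995, e3 q6310 L91334 q4996, e3 q6311 L91357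 q4997, e3 q6312 L644668 q6569, e3 q6313 (flp_b L626854) q5014, e3 q6314 (flp_b L597434) q5227, e3 q6315 L91479 q6315, e3 q6316 L91485 q6316, e3 q6317 L91491 q6317, e3 q6318 L91826 q5085, e3 q6319 L91846 q5012, e3 q6320 L91855 q5013, e3 q6321 (flp_b L91944) q5015, e3 q6322 (flp_b L133260) q7838, e3 q6323 (flp_b L551834) q5082, e3 q6324 L591197 q5093, e3 q6325 L92024 q5098, e3 q6326 L92033 q5099, e3 q6327 L92040 q5100, e3 q6328 L92050 q5101, e3 q6329 L92100 q5026, e3 q6330 L92493 q5106, e3 q6331 L92502 q5107, e3 q6332 L92537 q5031, e3 q6333 L92552 q5032, e3 q6334 L92649 q5034, e3 q6335 (flp_b L134280) q7846, trivial⟩ (by decide +kernel)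

theorem ce_b_99 : ∀ r, r < 64 → sm gb (Qf (6336 + r)) = Qf (tab Gen.b (6336 + r)) :=
  edges_tab (sm gb) Qf (tab Gen.b) 6336 [(6336, 7847), (6337, 5102), (6338, 5115), (6339, 5117), (6340, 5122), (6341, 5123), (6342, 5124), (6343, 5125), (6344, 5126), (6345, 5127), (6346, 5128), (6347, 5049), (6348, 5050), (6349, 5133), (6350, 5134), (6351, 5136), (6352, 5055), (6353, 5056), (6354, 5058), (6355, 5059), (6356, 7860), (6357, 7861), (6358, 5129), (6359, 7862), (6360, 5130), (6361, 5146), (6362, 5147), (6363, 5148), (6364, 5154), (6365, 5155), (6366, 5156), (6367, 5157), (6368, 5158), (6369, 5159), (6370, 5160), (6371, 5161), (6372, 5162), (6373, 5163), (6374, 5079), (6375, 6375), (6376, 5080), (6377, 5081), (6378, 7839), (6379, 5092), (6380, 5091), (6381, 5114), (6382, 7836), (6383, 7837), (6384, 5094), (6385, 7883), (6386, 7882), (6387, 7840), (6388, 7841), (6389, 7842), (6390, 7849), (6391, 7850), (6392, 5116), (6393, 5113), (6394, 7843), (6395, 7844), (6396, 5118), (6397, 7845), (6398, 5119), (6399, 7894)]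
    ⟨e3 q6336 (flp_b L134289) q7847, e3 q6337 L601137 q5102, e3 q6338 (flp_b L588960) q5115, e3 q6339 (flp_b L598561) q5117, e3 q6340 L92752 q5122, e3 q6341 L92757 q5123, e3 q6342 L92765 q5124, e3 q6343 L92774 q5125, e3 q6344 L92782 q5126, e3 q6345 L92792 q5127, e3 q6346 L92807 q5128, e3 q6347 L92851 q5049, e3 q6348 L92867 q5050, e3 q6349 L93418 q5133, e3 q6350 L93427 q5134, e3 q6351 L93447 q5136, e3 q6352 L93495 q5055, e3 q6353 L93503 q5056, e3 q6354 L93633 q5058, e3 q6355 L93643 q5059, e3 q6356 (flp_b L135765) q7860, e3 q6357 (flp_b L135773) q7861, e3 q6358 L590839 q5129, e3 q6359 (flp_b L135795) q7862, e3 q6360 L590823 q5130, e3 q6361 (flp_b L587577) q5146, e3 q6362 L580388 q5147, e3 q6363 (flp_b L598433) q5148, e3 q6364 L93816 q5154, e3 q6365 L93823 q5155, e3 q6366 L93830 q5156, e3 q6367 L93837 q5157, e3 q6368 L93846 q5158, e3 q6369 L93856 q5159, e3 q6370 L93872 q5160, e3 q6371 L93881 q5161, e3 q6372 L93896 q5162, e3 q6373 L93912 q5163, e3 q6374 L93965 q5079, e3 q6375 L93977 q6375, e3 q6376 L93980 q5080, e3 q6377 L93989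 q5081, e3 q6378 (flp_b L601157) q7839, e3 q6379 L621876 q5092, e3 q6380 L623396 q5091, e3 q6381 L623428 q5114, e3 q6382 (flp_b L133090) q7836, e3 q6383 (flp_b L133101) q7837, e3 q6384 (flp_b L591273) q5094, e3 q6385 (flp_b L622591) q7883, e3 q6386 (flp_b L622556) q7882, e3 q6387 (flp_b L133375) q7840, e3 q6388 (flp_b L133419) q7841, e3 q6389 (flp_b L133438) q7842, e3 q6390 (flp_b L576662) q7849, e3 q6391 L591475 q7850, e3 q6392 (flp_b L623029) q5116, e3 q6393 (flp_b L623007) q5113, e3 q6394 (flp_b L134067) q7843, e3 q6395 (flp_b L134074) q7844, e3 q6396 (flp_b L577696) q5118, e3 q6397 (flp_b L134093) q7845, e3 q6398 (flp_b L591485) q5119, e3 q6399 L552358 q7894, trivial⟩ (by decide +kernel)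

theorem ce_b_100 : ∀ r, r < 64 → sm gb (Qf (6400 + r)) = Qf (tab Gen.b (6400 + r)) :=
  edges_tab (sm gb) Qf (tab Gen.b) 6400 [(6400, 7891), (6401, 7890), (6402, 7851), (6403, 7852), (6404, 7368), (6405, 7853), (6406, 7854), (6407, 7855), (6408, 7866), (6409, 7865), (6410, 7867), (6411, 5144), (6412, 5143), (6413, 7856), (6414, 7857), (6415, 7858), (6416, 7859), (6417, 5150), (6418, 5149), (6419, 5151), (6420, 5145), (6421, 5282), (6422, 7913), (6423, 7911), (6424, 7907), (6425, 7906), (6426, 7869), (6427, 7870), (6428, 7871), (6429, 7872), (6430, 7873), (6431, 7874), (6432, 7876), (6433, 7877), (6434, 7878), (6435, 7879), (6436, 7880), (6437, 7036), (6438, 6936), (6439, 7034), (6440, 7035), (6441, 5186), (6442, 5185), (6443, 5184), (6444, 6444), (6445, 6445), (6446, 6446), (6447, 6447), (6448, 6448), (6449, 6449), (6450, 6450), (6451, 6451), (6452, 6452), (6453, 6453), (6454, 7949), (6455, 7033), (6456, 5183), (6457, 7030), (6458, 7029), (6459, 5187), (6460, 7914), (6461, 5192), (6462, 5193), (6463, 5194)]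
    ⟨e3 q6400 (flp_b L622804) q7891, e3 q6401 L622783 q7890, e3 q6402 (flp_b L134464) q7851, e3 q6403 (flp_b L134470) q7852, e3 q6404 (flp_b L617664) q7368, e3 q6405 (flp_b L134526) q7853, e3 q6406 (flp_b L134545) q7854, e3 q6407 (flp_b L134559) q7855, e3 q6408 (flp_b L551367) q7866, e3 q6409 (flp_b L551540) q7865, e3 q6410 L590735 q7867, e3 q6411 (flp_b L624724) q5144, e3 q6412 L624696 q5143, e3 q6413 (flp_b L135471) q7856, e3 q6414 (flp_b L135480) q7857, e3 q6415 (flp_b L135487) q7858, e3 q6416 (flp_b L135496) q7859, e3 q6417 (flp_b L590639) q5150, e3 q6418 (flp_b L590599) q5149, e3 q6419 (flp_b L559635) q5151, e3 q6420 L95731 q5145, e3 q6421 (flp_b L561327) q5282, e3 q6422 L561670 q7913, e3 q6423 L590584 q7911, e3 q6424 L624767 q7907, e3 q6425 (flp_b L624712) q7906, e3 q6426 (flp_b L136053) q7869, e3 q6427 (flp_b L136061) q7870, e3 q6428 (flp_b L136069) q7871, e3 q6429 (flp_b L136076) q7872, e3 q6430 (flp_b L136084) q7873, e3 q6431 (flp_b L136119) q7874, e3 q6432 (flp_b L136142) q7876, e3 q6433 (flp_b L136157) q7877, e3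 q6434 (flp_b L136174) q7878, e3 q6435 (flp_b L136190) q7879, e3 q6436 (flp_b L136214) q7880, e3 q6437 (flp_b L561724) q7036, e3 q6438 L561737 q6936, e3 q6439 (flp_b L512102) q7034, e3 q6440 (flp_b L543871) q7035, e3 q6441 L624521 q5186, e3 q6442 (flp_b L624503) q5185, e3 q6443 L624535 q5184, e3 q6444 L418032 q6444, e3 q6445 L96550 q6445, e3 q6446 L96558 q6446, e3 q6447 L96566 q6447, e3 q6448 L96571 q6448, e3 q6449 L96578 q6449, e3 q6450 L96585 q6450, e3 q6451 L96595 q6451, e3 q6452 L96605 q6452, e3 q6453 L96616 q6453, e3 q6454 L140041 q7949, e3 q6455 (flp_b L616696) q7033, e3 q6456 (flp_b L96707) q5183, e3 q6457 (flp_b L616781) q7030, e3 q6458 L624335 q7029, e3 q6459 (flp_b L96762) q5187, e3 q6460 L561566 q7914, e3 q6461 L96788 q5192, e3 q6462 L96795 q5193, e3 q6463 L96803 q5194, trivial⟩ (by decide +kernel)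

theorem ce_b_101 : ∀ r, r < 64 → sm gb (Qf (6464 + r)) = Qf (tab Gen.b (6464 + r)) :=
  edges_tab (sm gb) Qf (tab Gen.b) 6464 [(6464, 5195), (6465, 7952), (6466, 7953), (6467, 7954), (6468, 7955), (6469, 7956), (6470, 6470), (6471, 6471), (6472, 6472), (6473, 6473), (6474, 6474), (6475, 6562), (6476, 6560), (6477, 6567), (6478, 6478), (6479, 6479), (6480, 6480), (6481, 6481), (6482, 6482), (6483, 6483), (6484, 6570), (6485, 6650), (6486, 6568), (6487, 6487), (6488, 6488), (6489, 6489), (6490, 6490), (6491, 6491), (6492, 6671), (6493, 6493), (6494, 6494), (6495, 6495), (6496, 6496), (6497, 6497), (6498, 6498), (6499, 6499), (6500, 6500), (6501, 6501), (6502, 6555), (6503, 6632), (6504, 6554), (6505, 6505), (6506, 6506), (6507, 6507), (6508, 6508), (6509, 6509), (6510, 6649), (6511, 6511), (6512, 6512), (6513, 6513), (6514, 6514), (6515, 7130), (6516, 6658), (6517, 6517), (6518, 6518), (6519, 6519), (6520, 6520), (6521, 6521), (6522, 6522), (6523, 6523), (6524, 6524), (6525, 5260), (6526, 8003), (6527, 6527)]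
    ⟨e3 q6464 L96813 q5195, e3 q6465 (flp_b L140227) q7952, e3 q6466 (flp_b L140235) q7953, e3 q6467 (flp_b L140243) q7954, e3 q6468 (flp_b L140251) q7955, e3 q6469 (flp_b L140259) q7956, e3 q6470 L96871 q6470, e3 q6471 L96876 q6471, e3 q6472 L96883 q6472, e3 q6473 L96890 q6473, e3 q6474 L96897 q6474, e3 q6475 (flp_b L643948) q6562, e3 q6476 L643148 q6560, e3 q6477 (flp_b L638387) q6567, e3 q6478 L97130 q6478, e3 q6479 L97137 q6479, e3 q6480 L97173 q6480, e3 q6481 L97202 q6481, e3 q6482 L97217 q6482, e3 q6483 L97231 q6483, e3 q6484 (flp_b L643872) q6570, e3 q6485 (flp_b L643833) q6650, e3 q6486 (flp_b L643613) q6568, e3 q6487 L97696 q6487, e3 q6488 L97704 q6488, e3 q6489 L97711 q6489, e3 q6490 L97718 q6490, e3 q6491 L97735 q6491, e3 q6492 L644791 q6671, e3 q6493 L97758 q6493, e3 q6494 L97770 q6494, e3 q6495 L97787 q6495, e3 q6496 L97801 q6496, e3 q6497 L97817 q6497, e3 q6498 L98132 q6498, e3 q6499 L98147 q6499, e3 q6500 L98165 q6500, e3 q6501 L98186 q6501, e3 q6502 L643479 q6555, e3 q6503 (flp_b L643768) q6632, e3 q6504 (flp_b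 L643511) q6554, e3 q6505 L98480 q6505, e3 q6506 L98488 q6506, e3 q6507 L98496 q6507, e3 q6508 L98503 q6508, e3 q6509 L98520 q6509, e3 q6510 L644795 q6649, e3 q6511 L98543 q6511, e3 q6512 L98557 q6512, e3 q6513 L98575 q6513, e3 q6514 L98602 q6514, e3 q6515 (flp_b L581951) q7130, e3 q6516 (flp_b L643313) q6658, e3 q6517 L98987 q6517, e3 q6518 L98994 q6518, e3 q6519 L99019 q6519, e3 q6520 L99037 q6520, e3 q6521 L99061 q6521, e3 q6522 L99258 q6522, e3 q6523 L99267 q6523, e3 q6524 L99288 q6524, e3 q6525 L99317 q5260, e3 q6526 (flp_b L143731) q8003, e3 q6527 L99596 q6527, trivial⟩ (by decide +kernel)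

theorem ce_b_102 : ∀ r, r < 64 → sm gb (Qf (6528 + r)) = Qf (tab Gen.b (6528 + r)) :=
  edges_tab (sm gb) Qf (tab Gen.b) 6528 [(6528, 6528), (6529, 6529), (6530, 6530), (6531, 6531), (6532, 7868), (6533, 5274), (6534, 5275), (6535, 5276), (6536, 7915), (6537, 6537), (6538, 6292), (6539, 6539), (6540, 5288), (6541, 6293), (6542, 6542), (6543, 6543), (6544, 5291), (6545, 6294), (6546, 6298), (6547, 6547), (6548, 5296), (6549, 6299), (6550, 6307), (6551, 6551), (6552, 6552), (6553, 5299), (6554, 6504), (6555, 6502), (6556, 6556), (6557, 6557), (6558, 5303), (6559, 5304), (6560, 6476), (6561, 6303), (6562, 6475), (6563, 6563), (6564, 6564), (6565, 5309), (6566, 5311), (6567, 6477), (6568, 6486), (6569, 6312), (6570, 6484), (6571, 6571), (6572, 6572), (6573, 6573), (6574, 5316), (6575, 5317), (6576, 5318), (6577, 6130), (6578, 6129), (6579, 8010), (6580, 8011), (6581, 6162), (6582, 6154), (6583, 6583), (6584, 6584), (6585, 6585), (6586, 6586), (6587, 6587), (6588, 5326), (6589, 5327), (6590, 5328), (6591, 5329)]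
    ⟨e3 q6528 L99638 q6528, e3 q6529 L99936 q6529, e3 q6530 L100265 q6530, e3 q6531 L100705 q6531, e3 q6532 (flp_b L545349) q7868, e3 q6533 L108508 q5274, e3 q6534 L108526 q5275, e3 q6535 L108535 q5276, e3 q6536 (flp_b L561346) q7915, e3 q6537 L557715 q6537, e3 q6538 (flp_b L639265) q6292, e3 q6539 L114590 q6539, e3 q6540 (flp_b L114596) q5288, e3 q6541 L639293 q6293, e3 q6542 L114618 q6542, e3 q6543 L114633 q6543, e3 q6544 L114636 q5291, e3 q6545 L639572 q6294, e3 q6546 L643677 q6298, e3 q6547 L114665 q6547, e3 q6548 L114689 q5296, e3 q6549 L639674 q6299, e3 q6550 L643635 q6307, e3 q6551 L114723 q6551, e3 q6552 L114741 q6552, e3 q6553 L114744 q5299, e3 q6554 L643511 q6504, e3 q6555 (flp_b L643479) q6502, e3 q6556 L114774 q6556, e3 q6557 L114785 q6557, e3 q6558 L114794 q5303, e3 q6559 L114802 q5304, e3 q6560 (flp_b L643148) q6476, e3 q6561 L643169 q6303, e3 q6562 L643948 q6475, e3 q6563 L114841 q6563, e3 q6564 L114861 q6564, e3 q6565 L114876 q5309, e3 q6566 L114891 q5311, e3 q6567 L638387 q6477, e3 q6568 L643613 q6486, e3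 q6569 (flp_b L644668) q6312, e3 q6570 L643872 q6484, e3 q6571 L114944 q6571, e3 q6572 L114954 q6572, e3 q6573 L114968 q6573, e3 q6574 L114972 q5316, e3 q6575 L114981 q5317, e3 q6576 L114991 q5318, e3 q6577 (flp_b L642857) q6130, e3 q6578 L643959 q6129, e3 q6579 (flp_b L166552) q8010, e3 q6580 (flp_b L166562) q8011, e3 q6581 (flp_b L643933) q6162, e3 q6582 (flp_b L647900) q6154, e3 q6583 L115059 q6583, e3 q6584 L115067 q6584, e3 q6585 L115077 q6585, e3 q6586 L115086 q6586, e3 q6587 L115093 q6587, e3 q6588 L115101 q5326, e3 q6589 L115107 q5327, e3 q6590 L115116 q5328, e3 q6591 L115124 q5329, trivial⟩ (by decide +kernel)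

theorem ce_b_103 : ∀ r, r < 64 → sm gb (Qf (6592 + r)) = Qf (tab Gen.b (6592 + r)) :=
  edges_tab (sm gb) Qf (tab Gen.b) 6592 [(6592, 5330), (6593, 6165), (6594, 8021), (6595, 6163), (6596, 8022), (6597, 8023), (6598, 5331), (6599, 6197), (6600, 8029), (6601, 6601), (6602, 6602), (6603, 6603), (6604, 6604), (6605, 6605), (6606, 6606), (6607, 6607), (6608, 6608), (6609, 6609), (6610, 6610), (6611, 5342), (6612, 5343), (6613, 5344), (6614, 5345), (6615, 5346), (6616, 6209), (6617, 6208), (6618, 8042), (6619, 8043), (6620, 8044), (6621, 8045), (6622, 8046), (6623, 5348), (6624, 8054), (6625, 8055), (6626, 6626), (6627, 6627), (6628, 5352), (6629, 5353), (6630, 8062), (6631, 8063), (6632, 6503), (6633, 6633), (6634, 5356), (6635, 5357), (6636, 8065), (6637, 8066), (6638, 8067), (6639, 6639), (6640, 6640), (6641, 6641), (6642, 6642), (6643, 5362), (6644, 5363), (6645, 5364), (6646, 8075), (6647, 8076), (6648, 8077), (6649, 6510), (6650, 6485), (6651, 6651), (6652, 5368), (6653, 5369), (6654, 5370), (6655, 8081)]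
    ⟨e3 q6592 L115134 q5330, e3 q6593 L643012 q6165, e3 q6594 (flp_b L166751) q8021, e3 q6595 L643882 q6163, e3 q6596 (flp_b L166767) q8022, e3 q6597 (flp_b L166777) q8023, e3 q6598 (flp_b L115184) q5331, e3 q6599 L647856 q6197, e3 q6600 (flp_b L166854) q8029, e3 q6601 L115213 q6601, e3 q6602 L115222 q6602, e3 q6603 L115230 q6603, e3 q6604 L115240 q6604, e3 q6605 L115250 q6605, e3 q6606 L115259 q6606, e3 q6607 L115267 q6607, e3 q6608 L115274 q6608, e3 q6609 L115282 q6609, e3 q6610 L115289 q6610, e3 q6611 L115297 q5342, e3 q6612 L115305 q5343, e3 q6613 L115313 q5344, e3 q6614 L115321 q5345, e3 q6615 L115329 q5346, e3 q6616 L643023 q6209, e3 q6617 (flp_b L640837) q6208, e3 q6618 (flp_b L167041) q8042, e3 q6619 (flp_b L167049) q8043, e3 q6620 (flp_b L167058) q8044, e3 q6621 (flp_b L167067) q8045, e3 q6622 (flp_b L167076) q8046, e3 q6623 L115411 q5348, e3 q6624 (flp_b L167166) q8054, e3 q6625 (flp_b L167177) q8055, e3 q6626 L115444 q6626, e3 q6627 L115456 q6627, e3 q6628 L115463 q5352, e3 q6629 L115472 q5353, e3 q6630 (flp_b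 L167256) q8062, e3 q6631 (flp_b L167263) q8063, e3 q6632 L643768 q6503, e3 q6633 L115504 q6633, e3 q6634 L115523 q5356, e3 q6635 L115533 q5357, e3 q6636 (flp_b L167355) q8065, e3 q6637 (flp_b L167365) q8066, e3 q6638 (flp_b L167374) q8067, e3 q6639 L115575 q6639, e3 q6640 L115588 q6640, e3 q6641 L115597 q6641, e3 q6642 L115609 q6642, e3 q6643 L115613 q5362, e3 q6644 L115621 q5363, e3 q6645 L115629 q5364, e3 q6646 (flp_b L167488) q8075, e3 q6647 (flp_b L167498) q8076, e3 q6648 (flp_b L167504) q8077, e3 q6649 (flp_b L644795) q6510, e3 q6650 L643833 q6485, e3 q6651 L115703 q6651, e3 q6652 L115707 q5368, e3 q6653 L115715 q5369, e3 q6654 L115723 q5370, e3 q6655 (flp_b L167625) q8081, trivial⟩ (by decide +kernel)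

theorem ce_b_104 : ∀ r, r < 64 → sm gb (Qf (6656 + r)) = Qf (tab Gen.b (6656 + r)) :=
  edges_tab (sm gb) Qf (tab Gen.b) 6656 [(6656, 8082), (6657, 8083), (6658, 6516), (6659, 8084), (6660, 6660), (6661, 6661), (6662, 6662), (6663, 5378), (6664, 5379), (6665, 5380), (6666, 5382), (6667, 8094), (6668, 8095), (6669, 8096), (6670, 8097), (6671, 6492), (6672, 5471), (6673, 5385), (6674, 5386), (6675, 5387), (6676, 8105), (6677, 8106), (6678, 8107), (6679, 8108), (6680, 8109), (6681, 8115), (6682, 6682), (6683, 6683), (6684, 6684), (6685, 5484), (6686, 5485), (6687, 5395), (6688, 5396), (6689, 5397), (6690, 5398), (6691, 5399), (6692, 8127), (6693, 8128), (6694, 8129), (6695, 8130), (6696, 8131), (6697, 5511), (6698, 5512), (6699, 5404), (6700, 5405), (6701, 5406), (6702, 5407), (6703, 5408), (6704, 8144), (6705, 8145), (6706, 8146), (6707, 8147), (6708, 8148), (6709, 5409), (6710, 8156), (6711, 8157), (6712, 6712), (6713, 6713), (6714, 6714), (6715, 6715), (6716, 6716), (6717, 5531), (6718, 5532), (6719, 5533)]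
    ⟨e3 q6656 (flp_b L167635) q8082, e3 q6657 (flp_b L167644) q8083, e3 q6658 L643313 q6516, e3 q6659 (flp_b L167661) q8084, e3 q6660 L115791 q6660, e3 q6661 L115806 q6661, e3 q6662 L115813 q6662, e3 q6663 L115827 q5378, e3 q6664 L115835 q5379, e3 q6665 L115842 q5380, e3 q6666 L115855 q5382, e3 q6667 (flp_b L167815) q8094, e3 q6668 (flp_b L167823) q8095, e3 q6669 (flp_b L167831) q8096, e3 q6670 (flp_b L167838) q8097, e3 q6671 (flp_b L644791) q6492, e3 q6672 L115929 q5471, e3 q6673 L115934 q5385, e3 q6674 L115944 q5386, e3 q6675 L115954 q5387, e3 q6676 (flp_b L167971) q8105, e3 q6677 (flp_b L167981) q8106, e3 q6678 (flp_b L167990) q8107, e3 q6679 (flp_b L167999) q8108, e3 q6680 (flp_b L168011) q8109, e3 q6681 L168073 q8115, e3 q6682 L116030 q6682, e3 q6683 L116039 q6683, e3 q6684 L116049 q6684, e3 q6685 L116054 q5484, e3 q6686 L116063 q5485, e3 q6687 L116074 q5395, e3 q6688 L116082 q5396, e3 q6689 L116089 q5397, e3 q6690 L116097 q5398, e3 q6691 L116106 q5399, e3 q6692 (flp_b L168198) q8127, e3 q6693 (flp_b L168204) q8128,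 e3 q6694 (flp_b L168214) q8129, e3 q6695 (flp_b L168223) q8130, e3 q6696 (flp_b L168230) q8131, e3 q6697 L116200 q5511, e3 q6698 L116209 q5512, e3 q6699 L116219 q5404, e3 q6700 L116227 q5405, e3 q6701 L116237 q5406, e3 q6702 L116244 q5407, e3 q6703 L116255 q5408, e3 q6704 (flp_b L168431) q8144, e3 q6705 (flp_b L168439) q8145, e3 q6706 (flp_b L168447) q8146, e3 q6707 (flp_b L168457) q8147, e3 q6708 (flp_b L168466) q8148, e3 q6709 (flp_b L116312) q5409, e3 q6710 (flp_b L168545) q8156, e3 q6711 (flp_b L168553) q8157, e3 q6712 L116343 q6712, e3 q6713 L116350 q6713, e3 q6714 L116359 q6714, e3 q6715 L116366 q6715, e3 q6716 L116375 q6716, e3 q6717 L116381 q5531, e3 q6718 L116389 q5532, e3 q6719 L116398 q5533, trivial⟩ (by decide +kernel)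

theorem ce_b_105 : ∀ r, r < 64 → sm gb (Qf (6720 + r)) = Qf (tab Gen.b (6720 + r)) :=
  edges_tab (sm gb) Qf (tab Gen.b) 6720 [(6720, 5534), (6721, 5535), (6722, 5420), (6723, 5421), (6724, 5422), (6725, 5423), (6726, 5424), (6727, 8177), (6728, 8178), (6729, 8179), (6730, 8180), (6731, 8181), (6732, 8182), (6733, 8183), (6734, 5572), (6735, 5573), (6736, 5574), (6737, 5575), (6738, 5576), (6739, 5432), (6740, 5433), (6741, 5434), (6742, 5435), (6743, 5436), (6744, 8200), (6745, 8201), (6746, 8202), (6747, 8203), (6748, 8204), (6749, 8205), (6750, 8206), (6751, 5438), (6752, 5439), (6753, 8215), (6754, 8216), (6755, 8217), (6756, 8218), (6757, 8219), (6758, 6758), (6759, 6759), (6760, 6760), (6761, 6761), (6762, 6762), (6763, 5601), (6764, 5602), (6765, 5603), (6766, 5604), (6767, 5605), (6768, 5606), (6769, 5607), (6770, 5608), (6771, 5609), (6772, 5455), (6773, 5456), (6774, 5457), (6775, 5458), (6776, 5459), (6777, 5460), (6778, 5461), (6779, 8251), (6780, 8252), (6781, 8253), (6782, 8254), (6783, 8255)]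
    ⟨e3 q6720 L116406 q5534, e3 q6721 L116413 q5535, e3 q6722 L116423 q5420, e3 q6723 L116429 q5421, e3 q6724 L116437 q5422, e3 q6725 L116445 q5423, e3 q6726 L116453 q5424, e3 q6727 (flp_b L168721) q8177, e3 q6728 (flp_b L168729) q8178, e3 q6729 (flp_b L168735) q8179, e3 q6730 (flp_b L168743) q8180, e3 q6731 (flp_b L168749) q8181, e3 q6732 (flp_b L168757) q8182, e3 q6733 (flp_b L168765) q8183, e3 q6734 L116597 q5572, e3 q6735 L116608 q5573, e3 q6736 L116617 q5574, e3 q6737 L116626 q5575, e3 q6738 L116633 q5576, e3 q6739 L116644 q5432, e3 q6740 L116653 q5433, e3 q6741 L116662 q5434, e3 q6742 L116671 q5435, e3 q6743 L116678 q5436, e3 q6744 (flp_b L169043) q8200, e3 q6745 (flp_b L169052) q8201, e3 q6746 (flp_b L169062) q8202, e3 q6747 (flp_b L169070) q8203, e3 q6748 (flp_b L169079) q8204, e3 q6749 (flp_b L169090) q8205, e3 q6750 (flp_b L169098) q8206, e3 q6751 L116759 q5438, e3 q6752 L116768 q5439, e3 q6753 (flp_b L169186) q8215, e3 q6754 (flp_b L169196) q8216, e3 q6755 (flp_b L169204) q8217, e3 q6756 (flp_b L169214) q8218,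 e3 q6757 (flp_b L169222) q8219, e3 q6758 L116818 q6758, e3 q6759 L116826 q6759, e3 q6760 L116836 q6760, e3 q6761 L116844 q6761, e3 q6762 L116851 q6762, e3 q6763 L116857 q5601, e3 q6764 L116866 q5602, e3 q6765 L116874 q5603, e3 q6766 L116885 q5604, e3 q6767 L116893 q5605, e3 q6768 L116901 q5606, e3 q6769 L116909 q5607, e3 q6770 L116918 q5608, e3 q6771 L116926 q5609, e3 q6772 L116933 q5455, e3 q6773 L116940 q5456, e3 q6774 L116948 q5457, e3 q6775 L116956 q5458, e3 q6776 L116964 q5459, e3 q6777 L116973 q5460, e3 q6778 L116980 q5461, e3 q6779 (flp_b L169490) q8251, e3 q6780 (flp_b L169497) q8252, e3 q6781 (flp_b L169505) q8253, e3 q6782 (flp_b L169514) q8254, e3 q6783 (flp_b L169521) q8255, trivial⟩ (by decide +kernel)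

theorem ce_b_106 : ∀ r, r < 64 → sm gb (Qf (6784 + r)) = Qf (tab Gen.b (6784 + r)) :=
  edges_tab (sm gb) Qf (tab Gen.b) 6784 [(6784, 8267), (6785, 8257), (6786, 8258), (6787, 6787), (6788, 6788), (6789, 6789), (6790, 5465), (6791, 5466), (6792, 5467), (6793, 8276), (6794, 8277), (6795, 8278), (6796, 8279), (6797, 8280), (6798, 8286), (6799, 6799), (6800, 6800), (6801, 6801), (6802, 8103), (6803, 8104), (6804, 5475), (6805, 5476), (6806, 5477), (6807, 5478), (6808, 5479), (6809, 8299), (6810, 8300), (6811, 8301), (6812, 8302), (6813, 8303), (6814, 5480), (6815, 8311), (6816, 8312), (6817, 6817), (6818, 6818), (6819, 6819), (6820, 6820), (6821, 6821), (6822, 8122), (6823, 8123), (6824, 8124), (6825, 8125), (6826, 8126), (6827, 5491), (6828, 5492), (6829, 5493), (6830, 5494), (6831, 5495), (6832, 8332), (6833, 8333), (6834, 8334), (6835, 8335), (6836, 8336), (6837, 8337), (6838, 8338), (6839, 8347), (6840, 6840), (6841, 6841), (6842, 6842), (6843, 6843), (6844, 6844), (6845, 5502), (6846, 5503), (6847, 5504)]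
    ⟨e3 q6784 L169616 q8267, e3 q6785 (flp_b L169535) q8257, e3 q6786 (flp_b L169544) q8258, e3 q6787 L117055 q6787, e3 q6788 L117065 q6788, e3 q6789 L117080 q6789, e3 q6790 L117084 q5465, e3 q6791 L117093 q5466, e3 q6792 L117103 q5467, e3 q6793 (flp_b L169703) q8276, e3 q6794 (flp_b L169712) q8277, e3 q6795 (flp_b L169720) q8278, e3 q6796 (flp_b L169730) q8279, e3 q6797 (flp_b L169741) q8280, e3 q6798 L169798 q8286, e3 q6799 L117177 q6799, e3 q6800 L117188 q6800, e3 q6801 L117198 q6801, e3 q6802 (flp_b L167949) q8103, e3 q6803 (flp_b L167960) q8104, e3 q6804 L117224 q5475, e3 q6805 L117235 q5476, e3 q6806 L117244 q5477, e3 q6807 L117252 q5478, e3 q6808 L117263 q5479, e3 q6809 (flp_b L169931) q8299, e3 q6810 (flp_b L169940) q8300, e3 q6811 (flp_b L169950) q8301, e3 q6812 (flp_b L169961) q8302, e3 q6813 (flp_b L169968) q8303, e3 q6814 (flp_b L117314) q5480, e3 q6815 (flp_b L170039) q8311, e3 q6816 (flp_b L170047) q8312, e3 q6817 L117347 q6817, e3 q6818 L117357 q6818, e3 q6819 L117365 q6819, e3 q6820 L117375 q6820, e3 q6821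 L117386 q6821, e3 q6822 (flp_b L168151) q8122, e3 q6823 (flp_b L168161) q8123, e3 q6824 (flp_b L168169) q8124, e3 q6825 (flp_b L168179) q8125, e3 q6826 (flp_b L168187) q8126, e3 q6827 L117433 q5491, e3 q6828 L117440 q5492, e3 q6829 L117450 q5493, e3 q6830 L117459 q5494, e3 q6831 L117467 q5495, e3 q6832 (flp_b L170225) q8332, e3 q6833 (flp_b L170233) q8333, e3 q6834 (flp_b L170242) q8334, e3 q6835 (flp_b L170250) q8335, e3 q6836 (flp_b L170260) q8336, e3 q6837 (flp_b L170270) q8337, e3 q6838 (flp_b L170280) q8338, e3 q6839 L170352 q8347, e3 q6840 L117543 q6840, e3 q6841 L117551 q6841, e3 q6842 L117561 q6842, e3 q6843 L117571 q6843, e3 q6844 L117578 q6844, e3 q6845 L117586 q5502, e3 q6846 L117593 q5503, e3 q6847 L117602 q5504, trivial⟩ (by decide +kernel)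

theorem ce_b_107 : ∀ r, r < 64 → sm gb (Qf (6848 + r)) = Qf (tab Gen.b (6848 + r)) :=
  edges_tab (sm gb) Qf (tab Gen.b) 6848 [(6848, 5505), (6849, 5506), (6850, 8360), (6851, 8361), (6852, 8362), (6853, 8363), (6854, 8364), (6855, 5507), (6856, 8372), (6857, 8373), (6858, 6858), (6859, 6859), (6860, 6860), (6861, 6861), (6862, 6862), (6863, 8139), (6864, 8140), (6865, 8141), (6866, 8142), (6867, 8143), (6868, 5518), (6869, 5519), (6870, 5520), (6871, 5521), (6872, 5522), (6873, 8393), (6874, 8394), (6875, 8395), (6876, 8396), (6877, 8397), (6878, 8398), (6879, 8399), (6880, 5524), (6881, 5525), (6882, 8408), (6883, 8409), (6884, 8410), (6885, 8391), (6886, 8411), (6887, 6887), (6888, 6888), (6889, 6889), (6890, 6890), (6891, 6891), (6892, 8168), (6893, 8169), (6894, 8170), (6895, 8171), (6896, 8172), (6897, 8173), (6898, 8174), (6899, 8175), (6900, 8176), (6901, 5541), (6902, 5542), (6903, 5543), (6904, 5544), (6905, 5545), (6906, 5546), (6907, 5547), (6908, 8442), (6909, 8443), (6910, 8444), (6911, 8445)]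
    ⟨e3 q6848 L117610 q5505, e3 q6849 L117620 q5506, e3 q6850 (flp_b L170470) q8360, e3 q6851 (flp_b L170478) q8361, e3 q6852 (flp_b L170485) q8362, e3 q6853 (flp_b L170494) q8363, e3 q6854 (flp_b L170504) q8364, e3 q6855 (flp_b L117672) q5507, e3 q6856 (flp_b L170574) q8372, e3 q6857 (flp_b L170582) q8373, e3 q6858 L117705 q6858, e3 q6859 L117715 q6859, e3 q6860 L117726 q6860, e3 q6861 L117733 q6861, e3 q6862 L117744 q6862, e3 q6863 (flp_b L168382) q8139, e3 q6864 (flp_b L168392) q8140, e3 q6865 (flp_b L168403) q8141, e3 q6866 (flp_b L168411) q8142, e3 q6867 (flp_b L168419) q8143, e3 q6868 L117791 q5518, e3 q6869 L117800 q5519, e3 q6870 L117808 q5520, e3 q6871 L117818 q5521, e3 q6872 L117826 q5522, e3 q6873 (flp_b L170754) q8393, e3 q6874 (flp_b L170765) q8394, e3 q6875 (flp_b L170774) q8395, e3 q6876 (flp_b L170782) q8396, e3 q6877 (flp_b L170789) q8397, e3 q6878 (flp_b L170799) q8398, e3 q6879 (flp_b L170807) q8399, e3 q6880 L117890 q5524, e3 q6881 L117896 q5525, e3 q6882 (flp_b L170880) q8408, e3 q6883 (flp_b L170887)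 q8409, e3 q6884 (flp_b L170895) q8410, e3 q6885 (flp_b L553591) q8391, e3 q6886 (flp_b L170909) q8411, e3 q6887 L117950 q6887, e3 q6888 L117958 q6888, e3 q6889 L117967 q6889, e3 q6890 L117976 q6890, e3 q6891 L117986 q6891, e3 q6892 (flp_b L168645) q8168, e3 q6893 (flp_b L168652) q8169, e3 q6894 (flp_b L168660) q8170, e3 q6895 (flp_b L168670) q8171, e3 q6896 (flp_b L168679) q8172, e3 q6897 (flp_b L168689) q8173, e3 q6898 (flp_b L168696) q8174, e3 q6899 (flp_b L168704) q8175, e3 q6900 (flp_b L168713) q8176, e3 q6901 L118054 q5541, e3 q6902 L118063 q5542, e3 q6903 L118070 q5543, e3 q6904 L118078 q5544, e3 q6905 L118086 q5545, e3 q6906 L118094 q5546, e3 q6907 L118103 q5547, e3 q6908 (flp_b L171165) q8442, e3 q6909 (flp_b L171174) q8443, e3 q6910 (flp_b L171184) q8444, e3 q6911 (flp_b L171192) q8445, trivial⟩ (by decide +kernel)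

theorem ce_b_108 : ∀ r, r < 64 → sm gb (Qf (6912 + r)) = Qf (tab Gen.b (6912 + r)) :=
  edges_tab (sm gb) Qf (tab Gen.b) 6912 [(6912, 8446), (6913, 8458), (6914, 8448), (6915, 8449), (6916, 5548), (6917, 8461), (6918, 8462), (6919, 6919), (6920, 6920), (6921, 6921), (6922, 6922), (6923, 6923), (6924, 6924), (6925, 6925), (6926, 6926), (6927, 6927), (6928, 5559), (6929, 5560), (6930, 5561), (6931, 5562), (6932, 5563), (6933, 8478), (6934, 8479), (6935, 8480), (6936, 6438), (6937, 8481), (6938, 8482), (6939, 8483), (6940, 5565), (6941, 5566), (6942, 8492), (6943, 8493), (6944, 8494), (6945, 8227), (6946, 8495), (6947, 6947), (6948, 6948), (6949, 6949), (6950, 6950), (6951, 6951), (6952, 8192), (6953, 8193), (6954, 8194), (6955, 8195), (6956, 8196), (6957, 8197), (6958, 8198), (6959, 5594), (6960, 8199), (6961, 5582), (6962, 5583), (6963, 5584), (6964, 5585), (6965, 5586), (6966, 5587), (6967, 5588), (6968, 8524), (6969, 8525), (6970, 8526), (6971, 8527), (6972, 8528), (6973, 8540), (6974, 8530), (6975, 8531)]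
    ⟨e3 q6912 (flp_b L171200) q8446, e3 q6913 L171293 q8458, e3 q6914 (flp_b L171214) q8448, e3 q6915 (flp_b L171223) q8449, e3 q6916 (flp_b L118171) q5548, e3 q6917 (flp_b L171317) q8461, e3 q6918 (flp_b L171326) q8462, e3 q6919 L118210 q6919, e3 q6920 L118218 q6920, e3 q6921 L118228 q6921, e3 q6922 L118238 q6922, e3 q6923 L118248 q6923, e3 q6924 L118256 q6924, e3 q6925 L118263 q6925, e3 q6926 L118271 q6926, e3 q6927 L118278 q6927, e3 q6928 L118286 q5559, e3 q6929 L118295 q5560, e3 q6930 L118303 q5561, e3 q6931 L118311 q5562, e3 q6932 L118319 q5563, e3 q6933 (flp_b L171499) q8478, e3 q6934 (flp_b L171507) q8479, e3 q6935 (flp_b L171517) q8480, e3 q6936 (flp_b L561737) q6438, e3 q6937 (flp_b L171535) q8481, e3 q6938 (flp_b L171544) q8482, e3 q6939 (flp_b L171553) q8483, e3 q6940 L118391 q5565, e3 q6941 L118400 q5566, e3 q6942 (flp_b L171634) q8492, e3 q6943 (flp_b L171644) q8493, e3 q6944 (flp_b L171652) q8494, e3 q6945 (flp_b L554515) q8227, e3 q6946 (flp_b L171666) q8495, e3 q6947 L118456 q6947, e3 q6948 L118467 q6948,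 e3 q6949 L118477 q6949, e3 q6950 L118487 q6950, e3 q6951 L118494 q6951, e3 q6952 (flp_b L168956) q8192, e3 q6953 (flp_b L168967) q8193, e3 q6954 (flp_b L168977) q8194, e3 q6955 (flp_b L168988) q8195, e3 q6956 (flp_b L168998) q8196, e3 q6957 (flp_b L169006) q8197, e3 q6958 (flp_b L169015) q8198, e3 q6959 L553619 q5594, e3 q6960 (flp_b L169035) q8199, e3 q6961 L118569 q5582, e3 q6962 L118579 q5583, e3 q6963 L118590 q5584, e3 q6964 L118598 q5585, e3 q6965 L118607 q5586, e3 q6966 L118618 q5587, e3 q6967 L118625 q5588, e3 q6968 (flp_b L171940) q8524, e3 q6969 (flp_b L171950) q8525, e3 q6970 (flp_b L171958) q8526, e3 q6971 (flp_b L171967) q8527, e3 q6972 (flp_b L171975) q8528, e3 q6973 L172075 q8540, e3 q6974 (flp_b L171992) q8530, e3 q6975 (flp_b L172001) q8531, trivial⟩ (by decide +kernel)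

theorem ce_b_109 : ∀ r, r < 64 → sm gb (Qf (6976 + r)) = Qf (tab Gen.b (6976 + r)) :=
  edges_tab (sm gb) Qf (tab Gen.b) 6976 [(6976, 5591), (6977, 5592), (6978, 5593), (6979, 5595), (6980, 8543), (6981, 8544), (6982, 8545), (6983, 8546), (6984, 8547), (6985, 8521), (6986, 8548), (6987, 8522), (6988, 6988), (6989, 6989), (6990, 6990), (6991, 6991), (6992, 6992), (6993, 6993), (6994, 6994), (6995, 8236), (6996, 8237), (6997, 8238), (6998, 8239), (6999, 8240), (7000, 8241), (7001, 8242), (7002, 8243), (7003, 8244), (7004, 8245), (7005, 8246), (7006, 8247), (7007, 8248), (7008, 8249), (7009, 8250), (7010, 5617), (7011, 5618), (7012, 5619), (7013, 5620), (7014, 5621), (7015, 8601), (7016, 5623), (7017, 5624), (7018, 8593), (7019, 8594), (7020, 8595), (7021, 8596), (7022, 8597), (7023, 8598), (7024, 8612), (7025, 8600), (7026, 5622), (7027, 8616), (7028, 8603), (7029, 6458), (7030, 6457), (7031, 5631), (7032, 5632), (7033, 6455), (7034, 6439), (7035, 6440), (7036, 6437), (7037, 8621), (7038, 7038), (7039, 7039)]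
    ⟨e3 q6976 L118697 q5591, e3 q6977 L118705 q5592, e3 q6978 L118711 q5593, e3 q6979 L118725 q5595, e3 q6980 (flp_b L172102) q8543, e3 q6981 (flp_b L172110) q8544, e3 q6982 (flp_b L172117) q8545, e3 q6983 (flp_b L172127) q8546, e3 q6984 (flp_b L172134) q8547, e3 q6985 L550702 q8521, e3 q6986 (flp_b L172149) q8548, e3 q6987 (flp_b L550759) q8522, e3 q6988 L118815 q6988, e3 q6989 L118824 q6989, e3 q6990 L118834 q6990, e3 q6991 L118843 q6991, e3 q6992 L118854 q6992, e3 q6993 L118864 q6993, e3 q6994 L118873 q6994, e3 q6995 (flp_b L169366) q8236, e3 q6996 (flp_b L169374) q8237, e3 q6997 (flp_b L169383) q8238, e3 q6998 (flp_b L169391) q8239, e3 q6999 (flp_b L169400) q8240, e3 q7000 (flp_b L169410) q8241, e3 q7001 (flp_b L169417) q8242, e3 q7002 (flp_b L169428) q8243, e3 q7003 (flp_b L169437) q8244, e3 q7004 (flp_b L169444) q8245, e3 q7005 (flp_b L169452) q8246, e3 q7006 (flp_b L169458) q8247, e3 q7007 (flp_b L169467) q8248, e3 q7008 (flp_b L169475) q8249, e3 q7009 (flp_b L169484) q8250, e3 q7010 L118981 q5617, e3 q7011 L118989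 q5618, e3 q7012 L118997 q5619, e3 q7013 L119006 q5620, e3 q7014 L119015 q5621, e3 q7015 L172615 q8601, e3 q7016 L119031 q5623, e3 q7017 L119041 q5624, e3 q7018 (flp_b L172547) q8593, e3 q7019 (flp_b L172556) q8594, e3 q7020 (flp_b L172564) q8595, e3 q7021 (flp_b L172574) q8596, e3 q7022 (flp_b L172582) q8597, e3 q7023 (flp_b L172592) q8598, e3 q7024 L172711 q8612, e3 q7025 (flp_b L172608) q8600, e3 q7026 (flp_b L119111) q5622, e3 q7027 (flp_b L172745) q8616, e3 q7028 (flp_b L172635) q8603, e3 q7029 (flp_b L624335) q6458, e3 q7030 L616781 q6457, e3 q7031 L119545 q5631, e3 q7032 L119552 q5632, e3 q7033 L616696 q6455, e3 q7034 L512102 q6439, e3 q7035 L543871 q6440, e3 q7036 L561724 q6437, e3 q7037 L173526 q8621, e3 q7038 L119807 q7038, e3 q7039 L119817 q7039, trivial⟩ (by decide +kernel)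

theorem ce_b_110 : ∀ r, r < 64 → sm gb (Qf (7040 + r)) = Qf (tab Gen.b (7040 + r)) :=
  edges_tab (sm gb) Qf (tab Gen.b) 7040 [(7040, 7040), (7041, 7041), (7042, 7042), (7043, 7043), (7044, 5646), (7045, 5647), (7046, 5648), (7047, 5649), (7048, 8633), (7049, 8628), (7050, 8629), (7051, 8630), (7052, 6087), (7053, 8631), (7054, 6088), (7055, 8642), (7056, 6085), (7057, 5651), (7058, 8646), (7059, 6086), (7060, 6081), (7061, 6084), (7062, 6077), (7063, 6079), (7064, 7064), (7065, 7065), (7066, 7066), (7067, 7067), (7068, 8658), (7069, 7069), (7070, 7070), (7071, 7071), (7072, 7072), (7073, 7073), (7074, 7074), (7075, 7075), (7076, 7076), (7077, 7077), (7078, 8672), (7079, 5677), (7080, 5678), (7081, 5679), (7082, 5680), (7083, 5681), (7084, 5682), (7085, 8681), (7086, 5684), (7087, 5674), (7088, 8685), (7089, 5687), (7090, 8673), (7091, 8674), (7092, 8675), (7093, 8692), (7094, 8677), (7095, 8678), (7096, 8697), (7097, 8680), (7098, 5683), (7099, 8701), (7100, 8683), (7101, 7101), (7102, 5686), (7103, 8704)]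
    ⟨e3 q7040 L119873 q7040, e3 q7041 L119881 q7041, e3 q7042 L119888 q7042, e3 q7043 L119898 q7043, e3 q7044 L119998 q5646, e3 q7045 L120007 q5647, e3 q7046 L120016 q5648, e3 q7047 L120025 q5649, e3 q7048 L174118 q8633, e3 q7049 (flp_b L174052) q8628, e3 q7050 (flp_b L174062) q8629, e3 q7051 (flp_b L174071) q8630, e3 q7052 L563131 q6087, e3 q7053 (flp_b L174090) q8631, e3 q7054 L563249 q6088, e3 q7055 L174207 q8642, e3 q7056 (flp_b L562542) q6085, e3 q7057 (flp_b L120130) q5651, e3 q7058 (flp_b L174236) q8646, e3 q7059 (flp_b L561997) q6086, e3 q7060 L562793 q6081, e3 q7061 (flp_b L561526) q6084, e3 q7062 L563063 q6077, e3 q7063 (flp_b L563534) q6079, e3 q7064 L120356 q7064, e3 q7065 L120364 q7065, e3 q7066 L120374 q7066, e3 q7067 L120384 q7067, e3 q7068 L174639 q8658, e3 q7069 L120428 q7069, e3 q7070 L120435 q7070, e3 q7071 L120442 q7071, e3 q7072 L120448 q7072, e3 q7073 L120456 q7073, e3 q7074 L120463 q7074, e3 q7075 L120471 q7075, e3 q7076 L120481 q7076, e3 q7077 L120491 q7077, e3 q7078 L174801 q8672, e3 q7079 L120577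 q5677, e3 q7080 L120585 q5678, e3 q7081 L120594 q5679, e3 q7082 L120602 q5680, e3 q7083 L120611 q5681, e3 q7084 L120619 q5682, e3 q7085 L174957 q8681, e3 q7086 L120633 q5684, e3 q7087 (flp_b L120640) q5674, e3 q7088 (flp_b L174988) q8685, e3 q7089 L120658 q5687, e3 q7090 (flp_b L174892) q8673, e3 q7091 (flp_b L174902) q8674, e3 q7092 (flp_b L174910) q8675, e3 q7093 L175046 q8692, e3 q7094 (flp_b L174925) q8677, e3 q7095 (flp_b L174933) q8678, e3 q7096 L175087 q8697, e3 q7097 (flp_b L174949) q8680, e3 q7098 (flp_b L120731) q5683, e3 q7099 (flp_b L175120) q8701, e3 q7100 (flp_b L174973) q8683, e3 q7101 L120759 q7101, e3 q7102 L120762 q5686, e3 q7103 (flp_b L175146) q8704, trivial⟩ (by decide +kernel)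

theorem ce_b_111 : ∀ r, r < 64 → sm gb (Qf (7104 + r)) = Qf (tab Gen.b (7104 + r)) :=
  edges_tab (sm gb) Qf (tab Gen.b) 7104 [(7104, 5694), (7105, 5695), (7106, 7106), (7107, 7107), (7108, 7108), (7109, 5700), (7110, 5701), (7111, 8707), (7112, 8708), (7113, 7113), (7114, 5710), (7115, 5711), (7116, 5712), (7117, 8711), (7118, 8712), (7119, 7119), (7120, 7120), (7121, 7121), (7122, 5720), (7123, 5721), (7124, 5722), (7125, 5723), (7126, 8715), (7127, 8716), (7128, 8717), (7129, 8718), (7130, 6515), (7131, 7131), (7132, 7132), (7133, 5736), (7134, 5737), (7135, 5738), (7136, 5739), (7137, 5740), (7138, 8725), (7139, 8726), (7140, 8727), (7141, 7141), (7142, 7142), (7143, 7143), (7144, 7144), (7145, 7145), (7146, 5749), (7147, 5750), (7148, 5751), (7149, 5752), (7150, 5753), (7151, 8733), (7152, 8734), (7153, 8735), (7154, 8736), (7155, 8737), (7156, 8738), (7157, 8739), (7158, 6131), (7159, 6132), (7160, 5886), (7161, 5887), (7162, 5762), (7163, 5763), (7164, 5764), (7165, 5765), (7166, 5766), (7167, 8752)]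
    ⟨e3 q7104 L120896 q5694, e3 q7105 L120905 q5695, e3 q7106 L120955 q7106, e3 q7107 L120963 q7107, e3 q7108 L120974 q7108, e3 q7109 L120979 q5700, e3 q7110 L120986 q5701, e3 q7111 (flp_b L175471) q8707, e3 q7112 (flp_b L175485) q8708, e3 q7113 L121191 q7113, e3 q7114 L121196 q5710, e3 q7115 L121206 q5711, e3 q7116 L121212 q5712, e3 q7117 (flp_b L175783) q8711, e3 q7118 (flp_b L175809) q8712, e3 q7119 L121277 q7119, e3 q7120 L121294 q7120, e3 q7121 L121302 q7121, e3 q7122 L121318 q5720, e3 q7123 L121326 q5721, e3 q7124 L121332 q5722, e3 q7125 L121341 q5723, e3 q7126 (flp_b L175983) q8715, e3 q7127 (flp_b L175991) q8716, e3 q7128 (flp_b L176007) q8717, e3 q7129 (flp_b L176014) q8718, e3 q7130 L581951 q6515, e3 q7131 L121591 q7131, e3 q7132 L121600 q7132, e3 q7133 L121606 q5736, e3 q7134 L121614 q5737, e3 q7135 L121623 q5738, e3 q7136 L121629 q5739, e3 q7137 L121636 q5740, e3 q7138 (flp_b L176417) q8725, e3 q7139 (flp_b L176427) q8726, e3 q7140 (flp_b L176449) q8727, e3 q7141 L121711 q7141, e3 q7142 L121718 q7142, e3 q7143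 L121741 q7143, e3 q7144 L121750 q7144, e3 q7145 L121755 q7145, e3 q7146 L121783 q5749, e3 q7147 L121791 q5750, e3 q7148 L121797 q5751, e3 q7149 L121804 q5752, e3 q7150 L121812 q5753, e3 q7151 (flp_b L176673) q8733, e3 q7152 (flp_b L176680) q8734, e3 q7153 (flp_b L176688) q8735, e3 q7154 (flp_b L176696) q8736, e3 q7155 (flp_b L176703) q8737, e3 q7156 (flp_b L176709) q8738, e3 q7157 (flp_b L176717) q8739, e3 q7158 L592696 q6131, e3 q7159 (flp_b L549761) q6132, e3 q7160 L122019 q5886, e3 q7161 L122031 q5887, e3 q7162 L122040 q5762, e3 q7163 L122048 q5763, e3 q7164 L122057 q5764, e3 q7165 L122065 q5765, e3 q7166 L122074 q5766, e3 q7167 (flp_b L177077) q8752, trivial⟩ (by decide +kernel)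

theorem ce_b_112 : ∀ r, r < 64 → sm gb (Qf (7168 + r)) = Qf (tab Gen.b (7168 + r)) :=
  edges_tab (sm gb) Qf (tab Gen.b) 7168 [(7168, 8753), (7169, 8754), (7170, 8755), (7171, 8756), (7172, 5767), (7173, 8759), (7174, 8760), (7175, 7175), (7176, 7176), (7177, 7177), (7178, 7178), (7179, 7179), (7180, 5906), (7181, 5907), (7182, 5908), (7183, 5909), (7184, 5910), (7185, 5778), (7186, 5779), (7187, 5780), (7188, 5781), (7189, 5782), (7190, 8779), (7191, 8780), (7192, 8781), (7193, 8782), (7194, 8783), (7195, 8784), (7196, 8785), (7197, 6164), (7198, 6166), (7199, 6167), (7200, 5931), (7201, 5932), (7202, 5933), (7203, 5935), (7204, 5795), (7205, 5796), (7206, 5797), (7207, 5798), (7208, 5799), (7209, 8801), (7210, 8802), (7211, 8803), (7212, 8804), (7213, 8805), (7214, 8806), (7215, 8807), (7216, 5801), (7217, 5802), (7218, 8813), (7219, 8814), (7220, 8815), (7221, 5925), (7222, 8816), (7223, 7223), (7224, 7224), (7225, 7225), (7226, 7226), (7227, 7227), (7228, 5958), (7229, 5959), (7230, 5960), (7231, 5961)]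
    ⟨e3 q7168 (flp_b L177085) q8753, e3 q7169 (flp_b L177093) q8754, e3 q7170 (flp_b L177104) q8755, e3 q7171 (flp_b L177111) q8756, e3 q7172 (flp_b L122132) q5767, e3 q7173 (flp_b L177187) q8759, e3 q7174 (flp_b L177198) q8760, e3 q7175 L122165 q7175, e3 q7176 L122172 q7176, e3 q7177 L122180 q7177, e3 q7178 L122190 q7178, e3 q7179 L122199 q7179, e3 q7180 L122208 q5906, e3 q7181 L122216 q5907, e3 q7182 L122225 q5908, e3 q7183 L122235 q5909, e3 q7184 L122245 q5910, e3 q7185 L122254 q5778, e3 q7186 L122260 q5779, e3 q7187 L122268 q5780, e3 q7188 L122277 q5781, e3 q7189 L122285 q5782, e3 q7190 (flp_b L177384) q8779, e3 q7191 (flp_b L177389) q8780, e3 q7192 (flp_b L177397) q8781, e3 q7193 (flp_b L177405) q8782, e3 q7194 (flp_b L177412) q8783, e3 q7195 (flp_b L177420) q8784, e3 q7196 (flp_b L177430) q8785, e3 q7197 (flp_b L549715) q6164, e3 q7198 L592592 q6166, e3 q7199 L592665 q6167, e3 q7200 L122569 q5931, e3 q7201 L122577 q5932, e3 q7202 L122589 q5933, e3 q7203 L122605 q5935, e3 q7204 L122615 q5795, e3 q7205 L122623 q5796,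 e3 q7206 L122629 q5797, e3 q7207 L122639 q5798, e3 q7208 L122647 q5799, e3 q7209 (flp_b L177919) q8801, e3 q7210 (flp_b L177927) q8802, e3 q7211 (flp_b L177935) q8803, e3 q7212 (flp_b L177943) q8804, e3 q7213 (flp_b L177947) q8805, e3 q7214 (flp_b L177955) q8806, e3 q7215 (flp_b L177963) q8807, e3 q7216 L122716 q5801, e3 q7217 L122725 q5802, e3 q7218 (flp_b L178041) q8813, e3 q7219 (flp_b L178048) q8814, e3 q7220 (flp_b L178059) q8815, e3 q7221 (flp_b L576256) q5925, e3 q7222 (flp_b L178078) q8816, e3 q7223 L122775 q7223, e3 q7224 L122782 q7224, e3 q7225 L122789 q7225, e3 q7226 L122798 q7226, e3 q7227 L122808 q7227, e3 q7228 L122814 q5958, e3 q7229 L122820 q5959, e3 q7230 L122828 q5960, e3 q7231 L122836 q5961, trivial⟩ (by decide +kernel)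

theorem ce_b_113 : ∀ r, r < 64 → sm gb (Qf (7232 + r)) = Qf (tab Gen.b (7232 + r)) :=
  edges_tab (sm gb) Qf (tab Gen.b) 7232 [(7232, 5962), (7233, 5963), (7234, 5964), (7235, 5965), (7236, 5966), (7237, 5818), (7238, 5819), (7239, 5820), (7240, 5821), (7241, 5822), (7242, 5823), (7243, 5824), (7244, 8846), (7245, 8847), (7246, 8848), (7247, 8849), (7248, 8850), (7249, 8862), (7250, 8852), (7251, 8853), (7252, 6210), (7253, 6211), (7254, 6212), (7255, 6213), (7256, 6214), (7257, 5992), (7258, 5993), (7259, 5994), (7260, 5995), (7261, 5996), (7262, 5998), (7263, 5839), (7264, 5840), (7265, 5841), (7266, 5842), (7267, 5843), (7268, 5844), (7269, 5845), (7270, 8879), (7271, 8880), (7272, 8881), (7273, 8882), (7274, 8883), (7275, 8895), (7276, 8885), (7277, 8886), (7278, 5848), (7279, 5849), (7280, 5850), (7281, 5852), (7282, 8898), (7283, 8899), (7284, 8900), (7285, 8901), (7286, 8902), (7287, 5985), (7288, 8903), (7289, 5986), (7290, 7290), (7291, 7291), (7292, 7292), (7293, 7293), (7294, 7294), (7295, 7295)]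
    ⟨e3 q7232 L122846 q5962, e3 q7233 L122856 q5963, e3 q7234 L122865 q5964, e3 q7235 L122873 q5965, e3 q7236 L122882 q5966, e3 q7237 L122891 q5818, e3 q7238 L122897 q5819, e3 q7239 L122903 q5820, e3 q7240 L122911 q5821, e3 q7241 L122916 q5822, e3 q7242 L122922 q5823, e3 q7243 L122931 q5824, e3 q7244 (flp_b L178342) q8846, e3 q7245 (flp_b L178350) q8847, e3 q7246 (flp_b L178358) q8848, e3 q7247 (flp_b L178366) q8849, e3 q7248 (flp_b L178373) q8850, e3 q7249 L178461 q8862, e3 q7250 (flp_b L178384) q8852, e3 q7251 (flp_b L178391) q8853, e3 q7252 (flp_b L549425) q6210, e3 q7253 (flp_b L549267) q6211, e3 q7254 L549376 q6212, e3 q7255 L592563 q6213, e3 q7256 L592531 q6214, e3 q7257 L123330 q5992, e3 q7258 L123340 q5993, e3 q7259 L123350 q5994, e3 q7260 L123359 q5995, e3 q7261 L123370 q5996, e3 q7262 L123387 q5998, e3 q7263 L123412 q5839, e3 q7264 L123419 q5840, e3 q7265 L123429 q5841, e3 q7266 L123437 q5842, e3 q7267 L123443 q5843, e3 q7268 L123452 q5844, e3 q7269 L123459 q5845, e3 q7270 (flp_b L179121) q8879, e3 q7271 (flp_b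 L179130) q8880, e3 q7272 (flp_b L179136) q8881, e3 q7273 (flp_b L179145) q8882, e3 q7274 (flp_b L179152) q8883, e3 q7275 L179247 q8895, e3 q7276 (flp_b L179166) q8885, e3 q7277 (flp_b L179173) q8886, e3 q7278 L123536 q5848, e3 q7279 L123544 q5849, e3 q7280 L123553 q5850, e3 q7281 L123572 q5852, e3 q7282 (flp_b L179272) q8898, e3 q7283 (flp_b L179281) q8899, e3 q7284 (flp_b L179290) q8900, e3 q7285 (flp_b L179300) q8901, e3 q7286 (flp_b L179310) q8902, e3 q7287 L554291 q5985, e3 q7288 (flp_b L179330) q8903, e3 q7289 L551119 q5986, e3 q7290 L123657 q7290, e3 q7291 L123663 q7291, e3 q7292 L123672 q7292, e3 q7293 L123681 q7293, e3 q7294 L123689 q7294, e3 q7295 L123697 q7295, trivial⟩ (by decide +kernel)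

theorem ce_b_114 : ∀ r, r < 64 → sm gb (Qf (7296 + r)) = Qf (tab Gen.b (7296 + r)) :=
  edges_tab (sm gb) Qf (tab Gen.b) 7296 [(7296, 7296), (7297, 6030), (7298, 6031), (7299, 6032), (7300, 6033), (7301, 6034), (7302, 6035), (7303, 6036), (7304, 6037), (7305, 6038), (7306, 6039), (7307, 6040), (7308, 6041), (7309, 6042), (7310, 6043), (7311, 5874), (7312, 5875), (7313, 5876), (7314, 5877), (7315, 5878), (7316, 8953), (7317, 5880), (7318, 5881), (7319, 8945), (7320, 8946), (7321, 8947), (7322, 8948), (7323, 8949), (7324, 8950), (7325, 8964), (7326, 8952), (7327, 5879), (7328, 8968), (7329, 8955), (7330, 5882), (7331, 8970), (7332, 8764), (7333, 7333), (7334, 7334), (7335, 7335), (7336, 7336), (7337, 7337), (7338, 8748), (7339, 8749), (7340, 8750), (7341, 5900), (7342, 8751), (7343, 5893), (7344, 5894), (7345, 5895), (7346, 5896), (7347, 5897), (7348, 8988), (7349, 8989), (7350, 8990), (7351, 8991), (7352, 8992), (7353, 8993), (7354, 8994), (7355, 5899), (7356, 8998), (7357, 8999), (7358, 8985), (7359, 8987)]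
    ⟨e3 q7296 L123706 q7296, e3 q7297 L123712 q6030, e3 q7298 L123721 q6031, e3 q7299 L123729 q6032, e3 q7300 L123735 q6033, e3 q7301 L123744 q6034, e3 q7302 L123754 q6035, e3 q7303 L123759 q6036, e3 q7304 L123768 q6037, e3 q7305 L123777 q6038, e3 q7306 L123786 q6039, e3 q7307 L123794 q6040, e3 q7308 L123802 q6041, e3 q7309 L123812 q6042, e3 q7310 L123820 q6043, e3 q7311 L123836 q5874, e3 q7312 L123843 q5875, e3 q7313 L123849 q5876, e3 q7314 L123858 q5877, e3 q7315 L123866 q5878, e3 q7316 L179808 q8953, e3 q7317 L123879 q5880, e3 q7318 L123887 q5881, e3 q7319 (flp_b L179750) q8945, e3 q7320 (flp_b L179756) q8946, e3 q7321 (flp_b L179764) q8947, e3 q7322 (flp_b L179771) q8948, e3 q7323 (flp_b L179777) q8949, e3 q7324 (flp_b L179786) q8950, e3 q7325 L179892 q8964, e3 q7326 (flp_b L179801) q8952, e3 q7327 (flp_b L123957) q5879, e3 q7328 (flp_b L179927) q8968, e3 q7329 (flp_b L179823) q8955, e3 q7330 (flp_b L123979) q5882, e3 q7331 (flp_b L179943) q8970, e3 q7332 L576227 q8764, e3 q7333 L124014 q7333, e3 q7334 L124024 q7334,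 e3 q7335 L124034 q7335, e3 q7336 L124044 q7336, e3 q7337 L124055 q7337, e3 q7338 (flp_b L177026) q8748, e3 q7339 (flp_b L177036) q8749, e3 q7340 (flp_b L177047) q8750, e3 q7341 (flp_b L552863) q5900, e3 q7342 (flp_b L177066) q8751, e3 q7343 L124109 q5893, e3 q7344 L124118 q5894, e3 q7345 L124126 q5895, e3 q7346 L124137 q5896, e3 q7347 L124145 q5897, e3 q7348 (flp_b L180144) q8988, e3 q7349 (flp_b L180152) q8989, e3 q7350 (flp_b L180163) q8990, e3 q7351 (flp_b L180171) q8991, e3 q7352 (flp_b L180179) q8992, e3 q7353 (flp_b L180189) q8993, e3 q7354 (flp_b L180199) q8994, e3 q7355 L124214 q5899, e3 q7356 (flp_b L180275) q8998, e3 q7357 (flp_b L180282) q8999, e3 q7358 (flp_b L576349) q8985, e3 q7359 (flp_b L553545) q8987, trivial⟩ (by decide +kernel)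

theorem ce_b_115 : ∀ r, r < 64 → sm gb (Qf (7360 + r)) = Qf (tab Gen.b (7360 + r)) :=
  edges_tab (sm gb) Qf (tab Gen.b) 7360 [(7360, 7360), (7361, 7361), (7362, 7362), (7363, 7363), (7364, 7364), (7365, 8771), (7366, 8772), (7367, 8773), (7368, 6404), (7369, 8774), (7370, 8775), (7371, 8776), (7372, 8777), (7373, 8778), (7374, 5916), (7375, 5917), (7376, 5918), (7377, 5919), (7378, 5920), (7379, 5921), (7380, 5922), (7381, 9027), (7382, 9028), (7383, 9029), (7384, 9030), (7385, 9031), (7386, 9043), (7387, 9033), (7388, 9034), (7389, 5924), (7390, 9046), (7391, 9047), (7392, 8822), (7393, 8824), (7394, 7394), (7395, 7395), (7396, 7396), (7397, 7397), (7398, 7398), (7399, 8795), (7400, 8796), (7401, 8797), (7402, 8798), (7403, 8799), (7404, 5951), (7405, 8800), (7406, 5952), (7407, 5941), (7408, 5942), (7409, 5943), (7410, 5944), (7411, 5945), (7412, 5946), (7413, 5947), (7414, 9073), (7415, 9074), (7416, 9075), (7417, 9076), (7418, 9077), (7419, 9087), (7420, 9079), (7421, 9080), (7422, 5949), (7423, 5950)]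
    ⟨e3 q7360 L124280 q7360, e3 q7361 L124288 q7361, e3 q7362 L124297 q7362, e3 q7363 L124307 q7363, e3 q7364 L124317 q7364, e3 q7365 (flp_b L177297) q8771, e3 q7366 (flp_b L177305) q8772, e3 q7367 (flp_b L177313) q8773, e3 q7368 L617664 q6404, e3 q7369 (flp_b L177334) q8774, e3 q7370 (flp_b L177343) q8775, e3 q7371 (flp_b L177354) q8776, e3 q7372 (flp_b L177364) q8777, e3 q7373 (flp_b L177374) q8778, e3 q7374 L124399 q5916, e3 q7375 L124405 q5917, e3 q7376 L124414 q5918, e3 q7377 L124422 q5919, e3 q7378 L124431 q5920, e3 q7379 L124439 q5921, e3 q7380 L124450 q5922, e3 q7381 (flp_b L180590) q9027, e3 q7382 (flp_b L180598) q9028, e3 q7383 (flp_b L180605) q9029, e3 q7384 (flp_b L180615) q9030, e3 q7385 (flp_b L180624) q9031, e3 q7386 L180721 q9043, e3 q7387 (flp_b L180639) q9033, e3 q7388 (flp_b L180649) q9034, e3 q7389 L124523 q5924, e3 q7390 (flp_b L180747) q9046, e3 q7391 (flp_b L180754) q9047, e3 q7392 (flp_b L576454) q8822, e3 q7393 L601508 q8824, e3 q7394 L124588 q7394, e3 q7395 L124598 q7395, e3 q7396 L124605 q7396,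 e3 q7397 L124616 q7397, e3 q7398 L124626 q7398, e3 q7399 (flp_b L177837) q8795, e3 q7400 (flp_b L177845) q8796, e3 q7401 (flp_b L177855) q8797, e3 q7402 (flp_b L177863) q8798, e3 q7403 (flp_b L177875) q8799, e3 q7404 (flp_b L576374) q5951, e3 q7405 (flp_b L177893) q8800, e3 q7406 L576551 q5952, e3 q7407 L124702 q5941, e3 q7408 L124711 q5942, e3 q7409 L124720 q5943, e3 q7410 L124728 q5944, e3 q7411 L124734 q5945, e3 q7412 L124742 q5946, e3 q7413 L124751 q5947, e3 q7414 (flp_b L181050) q9073, e3 q7415 (flp_b L181061) q9074, e3 q7416 (flp_b L181069) q9075, e3 q7417 (flp_b L181077) q9076, e3 q7418 (flp_b L181085) q9077, e3 q7419 L181178 q9087, e3 q7420 (flp_b L181099) q9079, e3 q7421 (flp_b L181106) q9080, e3 q7422 L124823 q5949, e3 q7423 L124828 q5950, trivial⟩ (by decide +kernel)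

theorem ce_b_116 : ∀ r, r < 64 → sm gb (Qf (7424 + r)) = Qf (tab Gen.b (7424 + r)) :=
  edges_tab (sm gb) Qf (tab Gen.b) 7424 [(7424, 9090), (7425, 9091), (7426, 9071), (7427, 9092), (7428, 9069), (7429, 9072), (7430, 7430), (7431, 7431), (7432, 7432), (7433, 7433), (7434, 7434), (7435, 7435), (7436, 7436), (7437, 8832), (7438, 8833), (7439, 8834), (7440, 8835), (7441, 8836), (7442, 8837), (7443, 8838), (7444, 8839), (7445, 8840), (7446, 8841), (7447, 8842), (7448, 8843), (7449, 8844), (7450, 8845), (7451, 5974), (7452, 5975), (7453, 5976), (7454, 5977), (7455, 5978), (7456, 9139), (7457, 5980), (7458, 5981), (7459, 9131), (7460, 9132), (7461, 9133), (7462, 9134), (7463, 9135), (7464, 9136), (7465, 9150), (7466, 9138), (7467, 5979), (7468, 9154), (7469, 9141), (7470, 5983), (7471, 5984), (7472, 9156), (7473, 8914), (7474, 9157), (7475, 8912), (7476, 8915), (7477, 7477), (7478, 7478), (7479, 7479), (7480, 7480), (7481, 7481), (7482, 7482), (7483, 8870), (7484, 8871), (7485, 8872), (7486, 8873), (7487, 8874)]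
    ⟨e3 q7424 (flp_b L181197) q9090, e3 q7425 (flp_b L181203) q9091, e3 q7426 (flp_b L576365) q9071, e3 q7427 (flp_b L181217) q9092, e3 q7428 (flp_b L576357) q9069, e3 q7429 L576412 q9072, e3 q7430 L124942 q7430, e3 q7431 L124950 q7431, e3 q7432 L124958 q7432, e3 q7433 L124967 q7433, e3 q7434 L124975 q7434, e3 q7435 L124982 q7435, e3 q7436 L124993 q7436, e3 q7437 (flp_b L178218) q8832, e3 q7438 (flp_b L178226) q8833, e3 q7439 (flp_b L178232) q8834, e3 q7440 (flp_b L178240) q8835, e3 q7441 (flp_b L178248) q8836, e3 q7442 (flp_b L178258) q8837, e3 q7443 (flp_b L178262) q8838, e3 q7444 (flp_b L178270) q8839, e3 q7445 (flp_b L178280) q8840, e3 q7446 (flp_b L178291) q8841, e3 q7447 (flp_b L178301) q8842, e3 q7448 (flp_b L178308) q8843, e3 q7449 (flp_b L178317) q8844, e3 q7450 (flp_b L178324) q8845, e3 q7451 L125104 q5974, e3 q7452 L125113 q5975, e3 q7453 L125121 q5976, e3 q7454 L125129 q5977, e3 q7455 L125138 q5978, e3 q7456 L181703 q9139, e3 q7457 L125151 q5980, e3 q7458 L125159 q5981, e3 q7459 (flp_b L181639) q9131, e3 q7460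 (flp_b L181646) q9132, e3 q7461 (flp_b L181656) q9133, e3 q7462 (flp_b L181663) q9134, e3 q7463 (flp_b L181671) q9135, e3 q7464 (flp_b L181680) q9136, e3 q7465 L181785 q9150, e3 q7466 (flp_b L181695) q9138, e3 q7467 (flp_b L125227) q5979, e3 q7468 (flp_b L181817) q9154, e3 q7469 (flp_b L181718) q9141, e3 q7470 L125247 q5983, e3 q7471 L125255 q5984, e3 q7472 (flp_b L181840) q9156, e3 q7473 L601409 q8914, e3 q7474 (flp_b L181857) q9157, e3 q7475 (flp_b L576459) q8912, e3 q7476 L601466 q8915, e3 q7477 L125375 q7477, e3 q7478 L125384 q7478, e3 q7479 L125396 q7479, e3 q7480 L125414 q7480, e3 q7481 L125424 q7481, e3 q7482 L125433 q7482, e3 q7483 (flp_b L178991) q8870, e3 q7484 (flp_b L179002) q8871, e3 q7485 (flp_b L179010) q8872, e3 q7486 (flp_b L179018) q8873, e3 q7487 (flp_b L179029) q8874, trivial⟩ (by decide +kernel)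

theorem ce_b_117 : ∀ r, r < 64 → sm gb (Qf (7488 + r)) = Qf (tab Gen.b (7488 + r)) :=
  edges_tab (sm gb) Qf (tab Gen.b) 7488 [(7488, 8875), (7489, 8876), (7490, 8877), (7491, 6021), (7492, 8878), (7493, 6019), (7494, 6022), (7495, 6007), (7496, 6008), (7497, 6009), (7498, 6010), (7499, 6011), (7500, 9196), (7501, 6013), (7502, 6014), (7503, 9188), (7504, 9189), (7505, 9190), (7506, 9191), (7507, 9192), (7508, 9193), (7509, 9206), (7510, 9195), (7511, 6012), (7512, 9210), (7513, 8651), (7514, 6017), (7515, 6018), (7516, 6020), (7517, 9212), (7518, 9213), (7519, 9214), (7520, 9215), (7521, 9185), (7522, 9181), (7523, 9187), (7524, 9183), (7525, 9186), (7526, 7526), (7527, 7527), (7528, 7528), (7529, 7529), (7530, 7530), (7531, 9237), (7532, 7532), (7533, 7533), (7534, 8924), (7535, 8925), (7536, 8926), (7537, 8927), (7538, 8928), (7539, 8929), (7540, 8930), (7541, 8931), (7542, 8932), (7543, 8933), (7544, 9257), (7545, 8935), (7546, 8936), (7547, 8937), (7548, 8938), (7549, 8939), (7550, 8940), (7551, 8941)]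
    ⟨e3 q7488 (flp_b L179039) q8875, e3 q7489 (flp_b L179044) q8876, e3 q7490 (flp_b L179055) q8877, e3 q7491 L554135 q6021, e3 q7492 (flp_b L179072) q8878, e3 q7493 L553277 q6019, e3 q7494 (flp_b L553221) q6022, e3 q7495 L125549 q6007, e3 q7496 L125559 q6008, e3 q7497 L125565 q6009, e3 q7498 L125574 q6010, e3 q7499 L125583 q6011, e3 q7500 L182364 q9196, e3 q7501 L125599 q6013, e3 q7502 L125607 q6014, e3 q7503 (flp_b L182296) q9188, e3 q7504 (flp_b L182305) q9189, e3 q7505 (flp_b L182313) q9190, e3 q7506 (flp_b L182321) q9191, e3 q7507 (flp_b L182329) q9192, e3 q7508 (flp_b L182339) q9193, e3 q7509 L182450 q9206, e3 q7510 (flp_b L182357) q9195, e3 q7511 (flp_b L125679) q6012, e3 q7512 (flp_b L182484) q9210, e3 q7513 L543679 q8651, e3 q7514 L125703 q6017, e3 q7515 L125710 q6018, e3 q7516 L125725 q6020, e3 q7517 (flp_b L182507) q9212, e3 q7518 (flp_b L182515) q9213, e3 q7519 (flp_b L182522) q9214, e3 q7520 (flp_b L182527) q9215, e3 q7521 L553247 q9185, e3 q7522 L553266 q9181, e3 q7523 (flp_b L553238) q9187, e3 q7524 L554160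 q9183, e3 q7525 (flp_b L554101) q9186, e3 q7526 L125913 q7526, e3 q7527 L125922 q7527, e3 q7528 L125929 q7528, e3 q7529 L125939 q7529, e3 q7530 L125950 q7530, e3 q7531 L182926 q9237, e3 q7532 L125968 q7532, e3 q7533 L125978 q7533, e3 q7534 (flp_b L179557) q8924, e3 q7535 (flp_b L179564) q8925, e3 q7536 (flp_b L179574) q8926, e3 q7537 (flp_b L179583) q8927, e3 q7538 (flp_b L179590) q8928, e3 q7539 (flp_b L179598) q8929, e3 q7540 (flp_b L179606) q8930, e3 q7541 (flp_b L179614) q8931, e3 q7542 (flp_b L179625) q8932, e3 q7543 (flp_b L179631) q8933, e3 q7544 L183070 q9257, e3 q7545 (flp_b L179646) q8935, e3 q7546 (flp_b L179653) q8936, e3 q7547 (flp_b L179660) q8937, e3 q7548 (flp_b L179670) q8938, e3 q7549 (flp_b L179679) q8939, e3 q7550 (flp_b L179688) q8940, e3 q7551 (flp_b L179697) q8941, trivial⟩ (by decide +kernel)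

theorem ce_b_118 : ∀ r, r < 64 → sm gb (Qf (7552 + r)) = Qf (tab Gen.b (7552 + r)) :=
  edges_tab (sm gb) Qf (tab Gen.b) 7552 [(7552, 8942), (7553, 8943), (7554, 8944), (7555, 6052), (7556, 6053), (7557, 6054), (7558, 6055), (7559, 6056), (7560, 6057), (7561, 9279), (7562, 6059), (7563, 6049), (7564, 9283), (7565, 6062), (7566, 9271), (7567, 9272), (7568, 9273), (7569, 9290), (7570, 9275), (7571, 9276), (7572, 9295), (7573, 9278), (7574, 6058), (7575, 9299), (7576, 9281), (7577, 7577), (7578, 6061), (7579, 9302), (7580, 7580), (7581, 7581), (7582, 7582), (7583, 7583), (7584, 7584), (7585, 7585), (7586, 6074), (7587, 6075), (7588, 6076), (7589, 6078), (7590, 9316), (7591, 6073), (7592, 9311), (7593, 9312), (7594, 8652), (7595, 9323), (7596, 9314), (7597, 8648), (7598, 9328), (7599, 8649), (7600, 6080), (7601, 9332), (7602, 8650), (7603, 7603), (7604, 6083), (7605, 9335), (7606, 8639), (7607, 8641), (7608, 8644), (7609, 8542), (7610, 8636), (7611, 7611), (7612, 7612), (7613, 7613), (7614, 7614), (7615, 9348)]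
    ⟨e3 q7552 (flp_b L179707) q8942, e3 q7553 (flp_b L179725) q8943, e3 q7554 (flp_b L179732) q8944, e3 q7555 L126148 q6052, e3 q7556 L126155 q6053, e3 q7557 L126163 q6054, e3 q7558 L126171 q6055, e3 q7559 L126177 q6056, e3 q7560 L126188 q6057, e3 q7561 L183264 q9279, e3 q7562 L126205 q6059, e3 q7563 (flp_b L126213) q6049, e3 q7564 (flp_b L183303) q9283, e3 q7565 L126231 q6062, e3 q7566 (flp_b L183199) q9271, e3 q7567 (flp_b L183206) q9272, e3 q7568 (flp_b L183216) q9273, e3 q7569 L183360 q9290, e3 q7570 (flp_b L183230) q9275, e3 q7571 (flp_b L183238) q9276, e3 q7572 L183396 q9295, e3 q7573 (flp_b L183255) q9278, e3 q7574 (flp_b L126301) q6058, e3 q7575 (flp_b L183436) q9299, e3 q7576 (flp_b L183284) q9281, e3 q7577 L126334 q7577, e3 q7578 L126337 q6061, e3 q7579 (flp_b L183463) q9302, e3 q7580 L126586 q7580, e3 q7581 L126658 q7581, e3 q7582 L126665 q7582, e3 q7583 L126675 q7583, e3 q7584 L126688 q7584, e3 q7585 L126696 q7585, e3 q7586 L126828 q6074, e3 q7587 L126836 q6075, e3 q7588 L126845 q6076, e3 q7589 L126860 q6078,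 e3 q7590 L184244 q9316, e3 q7591 (flp_b L126891) q6073, e3 q7592 (flp_b L184185) q9311, e3 q7593 (flp_b L184193) q9312, e3 q7594 L563054 q8652, e3 q7595 L184327 q9323, e3 q7596 (flp_b L184216) q9314, e3 q7597 L563061 q8648, e3 q7598 L184360 q9328, e3 q7599 L542560 q8649, e3 q7600 (flp_b L126972) q6080, e3 q7601 (flp_b L184395) q9332, e3 q7602 (flp_b L562170) q8650, e3 q7603 L127000 q7603, e3 q7604 L127003 q6083, e3 q7605 (flp_b L184419) q9335, e3 q7606 L561825 q8639, e3 q7607 (flp_b L561837) q8641, e3 q7608 L562394 q8644, e3 q7609 L561971 q8542, e3 q7610 L563155 q8636, e3 q7611 L127217 q7611, e3 q7612 L127224 q7612, e3 q7613 L127234 q7613, e3 q7614 L127249 q7614, e3 q7615 L184790 q9348, trivial⟩ (by decide +kernel)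

theorem ce_b_119 : ∀ r, r < 64 → sm gb (Qf (7616 + r)) = Qf (tab Gen.b (7616 + r)) :=
  edges_tab (sm gb) Qf (tab Gen.b) 7616 [(7616, 6093), (7617, 7617), (7618, 7618), (7619, 7619), (7620, 7620), (7621, 7621), (7622, 7622), (7623, 9360), (7624, 7624), (7625, 7625), (7626, 7626), (7627, 7627), (7628, 7628), (7629, 9367), (7630, 6103), (7631, 6115), (7632, 6116), (7633, 6117), (7634, 9374), (7635, 6119), (7636, 6120), (7637, 9379), (7638, 6122), (7639, 6110), (7640, 9383), (7641, 6125), (7642, 9349), (7643, 6113), (7644, 9386), (7645, 9369), (7646, 9370), (7647, 9377), (7648, 9372), (7649, 9373), (7650, 6118), (7651, 9378), (7652, 6121), (7653, 9381), (7654, 7654), (7655, 6124), (7656, 9391), (7657, 7657), (7658, 6128), (7659, 9394), (7660, 8013), (7661, 8012), (7662, 8747), (7663, 7663), (7664, 7664), (7665, 7665), (7666, 7666), (7667, 7667), (7668, 7668), (7669, 7669), (7670, 7670), (7671, 7671), (7672, 7672), (7673, 7673), (7674, 7674), (7675, 7675), (7676, 7676), (7677, 7677), (7678, 6155), (7679, 6156)]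
    ⟨e3 q7616 (flp_b L127284) q6093, e3 q7617 L127309 q7617, e3 q7618 L127315 q7618, e3 q7619 L127322 q7619, e3 q7620 L127327 q7620, e3 q7621 L127335 q7621, e3 q7622 L127343 q7622, e3 q7623 L184913 q9360, e3 q7624 L127356 q7624, e3 q7625 L127363 q7625, e3 q7626 L127370 q7626, e3 q7627 L127380 q7627, e3 q7628 L127393 q7628, e3 q7629 L184994 q9367, e3 q7630 (flp_b L127423) q6103, e3 q7631 L127445 q6115, e3 q7632 L127453 q6116, e3 q7633 L127461 q6117, e3 q7634 L185079 q9374, e3 q7635 L127474 q6119, e3 q7636 L127481 q6120, e3 q7637 L185112 q9379, e3 q7638 L127496 q6122, e3 q7639 (flp_b L127505) q6110, e3 q7640 (flp_b L185149) q9383, e3 q7641 L127523 q6125, e3 q7642 (flp_b L184822) q9349, e3 q7643 L127538 q6113, e3 q7644 (flp_b L185176) q9386, e3 q7645 (flp_b L185041) q9369, e3 q7646 (flp_b L185048) q9370, e3 q7647 L647045 q9377, e3 q7648 (flp_b L185062) q9372, e3 q7649 (flp_b L185071) q9373, e3 q7650 (flp_b L127591) q6118, e3 q7651 (flp_b L185108) q9378, e3 q7652 (flp_b L127624) q6121, e3 q7653 (flp_b L185132) q9381, e3 q7654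 L127658 q7654, e3 q7655 L127661 q6124, e3 q7656 (flp_b L185340) q9391, e3 q7657 L127681 q7657, e3 q7658 L127688 q6128, e3 q7659 (flp_b L185362) q9394, e3 q7660 L642748 q8013, e3 q7661 L642836 q8012, e3 q7662 (flp_b L592681) q8747, e3 q7663 L127865 q7663, e3 q7664 L127874 q7664, e3 q7665 L127883 q7665, e3 q7666 L127894 q7666, e3 q7667 L127904 q7667, e3 q7668 L127947 q7668, e3 q7669 L127956 q7669, e3 q7670 L127962 q7670, e3 q7671 L127973 q7671, e3 q7672 L127983 q7672, e3 q7673 L127991 q7673, e3 q7674 L128000 q7674, e3 q7675 L128007 q7675, e3 q7676 L128016 q7676, e3 q7677 L128024 q7677, e3 q7678 L128051 q6155, e3 q7679 L128059 q6156, trivial⟩ (by decide +kernel)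

theorem ce_b_120 : ∀ r, r < 64 → sm gb (Qf (7680 + r)) = Qf (tab Gen.b (7680 + r)) :=
  edges_tab (sm gb) Qf (tab Gen.b) 7680 [(7680, 6157), (7681, 6158), (7682, 9421), (7683, 6160), (7684, 6161), (7685, 8015), (7686, 9415), (7687, 9416), (7688, 9417), (7689, 9418), (7690, 9431), (7691, 9420), (7692, 6159), (7693, 9435), (7694, 9423), (7695, 8027), (7696, 8137), (7697, 8793), (7698, 8024), (7699, 8794), (7700, 7700), (7701, 7701), (7702, 7702), (7703, 7703), (7704, 9447), (7705, 7705), (7706, 7706), (7707, 7707), (7708, 7708), (7709, 7709), (7710, 7710), (7711, 7711), (7712, 7712), (7713, 9458), (7714, 7714), (7715, 7715), (7716, 7716), (7717, 7717), (7718, 7718), (7719, 7719), (7720, 7720), (7721, 7721), (7722, 7722), (7723, 7723), (7724, 6198), (7725, 6199), (7726, 6200), (7727, 6201), (7728, 6202), (7729, 9479), (7730, 6204), (7731, 6194), (7732, 9483), (7733, 6207), (7734, 8030), (7735, 9472), (7736, 9473), (7737, 9488), (7738, 9475), (7739, 9476), (7740, 9493), (7741, 9478), (7742, 6203), (7743, 9497)]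
    ⟨e3 q7680 L128069 q6157, e3 q7681 L128076 q6158, e3 q7682 L185967 q9421, e3 q7683 L128091 q6160, e3 q7684 L128100 q6161, e3 q7685 (flp_b L647951) q8015, e3 q7686 (flp_b L185919) q9415, e3 q7687 (flp_b L185927) q9416, e3 q7688 (flp_b L185936) q9417, e3 q7689 (flp_b L185945) q9418, e3 q7690 L186059 q9431, e3 q7691 (flp_b L185961) q9420, e3 q7692 (flp_b L128176) q6159, e3 q7693 (flp_b L186090) q9435, e3 q7694 (flp_b L185984) q9423, e3 q7695 (flp_b L642925) q8027, e3 q7696 (flp_b L644034) q8137, e3 q7697 L549755 q8793, e3 q7698 (flp_b L642982) q8024, e3 q7699 L549728 q8794, e3 q7700 L128440 q7700, e3 q7701 L128450 q7701, e3 q7702 L128459 q7702, e3 q7703 L128467 q7703, e3 q7704 L186555 q9447, e3 q7705 L128483 q7705, e3 q7706 L128491 q7706, e3 q7707 L128525 q7707, e3 q7708 L128531 q7708, e3 q7709 L128549 q7709, e3 q7710 L128559 q7710, e3 q7711 L128568 q7711, e3 q7712 L128573 q7712, e3 q7713 L186708 q9458, e3 q7714 L128588 q7714, e3 q7715 L128593 q7715, e3 q7716 L128599 q7716, e3 q7717 L128608 q7717, e3 q7718 L128618 q7718,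 e3 q7719 L128625 q7719, e3 q7720 L128634 q7720, e3 q7721 L128641 q7721, e3 q7722 L128654 q7722, e3 q7723 L128662 q7723, e3 q7724 L128686 q6198, e3 q7725 L128696 q6199, e3 q7726 L128704 q6200, e3 q7727 L128714 q6201, e3 q7728 L128721 q6202, e3 q7729 L186901 q9479, e3 q7730 L128735 q6204, e3 q7731 (flp_b L128741) q6194, e3 q7732 (flp_b L186930) q9483, e3 q7733 L128754 q6207, e3 q7734 L647836 q8030, e3 q7735 (flp_b L186847) q9472, e3 q7736 (flp_b L186856) q9473, e3 q7737 L186984 q9488, e3 q7738 (flp_b L186873) q9475, e3 q7739 (flp_b L186881) q9476, e3 q7740 L187023 q9493, e3 q7741 (flp_b L186895) q9478, e3 q7742 (flp_b L128824) q6203, e3 q7743 (flp_b L187053) q9497, trivial⟩ (by decide +kernel)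

theorem ce_b_121 : ∀ r, r < 64 → sm gb (Qf (7744 + r)) = Qf (tab Gen.b (7744 + r)) :=
  edges_tab (sm gb) Qf (tab Gen.b) 7744 [(7744, 9481), (7745, 7745), (7746, 6206), (7747, 9500), (7748, 8048), (7749, 8047), (7750, 8865), (7751, 8866), (7752, 9508), (7753, 8868), (7754, 8869), (7755, 7755), (7756, 7756), (7757, 7757), (7758, 7758), (7759, 7759), (7760, 9518), (7761, 7761), (7762, 6220), (7763, 9522), (7764, 7764), (7765, 7765), (7766, 7766), (7767, 7767), (7768, 7768), (7769, 7769), (7770, 9532), (7771, 7771), (7772, 7772), (7773, 6228), (7774, 9539), (7775, 9540), (7776, 7776), (7777, 7777), (7778, 7778), (7779, 7779), (7780, 7780), (7781, 7781), (7782, 7782), (7783, 7783), (7784, 7784), (7785, 7785), (7786, 7786), (7787, 6250), (7788, 6251), (7789, 6252), (7790, 9557), (7791, 6254), (7792, 6255), (7793, 9562), (7794, 6257), (7795, 6245), (7796, 9566), (7797, 6260), (7798, 9521), (7799, 6248), (7800, 9569), (7801, 9554), (7802, 9556), (7803, 6253), (7804, 9564), (7805, 9560), (7806, 9561), (7807, 6256)]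
    ⟨e3 q7744 (flp_b L186916) q9481, e3 q7745 L128850 q7745, e3 q7746 L128853 q6206, e3 q7747 (flp_b L187075) q9500, e3 q7748 (flp_b L640928) q8048, e3 q7749 (flp_b L642993) q8047, e3 q7750 (flp_b L549421) q8865, e3 q7751 L549396 q8866, e3 q7752 L187393 q9508, e3 q7753 (flp_b L549242) q8868, e3 q7754 (flp_b L592544) q8869, e3 q7755 L129181 q7755, e3 q7756 L129190 q7756, e3 q7757 L129200 q7757, e3 q7758 L129209 q7758, e3 q7759 L129219 q7759, e3 q7760 L187620 q9518, e3 q7761 L129238 q7761, e3 q7762 (flp_b L129243) q6220, e3 q7763 (flp_b L187656) q9522, e3 q7764 L129262 q7764, e3 q7765 L129279 q7765, e3 q7766 L129288 q7766, e3 q7767 L129295 q7767, e3 q7768 L129304 q7768, e3 q7769 L129311 q7769, e3 q7770 L187744 q9532, e3 q7771 L129329 q7771, e3 q7772 L129337 q7772, e3 q7773 (flp_b L129342) q6228, e3 q7774 (flp_b L187799) q9539, e3 q7775 (flp_b L187806) q9540, e3 q7776 L129366 q7776, e3 q7777 L129374 q7777, e3 q7778 L129382 q7778, e3 q7779 L129389 q7779, e3 q7780 L129397 q7780, e3 q7781 L129405 q7781, e3 q7782 L129410 q7782,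 e3 q7783 L129425 q7783, e3 q7784 L129432 q7784, e3 q7785 L129448 q7785, e3 q7786 L129455 q7786, e3 q7787 L129477 q6250, e3 q7788 L129485 q6251, e3 q7789 L129495 q6252, e3 q7790 L188009 q9557, e3 q7791 L129511 q6254, e3 q7792 L129518 q6255, e3 q7793 L188049 q9562, e3 q7794 L129534 q6257, e3 q7795 (flp_b L129541) q6245, e3 q7796 (flp_b L188085) q9566, e3 q7797 L129557 q6260, e3 q7798 (flp_b L187652) q9521, e3 q7799 L129574 q6248, e3 q7800 (flp_b L188109) q9569, e3 q7801 (flp_b L187976) q9554, e3 q7802 (flp_b L188001) q9556, e3 q7803 (flp_b L129632) q6253, e3 q7804 L647317 q9564, e3 q7805 (flp_b L188034) q9560, e3 q7806 (flp_b L188041) q9561, e3 q7807 (flp_b L129672) q6256, trivial⟩ (by decide +kernel)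

theorem ce_b_122 : ∀ r, r < 64 → sm gb (Qf (7808 + r)) = Qf (tab Gen.b (7808 + r)) :=
  edges_tab (sm gb) Qf (tab Gen.b) 7808 [(7808, 7808), (7809, 6259), (7810, 7810), (7811, 6263), (7812, 7812), (7813, 9576), (7814, 7814), (7815, 7815), (7816, 9579), (7817, 7817), (7818, 6270), (7819, 9582), (7820, 7820), (7821, 6284), (7822, 6273), (7823, 9585), (7824, 6282), (7825, 6276), (7826, 9380), (7827, 6279), (7828, 9581), (7829, 9555), (7830, 9584), (7831, 6286), (7832, 9590), (7833, 7833), (7834, 7834), (7835, 7835), (7836, 6382), (7837, 6383), (7838, 6322), (7839, 6378), (7840, 6387), (7841, 6388), (7842, 6389), (7843, 6394), (7844, 6395), (7845, 6397), (7846, 6335), (7847, 6336), (7848, 8983), (7849, 6390), (7850, 6391), (7851, 6402), (7852, 6403), (7853, 6405), (7854, 6406), (7855, 6407), (7856, 6413), (7857, 6414), (7858, 6415), (7859, 6416), (7860, 6356), (7861, 6357), (7862, 6359), (7863, 9604), (7864, 9605), (7865, 6409), (7866, 6408), (7867, 6410), (7868, 6532), (7869, 6426), (7870, 6427), (7871, 6428)]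
    ⟨e3 q7808 L129705 q7808, e3 q7809 L129708 q6259, e3 q7810 L129726 q7810, e3 q7811 L129732 q6263, e3 q7812 L129762 q7812, e3 q7813 L188378 q9576, e3 q7814 L129791 q7814, e3 q7815 L129798 q7815, e3 q7816 L188420 q9579, e3 q7817 L129816 q7817, e3 q7818 (flp_b L129822) q6270, e3 q7819 (flp_b L188456) q9582, e3 q7820 L129841 q7820, e3 q7821 L129851 q6284, e3 q7822 L129855 q6273, e3 q7823 (flp_b L188482) q9585, e3 q7824 (flp_b L646181) q6282, e3 q7825 (flp_b L129912) q6276, e3 q7826 (flp_b L646464) q9380, e3 q7827 L646286 q6279, e3 q7828 (flp_b L188452) q9581, e3 q7829 L646606 q9555, e3 q7830 (flp_b L188474) q9584, e3 q7831 L130006 q6286, e3 q7832 (flp_b L188671) q9590, e3 q7833 L130188 q7833, e3 q7834 L130496 q7834, e3 q7835 L132552 q7835, e3 q7836 L133090 q6382, e3 q7837 L133101 q6383, e3 q7838 L133260 q6322, e3 q7839 L601157 q6378, e3 q7840 L133375 q6387, e3 q7841 L133419 q6388, e3 q7842 L133438 q6389, e3 q7843 L134067 q6394, e3 q7844 L134074 q6395, e3 q7845 L134093 q6397, e3 q7846 L134280 q6335, e3 q7847 L134289 q6336,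 e3 q7848 (flp_b L617648) q8983, e3 q7849 L576662 q6390, e3 q7850 (flp_b L591475) q6391, e3 q7851 L134464 q6402, e3 q7852 L134470 q6403, e3 q7853 L134526 q6405, e3 q7854 L134545 q6406, e3 q7855 L134559 q6407, e3 q7856 L135471 q6413, e3 q7857 L135480 q6414, e3 q7858 L135487 q6415, e3 q7859 L135496 q6416, e3 q7860 L135765 q6356, e3 q7861 L135773 q6357, e3 q7862 L135795 q6359, e3 q7863 (flp_b L197140) q9604, e3 q7864 (flp_b L197148) q9605, e3 q7865 L551540 q6409, e3 q7866 L551367 q6408, e3 q7867 (flp_b L590735) q6410, e3 q7868 L545349 q6532, e3 q7869 L136053 q6426, e3 q7870 L136061 q6427, e3 q7871 L136069 q6428, trivial⟩ (by decide +kernel)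

theorem ce_b_123 : ∀ r, r < 64 → sm gb (Qf (7872 + r)) = Qf (tab Gen.b (7872 + r)) :=
  edges_tab (sm gb) Qf (tab Gen.b) 7872 [(7872, 6429), (7873, 6430), (7874, 6431), (7875, 7875), (7876, 6432), (7877, 6433), (7878, 6434), (7879, 6435), (7880, 6436), (7881, 7881), (7882, 6386), (7883, 6385), (7884, 8762), (7885, 8972), (7886, 9021), (7887, 9013), (7888, 9593), (7889, 9003), (7890, 6401), (7891, 6400), (7892, 8820), (7893, 9594), (7894, 6399), (7895, 9051), (7896, 9630), (7897, 9123), (7898, 9020), (7899, 9596), (7900, 9016), (7901, 9111), (7902, 9597), (7903, 9598), (7904, 9609), (7905, 9607), (7906, 6425), (7907, 6424), (7908, 9599), (7909, 9600), (7910, 9601), (7911, 6423), (7912, 9602), (7913, 6422), (7914, 6460), (7915, 6536), (7916, 9642), (7917, 9641), (7918, 9648), (7919, 9651), (7920, 9610), (7921, 9611), (7922, 9612), (7923, 9613), (7924, 9614), (7925, 9616), (7926, 9617), (7927, 9618), (7928, 9317), (7929, 9619), (7930, 9620), (7931, 9621), (7932, 9622), (7933, 8618), (7934, 8619), (7935, 8487)]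
    ⟨e3 q7872 L136076 q6429, e3 q7873 L136084 q6430, e3 q7874 L136119 q6431, e3 q7875 L136137 q7875, e3 q7876 L136142 q6432, e3 q7877 L136157 q6433, e3 q7878 L136174 q6434, e3 q7879 L136190 q6435, e3 q7880 L136214 q6436, e3 q7881 L136301 q7881, e3 q7882 L622556 q6386, e3 q7883 L622591 q6385, e3 q7884 L621603 q8762, e3 q7885 (flp_b L612433) q8972, e3 q7886 L621658 q9021, e3 q7887 L612257 q9013, e3 q7888 (flp_b L193740) q9593, e3 q7889 (flp_b L622575) q9003, e3 q7890 (flp_b L622783) q6401, e3 q7891 L622804 q6400, e3 q7892 (flp_b L622197) q8820, e3 q7893 (flp_b L194681) q9594, e3 q7894 (flp_b L552358) q6399, e3 q7895 L622250 q9051, e3 q7896 L552249 q9630, e3 q7897 L622218 q9123, e3 q7898 L621517 q9020, e3 q7899 (flp_b L195275) q9596, e3 q7900 L617558 q9016, e3 q7901 L622109 q9111, e3 q7902 (flp_b L195382) q9597, e3 q7903 (flp_b L195403) q9598, e3 q7904 L551537 q9609, e3 q7905 (flp_b L547125) q9607, e3 q7906 L624712 q6425, e3 q7907 (flp_b L624767) q6424, e3 q7908 (flp_b L196725) q9599, e3 q7909 (flp_b L196735) q9600, e3 q7910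 (flp_b L196745) q9601, e3 q7911 (flp_b L590584) q6423, e3 q7912 (flp_b L196760) q9602, e3 q7913 (flp_b L561670) q6422, e3 q7914 (flp_b L561566) q6460, e3 q7915 L561346 q6536, e3 q7916 (flp_b L614683) q9642, e3 q7917 L615363 q9641, e3 q7918 L547244 q9648, e3 q7919 L547283 q9651, e3 q7920 (flp_b L197598) q9610, e3 q7921 (flp_b L197613) q9611, e3 q7922 (flp_b L197621) q9612, e3 q7923 (flp_b L197629) q9613, e3 q7924 (flp_b L197637) q9614, e3 q7925 (flp_b L197652) q9616, e3 q7926 (flp_b L197659) q9617, e3 q7927 (flp_b L197726) q9618, e3 q7928 L543005 q9317, e3 q7929 (flp_b L197781) q9619, e3 q7930 (flp_b L197799) q9620, e3 q7931 (flp_b L197820) q9621, e3 q7932 (flp_b L197845) q9622, e3 q7933 L561702 q8618, e3 q7934 L561686 q8619, e3 q7935 (flp_b L561759) q8487, trivial⟩ (by decide +kernel)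

theorem ce_b_124 : ∀ r, r < 64 → sm gb (Qf (7936 + r)) = Qf (tab Gen.b (7936 + r)) :=
  edges_tab (sm gb) Qf (tab Gen.b) 7936 [(7936, 8490), (7937, 7937), (7938, 7938), (7939, 7939), (7940, 7940), (7941, 7941), (7942, 7942), (7943, 7943), (7944, 9682), (7945, 7945), (7946, 7946), (7947, 7947), (7948, 8484), (7949, 6454), (7950, 9652), (7951, 9650), (7952, 6465), (7953, 6466), (7954, 6467), (7955, 6468), (7956, 6469), (7957, 8640), (7958, 8620), (7959, 9686), (7960, 9687), (7961, 9688), (7962, 7962), (7963, 7963), (7964, 7964), (7965, 7965), (7966, 7966), (7967, 7967), (7968, 7968), (7969, 7969), (7970, 7970), (7971, 7971), (7972, 7972), (7973, 8072), (7974, 7974), (7975, 7975), (7976, 8089), (7977, 7977), (7978, 7978), (7979, 7979), (7980, 8102), (7981, 7981), (7982, 7982), (7983, 7983), (7984, 7984), (7985, 7985), (7986, 7986), (7987, 7987), (7988, 7988), (7989, 8058), (7990, 7990), (7991, 7991), (7992, 8071), (7993, 7993), (7994, 7994), (7995, 7995), (7996, 7996), (7997, 7997), (7998, 7998), (7999, 7999)]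
    ⟨e3 q7936 L561763 q8490, e3 q7937 L418047 q7937, e3 q7938 L139931 q7938, e3 q7939 L139938 q7939, e3 q7940 L139947 q7940, e3 q7941 L139953 q7941, e3 q7942 L139959 q7942, e3 q7943 L139966 q7943, e3 q7944 L203177 q9682, e3 q7945 L139985 q7945, e3 q7946 L140014 q7946, e3 q7947 L140021 q7947, e3 q7948 (flp_b L616278) q8484, e3 q7949 (flp_b L140041) q6454, e3 q7950 L561420 q9652, e3 q7951 (flp_b L547261) q9650, e3 q7952 L140227 q6465, e3 q7953 L140235 q6466, e3 q7954 L140243 q6467, e3 q7955 L140251 q6468, e3 q7956 L140259 q6469, e3 q7957 (flp_b L616068) q8640, e3 q7958 (flp_b L616636) q8620, e3 q7959 (flp_b L203525) q9686, e3 q7960 (flp_b L203534) q9687, e3 q7961 (flp_b L203543) q9688, e3 q7962 L140316 q7962, e3 q7963 L140322 q7963, e3 q7964 L140335 q7964, e3 q7965 L140343 q7965, e3 q7966 L140350 q7966, e3 q7967 L140712 q7967, e3 q7968 L140721 q7968, e3 q7969 L140784 q7969, e3 q7970 L140819 q7970, e3 q7971 L140832 q7971, e3 q7972 L140854 q7972, e3 q7973 (flp_b L643999) q8072, e3 q7974 L141487 q7974, e3 q7975 L141495 q7975,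 e3 q7976 L644767 q8089, e3 q7977 L141510 q7977, e3 q7978 L141515 q7978, e3 q7979 L141546 q7979, e3 q7980 (flp_b L644455) q8102, e3 q7981 L141580 q7981, e3 q7982 L141600 q7982, e3 q7983 L141614 q7983, e3 q7984 L141634 q7984, e3 q7985 L141651 q7985, e3 q7986 L142051 q7986, e3 q7987 L142073 q7987, e3 q7988 L142092 q7988, e3 q7989 (flp_b L643785) q8058, e3 q7990 L142568 q7990, e3 q7991 L142576 q7991, e3 q7992 L644773 q8071, e3 q7993 L142592 q7993, e3 q7994 L142600 q7994, e3 q7995 L142630 q7995, e3 q7996 L142668 q7996, e3 q7997 L143272 q7997, e3 q7998 L143331 q7998, e3 q7999 L143626 q7999, trivial⟩ (by decide +kernel)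

theorem ce_b_125 : ∀ r, r < 64 → sm gb (Qf (8000 + r)) = Qf (tab Gen.b (8000 + r)) :=
  edges_tab (sm gb) Qf (tab Gen.b) 8000 [(8000, 8000), (8001, 8001), (8002, 8002), (8003, 6526), (8004, 8004), (8005, 8005), (8006, 8006), (8007, 8007), (8008, 8008), (8009, 8009), (8010, 6579), (8011, 6580), (8012, 7661), (8013, 7660), (8014, 9721), (8015, 7685), (8016, 8016), (8017, 8017), (8018, 8018), (8019, 8019), (8020, 8020), (8021, 6594), (8022, 6596), (8023, 6597), (8024, 7698), (8025, 9731), (8026, 9732), (8027, 7695), (8028, 9733), (8029, 6600), (8030, 7734), (8031, 9737), (8032, 9738), (8033, 8033), (8034, 8034), (8035, 8035), (8036, 8036), (8037, 8037), (8038, 8038), (8039, 8039), (8040, 8040), (8041, 8041), (8042, 6618), (8043, 6619), (8044, 6620), (8045, 6621), (8046, 6622), (8047, 7749), (8048, 7748), (8049, 9754), (8050, 9755), (8051, 9765), (8052, 9757), (8053, 9758), (8054, 6624), (8055, 6625), (8056, 9769), (8057, 9770), (8058, 7989), (8059, 8059), (8060, 8060), (8061, 8061), (8062, 6630), (8063, 6631)]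
    ⟨e3 q8000 L143636 q8000, e3 q8001 L143659 q8001, e3 q8002 L143690 q8002, e3 q8003 L143731 q6526, e3 q8004 L143913 q8004, e3 q8005 L144663 q8005, e3 q8006 L145828 q8006, e3 q8007 L557721 q8007, e3 q8008 L166499 q8008, e3 q8009 L166527 q8009, e3 q8010 L166552 q6579, e3 q8011 L166562 q6580, e3 q8012 (flp_b L642836) q7661, e3 q8013 (flp_b L642748) q7660, e3 q8014 (flp_b L241562) q9721, e3 q8015 L647951 q7685, e3 q8016 L166675 q8016, e3 q8017 L166684 q8017, e3 q8018 L166720 q8018, e3 q8019 L166727 q8019, e3 q8020 L166735 q8020, e3 q8021 L166751 q6594, e3 q8022 L166767 q6596, e3 q8023 L166777 q6597, e3 q8024 L642982 q7698, e3 q8025 (flp_b L241842) q9731, e3 q8026 (flp_b L241849) q9732, e3 q8027 L642925 q7695, e3 q8028 (flp_b L241867) q9733, e3 q8029 L166854 q6600, e3 q8030 (flp_b L647836) q7734, e3 q8031 (flp_b L241973) q9737, e3 q8032 (flp_b L241980) q9738, e3 q8033 L166915 q8033, e3 q8034 L166933 q8034, e3 q8035 L166942 q8035, e3 q8036 L166967 q8036, e3 q8037 L166984 q8037, e3 q8038 L166991 q8038, e3 q8039 L167000 q8039,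 e3 q8040 L167009 q8040, e3 q8041 L167017 q8041, e3 q8042 L167041 q6618, e3 q8043 L167049 q6619, e3 q8044 L167058 q6620, e3 q8045 L167067 q6621, e3 q8046 L167076 q6622, e3 q8047 L642993 q7749, e3 q8048 L640928 q7748, e3 q8049 (flp_b L242283) q9754, e3 q8050 (flp_b L242292) q9755, e3 q8051 L242394 q9765, e3 q8052 (flp_b L242308) q9757, e3 q8053 (flp_b L242318) q9758, e3 q8054 L167166 q6624, e3 q8055 L167177 q6625, e3 q8056 (flp_b L242457) q9769, e3 q8057 (flp_b L242466) q9770, e3 q8058 L643785 q7989, e3 q8059 L167218 q8059, e3 q8060 L167231 q8060, e3 q8061 L167252 q8061, e3 q8062 L167256 q6630, e3 q8063 L167263 q6631, trivial⟩ (by decide +kernel)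

theorem ce_b_126 : ∀ r, r < 64 → sm gb (Qf (8064 + r)) = Qf (tab Gen.b (8064 + r)) :=
  edges_tab (sm gb) Qf (tab Gen.b) 8064 [(8064, 8064), (8065, 6636), (8066, 6637), (8067, 6638), (8068, 9773), (8069, 9774), (8070, 9775), (8071, 7992), (8072, 7973), (8073, 8073), (8074, 8074), (8075, 6646), (8076, 6647), (8077, 6648), (8078, 9781), (8079, 9782), (8080, 8080), (8081, 6655), (8082, 6656), (8083, 6657), (8084, 6659), (8085, 9785), (8086, 9786), (8087, 9787), (8088, 9788), (8089, 7976), (8090, 8090), (8091, 8091), (8092, 8092), (8093, 8093), (8094, 6667), (8095, 6668), (8096, 6669), (8097, 6670), (8098, 9798), (8099, 9799), (8100, 9800), (8101, 9801), (8102, 7980), (8103, 6802), (8104, 6803), (8105, 6676), (8106, 6677), (8107, 6678), (8108, 6679), (8109, 6680), (8110, 9809), (8111, 9810), (8112, 9811), (8113, 9812), (8114, 9813), (8115, 6681), (8116, 9821), (8117, 9822), (8118, 8118), (8119, 8119), (8120, 8120), (8121, 8121), (8122, 6822), (8123, 6823), (8124, 6824), (8125, 6825), (8126, 6826), (8127, 6692)]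
    ⟨e3 q8064 L167351 q8064, e3 q8065 L167355 q6636, e3 q8066 L167365 q6637, e3 q8067 L167374 q6638, e3 q8068 (flp_b L242736) q9773, e3 q8069 (flp_b L242748) q9774, e3 q8070 (flp_b L242756) q9775, e3 q8071 (flp_b L644773) q7992, e3 q8072 L643999 q7973, e3 q8073 L167447 q8073, e3 q8074 L167471 q8074, e3 q8075 L167488 q6646, e3 q8076 L167498 q6647, e3 q8077 L167504 q6648, e3 q8078 (flp_b L242949) q9781, e3 q8079 (flp_b L242957) q9782, e3 q8080 L167609 q8080, e3 q8081 L167625 q6655, e3 q8082 L167635 q6656, e3 q8083 L167644 q6657, e3 q8084 L167661 q6659, e3 q8085 (flp_b L243169) q9785, e3 q8086 (flp_b L243179) q9786, e3 q8087 (flp_b L243187) q9787, e3 q8088 (flp_b L243196) q9788, e3 q8089 (flp_b L644767) q7976, e3 q8090 L167742 q8090, e3 q8091 L167751 q8091, e3 q8092 L167781 q8092, e3 q8093 L167788 q8093, e3 q8094 L167815 q6667, e3 q8095 L167823 q6668, e3 q8096 L167831 q6669, e3 q8097 L167838 q6670, e3 q8098 (flp_b L243439) q9798, e3 q8099 (flp_b L243448) q9799, e3 q8100 (flp_b L243456) q9800, e3 q8101 (flp_b L243464) q9801,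 e3 q8102 L644455 q7980, e3 q8103 L167949 q6802, e3 q8104 L167960 q6803, e3 q8105 L167971 q6676, e3 q8106 L167981 q6677, e3 q8107 L167990 q6678, e3 q8108 L167999 q6679, e3 q8109 L168011 q6680, e3 q8110 (flp_b L243702) q9809, e3 q8111 (flp_b L243710) q9810, e3 q8112 (flp_b L243720) q9811, e3 q8113 (flp_b L243731) q9812, e3 q8114 (flp_b L243739) q9813, e3 q8115 (flp_b L168073) q6681, e3 q8116 (flp_b L243825) q9821, e3 q8117 (flp_b L243835) q9822, e3 q8118 L168108 q8118, e3 q8119 L168117 q8119, e3 q8120 L168125 q8120, e3 q8121 L168134 q8121, e3 q8122 L168151 q6822, e3 q8123 L168161 q6823, e3 q8124 L168169 q6824, e3 q8125 L168179 q6825, e3 q8126 L168187 q6826, e3 q8127 L168198 q6692, trivial⟩ (by decide +kernel)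

theorem ce_b_127 : ∀ r, r < 64 → sm gb (Qf (8128 + r)) = Qf (tab Gen.b (8128 + r)) :=
  edges_tab (sm gb) Qf (tab Gen.b) 8128 [(8128, 6693), (8129, 6694), (8130, 6695), (8131, 6696), (8132, 9840), (8133, 9841), (8134, 9842), (8135, 9843), (8136, 9844), (8137, 7696), (8138, 9845), (8139, 6863), (8140, 6864), (8141, 6865), (8142, 6866), (8143, 6867), (8144, 6704), (8145, 6705), (8146, 6706), (8147, 6707), (8148, 6708), (8149, 9857), (8150, 9858), (8151, 9859), (8152, 9860), (8153, 9861), (8154, 9862), (8155, 9863), (8156, 6710), (8157, 6711), (8158, 9872), (8159, 9873), (8160, 9874), (8161, 9875), (8162, 9876), (8163, 8163), (8164, 8164), (8165, 8165), (8166, 8166), (8167, 8167), (8168, 6892), (8169, 6893), (8170, 6894), (8171, 6895), (8172, 6896), (8173, 6897), (8174, 6898), (8175, 6899), (8176, 6900), (8177, 6727), (8178, 6728), (8179, 6729), (8180, 6730), (8181, 6731), (8182, 6732), (8183, 6733), (8184, 9907), (8185, 9908), (8186, 9909), (8187, 9910), (8188, 9911), (8189, 9921), (8190, 9913), (8191, 9914)]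
    ⟨e3 q8128 L168204 q6693, e3 q8129 L168214 q6694, e3 q8130 L168223 q6695, e3 q8131 L168230 q6696, e3 q8132 (flp_b L244023) q9840, e3 q8133 (flp_b L244030) q9841, e3 q8134 (flp_b L244038) q9842, e3 q8135 (flp_b L244046) q9843, e3 q8136 (flp_b L244054) q9844, e3 q8137 L644034 q7696, e3 q8138 (flp_b L244073) q9845, e3 q8139 L168382 q6863, e3 q8140 L168392 q6864, e3 q8141 L168403 q6865, e3 q8142 L168411 q6866, e3 q8143 L168419 q6867, e3 q8144 L168431 q6704, e3 q8145 L168439 q6705, e3 q8146 L168447 q6706, e3 q8147 L168457 q6707, e3 q8148 L168466 q6708, e3 q8149 (flp_b L244357) q9857, e3 q8150 (flp_b L244367) q9858, e3 q8151 (flp_b L244375) q9859, e3 q8152 (flp_b L244383) q9860, e3 q8153 (flp_b L244390) q9861, e3 q8154 (flp_b L244400) q9862, e3 q8155 (flp_b L244409) q9863, e3 q8156 L168545 q6710, e3 q8157 L168553 q6711, e3 q8158 (flp_b L244498) q9872, e3 q8159 (flp_b L244507) q9873, e3 q8160 (flp_b L244517) q9874, e3 q8161 (flp_b L244526) q9875, e3 q8162 (flp_b L244535) q9876, e3 q8163 L168606 q8163, e3 q8164 L168613 q8164,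 e3 q8165 L168622 q8165, e3 q8166 L168631 q8166, e3 q8167 L168640 q8167, e3 q8168 L168645 q6892, e3 q8169 L168652 q6893, e3 q8170 L168660 q6894, e3 q8171 L168670 q6895, e3 q8172 L168679 q6896, e3 q8173 L168689 q6897, e3 q8174 L168696 q6898, e3 q8175 L168704 q6899, e3 q8176 L168713 q6900, e3 q8177 L168721 q6727, e3 q8178 L168729 q6728, e3 q8179 L168735 q6729, e3 q8180 L168743 q6730, e3 q8181 L168749 q6731, e3 q8182 L168757 q6732, e3 q8183 L168765 q6733, e3 q8184 (flp_b L244803) q9907, e3 q8185 (flp_b L244811) q9908, e3 q8186 (flp_b L244821) q9909, e3 q8187 (flp_b L244829) q9910, e3 q8188 (flp_b L244835) q9911, e3 q8189 L244927 q9921, e3 q8190 (flp_b L244847) q9913, e3 q8191 (flp_b L244855) q9914, trivial⟩ (by decide +kernel)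

theorem ce_b_128 : ∀ r, r < 64 → sm gb (Qf (8192 + r)) = Qf (tab Gen.b (8192 + r)) :=
  edges_tab (sm gb) Qf (tab Gen.b) 8192 [(8192, 6952), (8193, 6953), (8194, 6954), (8195, 6955), (8196, 6956), (8197, 6957), (8198, 6958), (8199, 6960), (8200, 6744), (8201, 6745), (8202, 6746), (8203, 6747), (8204, 6748), (8205, 6749), (8206, 6750), (8207, 9937), (8208, 9938), (8209, 9939), (8210, 9940), (8211, 9941), (8212, 9953), (8213, 9943), (8214, 9944), (8215, 6753), (8216, 6754), (8217, 6755), (8218, 6756), (8219, 6757), (8220, 9956), (8221, 9957), (8222, 9958), (8223, 9959), (8224, 9960), (8225, 9961), (8226, 9962), (8227, 6945), (8228, 9964), (8229, 8229), (8230, 8230), (8231, 8231), (8232, 8232), (8233, 8233), (8234, 8234), (8235, 8235), (8236, 6995), (8237, 6996), (8238, 6997), (8239, 6998), (8240, 6999), (8241, 7000), (8242, 7001), (8243, 7002), (8244, 7003), (8245, 7004), (8246, 7005), (8247, 7006), (8248, 7007), (8249, 7008), (8250, 7009), (8251, 6779), (8252, 6780), (8253, 6781), (8254, 6782), (8255, 6783)]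
    ⟨e3 q8192 L168956 q6952, e3 q8193 L168967 q6953, e3 q8194 L168977 q6954, e3 q8195 L168988 q6955, e3 q8196 L168998 q6956, e3 q8197 L169006 q6957, e3 q8198 L169015 q6958, e3 q8199 L169035 q6960, e3 q8200 L169043 q6744, e3 q8201 L169052 q6745, e3 q8202 L169062 q6746, e3 q8203 L169070 q6747, e3 q8204 L169079 q6748, e3 q8205 L169090 q6749, e3 q8206 L169098 q6750, e3 q8207 (flp_b L245301) q9937, e3 q8208 (flp_b L245310) q9938, e3 q8209 (flp_b L245318) q9939, e3 q8210 (flp_b L245327) q9940, e3 q8211 (flp_b L245335) q9941, e3 q8212 L245446 q9953, e3 q8213 (flp_b L245352) q9943, e3 q8214 (flp_b L245362) q9944, e3 q8215 L169186 q6753, e3 q8216 L169196 q6754, e3 q8217 L169204 q6755, e3 q8218 L169214 q6756, e3 q8219 L169222 q6757, e3 q8220 (flp_b L245480) q9956, e3 q8221 (flp_b L245490) q9957, e3 q8222 (flp_b L245499) q9958, e3 q8223 (flp_b L245511) q9959, e3 q8224 (flp_b L245520) q9960, e3 q8225 (flp_b L245529) q9961, e3 q8226 (flp_b L245539) q9962, e3 q8227 L554515 q6945, e3 q8228 (flp_b L245566) q9964, e3 q8229 L169308 q8229,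 e3 q8230 L169316 q8230, e3 q8231 L169325 q8231, e3 q8232 L169334 q8232, e3 q8233 L169343 q8233, e3 q8234 L169353 q8234, e3 q8235 L169361 q8235, e3 q8236 L169366 q6995, e3 q8237 L169374 q6996, e3 q8238 L169383 q6997, e3 q8239 L169391 q6998, e3 q8240 L169400 q6999, e3 q8241 L169410 q7000, e3 q8242 L169417 q7001, e3 q8243 L169428 q7002, e3 q8244 L169437 q7003, e3 q8245 L169444 q7004, e3 q8246 L169452 q7005, e3 q8247 L169458 q7006, e3 q8248 L169467 q7007, e3 q8249 L169475 q7008, e3 q8250 L169484 q7009, e3 q8251 L169490 q6779, e3 q8252 L169497 q6780, e3 q8253 L169505 q6781, e3 q8254 L169514 q6782, e3 q8255 L169521 q6783, trivial⟩ (by decide +kernel)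

theorem ce_b_129 : ∀ r, r < 64 → sm gb (Qf (8256 + r)) = Qf (tab Gen.b (8256 + r)) :=
  edges_tab (sm gb) Qf (tab Gen.b) 8256 [(8256, 10019), (8257, 6785), (8258, 6786), (8259, 10011), (8260, 10012), (8261, 10013), (8262, 10014), (8263, 10015), (8264, 10016), (8265, 10030), (8266, 10018), (8267, 6784), (8268, 10034), (8269, 10021), (8270, 10036), (8271, 8271), (8272, 8272), (8273, 8273), (8274, 8274), (8275, 8275), (8276, 6793), (8277, 6794), (8278, 6795), (8279, 6796), (8280, 6797), (8281, 10037), (8282, 10047), (8283, 10048), (8284, 10049), (8285, 10050), (8286, 6798), (8287, 10057), (8288, 10058), (8289, 8289), (8290, 8290), (8291, 8291), (8292, 8292), (8293, 8293), (8294, 9804), (8295, 9805), (8296, 9806), (8297, 9807), (8298, 9808), (8299, 6809), (8300, 6810), (8301, 6811), (8302, 6812), (8303, 6813), (8304, 10078), (8305, 10079), (8306, 10080), (8307, 10081), (8308, 10082), (8309, 10083), (8310, 10084), (8311, 6815), (8312, 6816), (8313, 10093), (8314, 10094), (8315, 10095), (8316, 10076), (8317, 10096), (8318, 8318),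 (8319, 8319)]
    ⟨e3 q8256 L246019 q10019, e3 q8257 L169535 q6785, e3 q8258 L169544 q6786, e3 q8259 (flp_b L245958) q10011, e3 q8260 (flp_b L245966) q10012, e3 q8261 (flp_b L245974) q10013, e3 q8262 (flp_b L245983) q10014, e3 q8263 (flp_b L245991) q10015, e3 q8264 (flp_b L245999) q10016, e3 q8265 L246111 q10030, e3 q8266 (flp_b L246013) q10018, e3 q8267 (flp_b L169616) q6784, e3 q8268 (flp_b L246144) q10034, e3 q8269 (flp_b L246036) q10021, e3 q8270 L246160 q10036, e3 q8271 L169655 q8271, e3 q8272 L169665 q8272, e3 q8273 L169676 q8273, e3 q8274 L169685 q8274, e3 q8275 L169694 q8275, e3 q8276 L169703 q6793, e3 q8277 L169712 q6794, e3 q8278 L169720 q6795, e3 q8279 L169730 q6796, e3 q8280 L169741 q6797, e3 q8281 L614209 q10037, e3 q8282 (flp_b L246300) q10047, e3 q8283 (flp_b L246309) q10048, e3 q8284 (flp_b L246319) q10049, e3 q8285 (flp_b L246328) q10050, e3 q8286 (flp_b L169798) q6798, e3 q8287 (flp_b L246405) q10057, e3 q8288 (flp_b L246415) q10058, e3 q8289 L169835 q8289, e3 q8290 L169847 q8290, e3 q8291 L169857 q8291,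 e3 q8292 L169866 q8292, e3 q8293 L169878 q8293, e3 q8294 (flp_b L243648) q9804, e3 q8295 (flp_b L243660) q9805, e3 q8296 (flp_b L243670) q9806, e3 q8297 (flp_b L243680) q9807, e3 q8298 (flp_b L243689) q9808, e3 q8299 L169931 q6809, e3 q8300 L169940 q6810, e3 q8301 L169950 q6811, e3 q8302 L169961 q6812, e3 q8303 L169968 q6813, e3 q8304 (flp_b L246607) q10078, e3 q8305 (flp_b L246617) q10079, e3 q8306 (flp_b L246628) q10080, e3 q8307 (flp_b L246636) q10081, e3 q8308 (flp_b L246645) q10082, e3 q8309 (flp_b L246657) q10083, e3 q8310 (flp_b L246666) q10084, e3 q8311 L170039 q6815, e3 q8312 L170047 q6816, e3 q8313 (flp_b L246743) q10093, e3 q8314 (flp_b L246752) q10094, e3 q8315 (flp_b L246759) q10095, e3 q8316 L550481 q10076, e3 q8317 (flp_b L246776) q10096, e3 q8318 L170107 q8318, e3 q8319 L170115 q8319, trivial⟩ (by decide +kernel)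

theorem ce_b_130 : ∀ r, r < 64 → sm gb (Qf (8320 + r)) = Qf (tab Gen.b (8320 + r)) :=
  edges_tab (sm gb) Qf (tab Gen.b) 8320 [(8320, 8320), (8321, 8321), (8322, 8322), (8323, 9831), (8324, 9832), (8325, 9833), (8326, 9834), (8327, 9835), (8328, 9836), (8329, 9837), (8330, 9838), (8331, 9839), (8332, 6832), (8333, 6833), (8334, 6834), (8335, 6835), (8336, 6836), (8337, 6837), (8338, 6838), (8339, 10127), (8340, 10128), (8341, 10129), (8342, 10130), (8343, 10131), (8344, 10139), (8345, 10133), (8346, 10134), (8347, 6839), (8348, 10051), (8349, 10142), (8350, 8350), (8351, 8351), (8352, 8352), (8353, 8353), (8354, 8354), (8355, 8355), (8356, 8356), (8357, 8357), (8358, 8358), (8359, 8359), (8360, 6850), (8361, 6851), (8362, 6852), (8363, 6853), (8364, 6854), (8365, 10158), (8366, 10143), (8367, 10159), (8368, 10160), (8369, 10161), (8370, 10162), (8371, 10163), (8372, 6856), (8373, 6857), (8374, 10172), (8375, 10173), (8376, 10174), (8377, 9884), (8378, 10175), (8379, 8379), (8380, 8380), (8381, 8381), (8382, 8382), (8383,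 8383)]
    ⟨e3 q8320 L170126 q8320, e3 q8321 L170136 q8321, e3 q8322 L170145 q8322, e3 q8323 (flp_b L243937) q9831, e3 q8324 (flp_b L243946) q9832, e3 q8325 (flp_b L243954) q9833, e3 q8326 (flp_b L243966) q9834, e3 q8327 (flp_b L243976) q9835, e3 q8328 (flp_b L243985) q9836, e3 q8329 (flp_b L243994) q9837, e3 q8330 (flp_b L244004) q9838, e3 q8331 (flp_b L244014) q9839, e3 q8332 L170225 q6832, e3 q8333 L170233 q6833, e3 q8334 L170242 q6834, e3 q8335 L170250 q6835, e3 q8336 L170260 q6836, e3 q8337 L170270 q6837, e3 q8338 L170280 q6838, e3 q8339 (flp_b L247062) q10127, e3 q8340 (flp_b L247070) q10128, e3 q8341 (flp_b L247079) q10129, e3 q8342 (flp_b L247089) q10130, e3 q8343 (flp_b L247097) q10131, e3 q8344 L247198 q10139, e3 q8345 (flp_b L247113) q10133, e3 q8346 (flp_b L247124) q10134, e3 q8347 (flp_b L170352) q6839, e3 q8348 (flp_b L614140) q10051, e3 q8349 (flp_b L247236) q10142, e3 q8350 L170382 q8350, e3 q8351 L170390 q8351, e3 q8352 L170400 q8352, e3 q8353 L170409 q8353, e3 q8354 L170420 q8354, e3 q8355 L170430 q8355,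 e3 q8356 L170437 q8356, e3 q8357 L170446 q8357, e3 q8358 L170453 q8358, e3 q8359 L170461 q8359, e3 q8360 L170470 q6850, e3 q8361 L170478 q6851, e3 q8362 L170485 q6852, e3 q8363 L170494 q6853, e3 q8364 L170504 q6854, e3 q8365 (flp_b L247412) q10158, e3 q8366 (flp_b L614333) q10143, e3 q8367 (flp_b L247429) q10159, e3 q8368 (flp_b L247437) q10160, e3 q8369 (flp_b L247445) q10161, e3 q8370 (flp_b L247453) q10162, e3 q8371 (flp_b L247463) q10163, e3 q8372 L170574 q6856, e3 q8373 L170582 q6857, e3 q8374 (flp_b L247545) q10172, e3 q8375 (flp_b L247554) q10173, e3 q8376 (flp_b L247564) q10174, e3 q8377 L550781 q9884, e3 q8378 (flp_b L247578) q10175, e3 q8379 L170641 q8379, e3 q8380 L170651 q8380, e3 q8381 L170660 q8381, e3 q8382 L170671 q8382, e3 q8383 L170680 q8383, trivial⟩ (by decide +kernel)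

theorem ce_b_131 : ∀ r, r < 64 → sm gb (Qf (8384 + r)) = Qf (tab Gen.b (8384 + r)) :=
  edges_tab (sm gb) Qf (tab Gen.b) 8384 [(8384, 9849), (8385, 9850), (8386, 9851), (8387, 9852), (8388, 9853), (8389, 9854), (8390, 9855), (8391, 6885), (8392, 9856), (8393, 6873), (8394, 6874), (8395, 6875), (8396, 6876), (8397, 6877), (8398, 6878), (8399, 6879), (8400, 10206), (8401, 10207), (8402, 10208), (8403, 10209), (8404, 10210), (8405, 10222), (8406, 10212), (8407, 10213), (8408, 6882), (8409, 6883), (8410, 6884), (8411, 6886), (8412, 10225), (8413, 10226), (8414, 10227), (8415, 10228), (8416, 10229), (8417, 10203), (8418, 10230), (8419, 10204), (8420, 8420), (8421, 8421), (8422, 8422), (8423, 8423), (8424, 8424), (8425, 8425), (8426, 8426), (8427, 9892), (8428, 9893), (8429, 9894), (8430, 9895), (8431, 9896), (8432, 9897), (8433, 9898), (8434, 9899), (8435, 9900), (8436, 9901), (8437, 9902), (8438, 9903), (8439, 9904), (8440, 9905), (8441, 9906), (8442, 6908), (8443, 6909), (8444, 6910), (8445, 6911), (8446, 6912), (8447, 10283)]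
    ⟨e3 q8384 (flp_b L244270) q9849, e3 q8385 (flp_b L244279) q9850, e3 q8386 (flp_b L244289) q9851, e3 q8387 (flp_b L244299) q9852, e3 q8388 (flp_b L244310) q9853, e3 q8389 (flp_b L244320) q9854, e3 q8390 (flp_b L244328) q9855, e3 q8391 L553591 q6885, e3 q8392 (flp_b L244348) q9856, e3 q8393 L170754 q6873, e3 q8394 L170765 q6874, e3 q8395 L170774 q6875, e3 q8396 L170782 q6876, e3 q8397 L170789 q6877, e3 q8398 L170799 q6878, e3 q8399 L170807 q6879, e3 q8400 (flp_b L247852) q10206, e3 q8401 (flp_b L247863) q10207, e3 q8402 (flp_b L247873) q10208, e3 q8403 (flp_b L247881) q10209, e3 q8404 (flp_b L247888) q10210, e3 q8405 L247985 q10222, e3 q8406 (flp_b L247903) q10212, e3 q8407 (flp_b L247911) q10213, e3 q8408 L170880 q6882, e3 q8409 L170887 q6883, e3 q8410 L170895 q6884, e3 q8411 L170909 q6886, e3 q8412 (flp_b L248007) q10225, e3 q8413 (flp_b L248014) q10226, e3 q8414 (flp_b L248021) q10227, e3 q8415 (flp_b L248030) q10228, e3 q8416 (flp_b L248038) q10229, e3 q8417 L553434 q10203, e3 q8418 (flp_b L248054) q10230, e3 q8419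 (flp_b L553572) q10204, e3 q8420 L171000 q8420, e3 q8421 L171010 q8421, e3 q8422 L171018 q8422, e3 q8423 L171027 q8423, e3 q8424 L171036 q8424, e3 q8425 L171045 q8425, e3 q8426 L171055 q8426, e3 q8427 (flp_b L244679) q9892, e3 q8428 (flp_b L244686) q9893, e3 q8429 (flp_b L244693) q9894, e3 q8430 (flp_b L244703) q9895, e3 q8431 (flp_b L244711) q9896, e3 q8432 (flp_b L244721) q9897, e3 q8433 (flp_b L244727) q9898, e3 q8434 (flp_b L244737) q9899, e3 q8435 (flp_b L244747) q9900, e3 q8436 (flp_b L244756) q9901, e3 q8437 (flp_b L244766) q9902, e3 q8438 (flp_b L244771) q9903, e3 q8439 (flp_b L244779) q9904, e3 q8440 (flp_b L244786) q9905, e3 q8441 (flp_b L244796) q9906, e3 q8442 L171165 q6908, e3 q8443 L171174 q6909, e3 q8444 L171184 q6910, e3 q8445 L171192 q6911, e3 q8446 L171200 q6912, e3 q8447 L248516 q10283, trivial⟩ (by decide +kernel)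

theorem ce_b_132 : ∀ r, r < 64 → sm gb (Qf (8448 + r)) = Qf (tab Gen.b (8448 + r)) :=
  edges_tab (sm gb) Qf (tab Gen.b) 8448 [(8448, 6914), (8449, 6915), (8450, 10275), (8451, 10276), (8452, 10277), (8453, 10278), (8454, 10279), (8455, 10280), (8456, 10293), (8457, 10282), (8458, 6913), (8459, 10297), (8460, 10285), (8461, 6917), (8462, 6918), (8463, 10164), (8464, 10299), (8465, 10300), (8466, 10301), (8467, 8467), (8468, 8468), (8469, 8469), (8470, 8470), (8471, 8471), (8472, 8472), (8473, 8473), (8474, 8474), (8475, 8475), (8476, 8476), (8477, 8477), (8478, 6933), (8479, 6934), (8480, 6935), (8481, 6937), (8482, 6938), (8483, 6939), (8484, 7948), (8485, 10319), (8486, 10320), (8487, 7935), (8488, 10321), (8489, 10330), (8490, 7936), (8491, 10322), (8492, 6942), (8493, 6943), (8494, 6944), (8495, 6946), (8496, 10332), (8497, 10333), (8498, 10334), (8499, 10335), (8500, 9977), (8501, 10336), (8502, 9978), (8503, 8503), (8504, 8504), (8505, 8505), (8506, 8506), (8507, 8507), (8508, 8508), (8509, 9924), (8510, 9925), (8511,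 9926)]
    ⟨e3 q8448 L171214 q6914, e3 q8449 L171223 q6915, e3 q8450 (flp_b L248449) q10275, e3 q8451 (flp_b L248458) q10276, e3 q8452 (flp_b L248468) q10277, e3 q8453 (flp_b L248477) q10278, e3 q8454 (flp_b L248487) q10279, e3 q8455 (flp_b L248495) q10280, e3 q8456 L248606 q10293, e3 q8457 (flp_b L248509) q10282, e3 q8458 (flp_b L171293) q6913, e3 q8459 (flp_b L248636) q10297, e3 q8460 (flp_b L248533) q10285, e3 q8461 L171317 q6917, e3 q8462 L171326 q6918, e3 q8463 (flp_b L614351) q10164, e3 q8464 (flp_b L248670) q10299, e3 q8465 (flp_b L248679) q10300, e3 q8466 (flp_b L248686) q10301, e3 q8467 L171397 q8467, e3 q8468 L171406 q8468, e3 q8469 L171415 q8469, e3 q8470 L171433 q8470, e3 q8471 L171441 q8471, e3 q8472 L171450 q8472, e3 q8473 L171458 q8473, e3 q8474 L171465 q8474, e3 q8475 L171474 q8475, e3 q8476 L171483 q8476, e3 q8477 L171491 q8477, e3 q8478 L171499 q6933, e3 q8479 L171507 q6934, e3 q8480 L171517 q6935, e3 q8481 L171535 q6937, e3 q8482 L171544 q6938, e3 q8483 L171553 q6939, e3 q8484 L616278 q7948, e3 q8485 (flp_b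 L248980) q10319, e3 q8486 (flp_b L248987) q10320, e3 q8487 L561759 q7935, e3 q8488 (flp_b L249006) q10321, e3 q8489 L249113 q10330, e3 q8490 (flp_b L561763) q7936, e3 q8491 (flp_b L249033) q10322, e3 q8492 L171634 q6942, e3 q8493 L171644 q6943, e3 q8494 L171652 q6944, e3 q8495 L171666 q6946, e3 q8496 (flp_b L249154) q10332, e3 q8497 (flp_b L249163) q10333, e3 q8498 (flp_b L249173) q10334, e3 q8499 (flp_b L249182) q10335, e3 q8500 (flp_b L554492) q9977, e3 q8501 (flp_b L249197) q10336, e3 q8502 L550745 q9978, e3 q8503 L171763 q8503, e3 q8504 L171774 q8504, e3 q8505 L171786 q8505, e3 q8506 L171805 q8506, e3 q8507 L171817 q8507, e3 q8508 L171825 q8508, e3 q8509 (flp_b L245159) q9924, e3 q8510 (flp_b L245169) q9925, e3 q8511 (flp_b L245178) q9926, trivial⟩ (by decide +kernel)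

theorem ce_b_133 : ∀ r, r < 64 → sm gb (Qf (8512 + r)) = Qf (tab Gen.b (8512 + r)) :=
  edges_tab (sm gb) Qf (tab Gen.b) 8512 [(8512, 9927), (8513, 9928), (8514, 9929), (8515, 9930), (8516, 9931), (8517, 9932), (8518, 9933), (8519, 9934), (8520, 9935), (8521, 6985), (8522, 6987), (8523, 9936), (8524, 6968), (8525, 6969), (8526, 6970), (8527, 6971), (8528, 6972), (8529, 10384), (8530, 6974), (8531, 6975), (8532, 10376), (8533, 10377), (8534, 10378), (8535, 10379), (8536, 10380), (8537, 10381), (8538, 10394), (8539, 10383), (8540, 6973), (8541, 10398), (8542, 7609), (8543, 6980), (8544, 6981), (8545, 6982), (8546, 6983), (8547, 6984), (8548, 6986), (8549, 10400), (8550, 10401), (8551, 10402), (8552, 10403), (8553, 10404), (8554, 10405), (8555, 10406), (8556, 10407), (8557, 10373), (8558, 10408), (8559, 10370), (8560, 10374), (8561, 10375), (8562, 8562), (8563, 8563), (8564, 8564), (8565, 8565), (8566, 8566), (8567, 10436), (8568, 8568), (8569, 8569), (8570, 9988), (8571, 9989), (8572, 9990), (8573, 9991), (8574, 9992), (8575,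 9993)]
    ⟨e3 q8512 (flp_b L245188) q9927, e3 q8513 (flp_b L245199) q9928, e3 q8514 (flp_b L245209) q9929, e3 q8515 (flp_b L245216) q9930, e3 q8516 (flp_b L245229) q9931, e3 q8517 (flp_b L245238) q9932, e3 q8518 (flp_b L245246) q9933, e3 q8519 (flp_b L245256) q9934, e3 q8520 (flp_b L245263) q9935, e3 q8521 (flp_b L550702) q6985, e3 q8522 L550759 q6987, e3 q8523 (flp_b L245292) q9936, e3 q8524 L171940 q6968, e3 q8525 L171950 q6969, e3 q8526 L171958 q6970, e3 q8527 L171967 q6971, e3 q8528 L171975 q6972, e3 q8529 L249680 q10384, e3 q8530 L171992 q6974, e3 q8531 L172001 q6975, e3 q8532 (flp_b L249609) q10376, e3 q8533 (flp_b L249620) q10377, e3 q8534 (flp_b L249628) q10378, e3 q8535 (flp_b L249638) q10379, e3 q8536 (flp_b L249648) q10380, e3 q8537 (flp_b L249657) q10381, e3 q8538 L249774 q10394, e3 q8539 (flp_b L249674) q10383, e3 q8540 (flp_b L172075) q6973, e3 q8541 (flp_b L249806) q10398, e3 q8542 (flp_b L561971) q7609, e3 q8543 L172102 q6980, e3 q8544 L172110 q6981, e3 q8545 L172117 q6982, e3 q8546 L172127 q6983, e3 q8547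 L172134 q6984, e3 q8548 L172149 q6986, e3 q8549 (flp_b L249832) q10400, e3 q8550 (flp_b L249839) q10401, e3 q8551 (flp_b L249847) q10402, e3 q8552 (flp_b L249854) q10403, e3 q8553 (flp_b L249862) q10404, e3 q8554 (flp_b L249871) q10405, e3 q8555 (flp_b L249878) q10406, e3 q8556 (flp_b L249888) q10407, e3 q8557 L553422 q10373, e3 q8558 (flp_b L249903) q10408, e3 q8559 L550680 q10370, e3 q8560 L553379 q10374, e3 q8561 L550738 q10375, e3 q8562 L172312 q8562, e3 q8563 L172321 q8563, e3 q8564 L172330 q8564, e3 q8565 L172340 q8565, e3 q8566 L172350 q8566, e3 q8567 L250253 q10436, e3 q8568 L172369 q8568, e3 q8569 L172380 q8569, e3 q8570 (flp_b L245767) q9988, e3 q8571 (flp_b L245776) q9989, e3 q8572 (flp_b L245785) q9990, e3 q8573 (flp_b L245793) q9991, e3 q8574 (flp_b L245802) q9992, e3 q8575 (flp_b L245811) q9993, trivial⟩ (by decide +kernel)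

theorem ce_b_134 : ∀ r, r < 64 → sm gb (Qf (8576 + r)) = Qf (tab Gen.b (8576 + r)) :=
  edges_tab (sm gb) Qf (tab Gen.b) 8576 [(8576, 9994), (8577, 9995), (8578, 9996), (8579, 9997), (8580, 10456), (8581, 9999), (8582, 10000), (8583, 10001), (8584, 10002), (8585, 10003), (8586, 10004), (8587, 10005), (8588, 10006), (8589, 10007), (8590, 10008), (8591, 10009), (8592, 10010), (8593, 7018), (8594, 7019), (8595, 7020), (8596, 7021), (8597, 7022), (8598, 7023), (8599, 10481), (8600, 7025), (8601, 7015), (8602, 10485), (8603, 7028), (8604, 10473), (8605, 10474), (8606, 10475), (8607, 10492), (8608, 10477), (8609, 10478), (8610, 10497), (8611, 10480), (8612, 7024), (8613, 10501), (8614, 10483), (8615, 8615), (8616, 7027), (8617, 10504), (8618, 7933), (8619, 7934), (8620, 7958), (8621, 7037), (8622, 8622), (8623, 8623), (8624, 8624), (8625, 8625), (8626, 8626), (8627, 8627), (8628, 7049), (8629, 7050), (8630, 7051), (8631, 7053), (8632, 10519), (8633, 7048), (8634, 10514), (8635, 10515), (8636, 7610), (8637, 10525), (8638, 10517),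 (8639, 7606)]
    ⟨e3 q8576 (flp_b L245819) q9994, e3 q8577 (flp_b L245829) q9995, e3 q8578 (flp_b L245840) q9996, e3 q8579 (flp_b L245846) q9997, e3 q8580 L250410 q10456, e3 q8581 (flp_b L245863) q9999, e3 q8582 (flp_b L245870) q10000, e3 q8583 (flp_b L245879) q10001, e3 q8584 (flp_b L245887) q10002, e3 q8585 (flp_b L245896) q10003, e3 q8586 (flp_b L245903) q10004, e3 q8587 (flp_b L245911) q10005, e3 q8588 (flp_b L245919) q10006, e3 q8589 (flp_b L245926) q10007, e3 q8590 (flp_b L245934) q10008, e3 q8591 (flp_b L245941) q10009, e3 q8592 (flp_b L245950) q10010, e3 q8593 L172547 q7018, e3 q8594 L172556 q7019, e3 q8595 L172564 q7020, e3 q8596 L172574 q7021, e3 q8597 L172582 q7022, e3 q8598 L172592 q7023, e3 q8599 L250603 q10481, e3 q8600 L172608 q7025, e3 q8601 (flp_b L172615) q7015, e3 q8602 (flp_b L250640) q10485, e3 q8603 L172635 q7028, e3 q8604 (flp_b L250533) q10473, e3 q8605 (flp_b L250542) q10474, e3 q8606 (flp_b L250552) q10475, e3 q8607 L250702 q10492, e3 q8608 (flp_b L250568) q10477, e3 q8609 (flp_b L250577) q10478,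 e3 q8610 L250746 q10497, e3 q8611 (flp_b L250595) q10480, e3 q8612 (flp_b L172711) q7024, e3 q8613 (flp_b L250782) q10501, e3 q8614 (flp_b L250621) q10483, e3 q8615 L172742 q8615, e3 q8616 L172745 q7027, e3 q8617 (flp_b L250808) q10504, e3 q8618 (flp_b L561702) q7933, e3 q8619 (flp_b L561686) q7934, e3 q8620 L616636 q7958, e3 q8621 (flp_b L173526) q7037, e3 q8622 L173791 q8622, e3 q8623 L173865 q8623, e3 q8624 L173874 q8624, e3 q8625 L173883 q8625, e3 q8626 L173897 q8626, e3 q8627 L173906 q8627, e3 q8628 L174052 q7049, e3 q8629 L174062 q7050, e3 q8630 L174071 q7051, e3 q8631 L174090 q7053, e3 q8632 L252836 q10519, e3 q8633 (flp_b L174118) q7048, e3 q8634 (flp_b L252772) q10514, e3 q8635 (flp_b L252782) q10515, e3 q8636 (flp_b L563155) q7610, e3 q8637 L252922 q10525, e3 q8638 (flp_b L252807) q10517, e3 q8639 (flp_b L561825) q7606, trivial⟩ (by decide +kernel)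

theorem ce_b_135 : ∀ r, r < 64 → sm gb (Qf (8640 + r)) = Qf (tab Gen.b (8640 + r)) :=
  edges_tab (sm gb) Qf (tab Gen.b) 8640 [(8640, 7957), (8641, 7607), (8642, 7055), (8643, 10528), (8644, 7608), (8645, 8645), (8646, 7058), (8647, 10531), (8648, 7597), (8649, 7599), (8650, 7602), (8651, 7513), (8652, 7594), (8653, 8653), (8654, 8654), (8655, 8655), (8656, 8656), (8657, 10544), (8658, 7068), (8659, 8659), (8660, 8660), (8661, 8661), (8662, 8662), (8663, 8663), (8664, 8664), (8665, 10556), (8666, 8666), (8667, 8667), (8668, 8668), (8669, 8669), (8670, 8670), (8671, 10563), (8672, 7078), (8673, 7090), (8674, 7091), (8675, 7092), (8676, 10570), (8677, 7094), (8678, 7095), (8679, 10575), (8680, 7097), (8681, 7085), (8682, 10579), (8683, 7100), (8684, 10545), (8685, 7088), (8686, 10582), (8687, 10565), (8688, 10566), (8689, 10587), (8690, 10568), (8691, 10569), (8692, 7093), (8693, 10590), (8694, 10591), (8695, 10573), (8696, 10574), (8697, 7096), (8698, 10595), (8699, 10577), (8700, 8700), (8701, 7099), (8702, 10598), (8703,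 8703)]
    ⟨e3 q8640 L616068 q7957, e3 q8641 L561837 q7607, e3 q8642 (flp_b L174207) q7055, e3 q8643 (flp_b L252994) q10528, e3 q8644 (flp_b L562394) q7608, e3 q8645 L174233 q8645, e3 q8646 L174236 q7058, e3 q8647 (flp_b L253017) q10531, e3 q8648 (flp_b L563061) q7597, e3 q8649 (flp_b L542560) q7599, e3 q8650 L562170 q7602, e3 q8651 (flp_b L543679) q7513, e3 q8652 (flp_b L563054) q7594, e3 q8653 L174569 q8653, e3 q8654 L174578 q8654, e3 q8655 L174588 q8655, e3 q8656 L174607 q8656, e3 q8657 L253593 q10544, e3 q8658 (flp_b L174639) q7068, e3 q8659 L174667 q8659, e3 q8660 L174674 q8660, e3 q8661 L174681 q8661, e3 q8662 L174688 q8662, e3 q8663 L174695 q8663, e3 q8664 L174702 q8664, e3 q8665 L253726 q10556, e3 q8666 L174723 q8666, e3 q8667 L174731 q8667, e3 q8668 L174740 q8668, e3 q8669 L174750 q8669, e3 q8670 L174767 q8670, e3 q8671 L253839 q10563, e3 q8672 (flp_b L174801) q7078, e3 q8673 L174892 q7090, e3 q8674 L174902 q7091, e3 q8675 L174910 q7092, e3 q8676 L254022 q10570, e3 q8677 L174925 q7094, e3 q8678 L174933 q7095, e3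 q8679 L254063 q10575, e3 q8680 L174949 q7097, e3 q8681 (flp_b L174957) q7085, e3 q8682 (flp_b L254096) q10579, e3 q8683 L174973 q7100, e3 q8684 (flp_b L253623) q10545, e3 q8685 L174988 q7088, e3 q8686 (flp_b L254122) q10582, e3 q8687 (flp_b L253981) q10565, e3 q8688 (flp_b L253990) q10566, e3 q8689 L254162 q10587, e3 q8690 (flp_b L254006) q10568, e3 q8691 (flp_b L254014) q10569, e3 q8692 (flp_b L175046) q7093, e3 q8693 (flp_b L254213) q10590, e3 q8694 (flp_b L254220) q10591, e3 q8695 (flp_b L254047) q10573, e3 q8696 (flp_b L254057) q10574, e3 q8697 (flp_b L175087) q7096, e3 q8698 (flp_b L254272) q10595, e3 q8699 (flp_b L254081) q10577, e3 q8700 L175117 q8700, e3 q8701 L175120 q7099, e3 q8702 (flp_b L254299) q10598, e3 q8703 L175138 q8703, trivial⟩ (by decide +kernel)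

theorem ce_b_136 : ∀ r, r < 64 → sm gb (Qf (8704 + r)) = Qf (tab Gen.b (8704 + r)) :=
  edges_tab (sm gb) Qf (tab Gen.b) 8704 [(8704, 7103), (8705, 10601), (8706, 8706), (8707, 7111), (8708, 7112), (8709, 8709), (8710, 8710), (8711, 7117), (8712, 7118), (8713, 8713), (8714, 8714), (8715, 7126), (8716, 7127), (8717, 7128), (8718, 7129), (8719, 10604), (8720, 10605), (8721, 10606), (8722, 8722), (8723, 8723), (8724, 8724), (8725, 7138), (8726, 7139), (8727, 7140), (8728, 10610), (8729, 10611), (8730, 8730), (8731, 8731), (8732, 8732), (8733, 7151), (8734, 7152), (8735, 7153), (8736, 7154), (8737, 7155), (8738, 7156), (8739, 7157), (8740, 10614), (8741, 10615), (8742, 10616), (8743, 10617), (8744, 10618), (8745, 10626), (8746, 10619), (8747, 7662), (8748, 7338), (8749, 7339), (8750, 7340), (8751, 7342), (8752, 7167), (8753, 7168), (8754, 7169), (8755, 7170), (8756, 7171), (8757, 10633), (8758, 10634), (8759, 7173), (8760, 7174), (8761, 10635), (8762, 7884), (8763, 10636), (8764, 7332), (8765, 10637), (8766, 8766), (8767, 8767)]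
    ⟨e3 q8704 L175146 q7103, e3 q8705 (flp_b L254321) q10601, e3 q8706 L175341 q8706, e3 q8707 L175471 q7111, e3 q8708 L175485 q7112, e3 q8709 L175765 q8709, e3 q8710 L175776 q8710, e3 q8711 L175783 q7117, e3 q8712 L175809 q7118, e3 q8713 L175901 q8713, e3 q8714 L175945 q8714, e3 q8715 L175983 q7126, e3 q8716 L175991 q7127, e3 q8717 L176007 q7128, e3 q8718 L176014 q7129, e3 q8719 (flp_b L255584) q10604, e3 q8720 (flp_b L255600) q10605, e3 q8721 (flp_b L255608) q10606, e3 q8722 L176379 q8722, e3 q8723 L176386 q8723, e3 q8724 L176396 q8724, e3 q8725 L176417 q7138, e3 q8726 L176427 q7139, e3 q8727 L176449 q7140, e3 q8728 (flp_b L256226) q10610, e3 q8729 (flp_b L256259) q10611, e3 q8730 L176568 q8730, e3 q8731 L176607 q8731, e3 q8732 L176614 q8732, e3 q8733 L176673 q7151, e3 q8734 L176680 q7152, e3 q8735 L176688 q7153, e3 q8736 L176696 q7154, e3 q8737 L176703 q7155, e3 q8738 L176709 q7156, e3 q8739 L176717 q7157, e3 q8740 (flp_b L256625) q10614, e3 q8741 (flp_b L256634) q10615, e3 q8742 (flp_b L256641) q10616, e3 q8743 (flp_b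 L256649) q10617, e3 q8744 (flp_b L256658) q10618, e3 q8745 L256747 q10626, e3 q8746 (flp_b L256671) q10619, e3 q8747 L592681 q7662, e3 q8748 L177026 q7338, e3 q8749 L177036 q7339, e3 q8750 L177047 q7340, e3 q8751 L177066 q7342, e3 q8752 L177077 q7167, e3 q8753 L177085 q7168, e3 q8754 L177093 q7169, e3 q8755 L177104 q7170, e3 q8756 L177111 q7171, e3 q8757 (flp_b L257256) q10633, e3 q8758 (flp_b L257275) q10634, e3 q8759 L177187 q7173, e3 q8760 L177198 q7174, e3 q8761 (flp_b L257357) q10635, e3 q8762 (flp_b L621603) q7884, e3 q8763 (flp_b L257376) q10636, e3 q8764 (flp_b L576227) q7332, e3 q8765 (flp_b L257398) q10637, e3 q8766 L177254 q8766, e3 q8767 L177261 q8767, trivial⟩ (by decide +kernel)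

theorem ce_b_137 : ∀ r, r < 64 → sm gb (Qf (8768 + r)) = Qf (tab Gen.b (8768 + r)) :=
  edges_tab (sm gb) Qf (tab Gen.b) 8768 [(8768, 8768), (8769, 8769), (8770, 8770), (8771, 7365), (8772, 7366), (8773, 7367), (8774, 7369), (8775, 7370), (8776, 7371), (8777, 7372), (8778, 7373), (8779, 7190), (8780, 7191), (8781, 7192), (8782, 7193), (8783, 7194), (8784, 7195), (8785, 7196), (8786, 10659), (8787, 10660), (8788, 10661), (8789, 10662), (8790, 10669), (8791, 10664), (8792, 10665), (8793, 7697), (8794, 7699), (8795, 7399), (8796, 7400), (8797, 7401), (8798, 7402), (8799, 7403), (8800, 7405), (8801, 7209), (8802, 7210), (8803, 7211), (8804, 7212), (8805, 7213), (8806, 7214), (8807, 7215), (8808, 10680), (8809, 10681), (8810, 10682), (8811, 10684), (8812, 10685), (8813, 7218), (8814, 7219), (8815, 7220), (8816, 7222), (8817, 10688), (8818, 10689), (8819, 10690), (8820, 7892), (8821, 10691), (8822, 7392), (8823, 10692), (8824, 7393), (8825, 8825), (8826, 8826), (8827, 8827), (8828, 8828), (8829, 8829), (8830, 8830), (8831, 8831)]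
    ⟨e3 q8768 L177270 q8768, e3 q8769 L177280 q8769, e3 q8770 L177289 q8770, e3 q8771 L177297 q7365, e3 q8772 L177305 q7366, e3 q8773 L177313 q7367, e3 q8774 L177334 q7369, e3 q8775 L177343 q7370, e3 q8776 L177354 q7371, e3 q8777 L177364 q7372, e3 q8778 L177374 q7373, e3 q8779 L177384 q7190, e3 q8780 L177389 q7191, e3 q8781 L177397 q7192, e3 q8782 L177405 q7193, e3 q8783 L177412 q7194, e3 q8784 L177420 q7195, e3 q8785 L177430 q7196, e3 q8786 (flp_b L257699) q10659, e3 q8787 (flp_b L257706) q10660, e3 q8788 (flp_b L257716) q10661, e3 q8789 (flp_b L257723) q10662, e3 q8790 L257819 q10669, e3 q8791 (flp_b L257736) q10664, e3 q8792 (flp_b L257745) q10665, e3 q8793 (flp_b L549755) q7697, e3 q8794 (flp_b L549728) q7699, e3 q8795 L177837 q7399, e3 q8796 L177845 q7400, e3 q8797 L177855 q7401, e3 q8798 L177863 q7402, e3 q8799 L177875 q7403, e3 q8800 L177893 q7405, e3 q8801 L177919 q7209, e3 q8802 L177927 q7210, e3 q8803 L177935 q7211, e3 q8804 L177943 q7212, e3 q8805 L177947 q7213, e3 q8806 L177955 q7214, e3 q8807 L177963 q7215, e3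 q8808 (flp_b L258486) q10680, e3 q8809 (flp_b L258496) q10681, e3 q8810 (flp_b L258518) q10682, e3 q8811 (flp_b L258530) q10684, e3 q8812 (flp_b L258536) q10685, e3 q8813 L178041 q7218, e3 q8814 L178048 q7219, e3 q8815 L178059 q7220, e3 q8816 L178078 q7222, e3 q8817 (flp_b L258630) q10688, e3 q8818 (flp_b L258638) q10689, e3 q8819 (flp_b L258647) q10690, e3 q8820 L622197 q7892, e3 q8821 (flp_b L258667) q10691, e3 q8822 L576454 q7392, e3 q8823 (flp_b L258688) q10692, e3 q8824 (flp_b L601508) q7393, e3 q8825 L178164 q8825, e3 q8826 L178171 q8826, e3 q8827 L178178 q8827, e3 q8828 L178187 q8828, e3 q8829 L178193 q8829, e3 q8830 L178200 q8830, e3 q8831 L178210 q8831, trivial⟩ (by decide +kernel)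

theorem ce_b_138 : ∀ r, r < 64 → sm gb (Qf (8832 + r)) = Qf (tab Gen.b (8832 + r)) :=
  edges_tab (sm gb) Qf (tab Gen.b) 8832 [(8832, 7437), (8833, 7438), (8834, 7439), (8835, 7440), (8836, 7441), (8837, 7442), (8838, 7443), (8839, 7444), (8840, 7445), (8841, 7446), (8842, 7447), (8843, 7448), (8844, 7449), (8845, 7450), (8846, 7244), (8847, 7245), (8848, 7246), (8849, 7247), (8850, 7248), (8851, 10736), (8852, 7250), (8853, 7251), (8854, 10728), (8855, 10729), (8856, 10730), (8857, 10731), (8858, 10732), (8859, 10733), (8860, 10747), (8861, 10735), (8862, 7249), (8863, 10751), (8864, 10738), (8865, 7750), (8866, 7751), (8867, 10755), (8868, 7753), (8869, 7754), (8870, 7483), (8871, 7484), (8872, 7485), (8873, 7486), (8874, 7487), (8875, 7488), (8876, 7489), (8877, 7490), (8878, 7492), (8879, 7270), (8880, 7271), (8881, 7272), (8882, 7273), (8883, 7274), (8884, 10779), (8885, 7276), (8886, 7277), (8887, 10771), (8888, 10772), (8889, 10773), (8890, 10774), (8891, 10775), (8892, 10776), (8893, 10787), (8894, 10778), (8895,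 7275)]
    ⟨e3 q8832 L178218 q7437, e3 q8833 L178226 q7438, e3 q8834 L178232 q7439, e3 q8835 L178240 q7440, e3 q8836 L178248 q7441, e3 q8837 L178258 q7442, e3 q8838 L178262 q7443, e3 q8839 L178270 q7444, e3 q8840 L178280 q7445, e3 q8841 L178291 q7446, e3 q8842 L178301 q7447, e3 q8843 L178308 q7448, e3 q8844 L178317 q7449, e3 q8845 L178324 q7450, e3 q8846 L178342 q7244, e3 q8847 L178350 q7245, e3 q8848 L178358 q7246, e3 q8849 L178366 q7247, e3 q8850 L178373 q7248, e3 q8851 L259162 q10736, e3 q8852 L178384 q7250, e3 q8853 L178391 q7251, e3 q8854 (flp_b L259105) q10728, e3 q8855 (flp_b L259111) q10729, e3 q8856 (flp_b L259121) q10730, e3 q8857 (flp_b L259127) q10731, e3 q8858 (flp_b L259135) q10732, e3 q8859 (flp_b L259142) q10733, e3 q8860 L259240 q10747, e3 q8861 (flp_b L259155) q10735, e3 q8862 (flp_b L178461) q7249, e3 q8863 (flp_b L259271) q10751, e3 q8864 (flp_b L259174) q10738, e3 q8865 L549421 q7750, e3 q8866 (flp_b L549396) q7751, e3 q8867 L259744 q10755, e3 q8868 L549242 q7753, e3 q8869 L592544 q7754, e3 q8870 L178991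 q7483, e3 q8871 L179002 q7484, e3 q8872 L179010 q7485, e3 q8873 L179018 q7486, e3 q8874 L179029 q7487, e3 q8875 L179039 q7488, e3 q8876 L179044 q7489, e3 q8877 L179055 q7490, e3 q8878 L179072 q7492, e3 q8879 L179121 q7270, e3 q8880 L179130 q7271, e3 q8881 L179136 q7272, e3 q8882 L179145 q7273, e3 q8883 L179152 q7274, e3 q8884 L260334 q10779, e3 q8885 L179166 q7276, e3 q8886 L179173 q7277, e3 q8887 (flp_b L260273) q10771, e3 q8888 (flp_b L260281) q10772, e3 q8889 (flp_b L260289) q10773, e3 q8890 (flp_b L260296) q10774, e3 q8891 (flp_b L260304) q10775, e3 q8892 (flp_b L260312) q10776, e3 q8893 L260416 q10787, e3 q8894 (flp_b L260328) q10778, e3 q8895 (flp_b L179247) q7275, trivial⟩ (by decide +kernel)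

theorem ce_b_139 : ∀ r, r < 64 → sm gb (Qf (8896 + r)) = Qf (tab Gen.b (8896 + r)) :=
  edges_tab (sm gb) Qf (tab Gen.b) 8896 [(8896, 10791), (8897, 10781), (8898, 7282), (8899, 7283), (8900, 7284), (8901, 7285), (8902, 7286), (8903, 7288), (8904, 10793), (8905, 10794), (8906, 10795), (8907, 10796), (8908, 10797), (8909, 10798), (8910, 10799), (8911, 10800), (8912, 7475), (8913, 10801), (8914, 7473), (8915, 7476), (8916, 8916), (8917, 8917), (8918, 8918), (8919, 8919), (8920, 8920), (8921, 10828), (8922, 8922), (8923, 8923), (8924, 7534), (8925, 7535), (8926, 7536), (8927, 7537), (8928, 7538), (8929, 7539), (8930, 7540), (8931, 7541), (8932, 7542), (8933, 7543), (8934, 10849), (8935, 7545), (8936, 7546), (8937, 7547), (8938, 7548), (8939, 7549), (8940, 7550), (8941, 7551), (8942, 7552), (8943, 7553), (8944, 7554), (8945, 7319), (8946, 7320), (8947, 7321), (8948, 7322), (8949, 7323), (8950, 7324), (8951, 10871), (8952, 7326), (8953, 7316), (8954, 10875), (8955, 7329), (8956, 10863), (8957, 10864), (8958, 10865), (8959, 10882)]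
    ⟨e3 q8896 (flp_b L260449) q10791, e3 q8897 (flp_b L260347) q10781, e3 q8898 L179272 q7282, e3 q8899 L179281 q7283, e3 q8900 L179290 q7284, e3 q8901 L179300 q7285, e3 q8902 L179310 q7286, e3 q8903 L179330 q7288, e3 q8904 (flp_b L260474) q10793, e3 q8905 (flp_b L260484) q10794, e3 q8906 (flp_b L260493) q10795, e3 q8907 (flp_b L260500) q10796, e3 q8908 (flp_b L260510) q10797, e3 q8909 (flp_b L260521) q10798, e3 q8910 (flp_b L260528) q10799, e3 q8911 (flp_b L260538) q10800, e3 q8912 L576459 q7475, e3 q8913 (flp_b L260558) q10801, e3 q8914 (flp_b L601409) q7473, e3 q8915 (flp_b L601466) q7476, e3 q8916 L179491 q8916, e3 q8917 L179499 q8917, e3 q8918 L179506 q8918, e3 q8919 L179516 q8919, e3 q8920 L179525 q8920, e3 q8921 L260904 q10828, e3 q8922 L179541 q8922, e3 q8923 L179550 q8923, e3 q8924 L179557 q7534, e3 q8925 L179564 q7535, e3 q8926 L179574 q7536, e3 q8927 L179583 q7537, e3 q8928 L179590 q7538, e3 q8929 L179598 q7539, e3 q8930 L179606 q7540, e3 q8931 L179614 q7541, e3 q8932 L179625 q7542, e3 q8933 L179631 q7543, e3 q8934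 L261069 q10849, e3 q8935 L179646 q7545, e3 q8936 L179653 q7546, e3 q8937 L179660 q7547, e3 q8938 L179670 q7548, e3 q8939 L179679 q7549, e3 q8940 L179688 q7550, e3 q8941 L179697 q7551, e3 q8942 L179707 q7552, e3 q8943 L179725 q7553, e3 q8944 L179732 q7554, e3 q8945 L179750 q7319, e3 q8946 L179756 q7320, e3 q8947 L179764 q7321, e3 q8948 L179771 q7322, e3 q8949 L179777 q7323, e3 q8950 L179786 q7324, e3 q8951 L261276 q10871, e3 q8952 L179801 q7326, e3 q8953 (flp_b L179808) q7316, e3 q8954 (flp_b L261308) q10875, e3 q8955 L179823 q7329, e3 q8956 (flp_b L261218) q10863, e3 q8957 (flp_b L261225) q10864, e3 q8958 (flp_b L261234) q10865, e3 q8959 L261362 q10882, trivial⟩ (by decide +kernel)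

theorem ce_b_140 : ∀ r, r < 64 → sm gb (Qf (8960 + r)) = Qf (tab Gen.b (8960 + r)) :=
  edges_tab (sm gb) Qf (tab Gen.b) 8960 [(8960, 10867), (8961, 10868), (8962, 10887), (8963, 10870), (8964, 7325), (8965, 10891), (8966, 10873), (8967, 8967), (8968, 7328), (8969, 10894), (8970, 7331), (8971, 10896), (8972, 7885), (8973, 10640), (8974, 10642), (8975, 8975), (8976, 8976), (8977, 8977), (8978, 8978), (8979, 8979), (8980, 10628), (8981, 10629), (8982, 10630), (8983, 7848), (8984, 10631), (8985, 7358), (8986, 10632), (8987, 7359), (8988, 7348), (8989, 7349), (8990, 7350), (8991, 7351), (8992, 7352), (8993, 7353), (8994, 7354), (8995, 10919), (8996, 10921), (8997, 10922), (8998, 7356), (8999, 7357), (9000, 10898), (9001, 10897), (9002, 10917), (9003, 7889), (9004, 10915), (9005, 10918), (9006, 9006), (9007, 9007), (9008, 9008), (9009, 9009), (9010, 9010), (9011, 9011), (9012, 9012), (9013, 7887), (9014, 10649), (9015, 10650), (9016, 7900), (9017, 10651), (9018, 10652), (9019, 10653), (9020, 7898), (9021, 7886), (9022, 10654),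 (9023, 10655)]
    ⟨e3 q8960 (flp_b L261247) q10867, e3 q8961 (flp_b L261253) q10868, e3 q8962 L261397 q10887, e3 q8963 (flp_b L261268) q10870, e3 q8964 (flp_b L179892) q7325, e3 q8965 (flp_b L261436) q10891, e3 q8966 (flp_b L261293) q10873, e3 q8967 L179924 q8967, e3 q8968 L179927 q7328, e3 q8969 (flp_b L261463) q10894, e3 q8970 L179943 q7331, e3 q8971 (flp_b L261477) q10896, e3 q8972 L612433 q7885, e3 q8973 (flp_b L576209) q10640, e3 q8974 L576195 q10642, e3 q8975 L180016 q8975, e3 q8976 L180026 q8976, e3 q8977 L180035 q8977, e3 q8978 L180047 q8978, e3 q8979 L180056 q8979, e3 q8980 (flp_b L257133) q10628, e3 q8981 (flp_b L257143) q10629, e3 q8982 (flp_b L257153) q10630, e3 q8983 L617648 q7848, e3 q8984 (flp_b L257176) q10631, e3 q8985 L576349 q7358, e3 q8986 (flp_b L257195) q10632, e3 q8987 L553545 q7359, e3 q8988 L180144 q7348, e3 q8989 L180152 q7349, e3 q8990 L180163 q7350, e3 q8991 L180171 q7351, e3 q8992 L180179 q7352, e3 q8993 L180189 q7353, e3 q8994 L180199 q7354, e3 q8995 (flp_b L261849) q10919, e3 q8996 (flp_b L261865)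 q10921, e3 q8997 (flp_b L261874) q10922, e3 q8998 L180275 q7356, e3 q8999 L180282 q7357, e3 q9000 L612425 q10898, e3 q9001 L611870 q10897, e3 q9002 (flp_b L553479) q10917, e3 q9003 L622575 q7889, e3 q9004 (flp_b L504155) q10915, e3 q9005 (flp_b L576388) q10918, e3 q9006 L180409 q9006, e3 q9007 L180416 q9007, e3 q9008 L180426 q9008, e3 q9009 L180435 q9009, e3 q9010 L180445 q9010, e3 q9011 L180454 q9011, e3 q9012 L180466 q9012, e3 q9013 (flp_b L612257) q7887, e3 q9014 (flp_b L257562) q10649, e3 q9015 (flp_b L257570) q10650, e3 q9016 (flp_b L617558) q7900, e3 q9017 (flp_b L257587) q10651, e3 q9018 (flp_b L257597) q10652, e3 q9019 (flp_b L257603) q10653, e3 q9020 (flp_b L621517) q7898, e3 q9021 (flp_b L621658) q7886, e3 q9022 (flp_b L257634) q10654, e3 q9023 (flp_b L257643) q10655, trivial⟩ (by decide +kernel)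

theorem ce_b_141 : ∀ r, r < 64 → sm gb (Qf (9024 + r)) = Qf (tab Gen.b (9024 + r)) :=
  edges_tab (sm gb) Qf (tab Gen.b) 9024 [(9024, 10656), (9025, 10657), (9026, 10658), (9027, 7381), (9028, 7382), (9029, 7383), (9030, 7384), (9031, 7385), (9032, 10965), (9033, 7387), (9034, 7388), (9035, 10957), (9036, 10958), (9037, 10959), (9038, 10960), (9039, 10961), (9040, 10962), (9041, 10974), (9042, 10964), (9043, 7386), (9044, 10978), (9045, 10967), (9046, 7390), (9047, 7391), (9048, 10926), (9049, 10980), (9050, 10700), (9051, 7895), (9052, 10698), (9053, 10701), (9054, 9054), (9055, 9055), (9056, 9056), (9057, 9057), (9058, 9058), (9059, 9059), (9060, 9060), (9061, 10671), (9062, 10672), (9063, 10673), (9064, 10674), (9065, 10675), (9066, 10676), (9067, 10677), (9068, 10678), (9069, 7428), (9070, 10679), (9071, 7426), (9072, 7429), (9073, 7414), (9074, 7415), (9075, 7416), (9076, 7417), (9077, 7418), (9078, 11022), (9079, 7420), (9080, 7421), (9081, 11015), (9082, 11016), (9083, 11017), (9084, 11018), (9085, 11019), (9086,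 11021), (9087, 7419)]
    ⟨e3 q9024 (flp_b L257652) q10656, e3 q9025 (flp_b L257663) q10657, e3 q9026 (flp_b L257672) q10658, e3 q9027 L180590 q7381, e3 q9028 L180598 q7382, e3 q9029 L180605 q7383, e3 q9030 L180615 q7384, e3 q9031 L180624 q7385, e3 q9032 L262535 q10965, e3 q9033 L180639 q7387, e3 q9034 L180649 q7388, e3 q9035 (flp_b L262468) q10957, e3 q9036 (flp_b L262476) q10958, e3 q9037 (flp_b L262485) q10959, e3 q9038 (flp_b L262492) q10960, e3 q9039 (flp_b L262499) q10961, e3 q9040 (flp_b L262510) q10962, e3 q9041 L262626 q10974, e3 q9042 (flp_b L262527) q10964, e3 q9043 (flp_b L180721) q7386, e3 q9044 (flp_b L262660) q10978, e3 q9045 (flp_b L262554) q10967, e3 q9046 L180747 q7390, e3 q9047 L180754 q7391, e3 q9048 (flp_b L617567) q10926, e3 q9049 (flp_b L262686) q10980, e3 q9050 (flp_b L550089) q10700, e3 q9051 (flp_b L622250) q7895, e3 q9052 L576469 q10698, e3 q9053 L576542 q10701, e3 q9054 L180877 q9054, e3 q9055 L180887 q9055, e3 q9056 L180897 q9056, e3 q9057 L180906 q9057, e3 q9058 L180913 q9058, e3 q9059 L180922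 q9059, e3 q9060 L180932 q9060, e3 q9061 (flp_b L258356) q10671, e3 q9062 (flp_b L258366) q10672, e3 q9063 (flp_b L258372) q10673, e3 q9064 (flp_b L258382) q10674, e3 q9065 (flp_b L258392) q10675, e3 q9066 (flp_b L258402) q10676, e3 q9067 (flp_b L258406) q10677, e3 q9068 (flp_b L258416) q10678, e3 q9069 L576357 q7428, e3 q9070 (flp_b L258436) q10679, e3 q9071 L576365 q7426, e3 q9072 (flp_b L576412) q7429, e3 q9073 L181050 q7414, e3 q9074 L181061 q7415, e3 q9075 L181069 q7416, e3 q9076 L181077 q7417, e3 q9077 L181085 q7418, e3 q9078 L263207 q11022, e3 q9079 L181099 q7420, e3 q9080 L181106 q7421, e3 q9081 (flp_b L263140) q11015, e3 q9082 (flp_b L263149) q11016, e3 q9083 (flp_b L263159) q11017, e3 q9084 (flp_b L263166) q11018, e3 q9085 (flp_b L263184) q11019, e3 q9086 (flp_b L263200) q11021, e3 q9087 (flp_b L181178) q7419, trivial⟩ (by decide +kernel)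

theorem ce_b_142 : ∀ r, r < 64 → sm gb (Qf (9088 + r)) = Qf (tab Gen.b (9088 + r)) :=
  edges_tab (sm gb) Qf (tab Gen.b) 9088 [(9088, 11030), (9089, 11024), (9090, 7424), (9091, 7425), (9092, 7427), (9093, 10984), (9094, 11032), (9095, 11033), (9096, 10981), (9097, 11012), (9098, 11008), (9099, 11014), (9100, 11010), (9101, 11013), (9102, 9102), (9103, 9103), (9104, 9104), (9105, 9105), (9106, 9106), (9107, 11054), (9108, 9108), (9109, 9109), (9110, 10709), (9111, 7901), (9112, 10710), (9113, 10711), (9114, 10712), (9115, 10713), (9116, 10714), (9117, 10715), (9118, 10716), (9119, 10717), (9120, 11074), (9121, 10719), (9122, 10720), (9123, 7897), (9124, 10721), (9125, 10722), (9126, 10723), (9127, 10724), (9128, 10725), (9129, 10726), (9130, 10727), (9131, 7459), (9132, 7460), (9133, 7461), (9134, 7462), (9135, 7463), (9136, 7464), (9137, 11095), (9138, 7466), (9139, 7456), (9140, 11099), (9141, 7469), (9142, 11087), (9143, 11088), (9144, 11089), (9145, 11106), (9146, 11091), (9147, 11092), (9148, 11111), (9149, 11094),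 (9150, 7465), (9151, 11115)]
    ⟨e3 q9088 (flp_b L263317) q11030, e3 q9089 (flp_b L263220) q11024, e3 q9090 L181197 q7424, e3 q9091 L181203 q7425, e3 q9092 L181217 q7427, e3 q9093 (flp_b L612496) q10984, e3 q9094 (flp_b L263343) q11032, e3 q9095 (flp_b L263349) q11033, e3 q9096 L617182 q10981, e3 q9097 L552226 q11012, e3 q9098 L552233 q11008, e3 q9099 (flp_b L576402) q11014, e3 q9100 (flp_b L554143) q11010, e3 q9101 (flp_b L576395) q11013, e3 q9102 L181409 q9102, e3 q9103 L181419 q9103, e3 q9104 L181428 q9104, e3 q9105 L181437 q9105, e3 q9106 L181447 q9106, e3 q9107 L263752 q11054, e3 q9108 L181463 q9108, e3 q9109 L181472 q9109, e3 q9110 (flp_b L258916) q10709, e3 q9111 (flp_b L622109) q7901, e3 q9112 (flp_b L258930) q10710, e3 q9113 (flp_b L258938) q10711, e3 q9114 (flp_b L258944) q10712, e3 q9115 (flp_b L258950) q10713, e3 q9116 (flp_b L258960) q10714, e3 q9117 (flp_b L258970) q10715, e3 q9118 (flp_b L258980) q10716, e3 q9119 (flp_b L258986) q10717, e3 q9120 L263886 q11074, e3 q9121 (flp_b L259000) q10719, e3 q9122 (flp_b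 L259006) q10720, e3 q9123 (flp_b L622218) q7897, e3 q9124 (flp_b L259023) q10721, e3 q9125 (flp_b L259033) q10722, e3 q9126 (flp_b L259042) q10723, e3 q9127 (flp_b L259053) q10724, e3 q9128 (flp_b L259062) q10725, e3 q9129 (flp_b L259078) q10726, e3 q9130 (flp_b L259087) q10727, e3 q9131 L181639 q7459, e3 q9132 L181646 q7460, e3 q9133 L181656 q7461, e3 q9134 L181663 q7462, e3 q9135 L181671 q7463, e3 q9136 L181680 q7464, e3 q9137 L264078 q11095, e3 q9138 L181695 q7466, e3 q9139 (flp_b L181703) q7456, e3 q9140 (flp_b L264113) q11099, e3 q9141 L181718 q7469, e3 q9142 (flp_b L264014) q11087, e3 q9143 (flp_b L264022) q11088, e3 q9144 (flp_b L264031) q11089, e3 q9145 L264166 q11106, e3 q9146 (flp_b L264046) q11091, e3 q9147 (flp_b L264055) q11092, e3 q9148 L264201 q11111, e3 q9149 (flp_b L264070) q11094, e3 q9150 (flp_b L181785) q7465, e3 q9151 (flp_b L264235) q11115, trivial⟩ (by decide +kernel)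

theorem ce_b_143 : ∀ r, r < 64 → sm gb (Qf (9152 + r)) = Qf (tab Gen.b (9152 + r)) :=
  edges_tab (sm gb) Qf (tab Gen.b) 9152 [(9152, 11097), (9153, 9153), (9154, 7468), (9155, 11118), (9156, 7472), (9157, 7474), (9158, 11120), (9159, 11121), (9160, 10817), (9161, 10813), (9162, 10819), (9163, 10815), (9164, 10818), (9165, 9165), (9166, 9166), (9167, 9167), (9168, 9168), (9169, 9169), (9170, 10758), (9171, 10759), (9172, 10760), (9173, 10761), (9174, 10762), (9175, 10763), (9176, 10764), (9177, 10765), (9178, 10766), (9179, 10767), (9180, 11150), (9181, 7522), (9182, 10769), (9183, 7524), (9184, 10770), (9185, 7521), (9186, 7525), (9187, 7523), (9188, 7503), (9189, 7504), (9190, 7505), (9191, 7506), (9192, 7507), (9193, 7508), (9194, 11167), (9195, 7510), (9196, 7500), (9197, 11170), (9198, 11159), (9199, 11160), (9200, 11161), (9201, 11176), (9202, 11163), (9203, 11164), (9204, 11181), (9205, 11166), (9206, 7509), (9207, 11185), (9208, 10537), (9209, 9209), (9210, 7512), (9211, 11188), (9212, 7517), (9213, 7518), (9214,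 7519), (9215, 7520)]
    ⟨e3 q9152 (flp_b L264097) q11097, e3 q9153 L181814 q9153, e3 q9154 L181817 q7468, e3 q9155 (flp_b L264260) q11118, e3 q9156 L181840 q7472, e3 q9157 L181857 q7474, e3 q9158 (flp_b L264298) q11120, e3 q9159 (flp_b L264305) q11121, e3 q9160 L554285 q10817, e3 q9161 (flp_b L554300) q10813, e3 q9162 L554336 q10819, e3 q9163 (flp_b L554216) q10815, e3 q9164 (flp_b L576445) q10818, e3 q9165 L182054 q9165, e3 q9166 L182065 q9166, e3 q9167 L182072 q9167, e3 q9168 L182092 q9168, e3 q9169 L182120 q9169, e3 q9170 (flp_b L260075) q10758, e3 q9171 (flp_b L260084) q10759, e3 q9172 (flp_b L260096) q10760, e3 q9173 (flp_b L260105) q10761, e3 q9174 (flp_b L260112) q10762, e3 q9175 (flp_b L260122) q10763, e3 q9176 (flp_b L260132) q10764, e3 q9177 (flp_b L260140) q10765, e3 q9178 (flp_b L260151) q10766, e3 q9179 (flp_b L260157) q10767, e3 q9180 L264872 q11150, e3 q9181 (flp_b L553266) q7522, e3 q9182 (flp_b L260181) q10769, e3 q9183 (flp_b L554160) q7524, e3 q9184 (flp_b L260197) q10770, e3 q9185 (flp_b L553247) q7521,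 e3 q9186 L554101 q7525, e3 q9187 L553238 q7523, e3 q9188 L182296 q7503, e3 q9189 L182305 q7504, e3 q9190 L182313 q7505, e3 q9191 L182321 q7506, e3 q9192 L182329 q7507, e3 q9193 L182339 q7508, e3 q9194 L265059 q11167, e3 q9195 L182357 q7510, e3 q9196 (flp_b L182364) q7500, e3 q9197 (flp_b L265096) q11170, e3 q9198 (flp_b L264995) q11159, e3 q9199 (flp_b L265002) q11160, e3 q9200 (flp_b L265012) q11161, e3 q9201 L265152 q11176, e3 q9202 (flp_b L265028) q11163, e3 q9203 (flp_b L265035) q11164, e3 q9204 L265188 q11181, e3 q9205 (flp_b L265051) q11166, e3 q9206 (flp_b L182450) q7509, e3 q9207 (flp_b L265226) q11185, e3 q9208 (flp_b L562138) q10537, e3 q9209 L182481 q9209, e3 q9210 L182484 q7512, e3 q9211 (flp_b L265250) q11188, e3 q9212 L182507 q7517, e3 q9213 L182515 q7518, e3 q9214 L182522 q7519, e3 q9215 L182527 q7520, trivial⟩ (by decide +kernel)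

theorem ce_b_144 : ∀ r, r < 64 → sm gb (Qf (9216 + r)) = Qf (tab Gen.b (9216 + r)) :=
  edges_tab (sm gb) Qf (tab Gen.b) 9216 [(9216, 11190), (9217, 11191), (9218, 11192), (9219, 11139), (9220, 11193), (9221, 11194), (9222, 11157), (9223, 11155), (9224, 11148), (9225, 11158), (9226, 11210), (9227, 11153), (9228, 11156), (9229, 9229), (9230, 9230), (9231, 9231), (9232, 9232), (9233, 9233), (9234, 9234), (9235, 11221), (9236, 9236), (9237, 7531), (9238, 11224), (9239, 10831), (9240, 10832), (9241, 10833), (9242, 10834), (9243, 10835), (9244, 10836), (9245, 11236), (9246, 10838), (9247, 10839), (9248, 10840), (9249, 10841), (9250, 10842), (9251, 10843), (9252, 10844), (9253, 10845), (9254, 11251), (9255, 10847), (9256, 10848), (9257, 7544), (9258, 11258), (9259, 11259), (9260, 10852), (9261, 10853), (9262, 10854), (9263, 10855), (9264, 10856), (9265, 10857), (9266, 10858), (9267, 10859), (9268, 10860), (9269, 10861), (9270, 10862), (9271, 7566), (9272, 7567), (9273, 7568), (9274, 11278), (9275, 7570), (9276, 7571), (9277, 11283),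 (9278, 7573), (9279, 7561)]
    ⟨e3 q9216 (flp_b L265284) q11190, e3 q9217 (flp_b L265290) q11191, e3 q9218 (flp_b L265299) q11192, e3 q9219 L547319 q11139, e3 q9220 (flp_b L265314) q11193, e3 q9221 (flp_b L265321) q11194, e3 q9222 L552190 q11157, e3 q9223 (flp_b L554151) q11155, e3 q9224 (flp_b L534216) q11148, e3 q9225 L553217 q11158, e3 q9226 L265670 q11210, e3 q9227 L553227 q11153, e3 q9228 L554120 q11156, e3 q9229 L182854 q9229, e3 q9230 L182862 q9230, e3 q9231 L182871 q9231, e3 q9232 L182880 q9232, e3 q9233 L182887 q9233, e3 q9234 L182899 q9234, e3 q9235 L265908 q11221, e3 q9236 L182919 q9236, e3 q9237 (flp_b L182926) q7531, e3 q9238 (flp_b L265950) q11224, e3 q9239 (flp_b L260928) q10831, e3 q9240 (flp_b L260935) q10832, e3 q9241 (flp_b L260944) q10833, e3 q9242 (flp_b L260951) q10834, e3 q9243 (flp_b L260961) q10835, e3 q9244 (flp_b L260969) q10836, e3 q9245 L266048 q11236, e3 q9246 (flp_b L260984) q10838, e3 q9247 (flp_b L260993) q10839, e3 q9248 (flp_b L261000) q10840, e3 q9249 (flp_b L261007) q10841, e3 q9250 (flp_b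 L261017) q10842, e3 q9251 (flp_b L261023) q10843, e3 q9252 (flp_b L261031) q10844, e3 q9253 (flp_b L261038) q10845, e3 q9254 L266145 q11251, e3 q9255 (flp_b L261055) q10847, e3 q9256 (flp_b L261063) q10848, e3 q9257 (flp_b L183070) q7544, e3 q9258 (flp_b L266190) q11258, e3 q9259 (flp_b L266197) q11259, e3 q9260 (flp_b L261091) q10852, e3 q9261 (flp_b L261098) q10853, e3 q9262 (flp_b L261107) q10854, e3 q9263 (flp_b L261112) q10855, e3 q9264 (flp_b L261122) q10856, e3 q9265 (flp_b L261132) q10857, e3 q9266 (flp_b L261139) q10858, e3 q9267 (flp_b L261157) q10859, e3 q9268 (flp_b L261166) q10860, e3 q9269 (flp_b L261186) q10861, e3 q9270 (flp_b L261194) q10862, e3 q9271 L183199 q7566, e3 q9272 L183206 q7567, e3 q9273 L183216 q7568, e3 q9274 L266395 q11278, e3 q9275 L183230 q7570, e3 q9276 L183238 q7571, e3 q9277 L266433 q11283, e3 q9278 L183255 q7573, e3 q9279 (flp_b L183264) q7561, trivial⟩ (by decide +kernel)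

theorem ce_b_145 : ∀ r, r < 64 → sm gb (Qf (9280 + r)) = Qf (tab Gen.b (9280 + r)) :=
  edges_tab (sm gb) Qf (tab Gen.b) 9280 [(9280, 11287), (9281, 7576), (9282, 11223), (9283, 7564), (9284, 11290), (9285, 11273), (9286, 11274), (9287, 11293), (9288, 11276), (9289, 11277), (9290, 7569), (9291, 11298), (9292, 11299), (9293, 11281), (9294, 11282), (9295, 7572), (9296, 11302), (9297, 11285), (9298, 9298), (9299, 7575), (9300, 11304), (9301, 9301), (9302, 7579), (9303, 11307), (9304, 9304), (9305, 9305), (9306, 9306), (9307, 9307), (9308, 9308), (9309, 9309), (9310, 9310), (9311, 7592), (9312, 7593), (9313, 11318), (9314, 7596), (9315, 11320), (9316, 7590), (9317, 7928), (9318, 11315), (9319, 10538), (9320, 11325), (9321, 11317), (9322, 10534), (9323, 7595), (9324, 11327), (9325, 11328), (9326, 10533), (9327, 10535), (9328, 7598), (9329, 11332), (9330, 10536), (9331, 9331), (9332, 7601), (9333, 11335), (9334, 9334), (9335, 7605), (9336, 11338), (9337, 10522), (9338, 10524), (9339, 10526), (9340, 10527), (9341, 10396), (9342,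 10521), (9343, 9343)]
    ⟨e3 q9280 (flp_b L266476) q11287, e3 q9281 L183284 q7576, e3 q9282 (flp_b L265946) q11223, e3 q9283 L183303 q7564, e3 q9284 (flp_b L266505) q11290, e3 q9285 (flp_b L266353) q11273, e3 q9286 (flp_b L266362) q11274, e3 q9287 L266542 q11293, e3 q9288 (flp_b L266377) q11276, e3 q9289 (flp_b L266387) q11277, e3 q9290 (flp_b L183360) q7569, e3 q9291 (flp_b L266597) q11298, e3 q9292 (flp_b L266605) q11299, e3 q9293 (flp_b L266419) q11281, e3 q9294 (flp_b L266427) q11282, e3 q9295 (flp_b L183396) q7572, e3 q9296 (flp_b L266653) q11302, e3 q9297 (flp_b L266455) q11285, e3 q9298 L183433 q9298, e3 q9299 L183436 q7575, e3 q9300 (flp_b L266683) q11304, e3 q9301 L183457 q9301, e3 q9302 L183463 q7579, e3 q9303 (flp_b L266710) q11307, e3 q9304 L183845 q9304, e3 q9305 L183939 q9305, e3 q9306 L183947 q9306, e3 q9307 L183956 q9307, e3 q9308 L183961 q9308, e3 q9309 L183976 q9309, e3 q9310 L184004 q9310, e3 q9311 L184185 q7592, e3 q9312 L184193 q7593, e3 q9313 L267797 q11318, e3 q9314 L184216 q7596, e3 q9315 L267830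 q11320, e3 q9316 (flp_b L184244) q7590, e3 q9317 (flp_b L543005) q7928, e3 q9318 (flp_b L267758) q11315, e3 q9319 L562977 q10538, e3 q9320 L267921 q11325, e3 q9321 (flp_b L267781) q11317, e3 q9322 (flp_b L562992) q10534, e3 q9323 (flp_b L184327) q7595, e3 q9324 (flp_b L267972) q11327, e3 q9325 (flp_b L267977) q11328, e3 q9326 L542669 q10533, e3 q9327 (flp_b L562180) q10535, e3 q9328 (flp_b L184360) q7598, e3 q9329 (flp_b L268019) q11332, e3 q9330 L542645 q10536, e3 q9331 L184392 q9331, e3 q9332 L184395 q7601, e3 q9333 (flp_b L268046) q11335, e3 q9334 L184413 q9334, e3 q9335 L184419 q7605, e3 q9336 (flp_b L268068) q11338, e3 q9337 L616034 q10522, e3 q9338 (flp_b L563153) q10524, e3 q9339 L561514 q10526, e3 q9340 L562360 q10527, e3 q9341 L562429 q10396, e3 q9342 (flp_b L563138) q10521, e3 q9343 L184722 q9343, trivial⟩ (by decide +kernel)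

theorem ce_b_146 : ∀ r, r < 64 → sm gb (Qf (9344 + r)) = Qf (tab Gen.b (9344 + r)) :=
  edges_tab (sm gb) Qf (tab Gen.b) 9344 [(9344, 9344), (9345, 11347), (9346, 9346), (9347, 11349), (9348, 7615), (9349, 7642), (9350, 9350), (9351, 9351), (9352, 9352), (9353, 9353), (9354, 9354), (9355, 9355), (9356, 9356), (9357, 9357), (9358, 11362), (9359, 9359), (9360, 7623), (9361, 11365), (9362, 9362), (9363, 9363), (9364, 11369), (9365, 9365), (9366, 11371), (9367, 7629), (9368, 10581), (9369, 7645), (9370, 7646), (9371, 11374), (9372, 7648), (9373, 7649), (9374, 7634), (9375, 11376), (9376, 11375), (9377, 7647), (9378, 7651), (9379, 7637), (9380, 7826), (9381, 7653), (9382, 11350), (9383, 7640), (9384, 11383), (9385, 10564), (9386, 7644), (9387, 11386), (9388, 9388), (9389, 9389), (9390, 9390), (9391, 7656), (9392, 11389), (9393, 9393), (9394, 7659), (9395, 9739), (9396, 9723), (9397, 9722), (9398, 9398), (9399, 9399), (9400, 10120), (9401, 9401), (9402, 9402), (9403, 9403), (9404, 11393), (9405, 9405), (9406, 9406), (9407, 9407)]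
    ⟨e3 q9344 L184731 q9344, e3 q9345 L268551 q11347, e3 q9346 L184756 q9346, e3 q9347 L268589 q11349, e3 q9348 (flp_b L184790) q7615, e3 q9349 L184822 q7642, e3 q9350 L184843 q9350, e3 q9351 L184851 q9351, e3 q9352 L184858 q9352, e3 q9353 L184864 q9353, e3 q9354 L184871 q9354, e3 q9355 L184878 q9355, e3 q9356 L184883 q9356, e3 q9357 L184892 q9357, e3 q9358 L268755 q11362, e3 q9359 L184907 q9359, e3 q9360 (flp_b L184913) q7623, e3 q9361 (flp_b L268787) q11365, e3 q9362 L184935 q9362, e3 q9363 L184944 q9363, e3 q9364 L268839 q11369, e3 q9365 L184967 q9365, e3 q9366 L268871 q11371, e3 q9367 (flp_b L184994) q7629, e3 q9368 (flp_b L543225) q10581, e3 q9369 L185041 q7645, e3 q9370 L185048 q7646, e3 q9371 L268964 q11374, e3 q9372 L185062 q7648, e3 q9373 L185071 q7649, e3 q9374 (flp_b L185079) q7634, e3 q9375 L646479 q11376, e3 q9376 L646564 q11375, e3 q9377 (flp_b L647045) q7647, e3 q9378 L185108 q7651, e3 q9379 (flp_b L185112) q7637, e3 q9380 L646464 q7826, e3 q9381 L185132 q7653, e3 q9382 (flp_b L268625) q11350, e3 q9383 L185149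 q7640, e3 q9384 (flp_b L269097) q11383, e3 q9385 L543465 q10564, e3 q9386 L185176 q7644, e3 q9387 (flp_b L269120) q11386, e3 q9388 L185255 q9388, e3 q9389 L185307 q9389, e3 q9390 L185332 q9390, e3 q9391 L185340 q7656, e3 q9392 (flp_b L269345) q11389, e3 q9393 L185356 q9393, e3 q9394 L185362 q7659, e3 q9395 (flp_b L553796) q9739, e3 q9396 L642773 q9723, e3 q9397 L642794 q9722, e3 q9398 L185657 q9398, e3 q9399 L185665 q9399, e3 q9400 L642488 q10120, e3 q9401 L185683 q9401, e3 q9402 L185693 q9402, e3 q9403 L185781 q9403, e3 q9404 L270054 q11393, e3 q9405 L185798 q9405, e3 q9406 L185805 q9406, e3 q9407 L185813 q9407, trivial⟩ (by decide +kernel)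

theorem ce_b_147 : ∀ r, r < 64 → sm gb (Qf (9408 + r)) = Qf (tab Gen.b (9408 + r)) :=
  edges_tab (sm gb) Qf (tab Gen.b) 9408 [(9408, 9408), (9409, 9409), (9410, 9410), (9411, 9411), (9412, 9412), (9413, 9413), (9414, 9414), (9415, 7686), (9416, 7687), (9417, 7688), (9418, 7689), (9419, 11407), (9420, 7691), (9421, 7682), (9422, 11411), (9423, 7694), (9424, 9724), (9425, 9725), (9426, 11416), (9427, 11404), (9428, 11405), (9429, 11421), (9430, 11406), (9431, 7690), (9432, 11425), (9433, 11409), (9434, 9434), (9435, 7693), (9436, 11428), (9437, 9736), (9438, 10119), (9439, 9848), (9440, 9734), (9441, 9441), (9442, 9442), (9443, 9443), (9444, 9444), (9445, 10265), (9446, 9446), (9447, 7704), (9448, 11438), (9449, 9449), (9450, 11440), (9451, 9451), (9452, 9452), (9453, 9453), (9454, 9454), (9455, 11445), (9456, 9456), (9457, 9457), (9458, 7713), (9459, 11452), (9460, 11453), (9461, 9461), (9462, 9462), (9463, 9463), (9464, 9464), (9465, 9465), (9466, 9466), (9467, 9467), (9468, 9468), (9469, 9469), (9470, 9470), (9471, 9471)]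
    ⟨e3 q9408 L185823 q9408, e3 q9409 L185834 q9409, e3 q9410 L185841 q9410, e3 q9411 L185849 q9411, e3 q9412 L185858 q9412, e3 q9413 L185875 q9413, e3 q9414 L185882 q9414, e3 q9415 L185919 q7686, e3 q9416 L185927 q7687, e3 q9417 L185936 q7688, e3 q9418 L185945 q7689, e3 q9419 L270270 q11407, e3 q9420 L185961 q7691, e3 q9421 (flp_b L185967) q7682, e3 q9422 (flp_b L270301) q11411, e3 q9423 L185984 q7694, e3 q9424 (flp_b L645416) q9724, e3 q9425 (flp_b L647972) q9725, e3 q9426 L270361 q11416, e3 q9427 (flp_b L270239) q11404, e3 q9428 (flp_b L270246) q11405, e3 q9429 L270399 q11421, e3 q9430 (flp_b L270262) q11406, e3 q9431 (flp_b L186059) q7690, e3 q9432 (flp_b L270435) q11425, e3 q9433 (flp_b L270285) q11409, e3 q9434 L186087 q9434, e3 q9435 L186090 q7693, e3 q9436 (flp_b L270459) q11428, e3 q9437 (flp_b L642936) q9736, e3 q9438 (flp_b L642454) q10119, e3 q9439 (flp_b L644045) q9848, e3 q9440 L642960 q9734, e3 q9441 L186505 q9441, e3 q9442 L186514 q9442, e3 q9443 L186525 q9443, e3 q9444 L186533 q9444, e3 q9445 L642512 q10265,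 e3 q9446 L186550 q9446, e3 q9447 (flp_b L186555) q7704, e3 q9448 (flp_b L271168) q11438, e3 q9449 L186571 q9449, e3 q9450 L271254 q11440, e3 q9451 L186625 q9451, e3 q9452 L186632 q9452, e3 q9453 L186664 q9453, e3 q9454 L186680 q9454, e3 q9455 L271365 q11445, e3 q9456 L186696 q9456, e3 q9457 L186703 q9457, e3 q9458 (flp_b L186708) q7713, e3 q9459 (flp_b L271414) q11452, e3 q9460 (flp_b L271419) q11453, e3 q9461 L186727 q9461, e3 q9462 L186733 q9462, e3 q9463 L186740 q9463, e3 q9464 L186745 q9464, e3 q9465 L186752 q9465, e3 q9466 L186761 q9466, e3 q9467 L186768 q9467, e3 q9468 L186785 q9468, e3 q9469 L186792 q9469, e3 q9470 L186806 q9470, e3 q9471 L186814 q9471, trivial⟩ (by decide +kernel)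

theorem ce_b_148 : ∀ r, r < 64 → sm gb (Qf (9472 + r)) = Qf (tab Gen.b (9472 + r)) :=
  edges_tab (sm gb) Qf (tab Gen.b) 9472 [(9472, 7735), (9473, 7736), (9474, 11467), (9475, 7738), (9476, 7739), (9477, 11472), (9478, 7741), (9479, 7729), (9480, 11476), (9481, 7744), (9482, 11437), (9483, 7732), (9484, 11479), (9485, 9740), (9486, 11481), (9487, 11466), (9488, 7737), (9489, 11485), (9490, 11486), (9491, 11470), (9492, 11471), (9493, 7740), (9494, 11491), (9495, 11474), (9496, 9496), (9497, 7743), (9498, 11494), (9499, 9499), (9500, 7747), (9501, 11497), (9502, 9761), (9503, 9762), (9504, 9759), (9505, 9760), (9506, 11503), (9507, 10754), (9508, 7752), (9509, 11507), (9510, 10757), (9511, 9511), (9512, 9512), (9513, 11511), (9514, 9514), (9515, 9515), (9516, 11516), (9517, 9517), (9518, 7760), (9519, 11520), (9520, 9520), (9521, 7798), (9522, 7763), (9523, 11523), (9524, 9524), (9525, 9525), (9526, 11527), (9527, 9527), (9528, 9528), (9529, 11533), (9530, 9530), (9531, 9531), (9532, 7770), (9533, 11540), (9534, 11541),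 (9535, 9535)]
    ⟨e3 q9472 L186847 q7735, e3 q9473 L186856 q7736, e3 q9474 L271617 q11467, e3 q9475 L186873 q7738, e3 q9476 L186881 q7739, e3 q9477 L271656 q11472, e3 q9478 L186895 q7741, e3 q9479 (flp_b L186901) q7729, e3 q9480 (flp_b L271686) q11476, e3 q9481 L186916 q7744, e3 q9482 (flp_b L271164) q11437, e3 q9483 L186930 q7732, e3 q9484 (flp_b L271708) q11479, e3 q9485 L647800 q9740, e3 q9486 L271744 q11481, e3 q9487 (flp_b L271609) q11466, e3 q9488 (flp_b L186984) q7737, e3 q9489 (flp_b L271798) q11485, e3 q9490 (flp_b L271804) q11486, e3 q9491 (flp_b L271640) q11470, e3 q9492 (flp_b L271649) q11471, e3 q9493 (flp_b L187023) q7740, e3 q9494 (flp_b L271850) q11491, e3 q9495 (flp_b L271671) q11474, e3 q9496 L187050 q9496, e3 q9497 L187053 q7743, e3 q9498 (flp_b L271873) q11494, e3 q9499 L187070 q9499, e3 q9500 L187075 q7747, e3 q9501 (flp_b L271895) q11497, e3 q9502 L640940 q9761, e3 q9503 L640911 q9762, e3 q9504 (flp_b L640731) q9759, e3 q9505 (flp_b L642968) q9760, e3 q9506 L272355 q11503, e3 q9507 (flp_b L549392) q10754,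 e3 q9508 (flp_b L187393) q7752, e3 q9509 (flp_b L272423) q11507, e3 q9510 (flp_b L549219) q10757, e3 q9511 L187557 q9511, e3 q9512 L187568 q9512, e3 q9513 L272655 q11511, e3 q9514 L187587 q9514, e3 q9515 L187595 q9515, e3 q9516 L272700 q11516, e3 q9517 L187614 q9517, e3 q9518 (flp_b L187620) q7760, e3 q9519 (flp_b L272739) q11520, e3 q9520 L187639 q9520, e3 q9521 L187652 q7798, e3 q9522 L187656 q7763, e3 q9523 (flp_b L272765) q11523, e3 q9524 L187682 q9524, e3 q9525 L187690 q9525, e3 q9526 L272823 q11527, e3 q9527 L187708 q9527, e3 q9528 L187713 q9528, e3 q9529 L272867 q11533, e3 q9530 L187729 q9530, e3 q9531 L187738 q9531, e3 q9532 (flp_b L187744) q7770, e3 q9533 (flp_b L272929) q11540, e3 q9534 (flp_b L272937) q11541, e3 q9535 L187769 q9535, trivial⟩ (by decide +kernel)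

theorem ce_b_149 : ∀ r, r < 64 → sm gb (Qf (9536 + r)) = Qf (tab Gen.b (9536 + r)) :=
  edges_tab (sm gb) Qf (tab Gen.b) 9536 [(9536, 9536), (9537, 9537), (9538, 11506), (9539, 7774), (9540, 7775), (9541, 11550), (9542, 11551), (9543, 11552), (9544, 9544), (9545, 9545), (9546, 9546), (9547, 9547), (9548, 9548), (9549, 9549), (9550, 9550), (9551, 9551), (9552, 9552), (9553, 9553), (9554, 7801), (9555, 7829), (9556, 7802), (9557, 7790), (9558, 11381), (9559, 11567), (9560, 7805), (9561, 7806), (9562, 7793), (9563, 11570), (9564, 7804), (9565, 11519), (9566, 7796), (9567, 11565), (9568, 11522), (9569, 7800), (9570, 11575), (9571, 9571), (9572, 9572), (9573, 9573), (9574, 9574), (9575, 11577), (9576, 7813), (9577, 11579), (9578, 11580), (9579, 7816), (9580, 11578), (9581, 7828), (9582, 7819), (9583, 11582), (9584, 7830), (9585, 7823), (9586, 11585), (9587, 10543), (9588, 11525), (9589, 11584), (9590, 7832), (9591, 9985), (9592, 11589), (9593, 7888), (9594, 7893), (9595, 10914), (9596, 7899), (9597, 7902), (9598, 7903), (9599,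 7908)]
    ⟨e3 q9536 L187775 q9536, e3 q9537 L187784 q9537, e3 q9538 (flp_b L272413) q11506, e3 q9539 L187799 q7774, e3 q9540 L187806 q7775, e3 q9541 (flp_b L273005) q11550, e3 q9542 (flp_b L273013) q11551, e3 q9543 (flp_b L273021) q11552, e3 q9544 L187836 q9544, e3 q9545 L187843 q9545, e3 q9546 L187852 q9546, e3 q9547 L187859 q9547, e3 q9548 L187866 q9548, e3 q9549 L187883 q9549, e3 q9550 L187890 q9550, e3 q9551 L187904 q9551, e3 q9552 L187912 q9552, e3 q9553 L187936 q9553, e3 q9554 L187976 q7801, e3 q9555 (flp_b L646606) q7829, e3 q9556 L188001 q7802, e3 q9557 (flp_b L188009) q7790, e3 q9558 (flp_b L646381) q11381, e3 q9559 (flp_b L273304) q11567, e3 q9560 L188034 q7805, e3 q9561 L188041 q7806, e3 q9562 (flp_b L188049) q7793, e3 q9563 (flp_b L629404) q11570, e3 q9564 (flp_b L647317) q7804, e3 q9565 (flp_b L272735) q11519, e3 q9566 L188085 q7796, e3 q9567 (flp_b L646404) q11565, e3 q9568 (flp_b L272758) q11522, e3 q9569 L188109 q7800, e3 q9570 (flp_b L273403) q11575, e3 q9571 L188204 q9571, e3 q9572 L188259 q9572, e3 q9573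 L188282 q9573, e3 q9574 L188307 q9574, e3 q9575 L273730 q11577, e3 q9576 (flp_b L188378) q7813, e3 q9577 (flp_b L273788) q11579, e3 q9578 (flp_b L273794) q11580, e3 q9579 (flp_b L188420) q7816, e3 q9580 (flp_b L645851) q11578, e3 q9581 L188452 q7828, e3 q9582 L188456 q7819, e3 q9583 (flp_b L273873) q11582, e3 q9584 L188474 q7830, e3 q9585 L188482 q7823, e3 q9586 (flp_b L273897) q11585, e3 q9587 (flp_b L646346) q10543, e3 q9588 (flp_b L646413) q11525, e3 q9589 (flp_b L273890) q11584, e3 q9590 L188671 q7832, e3 q9591 L549090 q9985, e3 q9592 L275026 q11589, e3 q9593 L193740 q7888, e3 q9594 L194681 q7893, e3 q9595 (flp_b L611731) q10914, e3 q9596 L195275 q7899, e3 q9597 L195382 q7902, e3 q9598 L195403 q7903, e3 q9599 L196725 q7908, trivial⟩ (by decide +kernel)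

theorem ce_b_150 : ∀ r, r < 64 → sm gb (Qf (9600 + r)) = Qf (tab Gen.b (9600 + r)) :=
  edges_tab (sm gb) Qf (tab Gen.b) 9600 [(9600, 7909), (9601, 7910), (9602, 7912), (9603, 9603), (9604, 7863), (9605, 7864), (9606, 11598), (9607, 7905), (9608, 11599), (9609, 7904), (9610, 7920), (9611, 7921), (9612, 7922), (9613, 7923), (9614, 7924), (9615, 9615), (9616, 7925), (9617, 7926), (9618, 7927), (9619, 7929), (9620, 7930), (9621, 7931), (9622, 7932), (9623, 10639), (9624, 10900), (9625, 10952), (9626, 10940), (9627, 11590), (9628, 10930), (9629, 10697), (9630, 7896), (9631, 11591), (9632, 10988), (9633, 11617), (9634, 11080), (9635, 10945), (9636, 10951), (9637, 10943), (9638, 11058), (9639, 11593), (9640, 11594), (9641, 7917), (9642, 7916), (9643, 11600), (9644, 11602), (9645, 10803), (9646, 11595), (9647, 11596), (9648, 7918), (9649, 11597), (9650, 7951), (9651, 7919), (9652, 7950), (9653, 10518), (9654, 11625), (9655, 11624), (9656, 11631), (9657, 11603), (9658, 11604), (9659, 11605), (9660, 11606), (9661, 11607), (9662,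 11169), (9663, 11609)]
    ⟨e3 q9600 L196735 q7909, e3 q9601 L196745 q7910, e3 q9602 L196760 q7912, e3 q9603 L197133 q9603, e3 q9604 L197140 q7863, e3 q9605 L197148 q7864, e3 q9606 (flp_b L286638) q11598, e3 q9607 L547125 q7905, e3 q9608 (flp_b L286656) q11599, e3 q9609 (flp_b L551537) q7904, e3 q9610 L197598 q7920, e3 q9611 L197613 q7921, e3 q9612 L197621 q7922, e3 q9613 L197629 q7923, e3 q9614 L197637 q7924, e3 q9615 L197648 q9615, e3 q9616 L197652 q7925, e3 q9617 L197659 q7926, e3 q9618 L197726 q7927, e3 q9619 L197781 q7929, e3 q9620 L197799 q7930, e3 q9621 L197820 q7931, e3 q9622 L197845 q7932, e3 q9623 L621555 q10639, e3 q9624 L621545 q10900, e3 q9625 L621678 q10952, e3 q9626 L612194 q10940, e3 q9627 (flp_b L281651) q11590, e3 q9628 (flp_b L617519) q10930, e3 q9629 (flp_b L622166) q10697, e3 q9630 (flp_b L552249) q7896, e3 q9631 (flp_b L283018) q11591, e3 q9632 (flp_b L622160) q10988, e3 q9633 (flp_b L504807) q11617, e3 q9634 (flp_b L622061) q11080, e3 q9635 L617537 q10945, e3 q9636 (flp_b L621686) q10951, e3 q9637 (flp_b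 L617553) q10943, e3 q9638 (flp_b L622102) q11058, e3 q9639 (flp_b L284051) q11593, e3 q9640 (flp_b L284074) q11594, e3 q9641 (flp_b L615363) q7917, e3 q9642 L614683 q7916, e3 q9643 (flp_b L508084) q11600, e3 q9644 (flp_b L547266) q11602, e3 q9645 L615374 q10803, e3 q9646 (flp_b L286059) q11595, e3 q9647 (flp_b L286067) q11596, e3 q9648 (flp_b L547244) q7918, e3 q9649 (flp_b L286083) q11597, e3 q9650 L547261 q7951, e3 q9651 (flp_b L547283) q7919, e3 q9652 (flp_b L561420) q7950, e3 q9653 L616039 q10518, e3 q9654 (flp_b L614700) q11625, e3 q9655 (flp_b L615353) q11624, e3 q9656 (flp_b L547270) q11631, e3 q9657 (flp_b L287320) q11603, e3 q9658 (flp_b L287355) q11604, e3 q9659 (flp_b L287372) q11605, e3 q9660 (flp_b L287388) q11606, e3 q9661 (flp_b L287396) q11607, e3 q9662 L543026 q11169, e3 q9663 (flp_b L287428) q11609, trivial⟩ (by decide +kernel)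

theorem ce_b_151 : ∀ r, r < 64 → sm gb (Qf (9664 + r)) = Qf (tab Gen.b (9664 + r)) :=
  edges_tab (sm gb) Qf (tab Gen.b) 9664 [(9664, 11225), (9665, 11321), (9666, 11057), (9667, 11610), (9668, 11611), (9669, 10506), (9670, 10324), (9671, 10326), (9672, 10329), (9673, 9673), (9674, 9674), (9675, 9675), (9676, 9676), (9677, 9677), (9678, 9678), (9679, 9679), (9680, 10323), (9681, 9681), (9682, 7944), (9683, 11656), (9684, 11630), (9685, 11632), (9686, 7959), (9687, 7960), (9688, 7961), (9689, 10392), (9690, 10328), (9691, 11658), (9692, 11659), (9693, 9693), (9694, 9694), (9695, 9695), (9696, 9696), (9697, 9697), (9698, 9698), (9699, 9699), (9700, 9700), (9701, 9701), (9702, 9702), (9703, 9703), (9704, 9793), (9705, 9705), (9706, 9706), (9707, 9707), (9708, 9708), (9709, 9709), (9710, 9710), (9711, 9711), (9712, 9712), (9713, 9713), (9714, 9714), (9715, 9715), (9716, 9716), (9717, 9717), (9718, 9718), (9719, 9719), (9720, 9720), (9721, 8014), (9722, 9397), (9723, 9396), (9724, 9424), (9725, 9425), (9726, 9726), (9727, 9727)]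
    ⟨e3 q9664 (flp_b L615107) q11225, e3 q9665 L542382 q11321, e3 q9666 (flp_b L617255) q11057, e3 q9667 (flp_b L287631) q11610, e3 q9668 (flp_b L287654) q11611, e3 q9669 L542807 q10506, e3 q9670 L561746 q10324, e3 q9671 L561729 q10326, e3 q9672 (flp_b L561777) q10329, e3 q9673 L203096 q9673, e3 q9674 L203104 q9674, e3 q9675 L203119 q9675, e3 q9676 L203126 q9676, e3 q9677 L203134 q9677, e3 q9678 L203142 q9678, e3 q9679 L203150 q9679, e3 q9680 (flp_b L616297) q10323, e3 q9681 L203171 q9681, e3 q9682 (flp_b L203177) q7944, e3 q9683 (flp_b L295255) q11656, e3 q9684 (flp_b L547241) q11630, e3 q9685 (flp_b L547277) q11632, e3 q9686 L203525 q7959, e3 q9687 L203534 q7960, e3 q9688 L203543 q7961, e3 q9689 L616029 q10392, e3 q9690 (flp_b L616190) q10328, e3 q9691 (flp_b L295689) q11658, e3 q9692 (flp_b L295698) q11659, e3 q9693 L203615 q9693, e3 q9694 L203622 q9694, e3 q9695 L203628 q9695, e3 q9696 L203642 q9696, e3 q9697 L204218 q9697, e3 q9698 L204225 q9698, e3 q9699 L204327 q9699, e3 q9700 L204370 q9700, e3 q9701 L204388 q9701,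 e3 q9702 L205292 q9702, e3 q9703 L205299 q9703, e3 q9704 (flp_b L644329) q9793, e3 q9705 L205328 q9705, e3 q9706 L205335 q9706, e3 q9707 L205393 q9707, e3 q9708 L205454 q9708, e3 q9709 L205475 q9709, e3 q9710 L205497 q9710, e3 q9711 L205518 q9711, e3 q9712 L206047 q9712, e3 q9713 L206068 q9713, e3 q9714 L206789 q9714, e3 q9715 L206798 q9715, e3 q9716 L206829 q9716, e3 q9717 L207794 q9717, e3 q9718 L241460 q9718, e3 q9719 L241508 q9719, e3 q9720 L241517 q9720, e3 q9721 L241562 q8014, e3 q9722 (flp_b L642794) q9397, e3 q9723 (flp_b L642773) q9396, e3 q9724 L645416 q9424, e3 q9725 L647972 q9425, e3 q9726 L241737 q9726, e3 q9727 L241785 q9727, trivial⟩ (by decide +kernel)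

theorem ce_b_152 : ∀ r, r < 64 → sm gb (Qf (9728 + r)) = Qf (tab Gen.b (9728 + r)) :=
  edges_tab (sm gb) Qf (tab Gen.b) 9728 [(9728, 9728), (9729, 9729), (9730, 9730), (9731, 8025), (9732, 8026), (9733, 8028), (9734, 9440), (9735, 11687), (9736, 9437), (9737, 8031), (9738, 8032), (9739, 9395), (9740, 9485), (9741, 11689), (9742, 11690), (9743, 9743), (9744, 9744), (9745, 9745), (9746, 9746), (9747, 9747), (9748, 9748), (9749, 9749), (9750, 9750), (9751, 9751), (9752, 9752), (9753, 9753), (9754, 8049), (9755, 8050), (9756, 11706), (9757, 8052), (9758, 8053), (9759, 9504), (9760, 9505), (9761, 9502), (9762, 9503), (9763, 11713), (9764, 11705), (9765, 8051), (9766, 11717), (9767, 11708), (9768, 9768), (9769, 8056), (9770, 8057), (9771, 9771), (9772, 9772), (9773, 8068), (9774, 8069), (9775, 8070), (9776, 11720), (9777, 11721), (9778, 9778), (9779, 9779), (9780, 9780), (9781, 8078), (9782, 8079), (9783, 9783), (9784, 9784), (9785, 8085), (9786, 8086), (9787, 8087), (9788, 8088), (9789, 11725), (9790, 11726), (9791, 11727)]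
    ⟨e3 q9728 L241793 q9728, e3 q9729 L241801 q9729, e3 q9730 L241810 q9730, e3 q9731 L241842 q8025, e3 q9732 L241849 q8026, e3 q9733 L241867 q8028, e3 q9734 (flp_b L642960) q9440, e3 q9735 (flp_b L351325) q11687, e3 q9736 L642936 q9437, e3 q9737 L241973 q8031, e3 q9738 L241980 q8032, e3 q9739 L553796 q9395, e3 q9740 (flp_b L647800) q9485, e3 q9741 (flp_b L351507) q11689, e3 q9742 (flp_b L351515) q11690, e3 q9743 L242100 q9743, e3 q9744 L242110 q9744, e3 q9745 L242130 q9745, e3 q9746 L242183 q9746, e3 q9747 L242201 q9747, e3 q9748 L242209 q9748, e3 q9749 L242217 q9749, e3 q9750 L242224 q9750, e3 q9751 L242234 q9751, e3 q9752 L242242 q9752, e3 q9753 L242251 q9753, e3 q9754 L242283 q8049, e3 q9755 L242292 q8050, e3 q9756 L351989 q11706, e3 q9757 L242308 q8052, e3 q9758 L242318 q8053, e3 q9759 L640731 q9504, e3 q9760 L642968 q9505, e3 q9761 (flp_b L640940) q9502, e3 q9762 (flp_b L640911) q9503, e3 q9763 L352084 q11713, e3 q9764 (flp_b L351981) q11705, e3 q9765 (flp_b L242394) q8051, e3 q9766 (flp_b L352122) q11717, e3 q9767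 (flp_b L352008) q11708, e3 q9768 L242453 q9768, e3 q9769 L242457 q8056, e3 q9770 L242466 q8057, e3 q9771 L242576 q9771, e3 q9772 L242717 q9772, e3 q9773 L242736 q8068, e3 q9774 L242748 q8069, e3 q9775 L242756 q8070, e3 q9776 (flp_b L352654) q11720, e3 q9777 (flp_b L352664) q11721, e3 q9778 L242866 q9778, e3 q9779 L242910 q9779, e3 q9780 L242919 q9780, e3 q9781 L242949 q8078, e3 q9782 L242957 q8079, e3 q9783 L243128 q9783, e3 q9784 L243137 q9784, e3 q9785 L243169 q8085, e3 q9786 L243179 q8086, e3 q9787 L243187 q8087, e3 q9788 L243196 q8088, e3 q9789 (flp_b L353272) q11725, e3 q9790 (flp_b L353283) q11726, e3 q9791 (flp_b L353293) q11727, trivial⟩ (by decide +kernel)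

theorem ce_b_153 : ∀ r, r < 64 → sm gb (Qf (9792 + r)) = Qf (tab Gen.b (9792 + r)) :=
  edges_tab (sm gb) Qf (tab Gen.b) 9792 [(9792, 11728), (9793, 9704), (9794, 9794), (9795, 9795), (9796, 9796), (9797, 9797), (9798, 8098), (9799, 8099), (9800, 8100), (9801, 8101), (9802, 11737), (9803, 11738), (9804, 8294), (9805, 8295), (9806, 8296), (9807, 8297), (9808, 8298), (9809, 8110), (9810, 8111), (9811, 8112), (9812, 8113), (9813, 8114), (9814, 11747), (9815, 11748), (9816, 11749), (9817, 11750), (9818, 11751), (9819, 11752), (9820, 11753), (9821, 8116), (9822, 8117), (9823, 11758), (9824, 11759), (9825, 11760), (9826, 11761), (9827, 11762), (9828, 9828), (9829, 9829), (9830, 9830), (9831, 8323), (9832, 8324), (9833, 8325), (9834, 8326), (9835, 8327), (9836, 8328), (9837, 8329), (9838, 8330), (9839, 8331), (9840, 8132), (9841, 8133), (9842, 8134), (9843, 8135), (9844, 8136), (9845, 8138), (9846, 11784), (9847, 11786), (9848, 9439), (9849, 8384), (9850, 8385), (9851, 8386), (9852, 8387), (9853, 8388), (9854, 8389), (9855, 8390)]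
    ⟨e3 q9792 (flp_b L353301) q11728, e3 q9793 L644329 q9704, e3 q9794 L243335 q9794, e3 q9795 L243374 q9795, e3 q9796 L243382 q9796, e3 q9797 L243398 q9797, e3 q9798 L243439 q8098, e3 q9799 L243448 q8099, e3 q9800 L243456 q8100, e3 q9801 L243464 q8101, e3 q9802 (flp_b L353694) q11737, e3 q9803 (flp_b L353703) q11738, e3 q9804 L243648 q8294, e3 q9805 L243660 q8295, e3 q9806 L243670 q8296, e3 q9807 L243680 q8297, e3 q9808 L243689 q8298, e3 q9809 L243702 q8110, e3 q9810 L243710 q8111, e3 q9811 L243720 q8112, e3 q9812 L243731 q8113, e3 q9813 L243739 q8114, e3 q9814 (flp_b L354073) q11747, e3 q9815 (flp_b L354082) q11748, e3 q9816 (flp_b L354092) q11749, e3 q9817 (flp_b L354100) q11750, e3 q9818 (flp_b L354109) q11751, e3 q9819 (flp_b L354121) q11752, e3 q9820 (flp_b L354131) q11753, e3 q9821 L243825 q8116, e3 q9822 L243835 q8117, e3 q9823 (flp_b L354224) q11758, e3 q9824 (flp_b L354235) q11759, e3 q9825 (flp_b L354244) q11760, e3 q9826 (flp_b L354255) q11761, e3 q9827 (flp_b L354265) q11762, e3 q9828 L243894 q9828, e3 q9829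 L243901 q9829, e3 q9830 L243930 q9830, e3 q9831 L243937 q8323, e3 q9832 L243946 q8324, e3 q9833 L243954 q8325, e3 q9834 L243966 q8326, e3 q9835 L243976 q8327, e3 q9836 L243985 q8328, e3 q9837 L243994 q8329, e3 q9838 L244004 q8330, e3 q9839 L244014 q8331, e3 q9840 L244023 q8132, e3 q9841 L244030 q8133, e3 q9842 L244038 q8134, e3 q9843 L244046 q8135, e3 q9844 L244054 q8136, e3 q9845 L244073 q8138, e3 q9846 (flp_b L354595) q11784, e3 q9847 (flp_b L354609) q11786, e3 q9848 L644045 q9439, e3 q9849 L244270 q8384, e3 q9850 L244279 q8385, e3 q9851 L244289 q8386, e3 q9852 L244299 q8387, e3 q9853 L244310 q8388, e3 q9854 L244320 q8389, e3 q9855 L244328 q8390, trivial⟩ (by decide +kernel)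

theorem ce_b_154 : ∀ r, r < 64 → sm gb (Qf (9856 + r)) = Qf (tab Gen.b (9856 + r)) :=
  edges_tab (sm gb) Qf (tab Gen.b) 9856 [(9856, 8392), (9857, 8149), (9858, 8150), (9859, 8151), (9860, 8152), (9861, 8153), (9862, 8154), (9863, 8155), (9864, 11800), (9865, 11801), (9866, 11802), (9867, 11803), (9868, 11804), (9869, 11816), (9870, 11806), (9871, 11807), (9872, 8158), (9873, 8159), (9874, 8160), (9875, 8161), (9876, 8162), (9877, 11819), (9878, 11820), (9879, 11821), (9880, 11822), (9881, 11823), (9882, 11824), (9883, 11825), (9884, 8377), (9885, 11827), (9886, 9886), (9887, 9887), (9888, 9888), (9889, 9889), (9890, 9890), (9891, 9891), (9892, 8427), (9893, 8428), (9894, 8429), (9895, 8430), (9896, 8431), (9897, 8432), (9898, 8433), (9899, 8434), (9900, 8435), (9901, 8436), (9902, 8437), (9903, 8438), (9904, 8439), (9905, 8440), (9906, 8441), (9907, 8184), (9908, 8185), (9909, 8186), (9910, 8187), (9911, 8188), (9912, 11873), (9913, 8190), (9914, 8191), (9915, 11866), (9916, 11867), (9917, 11868), (9918, 11869), (9919,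 11870)]
    ⟨e3 q9856 L244348 q8392, e3 q9857 L244357 q8149, e3 q9858 L244367 q8150, e3 q9859 L244375 q8151, e3 q9860 L244383 q8152, e3 q9861 L244390 q8153, e3 q9862 L244400 q8154, e3 q9863 L244409 q8155, e3 q9864 (flp_b L355076) q11800, e3 q9865 (flp_b L355086) q11801, e3 q9866 (flp_b L355096) q11802, e3 q9867 (flp_b L355104) q11803, e3 q9868 (flp_b L355111) q11804, e3 q9869 L355219 q11816, e3 q9870 (flp_b L355126) q11806, e3 q9871 (flp_b L355135) q11807, e3 q9872 L244498 q8158, e3 q9873 L244507 q8159, e3 q9874 L244517 q8160, e3 q9875 L244526 q8161, e3 q9876 L244535 q8162, e3 q9877 (flp_b L355248) q11819, e3 q9878 (flp_b L355257) q11820, e3 q9879 (flp_b L355266) q11821, e3 q9880 (flp_b L355277) q11822, e3 q9881 (flp_b L355287) q11823, e3 q9882 (flp_b L355298) q11824, e3 q9883 (flp_b L355307) q11825, e3 q9884 (flp_b L550781) q8377, e3 q9885 (flp_b L355335) q11827, e3 q9886 L244622 q9886, e3 q9887 L244631 q9887, e3 q9888 L244638 q9888, e3 q9889 L244647 q9889, e3 q9890 L244654 q9890, e3 q9891 L244672 q9891, e3 q9892 L244679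 q8427, e3 q9893 L244686 q8428, e3 q9894 L244693 q8429, e3 q9895 L244703 q8430, e3 q9896 L244711 q8431, e3 q9897 L244721 q8432, e3 q9898 L244727 q8433, e3 q9899 L244737 q8434, e3 q9900 L244747 q8435, e3 q9901 L244756 q8436, e3 q9902 L244766 q8437, e3 q9903 L244771 q8438, e3 q9904 L244779 q8439, e3 q9905 L244786 q8440, e3 q9906 L244796 q8441, e3 q9907 L244803 q8184, e3 q9908 L244811 q8185, e3 q9909 L244821 q8186, e3 q9910 L244829 q8187, e3 q9911 L244835 q8188, e3 q9912 L355783 q11873, e3 q9913 L244847 q8190, e3 q9914 L244855 q8191, e3 q9915 (flp_b L355723) q11866, e3 q9916 (flp_b L355731) q11867, e3 q9917 (flp_b L355741) q11868, e3 q9918 (flp_b L355749) q11869, e3 q9919 (flp_b L355765) q11870, trivial⟩ (by decide +kernel)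

theorem ce_b_155 : ∀ r, r < 64 → sm gb (Qf (9920 + r)) = Qf (tab Gen.b (9920 + r)) :=
  edges_tab (sm gb) Qf (tab Gen.b) 9920 [(9920, 11872), (9921, 8189), (9922, 11879), (9923, 11875), (9924, 8509), (9925, 8510), (9926, 8511), (9927, 8512), (9928, 8513), (9929, 8514), (9930, 8515), (9931, 8516), (9932, 8517), (9933, 8518), (9934, 8519), (9935, 8520), (9936, 8523), (9937, 8207), (9938, 8208), (9939, 8209), (9940, 8210), (9941, 8211), (9942, 11907), (9943, 8213), (9944, 8214), (9945, 11899), (9946, 11900), (9947, 11901), (9948, 11902), (9949, 11903), (9950, 11904), (9951, 11918), (9952, 11906), (9953, 8212), (9954, 11922), (9955, 11909), (9956, 8220), (9957, 8221), (9958, 8222), (9959, 8223), (9960, 8224), (9961, 8225), (9962, 8226), (9963, 11688), (9964, 8228), (9965, 11924), (9966, 11925), (9967, 11926), (9968, 11927), (9969, 11928), (9970, 11929), (9971, 11930), (9972, 11931), (9973, 11932), (9974, 11933), (9975, 11935), (9976, 11936), (9977, 8500), (9978, 8502), (9979, 11938), (9980, 9980), (9981, 9981), (9982, 9982),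 (9983, 9983)]
    ⟨e3 q9920 (flp_b L355777) q11872, e3 q9921 (flp_b L244927) q8189, e3 q9922 (flp_b L355898) q11879, e3 q9923 (flp_b L355797) q11875, e3 q9924 L245159 q8509, e3 q9925 L245169 q8510, e3 q9926 L245178 q8511, e3 q9927 L245188 q8512, e3 q9928 L245199 q8513, e3 q9929 L245209 q8514, e3 q9930 L245216 q8515, e3 q9931 L245229 q8516, e3 q9932 L245238 q8517, e3 q9933 L245246 q8518, e3 q9934 L245256 q8519, e3 q9935 L245263 q8520, e3 q9936 L245292 q8523, e3 q9937 L245301 q8207, e3 q9938 L245310 q8208, e3 q9939 L245318 q8209, e3 q9940 L245327 q8210, e3 q9941 L245335 q8211, e3 q9942 L356523 q11907, e3 q9943 L245352 q8213, e3 q9944 L245362 q8214, e3 q9945 (flp_b L356453) q11899, e3 q9946 (flp_b L356463) q11900, e3 q9947 (flp_b L356471) q11901, e3 q9948 (flp_b L356480) q11902, e3 q9949 (flp_b L356490) q11903, e3 q9950 (flp_b L356499) q11904, e3 q9951 L356625 q11918, e3 q9952 (flp_b L356516) q11906, e3 q9953 (flp_b L245446) q8212, e3 q9954 (flp_b L356664) q11922, e3 q9955 (flp_b L356542) q11909, e3 q9956 L245480 q8220, e3 q9957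 L245490 q8221, e3 q9958 L245499 q8222, e3 q9959 L245511 q8223, e3 q9960 L245520 q8224, e3 q9961 L245529 q8225, e3 q9962 L245539 q8226, e3 q9963 (flp_b L351501) q11688, e3 q9964 L245566 q8228, e3 q9965 (flp_b L356696) q11924, e3 q9966 (flp_b L356705) q11925, e3 q9967 (flp_b L356715) q11926, e3 q9968 (flp_b L356724) q11927, e3 q9969 (flp_b L356734) q11928, e3 q9970 (flp_b L356745) q11929, e3 q9971 (flp_b L356754) q11930, e3 q9972 (flp_b L356766) q11931, e3 q9973 (flp_b L356776) q11932, e3 q9974 (flp_b L356785) q11933, e3 q9975 (flp_b L356803) q11935, e3 q9976 (flp_b L356811) q11936, e3 q9977 L554492 q8500, e3 q9978 (flp_b L550745) q8502, e3 q9979 (flp_b L356859) q11938, e3 q9980 L245699 q9980, e3 q9981 L245707 q9981, e3 q9982 L245716 q9982, e3 q9983 L245726 q9983, trivial⟩ (by decide +kernel)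

theorem ce_b_156 : ∀ r, r < 64 → sm gb (Qf (9984 + r)) = Qf (tab Gen.b (9984 + r)) :=
  edges_tab (sm gb) Qf (tab Gen.b) 9984 [(9984, 9984), (9985, 9591), (9986, 9986), (9987, 9987), (9988, 8570), (9989, 8571), (9990, 8572), (9991, 8573), (9992, 8574), (9993, 8575), (9994, 8576), (9995, 8577), (9996, 8578), (9997, 8579), (9998, 11988), (9999, 8581), (10000, 8582), (10001, 8583), (10002, 8584), (10003, 8585), (10004, 8586), (10005, 8587), (10006, 8588), (10007, 8589), (10008, 8590), (10009, 8591), (10010, 8592), (10011, 8259), (10012, 8260), (10013, 8261), (10014, 8262), (10015, 8263), (10016, 8264), (10017, 12013), (10018, 8266), (10019, 8256), (10020, 12017), (10021, 8269), (10022, 12005), (10023, 12006), (10024, 12007), (10025, 12022), (10026, 12009), (10027, 12010), (10028, 12027), (10029, 12012), (10030, 8265), (10031, 12031), (10032, 12015), (10033, 10033), (10034, 8268), (10035, 12034), (10036, 8270), (10037, 8281), (10038, 12036), (10039, 10039), (10040, 10040), (10041, 10041), (10042, 10042), (10043, 10043), (10044,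 10044), (10045, 10045), (10046, 10046), (10047, 8282)]
    ⟨e3 q9984 L245734 q9984, e3 q9985 (flp_b L549090) q9591, e3 q9986 L245751 q9986, e3 q9987 L245761 q9987, e3 q9988 L245767 q8570, e3 q9989 L245776 q8571, e3 q9990 L245785 q8572, e3 q9991 L245793 q8573, e3 q9992 L245802 q8574, e3 q9993 L245811 q8575, e3 q9994 L245819 q8576, e3 q9995 L245829 q8577, e3 q9996 L245840 q8578, e3 q9997 L245846 q8579, e3 q9998 L357306 q11988, e3 q9999 L245863 q8581, e3 q10000 L245870 q8582, e3 q10001 L245879 q8583, e3 q10002 L245887 q8584, e3 q10003 L245896 q8585, e3 q10004 L245903 q8586, e3 q10005 L245911 q8587, e3 q10006 L245919 q8588, e3 q10007 L245926 q8589, e3 q10008 L245934 q8590, e3 q10009 L245941 q8591, e3 q10010 L245950 q8592, e3 q10011 L245958 q8259, e3 q10012 L245966 q8260, e3 q10013 L245974 q8261, e3 q10014 L245983 q8262, e3 q10015 L245991 q8263, e3 q10016 L245999 q8264, e3 q10017 L357512 q12013, e3 q10018 L246013 q8266, e3 q10019 (flp_b L246019) q8256, e3 q10020 (flp_b L357542) q12017, e3 q10021 L246036 q8269, e3 q10022 (flp_b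 L357449) q12005, e3 q10023 (flp_b L357458) q12006, e3 q10024 (flp_b L357467) q12007, e3 q10025 L357601 q12022, e3 q10026 (flp_b L357482) q12009, e3 q10027 (flp_b L357489) q12010, e3 q10028 L357644 q12027, e3 q10029 (flp_b L357505) q12012, e3 q10030 (flp_b L246111) q8265, e3 q10031 (flp_b L357679) q12031, e3 q10032 (flp_b L357527) q12015, e3 q10033 L246141 q10033, e3 q10034 L246144 q8268, e3 q10035 (flp_b L357705) q12034, e3 q10036 (flp_b L246160) q8270, e3 q10037 (flp_b L614209) q8281, e3 q10038 (flp_b L357733) q12036, e3 q10039 L246194 q10039, e3 q10040 L246204 q10040, e3 q10041 L246213 q10041, e3 q10042 L246224 q10042, e3 q10043 L246236 q10043, e3 q10044 L246264 q10044, e3 q10045 L246273 q10045, e3 q10046 L246282 q10046, e3 q10047 L246300 q8282, trivial⟩ (by decide +kernel)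

theorem ce_b_157 : ∀ r, r < 64 → sm gb (Qf (10048 + r)) = Qf (tab Gen.b (10048 + r)) :=
  edges_tab (sm gb) Qf (tab Gen.b) 10048 [(10048, 8283), (10049, 8284), (10050, 8285), (10051, 8348), (10052, 12037), (10053, 12047), (10054, 12048), (10055, 12049), (10056, 12050), (10057, 8287), (10058, 8288), (10059, 12057), (10060, 12058), (10061, 12059), (10062, 11767), (10063, 12060), (10064, 10064), (10065, 10065), (10066, 10066), (10067, 10067), (10068, 10068), (10069, 11739), (10070, 11740), (10071, 11741), (10072, 11742), (10073, 11743), (10074, 11744), (10075, 11745), (10076, 8316), (10077, 11746), (10078, 8304), (10079, 8305), (10080, 8306), (10081, 8307), (10082, 8308), (10083, 8309), (10084, 8310), (10085, 12091), (10086, 12092), (10087, 12093), (10088, 12094), (10089, 12095), (10090, 12105), (10091, 12097), (10092, 12098), (10093, 8313), (10094, 8314), (10095, 8315), (10096, 8317), (10097, 12108), (10098, 12109), (10099, 12110), (10100, 12111), (10101, 12112), (10102, 12088), (10103, 12113), (10104, 12089), (10105, 10105),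 (10106, 10106), (10107, 10107), (10108, 10108), (10109, 10109), (10110, 10110), (10111, 10111)]
    ⟨e3 q10048 L246309 q8283, e3 q10049 L246319 q8284, e3 q10050 L246328 q8285, e3 q10051 L614140 q8348, e3 q10052 (flp_b L614125) q12037, e3 q10053 (flp_b L357955) q12047, e3 q10054 (flp_b L357965) q12048, e3 q10055 (flp_b L357975) q12049, e3 q10056 (flp_b L357986) q12050, e3 q10057 L246405 q8287, e3 q10058 L246415 q8288, e3 q10059 (flp_b L358072) q12057, e3 q10060 (flp_b L358083) q12058, e3 q10061 (flp_b L358092) q12059, e3 q10062 (flp_b L526584) q11767, e3 q10063 (flp_b L358109) q12060, e3 q10064 L246480 q10064, e3 q10065 L246490 q10065, e3 q10066 L246501 q10066, e3 q10067 L246513 q10067, e3 q10068 L246521 q10068, e3 q10069 (flp_b L353976) q11739, e3 q10070 (flp_b L353987) q11740, e3 q10071 (flp_b L353997) q11741, e3 q10072 (flp_b L354009) q11742, e3 q10073 (flp_b L354021) q11743, e3 q10074 (flp_b L354030) q11744, e3 q10075 (flp_b L354040) q11745, e3 q10076 (flp_b L550481) q8316, e3 q10077 (flp_b L354063) q11746, e3 q10078 L246607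 q8304, e3 q10079 L246617 q8305, e3 q10080 L246628 q8306, e3 q10081 L246636 q8307, e3 q10082 L246645 q8308, e3 q10083 L246657 q8309, e3 q10084 L246666 q8310, e3 q10085 (flp_b L358413) q12091, e3 q10086 (flp_b L358423) q12092, e3 q10087 (flp_b L358432) q12093, e3 q10088 (flp_b L358442) q12094, e3 q10089 (flp_b L358449) q12095, e3 q10090 L358554 q12105, e3 q10091 (flp_b L358466) q12097, e3 q10092 (flp_b L358476) q12098, e3 q10093 L246743 q8313, e3 q10094 L246752 q8314, e3 q10095 L246759 q8315, e3 q10096 L246776 q8317, e3 q10097 (flp_b L358582) q12108, e3 q10098 (flp_b L358591) q12109, e3 q10099 (flp_b L358598) q12110, e3 q10100 (flp_b L358609) q12111, e3 q10101 (flp_b L358618) q12112, e3 q10102 (flp_b L553496) q12088, e3 q10103 (flp_b L358635) q12113, e3 q10104 (flp_b L553555) q12089, e3 q10105 L246878 q10105, e3 q10106 L246887 q10106, e3 q10107 L246897 q10107, e3 q10108 L246906 q10108, e3 q10109 L246917 q10109, e3 q10110 L246928 q10110, e3 q10111 L246939 q10111, trivial⟩ (by decide +kernel)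

theorem ce_b_158 : ∀ r, r < 64 → sm gb (Qf (10112 + r)) = Qf (tab Gen.b (10112 + r)) :=
  edges_tab (sm gb) Qf (tab Gen.b) 10112 [(10112, 11771), (10113, 11772), (10114, 11773), (10115, 11774), (10116, 11775), (10117, 11776), (10118, 11777), (10119, 9438), (10120, 9400), (10121, 11778), (10122, 11779), (10123, 11780), (10124, 11781), (10125, 11782), (10126, 11783), (10127, 8339), (10128, 8340), (10129, 8341), (10130, 8342), (10131, 8343), (10132, 12162), (10133, 8345), (10134, 8346), (10135, 12157), (10136, 12158), (10137, 12159), (10138, 12161), (10139, 8344), (10140, 12167), (10141, 12164), (10142, 8349), (10143, 8366), (10144, 12051), (10145, 12169), (10146, 12170), (10147, 10147), (10148, 10148), (10149, 10149), (10150, 10150), (10151, 10151), (10152, 10152), (10153, 10153), (10154, 10154), (10155, 10155), (10156, 10156), (10157, 10157), (10158, 8365), (10159, 8367), (10160, 8368), (10161, 8369), (10162, 8370), (10163, 8371), (10164, 8463), (10165, 12188), (10166, 12171), (10167, 12189), (10168, 12190), (10169, 12201),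 (10170, 12192), (10171, 12193), (10172, 8374), (10173, 8375), (10174, 8376), (10175, 8378)]
    ⟨e3 q10112 (flp_b L354425) q11771, e3 q10113 (flp_b L354432) q11772, e3 q10114 (flp_b L354441) q11773, e3 q10115 (flp_b L354450) q11774, e3 q10116 (flp_b L354460) q11775, e3 q10117 (flp_b L354470) q11776, e3 q10118 (flp_b L354478) q11777, e3 q10119 L642454 q9438, e3 q10120 (flp_b L642488) q9400, e3 q10121 (flp_b L354509) q11778, e3 q10122 (flp_b L354518) q11779, e3 q10123 (flp_b L354525) q11780, e3 q10124 (flp_b L354535) q11781, e3 q10125 (flp_b L354544) q11782, e3 q10126 (flp_b L354555) q11783, e3 q10127 L247062 q8339, e3 q10128 L247070 q8340, e3 q10129 L247079 q8341, e3 q10130 L247089 q8342, e3 q10131 L247097 q8343, e3 q10132 L359145 q12162, e3 q10133 L247113 q8345, e3 q10134 L247124 q8346, e3 q10135 (flp_b L359075) q12157, e3 q10136 (flp_b L359103) q12158, e3 q10137 (flp_b L359122) q12159, e3 q10138 (flp_b L359138) q12161, e3 q10139 (flp_b L247198) q8344, e3 q10140 (flp_b L359276) q12167, e3 q10141 (flp_b L359166) q12164, e3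 q10142 L247236 q8349, e3 q10143 L614333 q8366, e3 q10144 (flp_b L614159) q12051, e3 q10145 (flp_b L359323) q12169, e3 q10146 (flp_b L359331) q12170, e3 q10147 L247291 q10147, e3 q10148 L247300 q10148, e3 q10149 L247308 q10149, e3 q10150 L247318 q10150, e3 q10151 L247329 q10151, e3 q10152 L247352 q10152, e3 q10153 L247369 q10153, e3 q10154 L247378 q10154, e3 q10155 L247386 q10155, e3 q10156 L247394 q10156, e3 q10157 L247403 q10157, e3 q10158 L247412 q8365, e3 q10159 L247429 q8367, e3 q10160 L247437 q8368, e3 q10161 L247445 q8369, e3 q10162 L247453 q8370, e3 q10163 L247463 q8371, e3 q10164 L614351 q8463, e3 q10165 (flp_b L359626) q12188, e3 q10166 (flp_b L614344) q12171, e3 q10167 (flp_b L359643) q12189, e3 q10168 (flp_b L359652) q12190, e3 q10169 L359756 q12201, e3 q10170 (flp_b L359667) q12192, e3 q10171 (flp_b L359676) q12193, e3 q10172 L247545 q8374, e3 q10173 L247554 q8375, e3 q10174 L247564 q8376, e3 q10175 L247578 q8378, trivial⟩ (by decide +kernel)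

theorem ce_b_159 : ∀ r, r < 64 → sm gb (Qf (10176 + r)) = Qf (tab Gen.b (10176 + r)) :=
  edges_tab (sm gb) Qf (tab Gen.b) 10176 [(10176, 12204), (10177, 12205), (10178, 12206), (10179, 12207), (10180, 12208), (10181, 11837), (10182, 12209), (10183, 11838), (10184, 10184), (10185, 10185), (10186, 10186), (10187, 10187), (10188, 10188), (10189, 10189), (10190, 10190), (10191, 11787), (10192, 11788), (10193, 11789), (10194, 11790), (10195, 11791), (10196, 11792), (10197, 11793), (10198, 11794), (10199, 11795), (10200, 11796), (10201, 11797), (10202, 11798), (10203, 8417), (10204, 8419), (10205, 11799), (10206, 8400), (10207, 8401), (10208, 8402), (10209, 8403), (10210, 8404), (10211, 12262), (10212, 8406), (10213, 8407), (10214, 12254), (10215, 12255), (10216, 12256), (10217, 12257), (10218, 12258), (10219, 12259), (10220, 12273), (10221, 12261), (10222, 8405), (10223, 12277), (10224, 12264), (10225, 8412), (10226, 8413), (10227, 8414), (10228, 8415), (10229, 8416), (10230, 8418), (10231, 12280), (10232, 12281), (10233, 12282),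 (10234, 12283), (10235, 12284), (10236, 12285), (10237, 12286), (10238, 12287), (10239, 12251)]
    ⟨e3 q10176 (flp_b L359782) q12204, e3 q10177 (flp_b L359791) q12205, e3 q10178 (flp_b L359800) q12206, e3 q10179 (flp_b L359809) q12207, e3 q10180 (flp_b L359819) q12208, e3 q10181 (flp_b L554656) q11837, e3 q10182 (flp_b L359835) q12209, e3 q10183 (flp_b L554635) q11838, e3 q10184 L247676 q10184, e3 q10185 L247688 q10185, e3 q10186 L247698 q10186, e3 q10187 L247707 q10187, e3 q10188 L247715 q10188, e3 q10189 L247726 q10189, e3 q10190 L247735 q10190, e3 q10191 (flp_b L354934) q11787, e3 q10192 (flp_b L354943) q11788, e3 q10193 (flp_b L354950) q11789, e3 q10194 (flp_b L354962) q11790, e3 q10195 (flp_b L354972) q11791, e3 q10196 (flp_b L354982) q11792, e3 q10197 (flp_b L354988) q11793, e3 q10198 (flp_b L355000) q11794, e3 q10199 (flp_b L355010) q11795, e3 q10200 (flp_b L355020) q11796, e3 q10201 (flp_b L355032) q11797, e3 q10202 (flp_b L355038) q11798, e3 q10203 (flp_b L553434) q8417, e3 q10204 L553572 q8419, e3 q10205 (flp_b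 L355066) q11799, e3 q10206 L247852 q8400, e3 q10207 L247863 q8401, e3 q10208 L247873 q8402, e3 q10209 L247881 q8403, e3 q10210 L247888 q8404, e3 q10211 L360314 q12262, e3 q10212 L247903 q8406, e3 q10213 L247911 q8407, e3 q10214 (flp_b L360244) q12254, e3 q10215 (flp_b L360255) q12255, e3 q10216 (flp_b L360265) q12256, e3 q10217 (flp_b L360274) q12257, e3 q10218 (flp_b L360286) q12258, e3 q10219 (flp_b L360293) q12259, e3 q10220 L360402 q12273, e3 q10221 (flp_b L360308) q12261, e3 q10222 (flp_b L247985) q8405, e3 q10223 (flp_b L360430) q12277, e3 q10224 (flp_b L360329) q12264, e3 q10225 L248007 q8412, e3 q10226 L248014 q8413, e3 q10227 L248021 q8414, e3 q10228 L248030 q8415, e3 q10229 L248038 q8416, e3 q10230 L248054 q8418, e3 q10231 (flp_b L360451) q12280, e3 q10232 (flp_b L360458) q12281, e3 q10233 (flp_b L360465) q12282, e3 q10234 (flp_b L360474) q12283, e3 q10235 (flp_b L360481) q12284, e3 q10236 (flp_b L360490) q12285, e3 q10237 (flp_b L360496) q12286, e3 q10238 (flp_b L360505) q12287, e3 q10239 (flp_b L506546) q12251,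 trivial⟩ (by decide +kernel)

theorem ce_b_160 : ∀ r, r < 64 → sm gb (Qf (10240 + r)) = Qf (tab Gen.b (10240 + r)) :=
  edges_tab (sm gb) Qf (tab Gen.b) 10240 [(10240, 12288), (10241, 12248), (10242, 12252), (10243, 12253), (10244, 10244), (10245, 10245), (10246, 10246), (10247, 10247), (10248, 10248), (10249, 12316), (10250, 10250), (10251, 10251), (10252, 11844), (10253, 11845), (10254, 11846), (10255, 11847), (10256, 11848), (10257, 11849), (10258, 11850), (10259, 11851), (10260, 11852), (10261, 11853), (10262, 12337), (10263, 11855), (10264, 11856), (10265, 9445), (10266, 11857), (10267, 11858), (10268, 11859), (10269, 11860), (10270, 11861), (10271, 11862), (10272, 11863), (10273, 11864), (10274, 11865), (10275, 8450), (10276, 8451), (10277, 8452), (10278, 8453), (10279, 8454), (10280, 8455), (10281, 12362), (10282, 8457), (10283, 8447), (10284, 12366), (10285, 8460), (10286, 12354), (10287, 12355), (10288, 12356), (10289, 12371), (10290, 12358), (10291, 12359), (10292, 12361), (10293, 8456), (10294, 12378), (10295,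 12364), (10296, 10296), (10297, 8459), (10298, 12381), (10299, 8464), (10300, 8465), (10301, 8466), (10302, 12194), (10303, 12383)]
    ⟨e3 q10240 (flp_b L360523) q12288, e3 q10241 (flp_b L550815) q12248, e3 q10242 (flp_b L550810) q12252, e3 q10243 (flp_b L506477) q12253, e3 q10244 L248219 q10244, e3 q10245 L248229 q10245, e3 q10246 L248240 q10246, e3 q10247 L248249 q10247, e3 q10248 L248258 q10248, e3 q10249 L360870 q12316, e3 q10250 L248275 q10250, e3 q10251 L248285 q10251, e3 q10252 (flp_b L355536) q11844, e3 q10253 (flp_b L355544) q11845, e3 q10254 (flp_b L355551) q11846, e3 q10255 (flp_b L355558) q11847, e3 q10256 (flp_b L355566) q11848, e3 q10257 (flp_b L355573) q11849, e3 q10258 (flp_b L355583) q11850, e3 q10259 (flp_b L355595) q11851, e3 q10260 (flp_b L355605) q11852, e3 q10261 (flp_b L355611) q11853, e3 q10262 L361017 q12337, e3 q10263 (flp_b L355627) q11855, e3 q10264 (flp_b L355633) q11856, e3 q10265 (flp_b L642512) q9445, e3 q10266 (flp_b L355650) q11857, e3 q10267 (flp_b L355660) q11858, e3 q10268 (flp_b L355667)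 q11859, e3 q10269 (flp_b L355677) q11860, e3 q10270 (flp_b L355684) q11861, e3 q10271 (flp_b L355690) q11862, e3 q10272 (flp_b L355697) q11863, e3 q10273 (flp_b L355706) q11864, e3 q10274 (flp_b L355714) q11865, e3 q10275 L248449 q8450, e3 q10276 L248458 q8451, e3 q10277 L248468 q8452, e3 q10278 L248477 q8453, e3 q10279 L248487 q8454, e3 q10280 L248495 q8455, e3 q10281 L361208 q12362, e3 q10282 L248509 q8457, e3 q10283 (flp_b L248516) q8447, e3 q10284 (flp_b L361241) q12366, e3 q10285 L248533 q8460, e3 q10286 (flp_b L361139) q12354, e3 q10287 (flp_b L361149) q12355, e3 q10288 (flp_b L361158) q12356, e3 q10289 L361299 q12371, e3 q10290 (flp_b L361175) q12358, e3 q10291 (flp_b L361185) q12359, e3 q10292 (flp_b L361201) q12361, e3 q10293 (flp_b L248606) q8456, e3 q10294 (flp_b L361372) q12378, e3 q10295 (flp_b L361225) q12364, e3 q10296 L248633 q10296, e3 q10297 L248636 q8459, e3 q10298 (flp_b L361396) q12381, e3 q10299 L248670 q8464, e3 q10300 L248679 q8465, e3 q10301 L248686 q8466, e3 q10302 (flp_b L614364) q12194, e3 q10303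 (flp_b L361456) q12383, trivial⟩ (by decide +kernel)

theorem ce_b_161 : ∀ r, r < 64 → sm gb (Qf (10304 + r)) = Qf (tab Gen.b (10304 + r)) :=
  edges_tab (sm gb) Qf (tab Gen.b) 10304 [(10304, 12384), (10305, 12385), (10306, 10306), (10307, 10307), (10308, 10308), (10309, 10309), (10310, 10310), (10311, 10311), (10312, 10312), (10313, 10313), (10314, 10314), (10315, 10315), (10316, 10316), (10317, 10317), (10318, 10318), (10319, 8485), (10320, 8486), (10321, 8488), (10322, 8491), (10323, 9680), (10324, 9670), (10325, 12405), (10326, 9671), (10327, 12406), (10328, 9690), (10329, 9672), (10330, 8489), (10331, 12412), (10332, 8496), (10333, 8497), (10334, 8498), (10335, 8499), (10336, 8501), (10337, 12413), (10338, 12414), (10339, 12415), (10340, 12416), (10341, 12417), (10342, 12418), (10343, 11958), (10344, 12419), (10345, 11955), (10346, 11959), (10347, 11960), (10348, 10348), (10349, 10349), (10350, 10350), (10351, 10351), (10352, 10352), (10353, 11880), (10354, 11881), (10355, 11882), (10356, 11883), (10357, 11884), (10358,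 11885), (10359, 11886), (10360, 11887), (10361, 11888), (10362, 11889), (10363, 12454), (10364, 11891), (10365, 11892), (10366, 11893), (10367, 11894)]
    ⟨e3 q10304 (flp_b L361465) q12384, e3 q10305 (flp_b L361491) q12385, e3 q10306 L248830 q10306, e3 q10307 L248840 q10307, e3 q10308 L248881 q10308, e3 q10309 L248890 q10309, e3 q10310 L248895 q10310, e3 q10311 L248905 q10311, e3 q10312 L248913 q10312, e3 q10313 L248921 q10313, e3 q10314 L248929 q10314, e3 q10315 L248936 q10315, e3 q10316 L248946 q10316, e3 q10317 L248954 q10317, e3 q10318 L248963 q10318, e3 q10319 L248980 q8485, e3 q10320 L248987 q8486, e3 q10321 L249006 q8488, e3 q10322 L249033 q8491, e3 q10323 L616297 q9680, e3 q10324 (flp_b L561746) q9670, e3 q10325 (flp_b L361933) q12405, e3 q10326 (flp_b L561729) q9671, e3 q10327 (flp_b L361952) q12406, e3 q10328 L616190 q9690, e3 q10329 L561777 q9672, e3 q10330 (flp_b L249113) q8489, e3 q10331 (flp_b L362120) q12412, e3 q10332 L249154 q8496, e3 q10333 L249163 q8497, e3 q10334 L249173 q8498, e3 q10335 L249182 q8499,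 e3 q10336 L249197 q8501, e3 q10337 (flp_b L362168) q12413, e3 q10338 (flp_b L362177) q12414, e3 q10339 (flp_b L362187) q12415, e3 q10340 (flp_b L362196) q12416, e3 q10341 (flp_b L362203) q12417, e3 q10342 (flp_b L362215) q12418, e3 q10343 (flp_b L554478) q11958, e3 q10344 (flp_b L362230) q12419, e3 q10345 (flp_b L554502) q11955, e3 q10346 (flp_b L554454) q11959, e3 q10347 (flp_b L550731) q11960, e3 q10348 L249367 q10348, e3 q10349 L249378 q10349, e3 q10350 L249387 q10350, e3 q10351 L249406 q10351, e3 q10352 L249436 q10352, e3 q10353 (flp_b L356239) q11880, e3 q10354 (flp_b L356250) q11881, e3 q10355 (flp_b L356261) q11882, e3 q10356 (flp_b L356269) q11883, e3 q10357 (flp_b L356278) q11884, e3 q10358 (flp_b L356289) q11885, e3 q10359 (flp_b L356299) q11886, e3 q10360 (flp_b L356309) q11887, e3 q10361 (flp_b L356320) q11888, e3 q10362 (flp_b L356326) q11889, e3 q10363 L362757 q12454, e3 q10364 (flp_b L356345) q11891, e3 q10365 (flp_b L356352) q11892, e3 q10366 (flp_b L356361) q11893, e3 q10367 (flp_b L356370) q11894, trivial⟩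 (by decide +kernel)

theorem ce_b_162 : ∀ r, r < 64 → sm gb (Qf (10368 + r)) = Qf (tab Gen.b (10368 + r)) :=
  edges_tab (sm gb) Qf (tab Gen.b) 10368 [(10368, 11895), (10369, 11896), (10370, 8559), (10371, 11897), (10372, 11898), (10373, 8557), (10374, 8560), (10375, 8561), (10376, 8532), (10377, 8533), (10378, 8534), (10379, 8535), (10380, 8536), (10381, 8537), (10382, 12479), (10383, 8539), (10384, 8529), (10385, 12481), (10386, 12471), (10387, 12472), (10388, 12473), (10389, 12487), (10390, 12475), (10391, 12476), (10392, 9689), (10393, 12478), (10394, 8538), (10395, 12494), (10396, 9341), (10397, 10397), (10398, 8541), (10399, 12497), (10400, 8549), (10401, 8550), (10402, 8551), (10403, 8552), (10404, 8553), (10405, 8554), (10406, 8555), (10407, 8556), (10408, 8558), (10409, 12499), (10410, 12500), (10411, 12501), (10412, 12502), (10413, 12503), (10414, 12504), (10415, 12505), (10416, 12506), (10417, 12507), (10418, 12508), (10419, 12529), (10420, 12457), (10421, 12510), (10422, 12468), (10423, 12511), (10424, 12465),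 (10425, 12469), (10426, 12466), (10427, 12470), (10428, 10428), (10429, 10429), (10430, 10430), (10431, 10431)]
    ⟨e3 q10368 (flp_b L356381) q11895, e3 q10369 (flp_b L356389) q11896, e3 q10370 (flp_b L550680) q8559, e3 q10371 (flp_b L356407) q11897, e3 q10372 (flp_b L356415) q11898, e3 q10373 (flp_b L553422) q8557, e3 q10374 (flp_b L553379) q8560, e3 q10375 (flp_b L550738) q8561, e3 q10376 L249609 q8532, e3 q10377 L249620 q8533, e3 q10378 L249628 q8534, e3 q10379 L249638 q8535, e3 q10380 L249648 q8536, e3 q10381 L249657 q8537, e3 q10382 L362943 q12479, e3 q10383 L249674 q8539, e3 q10384 (flp_b L249680) q8529, e3 q10385 (flp_b L362978) q12481, e3 q10386 (flp_b L362874) q12471, e3 q10387 (flp_b L362883) q12472, e3 q10388 (flp_b L362893) q12473, e3 q10389 L363039 q12487, e3 q10390 (flp_b L362911) q12475, e3 q10391 (flp_b L362919) q12476, e3 q10392 (flp_b L616029) q9689, e3 q10393 (flp_b L362936) q12478, e3 q10394 (flp_b L249774) q8538, e3 q10395 (flp_b L363117) q12494, e3 q10396 (flp_b L562429) q9341, e3 q10397 L249803 q10397,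 e3 q10398 L249806 q8541, e3 q10399 (flp_b L363140) q12497, e3 q10400 L249832 q8549, e3 q10401 L249839 q8550, e3 q10402 L249847 q8551, e3 q10403 L249854 q8552, e3 q10404 L249862 q8553, e3 q10405 L249871 q8554, e3 q10406 L249878 q8555, e3 q10407 L249888 q8556, e3 q10408 L249903 q8558, e3 q10409 (flp_b L363177) q12499, e3 q10410 (flp_b L363185) q12500, e3 q10411 (flp_b L363193) q12501, e3 q10412 (flp_b L363200) q12502, e3 q10413 (flp_b L363209) q12503, e3 q10414 (flp_b L363217) q12504, e3 q10415 (flp_b L363224) q12505, e3 q10416 (flp_b L363233) q12506, e3 q10417 (flp_b L363243) q12507, e3 q10418 (flp_b L363249) q12508, e3 q10419 L363571 q12529, e3 q10420 (flp_b L550671) q12457, e3 q10421 (flp_b L363271) q12510, e3 q10422 (flp_b L552043) q12468, e3 q10423 (flp_b L363288) q12511, e3 q10424 (flp_b L506552) q12465, e3 q10425 (flp_b L550719) q12469, e3 q10426 (flp_b L550723) q12466, e3 q10427 (flp_b L506481) q12470, e3 q10428 L250178 q10428, e3 q10429 L250188 q10429, e3 q10430 L250197 q10430, e3 q10431 L250208 q10431, trivial⟩ (by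 decide +kernel)

theorem ce_b_163 : ∀ r, r < 64 → sm gb (Qf (10432 + r)) = Qf (tab Gen.b (10432 + r)) :=
  edges_tab (sm gb) Qf (tab Gen.b) 10432 [(10432, 10432), (10433, 10433), (10434, 12548), (10435, 10435), (10436, 8567), (10437, 12551), (10438, 11970), (10439, 11971), (10440, 11972), (10441, 11973), (10442, 11974), (10443, 11975), (10444, 12563), (10445, 11977), (10446, 11978), (10447, 11979), (10448, 11980), (10449, 11981), (10450, 11982), (10451, 11983), (10452, 11984), (10453, 12578), (10454, 11986), (10455, 11987), (10456, 8580), (10457, 12585), (10458, 12586), (10459, 11991), (10460, 11992), (10461, 11993), (10462, 11994), (10463, 11995), (10464, 11996), (10465, 11997), (10466, 11998), (10467, 11999), (10468, 12000), (10469, 12001), (10470, 12002), (10471, 12003), (10472, 12004), (10473, 8604), (10474, 8605), (10475, 8606), (10476, 12610), (10477, 8608), (10478, 8609), (10479, 12615), (10480, 8611), (10481, 8599), (10482, 12619), (10483, 8614), (10484, 12550), (10485, 8602), (10486, 12622), (10487, 12605), (10488,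 12606), (10489, 12627), (10490, 12608), (10491, 12609), (10492, 8607), (10493, 12633), (10494, 12634), (10495, 12613)]
    ⟨e3 q10432 L250217 q10432, e3 q10433 L250228 q10433, e3 q10434 L363808 q12548, e3 q10435 L250247 q10435, e3 q10436 (flp_b L250253) q8567, e3 q10437 (flp_b L363848) q12551, e3 q10438 (flp_b L357155) q11970, e3 q10439 (flp_b L357163) q11971, e3 q10440 (flp_b L357172) q11972, e3 q10441 (flp_b L357181) q11973, e3 q10442 (flp_b L357190) q11974, e3 q10443 (flp_b L357198) q11975, e3 q10444 L363952 q12563, e3 q10445 (flp_b L357214) q11977, e3 q10446 (flp_b L357222) q11978, e3 q10447 (flp_b L357231) q11979, e3 q10448 (flp_b L357240) q11980, e3 q10449 (flp_b L357250) q11981, e3 q10450 (flp_b L357258) q11982, e3 q10451 (flp_b L357268) q11983, e3 q10452 (flp_b L357275) q11984, e3 q10453 L364062 q12578, e3 q10454 (flp_b L357292) q11986, e3 q10455 (flp_b L357300) q11987, e3 q10456 (flp_b L250410) q8580, e3 q10457 (flp_b L364108) q12585, e3 q10458 (flp_b L364114) q12586, e3 q10459 (flp_b L357331) q11991, e3 q10460 (flp_b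 L357340) q11992, e3 q10461 (flp_b L357349) q11993, e3 q10462 (flp_b L357356) q11994, e3 q10463 (flp_b L357364) q11995, e3 q10464 (flp_b L357373) q11996, e3 q10465 (flp_b L357378) q11997, e3 q10466 (flp_b L357386) q11998, e3 q10467 (flp_b L357393) q11999, e3 q10468 (flp_b L357400) q12000, e3 q10469 (flp_b L357409) q12001, e3 q10470 (flp_b L357417) q12002, e3 q10471 (flp_b L357425) q12003, e3 q10472 (flp_b L357433) q12004, e3 q10473 L250533 q8604, e3 q10474 L250542 q8605, e3 q10475 L250552 q8606, e3 q10476 L364307 q12610, e3 q10477 L250568 q8608, e3 q10478 L250577 q8609, e3 q10479 L364353 q12615, e3 q10480 L250595 q8611, e3 q10481 (flp_b L250603) q8599, e3 q10482 (flp_b L364392) q12619, e3 q10483 L250621 q8614, e3 q10484 (flp_b L363844) q12550, e3 q10485 L250640 q8602, e3 q10486 (flp_b L364420) q12622, e3 q10487 (flp_b L364262) q12605, e3 q10488 (flp_b L364273) q12606, e3 q10489 L364466 q12627, e3 q10490 (flp_b L364290) q12608, e3 q10491 (flp_b L364299) q12609, e3 q10492 (flp_b L250702) q8607, e3 q10493 (flp_b L364521) q12633,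 e3 q10494 (flp_b L364530) q12634, e3 q10495 (flp_b L364336) q12613, trivial⟩ (by decide +kernel)

theorem ce_b_164 : ∀ r, r < 64 → sm gb (Qf (10496 + r)) = Qf (tab Gen.b (10496 + r)) :=
  edges_tab (sm gb) Qf (tab Gen.b) 10496 [(10496, 12614), (10497, 8610), (10498, 12640), (10499, 12617), (10500, 10500), (10501, 8613), (10502, 12643), (10503, 10503), (10504, 8617), (10505, 12646), (10506, 9669), (10507, 10507), (10508, 10508), (10509, 10509), (10510, 10510), (10511, 10511), (10512, 10512), (10513, 10513), (10514, 8634), (10515, 8635), (10516, 12657), (10517, 8638), (10518, 9653), (10519, 8632), (10520, 12654), (10521, 9342), (10522, 9337), (10523, 12656), (10524, 9338), (10525, 8637), (10526, 9339), (10527, 9340), (10528, 8643), (10529, 12659), (10530, 10530), (10531, 8647), (10532, 12388), (10533, 9326), (10534, 9322), (10535, 9327), (10536, 9330), (10537, 9208), (10538, 9319), (10539, 10539), (10540, 10540), (10541, 12670), (10542, 10542), (10543, 9587), (10544, 8657), (10545, 8684), (10546, 10546), (10547, 10547), (10548,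 10548), (10549, 10549), (10550, 10550), (10551, 10551), (10552, 10552), (10553, 10553), (10554, 12685), (10555, 10555), (10556, 8665), (10557, 12688), (10558, 10558), (10559, 10559)]
    ⟨e3 q10496 (flp_b L364345) q12614, e3 q10497 (flp_b L250746) q8610, e3 q10498 (flp_b L364584) q12640, e3 q10499 (flp_b L364373) q12617, e3 q10500 L250779 q10500, e3 q10501 L250782 q8613, e3 q10502 (flp_b L364611) q12643, e3 q10503 L250801 q10503, e3 q10504 L250808 q8617, e3 q10505 (flp_b L364638) q12646, e3 q10506 (flp_b L542807) q9669, e3 q10507 L252397 q10507, e3 q10508 L252497 q10508, e3 q10509 L252506 q10509, e3 q10510 L252515 q10510, e3 q10511 L252522 q10511, e3 q10512 L252536 q10512, e3 q10513 L252566 q10513, e3 q10514 L252772 q8634, e3 q10515 L252782 q8635, e3 q10516 L367582 q12657, e3 q10517 L252807 q8638, e3 q10518 (flp_b L616039) q9653, e3 q10519 (flp_b L252836) q8632, e3 q10520 (flp_b L367540) q12654, e3 q10521 L563138 q9342, e3 q10522 (flp_b L616034) q9337, e3 q10523 (flp_b L367567) q12656, e3 q10524 L563153 q9338, e3 q10525 (flp_b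 L252922) q8637, e3 q10526 (flp_b L561514) q9339, e3 q10527 (flp_b L562360) q9340, e3 q10528 L252994 q8643, e3 q10529 (flp_b L367847) q12659, e3 q10530 L253010 q10530, e3 q10531 L253017 q8647, e3 q10532 (flp_b L648197) q12388, e3 q10533 (flp_b L542669) q9326, e3 q10534 L562992 q9322, e3 q10535 L562180 q9327, e3 q10536 (flp_b L542645) q9330, e3 q10537 L562138 q9208, e3 q10538 (flp_b L562977) q9319, e3 q10539 L253520 q10539, e3 q10540 L253531 q10540, e3 q10541 L368678 q12670, e3 q10542 L253558 q10542, e3 q10543 L646346 q9587, e3 q10544 (flp_b L253593) q8657, e3 q10545 L253623 q8684, e3 q10546 L253646 q10546, e3 q10547 L253653 q10547, e3 q10548 L253661 q10548, e3 q10549 L253669 q10549, e3 q10550 L253676 q10550, e3 q10551 L253685 q10551, e3 q10552 L253692 q10552, e3 q10553 L253700 q10553, e3 q10554 L368905 q12685, e3 q10555 L253721 q10555, e3 q10556 (flp_b L253726) q8665, e3 q10557 (flp_b L368967) q12688, e3 q10558 L253767 q10558, e3 q10559 L253778 q10559, trivial⟩ (by decide +kernel)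

theorem ce_b_165 : ∀ r, r < 64 → sm gb (Qf (10560 + r)) = Qf (tab Gen.b (10560 + r)) :=
  edges_tab (sm gb) Qf (tab Gen.b) 10560 [(10560, 12691), (10561, 10561), (10562, 12693), (10563, 8671), (10564, 9385), (10565, 8687), (10566, 8688), (10567, 12698), (10568, 8690), (10569, 8691), (10570, 8676), (10571, 12704), (10572, 12705), (10573, 8695), (10574, 8696), (10575, 8679), (10576, 12711), (10577, 8699), (10578, 12672), (10579, 8682), (10580, 12714), (10581, 9368), (10582, 8686), (10583, 12717), (10584, 12701), (10585, 12696), (10586, 12697), (10587, 8689), (10588, 12702), (10589, 10589), (10590, 8693), (10591, 8694), (10592, 12721), (10593, 12709), (10594, 10594), (10595, 8698), (10596, 12725), (10597, 10597), (10598, 8702), (10599, 12728), (10600, 10600), (10601, 8705), (10602, 11692), (10603, 10603), (10604, 8719), (10605, 8720), (10606, 8721), (10607, 10607), (10608, 10608), (10609, 10609), (10610, 8728), (10611, 8729), (10612, 10612), (10613, 10613), (10614, 8740), (10615, 8741), (10616, 8742), (10617, 8743), (10618,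 8744), (10619, 8746), (10620, 12733), (10621, 12734), (10622, 12735), (10623, 12736)]
    ⟨e3 q10560 L369047 q12691, e3 q10561 L253803 q10561, e3 q10562 L369094 q12693, e3 q10563 (flp_b L253839) q8671, e3 q10564 (flp_b L543465) q9385, e3 q10565 L253981 q8687, e3 q10566 L253990 q8688, e3 q10567 L369335 q12698, e3 q10568 L254006 q8690, e3 q10569 L254014 q8691, e3 q10570 (flp_b L254022) q8676, e3 q10571 (flp_b L369386) q12704, e3 q10572 (flp_b L369395) q12705, e3 q10573 L254047 q8695, e3 q10574 L254057 q8696, e3 q10575 (flp_b L254063) q8679, e3 q10576 (flp_b L369445) q12711, e3 q10577 L254081 q8699, e3 q10578 (flp_b L368756) q12672, e3 q10579 L254096 q8682, e3 q10580 (flp_b L369472) q12714, e3 q10581 L543225 q9368, e3 q10582 L254122 q8686, e3 q10583 (flp_b L369495) q12717, e3 q10584 L647091 q12701, e3 q10585 (flp_b L369317) q12696, e3 q10586 (flp_b L369326) q12697, e3 q10587 (flp_b L254162) q8689, e3 q10588 (flp_b L369370) q12702, e3 q10589 L254210 q10589, e3 q10590 L254213 q8693, e3 q10591 L254220 q8694, e3 q10592 (flp_b L369654)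 q12721, e3 q10593 (flp_b L369428) q12709, e3 q10594 L254269 q10594, e3 q10595 L254272 q8698, e3 q10596 (flp_b L369715) q12725, e3 q10597 L254292 q10597, e3 q10598 L254299 q8702, e3 q10599 (flp_b L369738) q12728, e3 q10600 L254314 q10600, e3 q10601 L254321 q8705, e3 q10602 (flp_b L553725) q11692, e3 q10603 L255254 q10603, e3 q10604 L255584 q8719, e3 q10605 L255600 q8720, e3 q10606 L255608 q8721, e3 q10607 L256155 q10607, e3 q10608 L256164 q10608, e3 q10609 L256173 q10609, e3 q10610 L256226 q8728, e3 q10611 L256259 q8729, e3 q10612 L256461 q10612, e3 q10613 L256534 q10613, e3 q10614 L256625 q8740, e3 q10615 L256634 q8741, e3 q10616 L256641 q8742, e3 q10617 L256649 q8743, e3 q10618 L256658 q8744, e3 q10619 L256671 q8746, e3 q10620 (flp_b L373227) q12733, e3 q10621 (flp_b L373234) q12734, e3 q10622 (flp_b L373243) q12735, e3 q10623 (flp_b L373258) q12736, trivial⟩ (by decide +kernel)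

theorem ce_b_166 : ∀ r, r < 64 → sm gb (Qf (10624 + r)) = Qf (tab Gen.b (10624 + r)) :=
  edges_tab (sm gb) Qf (tab Gen.b) 10624 [(10624, 12739), (10625, 12737), (10626, 8745), (10627, 12738), (10628, 8980), (10629, 8981), (10630, 8982), (10631, 8984), (10632, 8986), (10633, 8757), (10634, 8758), (10635, 8761), (10636, 8763), (10637, 8765), (10638, 12744), (10639, 9623), (10640, 8973), (10641, 12745), (10642, 8974), (10643, 10643), (10644, 10644), (10645, 10645), (10646, 10646), (10647, 10647), (10648, 10648), (10649, 9014), (10650, 9015), (10651, 9017), (10652, 9018), (10653, 9019), (10654, 9022), (10655, 9023), (10656, 9024), (10657, 9025), (10658, 9026), (10659, 8786), (10660, 8787), (10661, 8788), (10662, 8789), (10663, 12772), (10664, 8791), (10665, 8792), (10666, 12768), (10667, 12769), (10668, 12771), (10669, 8790), (10670, 12775), (10671, 9061), (10672, 9062), (10673, 9063), (10674, 9064), (10675, 9065), (10676, 9066), (10677, 9067), (10678, 9068), (10679, 9070), (10680, 8808), (10681, 8809), (10682, 8810), (10683,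 12142), (10684, 8811), (10685, 8812), (10686, 12787), (10687, 12789)]
    ⟨e3 q10624 L373372 q12739, e3 q10625 (flp_b L373282) q12737, e3 q10626 (flp_b L256747) q8745, e3 q10627 (flp_b L373303) q12738, e3 q10628 L257133 q8980, e3 q10629 L257143 q8981, e3 q10630 L257153 q8982, e3 q10631 L257176 q8984, e3 q10632 L257195 q8986, e3 q10633 L257256 q8757, e3 q10634 L257275 q8758, e3 q10635 L257357 q8761, e3 q10636 L257376 q8763, e3 q10637 L257398 q8765, e3 q10638 (flp_b L374305) q12744, e3 q10639 (flp_b L621555) q9623, e3 q10640 L576209 q8973, e3 q10641 (flp_b L374350) q12745, e3 q10642 (flp_b L576195) q8974, e3 q10643 L257495 q10643, e3 q10644 L257510 q10644, e3 q10645 L257519 q10645, e3 q10646 L257527 q10646, e3 q10647 L257536 q10647, e3 q10648 L257547 q10648, e3 q10649 L257562 q9014, e3 q10650 L257570 q9015, e3 q10651 L257587 q9017, e3 q10652 L257597 q9018, e3 q10653 L257603 q9019, e3 q10654 L257634 q9022, e3 q10655 L257643 q9023, e3 q10656 L257652 q9024, e3 q10657 L257663 q9025, e3 q10658 L257672 q9026, e3 q10659 L257699 q8786,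 e3 q10660 L257706 q8787, e3 q10661 L257716 q8788, e3 q10662 L257723 q8789, e3 q10663 L374872 q12772, e3 q10664 L257736 q8791, e3 q10665 L257745 q8792, e3 q10666 (flp_b L374834) q12768, e3 q10667 (flp_b L374841) q12769, e3 q10668 (flp_b L374865) q12771, e3 q10669 (flp_b L257819) q8790, e3 q10670 (flp_b L374992) q12775, e3 q10671 L258356 q9061, e3 q10672 L258366 q9062, e3 q10673 L258372 q9063, e3 q10674 L258382 q9064, e3 q10675 L258392 q9065, e3 q10676 L258402 q9066, e3 q10677 L258406 q9067, e3 q10678 L258416 q9068, e3 q10679 L258436 q9070, e3 q10680 L258486 q8808, e3 q10681 L258496 q8809, e3 q10682 L258518 q8810, e3 q10683 (flp_b L637564) q12142, e3 q10684 L258530 q8811, e3 q10685 L258536 q8812, e3 q10686 (flp_b L376013) q12787, e3 q10687 (flp_b L376059) q12789, trivial⟩ (by decide +kernel)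

theorem ce_b_167 : ∀ r, r < 64 → sm gb (Qf (10688 + r)) = Qf (tab Gen.b (10688 + r)) :=
  edges_tab (sm gb) Qf (tab Gen.b) 10688 [(10688, 8817), (10689, 8818), (10690, 8819), (10691, 8821), (10692, 8823), (10693, 12790), (10694, 12791), (10695, 12792), (10696, 12793), (10697, 9629), (10698, 9052), (10699, 12794), (10700, 9050), (10701, 9053), (10702, 10702), (10703, 10703), (10704, 10704), (10705, 10705), (10706, 10706), (10707, 10707), (10708, 10708), (10709, 9110), (10710, 9112), (10711, 9113), (10712, 9114), (10713, 9115), (10714, 9116), (10715, 9117), (10716, 9118), (10717, 9119), (10718, 12826), (10719, 9121), (10720, 9122), (10721, 9124), (10722, 9125), (10723, 9126), (10724, 9127), (10725, 9128), (10726, 9129), (10727, 9130), (10728, 8854), (10729, 8855), (10730, 8856), (10731, 8857), (10732, 8858), (10733, 8859), (10734, 12846), (10735, 8861), (10736, 8851), (10737, 12849), (10738, 8864), (10739, 12838), (10740, 12839), (10741, 12840), (10742, 12853), (10743, 12842), (10744, 12843), (10745, 12856), (10746, 12845),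 (10747, 8860), (10748, 12859), (10749, 12848), (10750, 10750), (10751, 8863)]
    ⟨e3 q10688 L258630 q8817, e3 q10689 L258638 q8818, e3 q10690 L258647 q8819, e3 q10691 L258667 q8821, e3 q10692 L258688 q8823, e3 q10693 (flp_b L376192) q12790, e3 q10694 (flp_b L376210) q12791, e3 q10695 (flp_b L376221) q12792, e3 q10696 (flp_b L376227) q12793, e3 q10697 L622166 q9629, e3 q10698 (flp_b L576469) q9052, e3 q10699 (flp_b L376259) q12794, e3 q10700 L550089 q9050, e3 q10701 (flp_b L576542) q9053, e3 q10702 L258851 q10702, e3 q10703 L258860 q10703, e3 q10704 L258869 q10704, e3 q10705 L258878 q10705, e3 q10706 L258886 q10706, e3 q10707 L258900 q10707, e3 q10708 L258908 q10708, e3 q10709 L258916 q9110, e3 q10710 L258930 q9112, e3 q10711 L258938 q9113, e3 q10712 L258944 q9114, e3 q10713 L258950 q9115, e3 q10714 L258960 q9116, e3 q10715 L258970 q9117, e3 q10716 L258980 q9118, e3 q10717 L258986 q9119, e3 q10718 L376757 q12826, e3 q10719 L259000 q9121, e3 q10720 L259006 q9122, e3 q10721 L259023 q9124, e3 q10722 L259033 q9125, e3 q10723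 L259042 q9126, e3 q10724 L259053 q9127, e3 q10725 L259062 q9128, e3 q10726 L259078 q9129, e3 q10727 L259087 q9130, e3 q10728 L259105 q8854, e3 q10729 L259111 q8855, e3 q10730 L259121 q8856, e3 q10731 L259127 q8857, e3 q10732 L259135 q8858, e3 q10733 L259142 q8859, e3 q10734 L376962 q12846, e3 q10735 L259155 q8861, e3 q10736 (flp_b L259162) q8851, e3 q10737 (flp_b L376990) q12849, e3 q10738 L259174 q8864, e3 q10739 (flp_b L376905) q12838, e3 q10740 (flp_b L376913) q12839, e3 q10741 (flp_b L376921) q12840, e3 q10742 L377040 q12853, e3 q10743 (flp_b L376935) q12842, e3 q10744 (flp_b L376942) q12843, e3 q10745 L377074 q12856, e3 q10746 (flp_b L376955) q12845, e3 q10747 (flp_b L259240) q8860, e3 q10748 (flp_b L377107) q12859, e3 q10749 (flp_b L376978) q12848, e3 q10750 L259268 q10750, e3 q10751 L259271 q8863, trivial⟩ (by decide +kernel)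

theorem ce_b_168 : ∀ r, r < 64 → sm gb (Qf (10752 + r)) = Qf (tab Gen.b (10752 + r)) :=
  edges_tab (sm gb) Qf (tab Gen.b) 10752 [(10752, 12862), (10753, 12864), (10754, 9507), (10755, 8867), (10756, 12868), (10757, 9510), (10758, 9170), (10759, 9171), (10760, 9172), (10761, 9173), (10762, 9174), (10763, 9175), (10764, 9176), (10765, 9177), (10766, 9178), (10767, 9179), (10768, 12885), (10769, 9182), (10770, 9184), (10771, 8887), (10772, 8888), (10773, 8889), (10774, 8890), (10775, 8891), (10776, 8892), (10777, 12893), (10778, 8894), (10779, 8884), (10780, 12897), (10781, 8897), (10782, 12888), (10783, 12899), (10784, 12890), (10785, 12902), (10786, 12892), (10787, 8893), (10788, 12906), (10789, 12895), (10790, 10790), (10791, 8896), (10792, 12909), (10793, 8904), (10794, 8905), (10795, 8906), (10796, 8907), (10797, 8908), (10798, 8909), (10799, 8910), (10800, 8911), (10801, 8913), (10802, 12911), (10803, 9645), (10804, 12912), (10805, 12455), (10806, 12913), (10807, 12914), (10808, 12915), (10809, 12916), (10810, 12917),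 (10811, 12918), (10812, 12936), (10813, 9161), (10814, 12919), (10815, 9163)]
    ⟨e3 q10752 (flp_b L377132) q12862, e3 q10753 L377812 q12864, e3 q10754 L549392 q9507, e3 q10755 (flp_b L259744) q8867, e3 q10756 (flp_b L377850) q12868, e3 q10757 L549219 q9510, e3 q10758 L260075 q9170, e3 q10759 L260084 q9171, e3 q10760 L260096 q9172, e3 q10761 L260105 q9173, e3 q10762 L260112 q9174, e3 q10763 L260122 q9175, e3 q10764 L260132 q9176, e3 q10765 L260140 q9177, e3 q10766 L260151 q9178, e3 q10767 L260157 q9179, e3 q10768 L378505 q12885, e3 q10769 L260181 q9182, e3 q10770 L260197 q9184, e3 q10771 L260273 q8887, e3 q10772 L260281 q8888, e3 q10773 L260289 q8889, e3 q10774 L260296 q8890, e3 q10775 L260304 q8891, e3 q10776 L260312 q8892, e3 q10777 L378705 q12893, e3 q10778 L260328 q8894, e3 q10779 (flp_b L260334) q8884, e3 q10780 (flp_b L378735) q12897, e3 q10781 L260347 q8897, e3 q10782 (flp_b L378664) q12888, e3 q10783 L378788 q12899, e3 q10784 (flp_b L378684) q12890, e3 q10785 L378823 q12902, e3 q10786 (flp_b L378698) q12892, e3 q10787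 (flp_b L260416) q8893, e3 q10788 (flp_b L378860) q12906, e3 q10789 (flp_b L378720) q12895, e3 q10790 L260446 q10790, e3 q10791 L260449 q8896, e3 q10792 (flp_b L378884) q12909, e3 q10793 L260474 q8904, e3 q10794 L260484 q8905, e3 q10795 L260493 q8906, e3 q10796 L260500 q8907, e3 q10797 L260510 q8908, e3 q10798 L260521 q8909, e3 q10799 L260528 q8910, e3 q10800 L260538 q8911, e3 q10801 L260558 q8913, e3 q10802 (flp_b L378921) q12911, e3 q10803 (flp_b L615374) q9645, e3 q10804 (flp_b L378940) q12912, e3 q10805 (flp_b L546920) q12455, e3 q10806 (flp_b L378959) q12913, e3 q10807 (flp_b L378968) q12914, e3 q10808 (flp_b L378977) q12915, e3 q10809 (flp_b L378986) q12916, e3 q10810 (flp_b L378998) q12917, e3 q10811 (flp_b L379006) q12918, e3 q10812 L379352 q12936, e3 q10813 L554300 q9161, e3 q10814 (flp_b L379032) q12919, e3 q10815 L554216 q9163, trivial⟩ (by decide +kernel)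

theorem ce_b_169 : ∀ r, r < 64 → sm gb (Qf (10816 + r)) = Qf (tab Gen.b (10816 + r)) :=
  edges_tab (sm gb) Qf (tab Gen.b) 10816 [(10816, 12920), (10817, 9160), (10818, 9164), (10819, 9162), (10820, 10820), (10821, 10821), (10822, 10822), (10823, 10823), (10824, 10824), (10825, 10825), (10826, 12953), (10827, 10827), (10828, 8921), (10829, 12957), (10830, 10830), (10831, 9239), (10832, 9240), (10833, 9241), (10834, 9242), (10835, 9243), (10836, 9244), (10837, 12969), (10838, 9246), (10839, 9247), (10840, 9248), (10841, 9249), (10842, 9250), (10843, 9251), (10844, 9252), (10845, 9253), (10846, 12984), (10847, 9255), (10848, 9256), (10849, 8934), (10850, 12991), (10851, 12992), (10852, 9260), (10853, 9261), (10854, 9262), (10855, 9263), (10856, 9264), (10857, 9265), (10858, 9266), (10859, 9267), (10860, 9268), (10861, 9269), (10862, 9270), (10863, 8956), (10864, 8957), (10865, 8958), (10866, 13011), (10867, 8960), (10868, 8961), (10869, 13016), (10870, 8963), (10871, 8951), (10872, 13020), (10873, 8966), (10874, 12956), (10875,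 8954), (10876, 13023), (10877, 13006), (10878, 13007), (10879, 13026)]
    ⟨e3 q10816 (flp_b L379052) q12920, e3 q10817 (flp_b L554285) q9160, e3 q10818 L576445 q9164, e3 q10819 (flp_b L554336) q9162, e3 q10820 L260839 q10820, e3 q10821 L260846 q10821, e3 q10822 L260855 q10822, e3 q10823 L260863 q10823, e3 q10824 L260870 q10824, e3 q10825 L260880 q10825, e3 q10826 L379571 q12953, e3 q10827 L260898 q10827, e3 q10828 (flp_b L260904) q8921, e3 q10829 (flp_b L379606) q12957, e3 q10830 L260922 q10830, e3 q10831 L260928 q9239, e3 q10832 L260935 q9240, e3 q10833 L260944 q9241, e3 q10834 L260951 q9242, e3 q10835 L260961 q9243, e3 q10836 L260969 q9244, e3 q10837 L379714 q12969, e3 q10838 L260984 q9246, e3 q10839 L260993 q9247, e3 q10840 L261000 q9248, e3 q10841 L261007 q9249, e3 q10842 L261017 q9250, e3 q10843 L261023 q9251, e3 q10844 L261031 q9252, e3 q10845 L261038 q9253, e3 q10846 L379830 q12984, e3 q10847 L261055 q9255, e3 q10848 L261063 q9256, e3 q10849 (flp_b L261069) q8934, e3 q10850 (flp_b L379884) q12991, e3 q10851 (flp_b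 L379892) q12992, e3 q10852 L261091 q9260, e3 q10853 L261098 q9261, e3 q10854 L261107 q9262, e3 q10855 L261112 q9263, e3 q10856 L261122 q9264, e3 q10857 L261132 q9265, e3 q10858 L261139 q9266, e3 q10859 L261157 q9267, e3 q10860 L261166 q9268, e3 q10861 L261186 q9269, e3 q10862 L261194 q9270, e3 q10863 L261218 q8956, e3 q10864 L261225 q8957, e3 q10865 L261234 q8958, e3 q10866 L380106 q13011, e3 q10867 L261247 q8960, e3 q10868 L261253 q8961, e3 q10869 L380139 q13016, e3 q10870 L261268 q8963, e3 q10871 (flp_b L261276) q8951, e3 q10872 (flp_b L380175) q13020, e3 q10873 L261293 q8966, e3 q10874 (flp_b L379602) q12956, e3 q10875 L261308 q8954, e3 q10876 (flp_b L380200) q13023, e3 q10877 (flp_b L380068) q13006, e3 q10878 (flp_b L380076) q13007, e3 q10879 L380234 q13026, trivial⟩ (by decide +kernel)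

theorem ce_b_170 : ∀ r, r < 64 → sm gb (Qf (10880 + r)) = Qf (tab Gen.b (10880 + r)) :=
  edges_tab (sm gb) Qf (tab Gen.b) 10880 [(10880, 13009), (10881, 13010), (10882, 8959), (10883, 13032), (10884, 13033), (10885, 13014), (10886, 13015), (10887, 8962), (10888, 13039), (10889, 13018), (10890, 10890), (10891, 8965), (10892, 13042), (10893, 10893), (10894, 8969), (10895, 13045), (10896, 8971), (10897, 9001), (10898, 9000), (10899, 12749), (10900, 9624), (10901, 12750), (10902, 10902), (10903, 10903), (10904, 10904), (10905, 10905), (10906, 10906), (10907, 10907), (10908, 10908), (10909, 12740), (10910, 11763), (10911, 11785), (10912, 12741), (10913, 12742), (10914, 9595), (10915, 9004), (10916, 12743), (10917, 9002), (10918, 9005), (10919, 8995), (10920, 12160), (10921, 8996), (10922, 8997), (10923, 13067), (10924, 13048), (10925, 12061), (10926, 9048), (10927, 13047), (10928, 13061), (10929, 13065), (10930, 9628), (10931, 13064), (10932, 10932), (10933, 10933), (10934, 10934), (10935, 10935), (10936, 10936), (10937, 12149),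 (10938, 10938), (10939, 10939), (10940, 9626), (10941, 12756), (10942, 12757), (10943, 9637)]
    ⟨e3 q10880 (flp_b L380090) q13009, e3 q10881 (flp_b L380098) q13010, e3 q10882 (flp_b L261362) q8959, e3 q10883 (flp_b L380289) q13032, e3 q10884 (flp_b L380295) q13033, e3 q10885 (flp_b L380127) q13014, e3 q10886 (flp_b L380134) q13015, e3 q10887 (flp_b L261397) q8962, e3 q10888 (flp_b L380342) q13039, e3 q10889 (flp_b L380158) q13018, e3 q10890 L261433 q10890, e3 q10891 L261436 q8965, e3 q10892 (flp_b L380372) q13042, e3 q10893 L261456 q10893, e3 q10894 L261463 q8969, e3 q10895 (flp_b L380396) q13045, e3 q10896 L261477 q8971, e3 q10897 (flp_b L611870) q9001, e3 q10898 (flp_b L612425) q9000, e3 q10899 (flp_b L550196) q12749, e3 q10900 (flp_b L621545) q9624, e3 q10901 (flp_b L576426) q12750, e3 q10902 L261622 q10902, e3 q10903 L261631 q10903, e3 q10904 L261643 q10904, e3 q10905 L261652 q10905, e3 q10906 L261661 q10906, e3 q10907 L261672 q10907, e3 q10908 L261683 q10908, e3 q10909 (flp_b L373994) q12740, e3 q10910 (flp_b L620514)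 q11763, e3 q10911 (flp_b L640403) q11785, e3 q10912 (flp_b L374033) q12741, e3 q10913 (flp_b L374039) q12742, e3 q10914 L611731 q9595, e3 q10915 L504155 q9004, e3 q10916 (flp_b L374071) q12743, e3 q10917 L553479 q9002, e3 q10918 L576388 q9005, e3 q10919 L261849 q8995, e3 q10920 (flp_b L637525) q12160, e3 q10921 L261865 q8996, e3 q10922 L261874 q8997, e3 q10923 (flp_b L381012) q13067, e3 q10924 (flp_b L611899) q13048, e3 q10925 (flp_b L611863) q12061, e3 q10926 L617567 q9048, e3 q10927 (flp_b L611856) q13047, e3 q10928 (flp_b L504863) q13061, e3 q10929 (flp_b L553491) q13065, e3 q10930 L617519 q9628, e3 q10931 (flp_b L504175) q13064, e3 q10932 L262212 q10932, e3 q10933 L262221 q10933, e3 q10934 L262229 q10934, e3 q10935 L262240 q10935, e3 q10936 L262250 q10936, e3 q10937 (flp_b L642482) q12149, e3 q10938 L262268 q10938, e3 q10939 L262279 q10939, e3 q10940 (flp_b L612194) q9626, e3 q10941 (flp_b L374626) q12756, e3 q10942 (flp_b L374634) q12757, e3 q10943 L617553 q9637, trivial⟩ (by decide +kernel)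

theorem ce_b_171 : ∀ r, r < 64 → sm gb (Qf (10944 + r)) = Qf (tab Gen.b (10944 + r)) :=
  edges_tab (sm gb) Qf (tab Gen.b) 10944 [(10944, 12758), (10945, 9635), (10946, 12759), (10947, 12760), (10948, 13094), (10949, 12762), (10950, 12763), (10951, 9636), (10952, 9625), (10953, 12764), (10954, 12765), (10955, 12766), (10956, 12767), (10957, 9035), (10958, 9036), (10959, 9037), (10960, 9038), (10961, 9039), (10962, 9040), (10963, 13110), (10964, 9042), (10965, 9032), (10966, 13114), (10967, 9045), (10968, 13104), (10969, 13105), (10970, 13107), (10971, 13108), (10972, 13119), (10973, 13109), (10974, 9041), (10975, 13122), (10976, 13112), (10977, 10977), (10978, 9044), (10979, 13125), (10980, 9049), (10981, 9096), (10982, 13071), (10983, 13126), (10984, 9093), (10985, 12801), (10986, 12798), (10987, 12803), (10988, 9632), (10989, 12802), (10990, 10990), (10991, 10991), (10992, 10992), (10993, 10993), (10994, 10994), (10995, 13146), (10996, 10996), (10997, 10997), (10998, 12776), (10999, 12777), (11000, 12778), (11001, 12779),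 (11002, 12780), (11003, 12781), (11004, 11871), (11005, 12782), (11006, 12783), (11007, 13164)]
    ⟨e3 q10944 (flp_b L374651) q12758, e3 q10945 (flp_b L617537) q9635, e3 q10946 (flp_b L374672) q12759, e3 q10947 (flp_b L374678) q12760, e3 q10948 L381749 q13094, e3 q10949 (flp_b L374694) q12762, e3 q10950 (flp_b L374702) q12763, e3 q10951 L621686 q9636, e3 q10952 (flp_b L621678) q9625, e3 q10953 (flp_b L374752) q12764, e3 q10954 (flp_b L374763) q12765, e3 q10955 (flp_b L374783) q12766, e3 q10956 (flp_b L374791) q12767, e3 q10957 L262468 q9035, e3 q10958 L262476 q9036, e3 q10959 L262485 q9037, e3 q10960 L262492 q9038, e3 q10961 L262499 q9039, e3 q10962 L262510 q9040, e3 q10963 L381964 q13110, e3 q10964 L262527 q9042, e3 q10965 (flp_b L262535) q9032, e3 q10966 (flp_b L382001) q13114, e3 q10967 L262554 q9045, e3 q10968 (flp_b L381897) q13104, e3 q10969 (flp_b L381906) q13105, e3 q10970 (flp_b L381929) q13107, e3 q10971 (flp_b L381937) q13108, e3 q10972 L382094 q13119, e3 q10973 (flp_b L381954) q13109, e3 q10974 (flp_b L262626)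 q9041, e3 q10975 (flp_b L382134) q13122, e3 q10976 (flp_b L381983) q13112, e3 q10977 L262657 q10977, e3 q10978 L262660 q9044, e3 q10979 (flp_b L382161) q13125, e3 q10980 L262686 q9049, e3 q10981 (flp_b L617182) q9096, e3 q10982 (flp_b L617528) q13071, e3 q10983 (flp_b L382200) q13126, e3 q10984 L612496 q9093, e3 q10985 (flp_b L576464) q12801, e3 q10986 (flp_b L550202) q12798, e3 q10987 (flp_b L576436) q12803, e3 q10988 L622160 q9632, e3 q10989 (flp_b L474109) q12802, e3 q10990 L262903 q10990, e3 q10991 L262915 q10991, e3 q10992 L262924 q10992, e3 q10993 L262933 q10993, e3 q10994 L262942 q10994, e3 q10995 L382618 q13146, e3 q10996 L262959 q10996, e3 q10997 L262967 q10997, e3 q10998 (flp_b L375795) q12776, e3 q10999 (flp_b L375813) q12777, e3 q11000 (flp_b L375821) q12778, e3 q11001 (flp_b L375827) q12779, e3 q11002 (flp_b L375835) q12780, e3 q11003 (flp_b L375847) q12781, e3 q11004 (flp_b L636009) q11871, e3 q11005 (flp_b L375867) q12782, e3 q11006 (flp_b L375873) q12783, e3 q11007 L382763 q13164, trivial⟩ (by decide +kernel)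

theorem ce_b_172 : ∀ r, r < 64 → sm gb (Qf (11008 + r)) = Qf (tab Gen.b (11008 + r)) :=
  edges_tab (sm gb) Qf (tab Gen.b) 11008 [(11008, 9098), (11009, 12785), (11010, 9100), (11011, 12786), (11012, 9097), (11013, 9101), (11014, 9099), (11015, 9081), (11016, 9082), (11017, 9083), (11018, 9084), (11019, 9085), (11020, 12360), (11021, 9086), (11022, 9078), (11023, 13179), (11024, 9089), (11025, 13172), (11026, 13174), (11027, 13175), (11028, 13177), (11029, 11029), (11030, 9088), (11031, 13184), (11032, 9094), (11033, 9095), (11034, 13131), (11035, 13133), (11036, 13153), (11037, 13186), (11038, 13127), (11039, 13170), (11040, 13128), (11041, 13162), (11042, 13171), (11043, 13201), (11044, 13167), (11045, 13169), (11046, 11046), (11047, 11047), (11048, 11048), (11049, 11049), (11050, 11050), (11051, 11051), (11052, 12343), (11053, 11053), (11054, 9107), (11055, 13214), (11056, 11056), (11057, 9666), (11058, 9638), (11059, 12812), (11060, 12813), (11061, 12814), (11062, 13221), (11063, 12815), (11064, 12816), (11065, 12817),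 (11066, 12818), (11067, 12819), (11068, 12820), (11069, 12821), (11070, 12822), (11071, 13235)]
    ⟨e3 q11008 (flp_b L552233) q9098, e3 q11009 (flp_b L375895) q12785, e3 q11010 L554143 q9100, e3 q11011 (flp_b L375911) q12786, e3 q11012 (flp_b L552226) q9097, e3 q11013 L576395 q9101, e3 q11014 L576402 q9099, e3 q11015 L263140 q9081, e3 q11016 L263149 q9082, e3 q11017 L263159 q9083, e3 q11018 L263166 q9084, e3 q11019 L263184 q9085, e3 q11020 (flp_b L637599) q12360, e3 q11021 L263200 q9086, e3 q11022 (flp_b L263207) q9078, e3 q11023 (flp_b L382981) q13179, e3 q11024 L263220 q9089, e3 q11025 (flp_b L382902) q13172, e3 q11026 (flp_b L382919) q13174, e3 q11027 (flp_b L382927) q13175, e3 q11028 (flp_b L382965) q13177, e3 q11029 L263314 q11029, e3 q11030 L263317 q9088, e3 q11031 (flp_b L383122) q13184, e3 q11032 L263343 q9094, e3 q11033 L263349 q9095, e3 q11034 (flp_b L612519) q13131, e3 q11035 (flp_b L612514) q13133, e3 q11036 (flp_b L504829) q13153, e3 q11037 (flp_b L383177) q13186, e3 q11038 (flp_b L617173) q13127, e3 q11039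 (flp_b L552221) q13170, e3 q11040 (flp_b L617166) q13128, e3 q11041 (flp_b L504866) q13162, e3 q11042 (flp_b L504892) q13171, e3 q11043 L383532 q13201, e3 q11044 (flp_b L504860) q13167, e3 q11045 (flp_b L554107) q13169, e3 q11046 L263681 q11046, e3 q11047 L263689 q11047, e3 q11048 L263700 q11048, e3 q11049 L263708 q11049, e3 q11050 L263717 q11050, e3 q11051 L263727 q11051, e3 q11052 (flp_b L642506) q12343, e3 q11053 L263745 q11053, e3 q11054 (flp_b L263752) q9107, e3 q11055 (flp_b L383806) q13214, e3 q11056 L263770 q11056, e3 q11057 L617255 q9666, e3 q11058 L622102 q9638, e3 q11059 (flp_b L376637) q12812, e3 q11060 (flp_b L376651) q12813, e3 q11061 (flp_b L376659) q12814, e3 q11062 L383893 q13221, e3 q11063 (flp_b L376671) q12815, e3 q11064 (flp_b L376679) q12816, e3 q11065 (flp_b L376685) q12817, e3 q11066 (flp_b L376693) q12818, e3 q11067 (flp_b L376705) q12819, e3 q11068 (flp_b L376711) q12820, e3 q11069 (flp_b L376721) q12821, e3 q11070 (flp_b L376727) q12822, e3 q11071 L383983 q13235, trivial⟩ (by decide +kernel)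

theorem ce_b_173 : ∀ r, r < 64 → sm gb (Qf (11072 + r)) = Qf (tab Gen.b (11072 + r)) :=
  edges_tab (sm gb) Qf (tab Gen.b) 11072 [(11072, 12824), (11073, 12825), (11074, 9120), (11075, 13242), (11076, 13243), (11077, 12829), (11078, 12830), (11079, 12831), (11080, 9634), (11081, 12832), (11082, 12833), (11083, 12834), (11084, 12835), (11085, 12836), (11086, 12837), (11087, 9142), (11088, 9143), (11089, 9144), (11090, 13260), (11091, 9146), (11092, 9147), (11093, 13265), (11094, 9149), (11095, 9137), (11096, 13269), (11097, 9152), (11098, 13213), (11099, 9140), (11100, 13272), (11101, 13255), (11102, 13256), (11103, 13275), (11104, 13258), (11105, 13259), (11106, 9145), (11107, 13281), (11108, 13282), (11109, 13263), (11110, 13264), (11111, 9148), (11112, 13288), (11113, 13267), (11114, 11114), (11115, 9151), (11116, 13291), (11117, 11117), (11118, 9155), (11119, 13294), (11120, 9158), (11121, 9159), (11122, 13187), (11123, 12943), (11124, 12941), (11125, 12934), (11126, 12944), (11127, 12939), (11128, 12942), (11129, 11129),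 (11130, 11130), (11131, 11131), (11132, 11132), (11133, 12870), (11134, 12871), (11135, 12872)]
    ⟨e3 q11072 (flp_b L376743) q12824, e3 q11073 (flp_b L376751) q12825, e3 q11074 (flp_b L263886) q9120, e3 q11075 (flp_b L384027) q13242, e3 q11076 (flp_b L384033) q13243, e3 q11077 (flp_b L376776) q12829, e3 q11078 (flp_b L376782) q12830, e3 q11079 (flp_b L376790) q12831, e3 q11080 L622061 q9634, e3 q11081 (flp_b L376814) q12832, e3 q11082 (flp_b L376823) q12833, e3 q11083 (flp_b L376843) q12834, e3 q11084 (flp_b L376852) q12835, e3 q11085 (flp_b L376870) q12836, e3 q11086 (flp_b L376879) q12837, e3 q11087 L264014 q9142, e3 q11088 L264022 q9143, e3 q11089 L264031 q9144, e3 q11090 L384230 q13260, e3 q11091 L264046 q9146, e3 q11092 L264055 q9147, e3 q11093 L384267 q13265, e3 q11094 L264070 q9149, e3 q11095 (flp_b L264078) q9137, e3 q11096 (flp_b L384304) q13269, e3 q11097 L264097 q9152, e3 q11098 (flp_b L383802) q13213, e3 q11099 L264113 q9140, e3 q11100 (flp_b L384331) q13272, e3 q11101 (flp_b L384189) q13255, e3 q11102 (flp_b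 L384196) q13256, e3 q11103 L384362 q13275, e3 q11104 (flp_b L384211) q13258, e3 q11105 (flp_b L384222) q13259, e3 q11106 (flp_b L264166) q9145, e3 q11107 (flp_b L384415) q13281, e3 q11108 (flp_b L384422) q13282, e3 q11109 (flp_b L384252) q13263, e3 q11110 (flp_b L384262) q13264, e3 q11111 (flp_b L264201) q9148, e3 q11112 (flp_b L384468) q13288, e3 q11113 (flp_b L384286) q13267, e3 q11114 L264232 q11114, e3 q11115 L264235 q9151, e3 q11116 (flp_b L384495) q13291, e3 q11117 L264255 q11117, e3 q11118 L264260 q9155, e3 q11119 (flp_b L384518) q13294, e3 q11120 L264298 q9158, e3 q11121 L264305 q9159, e3 q11122 (flp_b L616058) q13187, e3 q11123 (flp_b L554277) q12943, e3 q11124 (flp_b L554271) q12941, e3 q11125 (flp_b L554282) q12934, e3 q11126 (flp_b L554324) q12944, e3 q11127 (flp_b L554333) q12939, e3 q11128 (flp_b L554054) q12942, e3 q11129 L264642 q11129, e3 q11130 L264652 q11130, e3 q11131 L264670 q11131, e3 q11132 L264690 q11132, e3 q11133 (flp_b L378352) q12870, e3 q11134 (flp_b L378361) q12871, e3 q11135 (flp_b L378372)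 q12872, trivial⟩ (by decide +kernel)

theorem ce_b_174 : ∀ r, r < 64 → sm gb (Qf (11136 + r)) = Qf (tab Gen.b (11136 + r)) :=
  edges_tab (sm gb) Qf (tab Gen.b) 11136 [(11136, 12873), (11137, 12874), (11138, 12875), (11139, 9219), (11140, 12876), (11141, 12877), (11142, 12878), (11143, 12879), (11144, 12880), (11145, 12881), (11146, 12882), (11147, 13326), (11148, 9224), (11149, 12884), (11150, 9180), (11151, 13332), (11152, 13333), (11153, 9227), (11154, 12887), (11155, 9223), (11156, 9228), (11157, 9222), (11158, 9225), (11159, 9198), (11160, 9199), (11161, 9200), (11162, 13345), (11163, 9202), (11164, 9203), (11165, 13349), (11166, 9205), (11167, 9194), (11168, 13352), (11169, 9662), (11170, 9197), (11171, 13340), (11172, 13341), (11173, 13355), (11174, 13343), (11175, 13344), (11176, 9201), (11177, 13360), (11178, 13361), (11179, 13348), (11180, 12665), (11181, 9204), (11182, 13366), (11183, 12666), (11184, 11184), (11185, 9207), (11186, 13369), (11187, 11187), (11188, 9211), (11189, 13372), (11190, 9216), (11191, 9217),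 (11192, 9218), (11193, 9220), (11194, 9221), (11195, 12655), (11196, 12658), (11197, 13374), (11198, 13375), (11199, 13313)]
    ⟨e3 q11136 (flp_b L378379) q12873, e3 q11137 (flp_b L378389) q12874, e3 q11138 (flp_b L378397) q12875, e3 q11139 (flp_b L547319) q9219, e3 q11140 (flp_b L378423) q12876, e3 q11141 (flp_b L378430) q12877, e3 q11142 (flp_b L378439) q12878, e3 q11143 (flp_b L378449) q12879, e3 q11144 (flp_b L378455) q12880, e3 q11145 (flp_b L378465) q12881, e3 q11146 (flp_b L378472) q12882, e3 q11147 L385429 q13326, e3 q11148 L534216 q9224, e3 q11149 (flp_b L378499) q12884, e3 q11150 (flp_b L264872) q9180, e3 q11151 (flp_b L385475) q13332, e3 q11152 (flp_b L385481) q13333, e3 q11153 (flp_b L553227) q9227, e3 q11154 (flp_b L378542) q12887, e3 q11155 L554151 q9223, e3 q11156 (flp_b L554120) q9228, e3 q11157 (flp_b L552190) q9222, e3 q11158 (flp_b L553217) q9225, e3 q11159 L264995 q9198, e3 q11160 L265002 q9199, e3 q11161 L265012 q9200, e3 q11162 L385672 q13345, e3 q11163 L265028 q9202, e3 q11164 L265035 q9203, e3 q11165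 L385710 q13349, e3 q11166 L265051 q9205, e3 q11167 (flp_b L265059) q9194, e3 q11168 (flp_b L385751) q13352, e3 q11169 (flp_b L543026) q9662, e3 q11170 L265096 q9197, e3 q11171 (flp_b L385629) q13340, e3 q11172 (flp_b L385638) q13341, e3 q11173 L385815 q13355, e3 q11174 (flp_b L385655) q13343, e3 q11175 (flp_b L385664) q13344, e3 q11176 (flp_b L265152) q9201, e3 q11177 (flp_b L385870) q13360, e3 q11178 (flp_b L385877) q13361, e3 q11179 (flp_b L385695) q13348, e3 q11180 (flp_b L562149) q12665, e3 q11181 (flp_b L265188) q9204, e3 q11182 (flp_b L385921) q13366, e3 q11183 (flp_b L513361) q12666, e3 q11184 L265223 q11184, e3 q11185 L265226 q9207, e3 q11186 (flp_b L385948) q13369, e3 q11187 L265245 q11187, e3 q11188 L265250 q9211, e3 q11189 (flp_b L385975) q13372, e3 q11190 L265284 q9216, e3 q11191 L265290 q9217, e3 q11192 L265299 q9218, e3 q11193 L265314 q9220, e3 q11194 L265321 q9221, e3 q11195 (flp_b L614713) q12655, e3 q11196 (flp_b L614639) q12658, e3 q11197 (flp_b L386047) q13374, e3 q11198 (flp_b L386053) q13375, e3 q11199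 (flp_b L547297) q13313, trivial⟩ (by decide +kernel)

theorem ce_b_175 : ∀ r, r < 64 → sm gb (Qf (11200 + r)) = Qf (tab Gen.b (11200 + r)) :=
  edges_tab (sm gb) Qf (tab Gen.b) 11200 [(11200, 13376), (11201, 13315), (11202, 13377), (11203, 13337), (11204, 13329), (11205, 13339), (11206, 13324), (11207, 13338), (11208, 13395), (11209, 13330), (11210, 9226), (11211, 13399), (11212, 13336), (11213, 11213), (11214, 11214), (11215, 11215), (11216, 13406), (11217, 11217), (11218, 11218), (11219, 13410), (11220, 11220), (11221, 9235), (11222, 13413), (11223, 9282), (11224, 9238), (11225, 9664), (11226, 12959), (11227, 12960), (11228, 12961), (11229, 12962), (11230, 12963), (11231, 12964), (11232, 12965), (11233, 13428), (11234, 12967), (11235, 12968), (11236, 9245), (11237, 13435), (11238, 13436), (11239, 12972), (11240, 12973), (11241, 12974), (11242, 12975), (11243, 12976), (11244, 12977), (11245, 13448), (11246, 12979), (11247, 12980), (11248, 13454), (11249, 12982), (11250, 12983), (11251, 9254), (11252, 13461), (11253, 13462),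 (11254, 12987), (11255, 12988), (11256, 12989), (11257, 13398), (11258, 9258), (11259, 9259), (11260, 13471), (11261, 13472), (11262, 13473), (11263, 12996)]
    ⟨e3 q11200 (flp_b L386070) q13376, e3 q11201 (flp_b L507951) q13315, e3 q11202 (flp_b L386099) q13377, e3 q11203 (flp_b L552184) q13337, e3 q11204 (flp_b L534567) q13329, e3 q11205 (flp_b L534256) q13339, e3 q11206 (flp_b L534563) q13324, e3 q11207 (flp_b L554112) q13338, e3 q11208 L386649 q13395, e3 q11209 (flp_b L534236) q13330, e3 q11210 (flp_b L265670) q9226, e3 q11211 (flp_b L386713) q13399, e3 q11212 (flp_b L547365) q13336, e3 q11213 L265835 q11213, e3 q11214 L265843 q11214, e3 q11215 L265854 q11215, e3 q11216 L386957 q13406, e3 q11217 L265871 q11217, e3 q11218 L265880 q11218, e3 q11219 L387000 q13410, e3 q11220 L265900 q11220, e3 q11221 (flp_b L265908) q9235, e3 q11222 (flp_b L387046) q13413, e3 q11223 L265946 q9282, e3 q11224 L265950 q9238, e3 q11225 L615107 q9664, e3 q11226 (flp_b L379631) q12959, e3 q11227 (flp_b L379640) q12960, e3 q11228 (flp_b L379648)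 q12961, e3 q11229 (flp_b L379657) q12962, e3 q11230 (flp_b L379665) q12963, e3 q11231 (flp_b L379672) q12964, e3 q11232 (flp_b L379681) q12965, e3 q11233 L387186 q13428, e3 q11234 (flp_b L379698) q12967, e3 q11235 (flp_b L379708) q12968, e3 q11236 (flp_b L266048) q9245, e3 q11237 (flp_b L387240) q13435, e3 q11238 (flp_b L387248) q13436, e3 q11239 (flp_b L379737) q12972, e3 q11240 (flp_b L379746) q12973, e3 q11241 (flp_b L379755) q12974, e3 q11242 (flp_b L379762) q12975, e3 q11243 (flp_b L379771) q12976, e3 q11244 (flp_b L379779) q12977, e3 q11245 L387328 q13448, e3 q11246 (flp_b L379795) q12979, e3 q11247 (flp_b L379799) q12980, e3 q11248 L387358 q13454, e3 q11249 (flp_b L379814) q12982, e3 q11250 (flp_b L379823) q12983, e3 q11251 (flp_b L266145) q9254, e3 q11252 (flp_b L387411) q13461, e3 q11253 (flp_b L387419) q13462, e3 q11254 (flp_b L379855) q12987, e3 q11255 (flp_b L379861) q12988, e3 q11256 (flp_b L379871) q12989, e3 q11257 (flp_b L386702) q13398, e3 q11258 L266190 q9258, e3 q11259 L266197 q9259, e3 q11260 (flp_b L387481)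 q13471, e3 q11261 (flp_b L387488) q13472, e3 q11262 (flp_b L387497) q13473, e3 q11263 (flp_b L379920) q12996, trivial⟩ (by decide +kernel)

theorem ce_b_176 : ∀ r, r < 64 → sm gb (Qf (11264 + r)) = Qf (tab Gen.b (11264 + r)) :=
  edges_tab (sm gb) Qf (tab Gen.b) 11264 [(11264, 12997), (11265, 12998), (11266, 12999), (11267, 13000), (11268, 13001), (11269, 13002), (11270, 13003), (11271, 13004), (11272, 13005), (11273, 9285), (11274, 9286), (11275, 13488), (11276, 9288), (11277, 9289), (11278, 9274), (11279, 13494), (11280, 13495), (11281, 9293), (11282, 9294), (11283, 9277), (11284, 13501), (11285, 9297), (11286, 13412), (11287, 9280), (11288, 13504), (11289, 13414), (11290, 9284), (11291, 13507), (11292, 13487), (11293, 9287), (11294, 13499), (11295, 13491), (11296, 13492), (11297, 11297), (11298, 9291), (11299, 9292), (11300, 12664), (11301, 11301), (11302, 9296), (11303, 11303), (11304, 9300), (11305, 13512), (11306, 11306), (11307, 9303), (11308, 11691), (11309, 11309), (11310, 11310), (11311, 11311), (11312, 11312),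 (11313, 11313), (11314, 11314), (11315, 9318), (11316, 13521), (11317, 9321), (11318, 9313), (11319, 13379), (11320, 9315), (11321, 9665), (11322, 12661), (11323, 13520), (11324, 12663), (11325, 9320), (11326, 11326), (11327, 9324)]
    ⟨e3 q11264 (flp_b L379926) q12997, e3 q11265 (flp_b L379935) q12998, e3 q11266 (flp_b L379942) q12999, e3 q11267 (flp_b L379951) q13000, e3 q11268 (flp_b L379971) q13001, e3 q11269 (flp_b L379980) q13002, e3 q11270 (flp_b L379998) q13003, e3 q11271 (flp_b L380008) q13004, e3 q11272 (flp_b L380036) q13005, e3 q11273 L266353 q9285, e3 q11274 L266362 q9286, e3 q11275 L387697 q13488, e3 q11276 L266377 q9288, e3 q11277 L266387 q9289, e3 q11278 (flp_b L266395) q9274, e3 q11279 (flp_b L387755) q13494, e3 q11280 (flp_b L387765) q13495, e3 q11281 L266419 q9293, e3 q11282 L266427 q9294, e3 q11283 (flp_b L266433) q9277, e3 q11284 (flp_b L387814) q13501, e3 q11285 L266455 q9297, e3 q11286 (flp_b L387042) q13412, e3 q11287 L266476 q9280, e3 q11288 (flp_b L387846) q13504, e3 q11289 (flp_b L387069) q13414,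 e3 q11290 L266505 q9284, e3 q11291 (flp_b L387875) q13507, e3 q11292 (flp_b L387690) q13487, e3 q11293 (flp_b L266542) q9287, e3 q11294 (flp_b L646923) q13499, e3 q11295 (flp_b L387727) q13491, e3 q11296 (flp_b L387737) q13492, e3 q11297 L266594 q11297, e3 q11298 L266597 q9291, e3 q11299 L266605 q9292, e3 q11300 (flp_b L646516) q12664, e3 q11301 L266650 q11301, e3 q11302 L266653 q9296, e3 q11303 L266676 q11303, e3 q11304 L266683 q9300, e3 q11305 (flp_b L388120) q13512, e3 q11306 L266702 q11306, e3 q11307 L266710 q9303, e3 q11308 (flp_b L553765) q11691, e3 q11309 L267396 q11309, e3 q11310 L267406 q11310, e3 q11311 L267413 q11311, e3 q11312 L267421 q11312, e3 q11313 L267435 q11313, e3 q11314 L267450 q11314, e3 q11315 L267758 q9318, e3 q11316 L389735 q13521, e3 q11317 L267781 q9321, e3 q11318 (flp_b L267797) q9313, e3 q11319 (flp_b L615816) q13379, e3 q11320 (flp_b L267830) q9315, e3 q11321 (flp_b L542382) q9665, e3 q11322 (flp_b L615629) q12661, e3 q11323 (flp_b L389721) q13520, e3 q11324 (flp_b L562970) q12663, e3 q11325 (flp_b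 L267921) q9320, e3 q11326 L267969 q11326, e3 q11327 L267972 q9324, trivial⟩ (by decide +kernel)

theorem ce_b_177 : ∀ r, r < 64 → sm gb (Qf (11328 + r)) = Qf (tab Gen.b (11328 + r)) :=
  edges_tab (sm gb) Qf (tab Gen.b) 11328 [(11328, 9325), (11329, 13524), (11330, 12662), (11331, 11331), (11332, 9329), (11333, 13526), (11334, 11334), (11335, 9333), (11336, 13528), (11337, 11337), (11338, 9336), (11339, 11934), (11340, 12484), (11341, 12488), (11342, 12491), (11343, 12493), (11344, 11344), (11345, 13533), (11346, 11346), (11347, 9345), (11348, 13536), (11349, 9347), (11350, 9382), (11351, 11351), (11352, 11352), (11353, 11353), (11354, 11354), (11355, 11355), (11356, 11356), (11357, 13549), (11358, 11358), (11359, 11359), (11360, 13553), (11361, 11361), (11362, 9358), (11363, 13556), (11364, 12716), (11365, 9361), (11366, 11366), (11367, 13559), (11368, 11368), (11369, 9364), (11370, 13562), (11371, 9366), (11372, 12713), (11373, 12707), (11374, 9371), (11375, 9376), (11376, 9375), (11377, 13535), (11378, 12668), (11379,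 13489), (11380, 13538), (11381, 9558), (11382, 12694), (11383, 9384), (11384, 13569), (11385, 12687), (11386, 9387), (11387, 11949), (11388, 11388), (11389, 9392), (11390, 11390), (11391, 12150)]
    ⟨e3 q11328 L267977 q9325, e3 q11329 (flp_b L390024) q13524, e3 q11330 (flp_b L513275) q12662, e3 q11331 L268016 q11331, e3 q11332 L268019 q9329, e3 q11333 (flp_b L390077) q13526, e3 q11334 L268039 q11334, e3 q11335 L268046 q9333, e3 q11336 (flp_b L390102) q13528, e3 q11337 L268063 q11337, e3 q11338 L268068 q9336, e3 q11339 (flp_b L554429) q11934, e3 q11340 (flp_b L615494) q12484, e3 q11341 (flp_b L615919) q12488, e3 q11342 (flp_b L490859) q12491, e3 q11343 (flp_b L490852) q12493, e3 q11344 L268509 q11344, e3 q11345 L390780 q13533, e3 q11346 L268534 q11346, e3 q11347 (flp_b L268551) q9345, e3 q11348 (flp_b L390837) q13536, e3 q11349 (flp_b L268589) q9347, e3 q11350 L268625 q9382, e3 q11351 L268677 q11351, e3 q11352 L268686 q11352, e3 q11353 L268692 q11353, e3 q11354 L268699 q11354, e3 q11355 L268705 q11355, e3 q11356 L268714 q11356,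 e3 q11357 L391051 q13549, e3 q11358 L268727 q11358, e3 q11359 L268733 q11359, e3 q11360 L391084 q13553, e3 q11361 L268748 q11361, e3 q11362 (flp_b L268755) q9358, e3 q11363 (flp_b L391120) q13556, e3 q11364 (flp_b L543382) q12716, e3 q11365 L268787 q9361, e3 q11366 L268802 q11366, e3 q11367 L391177 q13559, e3 q11368 L268825 q11368, e3 q11369 (flp_b L268839) q9364, e3 q11370 (flp_b L391228) q13562, e3 q11371 (flp_b L268871) q9366, e3 q11372 (flp_b L543400) q12713, e3 q11373 (flp_b L646458) q12707, e3 q11374 (flp_b L268964) q9371, e3 q11375 (flp_b L646564) q9376, e3 q11376 (flp_b L646479) q9375, e3 q11377 (flp_b L390833) q13535, e3 q11378 (flp_b L646477) q12668, e3 q11379 (flp_b L629294) q13489, e3 q11380 (flp_b L390891) q13538, e3 q11381 L646381 q9558, e3 q11382 (flp_b L543183) q12694, e3 q11383 L269097 q9384, e3 q11384 (flp_b L391555) q13569, e3 q11385 (flp_b L543323) q12687, e3 q11386 L269120 q9387, e3 q11387 (flp_b L648398) q11949, e3 q11388 L269338 q11388, e3 q11389 L269345 q9392, e3 q11390 L269872 q11390, e3 q11391 (flp_b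 L649227) q12150, trivial⟩ (by decide +kernel)

theorem ce_b_178 : ∀ r, r < 64 → sm gb (Qf (11392 + r)) = Qf (tab Gen.b (11392 + r)) :=
  edges_tab (sm gb) Qf (tab Gen.b) 11392 [(11392, 11392), (11393, 9404), (11394, 13573), (11395, 13574), (11396, 11396), (11397, 11397), (11398, 11398), (11399, 11399), (11400, 11400), (11401, 11401), (11402, 11402), (11403, 11403), (11404, 9427), (11405, 9428), (11406, 9430), (11407, 9419), (11408, 13583), (11409, 9433), (11410, 12122), (11411, 9422), (11412, 13586), (11413, 11826), (11414, 11680), (11415, 11681), (11416, 9426), (11417, 12038), (11418, 13591), (11419, 13580), (11420, 13581), (11421, 9429), (11422, 13595), (11423, 13582), (11424, 11424), (11425, 9432), (11426, 13598), (11427, 11427), (11428, 9436), (11429, 13601), (11430, 12148), (11431, 11757), (11432, 11432), (11433, 11433), (11434, 11434), (11435, 12344), (11436, 11436), (11437, 9482), (11438, 9448), (11439, 13609), (11440, 9450), (11441, 13611), (11442, 13612), (11443, 11443), (11444, 11444), (11445, 9455), (11446, 13617),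 (11447, 13618), (11448, 11448), (11449, 11449), (11450, 11450), (11451, 12121), (11452, 9459), (11453, 9460), (11454, 13626), (11455, 13627)]
    ⟨e3 q11392 L269897 q11392, e3 q11393 (flp_b L270054) q9404, e3 q11394 (flp_b L649428) q13573, e3 q11395 (flp_b L649435) q13574, e3 q11396 L270079 q11396, e3 q11397 L270087 q11397, e3 q11398 L270096 q11398, e3 q11399 L270112 q11399, e3 q11400 L270128 q11400, e3 q11401 L270144 q11401, e3 q11402 L270151 q11402, e3 q11403 L270169 q11403, e3 q11404 L270239 q9427, e3 q11405 L270246 q9428, e3 q11406 L270262 q9430, e3 q11407 (flp_b L270270) q9419, e3 q11408 (flp_b L649519) q13583, e3 q11409 L270285 q9433, e3 q11410 (flp_b L649229) q12122, e3 q11411 L270301 q9422, e3 q11412 (flp_b L649543) q13586, e3 q11413 L648604 q11826, e3 q11414 L649277 q11680, e3 q11415 L649279 q11681, e3 q11416 (flp_b L270361) q9426, e3 q11417 (flp_b L648438) q12038, e3 q11418 (flp_b L649587) q13591, e3 q11419 (flp_b L649492) q13580, e3 q11420 (flp_b L649500) q13581, e3 q11421 (flp_b L270399) q9429, e3 q11422 (flp_b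 L649619) q13595, e3 q11423 (flp_b L649509) q13582, e3 q11424 L270432 q11424, e3 q11425 L270435 q9432, e3 q11426 (flp_b L649646) q13598, e3 q11427 L270452 q11427, e3 q11428 L270459 q9436, e3 q11429 (flp_b L649670) q13601, e3 q11430 L649215 q12148, e3 q11431 L649265 q11757, e3 q11432 L271105 q11432, e3 q11433 L271114 q11433, e3 q11434 L271131 q11434, e3 q11435 (flp_b L649235) q12344, e3 q11436 L271154 q11436, e3 q11437 L271164 q9482, e3 q11438 L271168 q9448, e3 q11439 (flp_b L649740) q13609, e3 q11440 (flp_b L271254) q9450, e3 q11441 (flp_b L649754) q13611, e3 q11442 (flp_b L649761) q13612, e3 q11443 L271275 q11443, e3 q11444 L271283 q11444, e3 q11445 (flp_b L271365) q9455, e3 q11446 (flp_b L649802) q13617, e3 q11447 (flp_b L649809) q13618, e3 q11448 L271388 q11448, e3 q11449 L271393 q11449, e3 q11450 L271402 q11450, e3 q11451 L649217 q12121, e3 q11452 L271414 q9459, e3 q11453 L271419 q9460, e3 q11454 (flp_b L649868) q13626, e3 q11455 (flp_b L649874) q13627, trivial⟩ (by decide +kernel)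

theorem ce_b_179 : ∀ r, r < 64 → sm gb (Qf (11456 + r)) = Qf (tab Gen.b (11456 + r)) :=
  edges_tab (sm gb) Qf (tab Gen.b) 11456 [(11456, 13628), (11457, 11457), (11458, 11458), (11459, 11459), (11460, 11460), (11461, 11461), (11462, 11462), (11463, 11463), (11464, 11464), (11465, 11465), (11466, 9487), (11467, 9474), (11468, 13640), (11469, 13641), (11470, 9491), (11471, 9492), (11472, 9477), (11473, 13646), (11474, 9495), (11475, 12302), (11476, 9480), (11477, 13649), (11478, 13608), (11479, 9484), (11480, 13652), (11481, 9486), (11482, 13654), (11483, 13639), (11484, 11484), (11485, 9489), (11486, 9490), (11487, 13658), (11488, 13659), (11489, 13645), (11490, 11490), (11491, 9494), (11492, 13663), (11493, 11493), (11494, 9498), (11495, 13666), (11496, 11496), (11497, 9501), (11498, 13670), (11499, 13672), (11500, 11712), (11501, 13675), (11502, 11710), (11503, 9506), (11504, 13679), (11505, 12866), (11506, 9538), (11507, 9509), (11508, 13682), (11509, 13684), (11510, 11510), (11511, 9513), (11512, 13687), (11513, 13688),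 (11514, 11514), (11515, 11515), (11516, 9516), (11517, 13693), (11518, 11518), (11519, 9565)]
    ⟨e3 q11456 (flp_b L649881) q13628, e3 q11457 L271443 q11457, e3 q11458 L271449 q11458, e3 q11459 L271457 q11459, e3 q11460 L271462 q11460, e3 q11461 L271471 q11461, e3 q11462 L271488 q11462, e3 q11463 L271497 q11463, e3 q11464 L271513 q11464, e3 q11465 L271520 q11465, e3 q11466 L271609 q9487, e3 q11467 (flp_b L271617) q9474, e3 q11468 (flp_b L649968) q13640, e3 q11469 (flp_b L649976) q13641, e3 q11470 L271640 q9491, e3 q11471 L271649 q9492, e3 q11472 (flp_b L271656) q9477, e3 q11473 (flp_b L650013) q13646, e3 q11474 L271671 q9495, e3 q11475 (flp_b L649237) q12302, e3 q11476 L271686 q9480, e3 q11477 (flp_b L650036) q13649, e3 q11478 (flp_b L649734) q13608, e3 q11479 L271708 q9484, e3 q11480 (flp_b L650059) q13652, e3 q11481 (flp_b L271744) q9486, e3 q11482 (flp_b L650069) q13654, e3 q11483 (flp_b L649958) q13639, e3 q11484 L271795 q11484, e3 q11485 L271798 q9489, e3 q11486 L271804 q9490, e3 q11487 (flp_b L650104) q13658, e3 q11488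 (flp_b L650111) q13659, e3 q11489 (flp_b L650005) q13645, e3 q11490 L271847 q11490, e3 q11491 L271850 q9494, e3 q11492 (flp_b L650145) q13663, e3 q11493 L271867 q11493, e3 q11494 L271873 q9498, e3 q11495 (flp_b L650168) q13666, e3 q11496 L271890 q11496, e3 q11497 L271895 q9501, e3 q11498 (flp_b L650198) q13670, e3 q11499 L650209 q13672, e3 q11500 L648582 q11712, e3 q11501 L650237 q13675, e3 q11502 (flp_b L648364) q11710, e3 q11503 (flp_b L272355) q9506, e3 q11504 (flp_b L650276) q13679, e3 q11505 L648578 q12866, e3 q11506 L272413 q9538, e3 q11507 L272423 q9509, e3 q11508 (flp_b L650303) q13682, e3 q11509 L650318 q13684, e3 q11510 L272648 q11510, e3 q11511 (flp_b L272655) q9513, e3 q11512 (flp_b L650359) q13687, e3 q11513 (flp_b L650367) q13688, e3 q11514 L272685 q11514, e3 q11515 L272693 q11515, e3 q11516 (flp_b L272700) q9516, e3 q11517 (flp_b L650414) q13693, e3 q11518 L272721 q11518, e3 q11519 L272735 q9565, trivial⟩ (by decide +kernel)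

theorem ce_b_180 : ∀ r, r < 64 → sm gb (Qf (11520 + r)) = Qf (tab Gen.b (11520 + r)) :=
  edges_tab (sm gb) Qf (tab Gen.b) 11520 [(11520, 9519), (11521, 13696), (11522, 9568), (11523, 9523), (11524, 13699), (11525, 9588), (11526, 11526), (11527, 9526), (11528, 13704), (11529, 13705), (11530, 11530), (11531, 11531), (11532, 11532), (11533, 9529), (11534, 13714), (11535, 13715), (11536, 11536), (11537, 11537), (11538, 11538), (11539, 13678), (11540, 9533), (11541, 9534), (11542, 13723), (11543, 13724), (11544, 13725), (11545, 11545), (11546, 11546), (11547, 11547), (11548, 12896), (11549, 13681), (11550, 9541), (11551, 9542), (11552, 9543), (11553, 13736), (11554, 13737), (11555, 13738), (11556, 13739), (11557, 11557), (11558, 11558), (11559, 11559), (11560, 11560), (11561, 11561), (11562, 11562), (11563, 11563), (11564, 11564), (11565, 9567), (11566, 13686), (11567, 9559), (11568, 13567), (11569, 13502), (11570, 9563), (11571, 13692), (11572, 13695), (11573, 13701), (11574, 13698), (11575, 9570), (11576, 11968), (11577, 9575),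 (11578, 9580), (11579, 9577), (11580, 9578), (11581, 12710), (11582, 9583), (11583, 13754)]
    ⟨e3 q11520 L272739 q9519, e3 q11521 (flp_b L650444) q13696, e3 q11522 L272758 q9568, e3 q11523 L272765 q9523, e3 q11524 (flp_b L650473) q13699, e3 q11525 L646413 q9588, e3 q11526 L272816 q11526, e3 q11527 (flp_b L272823) q9526, e3 q11528 (flp_b L650523) q13704, e3 q11529 (flp_b L650532) q13705, e3 q11530 L272849 q11530, e3 q11531 L272855 q11531, e3 q11532 L272861 q11532, e3 q11533 (flp_b L272867) q9529, e3 q11534 (flp_b L650603) q13714, e3 q11535 (flp_b L650612) q13715, e3 q11536 L272895 q11536, e3 q11537 L272903 q11537, e3 q11538 L272913 q11538, e3 q11539 (flp_b L650272) q13678, e3 q11540 L272929 q9533, e3 q11541 L272937 q9534, e3 q11542 (flp_b L650683) q13723, e3 q11543 (flp_b L650689) q13724, e3 q11544 (flp_b L650698) q13725, e3 q11545 L272966 q11545, e3 q11546 L272974 q11546, e3 q11547 L272981 q11547, e3 q11548 (flp_b L648533) q12896, e3 q11549 (flp_b L650295) q13681, e3 q11550 L273005 q9541, e3 q11551 L273013 q9542, e3 q11552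 L273021 q9543, e3 q11553 (flp_b L650783) q13736, e3 q11554 (flp_b L650790) q13737, e3 q11555 (flp_b L650799) q13738, e3 q11556 (flp_b L650808) q13739, e3 q11557 L273059 q11557, e3 q11558 L273067 q11558, e3 q11559 L273075 q11559, e3 q11560 L273091 q11560, e3 q11561 L273097 q11561, e3 q11562 L273114 q11562, e3 q11563 L273121 q11563, e3 q11564 L273143 q11564, e3 q11565 L646404 q9567, e3 q11566 (flp_b L650355) q13686, e3 q11567 L273304 q9559, e3 q11568 L649303 q13567, e3 q11569 L649305 q13502, e3 q11570 L629404 q9563, e3 q11571 (flp_b L650410) q13692, e3 q11572 (flp_b L650437) q13695, e3 q11573 (flp_b L650489) q13701, e3 q11574 (flp_b L650464) q13698, e3 q11575 L273403 q9570, e3 q11576 (flp_b L648568) q11968, e3 q11577 (flp_b L273730) q9575, e3 q11578 L645851 q9580, e3 q11579 L273788 q9577, e3 q11580 L273794 q9578, e3 q11581 L649301 q12710, e3 q11582 L273873 q9583, e3 q11583 (flp_b L650912) q13754, trivial⟩ (by decide +kernel)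

theorem ce_b_181 : ∀ r, r < 64 → sm gb (Qf (11584 + r)) = Qf (tab Gen.b (11584 + r)) :=
  edges_tab (sm gb) Qf (tab Gen.b) 11584 [(11584, 9589), (11585, 9586), (11586, 12016), (11587, 12546), (11588, 11966), (11589, 9592), (11590, 9627), (11591, 9631), (11592, 13063), (11593, 9639), (11594, 9640), (11595, 9646), (11596, 9647), (11597, 9649), (11598, 9606), (11599, 9608), (11600, 9643), (11601, 13761), (11602, 9644), (11603, 9657), (11604, 9658), (11605, 9659), (11606, 9660), (11607, 9661), (11608, 11608), (11609, 9663), (11610, 9667), (11611, 9668), (11612, 12748), (11613, 13051), (11614, 12135), (11615, 13076), (11616, 12800), (11617, 9633), (11618, 13138), (11619, 13088), (11620, 13091), (11621, 13087), (11622, 13216), (11623, 13758), (11624, 9655), (11625, 9654), (11626, 13762), (11627, 12922), (11628, 13759), (11629, 13760), (11630, 9684), (11631, 9656), (11632, 9685), (11633, 12477), (11634, 13770), (11635, 13769), (11636, 13426), (11637, 13763), (11638, 13416), (11639, 13764), (11640, 13351), (11641, 13353), (11642,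 13415), (11643, 13523), (11644, 12319), (11645, 13765), (11646, 12408), (11647, 12409)]
    ⟨e3 q11584 L273890 q9589, e3 q11585 L273897 q9586, e3 q11586 (flp_b L648570) q12016, e3 q11587 L649299 q12546, e3 q11588 (flp_b L648566) q11966, e3 q11589 (flp_b L275026) q9592, e3 q11590 L281651 q9627, e3 q11591 L283018 q9631, e3 q11592 (flp_b L648218) q13063, e3 q11593 L284051 q9639, e3 q11594 L284074 q9640, e3 q11595 L286059 q9646, e3 q11596 L286067 q9647, e3 q11597 L286083 q9649, e3 q11598 L286638 q9606, e3 q11599 L286656 q9608, e3 q11600 L508084 q9643, e3 q11601 (flp_b L650977) q13761, e3 q11602 L547266 q9644, e3 q11603 L287320 q9657, e3 q11604 L287355 q9658, e3 q11605 L287372 q9659, e3 q11606 L287388 q9660, e3 q11607 L287396 q9661, e3 q11608 L287412 q11608, e3 q11609 L287428 q9663, e3 q11610 L287631 q9667, e3 q11611 L287654 q9668, e3 q11612 L648781 q12748, e3 q11613 L648590 q13051, e3 q11614 (flp_b L648807) q12135, e3 q11615 L648356 q13076, e3 q11616 L648734 q12800, e3 q11617 L504807 q9633, e3 q11618 L648742 q13138, e3 q11619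 (flp_b L648929) q13088, e3 q11620 (flp_b L648931) q13091, e3 q11621 L648941 q13087, e3 q11622 L648969 q13216, e3 q11623 (flp_b L650936) q13758, e3 q11624 L615353 q9655, e3 q11625 L614700 q9654, e3 q11626 (flp_b L650995) q13762, e3 q11627 (flp_b L648841) q12922, e3 q11628 (flp_b L650945) q13759, e3 q11629 (flp_b L650961) q13760, e3 q11630 L547241 q9684, e3 q11631 L547270 q9656, e3 q11632 L547277 q9685, e3 q11633 L648392 q12477, e3 q11634 (flp_b L651077) q13770, e3 q11635 (flp_b L651060) q13769, e3 q11636 (flp_b L648843) q13426, e3 q11637 (flp_b L651011) q13763, e3 q11638 (flp_b L648847) q13416, e3 q11639 (flp_b L651021) q13764, e3 q11640 (flp_b L648483) q13351, e3 q11641 (flp_b L648493) q13353, e3 q11642 (flp_b L648479) q13415, e3 q11643 (flp_b L648481) q13523, e3 q11644 L648925 q12319, e3 q11645 (flp_b L651033) q13765, e3 q11646 (flp_b L648491) q12408, e3 q11647 (flp_b L648690) q12409, trivial⟩ (by decide +kernel)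

theorem ce_b_182 : ∀ r, r < 64 → sm gb (Qf (11648 + r)) = Qf (tab Gen.b (11648 + r)) :=
  edges_tab (sm gb) Qf (tab Gen.b) 11648 [(11648, 12410), (11649, 11649), (11650, 11650), (11651, 11651), (11652, 11652), (11653, 11653), (11654, 11654), (11655, 12407), (11656, 9683), (11657, 13773), (11658, 9691), (11659, 9692), (11660, 11916), (11661, 12492), (11662, 12411), (11663, 11663), (11664, 11664), (11665, 13792), (11666, 11666), (11667, 11667), (11668, 11668), (11669, 11669), (11670, 11670), (11671, 11671), (11672, 11732), (11673, 11673), (11674, 11674), (11675, 11675), (11676, 11676), (11677, 11677), (11678, 11678), (11679, 11679), (11680, 11414), (11681, 11415), (11682, 11682), (11683, 11683), (11684, 11684), (11685, 11685), (11686, 11686), (11687, 9735), (11688, 9963), (11689, 9741), (11690, 9742), (11691, 11308), (11692, 10602), (11693, 13811), (11694, 13812), (11695, 11695), (11696, 11696), (11697, 11697), (11698, 11698), (11699, 11699), (11700, 11700), (11701, 11701), (11702, 11702), (11703, 11703), (11704, 13828), (11705,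 9764), (11706, 9756), (11707, 13831), (11708, 9767), (11709, 13833), (11710, 11502), (11711, 13836)]
    ⟨e3 q11648 L648286 q12410, e3 q11649 L295114 q11649, e3 q11650 L295121 q11650, e3 q11651 L295126 q11651, e3 q11652 L295150 q11652, e3 q11653 L295172 q11653, e3 q11654 L295196 q11654, e3 q11655 L648893 q12407, e3 q11656 L295255 q9683, e3 q11657 (flp_b L651106) q13773, e3 q11658 L295689 q9691, e3 q11659 L295698 q9692, e3 q11660 (flp_b L648871) q11916, e3 q11661 (flp_b L648873) q12492, e3 q11662 L648887 q12411, e3 q11663 L295768 q11663, e3 q11664 L295775 q11664, e3 q11665 L651242 q13792, e3 q11666 L295787 q11666, e3 q11667 L296673 q11667, e3 q11668 L296682 q11668, e3 q11669 L296909 q11669, e3 q11670 L298217 q11670, e3 q11671 L298223 q11671, e3 q11672 L649046 q11732, e3 q11673 L298287 q11673, e3 q11674 L298400 q11674, e3 q11675 L298514 q11675, e3 q11676 L298535 q11676, e3 q11677 L299215 q11677, e3 q11678 L350806 q11678, e3 q11679 L350816 q11679, e3 q11680 (flp_b L649277) q11414, e3 q11681 (flp_b L649279) q11415, e3 q11682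 L351236 q11682, e3 q11683 L351242 q11683, e3 q11684 L351251 q11684, e3 q11685 L351258 q11685, e3 q11686 L351268 q11686, e3 q11687 L351325 q9735, e3 q11688 L351501 q9963, e3 q11689 L351507 q9741, e3 q11690 L351515 q9742, e3 q11691 L553765 q11308, e3 q11692 L553725 q10602, e3 q11693 (flp_b L651459) q13811, e3 q11694 (flp_b L651474) q13812, e3 q11695 L351716 q11695, e3 q11696 L351853 q11696, e3 q11697 L351861 q11697, e3 q11698 L351870 q11698, e3 q11699 L351879 q11699, e3 q11700 L351887 q11700, e3 q11701 L351897 q11701, e3 q11702 L351904 q11702, e3 q11703 L351913 q11703, e3 q11704 L651666 q13828, e3 q11705 L351981 q9764, e3 q11706 (flp_b L351989) q9756, e3 q11707 (flp_b L651719) q13831, e3 q11708 L352008 q9767, e3 q11709 L651742 q13833, e3 q11710 L648364 q11502, e3 q11711 L651782 q13836, trivial⟩ (by decide +kernel)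

theorem ce_b_183 : ∀ r, r < 64 → sm gb (Qf (11712 + r)) = Qf (tab Gen.b (11712 + r)) :=
  edges_tab (sm gb) Qf (tab Gen.b) 11712 [(11712, 11500), (11713, 9763), (11714, 13840), (11715, 13830), (11716, 11716), (11717, 9766), (11718, 13843), (11719, 11719), (11720, 9776), (11721, 9777), (11722, 11722), (11723, 11723), (11724, 11724), (11725, 9789), (11726, 9790), (11727, 9791), (11728, 9792), (11729, 13848), (11730, 13849), (11731, 13850), (11732, 11672), (11733, 11733), (11734, 11734), (11735, 11735), (11736, 11736), (11737, 9802), (11738, 9803), (11739, 10069), (11740, 10070), (11741, 10071), (11742, 10072), (11743, 10073), (11744, 10074), (11745, 10075), (11746, 10077), (11747, 9814), (11748, 9815), (11749, 9816), (11750, 9817), (11751, 9818), (11752, 9819), (11753, 9820), (11754, 13867), (11755, 13868), (11756, 13870), (11757, 11431), (11758, 9823), (11759, 9824), (11760, 9825), (11761, 9826), (11762, 9827), (11763, 10910), (11764, 13871), (11765, 13872), (11766, 13873), (11767, 10062), (11768, 13874), (11769, 11769),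 (11770, 11770), (11771, 10112), (11772, 10113), (11773, 10114), (11774, 10115), (11775, 10116)]
    ⟨e3 q11712 (flp_b L648582) q11500, e3 q11713 (flp_b L352084) q9763, e3 q11714 (flp_b L651835) q13840, e3 q11715 (flp_b L651703) q13830, e3 q11716 L352119 q11716, e3 q11717 L352122 q9766, e3 q11718 (flp_b L651866) q13843, e3 q11719 L352608 q11719, e3 q11720 L352654 q9776, e3 q11721 L352664 q9777, e3 q11722 L352890 q11722, e3 q11723 L353196 q11723, e3 q11724 L353206 q11724, e3 q11725 L353272 q9789, e3 q11726 L353283 q9790, e3 q11727 L353293 q9791, e3 q11728 L353301 q9792, e3 q11729 (flp_b L651939) q13848, e3 q11730 (flp_b L651958) q13849, e3 q11731 (flp_b L651977) q13850, e3 q11732 (flp_b L649046) q11672, e3 q11733 L353527 q11733, e3 q11734 L353587 q11734, e3 q11735 L353603 q11735, e3 q11736 L353611 q11736, e3 q11737 L353694 q9802, e3 q11738 L353703 q9803, e3 q11739 L353976 q10069, e3 q11740 L353987 q10070, e3 q11741 L353997 q10071, e3 q11742 L354009 q10072, e3 q11743 L354021 q10073, e3 q11744 L354030 q10074, e3 q11745 L354040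 q10075, e3 q11746 L354063 q10077, e3 q11747 L354073 q9814, e3 q11748 L354082 q9815, e3 q11749 L354092 q9816, e3 q11750 L354100 q9817, e3 q11751 L354109 q9818, e3 q11752 L354121 q9819, e3 q11753 L354131 q9820, e3 q11754 (flp_b L652243) q13867, e3 q11755 (flp_b L652261) q13868, e3 q11756 (flp_b L652294) q13870, e3 q11757 (flp_b L649265) q11431, e3 q11758 L354224 q9823, e3 q11759 L354235 q9824, e3 q11760 L354244 q9825, e3 q11761 L354255 q9826, e3 q11762 L354265 q9827, e3 q11763 L620514 q10910, e3 q11764 (flp_b L652311) q13871, e3 q11765 (flp_b L652330) q13872, e3 q11766 (flp_b L652345) q13873, e3 q11767 L526584 q10062, e3 q11768 (flp_b L652362) q13874, e3 q11769 L354363 q11769, e3 q11770 L354398 q11770, e3 q11771 L354425 q10112, e3 q11772 L354432 q10113, e3 q11773 L354441 q10114, e3 q11774 L354450 q10115, e3 q11775 L354460 q10116, trivial⟩ (by decide +kernel)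

theorem ce_b_184 : ∀ r, r < 64 → sm gb (Qf (11776 + r)) = Qf (tab Gen.b (11776 + r)) :=
  edges_tab (sm gb) Qf (tab Gen.b) 11776 [(11776, 10117), (11777, 10118), (11778, 10121), (11779, 10122), (11780, 10123), (11781, 10124), (11782, 10125), (11783, 10126), (11784, 9846), (11785, 10911), (11786, 9847), (11787, 10191), (11788, 10192), (11789, 10193), (11790, 10194), (11791, 10195), (11792, 10196), (11793, 10197), (11794, 10198), (11795, 10199), (11796, 10200), (11797, 10201), (11798, 10202), (11799, 10205), (11800, 9864), (11801, 9865), (11802, 9866), (11803, 9867), (11804, 9868), (11805, 13923), (11806, 9870), (11807, 9871), (11808, 13915), (11809, 13916), (11810, 13917), (11811, 13918), (11812, 13919), (11813, 13920), (11814, 13928), (11815, 13922), (11816, 9869), (11817, 13931), (11818, 13925), (11819, 9877), (11820, 9878), (11821, 9879), (11822, 9880), (11823, 9881), (11824, 9882), (11825, 9883), (11826, 11413), (11827, 9885), (11828, 13933), (11829, 13934), (11830, 13935), (11831, 13936), (11832, 13937), (11833, 13938),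 (11834, 13939), (11835, 13940), (11836, 13941), (11837, 10181), (11838, 10183), (11839, 13943)]
    ⟨e3 q11776 L354470 q10117, e3 q11777 L354478 q10118, e3 q11778 L354509 q10121, e3 q11779 L354518 q10122, e3 q11780 L354525 q10123, e3 q11781 L354535 q10124, e3 q11782 L354544 q10125, e3 q11783 L354555 q10126, e3 q11784 L354595 q9846, e3 q11785 L640403 q10911, e3 q11786 L354609 q9847, e3 q11787 L354934 q10191, e3 q11788 L354943 q10192, e3 q11789 L354950 q10193, e3 q11790 L354962 q10194, e3 q11791 L354972 q10195, e3 q11792 L354982 q10196, e3 q11793 L354988 q10197, e3 q11794 L355000 q10198, e3 q11795 L355010 q10199, e3 q11796 L355020 q10200, e3 q11797 L355032 q10201, e3 q11798 L355038 q10202, e3 q11799 L355066 q10205, e3 q11800 L355076 q9864, e3 q11801 L355086 q9865, e3 q11802 L355096 q9866, e3 q11803 L355104 q9867, e3 q11804 L355111 q9868, e3 q11805 L653024 q13923, e3 q11806 L355126 q9870, e3 q11807 L355135 q9871, e3 q11808 (flp_b L652903) q13915, e3 q11809 (flp_b L652921) q13916, e3 q11810 (flp_b L652937) q13917, e3 q11811 (flp_b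 L652953) q13918, e3 q11812 (flp_b L652967) q13919, e3 q11813 (flp_b L652986) q13920, e3 q11814 L653095 q13928, e3 q11815 (flp_b L653013) q13922, e3 q11816 (flp_b L355219) q9869, e3 q11817 (flp_b L653138) q13931, e3 q11818 (flp_b L653048) q13925, e3 q11819 L355248 q9877, e3 q11820 L355257 q9878, e3 q11821 L355266 q9879, e3 q11822 L355277 q9880, e3 q11823 L355287 q9881, e3 q11824 L355298 q9882, e3 q11825 L355307 q9883, e3 q11826 (flp_b L648604) q11413, e3 q11827 L355335 q9885, e3 q11828 (flp_b L653167) q13933, e3 q11829 (flp_b L653184) q13934, e3 q11830 (flp_b L653199) q13935, e3 q11831 (flp_b L653214) q13936, e3 q11832 (flp_b L653227) q13937, e3 q11833 (flp_b L653239) q13938, e3 q11834 (flp_b L653252) q13939, e3 q11835 (flp_b L653269) q13940, e3 q11836 (flp_b L653284) q13941, e3 q11837 L554656 q10181, e3 q11838 L554635 q10183, e3 q11839 (flp_b L653317) q13943, trivial⟩ (by decide +kernel)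

theorem ce_b_185 : ∀ r, r < 64 → sm gb (Qf (11840 + r)) = Qf (tab Gen.b (11840 + r)) :=
  edges_tab (sm gb) Qf (tab Gen.b) 11840 [(11840, 11840), (11841, 11841), (11842, 11842), (11843, 11843), (11844, 10252), (11845, 10253), (11846, 10254), (11847, 10255), (11848, 10256), (11849, 10257), (11850, 10258), (11851, 10259), (11852, 10260), (11853, 10261), (11854, 13977), (11855, 10263), (11856, 10264), (11857, 10266), (11858, 10267), (11859, 10268), (11860, 10269), (11861, 10270), (11862, 10271), (11863, 10272), (11864, 10273), (11865, 10274), (11866, 9915), (11867, 9916), (11868, 9917), (11869, 9918), (11870, 9919), (11871, 11004), (11872, 9920), (11873, 9912), (11874, 13996), (11875, 9923), (11876, 13992), (11877, 13994), (11878, 11878), (11879, 9922), (11880, 10353), (11881, 10354), (11882, 10355), (11883, 10356), (11884, 10357), (11885, 10358), (11886, 10359), (11887, 10360), (11888, 10361), (11889, 10362), (11890, 14016), (11891, 10364), (11892, 10365), (11893, 10366), (11894, 10367), (11895, 10368), (11896, 10369), (11897,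 10371), (11898, 10372), (11899, 9945), (11900, 9946), (11901, 9947), (11902, 9948), (11903, 9949)]
    ⟨e3 q11840 L355469 q11840, e3 q11841 L355478 q11841, e3 q11842 L355505 q11842, e3 q11843 L355520 q11843, e3 q11844 L355536 q10252, e3 q11845 L355544 q10253, e3 q11846 L355551 q10254, e3 q11847 L355558 q10255, e3 q11848 L355566 q10256, e3 q11849 L355573 q10257, e3 q11850 L355583 q10258, e3 q11851 L355595 q10259, e3 q11852 L355605 q10260, e3 q11853 L355611 q10261, e3 q11854 L653765 q13977, e3 q11855 L355627 q10263, e3 q11856 L355633 q10264, e3 q11857 L355650 q10266, e3 q11858 L355660 q10267, e3 q11859 L355667 q10268, e3 q11860 L355677 q10269, e3 q11861 L355684 q10270, e3 q11862 L355690 q10271, e3 q11863 L355697 q10272, e3 q11864 L355706 q10273, e3 q11865 L355714 q10274, e3 q11866 L355723 q9915, e3 q11867 L355731 q9916, e3 q11868 L355741 q9917, e3 q11869 L355749 q9918, e3 q11870 L355765 q9919, e3 q11871 L636009 q11004, e3 q11872 L355777 q9920, e3 q11873 (flp_b L355783) q9912, e3 q11874 (flp_b L653989) q13996, e3 q11875 L355797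 q9923, e3 q11876 (flp_b L653925) q13992, e3 q11877 (flp_b L653955) q13994, e3 q11878 L355895 q11878, e3 q11879 L355898 q9922, e3 q11880 L356239 q10353, e3 q11881 L356250 q10354, e3 q11882 L356261 q10355, e3 q11883 L356269 q10356, e3 q11884 L356278 q10357, e3 q11885 L356289 q10358, e3 q11886 L356299 q10359, e3 q11887 L356309 q10360, e3 q11888 L356320 q10361, e3 q11889 L356326 q10362, e3 q11890 L654233 q14016, e3 q11891 L356345 q10364, e3 q11892 L356352 q10365, e3 q11893 L356361 q10366, e3 q11894 L356370 q10367, e3 q11895 L356381 q10368, e3 q11896 L356389 q10369, e3 q11897 L356407 q10371, e3 q11898 L356415 q10372, e3 q11899 L356453 q9945, e3 q11900 L356463 q9946, e3 q11901 L356471 q9947, e3 q11902 L356480 q9948, e3 q11903 L356490 q9949, trivial⟩ (by decide +kernel)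

theorem ce_b_186 : ∀ r, r < 64 → sm gb (Qf (11904 + r)) = Qf (tab Gen.b (11904 + r)) :=
  edges_tab (sm gb) Qf (tab Gen.b) 11904 [(11904, 9950), (11905, 14035), (11906, 9952), (11907, 9942), (11908, 14039), (11909, 9955), (11910, 14027), (11911, 14028), (11912, 14029), (11913, 14044), (11914, 14031), (11915, 14032), (11916, 11660), (11917, 14034), (11918, 9951), (11919, 14051), (11920, 14037), (11921, 11921), (11922, 9954), (11923, 14054), (11924, 9965), (11925, 9966), (11926, 9967), (11927, 9968), (11928, 9969), (11929, 9970), (11930, 9971), (11931, 9972), (11932, 9973), (11933, 9974), (11934, 11339), (11935, 9975), (11936, 9976), (11937, 13810), (11938, 9979), (11939, 14056), (11940, 14057), (11941, 14058), (11942, 14059), (11943, 14060), (11944, 14061), (11945, 14062), (11946, 14063), (11947, 14064), (11948, 14065), (11949, 11387), (11950, 14067), (11951, 14068), (11952, 14069), (11953, 14070), (11954, 14071), (11955, 10345), (11956, 14073), (11957, 14074), (11958, 10343), (11959, 10346), (11960, 10347), (11961, 11961),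 (11962, 11962), (11963, 11963), (11964, 11964), (11965, 11965), (11966, 11588), (11967, 11967)]
    ⟨e3 q11904 L356499 q9950, e3 q11905 L654466 q14035, e3 q11906 L356516 q9952, e3 q11907 (flp_b L356523) q9942, e3 q11908 (flp_b L654516) q14039, e3 q11909 L356542 q9955, e3 q11910 (flp_b L654370) q14027, e3 q11911 (flp_b L654385) q14028, e3 q11912 (flp_b L654400) q14029, e3 q11913 L654580 q14044, e3 q11914 (flp_b L654421) q14031, e3 q11915 (flp_b L654435) q14032, e3 q11916 L648871 q11660, e3 q11917 (flp_b L654458) q14034, e3 q11918 (flp_b L356625) q9951, e3 q11919 (flp_b L654666) q14051, e3 q11920 (flp_b L654491) q14037, e3 q11921 L356661 q11921, e3 q11922 L356664 q9954, e3 q11923 (flp_b L654699) q14054, e3 q11924 L356696 q9965, e3 q11925 L356705 q9966, e3 q11926 L356715 q9967, e3 q11927 L356724 q9968, e3 q11928 L356734 q9969, e3 q11929 L356745 q9970, e3 q11930 L356754 q9971, e3 q11931 L356766 q9972, e3 q11932 L356776 q9973, e3 q11933 L356785 q9974, e3 q11934 L554429 q11339, e3 q11935 L356803 q9975, e3 q11936 L356811 q9976,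 e3 q11937 (flp_b L651444) q13810, e3 q11938 L356859 q9979, e3 q11939 (flp_b L654721) q14056, e3 q11940 (flp_b L654737) q14057, e3 q11941 (flp_b L654751) q14058, e3 q11942 (flp_b L654762) q14059, e3 q11943 (flp_b L654777) q14060, e3 q11944 (flp_b L654791) q14061, e3 q11945 (flp_b L654802) q14062, e3 q11946 (flp_b L654813) q14063, e3 q11947 (flp_b L654825) q14064, e3 q11948 (flp_b L654833) q14065, e3 q11949 L648398 q11387, e3 q11950 (flp_b L654860) q14067, e3 q11951 (flp_b L654875) q14068, e3 q11952 (flp_b L654886) q14069, e3 q11953 (flp_b L654902) q14070, e3 q11954 (flp_b L654915) q14071, e3 q11955 L554502 q10345, e3 q11956 (flp_b L654947) q14073, e3 q11957 (flp_b L654960) q14074, e3 q11958 L554478 q10343, e3 q11959 L554454 q10346, e3 q11960 L550731 q10347, e3 q11961 L357060 q11961, e3 q11962 L357069 q11962, e3 q11963 L357078 q11963, e3 q11964 L357088 q11964, e3 q11965 L357106 q11965, e3 q11966 L648566 q11588, e3 q11967 L357123 q11967, trivial⟩ (by decide +kernel)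

theorem ce_b_187 : ∀ r, r < 64 → sm gb (Qf (11968 + r)) = Qf (tab Gen.b (11968 + r)) :=
  edges_tab (sm gb) Qf (tab Gen.b) 11968 [(11968, 11576), (11969, 11969), (11970, 10438), (11971, 10439), (11972, 10440), (11973, 10441), (11974, 10442), (11975, 10443), (11976, 14125), (11977, 10445), (11978, 10446), (11979, 10447), (11980, 10448), (11981, 10449), (11982, 10450), (11983, 10451), (11984, 10452), (11985, 14140), (11986, 10454), (11987, 10455), (11988, 9998), (11989, 14147), (11990, 14148), (11991, 10459), (11992, 10460), (11993, 10461), (11994, 10462), (11995, 10463), (11996, 10464), (11997, 10465), (11998, 10466), (11999, 10467), (12000, 10468), (12001, 10469), (12002, 10470), (12003, 10471), (12004, 10472), (12005, 10022), (12006, 10023), (12007, 10024), (12008, 14170), (12009, 10026), (12010, 10027), (12011, 14175), (12012, 10029), (12013, 10017), (12014, 14179), (12015, 10032), (12016, 11586), (12017, 10020), (12018, 14182), (12019, 14167), (12020, 14184), (12021, 14169), (12022, 10025), (12023, 14188), (12024, 14189),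 (12025, 14173), (12026, 14174), (12027, 10028), (12028, 14194), (12029, 14177), (12030, 12030), (12031, 10031)]
    ⟨e3 q11968 L648568 q11576, e3 q11969 L357148 q11969, e3 q11970 L357155 q10438, e3 q11971 L357163 q10439, e3 q11972 L357172 q10440, e3 q11973 L357181 q10441, e3 q11974 L357190 q10442, e3 q11975 L357198 q10443, e3 q11976 L655536 q14125, e3 q11977 L357214 q10445, e3 q11978 L357222 q10446, e3 q11979 L357231 q10447, e3 q11980 L357240 q10448, e3 q11981 L357250 q10449, e3 q11982 L357258 q10450, e3 q11983 L357268 q10451, e3 q11984 L357275 q10452, e3 q11985 L655690 q14140, e3 q11986 L357292 q10454, e3 q11987 L357300 q10455, e3 q11988 (flp_b L357306) q9998, e3 q11989 (flp_b L655759) q14147, e3 q11990 (flp_b L655772) q14148, e3 q11991 L357331 q10459, e3 q11992 L357340 q10460, e3 q11993 L357349 q10461, e3 q11994 L357356 q10462, e3 q11995 L357364 q10463, e3 q11996 L357373 q10464, e3 q11997 L357378 q10465, e3 q11998 L357386 q10466, e3 q11999 L357393 q10467, e3 q12000 L357400 q10468, e3 q12001 L357409 q10469, e3 q12002 L357417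 q10470, e3 q12003 L357425 q10471, e3 q12004 L357433 q10472, e3 q12005 L357449 q10022, e3 q12006 L357458 q10023, e3 q12007 L357467 q10024, e3 q12008 L655984 q14170, e3 q12009 L357482 q10026, e3 q12010 L357489 q10027, e3 q12011 L656039 q14175, e3 q12012 L357505 q10029, e3 q12013 (flp_b L357512) q10017, e3 q12014 (flp_b L656085) q14179, e3 q12015 L357527 q10032, e3 q12016 L648570 q11586, e3 q12017 L357542 q10020, e3 q12018 (flp_b L656113) q14182, e3 q12019 (flp_b L655952) q14167, e3 q12020 L656127 q14184, e3 q12021 (flp_b L655974) q14169, e3 q12022 (flp_b L357601) q10025, e3 q12023 (flp_b L656173) q14188, e3 q12024 (flp_b L656186) q14189, e3 q12025 (flp_b L656018) q14173, e3 q12026 (flp_b L656032) q14174, e3 q12027 (flp_b L357644) q10028, e3 q12028 (flp_b L656244) q14194, e3 q12029 (flp_b L656064) q14177, e3 q12030 L357676 q12030, e3 q12031 L357679 q10031, trivial⟩ (by decide +kernel)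

theorem ce_b_188 : ∀ r, r < 64 → sm gb (Qf (12032 + r)) = Qf (tab Gen.b (12032 + r)) :=
  edges_tab (sm gb) Qf (tab Gen.b) 12032 [(12032, 14197), (12033, 12033), (12034, 10035), (12035, 14200), (12036, 10038), (12037, 10052), (12038, 11417), (12039, 14202), (12040, 12040), (12041, 12041), (12042, 12042), (12043, 12043), (12044, 12044), (12045, 12045), (12046, 12046), (12047, 10053), (12048, 10054), (12049, 10055), (12050, 10056), (12051, 10144), (12052, 14203), (12053, 14204), (12054, 14219), (12055, 14214), (12056, 14215), (12057, 10059), (12058, 10060), (12059, 10061), (12060, 10063), (12061, 10925), (12062, 14222), (12063, 14223), (12064, 14224), (12065, 14225), (12066, 13877), (12067, 14226), (12068, 13878), (12069, 12069), (12070, 12070), (12071, 12071), (12072, 12072), (12073, 12073), (12074, 12074), (12075, 12075), (12076, 13854), (12077, 13855), (12078, 13856), (12079, 13857), (12080, 13858), (12081, 13859), (12082, 13860), (12083, 13861), (12084, 13862), (12085, 13863), (12086, 13864), (12087, 13865), (12088, 10102),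 (12089, 10104), (12090, 13866), (12091, 10085), (12092, 10086), (12093, 10087), (12094, 10088), (12095, 10089)]
    ⟨e3 q12032 (flp_b L656271) q14197, e3 q12033 L357697 q12033, e3 q12034 L357705 q10035, e3 q12035 (flp_b L656295) q14200, e3 q12036 L357733 q10038, e3 q12037 L614125 q10052, e3 q12038 L648438 q11417, e3 q12039 (flp_b L656313) q14202, e3 q12040 L357803 q12040, e3 q12041 L357824 q12041, e3 q12042 L357834 q12042, e3 q12043 L357889 q12043, e3 q12044 L357899 q12044, e3 q12045 L357909 q12045, e3 q12046 L357919 q12046, e3 q12047 L357955 q10053, e3 q12048 L357965 q10054, e3 q12049 L357975 q10055, e3 q12050 L357986 q10056, e3 q12051 L614159 q10144, e3 q12052 (flp_b L656329) q14203, e3 q12053 (flp_b L656346) q14204, e3 q12054 L656560 q14219, e3 q12055 (flp_b L656489) q14214, e3 q12056 (flp_b L656502) q14215, e3 q12057 L358072 q10059, e3 q12058 L358083 q10060, e3 q12059 L358092 q10061, e3 q12060 L358109 q10063, e3 q12061 L611863 q10925, e3 q12062 (flp_b L656598) q14222, e3 q12063 (flp_b L656613) q14223, e3 q12064 (flp_b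 L656626) q14224, e3 q12065 (flp_b L656639) q14225, e3 q12066 (flp_b L652411) q13877, e3 q12067 (flp_b L656649) q14226, e3 q12068 (flp_b L652426) q13878, e3 q12069 L358218 q12069, e3 q12070 L358229 q12070, e3 q12071 L358241 q12071, e3 q12072 L358250 q12072, e3 q12073 L358260 q12073, e3 q12074 L358273 q12074, e3 q12075 L358283 q12075, e3 q12076 (flp_b L652051) q13854, e3 q12077 (flp_b L652070) q13855, e3 q12078 (flp_b L652085) q13856, e3 q12079 (flp_b L652104) q13857, e3 q12080 (flp_b L652122) q13858, e3 q12081 (flp_b L652136) q13859, e3 q12082 (flp_b L652146) q13860, e3 q12083 (flp_b L652162) q13861, e3 q12084 (flp_b L652177) q13862, e3 q12085 (flp_b L652188) q13863, e3 q12086 (flp_b L652203) q13864, e3 q12087 (flp_b L652215) q13865, e3 q12088 L553496 q10102, e3 q12089 L553555 q10104, e3 q12090 (flp_b L652228) q13866, e3 q12091 L358413 q10085, e3 q12092 L358423 q10086, e3 q12093 L358432 q10087, e3 q12094 L358442 q10088, e3 q12095 L358449 q10089, trivial⟩ (by decide +kernel)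

theorem ce_b_189 : ∀ r, r < 64 → sm gb (Qf (12096 + r)) = Qf (tab Gen.b (12096 + r)) :=
  edges_tab (sm gb) Qf (tab Gen.b) 12096 [(12096, 14272), (12097, 10091), (12098, 10092), (12099, 14266), (12100, 14267), (12101, 14268), (12102, 14269), (12103, 14270), (12104, 14271), (12105, 10090), (12106, 14278), (12107, 14274), (12108, 10097), (12109, 10098), (12110, 10099), (12111, 10100), (12112, 10101), (12113, 10103), (12114, 14229), (12115, 14280), (12116, 14227), (12117, 14281), (12118, 14282), (12119, 14283), (12120, 14284), (12121, 11451), (12122, 11410), (12123, 14285), (12124, 14261), (12125, 14264), (12126, 14265), (12127, 12127), (12128, 12128), (12129, 12129), (12130, 12130), (12131, 12131), (12132, 14308), (12133, 12133), (12134, 12134), (12135, 11614), (12136, 13880), (12137, 13881), (12138, 13882), (12139, 13883), (12140, 13851), (12141, 13869), (12142, 10683), (12143, 13884), (12144, 13885), (12145, 14327), (12146, 13887), (12147, 13888), (12148, 11430), (12149, 10937), (12150, 11391), (12151, 13889), (12152, 13890),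 (12153, 13891), (12154, 13892), (12155, 13893), (12156, 13894), (12157, 10135), (12158, 10136), (12159, 10137)]
    ⟨e3 q12096 L657172 q14272, e3 q12097 L358466 q10091, e3 q12098 L358476 q10092, e3 q12099 (flp_b L657095) q14266, e3 q12100 (flp_b L657109) q14267, e3 q12101 (flp_b L657122) q14268, e3 q12102 (flp_b L657137) q14269, e3 q12103 (flp_b L657152) q14270, e3 q12104 (flp_b L657164) q14271, e3 q12105 (flp_b L358554) q10090, e3 q12106 (flp_b L657245) q14278, e3 q12107 (flp_b L657193) q14274, e3 q12108 L358582 q10097, e3 q12109 L358591 q10098, e3 q12110 L358598 q10099, e3 q12111 L358609 q10100, e3 q12112 L358618 q10101, e3 q12113 L358635 q10103, e3 q12114 (flp_b L656688) q14229, e3 q12115 (flp_b L657273) q14280, e3 q12116 (flp_b L656662) q14227, e3 q12117 (flp_b L657286) q14281, e3 q12118 (flp_b L657299) q14282, e3 q12119 (flp_b L657310) q14283, e3 q12120 (flp_b L657318) q14284, e3 q12121 (flp_b L649217) q11451, e3 q12122 L649229 q11410, e3 q12123 (flp_b L657331) q14285, e3 q12124 (flp_b L657041) q14261, e3 q12125 (flp_b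 L657071) q14264, e3 q12126 (flp_b L657085) q14265, e3 q12127 L358819 q12127, e3 q12128 L358828 q12128, e3 q12129 L358838 q12129, e3 q12130 L358849 q12130, e3 q12131 L358858 q12131, e3 q12132 L657573 q14308, e3 q12133 L358877 q12133, e3 q12134 L358889 q12134, e3 q12135 L648807 q11614, e3 q12136 (flp_b L652455) q13880, e3 q12137 (flp_b L652472) q13881, e3 q12138 (flp_b L652485) q13882, e3 q12139 (flp_b L652499) q13883, e3 q12140 (flp_b L652007) q13851, e3 q12141 (flp_b L652288) q13869, e3 q12142 L637564 q10683, e3 q12143 (flp_b L652512) q13884, e3 q12144 (flp_b L652526) q13885, e3 q12145 L657752 q14327, e3 q12146 (flp_b L652558) q13887, e3 q12147 (flp_b L652570) q13888, e3 q12148 (flp_b L649215) q11430, e3 q12149 L642482 q10937, e3 q12150 L649227 q11391, e3 q12151 (flp_b L652582) q13889, e3 q12152 (flp_b L652595) q13890, e3 q12153 (flp_b L652609) q13891, e3 q12154 (flp_b L652622) q13892, e3 q12155 (flp_b L652630) q13893, e3 q12156 (flp_b L652640) q13894, e3 q12157 L359075 q10135, e3 q12158 L359103 q10136, e3 q12159 L359122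 q10137, trivial⟩ (by decide +kernel)

theorem ce_b_190 : ∀ r, r < 64 → sm gb (Qf (12160 + r)) = Qf (tab Gen.b (12160 + r)) :=
  edges_tab (sm gb) Qf (tab Gen.b) 12160 [(12160, 10920), (12161, 10138), (12162, 10132), (12163, 14344), (12164, 10141), (12165, 14342), (12166, 12166), (12167, 10140), (12168, 14347), (12169, 10145), (12170, 10146), (12171, 10166), (12172, 14216), (12173, 14217), (12174, 14348), (12175, 12175), (12176, 12176), (12177, 12177), (12178, 12178), (12179, 12179), (12180, 12180), (12181, 12181), (12182, 12182), (12183, 12183), (12184, 12184), (12185, 12185), (12186, 12186), (12187, 12187), (12188, 10165), (12189, 10167), (12190, 10168), (12191, 14368), (12192, 10170), (12193, 10171), (12194, 10302), (12195, 14364), (12196, 14365), (12197, 14349), (12198, 14350), (12199, 14378), (12200, 14367), (12201, 10169), (12202, 14382), (12203, 14370), (12204, 10176), (12205, 10177), (12206, 10178), (12207, 10179), (12208, 10180), (12209, 10182), (12210, 14384), (12211, 14385), (12212, 14386), (12213, 14387), (12214,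 14388), (12215, 14389), (12216, 14390), (12217, 14391), (12218, 13955), (12219, 14392), (12220, 13952), (12221, 13956), (12222, 13957), (12223, 12223)]
    ⟨e3 q12160 L637525 q10920, e3 q12161 L359138 q10138, e3 q12162 (flp_b L359145) q10132, e3 q12163 (flp_b L657918) q14344, e3 q12164 L359166 q10141, e3 q12165 (flp_b L657896) q14342, e3 q12166 L359273 q12166, e3 q12167 L359276 q10140, e3 q12168 (flp_b L657955) q14347, e3 q12169 L359323 q10145, e3 q12170 L359331 q10146, e3 q12171 L614344 q10166, e3 q12172 (flp_b L656519) q14216, e3 q12173 (flp_b L656535) q14217, e3 q12174 (flp_b L657970) q14348, e3 q12175 L359445 q12175, e3 q12176 L359454 q12176, e3 q12177 L359463 q12177, e3 q12178 L359472 q12178, e3 q12179 L359483 q12179, e3 q12180 L359537 q12180, e3 q12181 L359555 q12181, e3 q12182 L359565 q12182, e3 q12183 L359575 q12183, e3 q12184 L359581 q12184, e3 q12185 L359590 q12185, e3 q12186 L359597 q12186, e3 q12187 L359607 q12187, e3 q12188 L359626 q10165, e3 q12189 L359643 q10167, e3 q12190 L359652 q10168, e3 q12191 L658232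 q14368, e3 q12192 L359667 q10170, e3 q12193 L359676 q10171, e3 q12194 L614364 q10302, e3 q12195 (flp_b L658179) q14364, e3 q12196 (flp_b L658195) q14365, e3 q12197 (flp_b L657986) q14349, e3 q12198 (flp_b L658003) q14350, e3 q12199 L658344 q14378, e3 q12200 (flp_b L658224) q14367, e3 q12201 (flp_b L359756) q10169, e3 q12202 (flp_b L658381) q14382, e3 q12203 (flp_b L658249) q14370, e3 q12204 L359782 q10176, e3 q12205 L359791 q10177, e3 q12206 L359800 q10178, e3 q12207 L359809 q10179, e3 q12208 L359819 q10180, e3 q12209 L359835 q10182, e3 q12210 (flp_b L658400) q14384, e3 q12211 (flp_b L658415) q14385, e3 q12212 (flp_b L658428) q14386, e3 q12213 (flp_b L658443) q14387, e3 q12214 (flp_b L658454) q14388, e3 q12215 (flp_b L658465) q14389, e3 q12216 (flp_b L658473) q14390, e3 q12217 (flp_b L658486) q14391, e3 q12218 (flp_b L653483) q13955, e3 q12219 (flp_b L658497) q14392, e3 q12220 (flp_b L653443) q13952, e3 q12221 (flp_b L653494) q13956, e3 q12222 (flp_b L653504) q13957, e3 q12223 L360007 q12223, trivial⟩ (by decide +kernel)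

theorem ce_b_191 : ∀ r, r < 64 → sm gb (Qf (12224 + r)) = Qf (tab Gen.b (12224 + r)) :=
  edges_tab (sm gb) Qf (tab Gen.b) 12224 [(12224, 12224), (12225, 12225), (12226, 12226), (12227, 12227), (12228, 14418), (12229, 12229), (12230, 12230), (12231, 13896), (12232, 13897), (12233, 13898), (12234, 13899), (12235, 13900), (12236, 13901), (12237, 13902), (12238, 13903), (12239, 13904), (12240, 13905), (12241, 14439), (12242, 13907), (12243, 13908), (12244, 13909), (12245, 13910), (12246, 13911), (12247, 13912), (12248, 10241), (12249, 13913), (12250, 13914), (12251, 10239), (12252, 10242), (12253, 10243), (12254, 10214), (12255, 10215), (12256, 10216), (12257, 10217), (12258, 10218), (12259, 10219), (12260, 14461), (12261, 10221), (12262, 10211), (12263, 14465), (12264, 10224), (12265, 14454), (12266, 14455), (12267, 14456), (12268, 14470), (12269, 14458), (12270, 14459), (12271, 14475), (12272, 14460), (12273, 10220), (12274, 14479), (12275, 14463), (12276, 12276), (12277, 10223), (12278, 14482), (12279, 12279), (12280, 10231),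 (12281, 10232), (12282, 10233), (12283, 10234), (12284, 10235), (12285, 10236), (12286, 10237), (12287, 10238)]
    ⟨e3 q12224 L360019 q12224, e3 q12225 L360030 q12225, e3 q12226 L360039 q12226, e3 q12227 L360047 q12227, e3 q12228 L658758 q14418, e3 q12229 L360065 q12229, e3 q12230 L360074 q12230, e3 q12231 (flp_b L652670) q13896, e3 q12232 (flp_b L652686) q13897, e3 q12233 (flp_b L652703) q13898, e3 q12234 (flp_b L652716) q13899, e3 q12235 (flp_b L652726) q13900, e3 q12236 (flp_b L652739) q13901, e3 q12237 (flp_b L652753) q13902, e3 q12238 (flp_b L652767) q13903, e3 q12239 (flp_b L652779) q13904, e3 q12240 (flp_b L652787) q13905, e3 q12241 L658924 q14439, e3 q12242 (flp_b L652809) q13907, e3 q12243 (flp_b L652819) q13908, e3 q12244 (flp_b L652829) q13909, e3 q12245 (flp_b L652841) q13910, e3 q12246 (flp_b L652857) q13911, e3 q12247 (flp_b L652867) q13912, e3 q12248 L550815 q10241, e3 q12249 (flp_b L652880) q13913, e3 q12250 (flp_b L652891) q13914, e3 q12251 L506546 q10239, e3 q12252 L550810 q10242, e3 q12253 L506477 q10243,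 e3 q12254 L360244 q10214, e3 q12255 L360255 q10215, e3 q12256 L360265 q10216, e3 q12257 L360274 q10217, e3 q12258 L360286 q10218, e3 q12259 L360293 q10219, e3 q12260 L659114 q14461, e3 q12261 L360308 q10221, e3 q12262 (flp_b L360314) q10211, e3 q12263 (flp_b L659145) q14465, e3 q12264 L360329 q10224, e3 q12265 (flp_b L659041) q14454, e3 q12266 (flp_b L659055) q14455, e3 q12267 (flp_b L659066) q14456, e3 q12268 L659202 q14470, e3 q12269 (flp_b L659087) q14458, e3 q12270 (flp_b L659098) q14459, e3 q12271 L659259 q14475, e3 q12272 (flp_b L659108) q14460, e3 q12273 (flp_b L360402) q10220, e3 q12274 (flp_b L659305) q14479, e3 q12275 (flp_b L659129) q14463, e3 q12276 L360427 q12276, e3 q12277 L360430 q10223, e3 q12278 (flp_b L659330) q14482, e3 q12279 L360447 q12279, e3 q12280 L360451 q10231, e3 q12281 L360458 q10232, e3 q12282 L360465 q10233, e3 q12283 L360474 q10234, e3 q12284 L360481 q10235, e3 q12285 L360490 q10236, e3 q12286 L360496 q10237, e3 q12287 L360505 q10238, trivial⟩ (by decide +kernel)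

theorem ce_b_192 : ∀ r, r < 64 → sm gb (Qf (12288 + r)) = Qf (tab Gen.b (12288 + r)) :=
  edges_tab (sm gb) Qf (tab Gen.b) 12288 [(12288, 10240), (12289, 14485), (12290, 14486), (12291, 14487), (12292, 14488), (12293, 14489), (12294, 14490), (12295, 14491), (12296, 14492), (12297, 14493), (12298, 14494), (12299, 14516), (12300, 14442), (12301, 14496), (12302, 11475), (12303, 14497), (12304, 14449), (12305, 14452), (12306, 14450), (12307, 14453), (12308, 12308), (12309, 12309), (12310, 12310), (12311, 12311), (12312, 12312), (12313, 12313), (12314, 14535), (12315, 12315), (12316, 10249), (12317, 14539), (12318, 12318), (12319, 11644), (12320, 13961), (12321, 13962), (12322, 13963), (12323, 13964), (12324, 13965), (12325, 14552), (12326, 13966), (12327, 13967), (12328, 13968), (12329, 13969), (12330, 13970), (12331, 13971), (12332, 13972), (12333, 13973), (12334, 14567), (12335, 13975), (12336, 13976), (12337, 10262), (12338, 14574), (12339, 14575), (12340, 13980), (12341, 13981), (12342, 13982), (12343, 11052), (12344, 11435),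 (12345, 13983), (12346, 13984), (12347, 13985), (12348, 13986), (12349, 13987), (12350, 13988), (12351, 13989)]
    ⟨e3 q12288 L360523 q10240, e3 q12289 (flp_b L659370) q14485, e3 q12290 (flp_b L659384) q14486, e3 q12291 (flp_b L659393) q14487, e3 q12292 (flp_b L659404) q14488, e3 q12293 (flp_b L659416) q14489, e3 q12294 (flp_b L659425) q14490, e3 q12295 (flp_b L659434) q14491, e3 q12296 (flp_b L659447) q14492, e3 q12297 (flp_b L659458) q14493, e3 q12298 (flp_b L659464) q14494, e3 q12299 L659665 q14516, e3 q12300 (flp_b L658944) q14442, e3 q12301 (flp_b L659482) q14496, e3 q12302 L649237 q11475, e3 q12303 (flp_b L659492) q14497, e3 q12304 (flp_b L658994) q14449, e3 q12305 (flp_b L659020) q14452, e3 q12306 (flp_b L659005) q14450, e3 q12307 (flp_b L659034) q14453, e3 q12308 L360796 q12308, e3 q12309 L360806 q12309, e3 q12310 L360817 q12310, e3 q12311 L360827 q12311, e3 q12312 L360838 q12312, e3 q12313 L360847 q12313, e3 q12314 L659849 q14535, e3 q12315 L360864 q12315, e3 q12316 (flp_b L360870) q10249, e3 q12317 (flp_b L659885)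 q14539, e3 q12318 L360890 q12318, e3 q12319 (flp_b L648925) q11644, e3 q12320 (flp_b L653568) q13961, e3 q12321 (flp_b L653584) q13962, e3 q12322 (flp_b L653598) q13963, e3 q12323 (flp_b L653609) q13964, e3 q12324 (flp_b L653621) q13965, e3 q12325 L659990 q14552, e3 q12326 (flp_b L653632) q13966, e3 q12327 (flp_b L653643) q13967, e3 q12328 (flp_b L653653) q13968, e3 q12329 (flp_b L653669) q13969, e3 q12330 (flp_b L653681) q13970, e3 q12331 (flp_b L653689) q13971, e3 q12332 (flp_b L653703) q13972, e3 q12333 (flp_b L653717) q13973, e3 q12334 L660112 q14567, e3 q12335 (flp_b L653747) q13975, e3 q12336 (flp_b L653759) q13976, e3 q12337 (flp_b L361017) q10262, e3 q12338 (flp_b L660169) q14574, e3 q12339 (flp_b L660178) q14575, e3 q12340 (flp_b L653811) q13980, e3 q12341 (flp_b L653819) q13981, e3 q12342 (flp_b L653827) q13982, e3 q12343 L642506 q11052, e3 q12344 L649235 q11435, e3 q12345 (flp_b L653835) q13983, e3 q12346 (flp_b L653848) q13984, e3 q12347 (flp_b L653862) q13985, e3 q12348 (flp_b L653875) q13986, e3 q12349 (flp_b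 L653882) q13987, e3 q12350 (flp_b L653890) q13988, e3 q12351 (flp_b L653897) q13989, trivial⟩ (by decide +kernel)

theorem ce_b_193 : ∀ r, r < 64 → sm gb (Qf (12352 + r)) = Qf (tab Gen.b (12352 + r)) :=
  edges_tab (sm gb) Qf (tab Gen.b) 12352 [(12352, 13990), (12353, 13991), (12354, 10286), (12355, 10287), (12356, 10288), (12357, 14598), (12358, 10290), (12359, 10291), (12360, 11020), (12361, 10292), (12362, 10281), (12363, 14606), (12364, 10295), (12365, 14538), (12366, 10284), (12367, 14609), (12368, 14594), (12369, 14596), (12370, 14597), (12371, 10289), (12372, 14614), (12373, 14615), (12374, 14601), (12375, 14602), (12376, 14604), (12377, 12377), (12378, 10294), (12379, 14620), (12380, 12380), (12381, 10298), (12382, 14622), (12383, 10303), (12384, 10304), (12385, 10305), (12386, 14371), (12387, 14372), (12388, 10532), (12389, 14623), (12390, 14624), (12391, 12391), (12392, 12392), (12393, 12393), (12394, 12394), (12395, 12395), (12396, 12396), (12397, 12397), (12398, 12398), (12399, 12399), (12400, 12400), (12401,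 12401), (12402, 12402), (12403, 12403), (12404, 12404), (12405, 10325), (12406, 10327), (12407, 11655), (12408, 11646), (12409, 11647), (12410, 11648), (12411, 11662), (12412, 10331), (12413, 10337), (12414, 10338), (12415, 10339)]
    ⟨e3 q12352 (flp_b L653906) q13990, e3 q12353 (flp_b L653916) q13991, e3 q12354 L361139 q10286, e3 q12355 L361149 q10287, e3 q12356 L361158 q10288, e3 q12357 L660366 q14598, e3 q12358 L361175 q10290, e3 q12359 L361185 q10291, e3 q12360 L637599 q11020, e3 q12361 L361201 q10292, e3 q12362 (flp_b L361208) q10281, e3 q12363 (flp_b L660446) q14606, e3 q12364 L361225 q10295, e3 q12365 (flp_b L659881) q14538, e3 q12366 L361241 q10284, e3 q12367 (flp_b L660474) q14609, e3 q12368 (flp_b L660329) q14594, e3 q12369 (flp_b L660348) q14596, e3 q12370 (flp_b L660358) q14597, e3 q12371 (flp_b L361299) q10289, e3 q12372 (flp_b L660523) q14614, e3 q12373 (flp_b L660535) q14615, e3 q12374 (flp_b L660395) q14601, e3 q12375 (flp_b L660406) q14602, e3 q12376 (flp_b L660426) q14604, e3 q12377 L361369 q12377, e3 q12378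 L361372 q10294, e3 q12379 (flp_b L660596) q14620, e3 q12380 L361390 q12380, e3 q12381 L361396 q10298, e3 q12382 (flp_b L660617) q14622, e3 q12383 L361456 q10303, e3 q12384 L361465 q10304, e3 q12385 L361491 q10305, e3 q12386 (flp_b L658259) q14371, e3 q12387 (flp_b L658275) q14372, e3 q12388 L648197 q10532, e3 q12389 (flp_b L660633) q14623, e3 q12390 (flp_b L660647) q14624, e3 q12391 L361708 q12391, e3 q12392 L361791 q12392, e3 q12393 L361807 q12393, e3 q12394 L361813 q12394, e3 q12395 L361820 q12395, e3 q12396 L361829 q12396, e3 q12397 L361838 q12397, e3 q12398 L361846 q12398, e3 q12399 L361855 q12399, e3 q12400 L361864 q12400, e3 q12401 L361872 q12401, e3 q12402 L361882 q12402, e3 q12403 L361889 q12403, e3 q12404 L361898 q12404, e3 q12405 L361933 q10325, e3 q12406 L361952 q10327, e3 q12407 (flp_b L648893) q11655, e3 q12408 L648491 q11646, e3 q12409 L648690 q11647, e3 q12410 (flp_b L648286) q11648, e3 q12411 (flp_b L648887) q11662, e3 q12412 L362120 q10331, e3 q12413 L362168 q10337, e3 q12414 L362177 q10338, e3 q12415 L362187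 q10339, trivial⟩ (by decide +kernel)

theorem ce_b_194 : ∀ r, r < 64 → sm gb (Qf (12416 + r)) = Qf (tab Gen.b (12416 + r)) :=
  edges_tab (sm gb) Qf (tab Gen.b) 12416 [(12416, 10340), (12417, 10341), (12418, 10342), (12419, 10344), (12420, 14641), (12421, 14642), (12422, 14643), (12423, 14644), (12424, 14645), (12425, 14095), (12426, 14647), (12427, 14104), (12428, 14648), (12429, 14101), (12430, 14105), (12431, 14102), (12432, 14106), (12433, 12433), (12434, 12434), (12435, 12435), (12436, 12436), (12437, 13998), (12438, 13999), (12439, 14000), (12440, 14001), (12441, 14002), (12442, 14003), (12443, 14005), (12444, 14006), (12445, 14007), (12446, 14008), (12447, 14009), (12448, 14010), (12449, 14011), (12450, 14012), (12451, 14688), (12452, 14014), (12453, 14015), (12454, 10363), (12455, 10805), (12456, 14694), (12457, 10420), (12458, 14019), (12459, 14020), (12460, 14021), (12461, 14022), (12462, 14023), (12463, 14024), (12464, 14025), (12465, 10424), (12466, 10426), (12467, 14026), (12468, 10422), (12469, 10425), (12470,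 10427), (12471, 10386), (12472, 10387), (12473, 10388), (12474, 14717), (12475, 10390), (12476, 10391), (12477, 11633), (12478, 10393), (12479, 10382)]
    ⟨e3 q12416 L362196 q10340, e3 q12417 L362203 q10341, e3 q12418 L362215 q10342, e3 q12419 L362230 q10344, e3 q12420 (flp_b L660852) q14641, e3 q12421 (flp_b L660865) q14642, e3 q12422 (flp_b L660876) q14643, e3 q12423 (flp_b L660888) q14644, e3 q12424 (flp_b L660898) q14645, e3 q12425 (flp_b L655196) q14095, e3 q12426 (flp_b L660925) q14647, e3 q12427 (flp_b L655303) q14104, e3 q12428 (flp_b L660936) q14648, e3 q12429 (flp_b L655269) q14101, e3 q12430 (flp_b L655313) q14105, e3 q12431 (flp_b L655280) q14102, e3 q12432 (flp_b L655323) q14106, e3 q12433 L362511 q12433, e3 q12434 L362523 q12434, e3 q12435 L362543 q12435, e3 q12436 L362564 q12436, e3 q12437 (flp_b L654026) q13998, e3 q12438 (flp_b L654040) q13999, e3 q12439 (flp_b L654053) q14000, e3 q12440 (flp_b L654064) q14001, e3 q12441 (flp_b L654075) q14002, e3 q12442 (flp_b L654085) q14003, e3 q12443 (flp_b L654111)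 q14005, e3 q12444 (flp_b L654125) q14006, e3 q12445 (flp_b L654136) q14007, e3 q12446 (flp_b L654149) q14008, e3 q12447 (flp_b L654161) q14009, e3 q12448 (flp_b L654171) q14010, e3 q12449 (flp_b L654185) q14011, e3 q12450 (flp_b L654194) q14012, e3 q12451 L661351 q14688, e3 q12452 (flp_b L654217) q14014, e3 q12453 (flp_b L654227) q14015, e3 q12454 (flp_b L362757) q10363, e3 q12455 L546920 q10805, e3 q12456 (flp_b L661413) q14694, e3 q12457 L550671 q10420, e3 q12458 (flp_b L654277) q14019, e3 q12459 (flp_b L654290) q14020, e3 q12460 (flp_b L654301) q14021, e3 q12461 (flp_b L654312) q14022, e3 q12462 (flp_b L654324) q14023, e3 q12463 (flp_b L654334) q14024, e3 q12464 (flp_b L654345) q14025, e3 q12465 L506552 q10424, e3 q12466 L550723 q10426, e3 q12467 (flp_b L654357) q14026, e3 q12468 L552043 q10422, e3 q12469 L550719 q10425, e3 q12470 L506481 q10427, e3 q12471 L362874 q10386, e3 q12472 L362883 q10387, e3 q12473 L362893 q10388, e3 q12474 L661642 q14717, e3 q12475 L362911 q10390, e3 q12476 L362919 q10391, e3 q12477 (flp_b L648392)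 q11633, e3 q12478 L362936 q10393, e3 q12479 (flp_b L362943) q10382, trivial⟩ (by decide +kernel)

theorem ce_b_195 : ∀ r, r < 64 → sm gb (Qf (12480 + r)) = Qf (tab Gen.b (12480 + r)) :=
  edges_tab (sm gb) Qf (tab Gen.b) 12480 [(12480, 14722), (12481, 10385), (12482, 14712), (12483, 14713), (12484, 11340), (12485, 14715), (12486, 14716), (12487, 10389), (12488, 11341), (12489, 14727), (12490, 14720), (12491, 11342), (12492, 11661), (12493, 11343), (12494, 10395), (12495, 14728), (12496, 12496), (12497, 10399), (12498, 14627), (12499, 10409), (12500, 10410), (12501, 10411), (12502, 10412), (12503, 10413), (12504, 10414), (12505, 10415), (12506, 10416), (12507, 10417), (12508, 10418), (12509, 14083), (12510, 10421), (12511, 10423), (12512, 14730), (12513, 14731), (12514, 14732), (12515, 14733), (12516, 14734), (12517, 14735), (12518, 14066), (12519, 14736), (12520, 14737), (12521, 14738), (12522, 14739), (12523, 14740), (12524, 14741), (12525, 14742), (12526, 14768), (12527, 14697), (12528, 14744), (12529, 10419), (12530, 14082),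 (12531, 14774), (12532, 14698), (12533, 14746), (12534, 14706), (12535, 14710), (12536, 14703), (12537, 14707), (12538, 14711), (12539, 14708), (12540, 12540), (12541, 12541), (12542, 12542), (12543, 14789)]
    ⟨e3 q12480 (flp_b L661719) q14722, e3 q12481 L362978 q10385, e3 q12482 (flp_b L661576) q14712, e3 q12483 (flp_b L661589) q14713, e3 q12484 L615494 q11340, e3 q12485 (flp_b L661616) q14715, e3 q12486 (flp_b L661632) q14716, e3 q12487 (flp_b L363039) q10389, e3 q12488 L615919 q11341, e3 q12489 (flp_b L661802) q14727, e3 q12490 (flp_b L661690) q14720, e3 q12491 L490859 q11342, e3 q12492 L648873 q11661, e3 q12493 L490852 q11343, e3 q12494 L363117 q10395, e3 q12495 (flp_b L661816) q14728, e3 q12496 L363134 q12496, e3 q12497 L363140 q10399, e3 q12498 (flp_b L660681) q14627, e3 q12499 L363177 q10409, e3 q12500 L363185 q10410, e3 q12501 L363193 q10411, e3 q12502 L363200 q10412, e3 q12503 L363209 q10413, e3 q12504 L363217 q10414, e3 q12505 L363224 q10415, e3 q12506 L363233 q10416, e3 q12507 L363243 q10417, e3 q12508 L363249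 q10418, e3 q12509 (flp_b L655057) q14083, e3 q12510 L363271 q10421, e3 q12511 L363288 q10423, e3 q12512 (flp_b L661841) q14730, e3 q12513 (flp_b L661856) q14731, e3 q12514 (flp_b L661872) q14732, e3 q12515 (flp_b L661882) q14733, e3 q12516 (flp_b L661892) q14734, e3 q12517 (flp_b L661900) q14735, e3 q12518 (flp_b L654851) q14066, e3 q12519 (flp_b L661911) q14736, e3 q12520 (flp_b L661920) q14737, e3 q12521 (flp_b L661930) q14738, e3 q12522 (flp_b L661939) q14739, e3 q12523 (flp_b L661947) q14740, e3 q12524 (flp_b L661956) q14741, e3 q12525 (flp_b L661963) q14742, e3 q12526 L662231 q14768, e3 q12527 (flp_b L661450) q14697, e3 q12528 (flp_b L661978) q14744, e3 q12529 (flp_b L363571) q10419, e3 q12530 (flp_b L655048) q14082, e3 q12531 (flp_b L662286) q14774, e3 q12532 (flp_b L661458) q14698, e3 q12533 (flp_b L661994) q14746, e3 q12534 (flp_b L661518) q14706, e3 q12535 (flp_b L661554) q14710, e3 q12536 (flp_b L661498) q14703, e3 q12537 (flp_b L661528) q14707, e3 q12538 (flp_b L661567) q14711, e3 q12539 (flp_b L661536) q14708,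 e3 q12540 L363730 q12540, e3 q12541 L363740 q12541, e3 q12542 L363751 q12542, e3 q12543 L662430 q14789, trivial⟩ (by decide +kernel)

theorem ce_b_196 : ∀ r, r < 64 → sm gb (Qf (12544 + r)) = Qf (tab Gen.b (12544 + r)) :=
  edges_tab (sm gb) Qf (tab Gen.b) 12544 [(12544, 12544), (12545, 12545), (12546, 11587), (12547, 12547), (12548, 10434), (12549, 14795), (12550, 10484), (12551, 10437), (12552, 14114), (12553, 14115), (12554, 14116), (12555, 14117), (12556, 14118), (12557, 14119), (12558, 14120), (12559, 14121), (12560, 14810), (12561, 14123), (12562, 14124), (12563, 10444), (12564, 14146), (12565, 14816), (12566, 14128), (12567, 14129), (12568, 14130), (12569, 14131), (12570, 14132), (12571, 14133), (12572, 14828), (12573, 14135), (12574, 14136), (12575, 14834), (12576, 14138), (12577, 14139), (12578, 10453), (12579, 14841), (12580, 14842), (12581, 14143), (12582, 14144), (12583, 14145), (12584, 14126), (12585, 10457), (12586, 10458), (12587, 14850), (12588, 14851), (12589, 14852), (12590, 14152), (12591, 14153), (12592,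 14154), (12593, 14155), (12594, 14156), (12595, 14157), (12596, 14158), (12597, 14159), (12598, 14160), (12599, 14161), (12600, 14162), (12601, 14163), (12602, 14164), (12603, 14165), (12604, 14166), (12605, 10487), (12606, 10488), (12607, 14876)]
    ⟨e3 q12544 L363770 q12544, e3 q12545 L363780 q12545, e3 q12546 (flp_b L649299) q11587, e3 q12547 L363801 q12547, e3 q12548 (flp_b L363808) q10434, e3 q12549 (flp_b L662504) q14795, e3 q12550 L363844 q10484, e3 q12551 L363848 q10437, e3 q12552 (flp_b L655434) q14114, e3 q12553 (flp_b L655446) q14115, e3 q12554 (flp_b L655456) q14116, e3 q12555 (flp_b L655468) q14117, e3 q12556 (flp_b L655477) q14118, e3 q12557 (flp_b L655487) q14119, e3 q12558 (flp_b L655496) q14120, e3 q12559 (flp_b L655505) q14121, e3 q12560 L662643 q14810, e3 q12561 (flp_b L655521) q14123, e3 q12562 (flp_b L655530) q14124, e3 q12563 (flp_b L363952) q10444, e3 q12564 (flp_b L655751) q14146, e3 q12565 (flp_b L662693) q14816, e3 q12566 (flp_b L655577) q14128, e3 q12567 (flp_b L655589) q14129, e3 q12568 (flp_b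 L655597) q14130, e3 q12569 (flp_b L655606) q14131, e3 q12570 (flp_b L655617) q14132, e3 q12571 (flp_b L655625) q14133, e3 q12572 L662797 q14828, e3 q12573 (flp_b L655643) q14135, e3 q12574 (flp_b L655649) q14136, e3 q12575 L662837 q14834, e3 q12576 (flp_b L655672) q14138, e3 q12577 (flp_b L655683) q14139, e3 q12578 (flp_b L364062) q10453, e3 q12579 (flp_b L662889) q14841, e3 q12580 (flp_b L662896) q14842, e3 q12581 (flp_b L655720) q14143, e3 q12582 (flp_b L655726) q14144, e3 q12583 (flp_b L655736) q14145, e3 q12584 (flp_b L655554) q14126, e3 q12585 L364108 q10457, e3 q12586 L364114 q10458, e3 q12587 (flp_b L662953) q14850, e3 q12588 (flp_b L662965) q14851, e3 q12589 (flp_b L662973) q14852, e3 q12590 (flp_b L655816) q14152, e3 q12591 (flp_b L655824) q14153, e3 q12592 (flp_b L655835) q14154, e3 q12593 (flp_b L655844) q14155, e3 q12594 (flp_b L655857) q14156, e3 q12595 (flp_b L655870) q14157, e3 q12596 (flp_b L655882) q14158, e3 q12597 (flp_b L655889) q14159, e3 q12598 (flp_b L655895) q14160, e3 q12599 (flp_b L655904) q14161,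 e3 q12600 (flp_b L655912) q14162, e3 q12601 (flp_b L655920) q14163, e3 q12602 (flp_b L655930) q14164, e3 q12603 (flp_b L655936) q14165, e3 q12604 (flp_b L655945) q14166, e3 q12605 L364262 q10487, e3 q12606 L364273 q10488, e3 q12607 L663157 q14876, trivial⟩ (by decide +kernel)

theorem ce_b_197 : ∀ r, r < 64 → sm gb (Qf (12608 + r)) = Qf (tab Gen.b (12608 + r)) :=
  edges_tab (sm gb) Qf (tab Gen.b) 12608 [(12608, 10490), (12609, 10491), (12610, 10476), (12611, 14882), (12612, 14883), (12613, 10495), (12614, 10496), (12615, 10479), (12616, 14889), (12617, 10499), (12618, 14794), (12619, 10482), (12620, 14892), (12621, 14796), (12622, 10486), (12623, 14895), (12624, 14897), (12625, 14874), (12626, 14875), (12627, 10489), (12628, 14902), (12629, 14903), (12630, 14879), (12631, 14880), (12632, 12632), (12633, 10493), (12634, 10494), (12635, 14906), (12636, 14907), (12637, 14908), (12638, 14887), (12639, 12639), (12640, 10498), (12641, 14913), (12642, 12642), (12643, 10502), (12644, 14916), (12645, 12645), (12646, 10505), (12647,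 13815), (12648, 12648), (12649, 12649), (12650, 12650), (12651, 12651), (12652, 12652), (12653, 12653), (12654, 10520), (12655, 11195), (12656, 10523), (12657, 10516), (12658, 11196), (12659, 10529), (12660, 14625), (12661, 11322), (12662, 11330), (12663, 11324), (12664, 11300), (12665, 11180), (12666, 11183), (12667, 12667), (12668, 11378), (12669, 12669), (12670, 10541), (12671, 14932)]
    ⟨e3 q12608 L364290 q10490, e3 q12609 L364299 q10491, e3 q12610 (flp_b L364307) q10476, e3 q12611 (flp_b L663219) q14882, e3 q12612 (flp_b L663230) q14883, e3 q12613 L364336 q10495, e3 q12614 L364345 q10496, e3 q12615 (flp_b L364353) q10479, e3 q12616 (flp_b L663291) q14889, e3 q12617 L364373 q10499, e3 q12618 (flp_b L662500) q14794, e3 q12619 L364392 q10482, e3 q12620 (flp_b L663322) q14892, e3 q12621 (flp_b L662518) q14796, e3 q12622 L364420 q10486, e3 q12623 (flp_b L663357) q14895, e3 q12624 L663374 q14897, e3 q12625 (flp_b L663136) q14874, e3 q12626 (flp_b L663148) q14875, e3 q12627 (flp_b L364466) q10489, e3 q12628 (flp_b L663449)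 q14902, e3 q12629 (flp_b L663462) q14903, e3 q12630 (flp_b L663186) q14879, e3 q12631 (flp_b L663197) q14880, e3 q12632 L364518 q12632, e3 q12633 L364521 q10493, e3 q12634 L364530 q10494, e3 q12635 (flp_b L663495) q14906, e3 q12636 (flp_b L663508) q14907, e3 q12637 (flp_b L663519) q14908, e3 q12638 (flp_b L663268) q14887, e3 q12639 L364581 q12639, e3 q12640 L364584 q10498, e3 q12641 (flp_b L663577) q14913, e3 q12642 L364605 q12642, e3 q12643 L364611 q10502, e3 q12644 (flp_b L663605) q14916, e3 q12645 L364629 q12645, e3 q12646 L364638 q10505, e3 q12647 (flp_b L651516) q13815, e3 q12648 L367123 q12648, e3 q12649 L367132 q12649, e3 q12650 L367140 q12650, e3 q12651 L367150 q12651, e3 q12652 L367166 q12652, e3 q12653 L367183 q12653, e3 q12654 L367540 q10520, e3 q12655 L614713 q11195, e3 q12656 L367567 q10523, e3 q12657 (flp_b L367582) q10516, e3 q12658 L614639 q11196, e3 q12659 L367847 q10529, e3 q12660 (flp_b L660656) q14625, e3 q12661 L615629 q11322, e3 q12662 L513275 q11330, e3 q12663 L562970 q11324, e3 q12664 L646516 q11300,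 e3 q12665 L562149 q11180, e3 q12666 L513361 q11183, e3 q12667 L368633 q12667, e3 q12668 L646477 q11378, e3 q12669 L368662 q12669, e3 q12670 (flp_b L368678) q10541, e3 q12671 (flp_b L663808) q14932, trivial⟩ (by decide +kernel)

theorem ce_b_198 : ∀ r, r < 64 → sm gb (Qf (12672 + r)) = Qf (tab Gen.b (12672 + r)) :=
  edges_tab (sm gb) Qf (tab Gen.b) 12672 [(12672, 10578), (12673, 12673), (12674, 12674), (12675, 12675), (12676, 12676), (12677, 12677), (12678, 12678), (12679, 12679), (12680, 14943), (12681, 12681), (12682, 12682), (12683, 14947), (12684, 12684), (12685, 10554), (12686, 14950), (12687, 11385), (12688, 10557), (12689, 12689), (12690, 14953), (12691, 10560), (12692, 14955), (12693, 10562), (12694, 11382), (12695, 14957), (12696, 10585), (12697, 10586), (12698, 10567), (12699, 14959), (12700, 14958), (12701, 10584), (12702, 10588), (12703, 14931), (12704, 10571), (12705, 10572), (12706, 14928), (12707, 11373), (12708, 14964), (12709, 10593), (12710, 11581), (12711, 10576), (12712, 14971), (12713, 11372), (12714,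 10580), (12715, 14974), (12716, 11364), (12717, 10583), (12718, 14646), (12719, 12719), (12720, 12720), (12721, 10592), (12722, 14977), (12723, 14969), (12724, 12724), (12725, 10596), (12726, 14979), (12727, 12727), (12728, 10599), (12729, 13814), (12730, 12730), (12731, 12731), (12732, 12732), (12733, 10620), (12734, 10621), (12735, 10622)]
    ⟨e3 q12672 L368756 q10578, e3 q12673 L368804 q12673, e3 q12674 L368812 q12674, e3 q12675 L368820 q12675, e3 q12676 L368827 q12676, e3 q12677 L368835 q12677, e3 q12678 L368843 q12678, e3 q12679 L368852 q12679, e3 q12680 L663931 q14943, e3 q12681 L368867 q12681, e3 q12682 L368874 q12682, e3 q12683 L663981 q14947, e3 q12684 L368899 q12684, e3 q12685 (flp_b L368905) q10554, e3 q12686 (flp_b L664021) q14950, e3 q12687 L543323 q11385, e3 q12688 L368967 q10557, e3 q12689 L369007 q12689, e3 q12690 L664059 q14953, e3 q12691 (flp_b L369047) q10560, e3 q12692 (flp_b L664095) q14955, e3 q12693 (flp_b L369094) q10562, e3 q12694 L543183 q11382, e3 q12695 L664121 q14957, e3 q12696 L369317 q10585,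 e3 q12697 L369326 q10586, e3 q12698 (flp_b L369335) q10567, e3 q12699 (flp_b L664156) q14959, e3 q12700 (flp_b L664138) q14958, e3 q12701 (flp_b L647091) q10584, e3 q12702 L369370 q10588, e3 q12703 (flp_b L663804) q14931, e3 q12704 L369386 q10571, e3 q12705 L369395 q10572, e3 q12706 L663760 q14928, e3 q12707 L646458 q11373, e3 q12708 (flp_b L664227) q14964, e3 q12709 L369428 q10593, e3 q12710 (flp_b L649301) q11581, e3 q12711 L369445 q10576, e3 q12712 (flp_b L664310) q14971, e3 q12713 L543400 q11372, e3 q12714 L369472 q10580, e3 q12715 (flp_b L664342) q14974, e3 q12716 L543382 q11364, e3 q12717 L369495 q10583, e3 q12718 (flp_b L660918) q14646, e3 q12719 L369565 q12719, e3 q12720 L369629 q12720, e3 q12721 L369654 q10592, e3 q12722 (flp_b L664372) q14977, e3 q12723 (flp_b L664286) q14969, e3 q12724 L369707 q12724, e3 q12725 L369715 q10596, e3 q12726 (flp_b L664392) q14979, e3 q12727 L369732 q12727, e3 q12728 L369738 q10599, e3 q12729 (flp_b L651504) q13814, e3 q12730 L372536 q12730, e3 q12731 L372543 q12731, e3 q12732 L372569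 q12732, e3 q12733 L373227 q10620, e3 q12734 L373234 q10621, e3 q12735 L373243 q10622, trivial⟩ (by decide +kernel)

theorem ce_b_199 : ∀ r, r < 64 → sm gb (Qf (12736 + r)) = Qf (tab Gen.b (12736 + r)) :=
  edges_tab (sm gb) Qf (tab Gen.b) 12736 [(12736, 10623), (12737, 10625), (12738, 10627), (12739, 10624), (12740, 10909), (12741, 10912), (12742, 10913), (12743, 10916), (12744, 10638), (12745, 10641), (12746, 14984), (12747, 14985), (12748, 11612), (12749, 10899), (12750, 10901), (12751, 12751), (12752, 12752), (12753, 12753), (12754, 12754), (12755, 12755), (12756, 10941), (12757, 10942), (12758, 10944), (12759, 10946), (12760, 10947), (12761, 14996), (12762, 10949), (12763, 10950), (12764, 10953), (12765, 10954), (12766, 10955), (12767, 10956), (12768, 10666), (12769, 10667), (12770, 14251), (12771, 10668), (12772, 10663), (12773, 15007), (12774, 12774), (12775, 10670), (12776, 10998), (12777, 10999), (12778, 11000), (12779, 11001), (12780, 11002), (12781, 11003), (12782, 11005), (12783, 11006), (12784, 14322), (12785,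 11009), (12786, 11011), (12787, 10686), (12788, 14323), (12789, 10687), (12790, 10693), (12791, 10694), (12792, 10695), (12793, 10696), (12794, 10699), (12795, 15020), (12796, 15021), (12797, 15022), (12798, 10986), (12799, 15023)]
    ⟨e3 q12736 L373258 q10623, e3 q12737 L373282 q10625, e3 q12738 L373303 q10627, e3 q12739 (flp_b L373372) q10624, e3 q12740 L373994 q10909, e3 q12741 L374033 q10912, e3 q12742 L374039 q10913, e3 q12743 L374071 q10916, e3 q12744 L374305 q10638, e3 q12745 L374350 q10641, e3 q12746 (flp_b L664460) q14984, e3 q12747 (flp_b L664474) q14985, e3 q12748 (flp_b L648781) q11612, e3 q12749 L550196 q10899, e3 q12750 L576426 q10901, e3 q12751 L374540 q12751, e3 q12752 L374559 q12752, e3 q12753 L374567 q12753, e3 q12754 L374583 q12754, e3 q12755 L374593 q12755, e3 q12756 L374626 q10941, e3 q12757 L374634 q10942, e3 q12758 L374651 q10944, e3 q12759 L374672 q10946, e3 q12760 L374678 q10947, e3 q12761 L664613 q14996, e3 q12762 L374694 q10949, e3 q12763 L374702 q10950, e3 q12764 L374752 q10953, e3 q12765 L374763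 q10954, e3 q12766 L374783 q10955, e3 q12767 L374791 q10956, e3 q12768 L374834 q10666, e3 q12769 L374841 q10667, e3 q12770 (flp_b L656948) q14251, e3 q12771 L374865 q10668, e3 q12772 (flp_b L374872) q10663, e3 q12773 (flp_b L664725) q15007, e3 q12774 L374989 q12774, e3 q12775 L374992 q10670, e3 q12776 L375795 q10998, e3 q12777 L375813 q10999, e3 q12778 L375821 q11000, e3 q12779 L375827 q11001, e3 q12780 L375835 q11002, e3 q12781 L375847 q11003, e3 q12782 L375867 q11005, e3 q12783 L375873 q11006, e3 q12784 (flp_b L657704) q14322, e3 q12785 L375895 q11009, e3 q12786 L375911 q11011, e3 q12787 L376013 q10686, e3 q12788 (flp_b L657716) q14323, e3 q12789 L376059 q10687, e3 q12790 L376192 q10693, e3 q12791 L376210 q10694, e3 q12792 L376221 q10695, e3 q12793 L376227 q10696, e3 q12794 L376259 q10699, e3 q12795 (flp_b L664878) q15020, e3 q12796 (flp_b L664891) q15021, e3 q12797 (flp_b L664905) q15022, e3 q12798 L550202 q10986, e3 q12799 (flp_b L664920) q15023, trivial⟩ (by decide +kernel)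

theorem ce_b_200 : ∀ r, r < 64 → sm gb (Qf (12800 + r)) = Qf (tab Gen.b (12800 + r)) :=
  edges_tab (sm gb) Qf (tab Gen.b) 12800 [(12800, 11616), (12801, 10985), (12802, 10989), (12803, 10987), (12804, 12804), (12805, 12805), (12806, 12806), (12807, 12807), (12808, 12808), (12809, 12809), (12810, 12810), (12811, 12811), (12812, 11059), (12813, 11060), (12814, 11061), (12815, 11063), (12816, 11064), (12817, 11065), (12818, 11066), (12819, 11067), (12820, 11068), (12821, 11069), (12822, 11070), (12823, 15052), (12824, 11072), (12825, 11073), (12826, 10718), (12827, 15058), (12828, 15059), (12829, 11077), (12830, 11078), (12831, 11079), (12832, 11081), (12833, 11082), (12834, 11083), (12835, 11084), (12836, 11085), (12837, 11086), (12838, 10739), (12839, 10740), (12840, 10741), (12841, 15074), (12842, 10743), (12843, 10744), (12844, 15078), (12845, 10746), (12846, 10734), (12847, 15080), (12848, 10749), (12849, 10737), (12850, 15082), (12851, 15071), (12852, 15073), (12853, 10742), (12854, 15085), (12855, 15077), (12856, 10745),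 (12857, 15087), (12858, 12858), (12859, 10748), (12860, 15089), (12861, 12861), (12862, 10752), (12863, 15091)]
    ⟨e3 q12800 (flp_b L648734) q11616, e3 q12801 L576464 q10985, e3 q12802 L474109 q10989, e3 q12803 L576436 q10987, e3 q12804 L376538 q12804, e3 q12805 L376545 q12805, e3 q12806 L376556 q12806, e3 q12807 L376563 q12807, e3 q12808 L376572 q12808, e3 q12809 L376580 q12809, e3 q12810 L376596 q12810, e3 q12811 L376617 q12811, e3 q12812 L376637 q11059, e3 q12813 L376651 q11060, e3 q12814 L376659 q11061, e3 q12815 L376671 q11063, e3 q12816 L376679 q11064, e3 q12817 L376685 q11065, e3 q12818 L376693 q11066, e3 q12819 L376705 q11067, e3 q12820 L376711 q11068, e3 q12821 L376721 q11069, e3 q12822 L376727 q11070, e3 q12823 L665234 q15052, e3 q12824 L376743 q11072, e3 q12825 L376751 q11073, e3 q12826 (flp_b L376757) q10718, e3 q12827 (flp_b L665291) q15058, e3 q12828 (flp_b L665298) q15059, e3 q12829 L376776 q11077, e3 q12830 L376782 q11078, e3 q12831 L376790 q11079, e3 q12832 L376814 q11081, e3 q12833 L376823 q11082, e3 q12834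 L376843 q11083, e3 q12835 L376852 q11084, e3 q12836 L376870 q11085, e3 q12837 L376879 q11086, e3 q12838 L376905 q10739, e3 q12839 L376913 q10740, e3 q12840 L376921 q10741, e3 q12841 L665421 q15074, e3 q12842 L376935 q10743, e3 q12843 L376942 q10744, e3 q12844 L665467 q15078, e3 q12845 L376955 q10746, e3 q12846 (flp_b L376962) q10734, e3 q12847 (flp_b L665483) q15080, e3 q12848 L376978 q10749, e3 q12849 L376990 q10737, e3 q12850 (flp_b L665501) q15082, e3 q12851 (flp_b L665395) q15071, e3 q12852 (flp_b L665413) q15073, e3 q12853 (flp_b L377040) q10742, e3 q12854 (flp_b L665533) q15085, e3 q12855 (flp_b L665456) q15077, e3 q12856 (flp_b L377074) q10745, e3 q12857 (flp_b L665555) q15087, e3 q12858 L377104 q12858, e3 q12859 L377107 q10748, e3 q12860 (flp_b L665574) q15089, e3 q12861 L377126 q12861, e3 q12862 L377132 q10752, e3 q12863 (flp_b L665597) q15091, trivial⟩ (by decide +kernel)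

theorem ce_b_201 : ∀ r, r < 64 → sm gb (Qf (12864 + r)) = Qf (tab Gen.b (12864 + r)) :=
  edges_tab (sm gb) Qf (tab Gen.b) 12864 [(12864, 10753), (12865, 15094), (12866, 11505), (12867, 12867), (12868, 10756), (12869, 15097), (12870, 11133), (12871, 11134), (12872, 11135), (12873, 11136), (12874, 11137), (12875, 11138), (12876, 11140), (12877, 11141), (12878, 11142), (12879, 11143), (12880, 11144), (12881, 11145), (12882, 11146), (12883, 15114), (12884, 11149), (12885, 10768), (12886, 15118), (12887, 11154), (12888, 10782), (12889, 15120), (12890, 10784), (12891, 15123), (12892, 10786), (12893, 10777), (12894, 15127), (12895, 10789), (12896, 11548), (12897, 10780), (12898, 15130), (12899, 10783), (12900, 15133), (12901, 15122), (12902, 10785), (12903, 15136), (12904, 15125), (12905, 12905), (12906, 10788), (12907, 15139), (12908, 12908), (12909, 10792), (12910, 15142), (12911, 10802), (12912, 10804), (12913, 10806), (12914, 10807), (12915, 10808), (12916, 10809), (12917, 10810), (12918, 10811), (12919, 10814), (12920, 10816),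 (12921, 15144), (12922, 11627), (12923, 14689), (12924, 15145), (12925, 14017), (12926, 14695), (12927, 14421)]
    ⟨e3 q12864 (flp_b L377812) q10753, e3 q12865 (flp_b L665632) q15094, e3 q12866 (flp_b L648578) q11505, e3 q12867 L377847 q12867, e3 q12868 L377850 q10756, e3 q12869 (flp_b L665665) q15097, e3 q12870 L378352 q11133, e3 q12871 L378361 q11134, e3 q12872 L378372 q11135, e3 q12873 L378379 q11136, e3 q12874 L378389 q11137, e3 q12875 L378397 q11138, e3 q12876 L378423 q11140, e3 q12877 L378430 q11141, e3 q12878 L378439 q11142, e3 q12879 L378449 q11143, e3 q12880 L378455 q11144, e3 q12881 L378465 q11145, e3 q12882 L378472 q11146, e3 q12883 L665855 q15114, e3 q12884 L378499 q11149, e3 q12885 (flp_b L378505) q10768, e3 q12886 (flp_b L665906) q15118, e3 q12887 L378542 q11154, e3 q12888 L378664 q10782, e3 q12889 L665924 q15120, e3 q12890 L378684 q10784, e3 q12891 L665950 q15123, e3 q12892 L378698 q10786, e3 q12893 (flp_b L378705) q10777, e3 q12894 (flp_b L665998) q15127, e3 q12895 L378720 q10789, e3 q12896 L648533 q11548,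 e3 q12897 L378735 q10780, e3 q12898 (flp_b L666030) q15130, e3 q12899 (flp_b L378788) q10783, e3 q12900 (flp_b L666058) q15133, e3 q12901 (flp_b L665943) q15122, e3 q12902 (flp_b L378823) q10785, e3 q12903 (flp_b L666083) q15136, e3 q12904 (flp_b L665975) q15125, e3 q12905 L378857 q12905, e3 q12906 L378860 q10788, e3 q12907 (flp_b L666112) q15139, e3 q12908 L378878 q12908, e3 q12909 L378884 q10792, e3 q12910 (flp_b L666140) q15142, e3 q12911 L378921 q10802, e3 q12912 L378940 q10804, e3 q12913 L378959 q10806, e3 q12914 L378968 q10807, e3 q12915 L378977 q10808, e3 q12916 L378986 q10809, e3 q12917 L378998 q10810, e3 q12918 L379006 q10811, e3 q12919 L379032 q10814, e3 q12920 L379052 q10816, e3 q12921 (flp_b L666161) q15144, e3 q12922 L648841 q11627, e3 q12923 (flp_b L661369) q14689, e3 q12924 (flp_b L666175) q15145, e3 q12925 (flp_b L654252) q14017, e3 q12926 (flp_b L661426) q14695, e3 q12927 (flp_b L658786) q14421, trivial⟩ (by decide +kernel)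

theorem ce_b_202 : ∀ r, r < 64 → sm gb (Qf (12928 + r)) = Qf (tab Gen.b (12928 + r)) :=
  edges_tab (sm gb) Qf (tab Gen.b) 12928 [(12928, 15146), (12929, 15147), (12930, 15148), (12931, 15149), (12932, 15150), (12933, 15170), (12934, 11125), (12935, 15151), (12936, 10812), (12937, 14004), (12938, 15176), (12939, 11127), (12940, 15152), (12941, 11124), (12942, 11128), (12943, 11123), (12944, 11126), (12945, 12945), (12946, 12946), (12947, 12947), (12948, 15188), (12949, 12949), (12950, 12950), (12951, 15193), (12952, 12952), (12953, 10826), (12954, 15197), (12955, 12955), (12956, 10874), (12957, 10829), (12958, 15200), (12959, 11226), (12960, 11227), (12961, 11228), (12962, 11229), (12963, 11230), (12964, 11231), (12965, 11232), (12966, 15212), (12967, 11234), (12968, 11235), (12969, 10837), (12970, 15218), (12971, 15219), (12972, 11239), (12973, 11240), (12974, 11241), (12975, 11242), (12976, 11243), (12977, 11244), (12978, 15230), (12979, 11246), (12980, 11247), (12981, 15236), (12982, 11249), (12983, 11250), (12984, 10846),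 (12985, 15243), (12986, 15244), (12987, 11254), (12988, 11255), (12989, 11256), (12990, 14817), (12991, 10850)]
    ⟨e3 q12928 (flp_b L666191) q15146, e3 q12929 (flp_b L666204) q15147, e3 q12930 (flp_b L666212) q15148, e3 q12931 (flp_b L666223) q15149, e3 q12932 (flp_b L666236) q15150, e3 q12933 L666427 q15170, e3 q12934 L554282 q11125, e3 q12935 (flp_b L666250) q15151, e3 q12936 (flp_b L379352) q10812, e3 q12937 (flp_b L654102) q14004, e3 q12938 (flp_b L666482) q15176, e3 q12939 L554333 q11127, e3 q12940 (flp_b L666262) q15152, e3 q12941 L554271 q11124, e3 q12942 L554054 q11128, e3 q12943 L554277 q11123, e3 q12944 L554324 q11126, e3 q12945 L379505 q12945, e3 q12946 L379513 q12946, e3 q12947 L379523 q12947, e3 q12948 L666611 q15188, e3 q12949 L379539 q12949, e3 q12950 L379546 q12950, e3 q12951 L666659 q15193, e3 q12952 L379564 q12952, e3 q12953 (flp_b L379571) q10826, e3 q12954 (flp_b L666700) q15197, e3 q12955 L379591 q12955, e3 q12956 L379602 q10874, e3 q12957 L379606 q10829, e3 q12958 (flp_b L666729) q15200, e3 q12959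 L379631 q11226, e3 q12960 L379640 q11227, e3 q12961 L379648 q11228, e3 q12962 L379657 q11229, e3 q12963 L379665 q11230, e3 q12964 L379672 q11231, e3 q12965 L379681 q11232, e3 q12966 L666839 q15212, e3 q12967 L379698 q11234, e3 q12968 L379708 q11235, e3 q12969 (flp_b L379714) q10837, e3 q12970 (flp_b L666901) q15218, e3 q12971 (flp_b L666914) q15219, e3 q12972 L379737 q11239, e3 q12973 L379746 q11240, e3 q12974 L379755 q11241, e3 q12975 L379762 q11242, e3 q12976 L379771 q11243, e3 q12977 L379779 q11244, e3 q12978 L667004 q15230, e3 q12979 L379795 q11246, e3 q12980 L379799 q11247, e3 q12981 L667042 q15236, e3 q12982 L379814 q11249, e3 q12983 L379823 q11250, e3 q12984 (flp_b L379830) q10846, e3 q12985 (flp_b L667108) q15243, e3 q12986 (flp_b L667117) q15244, e3 q12987 L379855 q11254, e3 q12988 L379861 q11255, e3 q12989 L379871 q11256, e3 q12990 (flp_b L662704) q14817, e3 q12991 L379884 q10850, trivial⟩ (by decide +kernel)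

theorem ce_b_203 : ∀ r, r < 64 → sm gb (Qf (12992 + r)) = Qf (tab Gen.b (12992 + r)) :=
  edges_tab (sm gb) Qf (tab Gen.b) 12992 [(12992, 10851), (12993, 15253), (12994, 15254), (12995, 15255), (12996, 11263), (12997, 11264), (12998, 11265), (12999, 11266), (13000, 11267), (13001, 11268), (13002, 11269), (13003, 11270), (13004, 11271), (13005, 11272), (13006, 10877), (13007, 10878), (13008, 15269), (13009, 10880), (13010, 10881), (13011, 10866), (13012, 15275), (13013, 15276), (13014, 10885), (13015, 10886), (13016, 10869), (13017, 15282), (13018, 10889), (13019, 15196), (13020, 10872), (13021, 15285), (13022, 15199), (13023, 10876), (13024, 15288), (13025, 15268), (13026, 10879), (13027, 14925), (13028, 15291), (13029, 15272), (13030, 15273), (13031, 13031), (13032, 10883), (13033, 10884), (13034, 14924), (13035, 15296), (13036, 15297), (13037, 15280), (13038, 13038), (13039, 10888), (13040, 15302), (13041, 13041), (13042, 10892), (13043, 15304), (13044, 13044), (13045, 10895), (13046, 13813), (13047, 10927), (13048, 10924),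 (13049, 14986), (13050, 14988), (13051, 11613), (13052, 13052), (13053, 15311), (13054, 13054), (13055, 13055)]
    ⟨e3 q12992 L379892 q10851, e3 q12993 (flp_b L667196) q15253, e3 q12994 (flp_b L667208) q15254, e3 q12995 (flp_b L667218) q15255, e3 q12996 L379920 q11263, e3 q12997 L379926 q11264, e3 q12998 L379935 q11265, e3 q12999 L379942 q11266, e3 q13000 L379951 q11267, e3 q13001 L379971 q11268, e3 q13002 L379980 q11269, e3 q13003 L379998 q11270, e3 q13004 L380008 q11271, e3 q13005 L380036 q11272, e3 q13006 L380068 q10877, e3 q13007 L380076 q10878, e3 q13008 L667324 q15269, e3 q13009 L380090 q10880, e3 q13010 L380098 q10881, e3 q13011 (flp_b L380106) q10866, e3 q13012 (flp_b L667376) q15275, e3 q13013 (flp_b L667384) q15276, e3 q13014 L380127 q10885, e3 q13015 L380134 q10886, e3 q13016 (flp_b L380139) q10869, e3 q13017 (flp_b L667426) q15282, e3 q13018 L380158 q10889, e3 q13019 (flp_b L666696) q15196, e3 q13020 L380175 q10872, e3 q13021 (flp_b L667454) q15285, e3 q13022 (flp_b L666720) q15199, e3 q13023 L380200 q10876,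 e3 q13024 (flp_b L667478) q15288, e3 q13025 (flp_b L667317) q15268, e3 q13026 (flp_b L380234) q10879, e3 q13027 (flp_b L663710) q14925, e3 q13028 (flp_b L667498) q15291, e3 q13029 (flp_b L667351) q15272, e3 q13030 (flp_b L667360) q15273, e3 q13031 L380286 q13031, e3 q13032 L380289 q10883, e3 q13033 L380295 q10884, e3 q13034 (flp_b L663695) q14924, e3 q13035 (flp_b L667550) q15296, e3 q13036 (flp_b L667557) q15297, e3 q13037 (flp_b L667409) q15280, e3 q13038 L380339 q13038, e3 q13039 L380342 q10888, e3 q13040 (flp_b L667612) q15302, e3 q13041 L380364 q13041, e3 q13042 L380372 q10892, e3 q13043 (flp_b L667632) q15304, e3 q13044 L380390 q13044, e3 q13045 L380396 q10895, e3 q13046 (flp_b L651487) q13813, e3 q13047 L611856 q10927, e3 q13048 L611899 q10924, e3 q13049 (flp_b L664489) q14986, e3 q13050 (flp_b L664511) q14988, e3 q13051 (flp_b L648590) q11613, e3 q13052 L380701 q13052, e3 q13053 L667718 q15311, e3 q13054 L380720 q13054, e3 q13055 L380730 q13055, trivial⟩ (by decide +kernel)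

theorem ce_b_204 : ∀ r, r < 64 → sm gb (Qf (13056 + r)) = Qf (tab Gen.b (13056 + r)) :=
  edges_tab (sm gb) Qf (tab Gen.b) 13056 [(13056, 14981), (13057, 14982), (13058, 13886), (13059, 13895), (13060, 14324), (13061, 10928), (13062, 14983), (13063, 11592), (13064, 10931), (13065, 10929), (13066, 14341), (13067, 10923), (13068, 15307), (13069, 15308), (13070, 14228), (13071, 10982), (13072, 15305), (13073, 15306), (13074, 14325), (13075, 15319), (13076, 11615), (13077, 13077), (13078, 13078), (13079, 13079), (13080, 13080), (13081, 13081), (13082, 13082), (13083, 14333), (13084, 13084), (13085, 15334), (13086, 14991), (13087, 11621), (13088, 11619), (13089, 14992), (13090, 14993), (13091, 11620), (13092, 15341), (13093, 14995), (13094, 10948), (13095, 15345), (13096, 15346), (13097, 14999), (13098, 15000), (13099, 15001), (13100, 14312), (13101, 15002), (13102, 15003), (13103, 15004), (13104, 10968), (13105, 10969), (13106, 14236), (13107, 10970), (13108, 10971), (13109, 10973), (13110, 10963), (13111, 15358), (13112, 10976),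 (13113, 14299), (13114, 10966), (13115, 15361), (13116, 13801), (13117, 15356), (13118, 15357), (13119, 10972)]
    ⟨e3 q13056 (flp_b L664418) q14981, e3 q13057 (flp_b L664432) q14982, e3 q13058 L652552 q13886, e3 q13059 (flp_b L652652) q13895, e3 q13060 (flp_b L657732) q14324, e3 q13061 L504863 q10928, e3 q13062 (flp_b L664448) q14983, e3 q13063 L648218 q11592, e3 q13064 L504175 q10931, e3 q13065 L553491 q10929, e3 q13066 (flp_b L657885) q14341, e3 q13067 L381012 q10923, e3 q13068 (flp_b L667676) q15307, e3 q13069 (flp_b L667690) q15308, e3 q13070 (flp_b L656676) q14228, e3 q13071 L617528 q10982, e3 q13072 (flp_b L667647) q15305, e3 q13073 (flp_b L667661) q15306, e3 q13074 (flp_b L657738) q14325, e3 q13075 (flp_b L667781) q15319, e3 q13076 (flp_b L648356) q11615, e3 q13077 L381525 q13077, e3 q13078 L381534 q13078, e3 q13079 L381544 q13079, e3 q13080 L381552 q13080, e3 q13081 L381572 q13081, e3 q13082 L381592 q13082, e3 q13083 (flp_b L657805) q14333, e3 q13084 L381621 q13084, e3 q13085 L667915 q15334, e3 q13086 (flp_b L664556)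 q14991, e3 q13087 (flp_b L648941) q11621, e3 q13088 L648929 q11619, e3 q13089 (flp_b L664568) q14992, e3 q13090 (flp_b L664578) q14993, e3 q13091 L648931 q11620, e3 q13092 L667961 q15341, e3 q13093 (flp_b L664603) q14995, e3 q13094 (flp_b L381749) q10948, e3 q13095 (flp_b L667987) q15345, e3 q13096 (flp_b L667995) q15346, e3 q13097 (flp_b L664644) q14999, e3 q13098 (flp_b L664654) q15000, e3 q13099 (flp_b L664666) q15001, e3 q13100 (flp_b L657621) q14312, e3 q13101 (flp_b L664672) q15002, e3 q13102 (flp_b L664683) q15003, e3 q13103 (flp_b L664695) q15004, e3 q13104 L381897 q10968, e3 q13105 L381906 q10969, e3 q13106 (flp_b L656771) q14236, e3 q13107 L381929 q10970, e3 q13108 L381937 q10971, e3 q13109 L381954 q10973, e3 q13110 (flp_b L381964) q10963, e3 q13111 (flp_b L668095) q15358, e3 q13112 L381983 q10976, e3 q13113 (flp_b L657476) q14299, e3 q13114 L382001 q10966, e3 q13115 (flp_b L668124) q15361, e3 q13116 (flp_b L651329) q13801, e3 q13117 (flp_b L668075) q15356, e3 q13118 (flp_b L668084) q15357, e3 q13119 (flp_b L382094)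 q10972, trivial⟩ (by decide +kernel)

theorem ce_b_205 : ∀ r, r < 64 → sm gb (Qf (13120 + r)) = Qf (tab Gen.b (13120 + r)) :=
  edges_tab (sm gb) Qf (tab Gen.b) 13120 [(13120, 15364), (13121, 13121), (13122, 10975), (13123, 15366), (13124, 13124), (13125, 10979), (13126, 10983), (13127, 11038), (13128, 11040), (13129, 13978), (13130, 15326), (13131, 11034), (13132, 15030), (13133, 11035), (13134, 15026), (13135, 15031), (13136, 14553), (13137, 15028), (13138, 11618), (13139, 13139), (13140, 13140), (13141, 13141), (13142, 13142), (13143, 13143), (13144, 15384), (13145, 13145), (13146, 10995), (13147, 15388), (13148, 13148), (13149, 15009), (13150, 15010), (13151, 15011), (13152, 15394), (13153, 11036), (13154, 15013), (13155, 13944), (13156, 13993), (13157, 15014), (13158, 15015), (13159, 13974), (13160, 13995), (13161, 14564), (13162, 11041), (13163, 15016), (13164, 11007), (13165, 15410), (13166, 15411), (13167, 11044), (13168, 15018), (13169, 11045), (13170, 11039), (13171, 11042), (13172, 11025), (13173, 14595), (13174,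 11026), (13175, 11027), (13176, 14603), (13177, 11028), (13178, 15387), (13179, 11023), (13180, 15422), (13181, 15418), (13182, 15419), (13183, 13183)]
    ⟨e3 q13120 (flp_b L668152) q15364, e3 q13121 L382131 q13121, e3 q13122 L382134 q10975, e3 q13123 (flp_b L668171) q15366, e3 q13124 L382154 q13124, e3 q13125 L382161 q10979, e3 q13126 L382200 q10983, e3 q13127 L617173 q11038, e3 q13128 L617166 q11040, e3 q13129 (flp_b L653787) q13978, e3 q13130 (flp_b L667839) q15326, e3 q13131 L612519 q11034, e3 q13132 (flp_b L664986) q15030, e3 q13133 L612514 q11035, e3 q13134 (flp_b L664948) q15026, e3 q13135 (flp_b L664999) q15031, e3 q13136 (flp_b L660005) q14553, e3 q13137 (flp_b L664970) q15028, e3 q13138 (flp_b L648742) q11618, e3 q13139 L382544 q13139, e3 q13140 L382554 q13140, e3 q13141 L382565 q13141, e3 q13142 L382573 q13142, e3 q13143 L382593 q13143, e3 q13144 L668357 q15384, e3 q13145 L382612 q13145, e3 q13146 (flp_b L382618) q10995, e3 q13147 (flp_b L668393) q15388, e3 q13148 L382634 q13148, e3 q13149 (flp_b L664754) q15009,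 e3 q13150 (flp_b L664768) q15010, e3 q13151 (flp_b L664782) q15011, e3 q13152 L668431 q15394, e3 q13153 L504829 q11036, e3 q13154 (flp_b L664806) q15013, e3 q13155 (flp_b L653330) q13944, e3 q13156 (flp_b L653949) q13993, e3 q13157 (flp_b L664816) q15014, e3 q13158 (flp_b L664824) q15015, e3 q13159 L653741 q13974, e3 q13160 (flp_b L653973) q13995, e3 q13161 (flp_b L660092) q14564, e3 q13162 L504866 q11041, e3 q13163 (flp_b L664838) q15016, e3 q13164 (flp_b L382763) q11007, e3 q13165 (flp_b L668538) q15410, e3 q13166 (flp_b L668545) q15411, e3 q13167 L504860 q11044, e3 q13168 (flp_b L664860) q15018, e3 q13169 L554107 q11045, e3 q13170 L552221 q11039, e3 q13171 L504892 q11042, e3 q13172 L382902 q11025, e3 q13173 (flp_b L660344) q14595, e3 q13174 L382919 q11026, e3 q13175 L382927 q11027, e3 q13176 (flp_b L660415) q14603, e3 q13177 L382965 q11028, e3 q13178 (flp_b L668389) q15387, e3 q13179 L382981 q11023, e3 q13180 (flp_b L668622) q15422, e3 q13181 (flp_b L668589) q15418, e3 q13182 (flp_b L668598) q15419, e3 q13183 L383118 q13183,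 trivial⟩ (by decide +kernel)

theorem ce_b_206 : ∀ r, r < 64 → sm gb (Qf (13184 + r)) = Qf (tab Gen.b (13184 + r)) :=
  edges_tab (sm gb) Qf (tab Gen.b) 13184 [(13184, 11031), (13185, 15426), (13186, 11037), (13187, 11122), (13188, 15372), (13189, 15375), (13190, 15376), (13191, 15432), (13192, 15396), (13193, 14393), (13194, 15368), (13195, 15406), (13196, 15415), (13197, 15369), (13198, 15370), (13199, 14565), (13200, 15407), (13201, 11043), (13202, 15445), (13203, 15414), (13204, 13204), (13205, 13205), (13206, 13206), (13207, 14582), (13208, 13208), (13209, 13209), (13210, 13210), (13211, 14583), (13212, 13212), (13213, 11098), (13214, 11055), (13215, 15456), (13216, 11622), (13217, 15038), (13218, 15039), (13219, 15461), (13220, 15040), (13221, 11062), (13222, 15464), (13223, 15465), (13224, 15041), (13225, 15042), (13226, 15043), (13227, 15044), (13228, 15045), (13229, 15046), (13230, 15476), (13231, 15048), (13232, 15049), (13233, 15482), (13234, 15051), (13235, 11071), (13236, 15486), (13237, 15487), (13238, 15055),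 (13239, 15056), (13240, 15057), (13241, 15444), (13242, 11075), (13243, 11076), (13244, 15496), (13245, 15497), (13246, 15498), (13247, 15063)]
    ⟨e3 q13184 L383122 q11031, e3 q13185 (flp_b L668649) q15426, e3 q13186 L383177 q11037, e3 q13187 L616058 q11122, e3 q13188 (flp_b L668240) q15372, e3 q13189 (flp_b L668272) q15375, e3 q13190 (flp_b L668286) q15376, e3 q13191 L668691 q15432, e3 q13192 (flp_b L668443) q15396, e3 q13193 (flp_b L658510) q14393, e3 q13194 (flp_b L668192) q15368, e3 q13195 (flp_b L668512) q15406, e3 q13196 (flp_b L668568) q15415, e3 q13197 (flp_b L668205) q15369, e3 q13198 (flp_b L668219) q15370, e3 q13199 (flp_b L660098) q14565, e3 q13200 (flp_b L668518) q15407, e3 q13201 (flp_b L383532) q11043, e3 q13202 (flp_b L668793) q15445, e3 q13203 (flp_b L668562) q15414, e3 q13204 L383696 q13204, e3 q13205 L383705 q13205, e3 q13206 L383715 q13206, e3 q13207 (flp_b L660224) q14582, e3 q13208 L383733 q13208, e3 q13209 L383743 q13209, e3 q13210 L383761 q13210, e3 q13211 (flp_b L660234) q14583, e3 q13212 L383790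 q13212, e3 q13213 L383802 q11098, e3 q13214 L383806 q11055, e3 q13215 (flp_b L668890) q15456, e3 q13216 (flp_b L648969) q11622, e3 q13217 (flp_b L665096) q15038, e3 q13218 (flp_b L665106) q15039, e3 q13219 L668918 q15461, e3 q13220 (flp_b L665118) q15040, e3 q13221 (flp_b L383893) q11062, e3 q13222 (flp_b L668940) q15464, e3 q13223 (flp_b L668946) q15465, e3 q13224 (flp_b L665130) q15041, e3 q13225 (flp_b L665140) q15042, e3 q13226 (flp_b L665152) q15043, e3 q13227 (flp_b L665158) q15044, e3 q13228 (flp_b L665170) q15045, e3 q13229 (flp_b L665180) q15046, e3 q13230 L669013 q15476, e3 q13231 (flp_b L665198) q15048, e3 q13232 (flp_b L665204) q15049, e3 q13233 L669047 q15482, e3 q13234 (flp_b L665224) q15051, e3 q13235 (flp_b L383983) q11071, e3 q13236 (flp_b L669073) q15486, e3 q13237 (flp_b L669081) q15487, e3 q13238 (flp_b L665263) q15055, e3 q13239 (flp_b L665273) q15056, e3 q13240 (flp_b L665285) q15057, e3 q13241 (flp_b L668789) q15444, e3 q13242 L384027 q11075, e3 q13243 L384033 q11076, e3 q13244 (flp_b L669141) q15496,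 e3 q13245 (flp_b L669147) q15497, e3 q13246 (flp_b L669155) q15498, e3 q13247 (flp_b L665322) q15063, trivial⟩ (by decide +kernel)

theorem ce_b_207 : ∀ r, r < 64 → sm gb (Qf (13248 + r)) = Qf (tab Gen.b (13248 + r)) :=
  edges_tab (sm gb) Qf (tab Gen.b) 13248 [(13248, 15064), (13249, 15065), (13250, 15066), (13251, 15067), (13252, 15068), (13253, 15069), (13254, 15070), (13255, 11101), (13256, 11102), (13257, 15511), (13258, 11104), (13259, 11105), (13260, 11090), (13261, 15516), (13262, 15517), (13263, 11109), (13264, 11110), (13265, 11093), (13266, 15522), (13267, 11113), (13268, 14521), (13269, 11096), (13270, 15525), (13271, 15455), (13272, 11100), (13273, 15528), (13274, 15510), (13275, 11103), (13276, 15532), (13277, 15533), (13278, 15513), (13279, 15514), (13280, 13280), (13281, 11107), (13282, 11108), (13283, 15538), (13284, 15539), (13285, 15540), (13286, 15521), (13287, 13287), (13288, 11112), (13289, 15544), (13290, 13290), (13291, 11116), (13292, 15546), (13293, 13293), (13294, 11119), (13295, 15550), (13296,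 14498), (13297, 15180), (13298, 15173), (13299, 15182), (13300, 15168), (13301, 15181), (13302, 15174), (13303, 15179), (13304, 13304), (13305, 13305), (13306, 15099), (13307, 14076), (13308, 15100), (13309, 15101), (13310, 15102), (13311, 15103)]
    ⟨e3 q13248 (flp_b L665328) q15064, e3 q13249 (flp_b L665336) q15065, e3 q13250 (flp_b L665342) q15066, e3 q13251 (flp_b L665353) q15067, e3 q13252 (flp_b L665364) q15068, e3 q13253 (flp_b L665373) q15069, e3 q13254 (flp_b L665382) q15070, e3 q13255 L384189 q11101, e3 q13256 L384196 q11102, e3 q13257 L669240 q15511, e3 q13258 L384211 q11104, e3 q13259 L384222 q11105, e3 q13260 (flp_b L384230) q11090, e3 q13261 (flp_b L669287) q15516, e3 q13262 (flp_b L669296) q15517, e3 q13263 L384252 q11109, e3 q13264 L384262 q11110, e3 q13265 (flp_b L384267) q11093, e3 q13266 (flp_b L669334) q15522, e3 q13267 L384286 q11113, e3 q13268 (flp_b L659706) q14521, e3 q13269 L384304 q11096, e3 q13270 (flp_b L669363) q15525, e3 q13271 (flp_b L668883) q15455, e3 q13272 L384331 q11100, e3 q13273 (flp_b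 L669388) q15528, e3 q13274 (flp_b L669234) q15510, e3 q13275 (flp_b L384362) q11103, e3 q13276 (flp_b L669416) q15532, e3 q13277 (flp_b L669427) q15533, e3 q13278 (flp_b L669259) q15513, e3 q13279 (flp_b L669271) q15514, e3 q13280 L384412 q13280, e3 q13281 L384415 q11107, e3 q13282 L384422 q11108, e3 q13283 (flp_b L669473) q15538, e3 q13284 (flp_b L669487) q15539, e3 q13285 (flp_b L669495) q15540, e3 q13286 (flp_b L669325) q15521, e3 q13287 L384465 q13287, e3 q13288 L384468 q11112, e3 q13289 (flp_b L669538) q15544, e3 q13290 L384488 q13290, e3 q13291 L384495 q11116, e3 q13292 (flp_b L669557) q15546, e3 q13293 L384512 q13293, e3 q13294 L384518 q11119, e3 q13295 (flp_b L669581) q15550, e3 q13296 (flp_b L659507) q14498, e3 q13297 (flp_b L666521) q15180, e3 q13298 (flp_b L666456) q15173, e3 q13299 (flp_b L666548) q15182, e3 q13300 (flp_b L666409) q15168, e3 q13301 (flp_b L666534) q15181, e3 q13302 (flp_b L666464) q15174, e3 q13303 (flp_b L666510) q15179, e3 q13304 L385113 q13304, e3 q13305 L385132 q13305, e3 q13306 (flp_b L665686)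 q15099, e3 q13307 (flp_b L654982) q14076, e3 q13308 (flp_b L665699) q15100, e3 q13309 (flp_b L665712) q15101, e3 q13310 (flp_b L665722) q15102, e3 q13311 (flp_b L665733) q15103, trivial⟩ (by decide +kernel)

theorem ce_b_208 : ∀ r, r < 64 → sm gb (Qf (13312 + r)) = Qf (tab Gen.b (13312 + r)) :=
  edges_tab (sm gb) Qf (tab Gen.b) 13312 [(13312, 15104), (13313, 11199), (13314, 15105), (13315, 11201), (13316, 15106), (13317, 15075), (13318, 15107), (13319, 15108), (13320, 15578), (13321, 15110), (13322, 15111), (13323, 15584), (13324, 11206), (13325, 15113), (13326, 11147), (13327, 15590), (13328, 15591), (13329, 11204), (13330, 11209), (13331, 15116), (13332, 11151), (13333, 11152), (13334, 15597), (13335, 15598), (13336, 11212), (13337, 11203), (13338, 11207), (13339, 11205), (13340, 11171), (13341, 11172), (13342, 15604), (13343, 11174), (13344, 11175), (13345, 11162), (13346, 15609), (13347, 15610), (13348, 11179), (13349, 11165), (13350, 15614), (13351, 11640), (13352, 11168), (13353, 11641), (13354, 15603), (13355, 11173),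 (13356, 15616), (13357, 15607), (13358, 14927), (13359, 13359), (13360, 11177), (13361, 11178), (13362, 15618), (13363, 15619), (13364, 14926), (13365, 13365), (13366, 11182), (13367, 15621), (13368, 13368), (13369, 11186), (13370, 15623), (13371, 13371), (13372, 11189), (13373, 14072), (13374, 11197), (13375, 11198)]
    ⟨e3 q13312 (flp_b L665746) q15104, e3 q13313 L547297 q11199, e3 q13314 (flp_b L665760) q15105, e3 q13315 L507951 q11201, e3 q13316 (flp_b L665772) q15106, e3 q13317 (flp_b L665437) q15075, e3 q13318 (flp_b L665785) q15107, e3 q13319 (flp_b L665795) q15108, e3 q13320 L669804 q15578, e3 q13321 (flp_b L665817) q15110, e3 q13322 (flp_b L665825) q15111, e3 q13323 L669838 q15584, e3 q13324 L534563 q11206, e3 q13325 (flp_b L665846) q15113, e3 q13326 (flp_b L385429) q11147, e3 q13327 (flp_b L669890) q15590, e3 q13328 (flp_b L669899) q15591, e3 q13329 L534567 q11204, e3 q13330 L534236 q11209, e3 q13331 (flp_b L665881) q15116, e3 q13332 L385475 q11151, e3 q13333 L385481 q11152, e3 q13334 (flp_b L669943) q15597, e3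 q13335 (flp_b L669953) q15598, e3 q13336 L547365 q11212, e3 q13337 L552184 q11203, e3 q13338 L554112 q11207, e3 q13339 L534256 q11205, e3 q13340 L385629 q11171, e3 q13341 L385638 q11172, e3 q13342 L669996 q15604, e3 q13343 L385655 q11174, e3 q13344 L385664 q11175, e3 q13345 (flp_b L385672) q11162, e3 q13346 (flp_b L670050) q15609, e3 q13347 (flp_b L670061) q15610, e3 q13348 L385695 q11179, e3 q13349 (flp_b L385710) q11165, e3 q13350 (flp_b L670091) q15614, e3 q13351 L648483 q11640, e3 q13352 L385751 q11168, e3 q13353 L648493 q11641, e3 q13354 (flp_b L669989) q15603, e3 q13355 (flp_b L385815) q11173, e3 q13356 (flp_b L670112) q15616, e3 q13357 (flp_b L670025) q15607, e3 q13358 (flp_b L663737) q14927, e3 q13359 L385867 q13359, e3 q13360 L385870 q11177, e3 q13361 L385877 q11178, e3 q13362 (flp_b L670133) q15618, e3 q13363 (flp_b L670142) q15619, e3 q13364 (flp_b L663724) q14926, e3 q13365 L385918 q13365, e3 q13366 L385921 q11182, e3 q13367 (flp_b L670159) q15621, e3 q13368 L385942 q13368, e3 q13369 L385948 q11186, e3 q13370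 (flp_b L670181) q15623, e3 q13371 L385968 q13371, e3 q13372 L385975 q11189, e3 q13373 (flp_b L654931) q14072, e3 q13374 L386047 q11197, e3 q13375 L386053 q11198, trivial⟩ (by decide +kernel)

theorem ce_b_209 : ∀ r, r < 64 → sm gb (Qf (13376 + r)) = Qf (tab Gen.b (13376 + r)) :=
  edges_tab (sm gb) Qf (tab Gen.b) 13376 [(13376, 11200), (13377, 11202), (13378, 14714), (13379, 11319), (13380, 14718), (13381, 15569), (13382, 15624), (13383, 15567), (13384, 15625), (13385, 15570), (13386, 15572), (13387, 15600), (13388, 15587), (13389, 15601), (13390, 15639), (13391, 15581), (13392, 15595), (13393, 15644), (13394, 15588), (13395, 11208), (13396, 15648), (13397, 15596), (13398, 11257), (13399, 11211), (13400, 15651), (13401, 13401), (13402, 13402), (13403, 15654), (13404, 13404), (13405, 13405), (13406, 11216), (13407, 15659), (13408, 15660), (13409, 13409), (13410, 11219), (13411, 15664), (13412, 11286), (13413, 11222), (13414, 11289), (13415, 11642), (13416, 11638), (13417, 15202), (13418, 15203), (13419, 15204), (13420, 15205),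 (13421, 15206), (13422, 15675), (13423, 15208), (13424, 15209), (13425, 15681), (13426, 11636), (13427, 15211), (13428, 11233), (13429, 15687), (13430, 15688), (13431, 15215), (13432, 15216), (13433, 15217), (13434, 14149), (13435, 11237), (13436, 11238), (13437, 15251), (13438, 15696), (13439, 15697)]
    ⟨e3 q13376 L386070 q11200, e3 q13377 L386099 q11202, e3 q13378 (flp_b L661608) q14714, e3 q13379 L615816 q11319, e3 q13380 (flp_b L661662) q14718, e3 q13381 (flp_b L669737) q15569, e3 q13382 (flp_b L670193) q15624, e3 q13383 (flp_b L669719) q15567, e3 q13384 (flp_b L670201) q15625, e3 q13385 (flp_b L669745) q15570, e3 q13386 (flp_b L669763) q15572, e3 q13387 (flp_b L669965) q15600, e3 q13388 (flp_b L669864) q15587, e3 q13389 (flp_b L669973) q15601, e3 q13390 L670321 q15639, e3 q13391 (flp_b L669824) q15581, e3 q13392 (flp_b L669927) q15595, e3 q13393 L670355 q15644, e3 q13394 (flp_b L669872) q15588, e3 q13395 (flp_b L386649) q11208, e3 q13396 (flp_b L670390) q15648, e3 q13397 (flp_b L669935) q15596, e3 q13398 L386702 q11257,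 e3 q13399 L386713 q11211, e3 q13400 (flp_b L670415) q15651, e3 q13401 L386911 q13401, e3 q13402 L386921 q13402, e3 q13403 L670437 q15654, e3 q13404 L386939 q13404, e3 q13405 L386950 q13405, e3 q13406 (flp_b L386957) q11216, e3 q13407 (flp_b L670492) q15659, e3 q13408 (flp_b L670501) q15660, e3 q13409 L386986 q13409, e3 q13410 (flp_b L387000) q11219, e3 q13411 (flp_b L670536) q15664, e3 q13412 L387042 q11286, e3 q13413 L387046 q11222, e3 q13414 L387069 q11289, e3 q13415 L648479 q11642, e3 q13416 L648847 q11638, e3 q13417 (flp_b L666747) q15202, e3 q13418 (flp_b L666757) q15203, e3 q13419 (flp_b L666768) q15204, e3 q13420 (flp_b L666778) q15205, e3 q13421 (flp_b L666788) q15206, e3 q13422 L670621 q15675, e3 q13423 (flp_b L666806) q15208, e3 q13424 (flp_b L666812) q15209, e3 q13425 L670659 q15681, e3 q13426 L648843 q11636, e3 q13427 (flp_b L666830) q15211, e3 q13428 (flp_b L387186) q11233, e3 q13429 (flp_b L670715) q15687, e3 q13430 (flp_b L670724) q15688, e3 q13431 (flp_b L666869) q15215, e3 q13432 (flp_b L666879) q15216, e3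 q13433 (flp_b L666891) q15217, e3 q13434 (flp_b L655785) q14149, e3 q13435 L387240 q11237, e3 q13436 L387248 q11238, e3 q13437 (flp_b L667173) q15251, e3 q13438 (flp_b L670785) q15696, e3 q13439 (flp_b L670793) q15697, trivial⟩ (by decide +kernel)

theorem ce_b_210 : ∀ r, r < 64 → sm gb (Qf (13440 + r)) = Qf (tab Gen.b (13440 + r)) :=
  edges_tab (sm gb) Qf (tab Gen.b) 13440 [(13440, 15222), (13441, 15223), (13442, 15224), (13443, 15225), (13444, 15226), (13445, 15707), (13446, 15228), (13447, 15229), (13448, 11245), (13449, 15714), (13450, 15715), (13451, 15233), (13452, 15234), (13453, 15235), (13454, 11248), (13455, 15724), (13456, 15725), (13457, 15239), (13458, 15240), (13459, 15241), (13460, 15647), (13461, 11252), (13462, 11253), (13463, 15734), (13464, 15735), (13465, 15736), (13466, 15248), (13467, 15249), (13468, 15250), (13469, 15117), (13470, 15650), (13471, 11260), (13472, 11261), (13473, 11262), (13474, 15746), (13475, 15747), (13476, 15748), (13477, 15749), (13478, 15260), (13479, 15261), (13480, 15262), (13481,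 14542), (13482, 15263), (13483, 15264), (13484, 15265), (13485, 15266), (13486, 14967), (13487, 11292), (13488, 11275), (13489, 11379), (13490, 15761), (13491, 11295), (13492, 11296), (13493, 15658), (13494, 11279), (13495, 11280), (13496, 15766), (13497, 15764), (13498, 15763), (13499, 11294), (13500, 15663), (13501, 11284), (13502, 11569), (13503, 15665)]
    ⟨e3 q13440 (flp_b L666938) q15222, e3 q13441 (flp_b L666948) q15223, e3 q13442 (flp_b L666957) q15224, e3 q13443 (flp_b L666966) q15225, e3 q13444 (flp_b L666973) q15226, e3 q13445 L670860 q15707, e3 q13446 (flp_b L666990) q15228, e3 q13447 (flp_b L666996) q15229, e3 q13448 (flp_b L387328) q11245, e3 q13449 (flp_b L670910) q15714, e3 q13450 (flp_b L670914) q15715, e3 q13451 (flp_b L667026) q15233, e3 q13452 (flp_b L667032) q15234, e3 q13453 (flp_b L667038) q15235, e3 q13454 (flp_b L387358) q11248, e3 q13455 (flp_b L670965) q15724, e3 q13456 (flp_b L670974) q15725, e3 q13457 (flp_b L667072) q15239, e3 q13458 (flp_b L667082) q15240, e3 q13459 (flp_b L667093) q15241,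 e3 q13460 (flp_b L670386) q15647, e3 q13461 L387411 q11252, e3 q13462 L387419 q11253, e3 q13463 (flp_b L671045) q15734, e3 q13464 (flp_b L671051) q15735, e3 q13465 (flp_b L671061) q15736, e3 q13466 (flp_b L667147) q15248, e3 q13467 (flp_b L667155) q15249, e3 q13468 (flp_b L667163) q15250, e3 q13469 (flp_b L665902) q15117, e3 q13470 (flp_b L670408) q15650, e3 q13471 L387481 q11260, e3 q13472 L387488 q11261, e3 q13473 L387497 q11262, e3 q13474 (flp_b L671129) q15746, e3 q13475 (flp_b L671135) q15747, e3 q13476 (flp_b L671144) q15748, e3 q13477 (flp_b L671151) q15749, e3 q13478 (flp_b L667250) q15260, e3 q13479 (flp_b L667257) q15261, e3 q13480 (flp_b L667265) q15262, e3 q13481 (flp_b L659915) q14542, e3 q13482 (flp_b L667272) q15263, e3 q13483 (flp_b L667283) q15264, e3 q13484 (flp_b L667292) q15265, e3 q13485 (flp_b L667301) q15266, e3 q13486 (flp_b L664261) q14967, e3 q13487 L387690 q11292, e3 q13488 (flp_b L387697) q11275, e3 q13489 L629294 q11379, e3 q13490 (flp_b L671232) q15761, e3 q13491 L387727 q11295, e3 q13492 L387737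 q11296, e3 q13493 (flp_b L670488) q15658, e3 q13494 L387755 q11279, e3 q13495 L387765 q11280, e3 q13496 (flp_b L671290) q15766, e3 q13497 (flp_b L671268) q15764, e3 q13498 (flp_b L671254) q15763, e3 q13499 L646923 q11294, e3 q13500 (flp_b L670532) q15663, e3 q13501 L387814 q11284, e3 q13502 (flp_b L649305) q11569, e3 q13503 (flp_b L670548) q15665, trivial⟩ (by decide +kernel)

theorem ce_b_211 : ∀ r, r < 64 → sm gb (Qf (13504 + r)) = Qf (tab Gen.b (13504 + r)) :=
  edges_tab (sm gb) Qf (tab Gen.b) 13504 [(13504, 11288), (13505, 15773), (13506, 14951), (13507, 11291), (13508, 14094), (13509, 13509), (13510, 13510), (13511, 13511), (13512, 11305), (13513, 13513), (13514, 13514), (13515, 13515), (13516, 13516), (13517, 13517), (13518, 13518), (13519, 14747), (13520, 11323), (13521, 11316), (13522, 14749), (13523, 11643), (13524, 11329), (13525, 13525), (13526, 11333), (13527, 13527), (13528, 11336), (13529, 14042), (13530, 14724), (13531, 14726), (13532, 14961), (13533, 11345), (13534, 14954), (13535, 11377), (13536, 11348),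 (13537, 14960), (13538, 11380), (13539, 13539), (13540, 13540), (13541, 15786), (13542, 13542), (13543, 13543), (13544, 13544), (13545, 13545), (13546, 15793), (13547, 13547), (13548, 13548), (13549, 11357), (13550, 15798), (13551, 15799), (13552, 13552), (13553, 11360), (13554, 15803), (13555, 14973), (13556, 11363), (13557, 14894), (13558, 14966), (13559, 11367), (13560, 14933), (13561, 14963), (13562, 11370), (13563, 14930), (13564, 14970), (13565, 14786), (13566, 15762), (13567, 11568)]
    ⟨e3 q13504 L387846 q11288, e3 q13505 (flp_b L671352) q15773, e3 q13506 (flp_b L664034) q14951, e3 q13507 L387875 q11291, e3 q13508 (flp_b L655181) q14094, e3 q13509 L388014 q13509, e3 q13510 L388082 q13510, e3 q13511 L388111 q13511, e3 q13512 L388120 q11305, e3 q13513 L389175 q13513, e3 q13514 L389183 q13514, e3 q13515 L389192 q13515, e3 q13516 L389198 q13516, e3 q13517 L389207 q13517, e3 q13518 L389222 q13518, e3 q13519 (flp_b L662003) q14747, e3 q13520 L389721 q11323, e3 q13521 (flp_b L389735) q11316, e3 q13522 (flp_b L662029) q14749,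 e3 q13523 L648481 q11643, e3 q13524 L390024 q11329, e3 q13525 L390069 q13525, e3 q13526 L390077 q11333, e3 q13527 L390096 q13527, e3 q13528 L390102 q11336, e3 q13529 L654565 q14042, e3 q13530 (flp_b L661750) q14724, e3 q13531 (flp_b L661782) q14726, e3 q13532 (flp_b L664189) q14961, e3 q13533 (flp_b L390780) q11345, e3 q13534 (flp_b L664087) q14954, e3 q13535 L390833 q11377, e3 q13536 L390837 q11348, e3 q13537 (flp_b L664183) q14960, e3 q13538 L390891 q11380, e3 q13539 L390978 q13539, e3 q13540 L390986 q13540, e3 q13541 L671463 q15786, e3 q13542 L391000 q13542, e3 q13543 L391007 q13543, e3 q13544 L391014 q13544, e3 q13545 L391022 q13545, e3 q13546 L671510 q15793, e3 q13547 L391036 q13547, e3 q13548 L391044 q13548, e3 q13549 (flp_b L391051) q11357, e3 q13550 (flp_b L671553) q15798, e3 q13551 (flp_b L671561) q15799, e3 q13552 L391073 q13552, e3 q13553 (flp_b L391084) q11360, e3 q13554 (flp_b L671587) q15803, e3 q13555 (flp_b L664333) q14973, e3 q13556 L391120 q11363, e3 q13557 (flp_b L663345) q14894, e3 q13558 (flp_b L664247)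 q14966, e3 q13559 (flp_b L391177) q11367, e3 q13560 (flp_b L663824) q14933, e3 q13561 (flp_b L664213) q14963, e3 q13562 L391228 q11370, e3 q13563 (flp_b L663780) q14930, e3 q13564 (flp_b L664298) q14970, e3 q13565 L662405 q14786, e3 q13566 (flp_b L671246) q15762, e3 q13567 (flp_b L649303) q11568, trivial⟩ (by decide +kernel)

theorem ce_b_212 : ∀ r, r < 64 → sm gb (Qf (13568 + r)) = Qf (tab Gen.b (13568 + r)) :=
  edges_tab (sm gb) Qf (tab Gen.b) 13568 [(13568, 14949), (13569, 11384), (13570, 14091), (13571, 13571), (13572, 14334), (13573, 11394), (13574, 11395), (13575, 14247), (13576, 15811), (13577, 13577), (13578, 13578), (13579, 13579), (13580, 11419), (13581, 11420), (13582, 11423), (13583, 11408), (13584, 15814), (13585, 14300), (13586, 11412), (13587, 15816), (13588, 13942), (13589, 13802), (13590, 13803), (13591, 11418), (13592, 14205), (13593, 15819), (13594, 15813), (13595, 11422), (13596, 15823), (13597, 13597), (13598, 11426), (13599, 15826), (13600, 13600), (13601, 11429), (13602, 15830), (13603, 14259), (13604,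 13604), (13605, 13605), (13606, 13606), (13607, 14584), (13608, 11478), (13609, 11439), (13610, 15835), (13611, 11441), (13612, 11442), (13613, 14250), (13614, 14246), (13615, 14311), (13616, 13616), (13617, 11446), (13618, 11447), (13619, 15837), (13620, 15838), (13621, 13621), (13622, 13622), (13623, 13623), (13624, 14292), (13625, 14298), (13626, 11454), (13627, 11455), (13628, 11456), (13629, 14424), (13630, 15846), (13631, 15847)]
    ⟨e3 q13568 (flp_b L664017) q14949, e3 q13569 L391555 q11384, e3 q13570 L655153 q14091, e3 q13571 L649411 q13571, e3 q13572 (flp_b L657816) q14334, e3 q13573 L649428 q11394, e3 q13574 L649435 q11395, e3 q13575 (flp_b L656905) q14247, e3 q13576 (flp_b L671641) q15811, e3 q13577 L649460 q13577, e3 q13578 L649470 q13578, e3 q13579 L649481 q13579, e3 q13580 L649492 q11419, e3 q13581 L649500 q11420, e3 q13582 L649509 q11423, e3 q13583 L649519 q11408, e3 q13584 (flp_b L671667) q15814, e3 q13585 (flp_b L657488) q14300, e3 q13586 L649543 q11412, e3 q13587 (flp_b L671686) q15816, e3 q13588 (flp_b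 L653300) q13942, e3 q13589 (flp_b L651343) q13802, e3 q13590 (flp_b L651358) q13803, e3 q13591 L649587 q11418, e3 q13592 (flp_b L656363) q14205, e3 q13593 (flp_b L671710) q15819, e3 q13594 (flp_b L671659) q15813, e3 q13595 L649619 q11422, e3 q13596 (flp_b L671750) q15823, e3 q13597 L649640 q13597, e3 q13598 L649646 q11426, e3 q13599 (flp_b L671777) q15826, e3 q13600 L649663 q13600, e3 q13601 L649670 q11429, e3 q13602 (flp_b L671812) q15830, e3 q13603 (flp_b L657019) q14259, e3 q13604 L649696 q13604, e3 q13605 L649706 q13605, e3 q13606 L649716 q13606, e3 q13607 (flp_b L660245) q14584, e3 q13608 L649734 q11478, e3 q13609 L649740 q11439, e3 q13610 (flp_b L671854) q15835, e3 q13611 L649754 q11441, e3 q13612 L649761 q11442, e3 q13613 (flp_b L656935) q14250, e3 q13614 (flp_b L656889) q14246, e3 q13615 (flp_b L657606) q14311, e3 q13616 L649794 q13616, e3 q13617 L649802 q11446, e3 q13618 L649809 q11447, e3 q13619 (flp_b L671866) q15837, e3 q13620 (flp_b L671871) q15838, e3 q13621 L649830 q13621, e3 q13622 L649837 q13622, e3 q13623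 L649844 q13623, e3 q13624 (flp_b L657403) q14292, e3 q13625 (flp_b L657461) q14298, e3 q13626 L649868 q11454, e3 q13627 L649874 q11455, e3 q13628 L649881 q11456, e3 q13629 (flp_b L658814) q14424, e3 q13630 (flp_b L671931) q15846, e3 q13631 (flp_b L671939) q15847, trivial⟩ (by decide +kernel)

theorem ce_b_213 : ∀ r, r < 64 → sm gb (Qf (13632 + r)) = Qf (tab Gen.b (13632 + r)) :=
  edges_tab (sm gb) Qf (tab Gen.b) 13632 [(13632, 15848), (13633, 13633), (13634, 13634), (13635, 13635), (13636, 13636), (13637, 13637), (13638, 13638), (13639, 11483), (13640, 11468), (13641, 11469), (13642, 15853), (13643, 15854), (13644, 15855), (13645, 11489), (13646, 11473), (13647, 15859), (13648, 14522), (13649, 11477), (13650, 15861), (13651, 15834), (13652, 11480), (13653, 15865), (13654, 11482), (13655, 15867), (13656, 13656), (13657, 13657), (13658, 11487), (13659, 11488), (13660, 15871), (13661, 15872), (13662, 13662), (13663, 11492), (13664, 15875), (13665, 13665), (13666, 11495), (13667, 15879), (13668, 13668), (13669, 13669), (13670,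 11498), (13671, 15884), (13672, 11499), (13673, 15887), (13674, 13838), (13675, 11501), (13676, 15890), (13677, 13835), (13678, 11539), (13679, 11504), (13680, 15893), (13681, 11549), (13682, 11508), (13683, 15896), (13684, 11509), (13685, 15898), (13686, 11566), (13687, 11512), (13688, 11513), (13689, 15900), (13690, 15901), (13691, 15902), (13692, 11571), (13693, 11517), (13694, 15899), (13695, 11572)]
    ⟨e3 q13632 (flp_b L671946) q15848, e3 q13633 L649911 q13633, e3 q13634 L649917 q13634, e3 q13635 L649925 q13635, e3 q13636 L649931 q13636, e3 q13637 L649940 q13637, e3 q13638 L649949 q13638, e3 q13639 L649958 q11483, e3 q13640 L649968 q11468, e3 q13641 L649976 q11469, e3 q13642 (flp_b L671974) q15853, e3 q13643 (flp_b L671979) q15854, e3 q13644 (flp_b L671988) q15855, e3 q13645 L650005 q11489, e3 q13646 L650013 q11473, e3 q13647 (flp_b L672019) q15859, e3 q13648 (flp_b L659718) q14522, e3 q13649 L650036 q11477, e3 q13650 (flp_b L672037) q15861, e3 q13651 (flp_b L671847) q15834, e3 q13652 L650059 q11480, e3 q13653 (flp_b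 L672063) q15865, e3 q13654 L650069 q11482, e3 q13655 (flp_b L672073) q15867, e3 q13656 L650090 q13656, e3 q13657 L650097 q13657, e3 q13658 L650104 q11487, e3 q13659 L650111 q11488, e3 q13660 (flp_b L672109) q15871, e3 q13661 (flp_b L672117) q15872, e3 q13662 L650139 q13662, e3 q13663 L650145 q11492, e3 q13664 (flp_b L672141) q15875, e3 q13665 L650162 q13665, e3 q13666 L650168 q11495, e3 q13667 (flp_b L672173) q15879, e3 q13668 L650186 q13668, e3 q13669 L650195 q13669, e3 q13670 L650198 q11498, e3 q13671 (flp_b L672208) q15884, e3 q13672 (flp_b L650209) q11499, e3 q13673 (flp_b L672235) q15887, e3 q13674 (flp_b L651811) q13838, e3 q13675 (flp_b L650237) q11501, e3 q13676 (flp_b L672266) q15890, e3 q13677 (flp_b L651771) q13835, e3 q13678 L650272 q11539, e3 q13679 L650276 q11504, e3 q13680 (flp_b L672295) q15893, e3 q13681 L650295 q11549, e3 q13682 L650303 q11508, e3 q13683 (flp_b L672321) q15896, e3 q13684 (flp_b L650318) q11509, e3 q13685 (flp_b L672341) q15898, e3 q13686 L650355 q11566, e3 q13687 L650359 q11512, e3 q13688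 L650367 q11513, e3 q13689 (flp_b L672368) q15900, e3 q13690 (flp_b L672373) q15901, e3 q13691 (flp_b L672383) q15902, e3 q13692 L650410 q11571, e3 q13693 L650414 q11517, e3 q13694 (flp_b L672356) q15899, e3 q13695 L650437 q11572, trivial⟩ (by decide +kernel)

theorem ce_b_214 : ∀ r, r < 64 → sm gb (Qf (13696 + r)) = Qf (tab Gen.b (13696 + r)) :=
  edges_tab (sm gb) Qf (tab Gen.b) 13696 [(13696, 11521), (13697, 15907), (13698, 11574), (13699, 11524), (13700, 14181), (13701, 11573), (13702, 13702), (13703, 15886), (13704, 11528), (13705, 11529), (13706, 15808), (13707, 15911), (13708, 15912), (13709, 15913), (13710, 13710), (13711, 13711), (13712, 13712), (13713, 15889), (13714, 11534), (13715, 11535), (13716, 15925), (13717, 15926), (13718, 15920), (13719, 13719), (13720, 13720), (13721, 15126), (13722, 15892), (13723, 11542), (13724, 11543), (13725, 11544), (13726, 15933), (13727, 15934), (13728, 15935), (13729, 15909), (13730, 13730), (13731, 13731), (13732, 13732), (13733, 14038), (13734, 15129), (13735, 15895), (13736,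 11553), (13737, 11554), (13738, 11555), (13739, 11556), (13740, 15946), (13741, 15947), (13742, 15948), (13743, 15949), (13744, 14113), (13745, 13745), (13746, 13746), (13747, 13747), (13748, 13748), (13749, 13749), (13750, 14765), (13751, 15771), (13752, 14111), (13753, 14888), (13754, 11583), (13755, 14178), (13756, 14793), (13757, 14109), (13758, 11623), (13759, 11628)]
    ⟨e3 q13696 L650444 q11521, e3 q13697 (flp_b L672433) q15907, e3 q13698 L650464 q11574, e3 q13699 L650473 q11524, e3 q13700 (flp_b L656102) q14181, e3 q13701 L650489 q11573, e3 q13702 L650503 q13702, e3 q13703 (flp_b L672231) q15886, e3 q13704 L650523 q11528, e3 q13705 L650532 q11529, e3 q13706 (flp_b L671619) q15808, e3 q13707 (flp_b L672474) q15911, e3 q13708 (flp_b L672484) q15912, e3 q13709 (flp_b L672494) q15913, e3 q13710 L650571 q13710, e3 q13711 L650578 q13711, e3 q13712 L650585 q13712, e3 q13713 (flp_b L672262) q15889, e3 q13714 L650603 q11534, e3 q13715 L650612 q11535, e3 q13716 (flp_b L672596) q15925, e3 q13717 (flp_b L672606) q15926, e3 q13718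 (flp_b L672548) q15920, e3 q13719 L650648 q13719, e3 q13720 L650657 q13720, e3 q13721 (flp_b L665994) q15126, e3 q13722 (flp_b L672287) q15892, e3 q13723 L650683 q11542, e3 q13724 L650689 q11543, e3 q13725 L650698 q11544, e3 q13726 (flp_b L672665) q15933, e3 q13727 (flp_b L672673) q15934, e3 q13728 (flp_b L672680) q15935, e3 q13729 (flp_b L672450) q15909, e3 q13730 L650736 q13730, e3 q13731 L650744 q13731, e3 q13732 L650753 q13732, e3 q13733 (flp_b L654512) q14038, e3 q13734 (flp_b L666021) q15129, e3 q13735 (flp_b L672314) q15895, e3 q13736 L650783 q11553, e3 q13737 L650790 q11554, e3 q13738 L650799 q11555, e3 q13739 L650808 q11556, e3 q13740 (flp_b L672773) q15946, e3 q13741 (flp_b L672781) q15947, e3 q13742 (flp_b L672789) q15948, e3 q13743 (flp_b L672799) q15949, e3 q13744 (flp_b L655422) q14113, e3 q13745 L650851 q13745, e3 q13746 L650860 q13746, e3 q13747 L650867 q13747, e3 q13748 L650875 q13748, e3 q13749 L650881 q13749, e3 q13750 L662211 q14765, e3 q13751 (flp_b L671329) q15771, e3 q13752 (flp_b L655394) q14111, e3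 q13753 (flp_b L663287) q14888, e3 q13754 L650912 q11583, e3 q13755 (flp_b L656081) q14178, e3 q13756 (flp_b L662480) q14793, e3 q13757 L655373 q14109, e3 q13758 L650936 q11623, e3 q13759 L650945 q11628, trivial⟩ (by decide +kernel)

theorem ce_b_215 : ∀ r, r < 64 → sm gb (Qf (13760 + r)) = Qf (tab Gen.b (13760 + r)) :=
  edges_tab (sm gb) Qf (tab Gen.b) 13760 [(13760, 11629), (13761, 11601), (13762, 11626), (13763, 11637), (13764, 11639), (13765, 11645), (13766, 15337), (13767, 14319), (13768, 14543), (13769, 11635), (13770, 11634), (13771, 15155), (13772, 15156), (13773, 11657), (13774, 14685), (13775, 14721), (13776, 15963), (13777, 15684), (13778, 15608), (13779, 15666), (13780, 15613), (13781, 15615), (13782, 14797), (13783, 14541), (13784, 14374), (13785, 14640), (13786, 13786), (13787, 13787), (13788, 14033), (13789, 14049), (13790, 15943), (13791, 13791), (13792, 11665), (13793, 15975), (13794, 13794), (13795, 13795), (13796, 13796), (13797, 13797), (13798, 13798), (13799, 13799), (13800, 13800), (13801, 13116), (13802,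 13589), (13803, 13590), (13804, 13804), (13805, 13805), (13806, 13806), (13807, 13807), (13808, 13808), (13809, 13809), (13810, 11937), (13811, 11693), (13812, 11694), (13813, 13046), (13814, 12729), (13815, 12647), (13816, 15991), (13817, 13817), (13818, 13818), (13819, 13819), (13820, 13820), (13821, 13821), (13822, 13822), (13823, 13823)]
    ⟨e3 q13760 L650961 q11629, e3 q13761 L650977 q11601, e3 q13762 L650995 q11626, e3 q13763 L651011 q11637, e3 q13764 L651021 q11639, e3 q13765 L651033 q11645, e3 q13766 (flp_b L667937) q15337, e3 q13767 (flp_b L657676) q14319, e3 q13768 (flp_b L659925) q14543, e3 q13769 L651060 q11635, e3 q13770 L651077 q11634, e3 q13771 (flp_b L666290) q15155, e3 q13772 (flp_b L666303) q15156, e3 q13773 L651106 q11657, e3 q13774 L661331 q14685, e3 q13775 (flp_b L661704) q14721, e3 q13776 L672884 q15963, e3 q13777 (flp_b L670689) q15684, e3 q13778 (flp_b L670042) q15608, e3 q13779 (flp_b L670557) q15666, e3 q13780 (flp_b L670087) q15613, e3 q13781 (flp_b L670103) q15615, e3 q13782 (flp_b L662531) q14797,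 e3 q13783 (flp_b L659903) q14541, e3 q13784 (flp_b L658302) q14374, e3 q13785 (flp_b L660835) q14640, e3 q13786 L651200 q13786, e3 q13787 L651209 q13787, e3 q13788 (flp_b L654452) q14033, e3 q13789 (flp_b L654642) q14049, e3 q13790 (flp_b L672744) q15943, e3 q13791 L651236 q13791, e3 q13792 (flp_b L651242) q11665, e3 q13793 (flp_b L672965) q15975, e3 q13794 L651256 q13794, e3 q13795 L651262 q13795, e3 q13796 L651270 q13796, e3 q13797 L651280 q13797, e3 q13798 L651289 q13798, e3 q13799 L651302 q13799, e3 q13800 L651315 q13800, e3 q13801 L651329 q13116, e3 q13802 L651343 q13589, e3 q13803 L651358 q13590, e3 q13804 L651374 q13804, e3 q13805 L651388 q13805, e3 q13806 L651403 q13806, e3 q13807 L651416 q13807, e3 q13808 L651425 q13808, e3 q13809 L651433 q13809, e3 q13810 L651444 q11937, e3 q13811 L651459 q11693, e3 q13812 L651474 q11694, e3 q13813 L651487 q13046, e3 q13814 L651504 q12729, e3 q13815 L651516 q12647, e3 q13816 (flp_b L673190) q15991, e3 q13817 L651540 q13817, e3 q13818 L651555 q13818, e3 q13819 L651569 q13819, e3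 q13820 L651584 q13820, e3 q13821 L651599 q13821, e3 q13822 L651611 q13822, e3 q13823 L651625 q13823, trivial⟩ (by decide +kernel)

theorem ce_b_216 : ∀ r, r < 64 → sm gb (Qf (13824 + r)) = Qf (tab Gen.b (13824 + r)) :=
  edges_tab (sm gb) Qf (tab Gen.b) 13824 [(13824, 13824), (13825, 13825), (13826, 13826), (13827, 13827), (13828, 11704), (13829, 16006), (13830, 11715), (13831, 11707), (13832, 16008), (13833, 11709), (13834, 16010), (13835, 13677), (13836, 11711), (13837, 16013), (13838, 13674), (13839, 13839), (13840, 11714), (13841, 16016), (13842, 13842), (13843, 11718), (13844, 16019), (13845, 13845), (13846, 13846), (13847, 13847), (13848, 11729), (13849, 11730), (13850, 11731), (13851, 12140), (13852, 13852), (13853, 13853), (13854, 12076), (13855, 12077), (13856, 12078), (13857, 12079), (13858, 12080), (13859, 12081), (13860, 12082), (13861, 12083), (13862, 12084), (13863, 12085), (13864, 12086), (13865, 12087), (13866, 12090), (13867, 11754), (13868, 11755), (13869, 12141), (13870, 11756), (13871, 11764), (13872,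 11765), (13873, 11766), (13874, 11768), (13875, 16035), (13876, 16036), (13877, 12066), (13878, 12068), (13879, 16037), (13880, 12136), (13881, 12137), (13882, 12138), (13883, 12139), (13884, 12143), (13885, 12144), (13886, 13058), (13887, 12146)]
    ⟨e3 q13824 L651636 q13824, e3 q13825 L651644 q13825, e3 q13826 L651652 q13826, e3 q13827 L651661 q13827, e3 q13828 (flp_b L651666) q11704, e3 q13829 (flp_b L673385) q16006, e3 q13830 L651703 q11715, e3 q13831 L651719 q11707, e3 q13832 (flp_b L673420) q16008, e3 q13833 (flp_b L651742) q11709, e3 q13834 (flp_b L673447) q16010, e3 q13835 L651771 q13677, e3 q13836 (flp_b L651782) q11711, e3 q13837 (flp_b L673490) q16013, e3 q13838 L651811 q13674, e3 q13839 L651832 q13839, e3 q13840 L651835 q11714, e3 q13841 (flp_b L673529) q16016, e3 q13842 L651856 q13842, e3 q13843 L651866 q11718, e3 q13844 (flp_b L673562) q16019, e3 q13845 L651885 q13845, e3 q13846 L651903 q13846, e3 q13847 L651921 q13847, e3 q13848 L651939 q11729, e3 q13849 L651958 q11730, e3 q13850 L651977 q11731, e3 q13851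 L652007 q12140, e3 q13852 L652015 q13852, e3 q13853 L652033 q13853, e3 q13854 L652051 q12076, e3 q13855 L652070 q12077, e3 q13856 L652085 q12078, e3 q13857 L652104 q12079, e3 q13858 L652122 q12080, e3 q13859 L652136 q12081, e3 q13860 L652146 q12082, e3 q13861 L652162 q12083, e3 q13862 L652177 q12084, e3 q13863 L652188 q12085, e3 q13864 L652203 q12086, e3 q13865 L652215 q12087, e3 q13866 L652228 q12090, e3 q13867 L652243 q11754, e3 q13868 L652261 q11755, e3 q13869 L652288 q12141, e3 q13870 L652294 q11756, e3 q13871 L652311 q11764, e3 q13872 L652330 q11765, e3 q13873 L652345 q11766, e3 q13874 L652362 q11768, e3 q13875 (flp_b L673805) q16035, e3 q13876 (flp_b L673823) q16036, e3 q13877 L652411 q12066, e3 q13878 L652426 q12068, e3 q13879 (flp_b L673840) q16037, e3 q13880 L652455 q12136, e3 q13881 L652472 q12137, e3 q13882 L652485 q12138, e3 q13883 L652499 q12139, e3 q13884 L652512 q12143, e3 q13885 L652526 q12144, e3 q13886 (flp_b L652552) q13058, e3 q13887 L652558 q12146, trivial⟩ (by decide +kernel)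

theorem ce_b_217 : ∀ r, r < 64 → sm gb (Qf (13888 + r)) = Qf (tab Gen.b (13888 + r)) :=
  edges_tab (sm gb) Qf (tab Gen.b) 13888 [(13888, 12147), (13889, 12151), (13890, 12152), (13891, 12153), (13892, 12154), (13893, 12155), (13894, 12156), (13895, 13059), (13896, 12231), (13897, 12232), (13898, 12233), (13899, 12234), (13900, 12235), (13901, 12236), (13902, 12237), (13903, 12238), (13904, 12239), (13905, 12240), (13906, 16074), (13907, 12242), (13908, 12243), (13909, 12244), (13910, 12245), (13911, 12246), (13912, 12247), (13913, 12249), (13914, 12250), (13915, 11808), (13916, 11809), (13917, 11810), (13918, 11811), (13919, 11812), (13920, 11813), (13921, 16088), (13922, 11815), (13923, 11805), (13924, 16091), (13925, 11818), (13926, 16085), (13927, 16087), (13928, 11814), (13929, 16094), (13930, 13930), (13931, 11817), (13932, 16096), (13933, 11828), (13934, 11829), (13935, 11830), (13936, 11831), (13937, 11832), (13938, 11833), (13939, 11834), (13940, 11835), (13941, 11836), (13942, 13588), (13943, 11839), (13944, 13155),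 (13945, 16097), (13946, 16098), (13947, 16099), (13948, 16100), (13949, 16101), (13950, 16102), (13951, 16103)]
    ⟨e3 q13888 L652570 q12147, e3 q13889 L652582 q12151, e3 q13890 L652595 q12152, e3 q13891 L652609 q12153, e3 q13892 L652622 q12154, e3 q13893 L652630 q12155, e3 q13894 L652640 q12156, e3 q13895 L652652 q13059, e3 q13896 L652670 q12231, e3 q13897 L652686 q12232, e3 q13898 L652703 q12233, e3 q13899 L652716 q12234, e3 q13900 L652726 q12235, e3 q13901 L652739 q12236, e3 q13902 L652753 q12237, e3 q13903 L652767 q12238, e3 q13904 L652779 q12239, e3 q13905 L652787 q12240, e3 q13906 L674393 q16074, e3 q13907 L652809 q12242, e3 q13908 L652819 q12243, e3 q13909 L652829 q12244, e3 q13910 L652841 q12245, e3 q13911 L652857 q12246, e3 q13912 L652867 q12247, e3 q13913 L652880 q12249, e3 q13914 L652891 q12250, e3 q13915 L652903 q11808, e3 q13916 L652921 q11809, e3 q13917 L652937 q11810, e3 q13918 L652953 q11811, e3 q13919 L652967 q11812, e3 q13920 L652986 q11813, e3 q13921 L674576 q16088, e3 q13922 L653013 q11815, e3 q13923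 (flp_b L653024) q11805, e3 q13924 (flp_b L674617) q16091, e3 q13925 L653048 q11818, e3 q13926 (flp_b L674528) q16085, e3 q13927 (flp_b L674562) q16087, e3 q13928 (flp_b L653095) q11814, e3 q13929 (flp_b L674659) q16094, e3 q13930 L653135 q13930, e3 q13931 L653138 q11817, e3 q13932 (flp_b L674686) q16096, e3 q13933 L653167 q11828, e3 q13934 L653184 q11829, e3 q13935 L653199 q11830, e3 q13936 L653214 q11831, e3 q13937 L653227 q11832, e3 q13938 L653239 q11833, e3 q13939 L653252 q11834, e3 q13940 L653269 q11835, e3 q13941 L653284 q11836, e3 q13942 L653300 q13588, e3 q13943 L653317 q11839, e3 q13944 L653330 q13155, e3 q13945 (flp_b L674703) q16097, e3 q13946 (flp_b L674722) q16098, e3 q13947 (flp_b L674741) q16099, e3 q13948 (flp_b L674756) q16100, e3 q13949 (flp_b L674772) q16101, e3 q13950 (flp_b L674787) q16102, e3 q13951 (flp_b L674805) q16103, trivial⟩ (by decide +kernel)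

theorem ce_b_218 : ∀ r, r < 64 → sm gb (Qf (13952 + r)) = Qf (tab Gen.b (13952 + r)) :=
  edges_tab (sm gb) Qf (tab Gen.b) 13952 [(13952, 12220), (13953, 16104), (13954, 16105), (13955, 12218), (13956, 12221), (13957, 12222), (13958, 13958), (13959, 13959), (13960, 13960), (13961, 12320), (13962, 12321), (13963, 12322), (13964, 12323), (13965, 12324), (13966, 12326), (13967, 12327), (13968, 12328), (13969, 12329), (13970, 12330), (13971, 12331), (13972, 12332), (13973, 12333), (13974, 13159), (13975, 12335), (13976, 12336), (13977, 11854), (13978, 13129), (13979, 16139), (13980, 12340), (13981, 12341), (13982, 12342), (13983, 12345), (13984, 12346), (13985, 12347), (13986, 12348), (13987, 12349), (13988, 12350), (13989, 12351), (13990, 12352), (13991, 12353), (13992, 11876), (13993, 13156), (13994, 11877), (13995, 13160), (13996, 11874), (13997, 13997), (13998, 12437), (13999, 12438), (14000, 12439), (14001, 12440), (14002, 12441), (14003, 12442), (14004, 12937), (14005, 12443), (14006, 12444), (14007, 12445), (14008, 12446),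 (14009, 12447), (14010, 12448), (14011, 12449), (14012, 12450), (14013, 16179), (14014, 12452), (14015, 12453)]
    ⟨e3 q13952 L653443 q12220, e3 q13953 (flp_b L674817) q16104, e3 q13954 (flp_b L674833) q16105, e3 q13955 L653483 q12218, e3 q13956 L653494 q12221, e3 q13957 L653504 q12222, e3 q13958 L653517 q13958, e3 q13959 L653534 q13959, e3 q13960 L653551 q13960, e3 q13961 L653568 q12320, e3 q13962 L653584 q12321, e3 q13963 L653598 q12322, e3 q13964 L653609 q12323, e3 q13965 L653621 q12324, e3 q13966 L653632 q12326, e3 q13967 L653643 q12327, e3 q13968 L653653 q12328, e3 q13969 L653669 q12329, e3 q13970 L653681 q12330, e3 q13971 L653689 q12331, e3 q13972 L653703 q12332, e3 q13973 L653717 q12333, e3 q13974 (flp_b L653741) q13159, e3 q13975 L653747 q12335, e3 q13976 L653759 q12336, e3 q13977 (flp_b L653765) q11854, e3 q13978 L653787 q13129, e3 q13979 (flp_b L675309) q16139, e3 q13980 L653811 q12340, e3 q13981 L653819 q12341, e3 q13982 L653827 q12342, e3 q13983 L653835 q12345, e3 q13984 L653848 q12346, e3 q13985 L653862 q12347,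 e3 q13986 L653875 q12348, e3 q13987 L653882 q12349, e3 q13988 L653890 q12350, e3 q13989 L653897 q12351, e3 q13990 L653906 q12352, e3 q13991 L653916 q12353, e3 q13992 L653925 q11876, e3 q13993 L653949 q13156, e3 q13994 L653955 q11877, e3 q13995 L653973 q13160, e3 q13996 L653989 q11874, e3 q13997 L654007 q13997, e3 q13998 L654026 q12437, e3 q13999 L654040 q12438, e3 q14000 L654053 q12439, e3 q14001 L654064 q12440, e3 q14002 L654075 q12441, e3 q14003 L654085 q12442, e3 q14004 L654102 q12937, e3 q14005 L654111 q12443, e3 q14006 L654125 q12444, e3 q14007 L654136 q12445, e3 q14008 L654149 q12446, e3 q14009 L654161 q12447, e3 q14010 L654171 q12448, e3 q14011 L654185 q12449, e3 q14012 L654194 q12450, e3 q14013 L675800 q16179, e3 q14014 L654217 q12452, e3 q14015 L654227 q12453, trivial⟩ (by decide +kernel)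

theorem ce_b_219 : ∀ r, r < 64 → sm gb (Qf (14016 + r)) = Qf (tab Gen.b (14016 + r)) :=
  edges_tab (sm gb) Qf (tab Gen.b) 14016 [(14016, 11890), (14017, 12925), (14018, 16185), (14019, 12458), (14020, 12459), (14021, 12460), (14022, 12461), (14023, 12462), (14024, 12463), (14025, 12464), (14026, 12467), (14027, 11910), (14028, 11911), (14029, 11912), (14030, 16198), (14031, 11914), (14032, 11915), (14033, 13788), (14034, 11917), (14035, 11905), (14036, 16205), (14037, 11920), (14038, 13733), (14039, 11908), (14040, 16208), (14041, 16195), (14042, 13529), (14043, 16197), (14044, 11913), (14045, 16212), (14046, 16213), (14047, 16201), (14048, 16202), (14049, 13789), (14050, 16204), (14051, 11919), (14052, 16218), (14053, 14053), (14054, 11923), (14055, 16221), (14056, 11939), (14057, 11940), (14058, 11941), (14059, 11942), (14060, 11943), (14061, 11944), (14062, 11945), (14063, 11946), (14064, 11947), (14065, 11948), (14066, 12518), (14067, 11950), (14068, 11951), (14069, 11952), (14070, 11953), (14071, 11954), (14072, 13373),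 (14073, 11956), (14074, 11957), (14075, 15990), (14076, 13307), (14077, 16223), (14078, 16224), (14079, 16225)]
    ⟨e3 q14016 (flp_b L654233) q11890, e3 q14017 L654252 q12925, e3 q14018 (flp_b L675875) q16185, e3 q14019 L654277 q12458, e3 q14020 L654290 q12459, e3 q14021 L654301 q12460, e3 q14022 L654312 q12461, e3 q14023 L654324 q12462, e3 q14024 L654334 q12463, e3 q14025 L654345 q12464, e3 q14026 L654357 q12467, e3 q14027 L654370 q11910, e3 q14028 L654385 q11911, e3 q14029 L654400 q11912, e3 q14030 L676040 q16198, e3 q14031 L654421 q11914, e3 q14032 L654435 q11915, e3 q14033 L654452 q13788, e3 q14034 L654458 q11917, e3 q14035 (flp_b L654466) q11905, e3 q14036 (flp_b L676132) q16205, e3 q14037 L654491 q11920, e3 q14038 L654512 q13733, e3 q14039 L654516 q11908, e3 q14040 (flp_b L676169) q16208, e3 q14041 (flp_b L675996) q16195, e3 q14042 (flp_b L654565) q13529, e3 q14043 (flp_b L676028) q16197, e3 q14044 (flp_b L654580) q11913, e3 q14045 (flp_b L676223) q16212, e3 q14046 (flp_b L676237) q16213, e3 q14047 (flp_b L676079)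 q16201, e3 q14048 (flp_b L676094) q16202, e3 q14049 L654642 q13789, e3 q14050 (flp_b L676119) q16204, e3 q14051 L654666 q11919, e3 q14052 (flp_b L676300) q16218, e3 q14053 L654688 q14053, e3 q14054 L654699 q11923, e3 q14055 (flp_b L676336) q16221, e3 q14056 L654721 q11939, e3 q14057 L654737 q11940, e3 q14058 L654751 q11941, e3 q14059 L654762 q11942, e3 q14060 L654777 q11943, e3 q14061 L654791 q11944, e3 q14062 L654802 q11945, e3 q14063 L654813 q11946, e3 q14064 L654825 q11947, e3 q14065 L654833 q11948, e3 q14066 L654851 q12518, e3 q14067 L654860 q11950, e3 q14068 L654875 q11951, e3 q14069 L654886 q11952, e3 q14070 L654902 q11953, e3 q14071 L654915 q11954, e3 q14072 L654931 q13373, e3 q14073 L654947 q11956, e3 q14074 L654960 q11957, e3 q14075 (flp_b L673175) q15990, e3 q14076 L654982 q13307, e3 q14077 (flp_b L676366) q16223, e3 q14078 (flp_b L676384) q16224, e3 q14079 (flp_b L676398) q16225, trivial⟩ (by decide +kernel)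

theorem ce_b_220 : ∀ r, r < 64 → sm gb (Qf (14080 + r)) = Qf (tab Gen.b (14080 + r)) :=
  edges_tab (sm gb) Qf (tab Gen.b) 14080 [(14080, 16226), (14081, 16227), (14082, 12530), (14083, 12509), (14084, 16228), (14085, 16229), (14086, 16230), (14087, 16231), (14088, 16232), (14089, 16233), (14090, 16234), (14091, 13570), (14092, 16236), (14093, 16237), (14094, 13508), (14095, 12425), (14096, 16239), (14097, 16240), (14098, 16241), (14099, 16242), (14100, 16243), (14101, 12429), (14102, 12431), (14103, 16245), (14104, 12427), (14105, 12430), (14106, 12432), (14107, 14107), (14108, 14108), (14109, 13757), (14110, 14110), (14111, 13752), (14112, 14112), (14113, 13744), (14114, 12552), (14115, 12553), (14116, 12554), (14117, 12555), (14118, 12556), (14119, 12557), (14120, 12558), (14121, 12559), (14122, 16299), (14123, 12561), (14124, 12562), (14125, 11976), (14126, 12584), (14127, 16305), (14128, 12566), (14129, 12567), (14130, 12568), (14131, 12569), (14132, 12570), (14133, 12571), (14134, 16316), (14135, 12573), (14136, 12574),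 (14137, 16322), (14138, 12576), (14139, 12577), (14140, 11985), (14141, 16328), (14142, 16329), (14143, 12581)]
    ⟨e3 q14080 (flp_b L676410) q16226, e3 q14081 (flp_b L676424) q16227, e3 q14082 L655048 q12530, e3 q14083 L655057 q12509, e3 q14084 (flp_b L676437) q16228, e3 q14085 (flp_b L676452) q16229, e3 q14086 (flp_b L676468) q16230, e3 q14087 (flp_b L676481) q16231, e3 q14088 (flp_b L676491) q16232, e3 q14089 (flp_b L676504) q16233, e3 q14090 (flp_b L676515) q16234, e3 q14091 (flp_b L655153) q13570, e3 q14092 (flp_b L676542) q16236, e3 q14093 (flp_b L676558) q16237, e3 q14094 L655181 q13508, e3 q14095 L655196 q12425, e3 q14096 (flp_b L676582) q16239, e3 q14097 (flp_b L676597) q16240, e3 q14098 (flp_b L676608) q16241, e3 q14099 (flp_b L676623) q16242, e3 q14100 (flp_b L676637) q16243, e3 q14101 L655269 q12429, e3 q14102 L655280 q12431, e3 q14103 (flp_b L676670) q16245, e3 q14104 L655303 q12427, e3 q14105 L655313 q12430, e3 q14106 L655323 q12432, e3 q14107 L655335 q14107, e3 q14108 L655349 q14108, e3 q14109 (flp_b L655373)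 q13757, e3 q14110 L655379 q14110, e3 q14111 L655394 q13752, e3 q14112 L655408 q14112, e3 q14113 L655422 q13744, e3 q14114 L655434 q12552, e3 q14115 L655446 q12553, e3 q14116 L655456 q12554, e3 q14117 L655468 q12555, e3 q14118 L655477 q12556, e3 q14119 L655487 q12557, e3 q14120 L655496 q12558, e3 q14121 L655505 q12559, e3 q14122 L677311 q16299, e3 q14123 L655521 q12561, e3 q14124 L655530 q12562, e3 q14125 (flp_b L655536) q11976, e3 q14126 L655554 q12584, e3 q14127 (flp_b L677375) q16305, e3 q14128 L655577 q12566, e3 q14129 L655589 q12567, e3 q14130 L655597 q12568, e3 q14131 L655606 q12569, e3 q14132 L655617 q12570, e3 q14133 L655625 q12571, e3 q14134 L677491 q16316, e3 q14135 L655643 q12573, e3 q14136 L655649 q12574, e3 q14137 L677539 q16322, e3 q14138 L655672 q12576, e3 q14139 L655683 q12577, e3 q14140 (flp_b L655690) q11985, e3 q14141 (flp_b L677615) q16328, e3 q14142 (flp_b L677629) q16329, e3 q14143 L655720 q12581, trivial⟩ (by decide +kernel)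

theorem ce_b_221 : ∀ r, r < 64 → sm gb (Qf (14144 + r)) = Qf (tab Gen.b (14144 + r)) :=
  edges_tab (sm gb) Qf (tab Gen.b) 14144 [(14144, 12582), (14145, 12583), (14146, 12564), (14147, 11989), (14148, 11990), (14149, 13434), (14150, 16337), (14151, 16338), (14152, 12590), (14153, 12591), (14154, 12592), (14155, 12593), (14156, 12594), (14157, 12595), (14158, 12596), (14159, 12597), (14160, 12598), (14161, 12599), (14162, 12600), (14163, 12601), (14164, 12602), (14165, 12603), (14166, 12604), (14167, 12019), (14168, 16359), (14169, 12021), (14170, 12008), (14171, 16363), (14172, 16364), (14173, 12025), (14174, 12026), (14175, 12011), (14176, 16370), (14177, 12029), (14178, 13755), (14179, 12014), (14180, 16373), (14181, 13700), (14182, 12018), (14183, 16376), (14184, 12020), (14185, 16379), (14186, 16361), (14187, 14187), (14188, 12023), (14189, 12024), (14190, 16383), (14191, 16384), (14192, 16368), (14193, 14193), (14194, 12028), (14195, 16388), (14196, 14196), (14197, 12032), (14198, 16391), (14199, 14199), (14200, 12035),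 (14201, 15994), (14202, 12039), (14203, 12052), (14204, 12053), (14205, 13592), (14206, 14206), (14207, 14207)]
    ⟨e3 q14144 L655726 q12582, e3 q14145 L655736 q12583, e3 q14146 L655751 q12564, e3 q14147 L655759 q11989, e3 q14148 L655772 q11990, e3 q14149 L655785 q13434, e3 q14150 (flp_b L677710) q16337, e3 q14151 (flp_b L677723) q16338, e3 q14152 L655816 q12590, e3 q14153 L655824 q12591, e3 q14154 L655835 q12592, e3 q14155 L655844 q12593, e3 q14156 L655857 q12594, e3 q14157 L655870 q12595, e3 q14158 L655882 q12596, e3 q14159 L655889 q12597, e3 q14160 L655895 q12598, e3 q14161 L655904 q12599, e3 q14162 L655912 q12600, e3 q14163 L655920 q12601, e3 q14164 L655930 q12602, e3 q14165 L655936 q12603, e3 q14166 L655945 q12604, e3 q14167 L655952 q12019, e3 q14168 L677927 q16359, e3 q14169 L655974 q12021, e3 q14170 (flp_b L655984) q12008, e3 q14171 (flp_b L677976) q16363, e3 q14172 (flp_b L677989) q16364, e3 q14173 L656018 q12025, e3 q14174 L656032 q12026, e3 q14175 (flp_b L656039) q12011, e3 q14176 (flp_b L678063) q16370, e3 q14177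 L656064 q12029, e3 q14178 L656081 q13755, e3 q14179 L656085 q12014, e3 q14180 (flp_b L678098) q16373, e3 q14181 L656102 q13700, e3 q14182 L656113 q12018, e3 q14183 (flp_b L678126) q16376, e3 q14184 (flp_b L656127) q12020, e3 q14185 (flp_b L678156) q16379, e3 q14186 (flp_b L677954) q16361, e3 q14187 L656170 q14187, e3 q14188 L656173 q12023, e3 q14189 L656186 q12024, e3 q14190 (flp_b L678205) q16383, e3 q14191 (flp_b L678219) q16384, e3 q14192 (flp_b L678036) q16368, e3 q14193 L656241 q14193, e3 q14194 L656244 q12028, e3 q14195 (flp_b L678266) q16388, e3 q14196 L656264 q14196, e3 q14197 L656271 q12032, e3 q14198 (flp_b L678291) q16391, e3 q14199 L656288 q14199, e3 q14200 L656295 q12035, e3 q14201 (flp_b L673236) q15994, e3 q14202 L656313 q12039, e3 q14203 L656329 q12052, e3 q14204 L656346 q12053, e3 q14205 L656363 q13592, e3 q14206 L656378 q14206, e3 q14207 L656393 q14207, trivial⟩ (by decide +kernel)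

theorem ce_b_222 : ∀ r, r < 64 → sm gb (Qf (14208 + r)) = Qf (tab Gen.b (14208 + r)) :=
  edges_tab (sm gb) Qf (tab Gen.b) 14208 [(14208, 14208), (14209, 14209), (14210, 14210), (14211, 14211), (14212, 14212), (14213, 16039), (14214, 12055), (14215, 12056), (14216, 12172), (14217, 12173), (14218, 16393), (14219, 12054), (14220, 16403), (14221, 16400), (14222, 12062), (14223, 12063), (14224, 12064), (14225, 12065), (14226, 12067), (14227, 12116), (14228, 13070), (14229, 12114), (14230, 16405), (14231, 16406), (14232, 16407), (14233, 16408), (14234, 16409), (14235, 16410), (14236, 13106), (14237, 16040), (14238, 16041), (14239, 14239), (14240, 14240), (14241, 14241), (14242, 14242), (14243, 16030), (14244, 14244), (14245, 14245), (14246, 13614), (14247, 13575), (14248, 16021), (14249, 16022), (14250, 13613), (14251, 12770), (14252, 16023), (14253, 16024), (14254, 16025), (14255, 16443), (14256, 16027), (14257, 16028), (14258, 16029), (14259, 13603), (14260, 16031), (14261, 12124), (14262, 16032), (14263, 16033), (14264, 12125),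 (14265, 12126), (14266, 12099), (14267, 12100), (14268, 12101), (14269, 12102), (14270, 12103), (14271, 12104)]
    ⟨e3 q14208 L656408 q14208, e3 q14209 L656425 q14209, e3 q14210 L656439 q14210, e3 q14211 L656452 q14211, e3 q14212 L656465 q14212, e3 q14213 (flp_b L673874) q16039, e3 q14214 L656489 q12055, e3 q14215 L656502 q12056, e3 q14216 L656519 q12172, e3 q14217 L656535 q12173, e3 q14218 (flp_b L678314) q16393, e3 q14219 (flp_b L656560) q12054, e3 q14220 (flp_b L678464) q16403, e3 q14221 (flp_b L678419) q16400, e3 q14222 L656598 q12062, e3 q14223 L656613 q12063, e3 q14224 L656626 q12064, e3 q14225 L656639 q12065, e3 q14226 L656649 q12067, e3 q14227 L656662 q12116, e3 q14228 L656676 q13070, e3 q14229 L656688 q12114, e3 q14230 (flp_b L678493) q16405, e3 q14231 (flp_b L678510) q16406, e3 q14232 (flp_b L678523) q16407, e3 q14233 (flp_b L678539) q16408, e3 q14234 (flp_b L678554) q16409, e3 q14235 (flp_b L678570) q16410, e3 q14236 L656771 q13106, e3 q14237 (flp_b L673890) q16040, e3 q14238 (flp_b L673906) q16041, e3 q14239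 L656806 q14239, e3 q14240 L656817 q14240, e3 q14241 L656829 q14241, e3 q14242 L656842 q14242, e3 q14243 (flp_b L673729) q16030, e3 q14244 L656866 q14244, e3 q14245 L656877 q14245, e3 q14246 L656889 q13614, e3 q14247 L656905 q13575, e3 q14248 (flp_b L673585) q16021, e3 q14249 (flp_b L673601) q16022, e3 q14250 L656935 q13613, e3 q14251 L656948 q12770, e3 q14252 (flp_b L673618) q16023, e3 q14253 (flp_b L673638) q16024, e3 q14254 (flp_b L673654) q16025, e3 q14255 L679008 q16443, e3 q14256 (flp_b L673688) q16027, e3 q14257 (flp_b L673700) q16028, e3 q14258 (flp_b L673712) q16029, e3 q14259 L657019 q13603, e3 q14260 (flp_b L673743) q16031, e3 q14261 L657041 q12124, e3 q14262 (flp_b L673759) q16032, e3 q14263 (flp_b L673772) q16033, e3 q14264 L657071 q12125, e3 q14265 L657085 q12126, e3 q14266 L657095 q12099, e3 q14267 L657109 q12100, e3 q14268 L657122 q12101, e3 q14269 L657137 q12102, e3 q14270 L657152 q12103, e3 q14271 L657164 q12104, trivial⟩ (by decide +kernel)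

theorem ce_b_223 : ∀ r, r < 64 → sm gb (Qf (14272 + r)) = Qf (tab Gen.b (14272 + r)) :=
  edges_tab (sm gb) Qf (tab Gen.b) 14272 [(14272, 12096), (14273, 16455), (14274, 12107), (14275, 16453), (14276, 16454), (14277, 14277), (14278, 12106), (14279, 16458), (14280, 12115), (14281, 12117), (14282, 12118), (14283, 12119), (14284, 12120), (14285, 12123), (14286, 16415), (14287, 16416), (14288, 16459), (14289, 16460), (14290, 16411), (14291, 16412), (14292, 13624), (14293, 16461), (14294, 16462), (14295, 16479), (14296, 16445), (14297, 16464), (14298, 13625), (14299, 13113), (14300, 13585), (14301, 16450), (14302, 16452), (14303, 14303), (14304, 14304), (14305, 14305), (14306, 16488), (14307, 14307), (14308, 12132), (14309, 16491), (14310, 14310), (14311, 13615), (14312, 13100), (14313, 16042), (14314, 16043), (14315, 16044), (14316, 16501), (14317, 16045), (14318, 16046), (14319, 13767), (14320, 16026), (14321, 16034), (14322, 12784), (14323, 12788), (14324, 13060), (14325, 13074), (14326, 16047), (14327, 12145), (14328, 16515),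 (14329, 16516), (14330, 16049), (14331, 16050), (14332, 16051), (14333, 13083), (14334, 13572), (14335, 16052)]
    ⟨e3 q14272 (flp_b L657172) q12096, e3 q14273 (flp_b L679164) q16455, e3 q14274 L657193 q12107, e3 q14275 (flp_b L679133) q16453, e3 q14276 (flp_b L679151) q16454, e3 q14277 L657242 q14277, e3 q14278 L657245 q12106, e3 q14279 (flp_b L679198) q16458, e3 q14280 L657273 q12115, e3 q14281 L657286 q12117, e3 q14282 L657299 q12118, e3 q14283 L657310 q12119, e3 q14284 L657318 q12120, e3 q14285 L657331 q12123, e3 q14286 (flp_b L678642) q16415, e3 q14287 (flp_b L678659) q16416, e3 q14288 (flp_b L679213) q16459, e3 q14289 (flp_b L679227) q16460, e3 q14290 (flp_b L678584) q16411, e3 q14291 (flp_b L678602) q16412, e3 q14292 L657403 q13624, e3 q14293 (flp_b L679242) q16461, e3 q14294 (flp_b L679254) q16462, e3 q14295 L679434 q16479, e3 q14296 (flp_b L679034) q16445, e3 q14297 (flp_b L679276) q16464, e3 q14298 L657461 q13625, e3 q14299 L657476 q13113, e3 q14300 L657488 q13585, e3 q14301 (flp_b L679095) q16450, e3 q14302 (flp_b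 L679118) q16452, e3 q14303 L657521 q14303, e3 q14304 L657532 q14304, e3 q14305 L657542 q14305, e3 q14306 L679530 q16488, e3 q14307 L657565 q14307, e3 q14308 (flp_b L657573) q12132, e3 q14309 (flp_b L679567) q16491, e3 q14310 L657597 q14310, e3 q14311 L657606 q13615, e3 q14312 L657621 q13100, e3 q14313 (flp_b L673922) q16042, e3 q14314 (flp_b L673941) q16043, e3 q14315 (flp_b L673959) q16044, e3 q14316 L679683 q16501, e3 q14317 (flp_b L673976) q16045, e3 q14318 (flp_b L673993) q16046, e3 q14319 L657676 q13767, e3 q14320 L673682 q16026, e3 q14321 (flp_b L673788) q16034, e3 q14322 L657704 q12784, e3 q14323 L657716 q12788, e3 q14324 L657732 q13060, e3 q14325 L657738 q13074, e3 q14326 (flp_b L674007) q16047, e3 q14327 (flp_b L657752) q12145, e3 q14328 (flp_b L679833) q16515, e3 q14329 (flp_b L679846) q16516, e3 q14330 (flp_b L674041) q16049, e3 q14331 (flp_b L674057) q16050, e3 q14332 (flp_b L674071) q16051, e3 q14333 L657805 q13083, e3 q14334 L657816 q13572, e3 q14335 (flp_b L674081) q16052, trivial⟩ (by decide +kernel)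

theorem ce_b_224 : ∀ r, r < 64 → sm gb (Qf (14336 + r)) = Qf (tab Gen.b (14336 + r)) :=
  edges_tab (sm gb) Qf (tab Gen.b) 14336 [(14336, 16053), (14337, 16054), (14338, 16055), (14339, 16056), (14340, 16057), (14341, 13066), (14342, 12165), (14343, 16484), (14344, 12163), (14345, 16530), (14346, 14346), (14347, 12168), (14348, 12174), (14349, 12197), (14350, 12198), (14351, 16401), (14352, 16533), (14353, 14353), (14354, 14354), (14355, 14355), (14356, 14356), (14357, 14357), (14358, 14358), (14359, 14359), (14360, 14360), (14361, 14361), (14362, 14362), (14363, 14363), (14364, 12195), (14365, 12196), (14366, 16116), (14367, 12200), (14368, 12191), (14369, 16548), (14370, 12203), (14371, 12386), (14372, 12387), (14373, 15992), (14374, 13784), (14375, 16545), (14376, 15980), (14377, 16534), (14378, 12199), (14379, 16556), (14380, 16547), (14381, 14381), (14382, 12202), (14383, 16559), (14384, 12210), (14385, 12211), (14386, 12212), (14387, 12213), (14388, 12214), (14389, 12215), (14390, 12216), (14391, 12217), (14392, 12219),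 (14393, 13193), (14394, 16471), (14395, 16561), (14396, 16140), (14397, 16562), (14398, 16563), (14399, 16564)]
    ⟨e3 q14336 (flp_b L674096) q16053, e3 q14337 (flp_b L674110) q16054, e3 q14338 (flp_b L674125) q16055, e3 q14339 (flp_b L674141) q16056, e3 q14340 (flp_b L674154) q16057, e3 q14341 L657885 q13066, e3 q14342 L657896 q12165, e3 q14343 (flp_b L679485) q16484, e3 q14344 L657918 q12163, e3 q14345 (flp_b L679989) q16530, e3 q14346 L657943 q14346, e3 q14347 L657955 q12168, e3 q14348 L657970 q12174, e3 q14349 L657986 q12197, e3 q14350 L658003 q12198, e3 q14351 (flp_b L678431) q16401, e3 q14352 (flp_b L680026) q16533, e3 q14353 L658040 q14353, e3 q14354 L658056 q14354, e3 q14355 L658072 q14355, e3 q14356 L658082 q14356, e3 q14357 L658100 q14357, e3 q14358 L658112 q14358, e3 q14359 L658125 q14359, e3 q14360 L658137 q14360, e3 q14361 L658144 q14361, e3 q14362 L658155 q14362, e3 q14363 L658167 q14363, e3 q14364 L658179 q12195, e3 q14365 L658195 q12196, e3 q14366 (flp_b L674999) q16116, e3 q14367 L658224 q12200, e3 q14368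 (flp_b L658232) q12191, e3 q14369 (flp_b L680245) q16548, e3 q14370 L658249 q12203, e3 q14371 L658259 q12386, e3 q14372 L658275 q12387, e3 q14373 (flp_b L673208) q15992, e3 q14374 L658302 q13784, e3 q14375 (flp_b L680202) q16545, e3 q14376 (flp_b L673022) q15980, e3 q14377 (flp_b L680044) q16534, e3 q14378 (flp_b L658344) q12199, e3 q14379 (flp_b L680355) q16556, e3 q14380 (flp_b L680233) q16547, e3 q14381 L658378 q14381, e3 q14382 L658381 q12202, e3 q14383 (flp_b L680393) q16559, e3 q14384 L658400 q12210, e3 q14385 L658415 q12211, e3 q14386 L658428 q12212, e3 q14387 L658443 q12213, e3 q14388 L658454 q12214, e3 q14389 L658465 q12215, e3 q14390 L658473 q12216, e3 q14391 L658486 q12217, e3 q14392 L658497 q12219, e3 q14393 L658510 q13193, e3 q14394 (flp_b L679344) q16471, e3 q14395 (flp_b L680422) q16561, e3 q14396 (flp_b L675327) q16140, e3 q14397 (flp_b L680435) q16562, e3 q14398 (flp_b L680450) q16563, e3 q14399 (flp_b L680467) q16564, trivial⟩ (by decide +kernel)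

theorem ce_b_225 : ∀ r, r < 64 → sm gb (Qf (14400 + r)) = Qf (tab Gen.b (14400 + r)) :=
  edges_tab (sm gb) Qf (tab Gen.b) 14400 [(14400, 16565), (14401, 16566), (14402, 16567), (14403, 16587), (14404, 16110), (14405, 16568), (14406, 16569), (14407, 16113), (14408, 16117), (14409, 16114), (14410, 16118), (14411, 14411), (14412, 14412), (14413, 14413), (14414, 14414), (14415, 14415), (14416, 16079), (14417, 14417), (14418, 12228), (14419, 16601), (14420, 14420), (14421, 12927), (14422, 16058), (14423, 16059), (14424, 13629), (14425, 16060), (14426, 16061), (14427, 16612), (14428, 16063), (14429, 16064), (14430, 16065), (14431, 16066), (14432, 16067), (14433, 16068), (14434, 16069), (14435, 16070), (14436, 16625), (14437, 16072), (14438, 16073), (14439, 12241), (14440, 16631), (14441, 16632), (14442, 12300), (14443, 16077), (14444, 16078), (14445, 16080), (14446, 16081), (14447, 16082), (14448, 16083), (14449, 12304), (14450, 12306), (14451, 16084), (14452, 12305), (14453, 12307), (14454, 12265), (14455, 12266), (14456, 12267),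 (14457, 16650), (14458, 12269), (14459, 12270), (14460, 12272), (14461, 12260), (14462, 16656), (14463, 12275)]
    ⟨e3 q14400 (flp_b L680480) q16565, e3 q14401 (flp_b L680491) q16566, e3 q14402 (flp_b L680499) q16567, e3 q14403 L680733 q16587, e3 q14404 (flp_b L674911) q16110, e3 q14405 (flp_b L680512) q16568, e3 q14406 (flp_b L680522) q16569, e3 q14407 (flp_b L674953) q16113, e3 q14408 (flp_b L675016) q16117, e3 q14409 (flp_b L674968) q16114, e3 q14410 (flp_b L675028) q16118, e3 q14411 L658683 q14411, e3 q14412 L658695 q14412, e3 q14413 L658706 q14413, e3 q14414 L658718 q14414, e3 q14415 L658731 q14415, e3 q14416 (flp_b L674448) q16079, e3 q14417 L658753 q14417, e3 q14418 (flp_b L658758) q12228, e3 q14419 (flp_b L680900) q16601, e3 q14420 L658776 q14420, e3 q14421 L658786 q12927, e3 q14422 (flp_b L674169) q16058, e3 q14423 (flp_b L674189) q16059, e3 q14424 L658814 q13629, e3 q14425 (flp_b L674205) q16060, e3 q14426 (flp_b L674219) q16061, e3 q14427 L681004 q16612, e3 q14428 (flp_b L674250) q16063, e3 q14429 (flp_b L674261)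 q16064, e3 q14430 (flp_b L674273) q16065, e3 q14431 (flp_b L674293) q16066, e3 q14432 (flp_b L674309) q16067, e3 q14433 (flp_b L674319) q16068, e3 q14434 (flp_b L674335) q16069, e3 q14435 (flp_b L674349) q16070, e3 q14436 L681116 q16625, e3 q14437 (flp_b L674377) q16072, e3 q14438 (flp_b L674387) q16073, e3 q14439 (flp_b L658924) q12241, e3 q14440 (flp_b L681156) q16631, e3 q14441 (flp_b L681160) q16632, e3 q14442 L658944 q12300, e3 q14443 (flp_b L674426) q16077, e3 q14444 (flp_b L674438) q16078, e3 q14445 (flp_b L674460) q16080, e3 q14446 (flp_b L674477) q16081, e3 q14447 (flp_b L674489) q16082, e3 q14448 (flp_b L674500) q16083, e3 q14449 L658994 q12304, e3 q14450 L659005 q12306, e3 q14451 (flp_b L674516) q16084, e3 q14452 L659020 q12305, e3 q14453 L659034 q12307, e3 q14454 L659041 q12265, e3 q14455 L659055 q12266, e3 q14456 L659066 q12267, e3 q14457 L681343 q16650, e3 q14458 L659087 q12269, e3 q14459 L659098 q12270, e3 q14460 L659108 q12272, e3 q14461 (flp_b L659114) q12260, e3 q14462 (flp_b L681413) q16656, e3 q14463 L659129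 q12275, trivial⟩ (by decide +kernel)

theorem ce_b_226 : ∀ r, r < 64 → sm gb (Qf (14464 + r)) = Qf (tab Gen.b (14464 + r)) :=
  edges_tab (sm gb) Qf (tab Gen.b) 14464 [(14464, 16524), (14465, 12263), (14466, 16659), (14467, 16647), (14468, 16648), (14469, 16649), (14470, 12268), (14471, 16664), (14472, 16665), (14473, 16653), (14474, 16654), (14475, 12271), (14476, 16669), (14477, 16655), (14478, 14478), (14479, 12274), (14480, 16671), (14481, 14481), (14482, 12278), (14483, 16673), (14484, 14484), (14485, 12289), (14486, 12290), (14487, 12291), (14488, 12292), (14489, 12293), (14490, 12294), (14491, 12295), (14492, 12296), (14493, 12297), (14494, 12298), (14495, 16686), (14496, 12301), (14497, 12303), (14498, 13296), (14499, 16578), (14500, 16674), (14501, 16675), (14502, 16676), (14503, 16677), (14504, 16699), (14505, 16615), (14506, 16678), (14507, 16570), (14508, 16679), (14509, 16680), (14510, 16681), (14511, 16682), (14512, 16683), (14513, 16713), (14514, 16636), (14515, 16685), (14516, 12299), (14517, 16720), (14518,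 16721), (14519, 16637), (14520, 16688), (14521, 13268), (14522, 13648), (14523, 16640), (14524, 16643), (14525, 16646), (14526, 16644), (14527, 14527)]
    ⟨e3 q14464 (flp_b L679922) q16524, e3 q14465 L659145 q12263, e3 q14466 (flp_b L681444) q16659, e3 q14467 (flp_b L681300) q16647, e3 q14468 (flp_b L681318) q16648, e3 q14469 (flp_b L681333) q16649, e3 q14470 (flp_b L659202) q12268, e3 q14471 (flp_b L681503) q16664, e3 q14472 (flp_b L681516) q16665, e3 q14473 (flp_b L681379) q16653, e3 q14474 (flp_b L681391) q16654, e3 q14475 (flp_b L659259) q12271, e3 q14476 (flp_b L681565) q16669, e3 q14477 (flp_b L681402) q16655, e3 q14478 L659302 q14478, e3 q14479 L659305 q12274, e3 q14480 (flp_b L681586) q16671, e3 q14481 L659325 q14481, e3 q14482 L659330 q12278, e3 q14483 (flp_b L681609) q16673, e3 q14484 L659355 q14484, e3 q14485 L659370 q12289, e3 q14486 L659384 q12290, e3 q14487 L659393 q12291, e3 q14488 L659404 q12292, e3 q14489 L659416 q12293, e3 q14490 L659425 q12294, e3 q14491 L659434 q12295, e3 q14492 L659447 q12296, e3 q14493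 L659458 q12297, e3 q14494 L659464 q12298, e3 q14495 L681756 q16686, e3 q14496 L659482 q12301, e3 q14497 L659492 q12303, e3 q14498 L659507 q13296, e3 q14499 (flp_b L680629) q16578, e3 q14500 (flp_b L681626) q16674, e3 q14501 (flp_b L681640) q16675, e3 q14502 (flp_b L681651) q16676, e3 q14503 (flp_b L681663) q16677, e3 q14504 L681880 q16699, e3 q14505 (flp_b L681034) q16615, e3 q14506 (flp_b L681674) q16678, e3 q14507 (flp_b L680537) q16570, e3 q14508 (flp_b L681686) q16679, e3 q14509 (flp_b L681697) q16680, e3 q14510 (flp_b L681705) q16681, e3 q14511 (flp_b L681718) q16682, e3 q14512 (flp_b L681730) q16683, e3 q14513 L682019 q16713, e3 q14514 (flp_b L681192) q16636, e3 q14515 (flp_b L681750) q16685, e3 q14516 (flp_b L659665) q12299, e3 q14517 (flp_b L682084) q16720, e3 q14518 (flp_b L682091) q16721, e3 q14519 (flp_b L681202) q16637, e3 q14520 (flp_b L681778) q16688, e3 q14521 L659706 q13268, e3 q14522 L659718 q13648, e3 q14523 (flp_b L681231) q16640, e3 q14524 (flp_b L681259) q16643, e3 q14525 (flp_b L681287) q16646, e3 q14526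 (flp_b L681271) q16644, e3 q14527 L659768 q14527, trivial⟩ (by decide +kernel)

theorem ce_b_227 : ∀ r, r < 64 → sm gb (Qf (14528 + r)) = Qf (tab Gen.b (14528 + r)) :=
  edges_tab (sm gb) Qf (tab Gen.b) 14528 [(14528, 14528), (14529, 14529), (14530, 16735), (14531, 14531), (14532, 14532), (14533, 16739), (14534, 14534), (14535, 12314), (14536, 16743), (14537, 14537), (14538, 12365), (14539, 12317), (14540, 16746), (14541, 13783), (14542, 13481), (14543, 13768), (14544, 16119), (14545, 16120), (14546, 16121), (14547, 16122), (14548, 16123), (14549, 16760), (14550, 16124), (14551, 16125), (14552, 12325), (14553, 13136), (14554, 16766), (14555, 16126), (14556, 16127), (14557, 16128), (14558, 16086), (14559, 16129), (14560, 16130), (14561, 16777), (14562, 16132), (14563, 16133), (14564, 13161), (14565, 13199), (14566, 16134), (14567, 12334), (14568, 16789), (14569, 16790), (14570, 16136), (14571, 16137), (14572, 16138), (14573, 16719), (14574, 12338), (14575, 12339), (14576, 16575), (14577, 16798), (14578, 16799), (14579, 16143),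 (14580, 16144), (14581, 16145), (14582, 13207), (14583, 13211), (14584, 13607), (14585, 16146), (14586, 16147), (14587, 16148), (14588, 16149), (14589, 16150), (14590, 16151), (14591, 16152)]
    ⟨e3 q14528 L659779 q14528, e3 q14529 L659789 q14529, e3 q14530 L682225 q16735, e3 q14531 L659809 q14531, e3 q14532 L659820 q14532, e3 q14533 L682267 q16739, e3 q14534 L659841 q14534, e3 q14535 (flp_b L659849) q12314, e3 q14536 (flp_b L682313) q16743, e3 q14537 L659869 q14537, e3 q14538 L659881 q12365, e3 q14539 L659885 q12317, e3 q14540 (flp_b L682341) q16746, e3 q14541 L659903 q13783, e3 q14542 L659915 q13481, e3 q14543 L659925 q13768, e3 q14544 (flp_b L675043) q16119, e3 q14545 (flp_b L675059) q16120, e3 q14546 (flp_b L675073) q16121, e3 q14547 (flp_b L675087) q16122, e3 q14548 (flp_b L675103) q16123, e3 q14549 L682465 q16760, e3 q14550 (flp_b L675118) q16124, e3 q14551 (flp_b L675133) q16125, e3 q14552 (flp_b L659990) q12325, e3 q14553 L660005 q13136, e3 q14554 (flp_b L682521) q16766, e3 q14555 (flp_b L675145) q16126, e3 q14556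 (flp_b L675160) q16127, e3 q14557 (flp_b L675171) q16128, e3 q14558 (flp_b L674556) q16086, e3 q14559 (flp_b L675183) q16129, e3 q14560 (flp_b L675195) q16130, e3 q14561 L682608 q16777, e3 q14562 (flp_b L675223) q16132, e3 q14563 (flp_b L675231) q16133, e3 q14564 L660092 q13161, e3 q14565 L660098 q13199, e3 q14566 (flp_b L675243) q16134, e3 q14567 (flp_b L660112) q12334, e3 q14568 (flp_b L682721) q16789, e3 q14569 (flp_b L682734) q16790, e3 q14570 (flp_b L675275) q16136, e3 q14571 (flp_b L675287) q16137, e3 q14572 (flp_b L675301) q16138, e3 q14573 (flp_b L682076) q16719, e3 q14574 L660169 q12338, e3 q14575 L660178 q12339, e3 q14576 (flp_b L680599) q16575, e3 q14577 (flp_b L682798) q16798, e3 q14578 (flp_b L682807) q16799, e3 q14579 (flp_b L675369) q16143, e3 q14580 (flp_b L675377) q16144, e3 q14581 (flp_b L675387) q16145, e3 q14582 L660224 q13207, e3 q14583 L660234 q13211, e3 q14584 L660245 q13607, e3 q14585 (flp_b L675395) q16146, e3 q14586 (flp_b L675408) q16147, e3 q14587 (flp_b L675422) q16148, e3 q14588 (flp_b L675437)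 q16149, e3 q14589 (flp_b L675448) q16150, e3 q14590 (flp_b L675458) q16151, e3 q14591 (flp_b L675469) q16152, trivial⟩ (by decide +kernel)

theorem ce_b_228 : ∀ r, r < 64 → sm gb (Qf (14592 + r)) = Qf (tab Gen.b (14592 + r)) :=
  edges_tab (sm gb) Qf (tab Gen.b) 14592 [(14592, 16153), (14593, 16154), (14594, 12368), (14595, 13173), (14596, 12369), (14597, 12370), (14598, 12357), (14599, 16823), (14600, 16824), (14601, 12374), (14602, 12375), (14603, 13176), (14604, 12376), (14605, 16742), (14606, 12363), (14607, 16831), (14608, 16745), (14609, 12367), (14610, 16834), (14611, 16820), (14612, 16821), (14613, 14613), (14614, 12372), (14615, 12373), (14616, 16839), (14617, 16840), (14618, 16828), (14619, 14619), (14620, 12379), (14621, 14621), (14622, 12382), (14623, 12389), (14624, 12390), (14625, 12660), (14626, 16550), (14627, 12498), (14628, 16222), (14629, 14629), (14630, 14630), (14631, 14631), (14632, 14632), (14633, 14633), (14634, 14634), (14635, 14635), (14636, 14636), (14637, 14637), (14638, 14638), (14639, 14639),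 (14640, 13785), (14641, 12420), (14642, 12421), (14643, 12422), (14644, 12423), (14645, 12424), (14646, 12718), (14647, 12426), (14648, 12428), (14649, 16689), (14650, 16854), (14651, 16855), (14652, 16856), (14653, 16857), (14654, 16858), (14655, 16270)]
    ⟨e3 q14592 (flp_b L675474) q16153, e3 q14593 (flp_b L675488) q16154, e3 q14594 L660329 q12368, e3 q14595 L660344 q13173, e3 q14596 L660348 q12369, e3 q14597 L660358 q12370, e3 q14598 (flp_b L660366) q12357, e3 q14599 (flp_b L682999) q16823, e3 q14600 (flp_b L683011) q16824, e3 q14601 L660395 q12374, e3 q14602 L660406 q12375, e3 q14603 L660415 q13176, e3 q14604 L660426 q12376, e3 q14605 (flp_b L682309) q16742, e3 q14606 L660446 q12363, e3 q14607 (flp_b L683081) q16831, e3 q14608 (flp_b L682333) q16745, e3 q14609 L660474 q12367, e3 q14610 (flp_b L683108) q16834, e3 q14611 (flp_b L682968) q16820, e3 q14612 (flp_b L682979) q16821, e3 q14613 L660520 q14613, e3 q14614 L660523 q12372, e3 q14615 L660535 q12373, e3 q14616 (flp_b L683156) q16839, e3 q14617 (flp_b L683169) q16840,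 e3 q14618 (flp_b L683048) q16828, e3 q14619 L660586 q14619, e3 q14620 L660596 q12379, e3 q14621 L660610 q14621, e3 q14622 L660617 q12382, e3 q14623 L660633 q12389, e3 q14624 L660647 q12390, e3 q14625 L660656 q12660, e3 q14626 (flp_b L680273) q16550, e3 q14627 L660681 q12498, e3 q14628 (flp_b L676351) q16222, e3 q14629 L660707 q14629, e3 q14630 L660723 q14630, e3 q14631 L660735 q14631, e3 q14632 L660745 q14632, e3 q14633 L660758 q14633, e3 q14634 L660769 q14634, e3 q14635 L660783 q14635, e3 q14636 L660795 q14636, e3 q14637 L660806 q14637, e3 q14638 L660818 q14638, e3 q14639 L660827 q14639, e3 q14640 L660835 q13785, e3 q14641 L660852 q12420, e3 q14642 L660865 q12421, e3 q14643 L660876 q12422, e3 q14644 L660888 q12423, e3 q14645 L660898 q12424, e3 q14646 L660918 q12718, e3 q14647 L660925 q12426, e3 q14648 L660936 q12428, e3 q14649 (flp_b L681786) q16689, e3 q14650 (flp_b L683354) q16854, e3 q14651 (flp_b L683365) q16855, e3 q14652 (flp_b L683377) q16856, e3 q14653 (flp_b L683390) q16857, e3 q14654 (flp_b L683401) q16858, e3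 q14655 (flp_b L676968) q16270, trivial⟩ (by decide +kernel)

theorem ce_b_229 : ∀ r, r < 64 → sm gb (Qf (14656 + r)) = Qf (tab Gen.b (14656 + r)) :=
  edges_tab (sm gb) Qf (tab Gen.b) 14656 [(14656, 16860), (14657, 16271), (14658, 16862), (14659, 16276), (14660, 16280), (14661, 16273), (14662, 16277), (14663, 16281), (14664, 16278), (14665, 14665), (14666, 14666), (14667, 16156), (14668, 16157), (14669, 16158), (14670, 16159), (14671, 16160), (14672, 16161), (14673, 16162), (14674, 16163), (14675, 16165), (14676, 16166), (14677, 16168), (14678, 16169), (14679, 16170), (14680, 16171), (14681, 16172), (14682, 16899), (14683, 16174), (14684, 16175), (14685, 13774), (14686, 16177), (14687, 16178), (14688, 12451), (14689, 12923), (14690, 16909), (14691, 16182), (14692, 16183), (14693, 16184), (14694, 12456), (14695, 12926), (14696, 16916), (14697, 12527), (14698, 12532), (14699, 16188), (14700, 16189), (14701, 16190), (14702, 16191), (14703, 12536), (14704, 16192), (14705, 16193), (14706, 12534), (14707, 12537), (14708, 12539),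 (14709, 16194), (14710, 12535), (14711, 12538), (14712, 12482), (14713, 12483), (14714, 13378), (14715, 12485), (14716, 12486), (14717, 12474), (14718, 13380), (14719, 16938)]
    ⟨e3 q14656 (flp_b L683428) q16860, e3 q14657 (flp_b L676982) q16271, e3 q14658 (flp_b L683452) q16862, e3 q14659 (flp_b L677044) q16276, e3 q14660 (flp_b L677092) q16280, e3 q14661 (flp_b L677006) q16273, e3 q14662 (flp_b L677056) q16277, e3 q14663 (flp_b L677103) q16281, e3 q14664 (flp_b L677068) q16278, e3 q14665 L661114 q14665, e3 q14666 L661126 q14666, e3 q14667 (flp_b L675521) q16156, e3 q14668 (flp_b L675537) q16157, e3 q14669 (flp_b L675549) q16158, e3 q14670 (flp_b L675565) q16159, e3 q14671 (flp_b L675576) q16160, e3 q14672 (flp_b L675588) q16161, e3 q14673 (flp_b L675601) q16162, e3 q14674 (flp_b L675612) q16163, e3 q14675 (flp_b L675638) q16165, e3 q14676 (flp_b L675651) q16166, e3 q14677 (flp_b L675675) q16168, e3 q14678 (flp_b L675689) q16169, e3 q14679 (flp_b L675702) q16170, e3 q14680 (flp_b L675717) q16171, e3 q14681 (flp_b L675727)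 q16172, e3 q14682 L683843 q16899, e3 q14683 (flp_b L675751) q16174, e3 q14684 (flp_b L675759) q16175, e3 q14685 (flp_b L661331) q13774, e3 q14686 (flp_b L675782) q16177, e3 q14687 (flp_b L675793) q16178, e3 q14688 (flp_b L661351) q12451, e3 q14689 L661369 q12923, e3 q14690 (flp_b L683942) q16909, e3 q14691 (flp_b L675843) q16182, e3 q14692 (flp_b L675853) q16183, e3 q14693 (flp_b L675865) q16184, e3 q14694 L661413 q12456, e3 q14695 L661426 q12926, e3 q14696 (flp_b L684018) q16916, e3 q14697 L661450 q12527, e3 q14698 L661458 q12532, e3 q14699 (flp_b L675913) q16188, e3 q14700 (flp_b L675924) q16189, e3 q14701 (flp_b L675934) q16190, e3 q14702 (flp_b L675946) q16191, e3 q14703 L661498 q12536, e3 q14704 (flp_b L675961) q16192, e3 q14705 (flp_b L675972) q16193, e3 q14706 L661518 q12534, e3 q14707 L661528 q12537, e3 q14708 L661536 q12539, e3 q14709 (flp_b L675984) q16194, e3 q14710 L661554 q12535, e3 q14711 L661567 q12538, e3 q14712 L661576 q12482, e3 q14713 L661589 q12483, e3 q14714 L661608 q13378, e3 q14715 L661616 q12485, e3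 q14716 L661632 q12486, e3 q14717 (flp_b L661642) q12474, e3 q14718 L661662 q13380, e3 q14719 (flp_b L684262) q16938, trivial⟩ (by decide +kernel)

theorem ce_b_230 : ∀ r, r < 64 → sm gb (Qf (14720 + r)) = Qf (tab Gen.b (14720 + r)) :=
  edges_tab (sm gb) Qf (tab Gen.b) 14720 [(14720, 12490), (14721, 13775), (14722, 12480), (14723, 16935), (14724, 13530), (14725, 16937), (14726, 13531), (14727, 12489), (14728, 12495), (14729, 16844), (14730, 12512), (14731, 12513), (14732, 12514), (14733, 12515), (14734, 12516), (14735, 12517), (14736, 12519), (14737, 12520), (14738, 12521), (14739, 12522), (14740, 12523), (14741, 12524), (14742, 12525), (14743, 16253), (14744, 12528), (14745, 16256), (14746, 12533), (14747, 13519), (14748, 16934), (14749, 13522), (14750, 16941), (14751, 16942), (14752, 16943), (14753, 16944), (14754, 16945), (14755, 16235), (14756, 16946), (14757, 16238), (14758, 16947), (14759, 16948), (14760, 16949), (14761, 16950), (14762, 16978), (14763, 16952), (14764, 16953), (14765, 13750), (14766, 16918), (14767,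 16955), (14768, 12526), (14769, 16252), (14770, 16989), (14771, 16913), (14772, 16919), (14773, 16957), (14774, 12531), (14775, 16255), (14776, 16995), (14777, 16920), (14778, 16925), (14779, 16929), (14780, 16933), (14781, 16926), (14782, 16930), (14783, 16931)]
    ⟨e3 q14720 L661690 q12490, e3 q14721 L661704 q13775, e3 q14722 L661719 q12480, e3 q14723 (flp_b L684211) q16935, e3 q14724 L661750 q13530, e3 q14725 (flp_b L684244) q16937, e3 q14726 L661782 q13531, e3 q14727 L661802 q12489, e3 q14728 L661816 q12495, e3 q14729 (flp_b L683223) q16844, e3 q14730 L661841 q12512, e3 q14731 L661856 q12513, e3 q14732 L661872 q12514, e3 q14733 L661882 q12515, e3 q14734 L661892 q12516, e3 q14735 L661900 q12517, e3 q14736 L661911 q12519, e3 q14737 L661920 q12520, e3 q14738 L661930 q12521, e3 q14739 L661939 q12522, e3 q14740 L661947 q12523, e3 q14741 L661956 q12524, e3 q14742 L661963 q12525, e3 q14743 (flp_b L676765) q16253, e3 q14744 L661978 q12528, e3 q14745 (flp_b L676802) q16256, e3 q14746 L661994 q12533, e3 q14747 L662003 q13519,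 e3 q14748 (flp_b L684205) q16934, e3 q14749 L662029 q13522, e3 q14750 (flp_b L684310) q16941, e3 q14751 (flp_b L684324) q16942, e3 q14752 (flp_b L684334) q16943, e3 q14753 (flp_b L684346) q16944, e3 q14754 (flp_b L684357) q16945, e3 q14755 (flp_b L676533) q16235, e3 q14756 (flp_b L684369) q16946, e3 q14757 (flp_b L676568) q16238, e3 q14758 (flp_b L684377) q16947, e3 q14759 (flp_b L684388) q16948, e3 q14760 (flp_b L684398) q16949, e3 q14761 (flp_b L684406) q16950, e3 q14762 L684687 q16978, e3 q14763 (flp_b L684422) q16952, e3 q14764 (flp_b L684428) q16953, e3 q14765 (flp_b L662211) q13750, e3 q14766 (flp_b L684048) q16918, e3 q14767 (flp_b L684448) q16955, e3 q14768 (flp_b L662231) q12526, e3 q14769 (flp_b L676756) q16252, e3 q14770 (flp_b L684798) q16989, e3 q14771 (flp_b L683996) q16913, e3 q14772 (flp_b L684057) q16919, e3 q14773 (flp_b L684464) q16957, e3 q14774 L662286 q12531, e3 q14775 (flp_b L676788) q16255, e3 q14776 (flp_b L684856) q16995, e3 q14777 (flp_b L684067) q16920, e3 q14778 (flp_b L684113) q16925, e3 q14779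 (flp_b L684146) q16929, e3 q14780 (flp_b L684182) q16933, e3 q14781 (flp_b L684124) q16926, e3 q14782 (flp_b L684157) q16930, e3 q14783 (flp_b L684166) q16931, trivial⟩ (by decide +kernel)

theorem ce_b_231 : ∀ r, r < 64 → sm gb (Qf (14784 + r)) = Qf (tab Gen.b (14784 + r)) :=
  edges_tab (sm gb) Qf (tab Gen.b) 14784 [(14784, 14784), (14785, 14785), (14786, 13565), (14787, 14787), (14788, 14788), (14789, 12543), (14790, 17011), (14791, 17012), (14792, 14792), (14793, 13756), (14794, 12618), (14795, 12549), (14796, 12621), (14797, 13782), (14798, 16287), (14799, 16288), (14800, 16289), (14801, 16290), (14802, 16291), (14803, 16292), (14804, 17027), (14805, 16294), (14806, 16295), (14807, 17033), (14808, 16297), (14809, 16298), (14810, 12560), (14811, 16327), (14812, 17039), (14813, 16302), (14814, 16303), (14815, 16304), (14816, 12565), (14817, 12990), (14818, 16336), (14819, 17046), (14820, 16308), (14821, 16309), (14822, 16310), (14823, 16311), (14824, 16312), (14825, 17057), (14826, 16314), (14827, 16315), (14828, 12572),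 (14829, 17064), (14830, 17065), (14831, 16319), (14832, 16320), (14833, 16321), (14834, 12575), (14835, 17074), (14836, 17075), (14837, 16324), (14838, 16325), (14839, 16326), (14840, 16300), (14841, 12579), (14842, 12580), (14843, 17083), (14844, 17084), (14845, 17085), (14846, 16333), (14847, 16334)]
    ⟨e3 q14784 L662377 q14784, e3 q14785 L662389 q14785, e3 q14786 (flp_b L662405) q13565, e3 q14787 L662411 q14787, e3 q14788 L662421 q14788, e3 q14789 (flp_b L662430) q12543, e3 q14790 (flp_b L685026) q17011, e3 q14791 (flp_b L685038) q17012, e3 q14792 L662468 q14792, e3 q14793 L662480 q13756, e3 q14794 L662500 q12618, e3 q14795 L662504 q12549, e3 q14796 L662518 q12621, e3 q14797 L662531 q13782, e3 q14798 (flp_b L677189) q16287, e3 q14799 (flp_b L677201) q16288, e3 q14800 (flp_b L677210) q16289, e3 q14801 (flp_b L677220) q16290, e3 q14802 (flp_b L677232) q16291, e3 q14803 (flp_b L677242) q16292, e3 q14804 L685177 q17027, e3 q14805 (flp_b L677260) q16294, e3 q14806 (flp_b L677268) q16295, e3 q14807 L685229 q17033, e3 q14808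 (flp_b L677292) q16297, e3 q14809 (flp_b L677304) q16298, e3 q14810 (flp_b L662643) q12560, e3 q14811 (flp_b L677607) q16327, e3 q14812 (flp_b L685288) q17039, e3 q14813 (flp_b L677349) q16302, e3 q14814 (flp_b L677356) q16303, e3 q14815 (flp_b L677365) q16304, e3 q14816 L662693 q12565, e3 q14817 L662704 q12990, e3 q14818 (flp_b L677695) q16336, e3 q14819 (flp_b L685350) q17046, e3 q14820 (flp_b L677413) q16308, e3 q14821 (flp_b L677426) q16309, e3 q14822 (flp_b L677438) q16310, e3 q14823 (flp_b L677447) q16311, e3 q14824 (flp_b L677456) q16312, e3 q14825 L685453 q17057, e3 q14826 (flp_b L677477) q16314, e3 q14827 (flp_b L677483) q16315, e3 q14828 (flp_b L662797) q12572, e3 q14829 (flp_b L685505) q17064, e3 q14830 (flp_b L685511) q17065, e3 q14831 (flp_b L677519) q16319, e3 q14832 (flp_b L677525) q16320, e3 q14833 (flp_b L677533) q16321, e3 q14834 (flp_b L662837) q12575, e3 q14835 (flp_b L685578) q17074, e3 q14836 (flp_b L685588) q17075, e3 q14837 (flp_b L677567) q16324, e3 q14838 (flp_b L677579) q16325, e3 q14839 (flp_b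 L677592) q16326, e3 q14840 (flp_b L677328) q16300, e3 q14841 L662889 q12579, e3 q14842 L662896 q12580, e3 q14843 (flp_b L685649) q17083, e3 q14844 (flp_b L685654) q17084, e3 q14845 (flp_b L685663) q17085, e3 q14846 (flp_b L677669) q16333, e3 q14847 (flp_b L677677) q16334, trivial⟩ (by decide +kernel)

theorem ce_b_232 : ∀ r, r < 64 → sm gb (Qf (14848 + r)) = Qf (tab Gen.b (14848 + r)) :=
  edges_tab (sm gb) Qf (tab Gen.b) 14848 [(14848, 16335), (14849, 16306), (14850, 12587), (14851, 12588), (14852, 12589), (14853, 17095), (14854, 17096), (14855, 17097), (14856, 17098), (14857, 16343), (14858, 16344), (14859, 16345), (14860, 16346), (14861, 16347), (14862, 16348), (14863, 16349), (14864, 16350), (14865, 16351), (14866, 16352), (14867, 16353), (14868, 16354), (14869, 16355), (14870, 16356), (14871, 17119), (14872, 16358), (14873, 17120), (14874, 12625), (14875, 12626), (14876, 12607), (14877, 17126), (14878, 17127), (14879, 12630), (14880, 12631), (14881, 17010), (14882, 12611), (14883, 12612), (14884, 17134), (14885, 17135),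 (14886, 17136), (14887, 12638), (14888, 13753), (14889, 12616), (14890, 17143), (14891, 17015), (14892, 12620), (14893, 17146), (14894, 13557), (14895, 12623), (14896, 16861), (14897, 12624), (14898, 17131), (14899, 17123), (14900, 17124), (14901, 14901), (14902, 12628), (14903, 12629), (14904, 14904), (14905, 14905), (14906, 12635), (14907, 12636), (14908, 12637), (14909, 17151), (14910, 17152), (14911, 17141)]
    ⟨e3 q14848 (flp_b L677685) q16335, e3 q14849 (flp_b L677389) q16306, e3 q14850 L662953 q12587, e3 q14851 L662965 q12588, e3 q14852 L662973 q12589, e3 q14853 (flp_b L685736) q17095, e3 q14854 (flp_b L685749) q17096, e3 q14855 (flp_b L685761) q17097, e3 q14856 (flp_b L685768) q17098, e3 q14857 (flp_b L677779) q16343, e3 q14858 (flp_b L677788) q16344, e3 q14859 (flp_b L677798) q16345, e3 q14860 (flp_b L677807) q16346, e3 q14861 (flp_b L677816) q16347, e3 q14862 (flp_b L677828) q16348, e3 q14863 (flp_b L677842) q16349, e3 q14864 (flp_b L677854) q16350, e3 q14865 (flp_b L677861) q16351, e3 q14866 (flp_b L677869) q16352,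 e3 q14867 (flp_b L677876) q16353, e3 q14868 (flp_b L677883) q16354, e3 q14869 (flp_b L677892) q16355, e3 q14870 (flp_b L677901) q16356, e3 q14871 L685923 q17119, e3 q14872 (flp_b L677917) q16358, e3 q14873 L685930 q17120, e3 q14874 L663136 q12625, e3 q14875 L663148 q12626, e3 q14876 (flp_b L663157) q12607, e3 q14877 (flp_b L686019) q17126, e3 q14878 (flp_b L686032) q17127, e3 q14879 L663186 q12630, e3 q14880 L663197 q12631, e3 q14881 (flp_b L685022) q17010, e3 q14882 L663219 q12611, e3 q14883 L663230 q12612, e3 q14884 (flp_b L686106) q17134, e3 q14885 (flp_b L686113) q17135, e3 q14886 (flp_b L686126) q17136, e3 q14887 L663268 q12638, e3 q14888 L663287 q13753, e3 q14889 L663291 q12616, e3 q14890 (flp_b L686206) q17143, e3 q14891 (flp_b L685073) q17015, e3 q14892 L663322 q12620, e3 q14893 (flp_b L686242) q17146, e3 q14894 L663345 q13557, e3 q14895 L663357 q12623, e3 q14896 (flp_b L683438) q16861, e3 q14897 (flp_b L663374) q12624, e3 q14898 (flp_b L686070) q17131, e3 q14899 (flp_b L685970) q17123, e3 q14900 (flp_b L685986) q17124,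 e3 q14901 L663442 q14901, e3 q14902 L663449 q12628, e3 q14903 L663462 q12629, e3 q14904 L663472 q14904, e3 q14905 L663486 q14905, e3 q14906 L663495 q12635, e3 q14907 L663508 q12636, e3 q14908 L663519 q12637, e3 q14909 (flp_b L686305) q17151, e3 q14910 (flp_b L686320) q17152, e3 q14911 (flp_b L686183) q17141, trivial⟩ (by decide +kernel)

theorem ce_b_233 : ∀ r, r < 64 → sm gb (Qf (14912 + r)) = Qf (tab Gen.b (14912 + r)) :=
  edges_tab (sm gb) Qf (tab Gen.b) 14912 [(14912, 14912), (14913, 12641), (14914, 17154), (14915, 14915), (14916, 12644), (14917, 15993), (14918, 14918), (14919, 14919), (14920, 14920), (14921, 14921), (14922, 14922), (14923, 14923), (14924, 13034), (14925, 13027), (14926, 13364), (14927, 13358), (14928, 12706), (14929, 14929), (14930, 13563), (14931, 12703), (14932, 12671), (14933, 13560), (14934, 14934), (14935, 14935), (14936, 14936), (14937, 17168), (14938, 14938), (14939, 14939), (14940, 14940), (14941, 17173), (14942, 14942), (14943, 12680), (14944, 17176), (14945, 17177), (14946, 14946), (14947,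 12683), (14948, 17180), (14949, 13568), (14950, 12686), (14951, 13506), (14952, 17163), (14953, 12690), (14954, 13534), (14955, 12692), (14956, 17162), (14957, 12695), (14958, 12700), (14959, 12699), (14960, 13537), (14961, 13532), (14962, 17121), (14963, 13561), (14964, 12708), (14965, 17004), (14966, 13558), (14967, 13486), (14968, 17186), (14969, 12723), (14970, 13564), (14971, 12712), (14972, 17193), (14973, 13555), (14974, 12715), (14975, 16859)]
    ⟨e3 q14912 L663570 q14912, e3 q14913 L663577 q12641, e3 q14914 (flp_b L686343) q17154, e3 q14915 L663597 q14915, e3 q14916 L663605 q12644, e3 q14917 (flp_b L673223) q15993, e3 q14918 L663623 q14918, e3 q14919 L663637 q14919, e3 q14920 L663647 q14920, e3 q14921 L663658 q14921, e3 q14922 L663670 q14922, e3 q14923 L663682 q14923, e3 q14924 L663695 q13034, e3 q14925 L663710 q13027, e3 q14926 L663724 q13364, e3 q14927 L663737 q13358, e3 q14928 (flp_b L663760) q12706, e3 q14929 L663766 q14929, e3 q14930 L663780 q13563, e3 q14931 L663804 q12703, e3 q14932 L663808 q12671, e3 q14933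 L663824 q13560, e3 q14934 L663840 q14934, e3 q14935 L663853 q14935, e3 q14936 L663862 q14936, e3 q14937 L686532 q17168, e3 q14938 L663878 q14938, e3 q14939 L663890 q14939, e3 q14940 L663898 q14940, e3 q14941 L686581 q17173, e3 q14942 L663920 q14942, e3 q14943 (flp_b L663931) q12680, e3 q14944 (flp_b L686627) q17176, e3 q14945 (flp_b L686640) q17177, e3 q14946 L663970 q14946, e3 q14947 (flp_b L663981) q12683, e3 q14948 (flp_b L686679) q17180, e3 q14949 L664017 q13568, e3 q14950 L664021 q12686, e3 q14951 L664034 q13506, e3 q14952 (flp_b L686471) q17163, e3 q14953 (flp_b L664059) q12690, e3 q14954 L664087 q13534, e3 q14955 L664095 q12692, e3 q14956 (flp_b L686453) q17162, e3 q14957 (flp_b L664121) q12695, e3 q14958 L664138 q12700, e3 q14959 L664156 q12699, e3 q14960 L664183 q13537, e3 q14961 L664189 q13532, e3 q14962 (flp_b L685947) q17121, e3 q14963 L664213 q13561, e3 q14964 L664227 q12708, e3 q14965 L684943 q17004, e3 q14966 L664247 q13558, e3 q14967 L664261 q13486, e3 q14968 (flp_b L686759) q17186, e3 q14969 L664286 q12723,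 e3 q14970 L664298 q13564, e3 q14971 L664310 q12712, e3 q14972 (flp_b L686830) q17193, e3 q14973 L664333 q13555, e3 q14974 L664342 q12715, e3 q14975 (flp_b L683421) q16859, trivial⟩ (by decide +kernel)

theorem ce_b_234 : ∀ r, r < 64 → sm gb (Qf (14976 + r)) = Qf (tab Gen.b (14976 + r)) :=
  edges_tab (sm gb) Qf (tab Gen.b) 14976 [(14976, 14976), (14977, 12722), (14978, 14978), (14979, 12726), (14980, 14980), (14981, 13056), (14982, 13057), (14983, 13062), (14984, 12746), (14985, 12747), (14986, 13049), (14987, 17198), (14988, 13050), (14989, 14989), (14990, 14990), (14991, 13086), (14992, 13089), (14993, 13090), (14994, 16438), (14995, 13093), (14996, 12761), (14997, 17205), (14998, 17206), (14999, 13097), (15000, 13098), (15001, 13099), (15002, 13101), (15003, 13102), (15004, 13103), (15005, 16437), (15006, 16439), (15007, 12773), (15008, 15008), (15009, 13149), (15010, 13150), (15011, 13151), (15012, 16496), (15013, 13154), (15014, 13157), (15015, 13158), (15016, 13163), (15017, 16509), (15018, 13168), (15019, 16441), (15020,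 12795), (15021, 12796), (15022, 12797), (15023, 12799), (15024, 17222), (15025, 17223), (15026, 13134), (15027, 17224), (15028, 13137), (15029, 17225), (15030, 13132), (15031, 13135), (15032, 15032), (15033, 15033), (15034, 15034), (15035, 15035), (15036, 15036), (15037, 15037), (15038, 13217), (15039, 13218)]
    ⟨e3 q14976 L664363 q14976, e3 q14977 L664372 q12722, e3 q14978 L664385 q14978, e3 q14979 L664392 q12726, e3 q14980 L664402 q14980, e3 q14981 L664418 q13056, e3 q14982 L664432 q13057, e3 q14983 L664448 q13062, e3 q14984 L664460 q12746, e3 q14985 L664474 q12747, e3 q14986 L664489 q13049, e3 q14987 (flp_b L686888) q17198, e3 q14988 L664511 q13050, e3 q14989 L664526 q14989, e3 q14990 L664542 q14990, e3 q14991 L664556 q13086, e3 q14992 L664568 q13089, e3 q14993 L664578 q13090, e3 q14994 (flp_b L678943) q16438, e3 q14995 L664603 q13093, e3 q14996 (flp_b L664613) q12761, e3 q14997 (flp_b L686968) q17205, e3 q14998 (flp_b L686981) q17206, e3 q14999 L664644 q13097, e3 q15000 L664654 q13098, e3 q15001 L664666 q13099, e3 q15002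 L664672 q13101, e3 q15003 L664683 q13102, e3 q15004 L664695 q13103, e3 q15005 (flp_b L678928) q16437, e3 q15006 (flp_b L678959) q16439, e3 q15007 L664725 q12773, e3 q15008 L664740 q15008, e3 q15009 L664754 q13149, e3 q15010 L664768 q13150, e3 q15011 L664782 q13151, e3 q15012 (flp_b L679629) q16496, e3 q15013 L664806 q13154, e3 q15014 L664816 q13157, e3 q15015 L664824 q13158, e3 q15016 L664838 q13163, e3 q15017 (flp_b L679762) q16509, e3 q15018 L664860 q13168, e3 q15019 (flp_b L678990) q16441, e3 q15020 L664878 q12795, e3 q15021 L664891 q12796, e3 q15022 L664905 q12797, e3 q15023 L664920 q12799, e3 q15024 (flp_b L687163) q17222, e3 q15025 (flp_b L687175) q17223, e3 q15026 L664948 q13134, e3 q15027 (flp_b L687190) q17224, e3 q15028 L664970 q13137, e3 q15029 (flp_b L687204) q17225, e3 q15030 L664986 q13132, e3 q15031 L664999 q13135, e3 q15032 L665014 q15032, e3 q15033 L665029 q15033, e3 q15034 L665044 q15034, e3 q15035 L665057 q15035, e3 q15036 L665070 q15036, e3 q15037 L665084 q15037, e3 q15038 L665096 q13217, e3 q15039 L665106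 q13218, trivial⟩ (by decide +kernel)

theorem ce_b_235 : ∀ r, r < 64 → sm gb (Qf (15040 + r)) = Qf (tab Gen.b (15040 + r)) :=
  edges_tab (sm gb) Qf (tab Gen.b) 15040 [(15040, 13220), (15041, 13224), (15042, 13225), (15043, 13226), (15044, 13227), (15045, 13228), (15046, 13229), (15047, 17246), (15048, 13231), (15049, 13232), (15050, 17252), (15051, 13234), (15052, 12823), (15053, 17255), (15054, 17256), (15055, 13238), (15056, 13239), (15057, 13240), (15058, 12827), (15059, 12828), (15060, 16576), (15061, 17263), (15062, 17264), (15063, 13247), (15064, 13248), (15065, 13249), (15066, 13250), (15067, 13251), (15068, 13252), (15069, 13253), (15070, 13254), (15071, 12851), (15072, 16618), (15073, 12852), (15074, 12841), (15075, 13317), (15076, 17275), (15077, 12855), (15078, 12844), (15079, 17278), (15080, 12847), (15081, 17279), (15082, 12850), (15083, 17239), (15084, 15084), (15085, 12854), (15086, 15086), (15087, 12857), (15088, 15088), (15089, 12860), (15090, 15090), (15091, 12863), (15092, 15981), (15093, 15093), (15094,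 12865), (15095, 17285), (15096, 15096), (15097, 12869), (15098, 17288), (15099, 13306), (15100, 13308), (15101, 13309), (15102, 13310), (15103, 13311)]
    ⟨e3 q15040 L665118 q13220, e3 q15041 L665130 q13224, e3 q15042 L665140 q13225, e3 q15043 L665152 q13226, e3 q15044 L665158 q13227, e3 q15045 L665170 q13228, e3 q15046 L665180 q13229, e3 q15047 L687439 q17246, e3 q15048 L665198 q13231, e3 q15049 L665204 q13232, e3 q15050 L687487 q17252, e3 q15051 L665224 q13234, e3 q15052 (flp_b L665234) q12823, e3 q15053 (flp_b L687527) q17255, e3 q15054 (flp_b L687540) q17256, e3 q15055 L665263 q13238, e3 q15056 L665273 q13239, e3 q15057 L665285 q13240, e3 q15058 L665291 q12827, e3 q15059 L665298 q12828, e3 q15060 (flp_b L680608) q16576, e3 q15061 (flp_b L687608) q17263, e3 q15062 (flp_b L687617) q17264, e3 q15063 L665322 q13247, e3 q15064 L665328 q13248, e3 q15065 L665336 q13249, e3 q15066 L665342 q13250, e3 q15067 L665353 q13251, e3 q15068 L665364 q13252, e3 q15069 L665373 q13253, e3 q15070 L665382 q13254, e3 q15071 L665395 q12851,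 e3 q15072 (flp_b L681058) q16618, e3 q15073 L665413 q12852, e3 q15074 (flp_b L665421) q12841, e3 q15075 L665437 q13317, e3 q15076 (flp_b L687701) q17275, e3 q15077 L665456 q12855, e3 q15078 (flp_b L665467) q12844, e3 q15079 (flp_b L687741) q17278, e3 q15080 L665483 q12847, e3 q15081 (flp_b L687750) q17279, e3 q15082 L665501 q12850, e3 q15083 (flp_b L687363) q17239, e3 q15084 L665530 q15084, e3 q15085 L665533 q12854, e3 q15086 L665552 q15086, e3 q15087 L665555 q12857, e3 q15088 L665566 q15088, e3 q15089 L665574 q12860, e3 q15090 L665587 q15090, e3 q15091 L665597 q12863, e3 q15092 (flp_b L673038) q15981, e3 q15093 L665629 q15093, e3 q15094 L665632 q12865, e3 q15095 (flp_b L687818) q17285, e3 q15096 L665655 q15096, e3 q15097 L665665 q12869, e3 q15098 (flp_b L687853) q17288, e3 q15099 L665686 q13306, e3 q15100 L665699 q13308, e3 q15101 L665712 q13309, e3 q15102 L665722 q13310, e3 q15103 L665733 q13311, trivial⟩ (by decide +kernel)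

theorem ce_b_236 : ∀ r, r < 64 → sm gb (Qf (15104 + r)) = Qf (tab Gen.b (15104 + r)) :=
  edges_tab (sm gb) Qf (tab Gen.b) 15104 [(15104, 13312), (15105, 13314), (15106, 13316), (15107, 13318), (15108, 13319), (15109, 17300), (15110, 13321), (15111, 13322), (15112, 17305), (15113, 13325), (15114, 12883), (15115, 17309), (15116, 13331), (15117, 13469), (15118, 12886), (15119, 17312), (15120, 12889), (15121, 17315), (15122, 12901), (15123, 12891), (15124, 17318), (15125, 12904), (15126, 13721), (15127, 12894), (15128, 17321), (15129, 13734), (15130, 12898), (15131, 17324), (15132, 15132), (15133, 12900), (15134, 17327), (15135, 15135), (15136, 12903), (15137, 17330), (15138, 15138), (15139, 12907), (15140, 17332), (15141, 15141), (15142, 12910), (15143, 16244), (15144, 12921), (15145, 12924), (15146, 12928), (15147, 12929), (15148, 12930), (15149, 12931), (15150, 12932), (15151, 12935), (15152, 12940), (15153, 16910), (15154, 17333), (15155, 13771), (15156, 13772), (15157, 16180), (15158, 16911), (15159, 16186), (15160, 16917),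 (15161, 16603), (15162, 17334), (15163, 17335), (15164, 17353), (15165, 17336), (15166, 17337), (15167, 17359)]
    ⟨e3 q15104 L665746 q13312, e3 q15105 L665760 q13314, e3 q15106 L665772 q13316, e3 q15107 L665785 q13318, e3 q15108 L665795 q13319, e3 q15109 L687993 q17300, e3 q15110 L665817 q13321, e3 q15111 L665825 q13322, e3 q15112 L688039 q17305, e3 q15113 L665846 q13325, e3 q15114 (flp_b L665855) q12883, e3 q15115 (flp_b L688092) q17309, e3 q15116 L665881 q13331, e3 q15117 L665902 q13469, e3 q15118 L665906 q12886, e3 q15119 (flp_b L688129) q17312, e3 q15120 (flp_b L665924) q12889, e3 q15121 (flp_b L688158) q17315, e3 q15122 L665943 q12901, e3 q15123 (flp_b L665950) q12891, e3 q15124 (flp_b L688187) q17318, e3 q15125 L665975 q12904, e3 q15126 L665994 q13721, e3 q15127 L665998 q12894, e3 q15128 (flp_b L688222) q17321, e3 q15129 L666021 q13734, e3 q15130 L666030 q12898, e3 q15131 (flp_b L688254) q17324, e3 q15132 L666055 q15132, e3 q15133 L666058 q12900, e3 q15134 (flp_b L688281) q17327, e3 q15135 L666080 q15135, e3 q15136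 L666083 q12903, e3 q15137 (flp_b L688312) q17330, e3 q15138 L666105 q15138, e3 q15139 L666112 q12907, e3 q15140 (flp_b L688330) q17332, e3 q15141 L666135 q15141, e3 q15142 L666140 q12910, e3 q15143 (flp_b L676654) q16244, e3 q15144 L666161 q12921, e3 q15145 L666175 q12924, e3 q15146 L666191 q12928, e3 q15147 L666204 q12929, e3 q15148 L666212 q12930, e3 q15149 L666223 q12931, e3 q15150 L666236 q12932, e3 q15151 L666250 q12935, e3 q15152 L666262 q12940, e3 q15153 (flp_b L683956) q16910, e3 q15154 (flp_b L688345) q17333, e3 q15155 L666290 q13771, e3 q15156 L666303 q13772, e3 q15157 (flp_b L675820) q16180, e3 q15158 (flp_b L683970) q16911, e3 q15159 (flp_b L675890) q16186, e3 q15160 (flp_b L684033) q16917, e3 q15161 (flp_b L680926) q16603, e3 q15162 (flp_b L688361) q17334, e3 q15163 (flp_b L688373) q17335, e3 q15164 L688547 q17353, e3 q15165 (flp_b L688388) q17336, e3 q15166 (flp_b L688396) q17337, e3 q15167 L688593 q17359, trivial⟩ (by decide +kernel)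

theorem ce_b_237 : ∀ r, r < 64 → sm gb (Qf (15168 + r)) = Qf (tab Gen.b (15168 + r)) :=
  edges_tab (sm gb) Qf (tab Gen.b) 15168 [(15168, 13300), (15169, 17338), (15170, 12933), (15171, 16164), (15172, 17365), (15173, 13298), (15174, 13302), (15175, 17339), (15176, 12938), (15177, 16167), (15178, 17371), (15179, 13303), (15180, 13297), (15181, 13301), (15182, 13299), (15183, 15183), (15184, 15184), (15185, 17377), (15186, 15186), (15187, 15187), (15188, 12948), (15189, 17383), (15190, 17384), (15191, 15191), (15192, 15192), (15193, 12951), (15194, 17390), (15195, 15195), (15196, 13019), (15197, 12954), (15198, 17393), (15199, 13022), (15200, 12958), (15201, 17396), (15202, 13417), (15203, 13418), (15204, 13419), (15205, 13420), (15206, 13421), (15207, 17406), (15208, 13423), (15209, 13424), (15210, 17412), (15211, 13427), (15212, 12966), (15213, 17415), (15214, 17416), (15215, 13431), (15216, 13432), (15217, 13433), (15218, 12970), (15219, 12971), (15220, 17423), (15221, 17424), (15222, 13440), (15223, 13441), (15224, 13442),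 (15225, 13443), (15226, 13444), (15227, 17433), (15228, 13446), (15229, 13447), (15230, 12978), (15231, 17440)]
    ⟨e3 q15168 L666409 q13300, e3 q15169 (flp_b L688406) q17338, e3 q15170 (flp_b L666427) q12933, e3 q15171 (flp_b L675629) q16164, e3 q15172 (flp_b L688659) q17365, e3 q15173 L666456 q13298, e3 q15174 L666464 q13302, e3 q15175 (flp_b L688419) q17339, e3 q15176 L666482 q12938, e3 q15177 (flp_b L675661) q16167, e3 q15178 (flp_b L688715) q17371, e3 q15179 L666510 q13303, e3 q15180 L666521 q13297, e3 q15181 L666534 q13301, e3 q15182 L666548 q13299, e3 q15183 L666559 q15183, e3 q15184 L666572 q15184, e3 q15185 L688779 q17377, e3 q15186 L666591 q15186, e3 q15187 L666604 q15187, e3 q15188 (flp_b L666611) q12948, e3 q15189 (flp_b L688847) q17383, e3 q15190 (flp_b L688856) q17384, e3 q15191 L666641 q15191, e3 q15192 L666653 q15192, e3 q15193 (flp_b L666659) q12951, e3 q15194 (flp_b L688915) q17390, e3 q15195 L666681 q15195, e3 q15196 L666696 q13019, e3 q15197 L666700 q12954, e3 q15198 (flp_b L688945) q17393, e3 q15199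 L666720 q13022, e3 q15200 L666729 q12958, e3 q15201 (flp_b L688975) q17396, e3 q15202 L666747 q13417, e3 q15203 L666757 q13418, e3 q15204 L666768 q13419, e3 q15205 L666778 q13420, e3 q15206 L666788 q13421, e3 q15207 L689071 q17406, e3 q15208 L666806 q13423, e3 q15209 L666812 q13424, e3 q15210 L689119 q17412, e3 q15211 L666830 q13427, e3 q15212 (flp_b L666839) q12966, e3 q15213 (flp_b L689156) q17415, e3 q15214 (flp_b L689170) q17416, e3 q15215 L666869 q13431, e3 q15216 L666879 q13432, e3 q15217 L666891 q13433, e3 q15218 L666901 q12970, e3 q15219 L666914 q12971, e3 q15220 (flp_b L689245) q17423, e3 q15221 (flp_b L689258) q17424, e3 q15222 L666938 q13440, e3 q15223 L666948 q13441, e3 q15224 L666957 q13442, e3 q15225 L666966 q13443, e3 q15226 L666973 q13444, e3 q15227 L689334 q17433, e3 q15228 L666990 q13446, e3 q15229 L666996 q13447, e3 q15230 (flp_b L667004) q12978, e3 q15231 (flp_b L689398) q17440, trivial⟩ (by decide +kernel)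

theorem ce_b_238 : ∀ r, r < 64 → sm gb (Qf (15232 + r)) = Qf (tab Gen.b (15232 + r)) :=
  edges_tab (sm gb) Qf (tab Gen.b) 15232 [(15232, 17441), (15233, 13451), (15234, 13452), (15235, 13453), (15236, 12981), (15237, 17450), (15238, 17451), (15239, 13457), (15240, 13458), (15241, 13459), (15242, 17047), (15243, 12985), (15244, 12986), (15245, 17459), (15246, 17460), (15247, 17461), (15248, 13466), (15249, 13467), (15250, 13468), (15251, 13437), (15252, 17048), (15253, 12993), (15254, 12994), (15255, 12995), (15256, 17471), (15257, 17472), (15258, 17473), (15259, 17474), (15260, 13478), (15261, 13479), (15262, 13480), (15263, 13482), (15264, 13483), (15265, 13484), (15266, 13485), (15267, 17191), (15268, 13025), (15269, 13008), (15270, 17160), (15271, 17485), (15272, 13029), (15273, 13030), (15274, 17382), (15275, 13012), (15276, 13013), (15277, 17491), (15278, 17492), (15279, 17493), (15280, 13037), (15281, 17389), (15282, 13017), (15283, 17499), (15284, 17392), (15285, 13021), (15286, 17502), (15287, 17395), (15288, 13024),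 (15289, 17118), (15290, 17484), (15291, 13028), (15292, 17161), (15293, 17504), (15294, 17489), (15295, 15295)]
    ⟨e3 q15232 (flp_b L689404) q17441, e3 q15233 L667026 q13451, e3 q15234 L667032 q13452, e3 q15235 L667038 q13453, e3 q15236 (flp_b L667042) q12981, e3 q15237 (flp_b L689465) q17450, e3 q15238 (flp_b L689477) q17451, e3 q15239 L667072 q13457, e3 q15240 L667082 q13458, e3 q15241 L667093 q13459, e3 q15242 (flp_b L685363) q17047, e3 q15243 L667108 q12985, e3 q15244 L667117 q12986, e3 q15245 (flp_b L689558) q17459, e3 q15246 (flp_b L689565) q17460, e3 q15247 (flp_b L689576) q17461, e3 q15248 L667147 q13466, e3 q15249 L667155 q13467, e3 q15250 L667163 q13468, e3 q15251 L667173 q13437, e3 q15252 (flp_b L685377) q17048, e3 q15253 L667196 q12993, e3 q15254 L667208 q12994, e3 q15255 L667218 q12995, e3 q15256 (flp_b L689659) q17471, e3 q15257 (flp_b L689672) q17472, e3 q15258 (flp_b L689684) q17473, e3 q15259 (flp_b L689693) q17474, e3 q15260 L667250 q13478, e3 q15261 L667257 q13479, e3 q15262 L667265 q13480, e3 q15263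 L667272 q13482, e3 q15264 L667283 q13483, e3 q15265 L667292 q13484, e3 q15266 L667301 q13485, e3 q15267 (flp_b L686814) q17191, e3 q15268 L667317 q13025, e3 q15269 (flp_b L667324) q13008, e3 q15270 (flp_b L686432) q17160, e3 q15271 (flp_b L689770) q17485, e3 q15272 L667351 q13029, e3 q15273 L667360 q13030, e3 q15274 (flp_b L688843) q17382, e3 q15275 L667376 q13012, e3 q15276 L667384 q13013, e3 q15277 (flp_b L689821) q17491, e3 q15278 (flp_b L689826) q17492, e3 q15279 (flp_b L689835) q17493, e3 q15280 L667409 q13037, e3 q15281 (flp_b L688911) q17389, e3 q15282 L667426 q13017, e3 q15283 (flp_b L689876) q17499, e3 q15284 (flp_b L688937) q17392, e3 q15285 L667454 q13021, e3 q15286 (flp_b L689903) q17502, e3 q15287 (flp_b L688965) q17395, e3 q15288 L667478 q13024, e3 q15289 L685921 q17118, e3 q15290 (flp_b L689760) q17484, e3 q15291 L667498 q13028, e3 q15292 (flp_b L686438) q17161, e3 q15293 (flp_b L689916) q17504, e3 q15294 (flp_b L689803) q17489, e3 q15295 L667543 q15295, trivial⟩ (by decide +kernel)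

theorem ce_b_239 : ∀ r, r < 64 → sm gb (Qf (15296 + r)) = Qf (tab Gen.b (15296 + r)) :=
  edges_tab (sm gb) Qf (tab Gen.b) 15296 [(15296, 13035), (15297, 13036), (15298, 17159), (15299, 17507), (15300, 17508), (15301, 15301), (15302, 13040), (15303, 15303), (15304, 13043), (15305, 13072), (15306, 13073), (15307, 13068), (15308, 13069), (15309, 16502), (15310, 17199), (15311, 13053), (15312, 17514), (15313, 15313), (15314, 16498), (15315, 17196), (15316, 16048), (15317, 16510), (15318, 16511), (15319, 13075), (15320, 17197), (15321, 16528), (15322, 16499), (15323, 17511), (15324, 16413), (15325, 16414), (15326, 13130), (15327, 17510), (15328, 16512), (15329, 17521), (15330, 15330), (15331, 15331), (15332, 15332), (15333, 16523), (15334, 13085), (15335, 17530), (15336, 17201), (15337, 13766), (15338, 16421), (15339, 16504), (15340, 17202), (15341, 13092), (15342, 17535), (15343, 17204), (15344, 16477), (15345, 13095), (15346, 13096), (15347, 16432), (15348, 17538), (15349, 17539), (15350, 16494), (15351, 17210), (15352, 17211),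 (15353, 16493), (15354, 16495), (15355, 16424), (15356, 13117), (15357, 13118), (15358, 13111), (15359, 17547)]
    ⟨e3 q15296 L667550 q13035, e3 q15297 L667557 q13036, e3 q15298 (flp_b L686407) q17159, e3 q15299 (flp_b L689948) q17507, e3 q15300 (flp_b L689956) q17508, e3 q15301 L667603 q15301, e3 q15302 L667612 q13040, e3 q15303 L667625 q15303, e3 q15304 L667632 q13043, e3 q15305 L667647 q13072, e3 q15306 L667661 q13073, e3 q15307 L667676 q13068, e3 q15308 L667690 q13069, e3 q15309 (flp_b L679702) q16502, e3 q15310 (flp_b L686902) q17199, e3 q15311 (flp_b L667718) q13053, e3 q15312 (flp_b L690027) q17514, e3 q15313 L667738 q15313, e3 q15314 (flp_b L679663) q16498, e3 q15315 (flp_b L686862) q17196, e3 q15316 (flp_b L674023) q16048, e3 q15317 (flp_b L679776) q16510, e3 q15318 (flp_b L679787) q16511, e3 q15319 L667781 q13075, e3 q15320 (flp_b L686876) q17197, e3 q15321 (flp_b L679964) q16528, e3 q15322 (flp_b L679668) q16499, e3 q15323 (flp_b L689997) q17511, e3 q15324 (flp_b L678616) q16413, e3 q15325 (flp_b L678628) q16414,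 e3 q15326 L667839 q13130, e3 q15327 (flp_b L689983) q17510, e3 q15328 (flp_b L679799) q16512, e3 q15329 (flp_b L690081) q17521, e3 q15330 L667879 q15330, e3 q15331 L667889 q15331, e3 q15332 L667898 q15332, e3 q15333 (flp_b L679908) q16523, e3 q15334 (flp_b L667915) q13085, e3 q15335 (flp_b L690154) q17530, e3 q15336 (flp_b L686922) q17201, e3 q15337 L667937 q13766, e3 q15338 (flp_b L678724) q16421, e3 q15339 (flp_b L679723) q16504, e3 q15340 (flp_b L686934) q17202, e3 q15341 (flp_b L667961) q13092, e3 q15342 (flp_b L690186) q17535, e3 q15343 (flp_b L686956) q17204, e3 q15344 (flp_b L679418) q16477, e3 q15345 L667987 q13095, e3 q15346 L667995 q13096, e3 q15347 (flp_b L678878) q16432, e3 q15348 (flp_b L690208) q17538, e3 q15349 (flp_b L690218) q17539, e3 q15350 (flp_b L679604) q16494, e3 q15351 (flp_b L687023) q17210, e3 q15352 (flp_b L687033) q17211, e3 q15353 (flp_b L679589) q16493, e3 q15354 (flp_b L679614) q16495, e3 q15355 (flp_b L678767) q16424, e3 q15356 L668075 q13117, e3 q15357 L668084 q13118, e3 q15358 L668095 q13111,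 e3 q15359 (flp_b L690284) q17547, trivial⟩ (by decide +kernel)

theorem ce_b_240 : ∀ r, r < 64 → sm gb (Qf (15360 + r)) = Qf (tab Gen.b (15360 + r)) :=
  edges_tab (sm gb) Qf (tab Gen.b) 15360 [(15360, 16485), (15361, 13115), (15362, 17550), (15363, 17546), (15364, 13120), (15365, 15365), (15366, 13123), (15367, 15367), (15368, 13194), (15369, 13197), (15370, 13198), (15371, 16141), (15372, 13188), (15373, 17228), (15374, 17232), (15375, 13189), (15376, 13190), (15377, 16761), (15378, 17229), (15379, 16767), (15380, 17231), (15381, 15381), (15382, 17566), (15383, 15383), (15384, 13144), (15385, 17569), (15386, 15386), (15387, 13178), (15388, 13147), (15389, 17572), (15390, 17212), (15391, 17213), (15392, 16757), (15393, 17214), (15394, 13152), (15395, 17579), (15396, 13192), (15397, 17216), (15398, 16131), (15399, 16155), (15400, 16774), (15401, 17217), (15402, 17218), (15403, 16135), (15404, 16783), (15405, 16784), (15406, 13195), (15407, 13200), (15408, 17219), (15409, 16700), (15410, 13165), (15411, 13166), (15412, 17596),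 (15413, 17597), (15414, 13203), (15415, 13196), (15416, 16818), (15417, 16819), (15418, 13181), (15419, 13182), (15420, 16829), (15421, 17571), (15422, 13180), (15423, 17606)]
    ⟨e3 q15360 (flp_b L679498) q16485, e3 q15361 L668124 q13115, e3 q15362 (flp_b L690311) q17550, e3 q15363 (flp_b L690271) q17546, e3 q15364 L668152 q13120, e3 q15365 L668164 q15365, e3 q15366 L668171 q13123, e3 q15367 L668182 q15367, e3 q15368 L668192 q13194, e3 q15369 L668205 q13197, e3 q15370 L668219 q13198, e3 q15371 (flp_b L675343) q16141, e3 q15372 L668240 q13188, e3 q15373 (flp_b L687228) q17228, e3 q15374 (flp_b L687272) q17232, e3 q15375 L668272 q13189, e3 q15376 L668286 q13190, e3 q15377 (flp_b L682482) q16761, e3 q15378 (flp_b L687240) q17229, e3 q15379 (flp_b L682532) q16767, e3 q15380 (flp_b L687262) q17231, e3 q15381 L668332 q15381, e3 q15382 L690470 q17566, e3 q15383 L668352 q15383, e3 q15384 (flp_b L668357) q13144, e3 q15385 (flp_b L690496) q17569, e3 q15386 L668377 q15386, e3 q15387 L668389 q13178, e3 q15388 L668393 q13147, e3 q15389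 (flp_b L690528) q17572, e3 q15390 (flp_b L687047) q17212, e3 q15391 (flp_b L687059) q17213, e3 q15392 (flp_b L682445) q16757, e3 q15393 (flp_b L687075) q17214, e3 q15394 (flp_b L668431) q13152, e3 q15395 (flp_b L690576) q17579, e3 q15396 L668443 q13192, e3 q15397 (flp_b L687101) q17216, e3 q15398 L675219 q16131, e3 q15399 (flp_b L675503) q16155, e3 q15400 (flp_b L682590) q16774, e3 q15401 (flp_b L687113) q17217, e3 q15402 (flp_b L687123) q17218, e3 q15403 (flp_b L675259) q16135, e3 q15404 (flp_b L682658) q16783, e3 q15405 (flp_b L682669) q16784, e3 q15406 L668512 q13195, e3 q15407 L668518 q13200, e3 q15408 (flp_b L687133) q17219, e3 q15409 (flp_b L681897) q16700, e3 q15410 L668538 q13165, e3 q15411 L668545 q13166, e3 q15412 (flp_b L690689) q17596, e3 q15413 (flp_b L690698) q17597, e3 q15414 L668562 q13203, e3 q15415 L668568 q13196, e3 q15416 (flp_b L682948) q16818, e3 q15417 (flp_b L682958) q16819, e3 q15418 L668589 q13181, e3 q15419 L668598 q13182, e3 q15420 (flp_b L683058) q16829, e3 q15421 (flp_b L690516) q17571, e3 q15422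 L668622 q13180, e3 q15423 (flp_b L690760) q17606, trivial⟩ (by decide +kernel)

theorem ce_b_241 : ∀ r, r < 64 → sm gb (Qf (15424 + r)) = Qf (tab Gen.b (15424 + r)) :=
  edges_tab (sm gb) Qf (tab Gen.b) 15424 [(15424, 17603), (15425, 15425), (15426, 13185), (15427, 16535), (15428, 17557), (15429, 17558), (15430, 16758), (15431, 17562), (15432, 13191), (15433, 17613), (15434, 17581), (15435, 16571), (15436, 17553), (15437, 17554), (15438, 16785), (15439, 17586), (15440, 17593), (15441, 17555), (15442, 16786), (15443, 17594), (15444, 13241), (15445, 13202), (15446, 17626), (15447, 15447), (15448, 15448), (15449, 15449), (15450, 16808), (15451, 15451), (15452, 15452), (15453, 15453), (15454, 16809), (15455, 13271), (15456, 13215), (15457, 17634), (15458, 17636), (15459, 17235), (15460, 17236), (15461, 13219), (15462, 17641), (15463, 17237), (15464, 13222), (15465, 13223), (15466, 16440), (15467, 17643), (15468, 17644), (15469, 17238), (15470, 17240), (15471, 17241), (15472, 17242), (15473, 17650), (15474, 17244), (15475, 17245),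 (15476, 13230), (15477, 17656), (15478, 17657), (15479, 17249), (15480, 17250), (15481, 17251), (15482, 13233), (15483, 17665), (15484, 17254), (15485, 16711), (15486, 13236), (15487, 13237)]
    ⟨e3 q15424 (flp_b L690733) q17603, e3 q15425 L668644 q15425, e3 q15426 L668649 q13185, e3 q15427 (flp_b L680062) q16535, e3 q15428 (flp_b L690386) q17557, e3 q15429 (flp_b L690398) q17558, e3 q15430 (flp_b L682450) q16758, e3 q15431 (flp_b L690436) q17562, e3 q15432 (flp_b L668691) q13191, e3 q15433 (flp_b L690811) q17613, e3 q15434 (flp_b L690587) q17581, e3 q15435 (flp_b L680554) q16571, e3 q15436 (flp_b L690337) q17553, e3 q15437 (flp_b L690349) q17554, e3 q15438 (flp_b L682681) q16785, e3 q15439 (flp_b L690621) q17586, e3 q15440 (flp_b L690667) q17593, e3 q15441 (flp_b L690364) q17555, e3 q15442 (flp_b L682689) q16786, e3 q15443 (flp_b L690675) q17594, e3 q15444 L668789 q13241, e3 q15445 L668793 q13202, e3 q15446 (flp_b L690910) q17626, e3 q15447 L668807 q15447, e3 q15448 L668815 q15448, e3 q15449 L668824 q15449, e3 q15450 (flp_b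 L682865) q16808, e3 q15451 L668843 q15451, e3 q15452 L668854 q15452, e3 q15453 L668862 q15453, e3 q15454 (flp_b L682876) q16809, e3 q15455 L668883 q13271, e3 q15456 L668890 q13215, e3 q15457 (flp_b L690975) q17634, e3 q15458 L690985 q17636, e3 q15459 (flp_b L687319) q17235, e3 q15460 (flp_b L687331) q17236, e3 q15461 (flp_b L668918) q13219, e3 q15462 (flp_b L691017) q17641, e3 q15463 (flp_b L687341) q17237, e3 q15464 L668940 q13222, e3 q15465 L668946 q13223, e3 q15466 (flp_b L678974) q16440, e3 q15467 (flp_b L691032) q17643, e3 q15468 (flp_b L691038) q17644, e3 q15469 (flp_b L687353) q17238, e3 q15470 (flp_b L687373) q17240, e3 q15471 (flp_b L687385) q17241, e3 q15472 (flp_b L687395) q17242, e3 q15473 L691073 q17650, e3 q15474 (flp_b L687419) q17244, e3 q15475 (flp_b L687431) q17245, e3 q15476 (flp_b L669013) q13230, e3 q15477 (flp_b L691119) q17656, e3 q15478 (flp_b L691123) q17657, e3 q15479 (flp_b L687463) q17249, e3 q15480 (flp_b L687475) q17250, e3 q15481 (flp_b L687483) q17251, e3 q15482 (flp_b L669047) q13233, e3 q15483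 (flp_b L691173) q17665, e3 q15484 (flp_b L687515) q17254, e3 q15485 (flp_b L682003) q16711, e3 q15486 L669073 q13236, e3 q15487 L669081 q13237, trivial⟩ (by decide +kernel)

theorem ce_b_242 : ∀ r, r < 64 → sm gb (Qf (15488 + r)) = Qf (tab Gen.b (15488 + r)) :=
  edges_tab (sm gb) Qf (tab Gen.b) 15488 [(15488, 17668), (15489, 17669), (15490, 17670), (15491, 17260), (15492, 17261), (15493, 17262), (15494, 16474), (15495, 17625), (15496, 13244), (15497, 13245), (15498, 13246), (15499, 16607), (15500, 17680), (15501, 17681), (15502, 17682), (15503, 17269), (15504, 17270), (15505, 17271), (15506, 16751), (15507, 17272), (15508, 17273), (15509, 16591), (15510, 13274), (15511, 13257), (15512, 17692), (15513, 13278), (15514, 13279), (15515, 16725), (15516, 13261), (15517, 13262), (15518, 17695), (15519, 17696), (15520, 17697), (15521, 13286), (15522, 13266), (15523, 17702), (15524, 16726), (15525, 13270), (15526, 17705), (15527, 17633), (15528, 13273), (15529, 17709), (15530, 17691), (15531, 15531), (15532, 13276), (15533, 13277),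 (15534, 17712), (15535, 17713), (15536, 15536), (15537, 15537), (15538, 13283), (15539, 13284), (15540, 13285), (15541, 17716), (15542, 17717), (15543, 15543), (15544, 13289), (15545, 15545), (15546, 13292), (15547, 17721), (15548, 15548), (15549, 16594), (15550, 13295), (15551, 15982)]
    ⟨e3 q15488 (flp_b L691195) q17668, e3 q15489 (flp_b L691201) q17669, e3 q15490 (flp_b L691211) q17670, e3 q15491 (flp_b L687576) q17260, e3 q15492 (flp_b L687586) q17261, e3 q15493 (flp_b L687596) q17262, e3 q15494 (flp_b L679380) q16474, e3 q15495 (flp_b L690904) q17625, e3 q15496 L669141 q13244, e3 q15497 L669147 q13245, e3 q15498 L669155 q13246, e3 q15499 (flp_b L680964) q16607, e3 q15500 (flp_b L691277) q17680, e3 q15501 (flp_b L691285) q17681, e3 q15502 (flp_b L691291) q17682, e3 q15503 (flp_b L687649) q17269, e3 q15504 (flp_b L687655) q17270, e3 q15505 (flp_b L687663) q17271, e3 q15506 (flp_b L682388) q16751, e3 q15507 (flp_b L687669) q17272, e3 q15508 (flp_b L687680) q17273, e3 q15509 (flp_b L680775) q16591, e3 q15510 L669234 q13274,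 e3 q15511 (flp_b L669240) q13257, e3 q15512 (flp_b L691360) q17692, e3 q15513 L669259 q13278, e3 q15514 L669271 q13279, e3 q15515 (flp_b L682124) q16725, e3 q15516 L669287 q13261, e3 q15517 L669296 q13262, e3 q15518 (flp_b L691387) q17695, e3 q15519 (flp_b L691393) q17696, e3 q15520 (flp_b L691403) q17697, e3 q15521 L669325 q13286, e3 q15522 L669334 q13266, e3 q15523 (flp_b L691441) q17702, e3 q15524 (flp_b L682136) q16726, e3 q15525 L669363 q13270, e3 q15526 (flp_b L691468) q17705, e3 q15527 (flp_b L690967) q17633, e3 q15528 L669388 q13273, e3 q15529 (flp_b L691492) q17709, e3 q15530 (flp_b L691349) q17691, e3 q15531 L669413 q15531, e3 q15532 L669416 q13276, e3 q15533 L669427 q13277, e3 q15534 (flp_b L691513) q17712, e3 q15535 (flp_b L691525) q17713, e3 q15536 L669460 q15536, e3 q15537 L669468 q15537, e3 q15538 L669473 q13283, e3 q15539 L669487 q13284, e3 q15540 L669495 q13285, e3 q15541 (flp_b L691551) q17716, e3 q15542 (flp_b L691567) q17717, e3 q15543 L669531 q15543, e3 q15544 L669538 q13289, e3 q15545 L669549 q15545,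 e3 q15546 L669557 q13292, e3 q15547 (flp_b L691599) q17721, e3 q15548 L669574 q15548, e3 q15549 (flp_b L680813) q16594, e3 q15550 L669581 q13295, e3 q15551 (flp_b L673055) q15982, trivial⟩ (by decide +kernel)

theorem ce_b_243 : ∀ r, r < 64 → sm gb (Qf (15552 + r)) = Qf (tab Gen.b (15552 + r)) :=
  edges_tab (sm gb) Qf (tab Gen.b) 15552 [(15552, 16690), (15553, 17362), (15554, 17374), (15555, 17356), (15556, 17369), (15557, 17363), (15558, 17370), (15559, 15559), (15560, 17290), (15561, 17291), (15562, 16246), (15563, 17292), (15564, 17293), (15565, 17294), (15566, 17295), (15567, 13383), (15568, 17296), (15569, 13381), (15570, 13385), (15571, 17297), (15572, 13386), (15573, 17276), (15574, 17277), (15575, 17745), (15576, 17298), (15577, 17299), (15578, 13320), (15579, 17751), (15580, 17752), (15581, 13391), (15582, 17303), (15583, 17304), (15584, 13323), (15585, 17759), (15586, 17760), (15587, 13388), (15588, 13394), (15589, 17307), (15590, 13327), (15591, 13328), (15592, 17767), (15593, 17768), (15594, 17769), (15595, 13392),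 (15596, 13397), (15597, 13334), (15598, 13335), (15599, 17773), (15600, 13387), (15601, 13389), (15602, 16959), (15603, 13354), (15604, 13342), (15605, 16962), (15606, 17777), (15607, 13357), (15608, 13778), (15609, 13346), (15610, 13347), (15611, 17781), (15612, 17782), (15613, 13780), (15614, 13350), (15615, 13781)]
    ⟨e3 q15552 (flp_b L681802) q16690, e3 q15553 (flp_b L688627) q17362, e3 q15554 (flp_b L688742) q17374, e3 q15555 (flp_b L688575) q17356, e3 q15556 (flp_b L688695) q17369, e3 q15557 (flp_b L688639) q17363, e3 q15558 (flp_b L688705) q17370, e3 q15559 L669660 q15559, e3 q15560 (flp_b L687874) q17290, e3 q15561 (flp_b L687886) q17291, e3 q15562 (flp_b L676684) q16246, e3 q15563 (flp_b L687901) q17292, e3 q15564 (flp_b L687913) q17293, e3 q15565 (flp_b L687928) q17294, e3 q15566 (flp_b L687938) q17295, e3 q15567 L669719 q13383, e3 q15568 (flp_b L687948) q17296, e3 q15569 L669737 q13381, e3 q15570 L669745 q13385, e3 q15571 (flp_b L687961) q17297, e3 q15572 L669763 q13386, e3 q15573 (flp_b L687717) q17276, e3 q15574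 (flp_b L687728) q17277, e3 q15575 L691781 q17745, e3 q15576 (flp_b L687975) q17298, e3 q15577 (flp_b L687985) q17299, e3 q15578 (flp_b L669804) q13320, e3 q15579 (flp_b L691829) q17751, e3 q15580 (flp_b L691833) q17752, e3 q15581 L669824 q13391, e3 q15582 (flp_b L688023) q17303, e3 q15583 (flp_b L688033) q17304, e3 q15584 (flp_b L669838) q13323, e3 q15585 (flp_b L691875) q17759, e3 q15586 (flp_b L691885) q17760, e3 q15587 L669864 q13388, e3 q15588 L669872 q13394, e3 q15589 (flp_b L688067) q17307, e3 q15590 L669890 q13327, e3 q15591 L669899 q13328, e3 q15592 (flp_b L691946) q17767, e3 q15593 (flp_b L691953) q17768, e3 q15594 (flp_b L691964) q17769, e3 q15595 L669927 q13392, e3 q15596 L669935 q13397, e3 q15597 L669943 q13334, e3 q15598 L669953 q13335, e3 q15599 (flp_b L691991) q17773, e3 q15600 L669965 q13387, e3 q15601 L669973 q13389, e3 q15602 (flp_b L684479) q16959, e3 q15603 L669989 q13354, e3 q15604 (flp_b L669996) q13342, e3 q15605 (flp_b L684514) q16962, e3 q15606 (flp_b L692019) q17777, e3 q15607 L670025 q13357, e3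 q15608 L670042 q13778, e3 q15609 L670050 q13346, e3 q15610 L670061 q13347, e3 q15611 (flp_b L692059) q17781, e3 q15612 (flp_b L692070) q17782, e3 q15613 L670087 q13780, e3 q15614 L670091 q13350, e3 q15615 L670103 q13781, trivial⟩ (by decide +kernel)

theorem ce_b_244 : ∀ r, r < 64 → sm gb (Qf (15616 + r)) = Qf (tab Gen.b (15616 + r)) :=
  edges_tab (sm gb) Qf (tab Gen.b) 15616 [(15616, 13356), (15617, 15617), (15618, 13362), (15619, 13363), (15620, 15620), (15621, 13367), (15622, 15622), (15623, 13370), (15624, 13382), (15625, 13384), (15626, 16896), (15627, 16936), (15628, 16939), (15629, 16940), (15630, 17735), (15631, 17740), (15632, 17738), (15633, 17741), (15634, 17764), (15635, 17775), (15636, 17798), (15637, 17748), (15638, 17765), (15639, 13390), (15640, 17804), (15641, 17805), (15642, 17757), (15643, 17772), (15644, 13393), (15645, 17811), (15646, 17766), (15647, 13460), (15648, 13396), (15649, 17814), (15650, 13470), (15651, 13400), (15652, 17183), (15653, 15653), (15654, 13403), (15655, 17175), (15656, 17817),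 (15657, 15657), (15658, 13493), (15659, 13407), (15660, 13408), (15661, 17820), (15662, 17821), (15663, 13500), (15664, 13411), (15665, 13503), (15666, 13779), (15667, 17825), (15668, 17399), (15669, 17400), (15670, 17401), (15671, 17402), (15672, 17833), (15673, 17404), (15674, 17405), (15675, 13422), (15676, 17839), (15677, 17840), (15678, 17409), (15679, 17410)]
    ⟨e3 q15616 L670112 q13356, e3 q15617 L670122 q15617, e3 q15618 L670133 q13362, e3 q15619 L670142 q13363, e3 q15620 L670152 q15620, e3 q15621 L670159 q13367, e3 q15622 L670173 q15622, e3 q15623 L670181 q13370, e3 q15624 L670193 q13382, e3 q15625 L670201 q13384, e3 q15626 (flp_b L683829) q16896, e3 q15627 (flp_b L684228) q16936, e3 q15628 (flp_b L684280) q16939, e3 q15629 (flp_b L684294) q16940, e3 q15630 (flp_b L691705) q17735, e3 q15631 (flp_b L691747) q17740, e3 q15632 (flp_b L691727) q17738, e3 q15633 (flp_b L691755) q17741, e3 q15634 (flp_b L691918) q17764, e3 q15635 (flp_b L692004) q17775, e3 q15636 L692209 q17798, e3 q15637 (flp_b L691807) q17748, e3 q15638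 (flp_b L691927) q17765, e3 q15639 (flp_b L670321) q13390, e3 q15640 (flp_b L692263) q17804, e3 q15641 (flp_b L692267) q17805, e3 q15642 (flp_b L691863) q17757, e3 q15643 (flp_b L691985) q17772, e3 q15644 (flp_b L670355) q13393, e3 q15645 (flp_b L692312) q17811, e3 q15646 (flp_b L691937) q17766, e3 q15647 L670386 q13460, e3 q15648 L670390 q13396, e3 q15649 (flp_b L692340) q17814, e3 q15650 L670408 q13470, e3 q15651 L670415 q13400, e3 q15652 (flp_b L686721) q17183, e3 q15653 L670431 q15653, e3 q15654 (flp_b L670437) q13403, e3 q15655 (flp_b L686619) q17175, e3 q15656 (flp_b L692362) q17817, e3 q15657 L670472 q15657, e3 q15658 L670488 q13493, e3 q15659 L670492 q13407, e3 q15660 L670501 q13408, e3 q15661 (flp_b L692394) q17820, e3 q15662 (flp_b L692400) q17821, e3 q15663 L670532 q13500, e3 q15664 L670536 q13411, e3 q15665 L670548 q13503, e3 q15666 L670557 q13779, e3 q15667 L692437 q17825, e3 q15668 (flp_b L689001) q17399, e3 q15669 (flp_b L689013) q17400, e3 q15670 (flp_b L689023) q17401, e3 q15671 (flp_b L689032) q17402, e3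 q15672 L692487 q17833, e3 q15673 (flp_b L689051) q17404, e3 q15674 (flp_b L689063) q17405, e3 q15675 (flp_b L670621) q13422, e3 q15676 (flp_b L692539) q17839, e3 q15677 (flp_b L692545) q17840, e3 q15678 (flp_b L689095) q17409, e3 q15679 (flp_b L689107) q17410, trivial⟩ (by decide +kernel)

theorem ce_b_245 : ∀ r, r < 64 → sm gb (Qf (15680 + r)) = Qf (tab Gen.b (15680 + r)) :=
  edges_tab (sm gb) Qf (tab Gen.b) 15680 [(15680, 17411), (15681, 13425), (15682, 17849), (15683, 17850), (15684, 13777), (15685, 17414), (15686, 16339), (15687, 13429), (15688, 13430), (15689, 17855), (15690, 17856), (15691, 17857), (15692, 17420), (15693, 17421), (15694, 17422), (15695, 16340), (15696, 13438), (15697, 13439), (15698, 17457), (15699, 17469), (15700, 17865), (15701, 17427), (15702, 17428), (15703, 17429), (15704, 17189), (15705, 17431), (15706, 17432), (15707, 13445), (15708, 17877), (15709, 17878), (15710, 17436), (15711, 17437), (15712, 17438), (15713, 17803), (15714, 13449), (15715, 13450), (15716, 17888), (15717, 17889), (15718,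 17890), (15719, 17891), (15720, 17446), (15721, 17447), (15722, 17448), (15723, 17810), (15724, 13455), (15725, 13456), (15726, 17905), (15727, 17906), (15728, 17907), (15729, 16749), (15730, 17455), (15731, 17456), (15732, 17308), (15733, 17813), (15734, 13463), (15735, 13464), (15736, 13465), (15737, 17917), (15738, 17918), (15739, 17919), (15740, 17920), (15741, 17466), (15742, 17467), (15743, 17468)]
    ⟨e3 q15680 (flp_b L689113) q17411, e3 q15681 (flp_b L670659) q13425, e3 q15682 (flp_b L692606) q17849, e3 q15683 (flp_b L692618) q17850, e3 q15684 L670689 q13777, e3 q15685 (flp_b L689143) q17414, e3 q15686 (flp_b L677734) q16339, e3 q15687 L670715 q13429, e3 q15688 L670724 q13430, e3 q15689 (flp_b L692665) q17855, e3 q15690 (flp_b L692672) q17856, e3 q15691 (flp_b L692681) q17857, e3 q15692 (flp_b L689211) q17420, e3 q15693 (flp_b L689221) q17421, e3 q15694 (flp_b L689231) q17422, e3 q15695 (flp_b L677748) q16340, e3 q15696 L670785 q13438, e3 q15697 L670793 q13439, e3 q15698 (flp_b L689537) q17457, e3 q15699 (flp_b L689638)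 q17469, e3 q15700 (flp_b L692744) q17865, e3 q15701 (flp_b L689284) q17427, e3 q15702 (flp_b L689295) q17428, e3 q15703 (flp_b L689305) q17429, e3 q15704 (flp_b L686789) q17189, e3 q15705 (flp_b L689321) q17431, e3 q15706 (flp_b L689327) q17432, e3 q15707 (flp_b L670860) q13445, e3 q15708 (flp_b L692825) q17877, e3 q15709 (flp_b L692833) q17878, e3 q15710 (flp_b L689362) q17436, e3 q15711 (flp_b L689374) q17437, e3 q15712 (flp_b L689382) q17438, e3 q15713 (flp_b L692259) q17803, e3 q15714 L670910 q13449, e3 q15715 L670914 q13450, e3 q15716 (flp_b L692905) q17888, e3 q15717 (flp_b L692913) q17889, e3 q15718 (flp_b L692919) q17890, e3 q15719 (flp_b L692925) q17891, e3 q15720 (flp_b L689436) q17446, e3 q15721 (flp_b L689442) q17447, e3 q15722 (flp_b L689450) q17448, e3 q15723 (flp_b L692308) q17810, e3 q15724 L670965 q13455, e3 q15725 L670974 q13456, e3 q15726 (flp_b L693009) q17905, e3 q15727 (flp_b L693017) q17906, e3 q15728 (flp_b L693028) q17907, e3 q15729 (flp_b L682369) q16749, e3 q15730 (flp_b L689514) q17455, e3 q15731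 (flp_b L689524) q17456, e3 q15732 (flp_b L688088) q17308, e3 q15733 (flp_b L692332) q17813, e3 q15734 L671045 q13463, e3 q15735 L671051 q13464, e3 q15736 L671061 q13465, e3 q15737 (flp_b L693107) q17917, e3 q15738 (flp_b L693115) q17918, e3 q15739 (flp_b L693123) q17919, e3 q15740 (flp_b L693131) q17920, e3 q15741 (flp_b L689612) q17466, e3 q15742 (flp_b L689620) q17467, e3 q15743 (flp_b L689630) q17468, trivial⟩ (by decide +kernel)

theorem ce_b_246 : ∀ r, r < 64 → sm gb (Qf (15744 + r)) = Qf (tab Gen.b (15744 + r)) :=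
  edges_tab (sm gb) Qf (tab Gen.b) 15744 [(15744, 17311), (15745, 17815), (15746, 13474), (15747, 13475), (15748, 13476), (15749, 13477), (15750, 17929), (15751, 17930), (15752, 17931), (15753, 17932), (15754, 16269), (15755, 17480), (15756, 17481), (15757, 16748), (15758, 16750), (15759, 17482), (15760, 17139), (15761, 13490), (15762, 13566), (15763, 13498), (15764, 13497), (15765, 17819), (15766, 13496), (15767, 16975), (15768, 17940), (15769, 17939), (15770, 17824), (15771, 13751), (15772, 17181), (15773, 13505), (15774, 16265), (15775, 15775), (15776, 15776), (15777, 15777), (15778, 15778), (15779, 15779), (15780, 16196), (15781, 16210), (15782, 17125), (15783, 17950), (15784, 15784), (15785, 15785), (15786, 13541), (15787, 17956), (15788, 17957), (15789, 15789), (15790, 15790), (15791, 17188), (15792, 15792), (15793, 13546), (15794, 17164), (15795, 17963), (15796, 15796), (15797, 17185), (15798, 13550), (15799, 13551), (15800, 17967), (15801, 17968), (15802, 17192), (15803, 13554), (15804, 17145), (15805, 17007), (15806,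 17008), (15807, 17879)]
    ⟨e3 q15744 (flp_b L688116) q17311, e3 q15745 (flp_b L692348) q17815, e3 q15746 L671129 q13474, e3 q15747 L671135 q13475, e3 q15748 L671144 q13476, e3 q15749 L671151 q13477, e3 q15750 (flp_b L693200) q17929, e3 q15751 (flp_b L693207) q17930, e3 q15752 (flp_b L693215) q17931, e3 q15753 (flp_b L693222) q17932, e3 q15754 (flp_b L676955) q16269, e3 q15755 (flp_b L689729) q17480, e3 q15756 (flp_b L689738) q17481, e3 q15757 (flp_b L682357) q16748, e3 q15758 (flp_b L682378) q16750, e3 q15759 (flp_b L689744) q17482, e3 q15760 (flp_b L686156) q17139, e3 q15761 L671232 q13490, e3 q15762 L671246 q13566, e3 q15763 L671254 q13498, e3 q15764 L671268 q13497, e3 q15765 (flp_b L692387) q17819, e3 q15766 L671290 q13496, e3 q15767 L684669 q16975, e3 q15768 (flp_b L693282) q17940, e3 q15769 (flp_b L693272) q17939, e3 q15770 (flp_b L692427) q17824, e3 q15771 L671329 q13751, e3 q15772 (flp_b L686693) q17181, e3 q15773 L671352 q13505, e3 q15774 (flp_b L676907) q16265, e3 q15775 L671372 q15775, e3 q15776 L671381 q15776,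 e3 q15777 L671392 q15777, e3 q15778 L671399 q15778, e3 q15779 L671409 q15779, e3 q15780 (flp_b L676022) q16196, e3 q15781 (flp_b L676191) q16210, e3 q15782 (flp_b L686011) q17125, e3 q15783 L693351 q17950, e3 q15784 L671447 q15784, e3 q15785 L671456 q15785, e3 q15786 (flp_b L671463) q13541, e3 q15787 (flp_b L693409) q17956, e3 q15788 (flp_b L693416) q17957, e3 q15789 L671483 q15789, e3 q15790 L671491 q15790, e3 q15791 (flp_b L686777) q17188, e3 q15792 L671504 q15792, e3 q15793 (flp_b L671510) q13546, e3 q15794 (flp_b L686487) q17164, e3 q15795 (flp_b L693456) q17963, e3 q15796 L671538 q15796, e3 q15797 (flp_b L686747) q17185, e3 q15798 L671553 q13550, e3 q15799 L671561 q13551, e3 q15800 (flp_b L693488) q17967, e3 q15801 (flp_b L693493) q17968, e3 q15802 (flp_b L686820) q17192, e3 q15803 L671587 q13554, e3 q15804 (flp_b L686231) q17145, e3 q15805 (flp_b L684976) q17007, e3 q15806 (flp_b L684989) q17008, e3 q15807 (flp_b L692843) q17879, trivial⟩ (by decide +kernel)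

theorem ce_b_247 : ∀ r, r < 64 → sm gb (Qf (15808 + r)) = Qf (tab Gen.b (15808 + r)) :=
  edges_tab (sm gb) Qf (tab Gen.b) 15808 [(15808, 13706), (15809, 16261), (15810, 16449), (15811, 13576), (15812, 16433), (15813, 13594), (15814, 13584), (15815, 16486), (15816, 13587), (15817, 17979), (15818, 16106), (15819, 13593), (15820, 16394), (15821, 17982), (15822, 17976), (15823, 13596), (15824, 17983), (15825, 15825), (15826, 13599), (15827, 17986), (15828, 15828), (15829, 15829), (15830, 13602), (15831, 16448), (15832, 15832), (15833, 16639), (15834, 13651), (15835, 13610), (15836, 16602), (15837, 13619), (15838, 13620), (15839, 16604), (15840, 17988), (15841, 15841), (15842, 15842), (15843, 16090), (15844, 16475), (15845, 16423), (15846, 13630), (15847, 13631), (15848, 13632), (15849, 16608), (15850, 16497), (15851, 17992), (15852, 16658), (15853, 13642), (15854, 13643), (15855, 13644), (15856, 16954), (15857, 17994), (15858, 17995), (15859, 13647), (15860, 16727), (15861, 13650), (15862, 18001), (15863, 16549), (15864, 15864),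 (15865, 13653), (15866, 17605), (15867, 13655), (15868, 18004), (15869, 15869), (15870, 15870), (15871, 13660)]
    ⟨e3 q15808 L671619 q13706, e3 q15809 L676872 q16261, e3 q15810 (flp_b L679081) q16449, e3 q15811 L671641 q13576, e3 q15812 (flp_b L678890) q16433, e3 q15813 L671659 q13594, e3 q15814 L671667 q13584, e3 q15815 (flp_b L679511) q16486, e3 q15816 L671686 q13587, e3 q15817 (flp_b L693577) q17979, e3 q15818 (flp_b L674850) q16106, e3 q15819 L671710 q13593, e3 q15820 (flp_b L678332) q16394, e3 q15821 (flp_b L693602) q17982, e3 q15822 (flp_b L693548) q17976, e3 q15823 L671750 q13596, e3 q15824 (flp_b L693614) q17983, e3 q15825 L671771 q15825, e3 q15826 L671777 q13599, e3 q15827 (flp_b L693658) q17986, e3 q15828 L671796 q15828, e3 q15829 L671809 q15829, e3 q15830 L671812 q13602, e3 q15831 (flp_b L679064) q16448, e3 q15832 L671830 q15832, e3 q15833 (flp_b L681216) q16639, e3 q15834 L671847 q13651, e3 q15835 L671854 q13610, e3 q15836 (flp_b L680913) q16602, e3 q15837 L671866 q13619, e3 q15838 L671871 q13620, e3 q15839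 (flp_b L680936) q16604, e3 q15840 (flp_b L693679) q17988, e3 q15841 L671892 q15841, e3 q15842 L671901 q15842, e3 q15843 (flp_b L674613) q16090, e3 q15844 (flp_b L679394) q16475, e3 q15845 (flp_b L678750) q16423, e3 q15846 L671931 q13630, e3 q15847 L671939 q13631, e3 q15848 L671946 q13632, e3 q15849 (flp_b L680974) q16608, e3 q15850 (flp_b L679643) q16497, e3 q15851 (flp_b L693709) q17992, e3 q15852 (flp_b L681430) q16658, e3 q15853 L671974 q13642, e3 q15854 L671979 q13643, e3 q15855 L671988 q13644, e3 q15856 (flp_b L684443) q16954, e3 q15857 (flp_b L693717) q17994, e3 q15858 (flp_b L693724) q17995, e3 q15859 L672019 q13647, e3 q15860 (flp_b L682149) q16727, e3 q15861 L672037 q13650, e3 q15862 (flp_b L693764) q18001, e3 q15863 (flp_b L680260) q16549, e3 q15864 L672058 q15864, e3 q15865 L672063 q13653, e3 q15866 (flp_b L690750) q17605, e3 q15867 L672073 q13655, e3 q15868 (flp_b L693780) q18004, e3 q15869 L672094 q15869, e3 q15870 L672102 q15870, e3 q15871 L672109 q13660, trivial⟩ (by decide +kernel)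

theorem ce_b_248 : ∀ r, r < 64 → sm gb (Qf (15872 + r)) = Qf (tab Gen.b (15872 + r)) :=
  edges_tab (sm gb) Qf (tab Gen.b) 15872 [(15872, 13661), (15873, 18008), (15874, 15874), (15875, 13664), (15876, 18011), (15877, 15877), (15878, 15878), (15879, 13667), (15880, 18013), (15881, 16560), (15882, 15882), (15883, 15883), (15884, 13671), (15885, 15995), (15886, 13703), (15887, 13673), (15888, 18015), (15889, 13713), (15890, 13676), (15891, 18018), (15892, 13722), (15893, 13680), (15894, 18021), (15895, 13735), (15896, 13683), (15897, 16375), (15898, 13685), (15899, 13694), (15900, 13689), (15901, 13690), (15902, 13691), (15903, 17073), (15904, 18023), (15905, 18017), (15906, 18014), (15907, 13697), (15908, 16372), (15909, 13729), (15910, 16369), (15911, 13707), (15912, 13708), (15913, 13709), (15914, 17974), (15915, 16984), (15916, 17944), (15917, 18030), (15918, 18031), (15919, 18032), (15920, 13718), (15921, 15921), (15922, 15922), (15923, 15923), (15924, 17317), (15925, 13716), (15926, 13717), (15927, 18046), (15928, 18041),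 (15929, 15929), (15930, 17314), (15931, 17320), (15932, 18020), (15933, 13726), (15934, 13727), (15935, 13728)]
    ⟨e3 q15872 L672117 q13661, e3 q15873 (flp_b L693817) q18008, e3 q15874 L672135 q15874, e3 q15875 L672141 q13664, e3 q15876 (flp_b L693854) q18011, e3 q15877 L672159 q15877, e3 q15878 L672170 q15878, e3 q15879 L672173 q13667, e3 q15880 (flp_b L693875) q18013, e3 q15881 (flp_b L680406) q16560, e3 q15882 L672196 q15882, e3 q15883 L672201 q15883, e3 q15884 L672208 q13671, e3 q15885 (flp_b L673250) q15995, e3 q15886 L672231 q13703, e3 q15887 L672235 q13673, e3 q15888 (flp_b L693894) q18015, e3 q15889 L672262 q13713, e3 q15890 L672266 q13676, e3 q15891 (flp_b L693928) q18018, e3 q15892 L672287 q13722, e3 q15893 L672295 q13680, e3 q15894 (flp_b L693958) q18021, e3 q15895 L672314 q13735, e3 q15896 L672321 q13683, e3 q15897 (flp_b L678114) q16375, e3 q15898 L672341 q13685, e3 q15899 L672356 q13694, e3 q15900 L672368 q13689, e3 q15901 L672373 q13690, e3 q15902 L672383 q13691, e3 q15903 (flp_b L685574) q17073, e3 q15904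 (flp_b L693977) q18023, e3 q15905 (flp_b L693917) q18017, e3 q15906 (flp_b L693883) q18014, e3 q15907 L672433 q13697, e3 q15908 (flp_b L678088) q16372, e3 q15909 L672450 q13729, e3 q15910 (flp_b L678059) q16369, e3 q15911 L672474 q13707, e3 q15912 L672484 q13708, e3 q15913 L672494 q13709, e3 q15914 (flp_b L693532) q17974, e3 q15915 (flp_b L684747) q16984, e3 q15916 (flp_b L693306) q17944, e3 q15917 (flp_b L694033) q18030, e3 q15918 (flp_b L694042) q18031, e3 q15919 (flp_b L694053) q18032, e3 q15920 L672548 q13718, e3 q15921 L672561 q15921, e3 q15922 L672569 q15922, e3 q15923 L672577 q15923, e3 q15924 (flp_b L688183) q17317, e3 q15925 L672596 q13716, e3 q15926 L672606 q13717, e3 q15927 (flp_b L694162) q18046, e3 q15928 (flp_b L694113) q18041, e3 q15929 L672634 q15929, e3 q15930 (flp_b L688154) q17314, e3 q15931 (flp_b L688212) q17320, e3 q15932 (flp_b L693951) q18020, e3 q15933 L672665 q13726, e3 q15934 L672673 q13727, e3 q15935 L672680 q13728, trivial⟩ (by decide +kernel)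

theorem ce_b_249 : ∀ r, r < 64 → sm gb (Qf (15936 + r)) = Qf (tab Gen.b (15936 + r)) :=
  edges_tab (sm gb) Qf (tab Gen.b) 15936 [(15936, 17955), (15937, 18051), (15938, 18052), (15939, 18053), (15940, 16285), (15941, 15941), (15942, 15942), (15943, 13790), (15944, 16207), (15945, 17323), (15946, 13740), (15947, 13741), (15948, 13742), (15949, 13743), (15950, 18061), (15951, 18062), (15952, 18063), (15953, 16286), (15954, 15954), (15955, 16985), (15956, 17910), (15957, 16283), (15958, 17142), (15959, 16362), (15960, 17344), (15961, 16176), (15962, 16905), (15963, 13776), (15964, 18070), (15965, 17853), (15966, 17016), (15967, 17780), (15968, 17784), (15969, 16552), (15970, 15970), (15971, 16203), (15972, 16217), (15973, 18059), (15974, 15974), (15975, 13793), (15976, 18076), (15977, 15977), (15978, 15978), (15979, 15979), (15980, 14376), (15981, 15092), (15982, 15551), (15983, 15983), (15984, 15984), (15985, 15985), (15986, 15986), (15987, 15987), (15988, 15988), (15989, 15989), (15990, 14075), (15991, 13816), (15992, 14373),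 (15993, 14917), (15994, 14201), (15995, 15885), (15996, 15996), (15997, 15997), (15998, 15998), (15999, 15999)]
    ⟨e3 q15936 (flp_b L693405) q17955, e3 q15937 (flp_b L694205) q18051, e3 q15938 (flp_b L694214) q18052, e3 q15939 (flp_b L694222) q18053, e3 q15940 (flp_b L677162) q16285, e3 q15941 L672725 q15941, e3 q15942 L672734 q15942, e3 q15943 L672744 q13790, e3 q15944 (flp_b L676155) q16207, e3 q15945 (flp_b L688244) q17323, e3 q15946 L672773 q13740, e3 q15947 L672781 q13741, e3 q15948 L672789 q13742, e3 q15949 L672799 q13743, e3 q15950 (flp_b L694288) q18061, e3 q15951 (flp_b L694297) q18062, e3 q15952 (flp_b L694306) q18063, e3 q15953 (flp_b L677177) q16286, e3 q15954 L672833 q15954, e3 q15955 (flp_b L684761) q16985, e3 q15956 (flp_b L693056) q17910, e3 q15957 (flp_b L677130) q16283, e3 q15958 (flp_b L686196) q17142, e3 q15959 (flp_b L677972) q16362, e3 q15960 (flp_b L688466) q17344, e3 q15961 (flp_b L675774) q16176, e3 q15962 (flp_b L683901) q16905, e3 q15963 (flp_b L672884) q13776, e3 q15964 (flp_b L694350) q18070,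 e3 q15965 (flp_b L692646) q17853, e3 q15966 (flp_b L685087) q17016, e3 q15967 (flp_b L692045) q17780, e3 q15968 (flp_b L692088) q17784, e3 q15969 (flp_b L680303) q16552, e3 q15970 L672929 q15970, e3 q15971 (flp_b L676107) q16203, e3 q15972 (flp_b L676287) q16217, e3 q15973 (flp_b L694266) q18059, e3 q15974 L672958 q15974, e3 q15975 L672965 q13793, e3 q15976 (flp_b L694394) q18076, e3 q15977 L672981 q15977, e3 q15978 L672995 q15978, e3 q15979 L673009 q15979, e3 q15980 L673022 q14376, e3 q15981 L673038 q15092, e3 q15982 L673055 q15551, e3 q15983 L673074 q15983, e3 q15984 L673090 q15984, e3 q15985 L673107 q15985, e3 q15986 L673125 q15986, e3 q15987 L673138 q15987, e3 q15988 L673150 q15988, e3 q15989 L673164 q15989, e3 q15990 L673175 q14075, e3 q15991 L673190 q13816, e3 q15992 L673208 q14373, e3 q15993 L673223 q14917, e3 q15994 L673236 q14201, e3 q15995 L673250 q15885, e3 q15996 L673264 q15996, e3 q15997 L673278 q15997, e3 q15998 L673293 q15998, e3 q15999 L673309 q15999, trivial⟩ (by decide +kernel)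

theorem ce_b_250 : ∀ r, r < 64 → sm gb (Qf (16000 + r)) = Qf (tab Gen.b (16000 + r)) :=
  edges_tab (sm gb) Qf (tab Gen.b) 16000 [(16000, 16000), (16001, 16001), (16002, 16002), (16003, 16003), (16004, 16004), (16005, 18086), (16006, 13829), (16007, 18099), (16008, 13832), (16009, 16009), (16010, 13834), (16011, 18101), (16012, 16012), (16013, 13837), (16014, 18103), (16015, 16015), (16016, 13841), (16017, 18106), (16018, 16018), (16019, 13844), (16020, 18089), (16021, 14248), (16022, 14249), (16023, 14252), (16024, 14253), (16025, 14254), (16026, 14320), (16027, 14256), (16028, 14257), (16029, 14258), (16030, 14243), (16031, 14260), (16032, 14262), (16033, 14263), (16034, 14321), (16035, 13875), (16036, 13876), (16037, 13879), (16038, 18118), (16039, 14213), (16040, 14237), (16041, 14238), (16042, 14313), (16043, 14314), (16044, 14315), (16045, 14317), (16046, 14318), (16047, 14326), (16048, 15316), (16049, 14330), (16050, 14331), (16051, 14332), (16052, 14335), (16053, 14336), (16054, 14337), (16055, 14338), (16056, 14339),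 (16057, 14340), (16058, 14422), (16059, 14423), (16060, 14425), (16061, 14426), (16062, 18137), (16063, 14428)]
    ⟨e3 q16000 L673322 q16000, e3 q16001 L673335 q16001, e3 q16002 L673348 q16002, e3 q16003 L673357 q16003, e3 q16004 L673365 q16004, e3 q16005 (flp_b L694548) q18086, e3 q16006 L673385 q13829, e3 q16007 (flp_b L694746) q18099, e3 q16008 L673420 q13832, e3 q16009 L673444 q16009, e3 q16010 L673447 q13834, e3 q16011 (flp_b L694778) q18101, e3 q16012 L673487 q16012, e3 q16013 L673490 q13837, e3 q16014 (flp_b L694809) q18103, e3 q16015 L673519 q16015, e3 q16016 L673529 q13841, e3 q16017 (flp_b L694848) q18106, e3 q16018 L673552 q16018, e3 q16019 L673562 q13844, e3 q16020 (flp_b L694596) q18089, e3 q16021 L673585 q14248, e3 q16022 L673601 q14249, e3 q16023 L673618 q14252, e3 q16024 L673638 q14253, e3 q16025 L673654 q14254, e3 q16026 (flp_b L673682) q14320, e3 q16027 L673688 q14256, e3 q16028 L673700 q14257, e3 q16029 L673712 q14258, e3 q16030 L673729 q14243, e3 q16031 L673743 q14260, e3 q16032 L673759 q14262, e3 q16033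 L673772 q14263, e3 q16034 L673788 q14321, e3 q16035 L673805 q13875, e3 q16036 L673823 q13876, e3 q16037 L673840 q13879, e3 q16038 (flp_b L695034) q18118, e3 q16039 L673874 q14213, e3 q16040 L673890 q14237, e3 q16041 L673906 q14238, e3 q16042 L673922 q14313, e3 q16043 L673941 q14314, e3 q16044 L673959 q14315, e3 q16045 L673976 q14317, e3 q16046 L673993 q14318, e3 q16047 L674007 q14326, e3 q16048 L674023 q15316, e3 q16049 L674041 q14330, e3 q16050 L674057 q14331, e3 q16051 L674071 q14332, e3 q16052 L674081 q14335, e3 q16053 L674096 q14336, e3 q16054 L674110 q14337, e3 q16055 L674125 q14338, e3 q16056 L674141 q14339, e3 q16057 L674154 q14340, e3 q16058 L674169 q14422, e3 q16059 L674189 q14423, e3 q16060 L674205 q14425, e3 q16061 L674219 q14426, e3 q16062 L695344 q18137, e3 q16063 L674250 q14428, trivial⟩ (by decide +kernel)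

theorem ce_b_251 : ∀ r, r < 64 → sm gb (Qf (16064 + r)) = Qf (tab Gen.b (16064 + r)) :=
  edges_tab (sm gb) Qf (tab Gen.b) 16064 [(16064, 14429), (16065, 14430), (16066, 14431), (16067, 14432), (16068, 14433), (16069, 14434), (16070, 14435), (16071, 18148), (16072, 14437), (16073, 14438), (16074, 13906), (16075, 18155), (16076, 18156), (16077, 14443), (16078, 14444), (16079, 14416), (16080, 14445), (16081, 14446), (16082, 14447), (16083, 14448), (16084, 14451), (16085, 13926), (16086, 14558), (16087, 13927), (16088, 13921), (16089, 18167), (16090, 15843), (16091, 13924), (16092, 18169), (16093, 16093), (16094, 13929), (16095, 16095), (16096, 13932), (16097, 13945), (16098, 13946), (16099, 13947), (16100, 13948), (16101, 13949), (16102, 13950), (16103, 13951), (16104, 13953), (16105, 13954), (16106, 15818), (16107, 18172), (16108, 18173), (16109, 18174), (16110, 14404), (16111, 18175), (16112, 18176), (16113, 14407), (16114, 14409), (16115, 18177), (16116, 14366), (16117, 14408), (16118, 14410), (16119, 14544), (16120, 14545),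 (16121, 14546), (16122, 14547), (16123, 14548), (16124, 14550), (16125, 14551), (16126, 14555), (16127, 14556)]
    ⟨e3 q16064 L674261 q14429, e3 q16065 L674273 q14430, e3 q16066 L674293 q14431, e3 q16067 L674309 q14432, e3 q16068 L674319 q14433, e3 q16069 L674335 q14434, e3 q16070 L674349 q14435, e3 q16071 L695513 q18148, e3 q16072 L674377 q14437, e3 q16073 L674387 q14438, e3 q16074 (flp_b L674393) q13906, e3 q16075 (flp_b L695604) q18155, e3 q16076 (flp_b L695617) q18156, e3 q16077 L674426 q14443, e3 q16078 L674438 q14444, e3 q16079 L674448 q14416, e3 q16080 L674460 q14445, e3 q16081 L674477 q14446, e3 q16082 L674489 q14447, e3 q16083 L674500 q14448, e3 q16084 L674516 q14451, e3 q16085 L674528 q13926, e3 q16086 L674556 q14558, e3 q16087 L674562 q13927, e3 q16088 (flp_b L674576) q13921, e3 q16089 (flp_b L695762) q18167, e3 q16090 L674613 q15843, e3 q16091 L674617 q13924, e3 q16092 (flp_b L695790) q18169, e3 q16093 L674656 q16093, e3 q16094 L674659 q13929, e3 q16095 L674676 q16095, e3 q16096 L674686 q13932, e3 q16097 L674703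 q13945, e3 q16098 L674722 q13946, e3 q16099 L674741 q13947, e3 q16100 L674756 q13948, e3 q16101 L674772 q13949, e3 q16102 L674787 q13950, e3 q16103 L674805 q13951, e3 q16104 L674817 q13953, e3 q16105 L674833 q13954, e3 q16106 L674850 q15818, e3 q16107 (flp_b L695841) q18172, e3 q16108 (flp_b L695857) q18173, e3 q16109 (flp_b L695874) q18174, e3 q16110 L674911 q14404, e3 q16111 (flp_b L695890) q18175, e3 q16112 (flp_b L695908) q18176, e3 q16113 L674953 q14407, e3 q16114 L674968 q14409, e3 q16115 (flp_b L695922) q18177, e3 q16116 L674999 q14366, e3 q16117 L675016 q14408, e3 q16118 L675028 q14410, e3 q16119 L675043 q14544, e3 q16120 L675059 q14545, e3 q16121 L675073 q14546, e3 q16122 L675087 q14547, e3 q16123 L675103 q14548, e3 q16124 L675118 q14550, e3 q16125 L675133 q14551, e3 q16126 L675145 q14555, e3 q16127 L675160 q14556, trivial⟩ (by decide +kernel)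

theorem ce_b_252 : ∀ r, r < 64 → sm gb (Qf (16128 + r)) = Qf (tab Gen.b (16128 + r)) :=
  edges_tab (sm gb) Qf (tab Gen.b) 16128 [(16128, 14557), (16129, 14559), (16130, 14560), (16131, 15398), (16132, 14562), (16133, 14563), (16134, 14566), (16135, 15403), (16136, 14570), (16137, 14571), (16138, 14572), (16139, 13979), (16140, 14396), (16141, 15371), (16142, 18211), (16143, 14579), (16144, 14580), (16145, 14581), (16146, 14585), (16147, 14586), (16148, 14587), (16149, 14588), (16150, 14589), (16151, 14590), (16152, 14591), (16153, 14592), (16154, 14593), (16155, 15399), (16156, 14667), (16157, 14668), (16158, 14669), (16159, 14670), (16160, 14671), (16161, 14672), (16162, 14673), (16163, 14674), (16164, 15171), (16165, 14675), (16166, 14676), (16167, 15177), (16168, 14677), (16169, 14678), (16170, 14679), (16171, 14680), (16172, 14681), (16173, 18250), (16174, 14683), (16175, 14684), (16176, 15961), (16177, 14686), (16178, 14687), (16179, 14013), (16180, 15157), (16181, 18261), (16182, 14691), (16183, 14692), (16184, 14693),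 (16185, 14018), (16186, 15159), (16187, 18267), (16188, 14699), (16189, 14700), (16190, 14701), (16191, 14702)]
    ⟨e3 q16128 L675171 q14557, e3 q16129 L675183 q14559, e3 q16130 L675195 q14560, e3 q16131 (flp_b L675219) q15398, e3 q16132 L675223 q14562, e3 q16133 L675231 q14563, e3 q16134 L675243 q14566, e3 q16135 L675259 q15403, e3 q16136 L675275 q14570, e3 q16137 L675287 q14571, e3 q16138 L675301 q14572, e3 q16139 L675309 q13979, e3 q16140 L675327 q14396, e3 q16141 L675343 q15371, e3 q16142 (flp_b L696429) q18211, e3 q16143 L675369 q14579, e3 q16144 L675377 q14580, e3 q16145 L675387 q14581, e3 q16146 L675395 q14585, e3 q16147 L675408 q14586, e3 q16148 L675422 q14587, e3 q16149 L675437 q14588, e3 q16150 L675448 q14589, e3 q16151 L675458 q14590, e3 q16152 L675469 q14591, e3 q16153 L675474 q14592, e3 q16154 L675488 q14593, e3 q16155 L675503 q15399, e3 q16156 L675521 q14667, e3 q16157 L675537 q14668, e3 q16158 L675549 q14669, e3 q16159 L675565 q14670, e3 q16160 L675576 q14671, e3 q16161 L675588 q14672, e3 q16162 L675601 q14673,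 e3 q16163 L675612 q14674, e3 q16164 L675629 q15171, e3 q16165 L675638 q14675, e3 q16166 L675651 q14676, e3 q16167 L675661 q15177, e3 q16168 L675675 q14677, e3 q16169 L675689 q14678, e3 q16170 L675702 q14679, e3 q16171 L675717 q14680, e3 q16172 L675727 q14681, e3 q16173 L696934 q18250, e3 q16174 L675751 q14683, e3 q16175 L675759 q14684, e3 q16176 L675774 q15961, e3 q16177 L675782 q14686, e3 q16178 L675793 q14687, e3 q16179 (flp_b L675800) q14013, e3 q16180 L675820 q15157, e3 q16181 (flp_b L697067) q18261, e3 q16182 L675843 q14691, e3 q16183 L675853 q14692, e3 q16184 L675865 q14693, e3 q16185 L675875 q14018, e3 q16186 L675890 q15159, e3 q16187 (flp_b L697139) q18267, e3 q16188 L675913 q14699, e3 q16189 L675924 q14700, e3 q16190 L675934 q14701, e3 q16191 L675946 q14702, trivial⟩ (by decide +kernel)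

theorem ce_b_253 : ∀ r, r < 64 → sm gb (Qf (16192 + r)) = Qf (tab Gen.b (16192 + r)) :=
  edges_tab (sm gb) Qf (tab Gen.b) 16192 [(16192, 14704), (16193, 14705), (16194, 14709), (16195, 14041), (16196, 15780), (16197, 14043), (16198, 14030), (16199, 18279), (16200, 18280), (16201, 14047), (16202, 14048), (16203, 15971), (16204, 14050), (16205, 14036), (16206, 18286), (16207, 15944), (16208, 14040), (16209, 18289), (16210, 15781), (16211, 18278), (16212, 14045), (16213, 14046), (16214, 18292), (16215, 18293), (16216, 18284), (16217, 15972), (16218, 14052), (16219, 18297), (16220, 16220), (16221, 14055), (16222, 14628), (16223, 14077), (16224, 14078), (16225, 14079), (16226, 14080), (16227, 14081), (16228, 14084), (16229, 14085), (16230, 14086), (16231, 14087), (16232, 14088), (16233, 14089), (16234, 14090), (16235, 14755), (16236, 14092), (16237, 14093), (16238, 14757), (16239, 14096), (16240, 14097), (16241, 14098), (16242, 14099), (16243, 14100), (16244, 15143), (16245, 14103), (16246, 15562), (16247, 18299), (16248, 18300),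 (16249, 18301), (16250, 18302), (16251, 18303), (16252, 14769), (16253, 14743), (16254, 18304), (16255, 14775)]
    ⟨e3 q16192 L675961 q14704, e3 q16193 L675972 q14705, e3 q16194 L675984 q14709, e3 q16195 L675996 q14041, e3 q16196 L676022 q15780, e3 q16197 L676028 q14043, e3 q16198 (flp_b L676040) q14030, e3 q16199 (flp_b L697297) q18279, e3 q16200 (flp_b L697311) q18280, e3 q16201 L676079 q14047, e3 q16202 L676094 q14048, e3 q16203 L676107 q15971, e3 q16204 L676119 q14050, e3 q16205 L676132 q14036, e3 q16206 (flp_b L697389) q18286, e3 q16207 L676155 q15944, e3 q16208 L676169 q14040, e3 q16209 (flp_b L697429) q18289, e3 q16210 L676191 q15781, e3 q16211 (flp_b L697280) q18278, e3 q16212 L676223 q14045, e3 q16213 L676237 q14046, e3 q16214 (flp_b L697472) q18292, e3 q16215 (flp_b L697487) q18293, e3 q16216 (flp_b L697360) q18284, e3 q16217 L676287 q15972, e3 q16218 L676300 q14052, e3 q16219 (flp_b L697548) q18297, e3 q16220 L676322 q16220, e3 q16221 L676336 q14055, e3 q16222 L676351 q14628, e3 q16223 L676366 q14077, e3 q16224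 L676384 q14078, e3 q16225 L676398 q14079, e3 q16226 L676410 q14080, e3 q16227 L676424 q14081, e3 q16228 L676437 q14084, e3 q16229 L676452 q14085, e3 q16230 L676468 q14086, e3 q16231 L676481 q14087, e3 q16232 L676491 q14088, e3 q16233 L676504 q14089, e3 q16234 L676515 q14090, e3 q16235 L676533 q14755, e3 q16236 L676542 q14092, e3 q16237 L676558 q14093, e3 q16238 L676568 q14757, e3 q16239 L676582 q14096, e3 q16240 L676597 q14097, e3 q16241 L676608 q14098, e3 q16242 L676623 q14099, e3 q16243 L676637 q14100, e3 q16244 L676654 q15143, e3 q16245 L676670 q14103, e3 q16246 L676684 q15562, e3 q16247 (flp_b L697582) q18299, e3 q16248 (flp_b L697598) q18300, e3 q16249 (flp_b L697612) q18301, e3 q16250 (flp_b L697628) q18302, e3 q16251 (flp_b L697643) q18303, e3 q16252 L676756 q14769, e3 q16253 L676765 q14743, e3 q16254 (flp_b L697657) q18304, e3 q16255 L676788 q14775, trivial⟩ (by decide +kernel)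

theorem ce_b_254 : ∀ r, r < 64 → sm gb (Qf (16256 + r)) = Qf (tab Gen.b (16256 + r)) :=
  edges_tab (sm gb) Qf (tab Gen.b) 16256 [(16256, 14745), (16257, 18305), (16258, 18306), (16259, 18307), (16260, 18308), (16261, 15809), (16262, 18310), (16263, 18311), (16264, 18313), (16265, 15774), (16266, 18315), (16267, 18316), (16268, 18317), (16269, 15754), (16270, 14655), (16271, 14657), (16272, 18319), (16273, 14661), (16274, 18320), (16275, 18321), (16276, 14659), (16277, 14662), (16278, 14664), (16279, 18322), (16280, 14660), (16281, 14663), (16282, 16282), (16283, 15957), (16284, 16284), (16285, 15940), (16286, 15953), (16287, 14798), (16288, 14799), (16289, 14800), (16290, 14801), (16291, 14802), (16292, 14803), (16293, 18376), (16294, 14805), (16295, 14806), (16296, 18382), (16297, 14808), (16298, 14809), (16299, 14122), (16300, 14840), (16301, 18387), (16302, 14813), (16303, 14814), (16304, 14815), (16305, 14127), (16306, 14849), (16307, 18394), (16308, 14820), (16309, 14821), (16310, 14822), (16311, 14823), (16312, 14824),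 (16313, 18403), (16314, 14826), (16315, 14827), (16316, 14134), (16317, 18410), (16318, 18411), (16319, 14831)]
    ⟨e3 q16256 L676802 q14745, e3 q16257 (flp_b L697671) q18305, e3 q16258 (flp_b L697688) q18306, e3 q16259 (flp_b L697702) q18307, e3 q16260 (flp_b L697712) q18308, e3 q16261 (flp_b L676872) q15809, e3 q16262 (flp_b L697740) q18310, e3 q16263 (flp_b L697748) q18311, e3 q16264 (flp_b L697774) q18313, e3 q16265 L676907 q15774, e3 q16266 (flp_b L697800) q18315, e3 q16267 (flp_b L697816) q18316, e3 q16268 (flp_b L697832) q18317, e3 q16269 L676955 q15754, e3 q16270 L676968 q14655, e3 q16271 L676982 q14657, e3 q16272 (flp_b L697857) q18319, e3 q16273 L677006 q14661, e3 q16274 (flp_b L697872) q18320, e3 q16275 (flp_b L697888) q18321, e3 q16276 L677044 q14659, e3 q16277 L677056 q14662, e3 q16278 L677068 q14664, e3 q16279 (flp_b L697903) q18322, e3 q16280 L677092 q14660, e3 q16281 L677103 q14663, e3 q16282 L677114 q16282, e3 q16283 L677130 q15957, e3 q16284 L677146 q16284, e3 q16285 L677162 q15940, e3 q16286 L677177 q15953,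 e3 q16287 L677189 q14798, e3 q16288 L677201 q14799, e3 q16289 L677210 q14800, e3 q16290 L677220 q14801, e3 q16291 L677232 q14802, e3 q16292 L677242 q14803, e3 q16293 L698586 q18376, e3 q16294 L677260 q14805, e3 q16295 L677268 q14806, e3 q16296 L698642 q18382, e3 q16297 L677292 q14808, e3 q16298 L677304 q14809, e3 q16299 (flp_b L677311) q14122, e3 q16300 L677328 q14840, e3 q16301 (flp_b L698708) q18387, e3 q16302 L677349 q14813, e3 q16303 L677356 q14814, e3 q16304 L677365 q14815, e3 q16305 L677375 q14127, e3 q16306 L677389 q14849, e3 q16307 (flp_b L698791) q18394, e3 q16308 L677413 q14820, e3 q16309 L677426 q14821, e3 q16310 L677438 q14822, e3 q16311 L677447 q14823, e3 q16312 L677456 q14824, e3 q16313 L698896 q18403, e3 q16314 L677477 q14826, e3 q16315 L677483 q14827, e3 q16316 (flp_b L677491) q14134, e3 q16317 (flp_b L698976) q18410, e3 q16318 (flp_b L698984) q18411, e3 q16319 L677519 q14831, trivial⟩ (by decide +kernel)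

theorem ce_b_255 : ∀ r, r < 64 → sm gb (Qf (16320 + r)) = Qf (tab Gen.b (16320 + r)) :=
  edges_tab (sm gb) Qf (tab Gen.b) 16320 [(16320, 14832), (16321, 14833), (16322, 14137), (16323, 18420), (16324, 14837), (16325, 14838), (16326, 14839), (16327, 14811), (16328, 14141), (16329, 14142), (16330, 18426), (16331, 18427), (16332, 18428), (16333, 14846), (16334, 14847), (16335, 14848), (16336, 14818), (16337, 14150), (16338, 14151), (16339, 15686), (16340, 15695), (16341, 18438), (16342, 18439), (16343, 14857), (16344, 14858), (16345, 14859), (16346, 14860), (16347, 14861), (16348, 14862), (16349, 14863), (16350, 14864), (16351, 14865), (16352, 14866), (16353, 14867), (16354, 14868), (16355, 14869), (16356, 14870), (16357, 18459), (16358, 14872), (16359, 14168), (16360, 18461), (16361, 14186), (16362, 15959), (16363, 14171), (16364, 14172), (16365, 18465), (16366, 18466), (16367, 18467), (16368, 14192), (16369, 15910), (16370, 14176), (16371, 18473), (16372, 15908), (16373, 14180), (16374, 18476), (16375, 15897), (16376, 14183),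 (16377, 18478), (16378, 16378), (16379, 14185), (16380, 18481), (16381, 16381), (16382, 16382), (16383, 14190)]
    ⟨e3 q16320 L677525 q14832, e3 q16321 L677533 q14833, e3 q16322 (flp_b L677539) q14137, e3 q16323 (flp_b L699077) q18420, e3 q16324 L677567 q14837, e3 q16325 L677579 q14838, e3 q16326 L677592 q14839, e3 q16327 L677607 q14811, e3 q16328 L677615 q14141, e3 q16329 L677629 q14142, e3 q16330 (flp_b L699155) q18426, e3 q16331 (flp_b L699171) q18427, e3 q16332 (flp_b L699185) q18428, e3 q16333 L677669 q14846, e3 q16334 L677677 q14847, e3 q16335 L677685 q14848, e3 q16336 L677695 q14818, e3 q16337 L677710 q14150, e3 q16338 L677723 q14151, e3 q16339 L677734 q15686, e3 q16340 L677748 q15695, e3 q16341 (flp_b L699288) q18438, e3 q16342 (flp_b L699303) q18439, e3 q16343 L677779 q14857, e3 q16344 L677788 q14858, e3 q16345 L677798 q14859, e3 q16346 L677807 q14860, e3 q16347 L677816 q14861, e3 q16348 L677828 q14862, e3 q16349 L677842 q14863, e3 q16350 L677854 q14864, e3 q16351 L677861 q14865, e3 q16352 L677869 q14866, e3 q16353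 L677876 q14867, e3 q16354 L677883 q14868, e3 q16355 L677892 q14869, e3 q16356 L677901 q14870, e3 q16357 L699518 q18459, e3 q16358 L677917 q14872, e3 q16359 (flp_b L677927) q14168, e3 q16360 (flp_b L699547) q18461, e3 q16361 L677954 q14186, e3 q16362 L677972 q15959, e3 q16363 L677976 q14171, e3 q16364 L677989 q14172, e3 q16365 (flp_b L699599) q18465, e3 q16366 (flp_b L699611) q18466, e3 q16367 (flp_b L699625) q18467, e3 q16368 L678036 q14192, e3 q16369 L678059 q15910, e3 q16370 L678063 q14176, e3 q16371 (flp_b L699698) q18473, e3 q16372 L678088 q15908, e3 q16373 L678098 q14180, e3 q16374 (flp_b L699731) q18476, e3 q16375 L678114 q15897, e3 q16376 L678126 q14183, e3 q16377 (flp_b L699749) q18478, e3 q16378 L678153 q16378, e3 q16379 L678156 q14185, e3 q16380 (flp_b L699788) q18481, e3 q16381 L678182 q16381, e3 q16382 L678196 q16382, e3 q16383 L678205 q14190, trivial⟩ (by decide +kernel)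

theorem ce_b_256 : ∀ r, r < 64 → sm gb (Qf (16384 + r)) = Qf (tab Gen.b (16384 + r)) :=
  edges_tab (sm gb) Qf (tab Gen.b) 16384 [(16384, 14191), (16385, 18485), (16386, 18486), (16387, 16387), (16388, 14195), (16389, 18488), (16390, 16390), (16391, 14198), (16392, 18088), (16393, 14218), (16394, 15820), (16395, 16395), (16396, 16396), (16397, 16397), (16398, 16398), (16399, 18120), (16400, 14221), (16401, 14351), (16402, 18490), (16403, 14220), (16404, 18495), (16405, 14230), (16406, 14231), (16407, 14232), (16408, 14233), (16409, 14234), (16410, 14235), (16411, 14290), (16412, 14291), (16413, 15324), (16414, 15325), (16415, 14286), (16416, 14287), (16417, 18496), (16418, 18497), (16419, 18498), (16420, 18110), (16421, 15338), (16422, 18499), (16423, 15845), (16424, 15355), (16425, 18121), (16426, 16426), (16427, 16427), (16428, 16428), (16429, 16429), (16430, 18116), (16431, 16431), (16432, 15347), (16433, 15812), (16434, 18516), (16435, 18108), (16436, 18109), (16437, 15005), (16438, 14994), (16439, 15006), (16440, 15466),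 (16441, 15019), (16442, 18111), (16443, 14255), (16444, 18524), (16445, 14296), (16446, 18114), (16447, 18115)]
    ⟨e3 q16384 L678219 q14191, e3 q16385 (flp_b L699840) q18485, e3 q16386 (flp_b L699855) q18486, e3 q16387 L678258 q16387, e3 q16388 L678266 q14195, e3 q16389 (flp_b L699877) q18488, e3 q16390 L678285 q16390, e3 q16391 L678291 q14198, e3 q16392 (flp_b L694579) q18088, e3 q16393 L678314 q14218, e3 q16394 L678332 q15820, e3 q16395 L678347 q16395, e3 q16396 L678363 q16396, e3 q16397 L678378 q16397, e3 q16398 L678391 q16398, e3 q16399 (flp_b L695070) q18120, e3 q16400 L678419 q14221, e3 q16401 L678431 q14351, e3 q16402 (flp_b L699904) q18490, e3 q16403 L678464 q14220, e3 q16404 (flp_b L699989) q18495, e3 q16405 L678493 q14230, e3 q16406 L678510 q14231, e3 q16407 L678523 q14232, e3 q16408 L678539 q14233, e3 q16409 L678554 q14234, e3 q16410 L678570 q14235, e3 q16411 L678584 q14290, e3 q16412 L678602 q14291, e3 q16413 L678616 q15324, e3 q16414 L678628 q15325, e3 q16415 L678642 q14286, e3 q16416 L678659 q14287, e3 q16417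 (flp_b L700007) q18496, e3 q16418 (flp_b L700026) q18497, e3 q16419 (flp_b L700044) q18498, e3 q16420 (flp_b L694908) q18110, e3 q16421 L678724 q15338, e3 q16422 (flp_b L700061) q18499, e3 q16423 L678750 q15845, e3 q16424 L678767 q15355, e3 q16425 (flp_b L695089) q18121, e3 q16426 L678794 q16426, e3 q16427 L678811 q16427, e3 q16428 L678825 q16428, e3 q16429 L678839 q16429, e3 q16430 (flp_b L695001) q18116, e3 q16431 L678868 q16431, e3 q16432 L678878 q15347, e3 q16433 L678890 q15812, e3 q16434 L700325 q18516, e3 q16435 (flp_b L694875) q18108, e3 q16436 (flp_b L694892) q18109, e3 q16437 L678928 q15005, e3 q16438 L678943 q14994, e3 q16439 L678959 q15006, e3 q16440 L678974 q15466, e3 q16441 L678990 q15019, e3 q16442 (flp_b L694926) q18111, e3 q16443 (flp_b L679008) q14255, e3 q16444 (flp_b L700427) q18524, e3 q16445 L679034 q14296, e3 q16446 (flp_b L694975) q18114, e3 q16447 (flp_b L694989) q18115, trivial⟩ (by decide +kernel)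

theorem ce_b_257 : ∀ r, r < 64 → sm gb (Qf (16448 + r)) = Qf (tab Gen.b (16448 + r)) :=
  edges_tab (sm gb) Qf (tab Gen.b) 16448 [(16448, 15831), (16449, 15810), (16450, 14301), (16451, 18117), (16452, 14302), (16453, 14275), (16454, 14276), (16455, 14273), (16456, 18530), (16457, 16457), (16458, 14279), (16459, 14288), (16460, 14289), (16461, 14293), (16462, 14294), (16463, 18535), (16464, 14297), (16465, 18505), (16466, 18506), (16467, 18507), (16468, 18542), (16469, 18518), (16470, 18533), (16471, 14394), (16472, 18500), (16473, 18501), (16474, 15494), (16475, 15844), (16476, 18543), (16477, 15344), (16478, 18534), (16479, 14295), (16480, 18540), (16481, 18553), (16482, 18526), (16483, 18537), (16484, 14343), (16485, 15360), (16486, 15815), (16487, 18528), (16488, 14306), (16489, 18560), (16490, 16490), (16491, 14309), (16492, 18562), (16493, 15353), (16494, 15350), (16495, 15354), (16496, 15012), (16497, 15850), (16498, 15314), (16499, 15322), (16500, 18122), (16501, 14316), (16502, 15309), (16503, 18569), (16504, 15339),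 (16505, 18123), (16506, 18124), (16507, 18112), (16508, 18113), (16509, 15017), (16510, 15317), (16511, 15318)]
    ⟨e3 q16448 L679064 q15831, e3 q16449 L679081 q15810, e3 q16450 L679095 q14301, e3 q16451 (flp_b L695018) q18117, e3 q16452 L679118 q14302, e3 q16453 L679133 q14275, e3 q16454 L679151 q14276, e3 q16455 L679164 q14273, e3 q16456 (flp_b L700497) q18530, e3 q16457 L679187 q16457, e3 q16458 L679198 q14279, e3 q16459 L679213 q14288, e3 q16460 L679227 q14289, e3 q16461 L679242 q14293, e3 q16462 L679254 q14294, e3 q16463 L700565 q18535, e3 q16464 L679276 q14297, e3 q16465 (flp_b L700157) q18505, e3 q16466 (flp_b L700174) q18506, e3 q16467 (flp_b L700192) q18507, e3 q16468 L700658 q18542, e3 q16469 (flp_b L700355) q18518, e3 q16470 (flp_b L700541) q18533, e3 q16471 L679344 q14394, e3 q16472 (flp_b L700077) q18500, e3 q16473 (flp_b L700095) q18501, e3 q16474 L679380 q15494, e3 q16475 L679394 q15844, e3 q16476 (flp_b L700679) q18543, e3 q16477 L679418 q15344, e3 q16478 (flp_b L700555) q18534, e3 q16479 (flp_b L679434)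 q14295, e3 q16480 (flp_b L700647) q18540, e3 q16481 (flp_b L700801) q18553, e3 q16482 (flp_b L700451) q18526, e3 q16483 (flp_b L700595) q18537, e3 q16484 L679485 q14343, e3 q16485 L679498 q15360, e3 q16486 L679511 q15815, e3 q16487 (flp_b L700473) q18528, e3 q16488 (flp_b L679530) q14306, e3 q16489 (flp_b L700877) q18560, e3 q16490 L679558 q16490, e3 q16491 L679567 q14309, e3 q16492 (flp_b L700907) q18562, e3 q16493 L679589 q15353, e3 q16494 L679604 q15350, e3 q16495 L679614 q15354, e3 q16496 L679629 q15012, e3 q16497 L679643 q15850, e3 q16498 L679663 q15314, e3 q16499 L679668 q15322, e3 q16500 (flp_b L695108) q18122, e3 q16501 (flp_b L679683) q14316, e3 q16502 L679702 q15309, e3 q16503 (flp_b L700987) q18569, e3 q16504 L679723 q15339, e3 q16505 (flp_b L695126) q18123, e3 q16506 (flp_b L695143) q18124, e3 q16507 (flp_b L694942) q18112, e3 q16508 (flp_b L694959) q18113, e3 q16509 L679762 q15017, e3 q16510 L679776 q15317, e3 q16511 L679787 q15318, trivial⟩ (by decide +kernel)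

theorem ce_b_258 : ∀ r, r < 64 → sm gb (Qf (16512 + r)) = Qf (tab Gen.b (16512 + r)) :=
  edges_tab (sm gb) Qf (tab Gen.b) 16512 [(16512, 15328), (16513, 18125), (16514, 18550), (16515, 14328), (16516, 14329), (16517, 18502), (16518, 18581), (16519, 18582), (16520, 18127), (16521, 18128), (16522, 18129), (16523, 15333), (16524, 14464), (16525, 18130), (16526, 18131), (16527, 18132), (16528, 15321), (16529, 18557), (16530, 14345), (16531, 18594), (16532, 16532), (16533, 14352), (16534, 14377), (16535, 15427), (16536, 16536), (16537, 16537), (16538, 16538), (16539, 16539), (16540, 16540), (16541, 16541), (16542, 16542), (16543, 16543), (16544, 16544), (16545, 14375), (16546, 18186), (16547, 14380), (16548, 14369), (16549, 15863), (16550, 14626), (16551, 18087), (16552, 15969), (16553, 18601), (16554, 18081), (16555, 18596), (16556, 14379), (16557, 18603), (16558, 16558), (16559, 14383), (16560, 15881), (16561, 14395), (16562, 14397), (16563, 14398), (16564, 14399), (16565, 14400), (16566, 14401), (16567, 14402), (16568, 14405),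 (16569, 14406), (16570, 14507), (16571, 15435), (16572, 18166), (16573, 18212), (16574, 18604), (16575, 14576)]
    ⟨e3 q16512 L679799 q15328, e3 q16513 (flp_b L695157) q18125, e3 q16514 (flp_b L700765) q18550, e3 q16515 L679833 q14328, e3 q16516 L679846 q14329, e3 q16517 (flp_b L700119) q18502, e3 q16518 (flp_b L701119) q18581, e3 q16519 (flp_b L701132) q18582, e3 q16520 (flp_b L695191) q18127, e3 q16521 (flp_b L695209) q18128, e3 q16522 (flp_b L695225) q18129, e3 q16523 L679908 q15333, e3 q16524 L679922 q14464, e3 q16525 (flp_b L695239) q18130, e3 q16526 (flp_b L695257) q18131, e3 q16527 (flp_b L695274) q18132, e3 q16528 L679964 q15321, e3 q16529 (flp_b L700842) q18557, e3 q16530 L679989 q14345, e3 q16531 (flp_b L701244) q18594, e3 q16532 L680012 q16532, e3 q16533 L680026 q14352, e3 q16534 L680044 q14377, e3 q16535 L680062 q15427, e3 q16536 L680076 q16536, e3 q16537 L680093 q16537, e3 q16538 L680105 q16538, e3 q16539 L680121 q16539, e3 q16540 L680134 q16540, e3 q16541 L680147 q16541, e3 q16542 L680162 q16542, e3 q16543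 L680174 q16543, e3 q16544 L680188 q16544, e3 q16545 L680202 q14375, e3 q16546 (flp_b L696066) q18186, e3 q16547 L680233 q14380, e3 q16548 L680245 q14369, e3 q16549 L680260 q15863, e3 q16550 L680273 q14626, e3 q16551 (flp_b L694563) q18087, e3 q16552 L680303 q15969, e3 q16553 (flp_b L701351) q18601, e3 q16554 (flp_b L694458) q18081, e3 q16555 (flp_b L701265) q18596, e3 q16556 L680355 q14379, e3 q16557 (flp_b L701387) q18603, e3 q16558 L680380 q16558, e3 q16559 L680393 q14383, e3 q16560 L680406 q15881, e3 q16561 L680422 q14395, e3 q16562 L680435 q14397, e3 q16563 L680450 q14398, e3 q16564 L680467 q14399, e3 q16565 L680480 q14400, e3 q16566 L680491 q14401, e3 q16567 L680499 q14402, e3 q16568 L680512 q14405, e3 q16569 L680522 q14406, e3 q16570 L680537 q14507, e3 q16571 L680554 q15435, e3 q16572 (flp_b L695758) q18166, e3 q16573 (flp_b L696449) q18212, e3 q16574 (flp_b L701404) q18604, e3 q16575 L680599 q14576, trivial⟩ (by decide +kernel)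

theorem ce_b_259 : ∀ r, r < 64 → sm gb (Qf (16576 + r)) = Qf (tab Gen.b (16576 + r)) :=
  edges_tab (sm gb) Qf (tab Gen.b) 16576 [(16576, 15060), (16577, 18213), (16578, 14499), (16579, 18605), (16580, 18606), (16581, 18607), (16582, 18608), (16583, 18609), (16584, 18146), (16585, 18181), (16586, 18610), (16587, 14403), (16588, 18634), (16589, 18182), (16590, 18611), (16591, 15509), (16592, 18184), (16593, 18187), (16594, 15549), (16595, 16595), (16596, 16596), (16597, 18160), (16598, 16598), (16599, 18161), (16600, 16600), (16601, 14419), (16602, 15836), (16603, 15161), (16604, 15839), (16605, 18133), (16606, 18134), (16607, 15499), (16608, 15849), (16609, 18653), (16610, 18135), (16611, 18136), (16612, 14427), (16613, 18154), (16614, 18658), (16615, 14505), (16616, 18139), (16617, 18140), (16618, 15072), (16619, 18141), (16620, 18142), (16621, 18668), (16622, 18144), (16623, 18145), (16624, 18147), (16625, 14436), (16626, 18675), (16627, 18151), (16628, 18152), (16629, 18153), (16630, 18138), (16631, 14440), (16632, 14441),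 (16633, 18538), (16634, 18681), (16635, 18682), (16636, 14514), (16637, 14519), (16638, 18159), (16639, 15833)]
    ⟨e3 q16576 L680608 q15060, e3 q16577 (flp_b L696465) q18213, e3 q16578 L680629 q14499, e3 q16579 (flp_b L701419) q18605, e3 q16580 (flp_b L701434) q18606, e3 q16581 (flp_b L701446) q18607, e3 q16582 (flp_b L701461) q18608, e3 q16583 (flp_b L701473) q18609, e3 q16584 (flp_b L695487) q18146, e3 q16585 (flp_b L695985) q18181, e3 q16586 (flp_b L701488) q18610, e3 q16587 (flp_b L680733) q14403, e3 q16588 (flp_b L701784) q18634, e3 q16589 (flp_b L696003) q18182, e3 q16590 (flp_b L701498) q18611, e3 q16591 L680775 q15509, e3 q16592 (flp_b L696033) q18184, e3 q16593 (flp_b L696086) q18187, e3 q16594 L680813 q15549, e3 q16595 L680824 q16595, e3 q16596 L680839 q16596, e3 q16597 (flp_b L695664) q18160, e3 q16598 L680865 q16598, e3 q16599 (flp_b L695678) q18161, e3 q16600 L680890 q16600, e3 q16601 L680900 q14419, e3 q16602 L680913 q15836, e3 q16603 L680926 q15161, e3 q16604 L680936 q15839, e3 q16605 (flp_b L695285) q18133,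 e3 q16606 (flp_b L695301) q18134, e3 q16607 L680964 q15499, e3 q16608 L680974 q15849, e3 q16609 L702006 q18653, e3 q16610 (flp_b L695319) q18135, e3 q16611 (flp_b L695334) q18136, e3 q16612 (flp_b L681004) q14427, e3 q16613 (flp_b L695596) q18154, e3 q16614 (flp_b L702046) q18658, e3 q16615 L681034 q14505, e3 q16616 (flp_b L695388) q18139, e3 q16617 (flp_b L695401) q18140, e3 q16618 L681058 q15072, e3 q16619 (flp_b L695415) q18141, e3 q16620 (flp_b L695431) q18142, e3 q16621 L702151 q18668, e3 q16622 (flp_b L695465) q18144, e3 q16623 (flp_b L695475) q18145, e3 q16624 (flp_b L695503) q18147, e3 q16625 (flp_b L681116) q14436, e3 q16626 (flp_b L702209) q18675, e3 q16627 (flp_b L695556) q18151, e3 q16628 (flp_b L695566) q18152, e3 q16629 (flp_b L695578) q18153, e3 q16630 (flp_b L695368) q18138, e3 q16631 L681156 q14440, e3 q16632 L681160 q14441, e3 q16633 (flp_b L700605) q18538, e3 q16634 (flp_b L702261) q18681, e3 q16635 (flp_b L702269) q18682, e3 q16636 L681192 q14514, e3 q16637 L681202 q14519, e3 q16638 (flp_b L695654) q18159,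 e3 q16639 L681216 q15833, trivial⟩ (by decide +kernel)

theorem ce_b_260 : ∀ r, r < 64 → sm gb (Qf (16640 + r)) = Qf (tab Gen.b (16640 + r)) :=
  edges_tab (sm gb) Qf (tab Gen.b) 16640 [(16640, 14523), (16641, 18162), (16642, 18163), (16643, 14524), (16644, 14526), (16645, 18164), (16646, 14525), (16647, 14467), (16648, 14468), (16649, 14469), (16650, 14457), (16651, 18356), (16652, 18698), (16653, 14473), (16654, 14474), (16655, 14477), (16656, 14462), (16657, 18703), (16658, 15852), (16659, 14466), (16660, 18705), (16661, 18696), (16662, 18697), (16663, 16663), (16664, 14471), (16665, 14472), (16666, 18708), (16667, 18709), (16668, 18702), (16669, 14476), (16670, 16670), (16671, 14480), (16672, 16672), (16673, 14483), (16674, 14500), (16675, 14501), (16676, 14502), (16677, 14503), (16678, 14506), (16679, 14508), (16680, 14509), (16681, 14510), (16682, 14511), (16683, 14512), (16684, 18722), (16685, 14515), (16686, 14495), (16687, 18725), (16688, 14520), (16689, 14649), (16690, 15552), (16691, 18623), (16692, 18711), (16693,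 18712), (16694, 18683), (16695, 18713), (16696, 18737), (16697, 18661), (16698, 18714), (16699, 14504), (16700, 15409), (16701, 18743), (16702, 18662), (16703, 18715)]
    ⟨e3 q16640 L681231 q14523, e3 q16641 (flp_b L695693) q18162, e3 q16642 (flp_b L695706) q18163, e3 q16643 L681259 q14524, e3 q16644 L681271 q14526, e3 q16645 (flp_b L695720) q18164, e3 q16646 L681287 q14525, e3 q16647 L681300 q14467, e3 q16648 L681318 q14468, e3 q16649 L681333 q14469, e3 q16650 (flp_b L681343) q14457, e3 q16651 (flp_b L698345) q18356, e3 q16652 (flp_b L702443) q18698, e3 q16653 L681379 q14473, e3 q16654 L681391 q14474, e3 q16655 L681402 q14477, e3 q16656 L681413 q14462, e3 q16657 (flp_b L702509) q18703, e3 q16658 L681430 q15852, e3 q16659 L681444 q14466, e3 q16660 (flp_b L702531) q18705, e3 q16661 (flp_b L702414) q18696, e3 q16662 (flp_b L702430) q18697, e3 q16663 L681500 q16663, e3 q16664 L681503 q14471, e3 q16665 L681516 q14472, e3 q16666 (flp_b L702564) q18708, e3 q16667 (flp_b L702578) q18709, e3 q16668 (flp_b L702494) q18702, e3 q16669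 L681565 q14476, e3 q16670 L681581 q16670, e3 q16671 L681586 q14480, e3 q16672 L681599 q16672, e3 q16673 L681609 q14483, e3 q16674 L681626 q14500, e3 q16675 L681640 q14501, e3 q16676 L681651 q14502, e3 q16677 L681663 q14503, e3 q16678 L681674 q14506, e3 q16679 L681686 q14508, e3 q16680 L681697 q14509, e3 q16681 L681705 q14510, e3 q16682 L681718 q14511, e3 q16683 L681730 q14512, e3 q16684 L702736 q18722, e3 q16685 L681750 q14515, e3 q16686 (flp_b L681756) q14495, e3 q16687 (flp_b L702770) q18725, e3 q16688 L681778 q14520, e3 q16689 L681786 q14649, e3 q16690 L681802 q15552, e3 q16691 (flp_b L701650) q18623, e3 q16692 (flp_b L702609) q18711, e3 q16693 (flp_b L702623) q18712, e3 q16694 (flp_b L702277) q18683, e3 q16695 (flp_b L702639) q18713, e3 q16696 L702897 q18737, e3 q16697 (flp_b L702077) q18661, e3 q16698 (flp_b L702650) q18714, e3 q16699 (flp_b L681880) q14504, e3 q16700 L681897 q15409, e3 q16701 (flp_b L702965) q18743, e3 q16702 (flp_b L702092) q18662, e3 q16703 (flp_b L702662) q18715, trivial⟩ (by decide +kernel)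

theorem ce_b_261 : ∀ r, r < 64 → sm gb (Qf (16704 + r)) = Qf (tab Gen.b (16704 + r)) :=
  edges_tab (sm gb) Qf (tab Gen.b) 16704 [(16704, 18612), (16705, 18716), (16706, 18717), (16707, 18752), (16708, 18719), (16709, 18720), (16710, 18738), (16711, 15485), (16712, 18721), (16713, 14513), (16714, 18735), (16715, 18763), (16716, 18677), (16717, 18687), (16718, 18724), (16719, 14573), (16720, 14517), (16721, 14518), (16722, 18770), (16723, 18771), (16724, 18688), (16725, 15515), (16726, 15524), (16727, 15860), (16728, 18690), (16729, 18693), (16730, 18694), (16731, 16731), (16732, 18781), (16733, 16733), (16734, 16734), (16735, 14530), (16736, 18785), (16737, 16737), (16738, 16738), (16739, 14533), (16740, 18788), (16741, 16741), (16742, 14605), (16743, 14536), (16744, 18791), (16745, 14608), (16746, 14540), (16747, 18794), (16748, 15757), (16749, 15729), (16750, 15758), (16751, 15506), (16752, 18188), (16753, 18189), (16754, 18806), (16755, 18190), (16756, 18191), (16757, 15392), (16758, 15430), (16759, 18192), (16760, 14549),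 (16761, 15377), (16762, 18816), (16763, 18193), (16764, 18194), (16765, 18195), (16766, 14554), (16767, 15379)]
    ⟨e3 q16704 (flp_b L701508) q18612, e3 q16705 (flp_b L702674) q18716, e3 q16706 (flp_b L702684) q18717, e3 q16707 L703054 q18752, e3 q16708 (flp_b L702706) q18719, e3 q16709 (flp_b L702714) q18720, e3 q16710 (flp_b L702916) q18738, e3 q16711 L682003 q15485, e3 q16712 (flp_b L702726) q18721, e3 q16713 (flp_b L682019) q14513, e3 q16714 (flp_b L702886) q18735, e3 q16715 (flp_b L703168) q18763, e3 q16716 (flp_b L702225) q18677, e3 q16717 (flp_b L702317) q18687, e3 q16718 (flp_b L702762) q18724, e3 q16719 L682076 q14573, e3 q16720 L682084 q14517, e3 q16721 L682091 q14518, e3 q16722 (flp_b L703234) q18770, e3 q16723 (flp_b L703241) q18771, e3 q16724 (flp_b L702329) q18688, e3 q16725 L682124 q15515, e3 q16726 L682136 q15524, e3 q16727 L682149 q15860, e3 q16728 (flp_b L702345) q18690, e3 q16729 (flp_b L702375) q18693, e3 q16730 (flp_b L702388) q18694, e3 q16731 L682187 q16731, e3 q16732 L703335 q18781, e3 q16733 L682207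 q16733, e3 q16734 L682218 q16734, e3 q16735 (flp_b L682225) q14530, e3 q16736 (flp_b L703383) q18785, e3 q16737 L682249 q16737, e3 q16738 L682261 q16738, e3 q16739 (flp_b L682267) q14533, e3 q16740 (flp_b L703420) q18788, e3 q16741 L682293 q16741, e3 q16742 L682309 q14605, e3 q16743 L682313 q14536, e3 q16744 (flp_b L703458) q18791, e3 q16745 L682333 q14608, e3 q16746 L682341 q14540, e3 q16747 (flp_b L703487) q18794, e3 q16748 L682357 q15757, e3 q16749 L682369 q15729, e3 q16750 L682378 q15758, e3 q16751 L682388 q15506, e3 q16752 (flp_b L696105) q18188, e3 q16753 (flp_b L696121) q18189, e3 q16754 L703602 q18806, e3 q16755 (flp_b L696139) q18190, e3 q16756 (flp_b L696153) q18191, e3 q16757 L682445 q15392, e3 q16758 L682450 q15430, e3 q16759 (flp_b L696167) q18192, e3 q16760 (flp_b L682465) q14549, e3 q16761 L682482 q15377, e3 q16762 (flp_b L703695) q18816, e3 q16763 (flp_b L696183) q18193, e3 q16764 (flp_b L696196) q18194, e3 q16765 (flp_b L696211) q18195, e3 q16766 L682521 q14554, e3 q16767 L682532 q15379, trivial⟩ (by decide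 +kernel)

theorem ce_b_262 : ∀ r, r < 64 → sm gb (Qf (16768 + r)) = Qf (tab Gen.b (16768 + r)) :=
  edges_tab (sm gb) Qf (tab Gen.b) 16768 [(16768, 18823), (16769, 18196), (16770, 18197), (16771, 18198), (16772, 18143), (16773, 18165), (16774, 15400), (16775, 18199), (16776, 18200), (16777, 14561), (16778, 18837), (16779, 18838), (16780, 18203), (16781, 18204), (16782, 18205), (16783, 15404), (16784, 15405), (16785, 15438), (16786, 15442), (16787, 18206), (16788, 18762), (16789, 14568), (16790, 14569), (16791, 18852), (16792, 18853), (16793, 18854), (16794, 18208), (16795, 18209), (16796, 18210), (16797, 18769), (16798, 14577), (16799, 14578), (16800, 18617), (16801, 18620), (16802, 18864), (16803, 18865), (16804, 18215), (16805, 18216), (16806, 18217), (16807, 18218), (16808, 15450), (16809, 15454), (16810, 18219), (16811, 18220), (16812, 18221), (16813, 18222), (16814, 18223), (16815, 18224), (16816, 18225), (16817, 18882), (16818, 15416), (16819, 15417), (16820, 14611), (16821, 14612), (16822, 18775), (16823, 14599), (16824,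 14600), (16825, 18889), (16826, 18890), (16827, 18891), (16828, 14618), (16829, 15420), (16830, 18790), (16831, 14607)]
    ⟨e3 q16768 (flp_b L703760) q18823, e3 q16769 (flp_b L696223) q18196, e3 q16770 (flp_b L696236) q18197, e3 q16771 (flp_b L696251) q18198, e3 q16772 L695459 q18143, e3 q16773 (flp_b L695731) q18165, e3 q16774 L682590 q15400, e3 q16775 (flp_b L696263) q18199, e3 q16776 (flp_b L696277) q18200, e3 q16777 (flp_b L682608) q14561, e3 q16778 (flp_b L703883) q18837, e3 q16779 (flp_b L703893) q18838, e3 q16780 (flp_b L696325) q18203, e3 q16781 (flp_b L696337) q18204, e3 q16782 (flp_b L696347) q18205, e3 q16783 L682658 q15404, e3 q16784 L682669 q15405, e3 q16785 L682681 q15438, e3 q16786 L682689 q15442, e3 q16787 (flp_b L696357) q18206, e3 q16788 (flp_b L703164) q18762, e3 q16789 L682721 q14568, e3 q16790 L682734 q14569, e3 q16791 (flp_b L704027) q18852, e3 q16792 (flp_b L704040) q18853, e3 q16793 (flp_b L704053) q18854, e3 q16794 (flp_b L696389) q18208, e3 q16795 (flp_b L696401) q18209, e3 q16796 (flp_b L696415)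 q18210, e3 q16797 (flp_b L703220) q18769, e3 q16798 L682798 q14577, e3 q16799 L682807 q14578, e3 q16800 (flp_b L701582) q18617, e3 q16801 (flp_b L701614) q18620, e3 q16802 (flp_b L704129) q18864, e3 q16803 (flp_b L704139) q18865, e3 q16804 (flp_b L696499) q18215, e3 q16805 (flp_b L696509) q18216, e3 q16806 (flp_b L696519) q18217, e3 q16807 (flp_b L696527) q18218, e3 q16808 L682865 q15450, e3 q16809 L682876 q15454, e3 q16810 (flp_b L696535) q18219, e3 q16811 (flp_b L696550) q18220, e3 q16812 (flp_b L696564) q18221, e3 q16813 (flp_b L696579) q18222, e3 q16814 (flp_b L696590) q18223, e3 q16815 (flp_b L696606) q18224, e3 q16816 (flp_b L696621) q18225, e3 q16817 L704269 q18882, e3 q16818 L682948 q15416, e3 q16819 L682958 q15417, e3 q16820 L682968 q14611, e3 q16821 L682979 q14612, e3 q16822 (flp_b L703271) q18775, e3 q16823 L682999 q14599, e3 q16824 L683011 q14600, e3 q16825 (flp_b L704346) q18889, e3 q16826 (flp_b L704357) q18890, e3 q16827 (flp_b L704370) q18891, e3 q16828 L683048 q14618, e3 q16829 L683058 q15420, e3 q16830 (flp_b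 L703448) q18790, e3 q16831 L683081 q14607, trivial⟩ (by decide +kernel)

theorem ce_b_263 : ∀ r, r < 64 → sm gb (Qf (16832 + r)) = Qf (tab Gen.b (16832 + r)) :=
  edges_tab (sm gb) Qf (tab Gen.b) 16832 [(16832, 18899), (16833, 18793), (16834, 14610), (16835, 18881), (16836, 18886), (16837, 16837), (16838, 16838), (16839, 14616), (16840, 14617), (16841, 18903), (16842, 18896), (16843, 16843), (16844, 14729), (16845, 18298), (16846, 16846), (16847, 16847), (16848, 16848), (16849, 16849), (16850, 16850), (16851, 16851), (16852, 16852), (16853, 16853), (16854, 14650), (16855, 14651), (16856, 14652), (16857, 14653), (16858, 14654), (16859, 14975), (16860, 14656), (16861, 14896), (16862, 14658), (16863, 18727), (16864, 18908), (16865, 18909), (16866, 18911), (16867, 18912), (16868, 18352), (16869, 18914), (16870, 18348), (16871, 18353), (16872, 18916), (16873, 18354), (16874, 18360), (16875, 18363), (16876, 18357), (16877, 18361), (16878, 18362), (16879, 16879), (16880, 18227), (16881, 18228), (16882, 18229), (16883, 18230), (16884,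 18231), (16885, 18232), (16886, 18234), (16887, 18235), (16888, 18237), (16889, 18238), (16890, 18240), (16891, 18241), (16892, 18242), (16893, 18244), (16894, 18245), (16895, 18246)]
    ⟨e3 q16832 (flp_b L704452) q18899, e3 q16833 (flp_b L703478) q18793, e3 q16834 L683108 q14610, e3 q16835 (flp_b L704266) q18881, e3 q16836 (flp_b L704310) q18886, e3 q16837 L683132 q16837, e3 q16838 L683145 q16838, e3 q16839 L683156 q14616, e3 q16840 L683169 q14617, e3 q16841 (flp_b L704497) q18903, e3 q16842 (flp_b L704419) q18896, e3 q16843 L683210 q16843, e3 q16844 L683223 q14729, e3 q16845 (flp_b L697564) q18298, e3 q16846 L683247 q16846, e3 q16847 L683261 q16847, e3 q16848 L683275 q16848, e3 q16849 L683286 q16849, e3 q16850 L683302 q16850, e3 q16851 L683317 q16851, e3 q16852 L683332 q16852, e3 q16853 L683344 q16853, e3 q16854 L683354 q14650, e3 q16855 L683365 q14651, e3 q16856 L683377 q14652, e3 q16857 L683390 q14653, e3 q16858 L683401 q14654, e3 q16859 L683421 q14975, e3 q16860 L683428 q14656, e3 q16861 L683438 q14896, e3 q16862 L683452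 q14658, e3 q16863 (flp_b L702791) q18727, e3 q16864 (flp_b L704573) q18908, e3 q16865 (flp_b L704585) q18909, e3 q16866 (flp_b L704611) q18911, e3 q16867 (flp_b L704621) q18912, e3 q16868 (flp_b L698290) q18352, e3 q16869 (flp_b L704647) q18914, e3 q16870 (flp_b L698237) q18348, e3 q16871 (flp_b L698305) q18353, e3 q16872 (flp_b L704671) q18916, e3 q16873 (flp_b L698319) q18354, e3 q16874 (flp_b L698400) q18360, e3 q16875 (flp_b L698440) q18363, e3 q16876 (flp_b L698360) q18357, e3 q16877 (flp_b L698413) q18361, e3 q16878 (flp_b L698426) q18362, e3 q16879 L683635 q16879, e3 q16880 (flp_b L696641) q18227, e3 q16881 (flp_b L696655) q18228, e3 q16882 (flp_b L696666) q18229, e3 q16883 (flp_b L696680) q18230, e3 q16884 (flp_b L696694) q18231, e3 q16885 (flp_b L696706) q18232, e3 q16886 (flp_b L696732) q18234, e3 q16887 (flp_b L696742) q18235, e3 q16888 (flp_b L696768) q18237, e3 q16889 (flp_b L696782) q18238, e3 q16890 (flp_b L696806) q18240, e3 q16891 (flp_b L696819) q18241, e3 q16892 (flp_b L696832) q18242, e3 q16893 (flp_b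 L696859) q18244, e3 q16894 (flp_b L696874) q18245, e3 q16895 (flp_b L696887) q18246, trivial⟩ (by decide +kernel)

theorem ce_b_264 : ∀ r, r < 64 → sm gb (Qf (16896 + r)) = Qf (tab Gen.b (16896 + r)) :=
  edges_tab (sm gb) Qf (tab Gen.b) 16896 [(16896, 15626), (16897, 18248), (16898, 18249), (16899, 14682), (16900, 18959), (16901, 18960), (16902, 18253), (16903, 18254), (16904, 18255), (16905, 15962), (16906, 18258), (16907, 18259), (16908, 18260), (16909, 14690), (16910, 15153), (16911, 15158), (16912, 18971), (16913, 14771), (16914, 18265), (16915, 18266), (16916, 14696), (16917, 15160), (16918, 14766), (16919, 14772), (16920, 14777), (16921, 18270), (16922, 18271), (16923, 18272), (16924, 18273), (16925, 14778), (16926, 14781), (16927, 18274), (16928, 18275), (16929, 14779), (16930, 14782), (16931, 14783), (16932, 18479), (16933, 14780), (16934, 14748), (16935, 14723), (16936, 15627), (16937, 14725), (16938, 14719), (16939, 15628), (16940, 15629), (16941, 14750), (16942, 14751), (16943, 14752), (16944, 14753), (16945,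 14754), (16946, 14756), (16947, 14758), (16948, 14759), (16949, 14760), (16950, 14761), (16951, 18332), (16952, 14763), (16953, 14764), (16954, 15856), (16955, 14767), (16956, 18333), (16957, 14773), (16958, 18336), (16959, 15602)]
    ⟨e3 q16896 L683829 q15626, e3 q16897 (flp_b L696918) q18248, e3 q16898 (flp_b L696926) q18249, e3 q16899 (flp_b L683843) q14682, e3 q16900 (flp_b L705146) q18959, e3 q16901 (flp_b L705162) q18960, e3 q16902 (flp_b L696974) q18253, e3 q16903 (flp_b L696984) q18254, e3 q16904 (flp_b L696994) q18255, e3 q16905 L683901 q15962, e3 q16906 (flp_b L697033) q18258, e3 q16907 (flp_b L697043) q18259, e3 q16908 (flp_b L697056) q18260, e3 q16909 L683942 q14690, e3 q16910 L683956 q15153, e3 q16911 L683970 q15158, e3 q16912 (flp_b L705288) q18971, e3 q16913 L683996 q14771, e3 q16914 (flp_b L697117) q18265, e3 q16915 (flp_b L697129) q18266, e3 q16916 L684018 q14696, e3 q16917 L684033 q15160, e3 q16918 L684048 q14766, e3 q16919 L684057 q14772, e3 q16920 L684067 q14777, e3 q16921 (flp_b L697180) q18270, e3 q16922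 (flp_b L697193) q18271, e3 q16923 (flp_b L697206) q18272, e3 q16924 (flp_b L697217) q18273, e3 q16925 L684113 q14778, e3 q16926 L684124 q14781, e3 q16927 (flp_b L697230) q18274, e3 q16928 (flp_b L697242) q18275, e3 q16929 L684146 q14779, e3 q16930 L684157 q14782, e3 q16931 L684166 q14783, e3 q16932 (flp_b L699763) q18479, e3 q16933 L684182 q14780, e3 q16934 L684205 q14748, e3 q16935 L684211 q14723, e3 q16936 L684228 q15627, e3 q16937 L684244 q14725, e3 q16938 L684262 q14719, e3 q16939 L684280 q15628, e3 q16940 L684294 q15629, e3 q16941 L684310 q14750, e3 q16942 L684324 q14751, e3 q16943 L684334 q14752, e3 q16944 L684346 q14753, e3 q16945 L684357 q14754, e3 q16946 L684369 q14756, e3 q16947 L684377 q14758, e3 q16948 L684388 q14759, e3 q16949 L684398 q14760, e3 q16950 L684406 q14761, e3 q16951 (flp_b L698028) q18332, e3 q16952 L684422 q14763, e3 q16953 L684428 q14764, e3 q16954 L684443 q15856, e3 q16955 L684448 q14767, e3 q16956 (flp_b L698043) q18333, e3 q16957 L684464 q14773, e3 q16958 (flp_b L698083) q18336, e3 q16959 L684479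 q15602, trivial⟩ (by decide +kernel)

theorem ce_b_265 : ∀ r, r < 64 → sm gb (Qf (16960 + r)) = Qf (tab Gen.b (16960 + r)) :=
  edges_tab (sm gb) Qf (tab Gen.b) 16960 [(16960, 18951), (16961, 18991), (16962, 15605), (16963, 18993), (16964, 18994), (16965, 18995), (16966, 18996), (16967, 18312), (16968, 18997), (16969, 18309), (16970, 18314), (16971, 18998), (16972, 18318), (16973, 18999), (16974, 19000), (16975, 15767), (16976, 19002), (16977, 19003), (16978, 14762), (16979, 19038), (16980, 19039), (16981, 18965), (16982, 19006), (16983, 19007), (16984, 15915), (16985, 15955), (16986, 18974), (16987, 18978), (16988, 19009), (16989, 14770), (16990, 18327), (16991, 18331), (16992, 19052), (16993, 18975), (16994, 18979), (16995, 14776), (16996, 18335), (16997, 18980), (16998, 18887), (16999, 18985), (17000, 18989), (17001, 18986), (17002, 18990), (17003, 18290), (17004, 14965), (17005, 17005), (17006, 17006), (17007, 15805), (17008, 15806), (17009, 17009), (17010, 14881), (17011, 14790), (17012, 14791), (17013, 19071), (17014,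 19072), (17015, 14891), (17016, 15966), (17017, 18366), (17018, 18367), (17019, 19080), (17020, 18369), (17021, 18370), (17022, 18371), (17023, 18372)]
    ⟨e3 q16960 L705073 q18951, e3 q16961 (flp_b L705499) q18991, e3 q16962 L684514 q15605, e3 q16963 (flp_b L705528) q18993, e3 q16964 (flp_b L705542) q18994, e3 q16965 (flp_b L705558) q18995, e3 q16966 (flp_b L705566) q18996, e3 q16967 (flp_b L697767) q18312, e3 q16968 (flp_b L705576) q18997, e3 q16969 (flp_b L697733) q18309, e3 q16970 (flp_b L697787) q18314, e3 q16971 (flp_b L705587) q18998, e3 q16972 (flp_b L697842) q18318, e3 q16973 (flp_b L705597) q18999, e3 q16974 (flp_b L705608) q19000, e3 q16975 (flp_b L684669) q15767, e3 q16976 (flp_b L705629) q19002, e3 q16977 (flp_b L705635) q19003, e3 q16978 (flp_b L684687) q14762, e3 q16979 (flp_b L706004) q19038, e3 q16980 (flp_b L706014) q19039, e3 q16981 (flp_b L705230) q18965, e3 q16982 (flp_b L705660) q19006, e3 q16983 (flp_b L705668) q19007, e3 q16984 L684747 q15915, e3 q16985 L684761 q15955, e3 q16986 (flp_b L705336) q18974,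 e3 q16987 (flp_b L705368) q18978, e3 q16988 (flp_b L705686) q19009, e3 q16989 L684798 q14770, e3 q16990 (flp_b L697975) q18327, e3 q16991 (flp_b L698013) q18331, e3 q16992 (flp_b L706152) q19052, e3 q16993 (flp_b L705344) q18975, e3 q16994 (flp_b L705379) q18979, e3 q16995 L684856 q14776, e3 q16996 (flp_b L698068) q18335, e3 q16997 (flp_b L705387) q18980, e3 q16998 (flp_b L704322) q18887, e3 q16999 (flp_b L705439) q18985, e3 q17000 (flp_b L705478) q18989, e3 q17001 (flp_b L705451) q18986, e3 q17002 (flp_b L705490) q18990, e3 q17003 (flp_b L697443) q18290, e3 q17004 (flp_b L684943) q14965, e3 q17005 L684949 q17005, e3 q17006 L684962 q17006, e3 q17007 L684976 q15805, e3 q17008 L684989 q15806, e3 q17009 L685003 q17009, e3 q17010 L685022 q14881, e3 q17011 L685026 q14790, e3 q17012 L685038 q14791, e3 q17013 (flp_b L706358) q19071, e3 q17014 (flp_b L706369) q19072, e3 q17015 L685073 q14891, e3 q17016 L685087 q15966, e3 q17017 (flp_b L698484) q18366, e3 q17018 (flp_b L698495) q18367, e3 q17019 L706455 q19080, e3 q17020 (flp_b L698517)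 q18369, e3 q17021 (flp_b L698527) q18370, e3 q17022 (flp_b L698536) q18371, e3 q17023 (flp_b L698547) q18372, trivial⟩ (by decide +kernel)

theorem ce_b_266 : ∀ r, r < 64 → sm gb (Qf (17024 + r)) = Qf (tab Gen.b (17024 + r)) :=
  edges_tab (sm gb) Qf (tab Gen.b) 17024 [(17024, 19089), (17025, 18374), (17026, 18375), (17027, 14804), (17028, 19095), (17029, 19096), (17030, 18379), (17031, 18380), (17032, 18381), (17033, 14807), (17034, 18419), (17035, 19104), (17036, 18384), (17037, 18385), (17038, 18386), (17039, 14812), (17040, 18409), (17041, 18425), (17042, 19111), (17043, 18391), (17044, 18392), (17045, 18393), (17046, 14819), (17047, 15242), (17048, 15252), (17049, 18437), (17050, 18397), (17051, 18398), (17052, 18399), (17053, 18400), (17054, 19127), (17055, 18401), (17056, 18402), (17057, 14825), (17058, 19134), (17059, 19135), (17060, 18406), (17061, 18407), (17062, 18408), (17063, 18388), (17064, 14829), (17065, 14830), (17066, 19145), (17067, 19146), (17068, 19147), (17069, 19148), (17070, 18416), (17071, 18417),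 (17072, 18418), (17073, 15903), (17074, 14835), (17075, 14836), (17076, 19161), (17077, 19162), (17078, 19163), (17079, 18422), (17080, 18423), (17081, 18424), (17082, 18389), (17083, 14843), (17084, 14844), (17085, 14845), (17086, 19173), (17087, 19174)]
    ⟨e3 q17024 L706525 q19089, e3 q17025 (flp_b L698570) q18374, e3 q17026 (flp_b L698578) q18375, e3 q17027 (flp_b L685177) q14804, e3 q17028 (flp_b L706585) q19095, e3 q17029 (flp_b L706593) q19096, e3 q17030 (flp_b L698618) q18379, e3 q17031 (flp_b L698626) q18380, e3 q17032 (flp_b L698634) q18381, e3 q17033 (flp_b L685229) q14807, e3 q17034 (flp_b L699073) q18419, e3 q17035 (flp_b L706671) q19104, e3 q17036 (flp_b L698672) q18384, e3 q17037 (flp_b L698685) q18385, e3 q17038 (flp_b L698697) q18386, e3 q17039 L685288 q14812, e3 q17040 (flp_b L698972) q18409, e3 q17041 (flp_b L699141) q18425, e3 q17042 (flp_b L706740) q19111, e3 q17043 (flp_b L698761) q18391, e3 q17044 (flp_b L698772) q18392, e3 q17045 (flp_b L698779) q18393, e3 q17046 L685350 q14819, e3 q17047 L685363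 q15242, e3 q17048 L685377 q15252, e3 q17049 (flp_b L699273) q18437, e3 q17050 (flp_b L698831) q18397, e3 q17051 (flp_b L698845) q18398, e3 q17052 (flp_b L698858) q18399, e3 q17053 (flp_b L698871) q18400, e3 q17054 L706902 q19127, e3 q17055 (flp_b L698879) q18401, e3 q17056 (flp_b L698887) q18402, e3 q17057 (flp_b L685453) q14825, e3 q17058 (flp_b L706968) q19134, e3 q17059 (flp_b L706974) q19135, e3 q17060 (flp_b L698934) q18406, e3 q17061 (flp_b L698946) q18407, e3 q17062 (flp_b L698954) q18408, e3 q17063 (flp_b L698721) q18388, e3 q17064 L685505 q14829, e3 q17065 L685511 q14830, e3 q17066 (flp_b L707048) q19145, e3 q17067 (flp_b L707056) q19146, e3 q17068 (flp_b L707062) q19147, e3 q17069 (flp_b L707070) q19148, e3 q17070 (flp_b L699038) q18416, e3 q17071 (flp_b L699046) q18417, e3 q17072 (flp_b L699054) q18418, e3 q17073 L685574 q15903, e3 q17074 L685578 q14835, e3 q17075 L685588 q14836, e3 q17076 (flp_b L707170) q19161, e3 q17077 (flp_b L707179) q19162, e3 q17078 (flp_b L707191) q19163, e3 q17079 (flp_b L699103) q18422,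 e3 q17080 (flp_b L699114) q18423, e3 q17081 (flp_b L699128) q18424, e3 q17082 (flp_b L698737) q18389, e3 q17083 L685649 q14843, e3 q17084 L685654 q14844, e3 q17085 L685663 q14845, e3 q17086 (flp_b L707270) q19173, e3 q17087 (flp_b L707281) q19174, trivial⟩ (by decide +kernel)

theorem ce_b_267 : ∀ r, r < 64 → sm gb (Qf (17088 + r)) = Qf (tab Gen.b (17088 + r)) :=
  edges_tab (sm gb) Qf (tab Gen.b) 17088 [(17088, 19175), (17089, 19176), (17090, 18433), (17091, 18434), (17092, 18435), (17093, 18436), (17094, 18395), (17095, 14853), (17096, 14854), (17097, 14855), (17098, 14856), (17099, 19186), (17100, 19187), (17101, 19188), (17102, 19189), (17103, 18917), (17104, 18444), (17105, 18445), (17106, 18446), (17107, 19198), (17108, 18448), (17109, 18449), (17110, 18450), (17111, 18451), (17112, 18452), (17113, 18453), (17114, 18454), (17115, 19207), (17116, 18456), (17117, 18457), (17118, 15289), (17119, 14871), (17120, 14873), (17121, 14962), (17122, 19211), (17123, 14899), (17124, 14900), (17125, 15782), (17126, 14877), (17127,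 14878), (17128, 19216), (17129, 19214), (17130, 19213), (17131, 14898), (17132, 19069), (17133, 19070), (17134, 14884), (17135, 14885), (17136, 14886), (17137, 19030), (17138, 19222), (17139, 15760), (17140, 19223), (17141, 14911), (17142, 15958), (17143, 14890), (17144, 19230), (17145, 15804), (17146, 14893), (17147, 18915), (17148, 17148), (17149, 17149), (17150, 17150), (17151, 14909)]
    ⟨e3 q17088 (flp_b L707288) q19175, e3 q17089 (flp_b L707296) q19176, e3 q17090 (flp_b L699239) q18433, e3 q17091 (flp_b L699247) q18434, e3 q17092 (flp_b L699257) q18435, e3 q17093 (flp_b L699263) q18436, e3 q17094 (flp_b L698806) q18395, e3 q17095 L685736 q14853, e3 q17096 L685749 q14854, e3 q17097 L685761 q14855, e3 q17098 L685768 q14856, e3 q17099 (flp_b L707373) q19186, e3 q17100 (flp_b L707387) q19187, e3 q17101 (flp_b L707400) q19188, e3 q17102 (flp_b L707413) q19189, e3 q17103 (flp_b L704683) q18917, e3 q17104 (flp_b L699367) q18444, e3 q17105 (flp_b L699378) q18445, e3 q17106 (flp_b L699386) q18446, e3 q17107 L707487 q19198,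 e3 q17108 (flp_b L699406) q18448, e3 q17109 (flp_b L699420) q18449, e3 q17110 (flp_b L699433) q18450, e3 q17111 (flp_b L699448) q18451, e3 q17112 (flp_b L699456) q18452, e3 q17113 (flp_b L699464) q18453, e3 q17114 (flp_b L699473) q18454, e3 q17115 L707551 q19207, e3 q17116 (flp_b L699489) q18456, e3 q17117 (flp_b L699499) q18457, e3 q17118 (flp_b L685921) q15289, e3 q17119 (flp_b L685923) q14871, e3 q17120 (flp_b L685930) q14873, e3 q17121 L685947 q14962, e3 q17122 (flp_b L707592) q19211, e3 q17123 L685970 q14899, e3 q17124 L685986 q14900, e3 q17125 L686011 q15782, e3 q17126 L686019 q14877, e3 q17127 L686032 q14878, e3 q17128 (flp_b L707670) q19216, e3 q17129 (flp_b L707637) q19214, e3 q17130 (flp_b L707619) q19213, e3 q17131 L686070 q14898, e3 q17132 (flp_b L706331) q19069, e3 q17133 (flp_b L706345) q19070, e3 q17134 L686106 q14884, e3 q17135 L686113 q14885, e3 q17136 L686126 q14886, e3 q17137 L705931 q19030, e3 q17138 (flp_b L707746) q19222, e3 q17139 L686156 q15760, e3 q17140 (flp_b L707755) q19223, e3 q17141 L686183 q14911,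 e3 q17142 L686196 q15958, e3 q17143 L686206 q14890, e3 q17144 (flp_b L707825) q19230, e3 q17145 L686231 q15804, e3 q17146 L686242 q14893, e3 q17147 (flp_b L704658) q18915, e3 q17148 L686263 q17148, e3 q17149 L686276 q17149, e3 q17150 L686292 q17150, e3 q17151 L686305 q14909, trivial⟩ (by decide +kernel)

theorem ce_b_268 : ∀ r, r < 64 → sm gb (Qf (17152 + r)) = Qf (tab Gen.b (17152 + r)) :=
  edges_tab (sm gb) Qf (tab Gen.b) 17152 [(17152, 14910), (17153, 17153), (17154, 14914), (17155, 17155), (17156, 17156), (17157, 17157), (17158, 17158), (17159, 15298), (17160, 15270), (17161, 15292), (17162, 14956), (17163, 14952), (17164, 15794), (17165, 17165), (17166, 19238), (17167, 17167), (17168, 14937), (17169, 19242), (17170, 19243), (17171, 17171), (17172, 17172), (17173, 14941), (17174, 19248), (17175, 15655), (17176, 14944), (17177, 14945), (17178, 19250), (17179, 19251), (17180, 14948), (17181, 15772), (17182, 19064), (17183, 15652), (17184, 19212), (17185, 15797), (17186, 14968), (17187, 19065), (17188, 15791), (17189, 15704),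 (17190, 19257), (17191, 15267), (17192, 15802), (17193, 14972), (17194, 18913), (17195, 18910), (17196, 15315), (17197, 15320), (17198, 14987), (17199, 15310), (17200, 19264), (17201, 15336), (17202, 15340), (17203, 18521), (17204, 15343), (17205, 14997), (17206, 14998), (17207, 18503), (17208, 19268), (17209, 19269), (17210, 15351), (17211, 15352), (17212, 15390), (17213, 15391), (17214, 15393), (17215, 18565)]
    ⟨e3 q17152 L686320 q14910, e3 q17153 L686334 q17153, e3 q17154 L686343 q14914, e3 q17155 L686354 q17155, e3 q17156 L686369 q17156, e3 q17157 L686381 q17157, e3 q17158 L686393 q17158, e3 q17159 L686407 q15298, e3 q17160 L686432 q15270, e3 q17161 L686438 q15292, e3 q17162 L686453 q14956, e3 q17163 L686471 q14952, e3 q17164 L686487 q15794, e3 q17165 L686501 q17165, e3 q17166 L707930 q19238, e3 q17167 L686524 q17167, e3 q17168 (flp_b L686532) q14937, e3 q17169 (flp_b L707982) q19242, e3 q17170 (flp_b L707994) q19243, e3 q17171 L686563 q17171, e3 q17172 L686576 q17172, e3 q17173 (flp_b L686581) q14941, e3 q17174 (flp_b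 L708054) q19248, e3 q17175 L686619 q15655, e3 q17176 L686627 q14944, e3 q17177 L686640 q14945, e3 q17178 (flp_b L708086) q19250, e3 q17179 (flp_b L708098) q19251, e3 q17180 L686679 q14948, e3 q17181 L686693 q15772, e3 q17182 (flp_b L706259) q19064, e3 q17183 L686721 q15652, e3 q17184 (flp_b L707607) q19212, e3 q17185 L686747 q15797, e3 q17186 L686759 q14968, e3 q17187 (flp_b L706275) q19065, e3 q17188 L686777 q15791, e3 q17189 L686789 q15704, e3 q17190 (flp_b L708176) q19257, e3 q17191 L686814 q15267, e3 q17192 L686820 q15802, e3 q17193 L686830 q14972, e3 q17194 (flp_b L704640) q18913, e3 q17195 (flp_b L704604) q18910, e3 q17196 L686862 q15315, e3 q17197 L686876 q15320, e3 q17198 L686888 q14987, e3 q17199 L686902 q15310, e3 q17200 (flp_b L708260) q19264, e3 q17201 L686922 q15336, e3 q17202 L686934 q15340, e3 q17203 (flp_b L700387) q18521, e3 q17204 L686956 q15343, e3 q17205 L686968 q14997, e3 q17206 L686981 q14998, e3 q17207 (flp_b L700128) q18503, e3 q17208 (flp_b L708314) q19268, e3 q17209 (flp_b L708327) q19269, e3 q17210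 L687023 q15351, e3 q17211 L687033 q15352, e3 q17212 L687047 q15390, e3 q17213 L687059 q15391, e3 q17214 L687075 q15393, e3 q17215 (flp_b L700941) q18565, trivial⟩ (by decide +kernel)

theorem ce_b_269 : ∀ r, r < 64 → sm gb (Qf (17216 + r)) = Qf (tab Gen.b (17216 + r)) :=
  edges_tab (sm gb) Qf (tab Gen.b) 17216 [(17216, 15397), (17217, 15401), (17218, 15402), (17219, 15408), (17220, 18576), (17221, 18522), (17222, 15024), (17223, 15025), (17224, 15027), (17225, 15029), (17226, 19280), (17227, 19281), (17228, 15373), (17229, 15378), (17230, 19282), (17231, 15380), (17232, 15374), (17233, 17233), (17234, 17234), (17235, 15459), (17236, 15460), (17237, 15463), (17238, 15469), (17239, 15083), (17240, 15470), (17241, 15471), (17242, 15472), (17243, 18664), (17244, 15474), (17245, 15475), (17246, 15047), (17247, 19298), (17248, 19299), (17249, 15479), (17250, 15480), (17251, 15481), (17252, 15050), (17253, 19307), (17254, 15484), (17255, 15053), (17256, 15054), (17257, 19309), (17258, 19310), (17259, 19311), (17260, 15491), (17261,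 15492), (17262, 15493), (17263, 15061), (17264, 15062), (17265, 18618), (17266, 18621), (17267, 19318), (17268, 19291), (17269, 15503), (17270, 15504), (17271, 15505), (17272, 15507), (17273, 15508), (17274, 18665), (17275, 15076), (17276, 15573), (17277, 15574), (17278, 15079), (17279, 15081)]
    ⟨e3 q17216 L687101 q15397, e3 q17217 L687113 q15401, e3 q17218 L687123 q15402, e3 q17219 L687133 q15408, e3 q17220 (flp_b L701056) q18576, e3 q17221 (flp_b L700405) q18522, e3 q17222 L687163 q15024, e3 q17223 L687175 q15025, e3 q17224 L687190 q15027, e3 q17225 L687204 q15029, e3 q17226 (flp_b L708466) q19280, e3 q17227 (flp_b L708480) q19281, e3 q17228 L687228 q15373, e3 q17229 L687240 q15378, e3 q17230 (flp_b L708492) q19282, e3 q17231 L687262 q15380, e3 q17232 L687272 q15374, e3 q17233 L687287 q17233, e3 q17234 L687304 q17234, e3 q17235 L687319 q15459, e3 q17236 L687331 q15460, e3 q17237 L687341 q15463, e3 q17238 L687353 q15469, e3 q17239 L687363 q15083, e3 q17240 L687373 q15470, e3 q17241 L687385 q15471, e3 q17242 L687395 q15472,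 e3 q17243 (flp_b L702109) q18664, e3 q17244 L687419 q15474, e3 q17245 L687431 q15475, e3 q17246 (flp_b L687439) q15047, e3 q17247 (flp_b L708670) q19298, e3 q17248 (flp_b L708680) q19299, e3 q17249 L687463 q15479, e3 q17250 L687475 q15480, e3 q17251 L687483 q15481, e3 q17252 (flp_b L687487) q15050, e3 q17253 (flp_b L708754) q19307, e3 q17254 L687515 q15484, e3 q17255 L687527 q15053, e3 q17256 L687540 q15054, e3 q17257 (flp_b L708780) q19309, e3 q17258 (flp_b L708791) q19310, e3 q17259 (flp_b L708804) q19311, e3 q17260 L687576 q15491, e3 q17261 L687586 q15492, e3 q17262 L687596 q15493, e3 q17263 L687608 q15061, e3 q17264 L687617 q15062, e3 q17265 (flp_b L701591) q18618, e3 q17266 (flp_b L701627) q18621, e3 q17267 (flp_b L708870) q19318, e3 q17268 (flp_b L708596) q19291, e3 q17269 L687649 q15503, e3 q17270 L687655 q15504, e3 q17271 L687663 q15505, e3 q17272 L687669 q15507, e3 q17273 L687680 q15508, e3 q17274 (flp_b L702123) q18665, e3 q17275 L687701 q15076, e3 q17276 L687717 q15573, e3 q17277 L687728 q15574, e3 q17278 L687741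 q15079, e3 q17279 L687750 q15081, trivial⟩ (by decide +kernel)

theorem ce_b_270 : ∀ r, r < 64 → sm gb (Qf (17280 + r)) = Qf (tab Gen.b (17280 + r)) :=
  edges_tab (sm gb) Qf (tab Gen.b) 17280 [(17280, 19290), (17281, 17281), (17282, 17282), (17283, 17283), (17284, 17284), (17285, 15095), (17286, 19326), (17287, 17287), (17288, 15098), (17289, 18097), (17290, 15560), (17291, 15561), (17292, 15563), (17293, 15564), (17294, 15565), (17295, 15566), (17296, 15568), (17297, 15571), (17298, 15576), (17299, 15577), (17300, 15109), (17301, 19338), (17302, 19339), (17303, 15582), (17304, 15583), (17305, 15112), (17306, 19344), (17307, 15589), (17308, 15732), (17309, 15115), (17310, 19347), (17311, 15744), (17312, 15119), (17313, 19350), (17314, 15930), (17315, 15121), (17316, 19352), (17317, 15924), (17318, 15124), (17319, 19355), (17320, 15931), (17321, 15128), (17322, 19358), (17323, 15945), (17324, 15131), (17325, 18458), (17326, 17326), (17327, 15134), (17328, 19361), (17329, 17329), (17330, 15137), (17331, 17331), (17332, 15140),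 (17333, 15154), (17334, 15162), (17335, 15163), (17336, 15165), (17337, 15166), (17338, 15169), (17339, 15175), (17340, 18262), (17341, 18962), (17342, 18972), (17343, 18256)]
    ⟨e3 q17280 (flp_b L708586) q19290, e3 q17281 L687771 q17281, e3 q17282 L687786 q17282, e3 q17283 L687796 q17283, e3 q17284 L687808 q17284, e3 q17285 L687818 q15095, e3 q17286 (flp_b L708935) q19326, e3 q17287 L687843 q17287, e3 q17288 L687853 q15098, e3 q17289 L694725 q18097, e3 q17290 L687874 q15560, e3 q17291 L687886 q15561, e3 q17292 L687901 q15563, e3 q17293 L687913 q15564, e3 q17294 L687928 q15565, e3 q17295 L687938 q15566, e3 q17296 L687948 q15568, e3 q17297 L687961 q15571, e3 q17298 L687975 q15576, e3 q17299 L687985 q15577, e3 q17300 (flp_b L687993) q15109, e3 q17301 (flp_b L709085) q19338, e3 q17302 (flp_b L709093) q19339, e3 q17303 L688023 q15582, e3 q17304 L688033 q15583, e3 q17305 (flp_b L688039) q15112, e3 q17306 (flp_b L709146) q19344, e3 q17307 L688067 q15589, e3 q17308 L688088 q15732, e3 q17309 L688092 q15115, e3 q17310 (flp_b L709184)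 q19347, e3 q17311 L688116 q15744, e3 q17312 L688129 q15119, e3 q17313 (flp_b L709219) q19350, e3 q17314 L688154 q15930, e3 q17315 L688158 q15121, e3 q17316 (flp_b L709238) q19352, e3 q17317 L688183 q15924, e3 q17318 L688187 q15124, e3 q17319 (flp_b L709269) q19355, e3 q17320 L688212 q15931, e3 q17321 L688222 q15128, e3 q17322 (flp_b L709304) q19358, e3 q17323 L688244 q15945, e3 q17324 L688254 q15131, e3 q17325 (flp_b L699514) q18458, e3 q17326 L688272 q17326, e3 q17327 L688281 q15134, e3 q17328 (flp_b L709332) q19361, e3 q17329 L688304 q17329, e3 q17330 L688312 q15137, e3 q17331 L688324 q17331, e3 q17332 L688330 q15140, e3 q17333 L688345 q15154, e3 q17334 L688361 q15162, e3 q17335 L688373 q15163, e3 q17336 L688388 q15165, e3 q17337 L688396 q15166, e3 q17338 L688406 q15169, e3 q17339 L688419 q15175, e3 q17340 (flp_b L697083) q18262, e3 q17341 (flp_b L705192) q18962, e3 q17342 (flp_b L705304) q18972, e3 q17343 (flp_b L697006) q18256, trivial⟩ (by decide +kernel)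

theorem ce_b_271 : ∀ r, r < 64 → sm gb (Qf (17344 + r)) = Qf (tab Gen.b (17344 + r)) :=
  edges_tab (sm gb) Qf (tab Gen.b) 17344 [(17344, 15960), (17345, 18263), (17346, 18973), (17347, 18268), (17348, 18645), (17349, 18646), (17350, 19379), (17351, 19363), (17352, 19364), (17353, 15164), (17354, 19385), (17355, 19386), (17356, 15555), (17357, 19365), (17358, 19366), (17359, 15167), (17360, 18236), (17361, 19393), (17362, 15553), (17363, 15557), (17364, 19367), (17365, 15172), (17366, 18233), (17367, 18239), (17368, 19399), (17369, 15556), (17370, 15558), (17371, 15178), (17372, 18243), (17373, 19404), (17374, 15554), (17375, 19407), (17376, 17376), (17377, 15185), (17378, 19241), (17379, 19410), (17380, 17380), (17381, 17381), (17382, 15274), (17383, 15189), (17384, 15190), (17385, 19416), (17386, 19417), (17387, 19418), (17388, 17388), (17389, 15281), (17390, 15194), (17391, 19423), (17392, 15284), (17393, 15198), (17394, 19426), (17395, 15287), (17396, 15201), (17397, 19428), (17398, 19429), (17399, 15668), (17400, 15669),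 (17401, 15670), (17402, 15671), (17403, 19437), (17404, 15673), (17405, 15674), (17406, 15207), (17407, 19442)]
    ⟨e3 q17344 L688466 q15960, e3 q17345 (flp_b L697096) q18263, e3 q17346 (flp_b L705318) q18973, e3 q17347 (flp_b L697154) q18268, e3 q17348 (flp_b L701927) q18645, e3 q17349 (flp_b L701938) q18646, e3 q17350 L709521 q19379, e3 q17351 (flp_b L709358) q19363, e3 q17352 (flp_b L709372) q19364, e3 q17353 (flp_b L688547) q15164, e3 q17354 (flp_b L709583) q19385, e3 q17355 (flp_b L709589) q19386, e3 q17356 L688575 q15555, e3 q17357 (flp_b L709384) q19365, e3 q17358 (flp_b L709394) q19366, e3 q17359 (flp_b L688593) q15167, e3 q17360 (flp_b L696759) q18236, e3 q17361 (flp_b L709649) q19393, e3 q17362 L688627 q15553, e3 q17363 L688639 q15557, e3 q17364 (flp_b L709404) q19367, e3 q17365 L688659 q15172, e3 q17366 (flp_b L696725) q18233, e3 q17367 (flp_b L696793) q18239, e3 q17368 (flp_b L709717) q19399, e3 q17369 L688695 q15556, e3 q17370 L688705 q15558, e3 q17371 L688715 q15178, e3 q17372 (flp_b L696844) q18243, e3 q17373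 (flp_b L709762) q19404, e3 q17374 L688742 q15554, e3 q17375 L709786 q19407, e3 q17376 L688769 q17376, e3 q17377 (flp_b L688779) q15185, e3 q17378 (flp_b L707974) q19241, e3 q17379 (flp_b L709829) q19410, e3 q17380 L688813 q17380, e3 q17381 L688827 q17381, e3 q17382 L688843 q15274, e3 q17383 L688847 q15189, e3 q17384 L688856 q15190, e3 q17385 (flp_b L709899) q19416, e3 q17386 (flp_b L709906) q19417, e3 q17387 (flp_b L709916) q19418, e3 q17388 L688896 q17388, e3 q17389 L688911 q15281, e3 q17390 L688915 q15194, e3 q17391 (flp_b L709969) q19423, e3 q17392 L688937 q15284, e3 q17393 L688945 q15198, e3 q17394 (flp_b L710000) q19426, e3 q17395 L688965 q15287, e3 q17396 L688975 q15201, e3 q17397 (flp_b L710017) q19428, e3 q17398 L710026 q19429, e3 q17399 L689001 q15668, e3 q17400 L689013 q15669, e3 q17401 L689023 q15670, e3 q17402 L689032 q15671, e3 q17403 L710105 q19437, e3 q17404 L689051 q15673, e3 q17405 L689063 q15674, e3 q17406 (flp_b L689071) q15207, e3 q17407 (flp_b L710159) q19442, trivial⟩ (by decide +kernel)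

theorem ce_b_272 : ∀ r, r < 64 → sm gb (Qf (17408 + r)) = Qf (tab Gen.b (17408 + r)) :=
  edges_tab (sm gb) Qf (tab Gen.b) 17408 [(17408, 19443), (17409, 15678), (17410, 15679), (17411, 15680), (17412, 15210), (17413, 19451), (17414, 15685), (17415, 15213), (17416, 15214), (17417, 19453), (17418, 19454), (17419, 19455), (17420, 15692), (17421, 15693), (17422, 15694), (17423, 15220), (17424, 15221), (17425, 19461), (17426, 19462), (17427, 15701), (17428, 15702), (17429, 15703), (17430, 19260), (17431, 15705), (17432, 15706), (17433, 15227), (17434, 19470), (17435, 19471), (17436, 15710), (17437, 15711), (17438, 15712), (17439, 19112), (17440, 15231), (17441, 15232), (17442, 19480), (17443, 19481), (17444, 19482), (17445, 19483), (17446, 15720), (17447, 15721), (17448, 15722), (17449, 19119), (17450, 15237), (17451, 15238), (17452, 19497), (17453, 19498), (17454, 19499), (17455, 15730), (17456, 15731), (17457, 15698), (17458, 19120), (17459, 15245), (17460, 15246), (17461, 15247), (17462, 19507), (17463, 19508), (17464, 19509),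 (17465, 19510), (17466, 15741), (17467, 15742), (17468, 15743), (17469, 15699), (17470, 19121), (17471, 15256)]
    ⟨e3 q17408 (flp_b L710167) q19443, e3 q17409 L689095 q15678, e3 q17410 L689107 q15679, e3 q17411 L689113 q15680, e3 q17412 (flp_b L689119) q15210, e3 q17413 (flp_b L710235) q19451, e3 q17414 L689143 q15685, e3 q17415 L689156 q15213, e3 q17416 L689170 q15214, e3 q17417 (flp_b L710260) q19453, e3 q17418 (flp_b L710276) q19454, e3 q17419 (flp_b L710290) q19455, e3 q17420 L689211 q15692, e3 q17421 L689221 q15693, e3 q17422 L689231 q15694, e3 q17423 L689245 q15220, e3 q17424 L689258 q15221, e3 q17425 (flp_b L710353) q19461, e3 q17426 (flp_b L710366) q19462, e3 q17427 L689284 q15701, e3 q17428 L689295 q15702, e3 q17429 L689305 q15703, e3 q17430 (flp_b L708216) q19260, e3 q17431 L689321 q15705, e3 q17432 L689327 q15706, e3 q17433 (flp_b L689334) q15227, e3 q17434 (flp_b L710430) q19470, e3 q17435 (flp_b L710438) q19471, e3 q17436 L689362 q15710, e3 q17437 L689374 q15711, e3 q17438 L689382 q15712, e3 q17439 (flp_b L706752)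 q19112, e3 q17440 L689398 q15231, e3 q17441 L689404 q15232, e3 q17442 (flp_b L710518) q19480, e3 q17443 (flp_b L710524) q19481, e3 q17444 (flp_b L710532) q19482, e3 q17445 (flp_b L710540) q19483, e3 q17446 L689436 q15720, e3 q17447 L689442 q15721, e3 q17448 L689450 q15722, e3 q17449 (flp_b L706815) q19119, e3 q17450 L689465 q15237, e3 q17451 L689477 q15238, e3 q17452 (flp_b L710640) q19497, e3 q17453 (flp_b L710651) q19498, e3 q17454 (flp_b L710663) q19499, e3 q17455 L689514 q15730, e3 q17456 L689524 q15731, e3 q17457 L689537 q15698, e3 q17458 (flp_b L706830) q19120, e3 q17459 L689558 q15245, e3 q17460 L689565 q15246, e3 q17461 L689576 q15247, e3 q17462 (flp_b L710745) q19507, e3 q17463 (flp_b L710756) q19508, e3 q17464 (flp_b L710765) q19509, e3 q17465 (flp_b L710775) q19510, e3 q17466 L689612 q15741, e3 q17467 L689620 q15742, e3 q17468 L689630 q15743, e3 q17469 L689638 q15699, e3 q17470 (flp_b L706844) q19121, e3 q17471 L689659 q15256, trivial⟩ (by decide +kernel)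

theorem ce_b_273 : ∀ r, r < 64 → sm gb (Qf (17472 + r)) = Qf (tab Gen.b (17472 + r)) :=
  edges_tab (sm gb) Qf (tab Gen.b) 17472 [(17472, 15257), (17473, 15258), (17474, 15259), (17475, 19519), (17476, 19520), (17477, 19521), (17478, 19522), (17479, 19197), (17480, 15755), (17481, 15756), (17482, 15759), (17483, 19228), (17484, 15290), (17485, 15271), (17486, 19014), (17487, 19235), (17488, 19528), (17489, 15294), (17490, 19415), (17491, 15277), (17492, 15278), (17493, 15279), (17494, 19534), (17495, 19535), (17496, 19536), (17497, 19537), (17498, 19422), (17499, 15283), (17500, 19543), (17501, 19425), (17502, 15286), (17503, 19209), (17504, 15293), (17505, 19236), (17506, 17506), (17507, 15299), (17508, 15300), (17509, 17509), (17510, 15327), (17511, 15323), (17512, 18570), (17513, 19265), (17514, 15312), (17515, 19549), (17516, 18566), (17517, 19263), (17518, 18126), (17519, 18577), (17520, 18578), (17521, 15329), (17522, 18592), (17523, 18567), (17524, 19547), (17525, 18504), (17526, 19546), (17527, 18579), (17528, 17528),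 (17529, 18589), (17530, 15335), (17531, 19559), (17532, 18511), (17533, 18572), (17534, 19266), (17535, 15342)]
    ⟨e3 q17472 L689672 q15257, e3 q17473 L689684 q15258, e3 q17474 L689693 q15259, e3 q17475 (flp_b L710851) q19519, e3 q17476 (flp_b L710865) q19520, e3 q17477 (flp_b L710878) q19521, e3 q17478 (flp_b L710891) q19522, e3 q17479 L707485 q19197, e3 q17480 L689729 q15755, e3 q17481 L689738 q15756, e3 q17482 L689744 q15759, e3 q17483 (flp_b L707807) q19228, e3 q17484 L689760 q15290, e3 q17485 L689770 q15271, e3 q17486 (flp_b L705742) q19014, e3 q17487 (flp_b L707887) q19235, e3 q17488 (flp_b L710932) q19528, e3 q17489 L689803 q15294, e3 q17490 (flp_b L709890) q19415, e3 q17491 L689821 q15277, e3 q17492 L689826 q15278, e3 q17493 L689835 q15279, e3 q17494 (flp_b L710982) q19534, e3 q17495 (flp_b L710988) q19535, e3 q17496 (flp_b L710995) q19536, e3 q17497 (flp_b L711005) q19537, e3 q17498 (flp_b L709960) q19422, e3 q17499 L689876 q15283, e3 q17500 (flp_b L711037) q19543, e3 q17501 (flp_b L709991) q19425, e3 q17502 L689903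 q15286, e3 q17503 L707573 q19209, e3 q17504 L689916 q15293, e3 q17505 (flp_b L707902) q19236, e3 q17506 L689942 q17506, e3 q17507 L689948 q15299, e3 q17508 L689956 q15300, e3 q17509 L689971 q17509, e3 q17510 L689983 q15327, e3 q17511 L689997 q15323, e3 q17512 (flp_b L701002) q18570, e3 q17513 (flp_b L708276) q19265, e3 q17514 L690027 q15312, e3 q17515 (flp_b L711100) q19549, e3 q17516 (flp_b L700957) q18566, e3 q17517 (flp_b L708244) q19263, e3 q17518 (flp_b L695171) q18126, e3 q17519 (flp_b L701068) q18577, e3 q17520 (flp_b L701081) q18578, e3 q17521 L690081 q15329, e3 q17522 (flp_b L701221) q18592, e3 q17523 (flp_b L700968) q18567, e3 q17524 (flp_b L711076) q19547, e3 q17525 (flp_b L700145) q18504, e3 q17526 (flp_b L711060) q19546, e3 q17527 (flp_b L701091) q18579, e3 q17528 L690137 q17528, e3 q17529 (flp_b L701195) q18589, e3 q17530 L690154 q15335, e3 q17531 (flp_b L711185) q19559, e3 q17532 (flp_b L700255) q18511, e3 q17533 (flp_b L701024) q18572, e3 q17534 (flp_b L708290) q19266, e3 q17535 L690186 q15342, trivial⟩ (by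 decide +kernel)

theorem ce_b_274 : ∀ r, r < 64 → sm gb (Qf (17536 + r)) = Qf (tab Gen.b (17536 + r)) :=
  edges_tab (sm gb) Qf (tab Gen.b) 17536 [(17536, 19563), (17537, 18551), (17538, 15348), (17539, 15349), (17540, 18515), (17541, 19566), (17542, 19567), (17543, 18564), (17544, 19272), (17545, 18513), (17546, 15363), (17547, 15359), (17548, 19572), (17549, 18558), (17550, 15362), (17551, 19574), (17552, 17552), (17553, 15436), (17554, 15437), (17555, 15441), (17556, 18214), (17557, 15428), (17558, 15429), (17559, 18817), (17560, 19283), (17561, 19286), (17562, 15431), (17563, 18818), (17564, 19287), (17565, 18824), (17566, 15382), (17567, 19588), (17568, 17568), (17569, 15385), (17570, 19590), (17571, 15421), (17572, 15389), (17573, 19592), (17574, 18803), (17575, 19273), (17576, 19274), (17577, 18812), (17578, 19275), (17579, 15395), (17580, 19599), (17581, 15434), (17582, 18201), (17583, 18202), (17584, 18831), (17585, 18832), (17586, 15439), (17587, 19277), (17588, 19278), (17589, 18207), (17590, 18846), (17591, 18847),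 (17592, 18848), (17593, 15440), (17594, 15443), (17595, 18744), (17596, 15412), (17597, 15413), (17598, 19614), (17599, 19615)]
    ⟨e3 q17536 (flp_b L711210) q19563, e3 q17537 (flp_b L700783) q18551, e3 q17538 L690208 q15348, e3 q17539 L690218 q15349, e3 q17540 (flp_b L700315) q18515, e3 q17541 (flp_b L711228) q19566, e3 q17542 (flp_b L711236) q19567, e3 q17543 (flp_b L700929) q18564, e3 q17544 (flp_b L708364) q19272, e3 q17545 (flp_b L700283) q18513, e3 q17546 L690271 q15363, e3 q17547 L690284 q15359, e3 q17548 (flp_b L711275) q19572, e3 q17549 (flp_b L700856) q18558, e3 q17550 L690311 q15362, e3 q17551 (flp_b L711289) q19574, e3 q17552 L690327 q17552, e3 q17553 L690337 q15436, e3 q17554 L690349 q15437, e3 q17555 L690364 q15441, e3 q17556 (flp_b L696481) q18214, e3 q17557 L690386 q15428, e3 q17558 L690398 q15429, e3 q17559 (flp_b L703708) q18817, e3 q17560 (flp_b L708508) q19283, e3 q17561 (flp_b L708538) q19286, e3 q17562 L690436 q15431, e3 q17563 (flp_b L703718) q18818, e3 q17564 (flp_b L708550) q19287, e3 q17565 (flp_b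 L703772) q18824, e3 q17566 (flp_b L690470) q15382, e3 q17567 (flp_b L711437) q19588, e3 q17568 L690488 q17568, e3 q17569 L690496 q15385, e3 q17570 (flp_b L711455) q19590, e3 q17571 L690516 q15421, e3 q17572 L690528 q15389, e3 q17573 (flp_b L711475) q19592, e3 q17574 (flp_b L703585) q18803, e3 q17575 (flp_b L708376) q19273, e3 q17576 (flp_b L708390) q19274, e3 q17577 (flp_b L703656) q18812, e3 q17578 (flp_b L708402) q19275, e3 q17579 L690576 q15395, e3 q17580 (flp_b L711523) q19599, e3 q17581 L690587 q15434, e3 q17582 (flp_b L696291) q18201, e3 q17583 (flp_b L696309) q18202, e3 q17584 (flp_b L703825) q18831, e3 q17585 (flp_b L703833) q18832, e3 q17586 L690621 q15439, e3 q17587 (flp_b L708432) q19277, e3 q17588 (flp_b L708444) q19278, e3 q17589 (flp_b L696371) q18207, e3 q17590 (flp_b L703959) q18846, e3 q17591 (flp_b L703968) q18847, e3 q17592 (flp_b L703981) q18848, e3 q17593 L690667 q15440, e3 q17594 L690675 q15443, e3 q17595 (flp_b L702978) q18744, e3 q17596 L690689 q15412, e3 q17597 L690698 q15413, e3 q17598 (flp_b L711623)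 q19614, e3 q17599 (flp_b L711631) q19615, trivial⟩ (by decide +kernel)

theorem ce_b_275 : ∀ r, r < 64 → sm gb (Qf (17600 + r)) = Qf (tab Gen.b (17600 + r)) :=
  edges_tab (sm gb) Qf (tab Gen.b) 17600 [(17600, 18883), (17601, 18884), (17602, 18885), (17603, 15424), (17604, 18897), (17605, 15866), (17606, 15423), (17607, 18780), (17608, 18813), (17609, 19579), (17610, 19580), (17611, 18814), (17612, 19585), (17613, 15433), (17614, 19629), (17615, 18613), (17616, 18614), (17617, 19576), (17618, 19577), (17619, 18833), (17620, 18849), (17621, 19607), (17622, 19612), (17623, 19578), (17624, 18850), (17625, 15495), (17626, 15446), (17627, 19640), (17628, 17628), (17629, 17629), (17630, 18874), (17631, 17631), (17632, 18875), (17633, 15527), (17634, 15457), (17635, 18644), (17636, 15458), (17637, 19645), (17638, 19646), (17639, 19288), (17640, 19289), (17641, 15462), (17642, 19651), (17643, 15467), (17644, 15468), (17645, 19653), (17646, 19654), (17647, 18631), (17648, 19292), (17649, 19293), (17650, 15473), (17651, 19661), (17652,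 19662), (17653, 19296), (17654, 19297), (17655, 18759), (17656, 15477), (17657, 15478), (17658, 19668), (17659, 19669), (17660, 19670), (17661, 19671), (17662, 19304), (17663, 19305)]
    ⟨e3 q17600 (flp_b L704279) q18883, e3 q17601 (flp_b L704288) q18884, e3 q17602 (flp_b L704299) q18885, e3 q17603 L690733 q15424, e3 q17604 (flp_b L704431) q18897, e3 q17605 L690750 q15866, e3 q17606 L690760 q15423, e3 q17607 (flp_b L703332) q18780, e3 q17608 (flp_b L703667) q18813, e3 q17609 (flp_b L711349) q19579, e3 q17610 (flp_b L711363) q19580, e3 q17611 (flp_b L703676) q18814, e3 q17612 (flp_b L711407) q19585, e3 q17613 L690811 q15433, e3 q17614 (flp_b L711731) q19629, e3 q17615 (flp_b L701523) q18613, e3 q17616 (flp_b L701535) q18614, e3 q17617 (flp_b L711307) q19576, e3 q17618 (flp_b L711321) q19577, e3 q17619 (flp_b L703845) q18833, e3 q17620 (flp_b L703991) q18849, e3 q17621 (flp_b L711576) q19607, e3 q17622 (flp_b L711613) q19612, e3 q17623 (flp_b L711333) q19578, e3 q17624 (flp_b L704001) q18850, e3 q17625 L690904 q15495, e3 q17626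 L690910 q15446, e3 q17627 (flp_b L711814) q19640, e3 q17628 L690922 q17628, e3 q17629 L690931 q17629, e3 q17630 (flp_b L704197) q18874, e3 q17631 L690950 q17631, e3 q17632 (flp_b L704209) q18875, e3 q17633 L690967 q15527, e3 q17634 L690975 q15457, e3 q17635 (flp_b L701914) q18644, e3 q17636 (flp_b L690985) q15458, e3 q17637 (flp_b L711854) q19645, e3 q17638 (flp_b L711860) q19646, e3 q17639 (flp_b L708564) q19288, e3 q17640 (flp_b L708576) q19289, e3 q17641 L691017 q15462, e3 q17642 (flp_b L711890) q19651, e3 q17643 L691032 q15467, e3 q17644 L691038 q15468, e3 q17645 (flp_b L711905) q19653, e3 q17646 (flp_b L711913) q19654, e3 q17647 (flp_b L701748) q18631, e3 q17648 (flp_b L708608) q19292, e3 q17649 (flp_b L708618) q19293, e3 q17650 (flp_b L691073) q15473, e3 q17651 (flp_b L711955) q19661, e3 q17652 (flp_b L711961) q19662, e3 q17653 (flp_b L708648) q19296, e3 q17654 (flp_b L708660) q19297, e3 q17655 (flp_b L703124) q18759, e3 q17656 L691119 q15477, e3 q17657 L691123 q15478, e3 q17658 (flp_b L712005) q19668, e3 q17659 (flp_b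 L712011) q19669, e3 q17660 (flp_b L712017) q19670, e3 q17661 (flp_b L712023) q19671, e3 q17662 (flp_b L708726) q19304, e3 q17663 (flp_b L708736) q19305, trivial⟩ (by decide +kernel)

theorem ce_b_276 : ∀ r, r < 64 → sm gb (Qf (17664 + r)) = Qf (tab Gen.b (17664 + r)) :=
  edges_tab (sm gb) Qf (tab Gen.b) 17664 [(17664, 19306), (17665, 15483), (17666, 19682), (17667, 18760), (17668, 15488), (17669, 15489), (17670, 15490), (17671, 18647), (17672, 19685), (17673, 19686), (17674, 19687), (17675, 18801), (17676, 19316), (17677, 19317), (17678, 18548), (17679, 19639), (17680, 15500), (17681, 15501), (17682, 15502), (17683, 18652), (17684, 19696), (17685, 19697), (17686, 19699), (17687, 19322), (17688, 19323), (17689, 18802), (17690, 18637), (17691, 15530), (17692, 15512), (17693, 19704), (17694, 18776), (17695, 15518), (17696, 15519), (17697, 15520), (17698, 19001), (17699, 19707), (17700, 19708), (17701, 19709), (17702, 15523), (17703, 19714), (17704, 18777), (17705, 15526), (17706, 19717), (17707, 18706), (17708, 18639), (17709,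 15529), (17710, 18695), (17711, 17711), (17712, 15534), (17713, 15535), (17714, 17714), (17715, 17715), (17716, 15541), (17717, 15542), (17718, 17718), (17719, 17719), (17720, 18638), (17721, 15547), (17722, 18728), (17723, 18729), (17724, 19382), (17725, 19397), (17726, 19391), (17727, 19403)]
    ⟨e3 q17664 (flp_b L708748) q19306, e3 q17665 L691173 q15483, e3 q17666 (flp_b L712093) q19682, e3 q17667 (flp_b L703134) q18760, e3 q17668 L691195 q15488, e3 q17669 L691201 q15489, e3 q17670 L691211 q15490, e3 q17671 (flp_b L701950) q18647, e3 q17672 (flp_b L712111) q19685, e3 q17673 (flp_b L712119) q19686, e3 q17674 (flp_b L712127) q19687, e3 q17675 (flp_b L703552) q18801, e3 q17676 (flp_b L708850) q19316, e3 q17677 (flp_b L708860) q19317, e3 q17678 (flp_b L700737) q18548, e3 q17679 (flp_b L711810) q19639, e3 q17680 L691277 q15500, e3 q17681 L691285 q15501, e3 q17682 L691291 q15502, e3 q17683 (flp_b L701998) q18652, e3 q17684 (flp_b L712191) q19696, e3 q17685 (flp_b L712197) q19697, e3 q17686 (flp_b L712207) q19699, e3 q17687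 (flp_b L708894) q19322, e3 q17688 (flp_b L708904) q19323, e3 q17689 (flp_b L703564) q18802, e3 q17690 (flp_b L701812) q18637, e3 q17691 L691349 q15530, e3 q17692 L691360 q15512, e3 q17693 (flp_b L712238) q19704, e3 q17694 (flp_b L703285) q18776, e3 q17695 L691387 q15518, e3 q17696 L691393 q15519, e3 q17697 L691403 q15520, e3 q17698 (flp_b L705624) q19001, e3 q17699 (flp_b L712265) q19707, e3 q17700 (flp_b L712273) q19708, e3 q17701 (flp_b L712284) q19709, e3 q17702 L691441 q15523, e3 q17703 (flp_b L712312) q19714, e3 q17704 (flp_b L703298) q18777, e3 q17705 L691468 q15526, e3 q17706 (flp_b L712333) q19717, e3 q17707 (flp_b L702542) q18706, e3 q17708 (flp_b L701843) q18639, e3 q17709 L691492 q15529, e3 q17710 L702408 q18695, e3 q17711 L691506 q17711, e3 q17712 L691513 q15534, e3 q17713 L691525 q15535, e3 q17714 L691536 q17714, e3 q17715 L691545 q17715, e3 q17716 L691551 q15541, e3 q17717 L691567 q15542, e3 q17718 L691578 q17718, e3 q17719 L691588 q17719, e3 q17720 (flp_b L701828) q18638, e3 q17721 L691599 q15547, e3 q17722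 (flp_b L702805) q18728, e3 q17723 (flp_b L702816) q18729, e3 q17724 (flp_b L709553) q19382, e3 q17725 (flp_b L709692) q19397, e3 q17726 (flp_b L709635) q19391, e3 q17727 (flp_b L709754) q19403, trivial⟩ (by decide +kernel)

theorem ce_b_277 : ∀ r, r < 64 → sm gb (Qf (17728 + r)) = Qf (tab Gen.b (17728 + r)) :=
  edges_tab (sm gb) Qf (tab Gen.b) 17728 [(17728, 19398), (17729, 19328), (17730, 19329), (17731, 18323), (17732, 18324), (17733, 19330), (17734, 19331), (17735, 15630), (17736, 19332), (17737, 19333), (17738, 15632), (17739, 19334), (17740, 15631), (17741, 15633), (17742, 19012), (17743, 19300), (17744, 19324), (17745, 15575), (17746, 19742), (17747, 19743), (17748, 15637), (17749, 19335), (17750, 19336), (17751, 15579), (17752, 15580), (17753, 19751), (17754, 19752), (17755, 19753), (17756, 19754), (17757, 15642), (17758, 19342), (17759, 15585), (17760, 15586), (17761, 19761), (17762, 19762), (17763, 19763), (17764, 15634), (17765, 15638), (17766, 15646), (17767, 15592), (17768, 15593), (17769, 15594), (17770, 19768),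 (17771, 19769), (17772, 15643), (17773, 15599), (17774, 19772), (17775, 15635), (17776, 19013), (17777, 15606), (17778, 19017), (17779, 19018), (17780, 15967), (17781, 15611), (17782, 15612), (17783, 19774), (17784, 15968), (17785, 17785), (17786, 17786), (17787, 18247), (17788, 18954), (17789, 18955), (17790, 18961), (17791, 18992)]
    ⟨e3 q17728 (flp_b L709704) q19398, e3 q17729 (flp_b L708960) q19328, e3 q17730 (flp_b L708974) q19329, e3 q17731 (flp_b L697917) q18323, e3 q17732 (flp_b L697930) q18324, e3 q17733 (flp_b L708986) q19330, e3 q17734 (flp_b L709000) q19331, e3 q17735 L691705 q15630, e3 q17736 (flp_b L709012) q19332, e3 q17737 (flp_b L709022) q19333, e3 q17738 L691727 q15632, e3 q17739 (flp_b L709034) q19334, e3 q17740 L691747 q15631, e3 q17741 L691755 q15633, e3 q17742 (flp_b L705707) q19012, e3 q17743 (flp_b L708694) q19300, e3 q17744 (flp_b L708912) q19324, e3 q17745 (flp_b L691781) q15575, e3 q17746 (flp_b L712520) q19742, e3 q17747 (flp_b L712526) q19743, e3 q17748 L691807 q15637, e3 q17749 (flp_b L709049)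 q19335, e3 q17750 (flp_b L709061) q19336, e3 q17751 L691829 q15579, e3 q17752 L691833 q15580, e3 q17753 (flp_b L712592) q19751, e3 q17754 (flp_b L712602) q19752, e3 q17755 (flp_b L712610) q19753, e3 q17756 (flp_b L712616) q19754, e3 q17757 L691863 q15642, e3 q17758 (flp_b L709123) q19342, e3 q17759 L691875 q15585, e3 q17760 L691885 q15586, e3 q17761 (flp_b L712659) q19761, e3 q17762 (flp_b L712668) q19762, e3 q17763 (flp_b L712680) q19763, e3 q17764 L691918 q15634, e3 q17765 L691927 q15638, e3 q17766 L691937 q15646, e3 q17767 L691946 q15592, e3 q17768 L691953 q15593, e3 q17769 L691964 q15594, e3 q17770 (flp_b L712722) q19768, e3 q17771 (flp_b L712731) q19769, e3 q17772 L691985 q15643, e3 q17773 L691991 q15599, e3 q17774 (flp_b L712752) q19772, e3 q17775 L692004 q15635, e3 q17776 (flp_b L705720) q19013, e3 q17777 L692019 q15606, e3 q17778 (flp_b L705767) q19017, e3 q17779 (flp_b L705782) q19018, e3 q17780 L692045 q15967, e3 q17781 L692059 q15611, e3 q17782 L692070 q15612, e3 q17783 (flp_b L712767) q19774, e3 q17784 L692088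 q15968, e3 q17785 L692100 q17785, e3 q17786 L692113 q17786, e3 q17787 (flp_b L696910) q18247, e3 q17788 (flp_b L705094) q18954, e3 q17789 (flp_b L705110) q18955, e3 q17790 (flp_b L705176) q18961, e3 q17791 (flp_b L705516) q18992, trivial⟩ (by decide +kernel)

theorem ce_b_278 : ∀ r, r < 64 → sm gb (Qf (17792 + r)) = Qf (tab Gen.b (17792 + r)) :=
  edges_tab (sm gb) Qf (tab Gen.b) 17792 [(17792, 19733), (17793, 19736), (17794, 19735), (17795, 19217), (17796, 19748), (17797, 19766), (17798, 15636), (17799, 19788), (17800, 19789), (17801, 19749), (17802, 19767), (17803, 15713), (17804, 15640), (17805, 15641), (17806, 19795), (17807, 19796), (17808, 19797), (17809, 19759), (17810, 15723), (17811, 15645), (17812, 19803), (17813, 15733), (17814, 15649), (17815, 15745), (17816, 19255), (17817, 15656), (17818, 19249), (17819, 15765), (17820, 15661), (17821, 15662), (17822, 19133), (17823, 19805), (17824, 15770), (17825, 15667), (17826, 19809), (17827, 19810), (17828, 19432), (17829, 19433), (17830, 19259), (17831, 19435), (17832,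 19436), (17833, 15672), (17834, 19820), (17835, 19821), (17836, 19440), (17837, 19441), (17838, 18429), (17839, 15676), (17840, 15677), (17841, 19828), (17842, 19829), (17843, 19830), (17844, 19831), (17845, 19448), (17846, 19449), (17847, 19450), (17848, 18440), (17849, 15682), (17850, 15683), (17851, 19843), (17852, 19844), (17853, 15965), (17854, 18441), (17855, 15689)]
    ⟨e3 q17792 (flp_b L712452) q19733, e3 q17793 (flp_b L712481) q19736, e3 q17794 (flp_b L712468) q19735, e3 q17795 (flp_b L707685) q19217, e3 q17796 (flp_b L712566) q19748, e3 q17797 (flp_b L712705) q19766, e3 q17798 (flp_b L692209) q15636, e3 q17799 (flp_b L712874) q19788, e3 q17800 (flp_b L712880) q19789, e3 q17801 (flp_b L712574) q19749, e3 q17802 (flp_b L712714) q19767, e3 q17803 L692259 q15713, e3 q17804 L692263 q15640, e3 q17805 L692267 q15641, e3 q17806 (flp_b L712934) q19795, e3 q17807 (flp_b L712940) q19796, e3 q17808 (flp_b L712946) q19797, e3 q17809 (flp_b L712647) q19759, e3 q17810 L692308 q15723, e3 q17811 L692312 q15645, e3 q17812 (flp_b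 L712989) q19803, e3 q17813 L692332 q15733, e3 q17814 L692340 q15649, e3 q17815 L692348 q15745, e3 q17816 (flp_b L708154) q19255, e3 q17817 L692362 q15656, e3 q17818 (flp_b L708069) q19249, e3 q17819 L692387 q15765, e3 q17820 L692394 q15661, e3 q17821 L692400 q15662, e3 q17822 (flp_b L706964) q19133, e3 q17823 (flp_b L713004) q19805, e3 q17824 L692427 q15770, e3 q17825 (flp_b L692437) q15667, e3 q17826 (flp_b L713036) q19809, e3 q17827 (flp_b L713040) q19810, e3 q17828 (flp_b L710058) q19432, e3 q17829 (flp_b L710070) q19433, e3 q17830 (flp_b L708202) q19259, e3 q17831 (flp_b L710088) q19435, e3 q17832 (flp_b L710098) q19436, e3 q17833 (flp_b L692487) q15672, e3 q17834 (flp_b L713105) q19820, e3 q17835 (flp_b L713113) q19821, e3 q17836 (flp_b L710137) q19440, e3 q17837 (flp_b L710149) q19441, e3 q17838 (flp_b L699195) q18429, e3 q17839 L692539 q15676, e3 q17840 L692545 q15677, e3 q17841 (flp_b L713169) q19828, e3 q17842 (flp_b L713175) q19829, e3 q17843 (flp_b L713183) q19830, e3 q17844 (flp_b L713189) q19831, e3 q17845 (flp_b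 L710205) q19448, e3 q17846 (flp_b L710215) q19449, e3 q17847 (flp_b L710227) q19450, e3 q17848 (flp_b L699314) q18440, e3 q17849 L692606 q15682, e3 q17850 L692618 q15683, e3 q17851 (flp_b L713271) q19843, e3 q17852 (flp_b L713283) q19844, e3 q17853 L692646 q15965, e3 q17854 (flp_b L699329) q18441, e3 q17855 L692665 q15689, trivial⟩ (by decide +kernel)

theorem ce_b_279 : ∀ r, r < 64 → sm gb (Qf (17856 + r)) = Qf (tab Gen.b (17856 + r)) :=
  edges_tab (sm gb) Qf (tab Gen.b) 17856 [(17856, 15690), (17857, 15691), (17858, 19504), (17859, 19847), (17860, 19848), (17861, 19075), (17862, 19459), (17863, 19460), (17864, 18442), (17865, 15700), (17866, 19495), (17867, 19505), (17868, 19518), (17869, 19855), (17870, 19463), (17871, 19464), (17872, 19261), (17873, 19226), (17874, 19467), (17875, 19468), (17876, 19469), (17877, 15708), (17878, 15709), (17879, 15807), (17880, 19866), (17881, 19867), (17882, 19868), (17883, 18799), (17884, 19476), (17885, 19477), (17886, 19793), (17887, 19794), (17888, 15716), (17889, 15717), (17890,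 15718), (17891, 15719), (17892, 19880), (17893, 19033), (17894, 19881), (17895, 19882), (17896, 19883), (17897, 19884), (17898, 19885), (17899, 19491), (17900, 19492), (17901, 19493), (17902, 19494), (17903, 19343), (17904, 19802), (17905, 15726), (17906, 15727), (17907, 15728), (17908, 19903), (17909, 19904), (17910, 15956), (17911, 18796), (17912, 18800), (17913, 19503), (17914, 19337), (17915, 19346), (17916, 19804), (17917, 15737), (17918, 15738), (17919, 15739)]
    ⟨e3 q17856 L692672 q15690, e3 q17857 L692681 q15691, e3 q17858 (flp_b L710711) q19504, e3 q17859 (flp_b L713313) q19847, e3 q17860 (flp_b L713320) q19848, e3 q17861 (flp_b L706407) q19075, e3 q17862 (flp_b L710331) q19459, e3 q17863 (flp_b L710341) q19460, e3 q17864 (flp_b L699343) q18442, e3 q17865 L692744 q15700, e3 q17866 (flp_b L710617) q19495, e3 q17867 (flp_b L710724) q19505, e3 q17868 (flp_b L710836) q19518, e3 q17869 (flp_b L713379) q19855, e3 q17870 (flp_b L710376) q19463, e3 q17871 (flp_b L710387) q19464, e3 q17872 (flp_b L708224) q19261, e3 q17873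 (flp_b L707779) q19226, e3 q17874 (flp_b L710410) q19467, e3 q17875 (flp_b L710415) q19468, e3 q17876 (flp_b L710423) q19469, e3 q17877 L692825 q15708, e3 q17878 L692833 q15709, e3 q17879 L692843 q15807, e3 q17880 (flp_b L713454) q19866, e3 q17881 (flp_b L713464) q19867, e3 q17882 (flp_b L713474) q19868, e3 q17883 (flp_b L703533) q18799, e3 q17884 (flp_b L710482) q19476, e3 q17885 (flp_b L710494) q19477, e3 q17886 (flp_b L712920) q19793, e3 q17887 (flp_b L712926) q19794, e3 q17888 L692905 q15716, e3 q17889 L692913 q15717, e3 q17890 L692919 q15718, e3 q17891 L692925 q15719, e3 q17892 (flp_b L713564) q19880, e3 q17893 (flp_b L705956) q19033, e3 q17894 (flp_b L713574) q19881, e3 q17895 (flp_b L713584) q19882, e3 q17896 (flp_b L713590) q19883, e3 q17897 (flp_b L713598) q19884, e3 q17898 (flp_b L713604) q19885, e3 q17899 (flp_b L710589) q19491, e3 q17900 (flp_b L710595) q19492, e3 q17901 (flp_b L710603) q19493, e3 q17902 (flp_b L710611) q19494, e3 q17903 (flp_b L709142) q19343, e3 q17904 (flp_b L712980) q19802, e3 q17905 L693009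 q15726, e3 q17906 L693017 q15727, e3 q17907 L693028 q15728, e3 q17908 (flp_b L713716) q19903, e3 q17909 (flp_b L713726) q19904, e3 q17910 L693056 q15956, e3 q17911 (flp_b L703502) q18796, e3 q17912 (flp_b L703543) q18800, e3 q17913 (flp_b L710699) q19503, e3 q17914 (flp_b L709081) q19337, e3 q17915 (flp_b L709172) q19346, e3 q17916 (flp_b L712998) q19804, e3 q17917 L693107 q15737, e3 q17918 L693115 q15738, e3 q17919 L693123 q15739, trivial⟩ (by decide +kernel)

theorem ce_b_280 : ∀ r, r < 64 → sm gb (Qf (17920 + r)) = Qf (tab Gen.b (17920 + r)) :=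
  edges_tab (sm gb) Qf (tab Gen.b) 17920 [(17920, 15740), (17921, 19808), (17922, 19912), (17923, 19913), (17924, 19914), (17925, 18347), (17926, 19516), (17927, 19517), (17928, 19349), (17929, 15750), (17930, 15751), (17931, 15752), (17932, 15753), (17933, 19921), (17934, 19922), (17935, 19923), (17936, 18351), (17937, 19526), (17938, 18797), (17939, 15769), (17940, 15768), (17941, 19034), (17942, 19872), (17943, 19869), (17944, 15916), (17945, 18342), (17946, 17946), (17947, 18277), (17948, 18291), (17949, 19215), (17950, 15783), (17951, 19931), (17952, 19932), (17953, 17953), (17954, 17954), (17955, 15936), (17956, 15787), (17957, 15788), (17958, 19938), (17959, 19939), (17960, 19940), (17961, 17961), (17962, 19258), (17963, 15795), (17964, 19073), (17965, 19237), (17966, 19221), (17967, 15800), (17968, 15801), (17969, 19067), (17970, 19947), (17971, 19229), (17972, 19068), (17973, 18341), (17974, 15914), (17975, 18514), (17976, 15822), (17977, 18494), (17978, 17978), (17979, 15817), (17980, 18561), (17981, 18085), (17982,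 15821), (17983, 15824)]
    ⟨e3 q17920 L693131 q15740, e3 q17921 (flp_b L713032) q19808, e3 q17922 (flp_b L713789) q19912, e3 q17923 (flp_b L713799) q19913, e3 q17924 (flp_b L713805) q19914, e3 q17925 (flp_b L698223) q18347, e3 q17926 (flp_b L710816) q19516, e3 q17927 (flp_b L710826) q19517, e3 q17928 (flp_b L709206) q19349, e3 q17929 L693200 q15750, e3 q17930 L693207 q15751, e3 q17931 L693215 q15752, e3 q17932 L693222 q15753, e3 q17933 (flp_b L713857) q19921, e3 q17934 (flp_b L713866) q19922, e3 q17935 (flp_b L713872) q19923, e3 q17936 (flp_b L698275) q18351, e3 q17937 (flp_b L710917) q19526, e3 q17938 (flp_b L703513) q18797, e3 q17939 L693272 q15769, e3 q17940 L693282 q15768, e3 q17941 (flp_b L705968) q19034, e3 q17942 (flp_b L713512) q19872, e3 q17943 (flp_b L713484) q19869, e3 q17944 L693306 q15916, e3 q17945 (flp_b L698164) q18342, e3 q17946 L693323 q17946, e3 q17947 (flp_b L697264) q18277, e3 q17948 (flp_b L697453) q18291, e3 q17949 (flp_b L707654) q19215, e3 q17950 (flp_b L693351) q15783, e3 q17951 (flp_b L713934)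 q19931, e3 q17952 (flp_b L713947) q19932, e3 q17953 L693381 q17953, e3 q17954 L693391 q17954, e3 q17955 L693405 q15936, e3 q17956 L693409 q15787, e3 q17957 L693416 q15788, e3 q17958 (flp_b L714003) q19938, e3 q17959 (flp_b L714008) q19939, e3 q17960 (flp_b L714016) q19940, e3 q17961 L693442 q17961, e3 q17962 (flp_b L708188) q19258, e3 q17963 L693456 q15795, e3 q17964 (flp_b L706385) q19073, e3 q17965 (flp_b L707918) q19237, e3 q17966 (flp_b L707732) q19221, e3 q17967 L693488 q15800, e3 q17968 L693493 q15801, e3 q17969 (flp_b L706305) q19067, e3 q17970 (flp_b L714061) q19947, e3 q17971 (flp_b L707813) q19229, e3 q17972 (flp_b L706316) q19068, e3 q17973 (flp_b L698148) q18341, e3 q17974 L693532 q15914, e3 q17975 (flp_b L700300) q18514, e3 q17976 L693548 q15822, e3 q17977 (flp_b L699971) q18494, e3 q17978 L693572 q17978, e3 q17979 L693577 q15817, e3 q17980 (flp_b L700893) q18561, e3 q17981 L694543 q18085, e3 q17982 L693602 q15821, e3 q17983 L693614 q15824, trivial⟩ (by decide +kernel)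

theorem ce_b_281 : ∀ r, r < 64 → sm gb (Qf (17984 + r)) = Qf (tab Gen.b (17984 + r)) :=
  edges_tab (sm gb) Qf (tab Gen.b) 17984 [(17984, 17984), (17985, 17985), (17986, 15827), (17987, 18643), (17988, 15840), (17989, 18648), (17990, 18168), (17991, 18508), (17992, 15851), (17993, 18680), (17994, 15857), (17995, 15858), (17996, 19008), (17997, 19952), (17998, 19953), (17999, 18602), (18000, 18000), (18001, 15862), (18002, 19956), (18003, 18789), (18004, 15868), (18005, 18005), (18006, 18006), (18007, 18007), (18008, 15873), (18009, 18009), (18010, 18010), (18011, 15876), (18012, 19958), (18013, 15880), (18014, 15906), (18015, 15888), (18016, 19962), (18017, 15905), (18018, 15891), (18019, 19961), (18020, 15932), (18021, 15894), (18022, 18475), (18023, 15904), (18024, 19160), (18025, 19966), (18026, 19354), (18027, 18472), (18028, 18464), (18029, 18460), (18030, 15917), (18031, 15918), (18032, 15919), (18033, 19950), (18034, 19046), (18035, 19929), (18036, 19047), (18037, 19907), (18038, 19970), (18039, 19971), (18040, 19972),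 (18041, 15928), (18042, 18042), (18043, 18043), (18044, 19985), (18045, 18463), (18046, 15927), (18047, 19983)]
    ⟨e3 q17984 L693630 q17984, e3 q17985 L693651 q17985, e3 q17986 L693658 q15827, e3 q17987 (flp_b L701899) q18643, e3 q17988 L693679 q15840, e3 q17989 (flp_b L701962) q18648, e3 q17990 (flp_b L695779) q18168, e3 q17991 (flp_b L700207) q18508, e3 q17992 L693709 q15851, e3 q17993 (flp_b L702249) q18680, e3 q17994 L693717 q15857, e3 q17995 L693724 q15858, e3 q17996 (flp_b L705676) q19008, e3 q17997 (flp_b L714089) q19952, e3 q17998 (flp_b L714094) q19953, e3 q17999 (flp_b L701368) q18602, e3 q18000 L693759 q18000, e3 q18001 L693764 q15862, e3 q18002 (flp_b L714112) q19956, e3 q18003 (flp_b L703434) q18789, e3 q18004 L693780 q15868, e3 q18005 L693792 q18005, e3 q18006 L693801 q18006, e3 q18007 L693814 q18007, e3 q18008 L693817 q15873, e3 q18009 L693826 q18009, e3 q18010 L693847 q18010, e3 q18011 L693854 q15876, e3 q18012 L714132 q19958, e3 q18013 L693875 q15880, e3 q18014 L693883 q15906, e3 q18015 L693894 q15888,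 e3 q18016 (flp_b L714168) q19962, e3 q18017 L693917 q15905, e3 q18018 L693928 q15891, e3 q18019 (flp_b L714154) q19961, e3 q18020 L693951 q15932, e3 q18021 L693958 q15894, e3 q18022 (flp_b L699720) q18475, e3 q18023 L693977 q15904, e3 q18024 (flp_b L707161) q19160, e3 q18025 (flp_b L714210) q19966, e3 q18026 (flp_b L709258) q19354, e3 q18027 (flp_b L699687) q18472, e3 q18028 (flp_b L699589) q18464, e3 q18029 (flp_b L699543) q18460, e3 q18030 L694033 q15917, e3 q18031 L694042 q15918, e3 q18032 L694053 q15919, e3 q18033 (flp_b L714076) q19950, e3 q18034 (flp_b L706086) q19046, e3 q18035 (flp_b L713913) q19929, e3 q18036 (flp_b L706099) q19047, e3 q18037 (flp_b L713750) q19907, e3 q18038 (flp_b L714244) q19970, e3 q18039 (flp_b L714254) q19971, e3 q18040 (flp_b L714266) q19972, e3 q18041 L694113 q15928, e3 q18042 L694124 q18042, e3 q18043 L694133 q18043, e3 q18044 L714362 q19985, e3 q18045 (flp_b L699574) q18463, e3 q18046 L694162 q15927, e3 q18047 (flp_b L714343) q19983, trivial⟩ (by decide +kernel)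

theorem ce_b_282 : ∀ r, r < 64 → sm gb (Qf (18048 + r)) = Qf (tab Gen.b (18048 + r)) :=
  edges_tab (sm gb) Qf (tab Gen.b) 18048 [(18048, 19982), (18049, 19351), (18050, 19357), (18051, 15937), (18052, 15938), (18053, 15939), (18054, 19937), (18055, 19988), (18056, 19989), (18057, 18365), (18058, 18364), (18059, 15973), (18060, 18288), (18061, 15950), (18062, 15951), (18063, 15952), (18064, 19210), (18065, 19995), (18066, 19048), (18067, 19373), (18068, 18257), (18069, 18968), (18070, 15964), (18071, 19997), (18072, 19076), (18073, 18296), (18074, 18285), (18075, 19994), (18076, 15976), (18077, 20000), (18078, 18078), (18079, 18079), (18080, 18080), (18081, 16554), (18082, 18082), (18083, 18083), (18084, 18084), (18085, 17981), (18086, 16005), (18087, 16551), (18088, 16392), (18089, 16020), (18090, 18090), (18091, 18091), (18092, 18092), (18093, 18093), (18094, 18094), (18095, 18095), (18096, 18096), (18097, 17289), (18098, 18098), (18099, 16007), (18100, 18100), (18101, 16011), (18102, 18102), (18103, 16014), (18104, 20008),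 (18105, 18105), (18106, 16017), (18107, 18107), (18108, 16435), (18109, 16436), (18110, 16420), (18111, 16442)]
    ⟨e3 q18048 (flp_b L714333) q19982, e3 q18049 (flp_b L709228) q19351, e3 q18050 (flp_b L709293) q19357, e3 q18051 L694205 q15937, e3 q18052 L694214 q15938, e3 q18053 L694222 q15939, e3 q18054 (flp_b L713994) q19937, e3 q18055 (flp_b L714391) q19988, e3 q18056 (flp_b L714401) q19989, e3 q18057 (flp_b L698471) q18365, e3 q18058 (flp_b L698454) q18364, e3 q18059 L694266 q15973, e3 q18060 (flp_b L697412) q18288, e3 q18061 L694288 q15950, e3 q18062 L694297 q15951, e3 q18063 L694306 q15952, e3 q18064 (flp_b L707586) q19210, e3 q18065 (flp_b L714444) q19995, e3 q18066 (flp_b L706113) q19048, e3 q18067 (flp_b L709464) q19373, e3 q18068 (flp_b L697020) q18257, e3 q18069 (flp_b L705252) q18968, e3 q18070 L694350 q15964, e3 q18071 (flp_b L714458) q19997, e3 q18072 (flp_b L706421) q19076, e3 q18073 (flp_b L697530) q18296, e3 q18074 (flp_b L697376) q18285, e3 q18075 (flp_b L714433) q19994, e3 q18076 L694394 q15976, e3 q18077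 (flp_b L714474) q20000, e3 q18078 L694408 q18078, e3 q18079 L694425 q18079, e3 q18080 L694443 q18080, e3 q18081 L694458 q16554, e3 q18082 L694477 q18082, e3 q18083 L694496 q18083, e3 q18084 L694514 q18084, e3 q18085 (flp_b L694543) q17981, e3 q18086 L694548 q16005, e3 q18087 L694563 q16551, e3 q18088 L694579 q16392, e3 q18089 L694596 q16020, e3 q18090 L694613 q18090, e3 q18091 L694629 q18091, e3 q18092 L694644 q18092, e3 q18093 L694660 q18093, e3 q18094 L694674 q18094, e3 q18095 L694686 q18095, e3 q18096 L694701 q18096, e3 q18097 (flp_b L694725) q17289, e3 q18098 L694733 q18098, e3 q18099 L694746 q16007, e3 q18100 L694765 q18100, e3 q18101 L694778 q16011, e3 q18102 L694796 q18102, e3 q18103 L694809 q16014, e3 q18104 (flp_b L714599) q20008, e3 q18105 L694838 q18105, e3 q18106 L694848 q16017, e3 q18107 L694868 q18107, e3 q18108 L694875 q16435, e3 q18109 L694892 q16436, e3 q18110 L694908 q16420, e3 q18111 L694926 q16442, trivial⟩ (by decide +kernel)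

theorem ce_b_283 : ∀ r, r < 64 → sm gb (Qf (18112 + r)) = Qf (tab Gen.b (18112 + r)) :=
  edges_tab (sm gb) Qf (tab Gen.b) 18112 [(18112, 16507), (18113, 16508), (18114, 16446), (18115, 16447), (18116, 16430), (18117, 16451), (18118, 16038), (18119, 20018), (18120, 16399), (18121, 16425), (18122, 16500), (18123, 16505), (18124, 16506), (18125, 16513), (18126, 17518), (18127, 16520), (18128, 16521), (18129, 16522), (18130, 16525), (18131, 16526), (18132, 16527), (18133, 16605), (18134, 16606), (18135, 16610), (18136, 16611), (18137, 16062), (18138, 16630), (18139, 16616), (18140, 16617), (18141, 16619), (18142, 16620), (18143, 16772), (18144, 16622), (18145, 16623), (18146, 16584), (18147, 16624), (18148, 16071), (18149, 20043), (18150, 20044), (18151, 16627), (18152, 16628), (18153, 16629), (18154, 16613), (18155, 16075), (18156, 16076), (18157, 20051), (18158, 20052), (18159, 16638), (18160, 16597), (18161, 16599), (18162, 16641), (18163, 16642), (18164, 16645), (18165, 16773), (18166, 16572), (18167, 16089), (18168, 17990),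 (18169, 16092), (18170, 18170), (18171, 18171), (18172, 16107), (18173, 16108), (18174, 16109), (18175, 16111)]
    ⟨e3 q18112 L694942 q16507, e3 q18113 L694959 q16508, e3 q18114 L694975 q16446, e3 q18115 L694989 q16447, e3 q18116 L695001 q16430, e3 q18117 L695018 q16451, e3 q18118 L695034 q16038, e3 q18119 (flp_b L714766) q20018, e3 q18120 L695070 q16399, e3 q18121 L695089 q16425, e3 q18122 L695108 q16500, e3 q18123 L695126 q16505, e3 q18124 L695143 q16506, e3 q18125 L695157 q16513, e3 q18126 L695171 q17518, e3 q18127 L695191 q16520, e3 q18128 L695209 q16521, e3 q18129 L695225 q16522, e3 q18130 L695239 q16525, e3 q18131 L695257 q16526, e3 q18132 L695274 q16527, e3 q18133 L695285 q16605, e3 q18134 L695301 q16606, e3 q18135 L695319 q16610, e3 q18136 L695334 q16611, e3 q18137 (flp_b L695344) q16062, e3 q18138 L695368 q16630, e3 q18139 L695388 q16616, e3 q18140 L695401 q16617, e3 q18141 L695415 q16619, e3 q18142 L695431 q16620, e3 q18143 (flp_b L695459) q16772, e3 q18144 L695465 q16622, e3 q18145 L695475 q16623, e3 q18146 L695487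 q16584, e3 q18147 L695503 q16624, e3 q18148 (flp_b L695513) q16071, e3 q18149 (flp_b L715158) q20043, e3 q18150 (flp_b L715171) q20044, e3 q18151 L695556 q16627, e3 q18152 L695566 q16628, e3 q18153 L695578 q16629, e3 q18154 L695596 q16613, e3 q18155 L695604 q16075, e3 q18156 L695617 q16076, e3 q18157 (flp_b L715265) q20051, e3 q18158 (flp_b L715278) q20052, e3 q18159 L695654 q16638, e3 q18160 L695664 q16597, e3 q18161 L695678 q16599, e3 q18162 L695693 q16641, e3 q18163 L695706 q16642, e3 q18164 L695720 q16645, e3 q18165 L695731 q16773, e3 q18166 L695758 q16572, e3 q18167 L695762 q16089, e3 q18168 L695779 q17990, e3 q18169 L695790 q16092, e3 q18170 L695809 q18170, e3 q18171 L695825 q18171, e3 q18172 L695841 q16107, e3 q18173 L695857 q16108, e3 q18174 L695874 q16109, e3 q18175 L695890 q16111, trivial⟩ (by decide +kernel)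

theorem ce_b_284 : ∀ r, r < 64 → sm gb (Qf (18176 + r)) = Qf (tab Gen.b (18176 + r)) :=
  edges_tab (sm gb) Qf (tab Gen.b) 18176 [(18176, 16112), (18177, 16115), (18178, 20061), (18179, 20062), (18180, 20063), (18181, 16585), (18182, 16589), (18183, 20064), (18184, 16592), (18185, 20065), (18186, 16546), (18187, 16593), (18188, 16752), (18189, 16753), (18190, 16755), (18191, 16756), (18192, 16759), (18193, 16763), (18194, 16764), (18195, 16765), (18196, 16769), (18197, 16770), (18198, 16771), (18199, 16775), (18200, 16776), (18201, 17582), (18202, 17583), (18203, 16780), (18204, 16781), (18205, 16782), (18206, 16787), (18207, 17589), (18208, 16794), (18209, 16795), (18210, 16796), (18211, 16142), (18212, 16573), (18213, 16577), (18214, 17556), (18215, 16804), (18216, 16805), (18217, 16806), (18218, 16807), (18219, 16810), (18220, 16811), (18221, 16812), (18222, 16813), (18223, 16814), (18224, 16815), (18225, 16816), (18226, 20105), (18227, 16880), (18228, 16881), (18229, 16882), (18230, 16883), (18231, 16884), (18232, 16885),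 (18233, 17366), (18234, 16886), (18235, 16887), (18236, 17360), (18237, 16888), (18238, 16889), (18239, 17367)]
    ⟨e3 q18176 L695908 q16112, e3 q18177 L695922 q16115, e3 q18178 (flp_b L715414) q20061, e3 q18179 (flp_b L715432) q20062, e3 q18180 (flp_b L715448) q20063, e3 q18181 L695985 q16585, e3 q18182 L696003 q16589, e3 q18183 (flp_b L715466) q20064, e3 q18184 L696033 q16592, e3 q18185 (flp_b L715484) q20065, e3 q18186 L696066 q16546, e3 q18187 L696086 q16593, e3 q18188 L696105 q16752, e3 q18189 L696121 q16753, e3 q18190 L696139 q16755, e3 q18191 L696153 q16756, e3 q18192 L696167 q16759, e3 q18193 L696183 q16763, e3 q18194 L696196 q16764, e3 q18195 L696211 q16765, e3 q18196 L696223 q16769, e3 q18197 L696236 q16770, e3 q18198 L696251 q16771, e3 q18199 L696263 q16775, e3 q18200 L696277 q16776, e3 q18201 L696291 q17582, e3 q18202 L696309 q17583, e3 q18203 L696325 q16780, e3 q18204 L696337 q16781, e3 q18205 L696347 q16782, e3 q18206 L696357 q16787, e3 q18207 L696371 q17589, e3 q18208 L696389 q16794, e3 q18209 L696401 q16795,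 e3 q18210 L696415 q16796, e3 q18211 L696429 q16142, e3 q18212 L696449 q16573, e3 q18213 L696465 q16577, e3 q18214 L696481 q17556, e3 q18215 L696499 q16804, e3 q18216 L696509 q16805, e3 q18217 L696519 q16806, e3 q18218 L696527 q16807, e3 q18219 L696535 q16810, e3 q18220 L696550 q16811, e3 q18221 L696564 q16812, e3 q18222 L696579 q16813, e3 q18223 L696590 q16814, e3 q18224 L696606 q16815, e3 q18225 L696621 q16816, e3 q18226 L716073 q20105, e3 q18227 L696641 q16880, e3 q18228 L696655 q16881, e3 q18229 L696666 q16882, e3 q18230 L696680 q16883, e3 q18231 L696694 q16884, e3 q18232 L696706 q16885, e3 q18233 L696725 q17366, e3 q18234 L696732 q16886, e3 q18235 L696742 q16887, e3 q18236 L696759 q17360, e3 q18237 L696768 q16888, e3 q18238 L696782 q16889, e3 q18239 L696793 q17367, trivial⟩ (by decide +kernel)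

theorem ce_b_285 : ∀ r, r < 64 → sm gb (Qf (18240 + r)) = Qf (tab Gen.b (18240 + r)) :=
  edges_tab (sm gb) Qf (tab Gen.b) 18240 [(18240, 16890), (18241, 16891), (18242, 16892), (18243, 17372), (18244, 16893), (18245, 16894), (18246, 16895), (18247, 17787), (18248, 16897), (18249, 16898), (18250, 16173), (18251, 20137), (18252, 20138), (18253, 16902), (18254, 16903), (18255, 16904), (18256, 17343), (18257, 18068), (18258, 16906), (18259, 16907), (18260, 16908), (18261, 16181), (18262, 17340), (18263, 17345), (18264, 20151), (18265, 16914), (18266, 16915), (18267, 16187), (18268, 17347), (18269, 20157), (18270, 16921), (18271, 16922), (18272, 16923), (18273, 16924), (18274, 16927), (18275, 16928), (18276, 20166), (18277, 17947), (18278, 16211), (18279, 16199), (18280, 16200), (18281, 20168), (18282, 20169), (18283, 20170), (18284, 16216), (18285, 18074), (18286, 16206), (18287, 20176), (18288, 18060), (18289, 16209), (18290, 17003), (18291, 17948), (18292, 16214), (18293, 16215), (18294, 20178), (18295, 20179), (18296, 18073),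 (18297, 16219), (18298, 16845), (18299, 16247), (18300, 16248), (18301, 16249), (18302, 16250), (18303, 16251)]
    ⟨e3 q18240 L696806 q16890, e3 q18241 L696819 q16891, e3 q18242 L696832 q16892, e3 q18243 L696844 q17372, e3 q18244 L696859 q16893, e3 q18245 L696874 q16894, e3 q18246 L696887 q16895, e3 q18247 L696910 q17787, e3 q18248 L696918 q16897, e3 q18249 L696926 q16898, e3 q18250 (flp_b L696934) q16173, e3 q18251 (flp_b L716505) q20137, e3 q18252 (flp_b L716521) q20138, e3 q18253 L696974 q16902, e3 q18254 L696984 q16903, e3 q18255 L696994 q16904, e3 q18256 L697006 q17343, e3 q18257 L697020 q18068, e3 q18258 L697033 q16906, e3 q18259 L697043 q16907, e3 q18260 L697056 q16908, e3 q18261 L697067 q16181, e3 q18262 L697083 q17340, e3 q18263 L697096 q17345, e3 q18264 (flp_b L716677) q20151, e3 q18265 L697117 q16914, e3 q18266 L697129 q16915, e3 q18267 L697139 q16187, e3 q18268 L697154 q17347, e3 q18269 (flp_b L716752) q20157, e3 q18270 L697180 q16921, e3 q18271 L697193 q16922, e3 q18272 L697206 q16923, e3 q18273 L697217 q16924,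 e3 q18274 L697230 q16927, e3 q18275 L697242 q16928, e3 q18276 L716860 q20166, e3 q18277 L697264 q17947, e3 q18278 L697280 q16211, e3 q18279 L697297 q16199, e3 q18280 L697311 q16200, e3 q18281 (flp_b L716894) q20168, e3 q18282 (flp_b L716907) q20169, e3 q18283 (flp_b L716922) q20170, e3 q18284 L697360 q16216, e3 q18285 L697376 q18074, e3 q18286 L697389 q16206, e3 q18287 (flp_b L716999) q20176, e3 q18288 L697412 q18060, e3 q18289 L697429 q16209, e3 q18290 L697443 q17003, e3 q18291 L697453 q17948, e3 q18292 L697472 q16214, e3 q18293 L697487 q16215, e3 q18294 (flp_b L717026) q20178, e3 q18295 (flp_b L717042) q20179, e3 q18296 L697530 q18073, e3 q18297 L697548 q16219, e3 q18298 L697564 q16845, e3 q18299 L697582 q16247, e3 q18300 L697598 q16248, e3 q18301 L697612 q16249, e3 q18302 L697628 q16250, e3 q18303 L697643 q16251, trivial⟩ (by decide +kernel)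

theorem ce_b_286 : ∀ r, r < 64 → sm gb (Qf (18304 + r)) = Qf (tab Gen.b (18304 + r)) :=
  edges_tab (sm gb) Qf (tab Gen.b) 18304 [(18304, 16254), (18305, 16257), (18306, 16258), (18307, 16259), (18308, 16260), (18309, 16969), (18310, 16262), (18311, 16263), (18312, 16967), (18313, 16264), (18314, 16970), (18315, 16266), (18316, 16267), (18317, 16268), (18318, 16972), (18319, 16272), (18320, 16274), (18321, 16275), (18322, 16279), (18323, 17731), (18324, 17732), (18325, 20180), (18326, 20181), (18327, 16990), (18328, 20182), (18329, 20183), (18330, 20184), (18331, 16991), (18332, 16951), (18333, 16956), (18334, 20185), (18335, 16996), (18336, 16958), (18337, 20186), (18338, 20187), (18339, 20189), (18340, 20190), (18341, 17973), (18342, 17945), (18343, 20193), (18344, 20194), (18345, 20195), (18346, 20197), (18347, 17925), (18348, 16870), (18349, 20199), (18350, 20200), (18351, 17936), (18352, 16868), (18353, 16871), (18354, 16873), (18355, 20202), (18356, 16651), (18357, 16876), (18358, 20203), (18359, 20204), (18360, 16874),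 (18361, 16877), (18362, 16878), (18363, 16875), (18364, 18058), (18365, 18057), (18366, 17017), (18367, 17018)]
    ⟨e3 q18304 L697657 q16254, e3 q18305 L697671 q16257, e3 q18306 L697688 q16258, e3 q18307 L697702 q16259, e3 q18308 L697712 q16260, e3 q18309 L697733 q16969, e3 q18310 L697740 q16262, e3 q18311 L697748 q16263, e3 q18312 L697767 q16967, e3 q18313 L697774 q16264, e3 q18314 L697787 q16970, e3 q18315 L697800 q16266, e3 q18316 L697816 q16267, e3 q18317 L697832 q16268, e3 q18318 L697842 q16972, e3 q18319 L697857 q16272, e3 q18320 L697872 q16274, e3 q18321 L697888 q16275, e3 q18322 L697903 q16279, e3 q18323 L697917 q17731, e3 q18324 L697930 q17732, e3 q18325 (flp_b L717061) q20180, e3 q18326 (flp_b L717077) q20181, e3 q18327 L697975 q16990, e3 q18328 (flp_b L717095) q20182, e3 q18329 (flp_b L717111) q20183, e3 q18330 (flp_b L717125) q20184, e3 q18331 L698013 q16991, e3 q18332 L698028 q16951, e3 q18333 L698043 q16956, e3 q18334 (flp_b L717140) q20185, e3 q18335 L698068 q16996, e3 q18336 L698083 q16958, e3 q18337 (flp_b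 L717156) q20186, e3 q18338 (flp_b L717169) q20187, e3 q18339 (flp_b L717198) q20189, e3 q18340 (flp_b L717210) q20190, e3 q18341 L698148 q17973, e3 q18342 L698164 q17945, e3 q18343 (flp_b L717249) q20193, e3 q18344 (flp_b L717267) q20194, e3 q18345 (flp_b L717277) q20195, e3 q18346 (flp_b L717303) q20197, e3 q18347 L698223 q17925, e3 q18348 L698237 q16870, e3 q18349 (flp_b L717330) q20199, e3 q18350 (flp_b L717346) q20200, e3 q18351 L698275 q17936, e3 q18352 L698290 q16868, e3 q18353 L698305 q16871, e3 q18354 L698319 q16873, e3 q18355 (flp_b L717378) q20202, e3 q18356 L698345 q16651, e3 q18357 L698360 q16876, e3 q18358 (flp_b L717395) q20203, e3 q18359 (flp_b L717412) q20204, e3 q18360 L698400 q16874, e3 q18361 L698413 q16877, e3 q18362 L698426 q16878, e3 q18363 L698440 q16875, e3 q18364 L698454 q18058, e3 q18365 L698471 q18057, e3 q18366 L698484 q17017, e3 q18367 L698495 q17018, trivial⟩ (by decide +kernel)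

theorem ce_b_287 : ∀ r, r < 64 → sm gb (Qf (18368 + r)) = Qf (tab Gen.b (18368 + r)) :=
  edges_tab (sm gb) Qf (tab Gen.b) 18368 [(18368, 20246), (18369, 17020), (18370, 17021), (18371, 17022), (18372, 17023), (18373, 20254), (18374, 17025), (18375, 17026), (18376, 16293), (18377, 20260), (18378, 20261), (18379, 17030), (18380, 17031), (18381, 17032), (18382, 16296), (18383, 20269), (18384, 17036), (18385, 17037), (18386, 17038), (18387, 16301), (18388, 17063), (18389, 17082), (18390, 20274), (18391, 17043), (18392, 17044), (18393, 17045), (18394, 16307), (18395, 17094), (18396, 20282), (18397, 17050), (18398, 17051), (18399, 17052), (18400, 17053), (18401, 17055), (18402, 17056), (18403, 16313), (18404, 20292), (18405, 20293), (18406, 17060), (18407, 17061), (18408, 17062), (18409, 17040), (18410, 16317), (18411, 16318), (18412, 20301), (18413, 20302), (18414, 20303), (18415, 20304), (18416, 17070), (18417, 17071), (18418, 17072), (18419, 17034), (18420, 16323), (18421, 20316), (18422, 17079), (18423, 17080), (18424, 17081),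 (18425, 17041), (18426, 16330), (18427, 16331), (18428, 16332), (18429, 17838), (18430, 20323), (18431, 20324)]
    ⟨e3 q18368 L717991 q20246, e3 q18369 L698517 q17020, e3 q18370 L698527 q17021, e3 q18371 L698536 q17022, e3 q18372 L698547 q17023, e3 q18373 L718074 q20254, e3 q18374 L698570 q17025, e3 q18375 L698578 q17026, e3 q18376 (flp_b L698586) q16293, e3 q18377 (flp_b L718146) q20260, e3 q18378 (flp_b L718160) q20261, e3 q18379 L698618 q17030, e3 q18380 L698626 q17031, e3 q18381 L698634 q17032, e3 q18382 (flp_b L698642) q16296, e3 q18383 (flp_b L718246) q20269, e3 q18384 L698672 q17036, e3 q18385 L698685 q17037, e3 q18386 L698697 q17038, e3 q18387 L698708 q16301, e3 q18388 L698721 q17063, e3 q18389 L698737 q17082, e3 q18390 (flp_b L718315) q20274, e3 q18391 L698761 q17043, e3 q18392 L698772 q17044, e3 q18393 L698779 q17045, e3 q18394 L698791 q16307, e3 q18395 L698806 q17094, e3 q18396 (flp_b L718415) q20282, e3 q18397 L698831 q17050, e3 q18398 L698845 q17051, e3 q18399 L698858 q17052, e3 q18400 L698871 q17053, e3 q18401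 L698879 q17055, e3 q18402 L698887 q17056, e3 q18403 (flp_b L698896) q16313, e3 q18404 (flp_b L718543) q20292, e3 q18405 (flp_b L718555) q20293, e3 q18406 L698934 q17060, e3 q18407 L698946 q17061, e3 q18408 L698954 q17062, e3 q18409 L698972 q17040, e3 q18410 L698976 q16317, e3 q18411 L698984 q16318, e3 q18412 (flp_b L718655) q20301, e3 q18413 (flp_b L718671) q20302, e3 q18414 (flp_b L718687) q20303, e3 q18415 (flp_b L718697) q20304, e3 q18416 L699038 q17070, e3 q18417 L699046 q17071, e3 q18418 L699054 q17072, e3 q18419 L699073 q17034, e3 q18420 L699077 q16323, e3 q18421 (flp_b L718830) q20316, e3 q18422 L699103 q17079, e3 q18423 L699114 q17080, e3 q18424 L699128 q17081, e3 q18425 L699141 q17041, e3 q18426 L699155 q16330, e3 q18427 L699171 q16331, e3 q18428 L699185 q16332, e3 q18429 L699195 q17838, e3 q18430 (flp_b L718917) q20323, e3 q18431 (flp_b L718933) q20324, trivial⟩ (by decide +kernel)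

theorem ce_b_288 : ∀ r, r < 64 → sm gb (Qf (18432 + r)) = Qf (tab Gen.b (18432 + r)) :=
  edges_tab (sm gb) Qf (tab Gen.b) 18432 [(18432, 20325), (18433, 17090), (18434, 17091), (18435, 17092), (18436, 17093), (18437, 17049), (18438, 16341), (18439, 16342), (18440, 17848), (18441, 17854), (18442, 17864), (18443, 20335), (18444, 17104), (18445, 17105), (18446, 17106), (18447, 20341), (18448, 17108), (18449, 17109), (18450, 17110), (18451, 17111), (18452, 17112), (18453, 17113), (18454, 17114), (18455, 20350), (18456, 17116), (18457, 17117), (18458, 17325), (18459, 16357), (18460, 18029), (18461, 16360), (18462, 20354), (18463, 18045), (18464, 18028), (18465, 16365), (18466, 16366), (18467, 16367), (18468, 20359), (18469, 20360), (18470, 20361), (18471, 20362), (18472, 18027), (18473, 16371), (18474, 20368), (18475, 18022), (18476, 16374), (18477, 20370), (18478, 16377), (18479, 16932), (18480, 18480), (18481, 16380), (18482, 20374), (18483, 18483), (18484, 18484), (18485, 16385), (18486, 16386), (18487, 18487), (18488, 16389),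 (18489, 20001), (18490, 16402), (18491, 18491), (18492, 18492), (18493, 18493), (18494, 17977), (18495, 16404)]
    ⟨e3 q18432 (flp_b L718949) q20325, e3 q18433 L699239 q17090, e3 q18434 L699247 q17091, e3 q18435 L699257 q17092, e3 q18436 L699263 q17093, e3 q18437 L699273 q17049, e3 q18438 L699288 q16341, e3 q18439 L699303 q16342, e3 q18440 L699314 q17848, e3 q18441 L699329 q17854, e3 q18442 L699343 q17864, e3 q18443 (flp_b L719064) q20335, e3 q18444 L699367 q17104, e3 q18445 L699378 q17105, e3 q18446 L699386 q17106, e3 q18447 L719140 q20341, e3 q18448 L699406 q17108, e3 q18449 L699420 q17109, e3 q18450 L699433 q17110, e3 q18451 L699448 q17111, e3 q18452 L699456 q17112, e3 q18453 L699464 q17113, e3 q18454 L699473 q17114, e3 q18455 L719239 q20350, e3 q18456 L699489 q17116, e3 q18457 L699499 q17117, e3 q18458 L699514 q17325, e3 q18459 (flp_b L699518) q16357, e3 q18460 L699543 q18029, e3 q18461 L699547 q16360, e3 q18462 (flp_b L719291) q20354, e3 q18463 L699574 q18045, e3 q18464 L699589 q18028, e3 q18465 L699599 q16365, e3 q18466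 L699611 q16366, e3 q18467 L699625 q16367, e3 q18468 (flp_b L719360) q20359, e3 q18469 (flp_b L719373) q20360, e3 q18470 (flp_b L719387) q20361, e3 q18471 (flp_b L719402) q20362, e3 q18472 L699687 q18027, e3 q18473 L699698 q16371, e3 q18474 (flp_b L719468) q20368, e3 q18475 L699720 q18022, e3 q18476 L699731 q16374, e3 q18477 (flp_b L719488) q20370, e3 q18478 L699749 q16377, e3 q18479 L699763 q16932, e3 q18480 L699775 q18480, e3 q18481 L699788 q16380, e3 q18482 (flp_b L719533) q20374, e3 q18483 L699817 q18483, e3 q18484 L699832 q18484, e3 q18485 L699840 q16385, e3 q18486 L699855 q16386, e3 q18487 L699870 q18487, e3 q18488 L699877 q16389, e3 q18489 (flp_b L714482) q20001, e3 q18490 L699904 q16402, e3 q18491 L699922 q18491, e3 q18492 L699938 q18492, e3 q18493 L699956 q18493, e3 q18494 L699971 q17977, e3 q18495 L699989 q16404, trivial⟩ (by decide +kernel)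

theorem ce_b_289 : ∀ r, r < 64 → sm gb (Qf (18496 + r)) = Qf (tab Gen.b (18496 + r)) :=
  edges_tab (sm gb) Qf (tab Gen.b) 18496 [(18496, 16417), (18497, 16418), (18498, 16419), (18499, 16422), (18500, 16472), (18501, 16473), (18502, 16517), (18503, 17207), (18504, 17525), (18505, 16465), (18506, 16466), (18507, 16467), (18508, 17991), (18509, 20376), (18510, 20012), (18511, 17532), (18512, 20377), (18513, 17545), (18514, 17975), (18515, 17540), (18516, 16434), (18517, 20389), (18518, 16469), (18519, 20010), (18520, 20011), (18521, 17203), (18522, 17221), (18523, 20013), (18524, 16444), (18525, 20395), (18526, 16482), (18527, 20016), (18528, 16487), (18529, 20017), (18530, 16456), (18531, 20401), (18532, 18532), (18533, 16470), (18534, 16478), (18535, 16463), (18536, 20405), (18537, 16483), (18538, 16633), (18539, 20060), (18540, 16480), (18541, 20382), (18542, 16468), (18543, 16476), (18544, 20410), (18545, 20391), (18546, 20403), (18547, 20378), (18548, 17678), (18549, 20411), (18550, 16514), (18551, 17537), (18552, 20404),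 (18553, 16481), (18554, 20408), (18555, 20419), (18556, 20397), (18557, 16529), (18558, 17549), (18559, 20399)]
    ⟨e3 q18496 L700007 q16417, e3 q18497 L700026 q16418, e3 q18498 L700044 q16419, e3 q18499 L700061 q16422, e3 q18500 L700077 q16472, e3 q18501 L700095 q16473, e3 q18502 L700119 q16517, e3 q18503 L700128 q17207, e3 q18504 L700145 q17525, e3 q18505 L700157 q16465, e3 q18506 L700174 q16466, e3 q18507 L700192 q16467, e3 q18508 L700207 q17991, e3 q18509 (flp_b L719566) q20376, e3 q18510 (flp_b L714668) q20012, e3 q18511 L700255 q17532, e3 q18512 (flp_b L719584) q20377, e3 q18513 L700283 q17545, e3 q18514 L700300 q17975, e3 q18515 L700315 q17540, e3 q18516 (flp_b L700325) q16434, e3 q18517 (flp_b L719778) q20389, e3 q18518 L700355 q16469, e3 q18519 (flp_b L714633) q20010, e3 q18520 (flp_b L714650) q20011, e3 q18521 L700387 q17203, e3 q18522 L700405 q17221, e3 q18523 (flp_b L714686) q20013, e3 q18524 L700427 q16444, e3 q18525 (flp_b L719866) q20395, e3 q18526 L700451 q16482, e3 q18527 (flp_b L714739) q20016, e3 q18528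 L700473 q16487, e3 q18529 (flp_b L714751) q20017, e3 q18530 L700497 q16456, e3 q18531 (flp_b L719946) q20401, e3 q18532 L700523 q18532, e3 q18533 L700541 q16470, e3 q18534 L700555 q16478, e3 q18535 (flp_b L700565) q16463, e3 q18536 (flp_b L720006) q20405, e3 q18537 L700595 q16483, e3 q18538 L700605 q16633, e3 q18539 (flp_b L715395) q20060, e3 q18540 L700647 q16480, e3 q18541 (flp_b L719668) q20382, e3 q18542 (flp_b L700658) q16468, e3 q18543 L700679 q16476, e3 q18544 (flp_b L720078) q20410, e3 q18545 (flp_b L719805) q20391, e3 q18546 (flp_b L719978) q20403, e3 q18547 (flp_b L719602) q20378, e3 q18548 L700737 q17678, e3 q18549 (flp_b L720095) q20411, e3 q18550 L700765 q16514, e3 q18551 L700783 q17537, e3 q18552 (flp_b L719994) q20404, e3 q18553 L700801 q16481, e3 q18554 (flp_b L720053) q20408, e3 q18555 (flp_b L720197) q20419, e3 q18556 (flp_b L719890) q20397, e3 q18557 L700842 q16529, e3 q18558 L700856 q17549, e3 q18559 (flp_b L719912) q20399, trivial⟩ (by decide +kernel)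

theorem ce_b_290 : ∀ r, r < 64 → sm gb (Qf (18560 + r)) = Qf (tab Gen.b (18560 + r)) :=
  edges_tab (sm gb) Qf (tab Gen.b) 18560 [(18560, 16489), (18561, 17980), (18562, 16492), (18563, 20425), (18564, 17543), (18565, 17215), (18566, 17516), (18567, 17523), (18568, 20019), (18569, 16503), (18570, 17512), (18571, 20431), (18572, 17533), (18573, 20020), (18574, 20014), (18575, 20015), (18576, 17220), (18577, 17519), (18578, 17520), (18579, 17527), (18580, 20417), (18581, 16518), (18582, 16519), (18583, 20379), (18584, 20441), (18585, 20442), (18586, 20021), (18587, 20022), (18588, 20023), (18589, 17529), (18590, 20024), (18591, 20450), (18592, 17522), (18593, 20423), (18594, 16531), (18595, 20449), (18596, 16555), (18597, 18597), (18598, 18598), (18599, 18599), (18600, 18600), (18601, 16553), (18602, 17999), (18603, 16557), (18604, 16574), (18605, 16579), (18606, 16580), (18607, 16581), (18608, 16582), (18609, 16583), (18610, 16586), (18611, 16590), (18612, 16704), (18613, 17615), (18614, 17616), (18615, 20042), (18616, 20059),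 (18617, 16800), (18618, 17265), (18619, 20094), (18620, 16801), (18621, 17266), (18622, 20095), (18623, 16691)]
    ⟨e3 q18560 L700877 q16489, e3 q18561 L700893 q17980, e3 q18562 L700907 q16492, e3 q18563 (flp_b L720262) q20425, e3 q18564 L700929 q17543, e3 q18565 L700941 q17215, e3 q18566 L700957 q17516, e3 q18567 L700968 q17523, e3 q18568 (flp_b L714786) q20019, e3 q18569 L700987 q16503, e3 q18570 L701002 q17512, e3 q18571 (flp_b L720343) q20431, e3 q18572 L701024 q17533, e3 q18573 (flp_b L714806) q20020, e3 q18574 (flp_b L714704) q20014, e3 q18575 (flp_b L714721) q20015, e3 q18576 L701056 q17220, e3 q18577 L701068 q17519, e3 q18578 L701081 q17520, e3 q18579 L701091 q17527, e3 q18580 (flp_b L720169) q20417, e3 q18581 L701119 q16518, e3 q18582 L701132 q16519, e3 q18583 (flp_b L719620) q20379, e3 q18584 (flp_b L720455) q20441, e3 q18585 (flp_b L720469) q20442, e3 q18586 (flp_b L714824) q20021, e3 q18587 (flp_b L714842) q20022, e3 q18588 (flp_b L714858) q20023, e3 q18589 L701195 q17529, e3 q18590 (flp_b L714870) q20024, e3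 q18591 L720544 q20450, e3 q18592 L701221 q17522, e3 q18593 (flp_b L720235) q20423, e3 q18594 L701244 q16531, e3 q18595 (flp_b L720541) q20449, e3 q18596 L701265 q16555, e3 q18597 L701283 q18597, e3 q18598 L701300 q18598, e3 q18599 L701317 q18599, e3 q18600 L701333 q18600, e3 q18601 L701351 q16553, e3 q18602 L701368 q17999, e3 q18603 L701387 q16557, e3 q18604 L701404 q16574, e3 q18605 L701419 q16579, e3 q18606 L701434 q16580, e3 q18607 L701446 q16581, e3 q18608 L701461 q16582, e3 q18609 L701473 q16583, e3 q18610 L701488 q16586, e3 q18611 L701498 q16590, e3 q18612 L701508 q16704, e3 q18613 L701523 q17615, e3 q18614 L701535 q17616, e3 q18615 (flp_b L715150) q20042, e3 q18616 (flp_b L715378) q20059, e3 q18617 L701582 q16800, e3 q18618 L701591 q17265, e3 q18619 (flp_b L715925) q20094, e3 q18620 L701614 q16801, e3 q18621 L701627 q17266, e3 q18622 (flp_b L715941) q20095, e3 q18623 L701650 q16691, trivial⟩ (by decide +kernel)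

theorem ce_b_291 : ∀ r, r < 64 → sm gb (Qf (18624 + r)) = Qf (tab Gen.b (18624 + r)) :=
  edges_tab (sm gb) Qf (tab Gen.b) 18624 [(18624, 20452), (18625, 20453), (18626, 20039), (18627, 20454), (18628, 20455), (18629, 20456), (18630, 20040), (18631, 17647), (18632, 20068), (18633, 20457), (18634, 16588), (18635, 20483), (18636, 20069), (18637, 17690), (18638, 17720), (18639, 17708), (18640, 18640), (18641, 20055), (18642, 18642), (18643, 17987), (18644, 17635), (18645, 17348), (18646, 17349), (18647, 17671), (18648, 17989), (18649, 20495), (18650, 20026), (18651, 20027), (18652, 17683), (18653, 16609), (18654, 20502), (18655, 20028), (18656, 20029), (18657, 20030), (18658, 16614), (18659, 20050), (18660, 20507), (18661, 16697), (18662, 16702), (18663, 20031), (18664, 17243), (18665, 17274), (18666, 20032), (18667, 20033), (18668, 16621), (18669, 20517), (18670, 20518), (18671, 20036), (18672, 20037), (18673, 20038), (18674, 20041), (18675, 16626), (18676, 20525), (18677, 16716), (18678, 20048), (18679, 20049), (18680, 17993),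 (18681, 16634), (18682, 16635), (18683, 16694), (18684, 20407), (18685, 20531), (18686, 20532), (18687, 16717)]
    ⟨e3 q18624 (flp_b L720576) q20452, e3 q18625 (flp_b L720590) q20453, e3 q18626 (flp_b L715092) q20039, e3 q18627 (flp_b L720607) q20454, e3 q18628 (flp_b L720623) q20455, e3 q18629 (flp_b L720635) q20456, e3 q18630 (flp_b L715108) q20040, e3 q18631 L701748 q17647, e3 q18632 (flp_b L715533) q20068, e3 q18633 (flp_b L720649) q20457, e3 q18634 L701784 q16588, e3 q18635 (flp_b L721004) q20483, e3 q18636 (flp_b L715551) q20069, e3 q18637 L701812 q17690, e3 q18638 L701828 q17720, e3 q18639 L701843 q17708, e3 q18640 L701854 q18640, e3 q18641 (flp_b L715320) q20055, e3 q18642 L701885 q18642, e3 q18643 L701899 q17987, e3 q18644 L701914 q17635, e3 q18645 L701927 q17348, e3 q18646 L701938 q17349, e3 q18647 L701950 q17671, e3 q18648 L701962 q17989, e3 q18649 L721161 q20495, e3 q18650 (flp_b L714900) q20026, e3 q18651 (flp_b L714916) q20027, e3 q18652 L701998 q17683, e3 q18653 (flp_b L702006) q16609, e3 q18654 (flp_b L721227)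 q20502, e3 q18655 (flp_b L714932) q20028, e3 q18656 (flp_b L714947) q20029, e3 q18657 (flp_b L714962) q20030, e3 q18658 L702046 q16614, e3 q18659 (flp_b L715249) q20050, e3 q18660 (flp_b L721274) q20507, e3 q18661 L702077 q16697, e3 q18662 L702092 q16702, e3 q18663 (flp_b L714978) q20031, e3 q18664 L702109 q17243, e3 q18665 L702123 q17274, e3 q18666 (flp_b L714992) q20032, e3 q18667 (flp_b L715008) q20033, e3 q18668 (flp_b L702151) q16621, e3 q18669 (flp_b L721387) q20517, e3 q18670 (flp_b L721397) q20518, e3 q18671 (flp_b L715056) q20036, e3 q18672 (flp_b L715068) q20037, e3 q18673 (flp_b L715080) q20038, e3 q18674 (flp_b L715124) q20041, e3 q18675 L702209 q16626, e3 q18676 (flp_b L721471) q20525, e3 q18677 L702225 q16716, e3 q18678 (flp_b L715227) q20048, e3 q18679 (flp_b L715239) q20049, e3 q18680 L702249 q17993, e3 q18681 L702261 q16634, e3 q18682 L702269 q16635, e3 q18683 L702277 q16694, e3 q18684 (flp_b L720035) q20407, e3 q18685 (flp_b L721525) q20531, e3 q18686 (flp_b L721535) q20532, e3 q18687 L702317 q16717, trivial⟩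 (by decide +kernel)

theorem ce_b_292 : ∀ r, r < 64 → sm gb (Qf (18688 + r)) = Qf (tab Gen.b (18688 + r)) :=
  edges_tab (sm gb) Qf (tab Gen.b) 18688 [(18688, 16724), (18689, 20054), (18690, 16728), (18691, 20056), (18692, 20057), (18693, 16729), (18694, 16730), (18695, 17710), (18696, 16661), (18697, 16662), (18698, 16652), (18699, 20230), (18700, 20237), (18701, 20543), (18702, 16668), (18703, 16657), (18704, 20547), (18705, 16660), (18706, 17707), (18707, 18707), (18708, 16666), (18709, 16667), (18710, 18710), (18711, 16692), (18712, 16693), (18713, 16695), (18714, 16698), (18715, 16703), (18716, 16705), (18717, 16706), (18718, 20555), (18719, 16708), (18720, 16709), (18721, 16712), (18722, 16684), (18723, 20561), (18724, 16718), (18725, 16687), (18726, 20563), (18727, 16863), (18728, 17722), (18729, 17723), (18730, 20470), (18731, 20471), (18732, 20573), (18733, 20550), (18734, 20551), (18735, 16714), (18736, 20533), (18737, 16696), (18738, 16710), (18739, 20581), (18740, 20504), (18741, 20510), (18742, 20552), (18743,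 16701), (18744, 17595), (18745, 20587), (18746, 20511), (18747, 20458), (18748, 20459), (18749, 20582), (18750, 20553), (18751, 20554)]
    ⟨e3 q18688 L702329 q16724, e3 q18689 (flp_b L715308) q20054, e3 q18690 L702345 q16728, e3 q18691 (flp_b L715337) q20056, e3 q18692 (flp_b L715353) q20057, e3 q18693 L702375 q16729, e3 q18694 L702388 q16730, e3 q18695 (flp_b L702408) q17710, e3 q18696 L702414 q16661, e3 q18697 L702430 q16662, e3 q18698 L702443 q16652, e3 q18699 (flp_b L717776) q20230, e3 q18700 (flp_b L717876) q20237, e3 q18701 (flp_b L721677) q20543, e3 q18702 L702494 q16668, e3 q18703 L702509 q16657, e3 q18704 (flp_b L721730) q20547, e3 q18705 L702531 q16660, e3 q18706 L702542 q17707, e3 q18707 L702553 q18707, e3 q18708 L702564 q16666, e3 q18709 L702578 q16667, e3 q18710 L702593 q18710, e3 q18711 L702609 q16692, e3 q18712 L702623 q16693, e3 q18713 L702639 q16695, e3 q18714 L702650 q16698, e3 q18715 L702662 q16703, e3 q18716 L702674 q16705, e3 q18717 L702684 q16706, e3 q18718 L721836 q20555, e3 q18719 L702706 q16708,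 e3 q18720 L702714 q16709, e3 q18721 L702726 q16712, e3 q18722 (flp_b L702736) q16684, e3 q18723 (flp_b L721906) q20561, e3 q18724 L702762 q16718, e3 q18725 L702770 q16687, e3 q18726 (flp_b L721931) q20563, e3 q18727 L702791 q16863, e3 q18728 L702805 q17722, e3 q18729 L702816 q17723, e3 q18730 (flp_b L720828) q20470, e3 q18731 (flp_b L720844) q20471, e3 q18732 L722047 q20573, e3 q18733 (flp_b L721776) q20550, e3 q18734 (flp_b L721790) q20551, e3 q18735 L702886 q16714, e3 q18736 (flp_b L721547) q20533, e3 q18737 (flp_b L702897) q16696, e3 q18738 L702916 q16710, e3 q18739 (flp_b L722136) q20581, e3 q18740 (flp_b L721248) q20504, e3 q18741 (flp_b L721307) q20510, e3 q18742 (flp_b L721804) q20552, e3 q18743 L702965 q16701, e3 q18744 L702978 q17595, e3 q18745 (flp_b L722210) q20587, e3 q18746 (flp_b L721322) q20511, e3 q18747 (flp_b L720659) q20458, e3 q18748 (flp_b L720675) q20459, e3 q18749 (flp_b L722151) q20582, e3 q18750 (flp_b L721816) q20553, e3 q18751 (flp_b L721828) q20554, trivial⟩ (by decide +kernel)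

theorem ce_b_293 : ∀ r, r < 64 → sm gb (Qf (18752 + r)) = Qf (tab Gen.b (18752 + r)) :=
  edges_tab (sm gb) Qf (tab Gen.b) 18752 [(18752, 16707), (18753, 20599), (18754, 20600), (18755, 20522), (18756, 20558), (18757, 20559), (18758, 20583), (18759, 17655), (18760, 17667), (18761, 20560), (18762, 16788), (18763, 16715), (18764, 20570), (18765, 20579), (18766, 20610), (18767, 20527), (18768, 20536), (18769, 16797), (18770, 16722), (18771, 16723), (18772, 20617), (18773, 20618), (18774, 20537), (18775, 16822), (18776, 17694), (18777, 17704), (18778, 20539), (18779, 20542), (18780, 17607), (18781, 16732), (18782, 20626), (18783, 18783), (18784, 18784), (18785, 16736), (18786, 20629), (18787, 18787), (18788, 16740), (18789, 18003), (18790, 16830), (18791, 16744), (18792, 20632), (18793, 16833), (18794, 16747), (18795, 20635), (18796, 17911), (18797, 17938), (18798, 20639), (18799, 17883), (18800, 17912), (18801, 17675), (18802, 17689), (18803, 17574), (18804, 20071), (18805, 20072), (18806, 16754), (18807, 20652), (18808, 20653),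 (18809, 20073), (18810, 20074), (18811, 20075), (18812, 17577), (18813, 17608), (18814, 17611), (18815, 20076)]
    ⟨e3 q18752 (flp_b L703054) q16707, e3 q18753 (flp_b L722340) q20599, e3 q18754 (flp_b L722348) q20600, e3 q18755 (flp_b L721445) q20522, e3 q18756 (flp_b L721874) q20558, e3 q18757 (flp_b L721884) q20559, e3 q18758 (flp_b L722167) q20583, e3 q18759 L703124 q17655, e3 q18760 L703134 q17667, e3 q18761 (flp_b L721894) q20560, e3 q18762 L703164 q16788, e3 q18763 L703168 q16715, e3 q18764 (flp_b L722026) q20570, e3 q18765 (flp_b L722113) q20579, e3 q18766 (flp_b L722454) q20610, e3 q18767 (flp_b L721487) q20527, e3 q18768 (flp_b L721587) q20536, e3 q18769 L703220 q16797, e3 q18770 L703234 q16722, e3 q18771 L703241 q16723, e3 q18772 (flp_b L722517) q20617, e3 q18773 (flp_b L722525) q20618, e3 q18774 (flp_b L721597) q20537, e3 q18775 L703271 q16822, e3 q18776 L703285 q17694, e3 q18777 L703298 q17704, e3 q18778 (flp_b L721625) q20539, e3 q18779 (flp_b L721662) q20542, e3 q18780 L703332 q17607, e3 q18781 (flp_b L703335)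 q16732, e3 q18782 (flp_b L722612) q20626, e3 q18783 L703363 q18783, e3 q18784 L703375 q18784, e3 q18785 L703383 q16736, e3 q18786 (flp_b L722655) q20629, e3 q18787 L703407 q18787, e3 q18788 L703420 q16740, e3 q18789 L703434 q18003, e3 q18790 L703448 q16830, e3 q18791 L703458 q16744, e3 q18792 (flp_b L722691) q20632, e3 q18793 L703478 q16833, e3 q18794 L703487 q16747, e3 q18795 (flp_b L722726) q20635, e3 q18796 L703502 q17911, e3 q18797 L703513 q17938, e3 q18798 L722769 q20639, e3 q18799 L703533 q17883, e3 q18800 L703543 q17912, e3 q18801 L703552 q17675, e3 q18802 L703564 q17689, e3 q18803 L703585 q17574, e3 q18804 (flp_b L715587) q20071, e3 q18805 (flp_b L715605) q20072, e3 q18806 (flp_b L703602) q16754, e3 q18807 (flp_b L722898) q20652, e3 q18808 (flp_b L722914) q20653, e3 q18809 (flp_b L715621) q20073, e3 q18810 (flp_b L715639) q20074, e3 q18811 (flp_b L715653) q20075, e3 q18812 L703656 q17577, e3 q18813 L703667 q17608, e3 q18814 L703676 q17611, e3 q18815 (flp_b L715667) q20076, trivial⟩ (by decide +kernel)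

theorem ce_b_294 : ∀ r, r < 64 → sm gb (Qf (18816 + r)) = Qf (tab Gen.b (18816 + r)) :=
  edges_tab (sm gb) Qf (tab Gen.b) 18816 [(18816, 16762), (18817, 17559), (18818, 17563), (18819, 20664), (18820, 20077), (18821, 20078), (18822, 20079), (18823, 16768), (18824, 17565), (18825, 20671), (18826, 20080), (18827, 20081), (18828, 20082), (18829, 20034), (18830, 20035), (18831, 17584), (18832, 17585), (18833, 17619), (18834, 20083), (18835, 20084), (18836, 20598), (18837, 16778), (18838, 16779), (18839, 20688), (18840, 20689), (18841, 20690), (18842, 20691), (18843, 20087), (18844, 20088), (18845, 20089), (18846, 17590), (18847, 17591), (18848, 17592), (18849, 17620), (18850, 17624), (18851, 20609), (18852, 16791), (18853, 16792), (18854, 16793), (18855, 20460), (18856, 20709), (18857, 20710), (18858, 20711), (18859, 20090), (18860, 20091), (18861, 20092), (18862, 20093), (18863, 20616), (18864, 16802), (18865, 16803), (18866, 20464), (18867, 20468), (18868, 20720), (18869, 20721), (18870, 20096), (18871, 20097), (18872, 20098),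 (18873, 20726), (18874, 17630), (18875, 17632), (18876, 20100), (18877, 20101), (18878, 20102), (18879, 20733)]
    ⟨e3 q18816 L703695 q16762, e3 q18817 L703708 q17559, e3 q18818 L703718 q17563, e3 q18819 (flp_b L723021) q20664, e3 q18820 (flp_b L715685) q20077, e3 q18821 (flp_b L715700) q20078, e3 q18822 (flp_b L715713) q20079, e3 q18823 L703760 q16768, e3 q18824 L703772 q17565, e3 q18825 (flp_b L723086) q20671, e3 q18826 (flp_b L715729) q20080, e3 q18827 (flp_b L715742) q20081, e3 q18828 (flp_b L715758) q20082, e3 q18829 (flp_b L715024) q20034, e3 q18830 (flp_b L715040) q20035, e3 q18831 L703825 q17584, e3 q18832 L703833 q17585, e3 q18833 L703845 q17619, e3 q18834 (flp_b L715769) q20083, e3 q18835 (flp_b L715785) q20084, e3 q18836 (flp_b L722336) q20598, e3 q18837 L703883 q16778, e3 q18838 L703893 q16779, e3 q18839 (flp_b L723244) q20688, e3 q18840 (flp_b L723258) q20689, e3 q18841 (flp_b L723270) q20690, e3 q18842 (flp_b L723282) q20691, e3 q18843 (flp_b L715833) q20087, e3 q18844 (flp_b L715849) q20088, e3 q18845 (flp_b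 L715863) q20089, e3 q18846 L703959 q17590, e3 q18847 L703968 q17591, e3 q18848 L703981 q17592, e3 q18849 L703991 q17620, e3 q18850 L704001 q17624, e3 q18851 (flp_b L722440) q20609, e3 q18852 L704027 q16791, e3 q18853 L704040 q16792, e3 q18854 L704053 q16793, e3 q18855 (flp_b L720700) q20460, e3 q18856 (flp_b L723448) q20709, e3 q18857 (flp_b L723461) q20710, e3 q18858 (flp_b L723475) q20711, e3 q18859 (flp_b L715873) q20090, e3 q18860 (flp_b L715887) q20091, e3 q18861 (flp_b L715901) q20092, e3 q18862 (flp_b L715913) q20093, e3 q18863 (flp_b L722503) q20616, e3 q18864 L704129 q16802, e3 q18865 L704139 q16803, e3 q18866 (flp_b L720745) q20464, e3 q18867 (flp_b L720800) q20468, e3 q18868 (flp_b L723541) q20720, e3 q18869 (flp_b L723550) q20721, e3 q18870 (flp_b L715959) q20096, e3 q18871 (flp_b L715971) q20097, e3 q18872 (flp_b L715981) q20098, e3 q18873 (flp_b L723589) q20726, e3 q18874 L704197 q17630, e3 q18875 L704209 q17632, e3 q18876 (flp_b L716005) q20100, e3 q18877 (flp_b L716023) q20101, e3 q18878 (flp_b L716040) q20102,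 e3 q18879 L723644 q20733, trivial⟩ (by decide +kernel)

theorem ce_b_295 : ∀ r, r < 64 → sm gb (Qf (18880 + r)) = Qf (tab Gen.b (18880 + r)) :=
  edges_tab (sm gb) Qf (tab Gen.b) 18880 [(18880, 20104), (18881, 16835), (18882, 16817), (18883, 17600), (18884, 17601), (18885, 17602), (18886, 16836), (18887, 16998), (18888, 20622), (18889, 16825), (18890, 16826), (18891, 16827), (18892, 20742), (18893, 20743), (18894, 20744), (18895, 20745), (18896, 16842), (18897, 17604), (18898, 20631), (18899, 16832), (18900, 20734), (18901, 18901), (18902, 18902), (18903, 16841), (18904, 18904), (18905, 18905), (18906, 18906), (18907, 18907), (18908, 16864), (18909, 16865), (18910, 17195), (18911, 16866), (18912, 16867), (18913, 17194), (18914, 16869), (18915, 17147), (18916, 16872), (18917, 17103), (18918, 20565), (18919, 20566), (18920, 20754), (18921, 20755), (18922, 20226), (18923, 20758), (18924, 20759), (18925, 20234), (18926, 20761), (18927, 20231), (18928, 20235), (18929, 20236), (18930, 20240), (18931, 20238), (18932, 20241), (18933,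 20106), (18934, 20107), (18935, 20148), (18936, 20109), (18937, 20110), (18938, 20111), (18939, 20112), (18940, 20114), (18941, 20115), (18942, 20118), (18943, 20119)]
    ⟨e3 q18880 (flp_b L716062) q20104, e3 q18881 L704266 q16835, e3 q18882 (flp_b L704269) q16817, e3 q18883 L704279 q17600, e3 q18884 L704288 q17601, e3 q18885 L704299 q17602, e3 q18886 L704310 q16836, e3 q18887 L704322 q16998, e3 q18888 (flp_b L722562) q20622, e3 q18889 L704346 q16825, e3 q18890 L704357 q16826, e3 q18891 L704370 q16827, e3 q18892 (flp_b L723753) q20742, e3 q18893 (flp_b L723765) q20743, e3 q18894 (flp_b L723778) q20744, e3 q18895 (flp_b L723792) q20745, e3 q18896 L704419 q16842, e3 q18897 L704431 q17604, e3 q18898 (flp_b L722680) q20631, e3 q18899 L704452 q16832, e3 q18900 (flp_b L723661) q20734, e3 q18901 L704471 q18901, e3 q18902 L704485 q18902, e3 q18903 L704497 q16841, e3 q18904 L704513 q18904, e3 q18905 L704528 q18905, e3 q18906 L704542 q18906, e3 q18907 L704558 q18907, e3 q18908 L704573 q16864, e3 q18909 L704585 q16865, e3 q18910 L704604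 q17195, e3 q18911 L704611 q16866, e3 q18912 L704621 q16867, e3 q18913 L704640 q17194, e3 q18914 L704647 q16869, e3 q18915 L704658 q17147, e3 q18916 L704671 q16872, e3 q18917 L704683 q17103, e3 q18918 (flp_b L721952) q20565, e3 q18919 (flp_b L721967) q20566, e3 q18920 (flp_b L723884) q20754, e3 q18921 (flp_b L723894) q20755, e3 q18922 (flp_b L717722) q20226, e3 q18923 (flp_b L723935) q20758, e3 q18924 (flp_b L723945) q20759, e3 q18925 (flp_b L717830) q20234, e3 q18926 (flp_b L723973) q20761, e3 q18927 (flp_b L717792) q20231, e3 q18928 (flp_b L717845) q20235, e3 q18929 (flp_b L717859) q20236, e3 q18930 (flp_b L717918) q20240, e3 q18931 (flp_b L717892) q20238, e3 q18932 (flp_b L717932) q20241, e3 q18933 (flp_b L716090) q20106, e3 q18934 (flp_b L716105) q20107, e3 q18935 (flp_b L716643) q20148, e3 q18936 (flp_b L716133) q20109, e3 q18937 (flp_b L716145) q20110, e3 q18938 (flp_b L716156) q20111, e3 q18939 (flp_b L716171) q20112, e3 q18940 (flp_b L716202) q20114, e3 q18941 (flp_b L716212) q20115, e3 q18942 (flp_b L716251) q20118,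 e3 q18943 (flp_b L716265) q20119, trivial⟩ (by decide +kernel)

theorem ce_b_296 : ∀ r, r < 64 → sm gb (Qf (18944 + r)) = Qf (tab Gen.b (18944 + r)) :=
  edges_tab (sm gb) Qf (tab Gen.b) 18944 [(18944, 20120), (18945, 20122), (18946, 20123), (18947, 20124), (18948, 20126), (18949, 20127), (18950, 20129), (18951, 16960), (18952, 20130), (18953, 20131), (18954, 17788), (18955, 17789), (18956, 20134), (18957, 20135), (18958, 20136), (18959, 16900), (18960, 16901), (18961, 17790), (18962, 17341), (18963, 20802), (18964, 20803), (18965, 16981), (18966, 20143), (18967, 20144), (18968, 18069), (18969, 20149), (18970, 20150), (18971, 16912), (18972, 17342), (18973, 17346), (18974, 16986), (18975, 16993), (18976, 20155), (18977, 20156), (18978, 16987), (18979, 16994), (18980, 16997), (18981, 20338), (18982, 20161), (18983, 20162), (18984, 20163), (18985, 16999), (18986, 17001), (18987, 20164), (18988, 20372), (18989, 17000), (18990, 17002), (18991, 16961), (18992, 17791), (18993, 16963), (18994, 16964), (18995, 16965), (18996, 16966),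 (18997, 16968), (18998, 16971), (18999, 16973), (19000, 16974), (19001, 17698), (19002, 16976), (19003, 16977), (19004, 20211), (19005, 20216), (19006, 16982), (19007, 16983)]
    ⟨e3 q18944 (flp_b L716275) q20120, e3 q18945 (flp_b L716303) q20122, e3 q18946 (flp_b L716316) q20123, e3 q18947 (flp_b L716330) q20124, e3 q18948 (flp_b L716357) q20126, e3 q18949 (flp_b L716370) q20127, e3 q18950 (flp_b L716398) q20129, e3 q18951 (flp_b L705073) q16960, e3 q18952 (flp_b L716412) q20130, e3 q18953 (flp_b L716428) q20131, e3 q18954 L705094 q17788, e3 q18955 L705110 q17789, e3 q18956 (flp_b L716473) q20134, e3 q18957 (flp_b L716483) q20135, e3 q18958 (flp_b L716493) q20136, e3 q18959 L705146 q16900, e3 q18960 L705162 q16901, e3 q18961 L705176 q17790, e3 q18962 L705192 q17341, e3 q18963 (flp_b L724440) q20802, e3 q18964 (flp_b L724456) q20803, e3 q18965 L705230 q16981, e3 q18966 (flp_b L716583) q20143, e3 q18967 (flp_b L716595) q20144, e3 q18968 L705252 q18069, e3 q18969 (flp_b L716654) q20149, e3 q18970 (flp_b L716666) q20150, e3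 q18971 L705288 q16912, e3 q18972 L705304 q17342, e3 q18973 L705318 q17346, e3 q18974 L705336 q16986, e3 q18975 L705344 q16993, e3 q18976 (flp_b L716730) q20155, e3 q18977 (flp_b L716740) q20156, e3 q18978 L705368 q16987, e3 q18979 L705379 q16994, e3 q18980 L705387 q16997, e3 q18981 (flp_b L719112) q20338, e3 q18982 (flp_b L716803) q20161, e3 q18983 (flp_b L716817) q20162, e3 q18984 (flp_b L716831) q20163, e3 q18985 L705439 q16999, e3 q18986 L705451 q17001, e3 q18987 (flp_b L716843) q20164, e3 q18988 (flp_b L719508) q20372, e3 q18989 L705478 q17000, e3 q18990 L705490 q17002, e3 q18991 L705499 q16961, e3 q18992 L705516 q17791, e3 q18993 L705528 q16963, e3 q18994 L705542 q16964, e3 q18995 L705558 q16965, e3 q18996 L705566 q16966, e3 q18997 L705576 q16968, e3 q18998 L705587 q16971, e3 q18999 L705597 q16973, e3 q19000 L705608 q16974, e3 q19001 L705624 q17698, e3 q19002 L705629 q16976, e3 q19003 L705635 q16977, e3 q19004 (flp_b L717509) q20211, e3 q19005 (flp_b L717576) q20216, e3 q19006 L705660 q16982, e3 q19007 L705668 q16983,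 trivial⟩ (by decide +kernel)

theorem ce_b_297 : ∀ r, r < 64 → sm gb (Qf (19008 + r)) = Qf (tab Gen.b (19008 + r)) :=
  edges_tab (sm gb) Qf (tab Gen.b) 19008 [(19008, 17996), (19009, 16988), (19010, 20217), (19011, 20219), (19012, 17742), (19013, 17776), (19014, 17486), (19015, 20793), (19016, 20794), (19017, 17778), (19018, 17779), (19019, 20828), (19020, 20829), (19021, 20191), (19022, 20830), (19023, 20831), (19024, 20188), (19025, 20196), (19026, 20832), (19027, 20192), (19028, 20198), (19029, 20201), (19030, 17137), (19031, 20833), (19032, 20834), (19033, 17893), (19034, 17941), (19035, 20807), (19036, 20837), (19037, 20838), (19038, 16979), (19039, 16980), (19040, 20877), (19041, 20209), (19042, 20878), (19043, 20879), (19044, 20808), (19045, 20842), (19046, 18034), (19047, 18036), (19048, 18066), (19049, 20739), (19050, 20814), (19051, 20818), (19052, 16992), (19053, 20210), (19054, 20215), (19055, 20815), (19056, 20819), (19057, 20218), (19058, 20159), (19059, 20740), (19060, 20822), (19061, 20826), (19062, 20823),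 (19063, 20177), (19064, 17182), (19065, 17187), (19066, 19066), (19067, 17969), (19068, 17972), (19069, 17132), (19070, 17133), (19071, 17013)]
    ⟨e3 q19008 L705676 q17996, e3 q19009 L705686 q16988, e3 q19010 (flp_b L717591) q20217, e3 q19011 (flp_b L717623) q20219, e3 q19012 L705707 q17742, e3 q19013 L705720 q17776, e3 q19014 L705742 q17486, e3 q19015 (flp_b L724335) q20793, e3 q19016 (flp_b L724351) q20794, e3 q19017 L705767 q17778, e3 q19018 L705782 q17779, e3 q19019 (flp_b L724727) q20828, e3 q19020 (flp_b L724741) q20829, e3 q19021 (flp_b L717222) q20191, e3 q19022 (flp_b L724755) q20830, e3 q19023 (flp_b L724763) q20831, e3 q19024 (flp_b L717191) q20188, e3 q19025 (flp_b L717289) q20196, e3 q19026 (flp_b L724775) q20832, e3 q19027 (flp_b L717236) q20192, e3 q19028 (flp_b L717316) q20198, e3 q19029 (flp_b L717362) q20201, e3 q19030 (flp_b L705931) q17137, e3 q19031 (flp_b L724788) q20833, e3 q19032 (flp_b L724798) q20834, e3 q19033 L705956 q17893, e3 q19034 L705968 q17941, e3 q19035 (flp_b L724516) q20807, e3 q19036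 (flp_b L724830) q20837, e3 q19037 (flp_b L724838) q20838, e3 q19038 L706004 q16979, e3 q19039 L706014 q16980, e3 q19040 (flp_b L725268) q20877, e3 q19041 (flp_b L717478) q20209, e3 q19042 (flp_b L725280) q20878, e3 q19043 (flp_b L725290) q20879, e3 q19044 (flp_b L724526) q20808, e3 q19045 (flp_b L724871) q20842, e3 q19046 L706086 q18034, e3 q19047 L706099 q18036, e3 q19048 L706113 q18066, e3 q19049 (flp_b L723714) q20739, e3 q19050 (flp_b L724585) q20814, e3 q19051 (flp_b L724625) q20818, e3 q19052 L706152 q16992, e3 q19053 (flp_b L717494) q20210, e3 q19054 (flp_b L717560) q20215, e3 q19055 (flp_b L724595) q20815, e3 q19056 (flp_b L724634) q20819, e3 q19057 (flp_b L717607) q20218, e3 q19058 (flp_b L716781) q20159, e3 q19059 (flp_b L723727) q20740, e3 q19060 (flp_b L724665) q20822, e3 q19061 (flp_b L724703) q20826, e3 q19062 (flp_b L724678) q20823, e3 q19063 (flp_b L717014) q20177, e3 q19064 L706259 q17182, e3 q19065 L706275 q17187, e3 q19066 L706290 q19066, e3 q19067 L706305 q17969, e3 q19068 L706316 q17972, e3 q19069 L706331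 q17132, e3 q19070 L706345 q17133, e3 q19071 L706358 q17013, trivial⟩ (by decide +kernel)

theorem ce_b_298 : ∀ r, r < 64 → sm gb (Qf (19072 + r)) = Qf (tab Gen.b (19072 + r)) :=
  edges_tab (sm gb) Qf (tab Gen.b) 19072 [(19072, 17014), (19073, 17964), (19074, 20908), (19075, 17861), (19076, 18072), (19077, 20913), (19078, 20244), (19079, 20245), (19080, 17019), (19081, 20920), (19082, 20921), (19083, 20249), (19084, 20250), (19085, 20251), (19086, 20905), (19087, 20252), (19088, 20253), (19089, 17024), (19090, 20934), (19091, 20935), (19092, 20257), (19093, 20258), (19094, 20259), (19095, 17028), (19096, 17029), (19097, 20942), (19098, 20299), (19099, 20943), (19100, 20944), (19101, 20266), (19102, 20267), (19103, 20268), (19104, 17035), (19105, 20291), (19106, 20315), (19107, 20955), (19108, 20271), (19109, 20272), (19110, 20273), (19111, 17042), (19112, 17439), (19113, 20300), (19114, 20322), (19115, 20278), (19116, 20279), (19117, 20280), (19118, 20281), (19119, 17449), (19120, 17458), (19121, 17470), (19122, 20334), (19123,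 20284), (19124, 20285), (19125, 20286), (19126, 20976), (19127, 17054), (19128, 20977), (19129, 20978), (19130, 20288), (19131, 20289), (19132, 20290), (19133, 17822), (19134, 17058), (19135, 17059)]
    ⟨e3 q19072 L706369 q17014, e3 q19073 L706385 q17964, e3 q19074 (flp_b L725598) q20908, e3 q19075 L706407 q17861, e3 q19076 L706421 q18072, e3 q19077 L725657 q20913, e3 q19078 (flp_b L717970) q20244, e3 q19079 (flp_b L717982) q20245, e3 q19080 (flp_b L706455) q17019, e3 q19081 (flp_b L725722) q20920, e3 q19082 (flp_b L725728) q20921, e3 q19083 (flp_b L718023) q20249, e3 q19084 (flp_b L718034) q20250, e3 q19085 (flp_b L718044) q20251, e3 q19086 (flp_b L725559) q20905, e3 q19087 (flp_b L718053) q20252, e3 q19088 (flp_b L718065) q20253, e3 q19089 (flp_b L706525) q17024, e3 q19090 (flp_b L725846) q20934, e3 q19091 (flp_b L725858) q20935, e3 q19092 (flp_b L718114) q20257, e3 q19093 (flp_b L718126) q20258, e3 q19094 (flp_b L718134) q20259, e3 q19095 L706585 q17028, e3 q19096 L706593 q17029, e3 q19097 (flp_b L725932) q20942, e3 q19098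 (flp_b L718629) q20299, e3 q19099 (flp_b L725942) q20943, e3 q19100 (flp_b L725950) q20944, e3 q19101 (flp_b L718212) q20266, e3 q19102 (flp_b L718226) q20267, e3 q19103 (flp_b L718234) q20268, e3 q19104 L706671 q17035, e3 q19105 (flp_b L718539) q20291, e3 q19106 (flp_b L718817) q20315, e3 q19107 (flp_b L726064) q20955, e3 q19108 (flp_b L718273) q20271, e3 q19109 (flp_b L718287) q20272, e3 q19110 (flp_b L718300) q20273, e3 q19111 L706740 q17042, e3 q19112 L706752 q17439, e3 q19113 (flp_b L718643) q20300, e3 q19114 (flp_b L718903) q20322, e3 q19115 (flp_b L718370) q20278, e3 q19116 (flp_b L718385) q20279, e3 q19117 (flp_b L718396) q20280, e3 q19118 (flp_b L718404) q20281, e3 q19119 L706815 q17449, e3 q19120 L706830 q17458, e3 q19121 L706844 q17470, e3 q19122 (flp_b L719047) q20334, e3 q19123 (flp_b L718445) q20284, e3 q19124 (flp_b L718459) q20285, e3 q19125 (flp_b L718473) q20286, e3 q19126 L726293 q20976, e3 q19127 (flp_b L706902) q17054, e3 q19128 (flp_b L726311) q20977, e3 q19129 (flp_b L726323) q20978, e3 q19130 (flp_b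 L718501) q20288, e3 q19131 (flp_b L718508) q20289, e3 q19132 (flp_b L718518) q20290, e3 q19133 L706964 q17822, e3 q19134 L706968 q17058, e3 q19135 L706974 q17059, trivial⟩ (by decide +kernel)

theorem ce_b_299 : ∀ r, r < 64 → sm gb (Qf (19136 + r)) = Qf (tab Gen.b (19136 + r)) :=
  edges_tab (sm gb) Qf (tab Gen.b) 19136 [(19136, 20988), (19137, 20989), (19138, 20990), (19139, 20991), (19140, 20296), (19141, 20297), (19142, 20298), (19143, 20263), (19144, 20275), (19145, 17066), (19146, 17067), (19147, 17068), (19148, 17069), (19149, 21005), (19150, 20865), (19151, 21006), (19152, 21007), (19153, 21008), (19154, 21009), (19155, 21010), (19156, 20311), (19157, 20312), (19158, 20313), (19159, 20314), (19160, 18024), (19161, 17076), (19162, 17077), (19163, 17078), (19164, 20907), (19165, 21026), (19166, 21027), (19167, 21028), (19168, 20318), (19169, 20319), (19170, 20320), (19171, 20321), (19172, 20276), (19173, 17086), (19174, 17087), (19175, 17088), (19176, 17089), (19177, 21038), (19178, 21039), (19179, 21040), (19180, 21041),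 (19181, 20762), (19182, 20330), (19183, 20331), (19184, 20332), (19185, 21052), (19186, 17099), (19187, 17100), (19188, 17101), (19189, 17102), (19190, 21053), (19191, 21054), (19192, 20287), (19193, 20975), (19194, 20763), (19195, 20339), (19196, 20340), (19197, 17479), (19198, 17107), (19199, 20342)]
    ⟨e3 q19136 (flp_b L726422) q20988, e3 q19137 (flp_b L726436) q20989, e3 q19138 (flp_b L726446) q20990, e3 q19139 (flp_b L726454) q20991, e3 q19140 (flp_b L718593) q20296, e3 q19141 (flp_b L718605) q20297, e3 q19142 (flp_b L718619) q20298, e3 q19143 (flp_b L718178) q20263, e3 q19144 (flp_b L718329) q20275, e3 q19145 L707048 q17066, e3 q19146 L707056 q17067, e3 q19147 L707062 q17068, e3 q19148 L707070 q17069, e3 q19149 (flp_b L726569) q21005, e3 q19150 (flp_b L725137) q20865, e3 q19151 (flp_b L726576) q21006, e3 q19152 (flp_b L726588) q21007, e3 q19153 (flp_b L726600) q21008, e3 q19154 (flp_b L726608) q21009, e3 q19155 (flp_b L726616) q21010, e3 q19156 (flp_b L718783) q20311, e3 q19157 (flp_b L718791) q20312, e3 q19158 (flp_b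 L718801) q20313, e3 q19159 (flp_b L718809) q20314, e3 q19160 L707161 q18024, e3 q19161 L707170 q17076, e3 q19162 L707179 q17077, e3 q19163 L707191 q17078, e3 q19164 (flp_b L725593) q20907, e3 q19165 (flp_b L726736) q21026, e3 q19166 (flp_b L726747) q21027, e3 q19167 (flp_b L726758) q21028, e3 q19168 (flp_b L718852) q20318, e3 q19169 (flp_b L718867) q20319, e3 q19170 (flp_b L718880) q20320, e3 q19171 (flp_b L718892) q20321, e3 q19172 (flp_b L718345) q20276, e3 q19173 L707270 q17086, e3 q19174 L707281 q17087, e3 q19175 L707288 q17088, e3 q19176 L707296 q17089, e3 q19177 (flp_b L726849) q21038, e3 q19178 (flp_b L726864) q21039, e3 q19179 (flp_b L726875) q21040, e3 q19180 (flp_b L726881) q21041, e3 q19181 (flp_b L723986) q20762, e3 q19182 (flp_b L719009) q20330, e3 q19183 (flp_b L719019) q20331, e3 q19184 (flp_b L719027) q20332, e3 q19185 L726966 q21052, e3 q19186 L707373 q17099, e3 q19187 L707387 q17100, e3 q19188 L707400 q17101, e3 q19189 L707413 q17102, e3 q19190 (flp_b L726976) q21053, e3 q19191 (flp_b L726990) q21054, e3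 q19192 L718497 q20287, e3 q19193 (flp_b L726289) q20975, e3 q19194 (flp_b L724000) q20763, e3 q19195 (flp_b L719125) q20339, e3 q19196 (flp_b L719134) q20340, e3 q19197 (flp_b L707485) q17479, e3 q19198 (flp_b L707487) q17107, e3 q19199 (flp_b L719159) q20342, trivial⟩ (by decide +kernel)

theorem ce_b_300 : ∀ r, r < 64 → sm gb (Qf (19200 + r)) = Qf (tab Gen.b (19200 + r)) :=
  edges_tab (sm gb) Qf (tab Gen.b) 19200 [(19200, 20343), (19201, 20344), (19202, 21065), (19203, 20346), (19204, 20347), (19205, 21069), (19206, 20349), (19207, 17115), (19208, 20351), (19209, 17503), (19210, 18064), (19211, 17122), (19212, 17184), (19213, 17130), (19214, 17129), (19215, 17949), (19216, 17128), (19217, 17795), (19218, 21074), (19219, 21073), (19220, 20906), (19221, 17966), (19222, 17138), (19223, 17140), (19224, 20866), (19225, 21078), (19226, 17873), (19227, 21079), (19228, 17483), (19229, 17971), (19230, 17144), (19231, 20760), (19232, 20757), (19233, 19233), (19234, 19234), (19235, 17487), (19236, 17505), (19237, 17965), (19238,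 17166), (19239, 21086), (19240, 19240), (19241, 17378), (19242, 17169), (19243, 17170), (19244, 20963), (19245, 21089), (19246, 21090), (19247, 19247), (19248, 17174), (19249, 17818), (19250, 17178), (19251, 17179), (19252, 20326), (19253, 21094), (19254, 20903), (19255, 17816), (19256, 20979), (19257, 17190), (19258, 17962), (19259, 17830), (19260, 17430), (19261, 17872), (19262, 20756), (19263, 17517)]
    ⟨e3 q19200 (flp_b L719174) q20343, e3 q19201 (flp_b L719188) q20344, e3 q19202 L727084 q21065, e3 q19203 (flp_b L719207) q20346, e3 q19204 (flp_b L719218) q20347, e3 q19205 L727115 q21069, e3 q19206 (flp_b L719236) q20349, e3 q19207 (flp_b L707551) q17115, e3 q19208 (flp_b L719252) q20351, e3 q19209 (flp_b L707573) q17503, e3 q19210 L707586 q18064, e3 q19211 L707592 q17122, e3 q19212 L707607 q17184, e3 q19213 L707619 q17130, e3 q19214 L707637 q17129, e3 q19215 L707654 q17949, e3 q19216 L707670 q17128, e3 q19217 L707685 q17795, e3 q19218 (flp_b L727167) q21074, e3 q19219 (flp_b L727153) q21073, e3 q19220 (flp_b L725572)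 q20906, e3 q19221 L707732 q17966, e3 q19222 L707746 q17138, e3 q19223 L707755 q17140, e3 q19224 (flp_b L725151) q20866, e3 q19225 (flp_b L727208) q21078, e3 q19226 L707779 q17873, e3 q19227 (flp_b L727217) q21079, e3 q19228 L707807 q17483, e3 q19229 L707813 q17971, e3 q19230 L707825 q17144, e3 q19231 (flp_b L723959) q20760, e3 q19232 (flp_b L723922) q20757, e3 q19233 L707857 q19233, e3 q19234 L707874 q19234, e3 q19235 L707887 q17487, e3 q19236 L707902 q17505, e3 q19237 L707918 q17965, e3 q19238 (flp_b L707930) q17166, e3 q19239 (flp_b L727298) q21086, e3 q19240 L707958 q19240, e3 q19241 L707974 q17378, e3 q19242 L707982 q17169, e3 q19243 L707994 q17170, e3 q19244 (flp_b L726151) q20963, e3 q19245 (flp_b L727338) q21089, e3 q19246 (flp_b L727351) q21090, e3 q19247 L708038 q19247, e3 q19248 L708054 q17174, e3 q19249 L708069 q17818, e3 q19250 L708086 q17178, e3 q19251 L708098 q17179, e3 q19252 (flp_b L718959) q20326, e3 q19253 (flp_b L727397) q21094, e3 q19254 (flp_b L725530) q20903, e3 q19255 L708154 q17816, e3 q19256 (flp_b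 L726334) q20979, e3 q19257 L708176 q17190, e3 q19258 L708188 q17962, e3 q19259 L708202 q17830, e3 q19260 L708216 q17430, e3 q19261 L708224 q17872, e3 q19262 (flp_b L723906) q20756, e3 q19263 L708244 q17517, trivial⟩ (by decide +kernel)

theorem ce_b_301 : ∀ r, r < 64 → sm gb (Qf (19264 + r)) = Qf (tab Gen.b (19264 + r)) :=
  edges_tab (sm gb) Qf (tab Gen.b) 19264 [(19264, 17200), (19265, 17513), (19266, 17534), (19267, 20393), (19268, 17208), (19269, 17209), (19270, 20380), (19271, 21102), (19272, 17544), (19273, 17575), (19274, 17576), (19275, 17578), (19276, 20428), (19277, 17587), (19278, 17588), (19279, 20394), (19280, 17226), (19281, 17227), (19282, 17230), (19283, 17560), (19284, 21108), (19285, 21109), (19286, 17561), (19287, 17564), (19288, 17639), (19289, 17640), (19290, 17280), (19291, 17268), (19292, 17648), (19293, 17649), (19294, 20513), (19295, 20514), (19296, 17653), (19297, 17654), (19298, 17247), (19299, 17248), (19300, 17743), (19301, 21120), (19302, 21121), (19303, 21122), (19304, 17662), (19305, 17663),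 (19306, 17664), (19307, 17253), (19308, 21131), (19309, 17257), (19310, 17258), (19311, 17259), (19312, 20465), (19313, 21132), (19314, 21133), (19315, 21114), (19316, 17676), (19317, 17677), (19318, 17267), (19319, 20466), (19320, 20469), (19321, 21138), (19322, 17687), (19323, 17688), (19324, 17744), (19325, 19325), (19326, 17286), (19327, 20145)]
    ⟨e3 q19264 L708260 q17200, e3 q19265 L708276 q17513, e3 q19266 L708290 q17534, e3 q19267 (flp_b L719828) q20393, e3 q19268 L708314 q17208, e3 q19269 L708327 q17209, e3 q19270 (flp_b L719637) q20380, e3 q19271 (flp_b L727489) q21102, e3 q19272 L708364 q17544, e3 q19273 L708376 q17575, e3 q19274 L708390 q17576, e3 q19275 L708402 q17578, e3 q19276 (flp_b L720299) q20428, e3 q19277 L708432 q17587, e3 q19278 L708444 q17588, e3 q19279 (flp_b L719848) q20394, e3 q19280 L708466 q17226, e3 q19281 L708480 q17227, e3 q19282 L708492 q17230, e3 q19283 L708508 q17560, e3 q19284 (flp_b L727566) q21108, e3 q19285 (flp_b L727580) q21109, e3 q19286 L708538 q17561, e3 q19287 L708550 q17564,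 e3 q19288 L708564 q17639, e3 q19289 L708576 q17640, e3 q19290 L708586 q17280, e3 q19291 L708596 q17268, e3 q19292 L708608 q17648, e3 q19293 L708618 q17649, e3 q19294 (flp_b L721341) q20513, e3 q19295 (flp_b L721357) q20514, e3 q19296 L708648 q17653, e3 q19297 L708660 q17654, e3 q19298 L708670 q17247, e3 q19299 L708680 q17248, e3 q19300 L708694 q17743, e3 q19301 (flp_b L727704) q21120, e3 q19302 (flp_b L727718) q21121, e3 q19303 (flp_b L727730) q21122, e3 q19304 L708726 q17662, e3 q19305 L708736 q17663, e3 q19306 L708748 q17664, e3 q19307 L708754 q17253, e3 q19308 (flp_b L727829) q21131, e3 q19309 L708780 q17257, e3 q19310 L708791 q17258, e3 q19311 L708804 q17259, e3 q19312 (flp_b L720760) q20465, e3 q19313 (flp_b L727843) q21132, e3 q19314 (flp_b L727854) q21133, e3 q19315 (flp_b L727638) q21114, e3 q19316 L708850 q17676, e3 q19317 L708860 q17677, e3 q19318 L708870 q17267, e3 q19319 (flp_b L720775) q20466, e3 q19320 (flp_b L720814) q20469, e3 q19321 (flp_b L727906) q21138, e3 q19322 L708894 q17687, e3 q19323 L708904 q17688,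 e3 q19324 L708912 q17744, e3 q19325 L708925 q19325, e3 q19326 L708935 q17286, e3 q19327 (flp_b L716605) q20145, trivial⟩ (by decide +kernel)

theorem ce_b_302 : ∀ r, r < 64 → sm gb (Qf (19328 + r)) = Qf (tab Gen.b (19328 + r)) :=
  edges_tab (sm gb) Qf (tab Gen.b) 19328 [(19328, 17729), (19329, 17730), (19330, 17733), (19331, 17734), (19332, 17736), (19333, 17737), (19334, 17739), (19335, 17749), (19336, 17750), (19337, 17914), (19338, 17301), (19339, 17302), (19340, 21153), (19341, 21154), (19342, 17758), (19343, 17903), (19344, 17306), (19345, 21159), (19346, 17915), (19347, 17310), (19348, 21162), (19349, 17928), (19350, 17313), (19351, 18049), (19352, 17316), (19353, 21164), (19354, 18026), (19355, 17319), (19356, 21167), (19357, 18050), (19358, 17322), (19359, 20352), (19360, 19360), (19361, 17328), (19362, 19362), (19363, 17351), (19364, 17352), (19365, 17357), (19366, 17358), (19367, 17364), (19368, 20140), (19369, 20152), (19370, 20805), (19371, 20813), (19372, 20146), (19373, 18067), (19374, 20153), (19375, 20158),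 (19376, 21179), (19377, 20491), (19378, 20492), (19379, 17350), (19380, 21185), (19381, 21186), (19382, 17724), (19383, 21170), (19384, 21171), (19385, 17354), (19386, 17355), (19387, 21193), (19388, 20116), (19389, 21194), (19390, 21195), (19391, 17726)]
    ⟨e3 q19328 L708960 q17729, e3 q19329 L708974 q17730, e3 q19330 L708986 q17733, e3 q19331 L709000 q17734, e3 q19332 L709012 q17736, e3 q19333 L709022 q17737, e3 q19334 L709034 q17739, e3 q19335 L709049 q17749, e3 q19336 L709061 q17750, e3 q19337 L709081 q17914, e3 q19338 L709085 q17301, e3 q19339 L709093 q17302, e3 q19340 (flp_b L728080) q21153, e3 q19341 (flp_b L728090) q21154, e3 q19342 L709123 q17758, e3 q19343 L709142 q17903, e3 q19344 L709146 q17306, e3 q19345 (flp_b L728143) q21159, e3 q19346 L709172 q17915, e3 q19347 L709184 q17310, e3 q19348 (flp_b L728179) q21162, e3 q19349 L709206 q17928, e3 q19350 L709219 q17313, e3 q19351 L709228 q18049, e3 q19352 L709238 q17316, e3 q19353 (flp_b L728200) q21164, e3 q19354 L709258 q18026, e3 q19355 L709269 q17319, e3 q19356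 (flp_b L728228) q21167, e3 q19357 L709293 q18050, e3 q19358 L709304 q17322, e3 q19359 (flp_b L719269) q20352, e3 q19360 L709324 q19360, e3 q19361 L709332 q17328, e3 q19362 L709347 q19362, e3 q19363 L709358 q17351, e3 q19364 L709372 q17352, e3 q19365 L709384 q17357, e3 q19366 L709394 q17358, e3 q19367 L709404 q17364, e3 q19368 (flp_b L716549) q20140, e3 q19369 (flp_b L716693) q20152, e3 q19370 (flp_b L724488) q20805, e3 q19371 (flp_b L724569) q20813, e3 q19372 (flp_b L716618) q20146, e3 q19373 L709464 q18067, e3 q19374 (flp_b L716706) q20153, e3 q19375 (flp_b L716769) q20158, e3 q19376 L728350 q21179, e3 q19377 (flp_b L721120) q20491, e3 q19378 (flp_b L721132) q20492, e3 q19379 (flp_b L709521) q17350, e3 q19380 (flp_b L728410) q21185, e3 q19381 (flp_b L728416) q21186, e3 q19382 L709553 q17724, e3 q19383 (flp_b L728261) q21170, e3 q19384 (flp_b L728275) q21171, e3 q19385 L709583 q17354, e3 q19386 L709589 q17355, e3 q19387 (flp_b L728492) q21193, e3 q19388 (flp_b L716224) q20116, e3 q19389 (flp_b L728500) q21194, e3 q19390 (flp_b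 L728508) q21195, e3 q19391 L709635 q17726, trivial⟩ (by decide +kernel)

theorem ce_b_303 : ∀ r, r < 64 → sm gb (Qf (19392 + r)) = Qf (tab Gen.b (19392 + r)) :=
  edges_tab (sm gb) Qf (tab Gen.b) 19392 [(19392, 21172), (19393, 17361), (19394, 20113), (19395, 20121), (19396, 21203), (19397, 17725), (19398, 17728), (19399, 17368), (19400, 20117), (19401, 20125), (19402, 21208), (19403, 17727), (19404, 17373), (19405, 20128), (19406, 21212), (19407, 17375), (19408, 21213), (19409, 19409), (19410, 17379), (19411, 20919), (19412, 21088), (19413, 21215), (19414, 19414), (19415, 17490), (19416, 17385), (19417, 17386), (19418, 17387), (19419, 21220), (19420, 21221), (19421, 21222), (19422, 17498), (19423, 17391), (19424, 21227), (19425, 17501), (19426, 17394), (19427, 21229), (19428, 17397), (19429, 17398), (19430, 21232), (19431, 21233), (19432, 17828), (19433, 17829), (19434, 21098), (19435, 17831), (19436, 17832), (19437, 17403), (19438, 21242), (19439, 21243), (19440, 17836), (19441, 17837), (19442, 17407), (19443, 17408), (19444,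 21248), (19445, 21249), (19446, 21250), (19447, 21251), (19448, 17845), (19449, 17846), (19450, 17847), (19451, 17413), (19452, 21261), (19453, 17417), (19454, 17418), (19455, 17419)]
    ⟨e3 q19392 (flp_b L728289) q21172, e3 q19393 L709649 q17361, e3 q19394 (flp_b L716195) q20113, e3 q19395 (flp_b L716289) q20121, e3 q19396 (flp_b L728583) q21203, e3 q19397 L709692 q17725, e3 q19398 L709704 q17728, e3 q19399 L709717 q17368, e3 q19400 (flp_b L716238) q20117, e3 q19401 (flp_b L716343) q20125, e3 q19402 (flp_b L728639) q21208, e3 q19403 L709754 q17727, e3 q19404 L709762 q17373, e3 q19405 (flp_b L716384) q20128, e3 q19406 (flp_b L728674) q21212, e3 q19407 (flp_b L709786) q17375, e3 q19408 (flp_b L728687) q21213, e3 q19409 L709816 q19409, e3 q19410 L709829 q17379, e3 q19411 (flp_b L725718) q20919, e3 q19412 (flp_b L727324) q21088, e3 q19413 (flp_b L728713) q21215, e3 q19414 L709875 q19414, e3 q19415 L709890 q17490, e3 q19416 L709899 q17385, e3 q19417 L709906 q17386, e3 q19418 L709916 q17387, e3 q19419 (flp_b L728773) q21220,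 e3 q19420 (flp_b L728782) q21221, e3 q19421 (flp_b L728793) q21222, e3 q19422 L709960 q17498, e3 q19423 L709969 q17391, e3 q19424 (flp_b L728838) q21227, e3 q19425 L709991 q17501, e3 q19426 L710000 q17394, e3 q19427 (flp_b L728857) q21229, e3 q19428 L710017 q17397, e3 q19429 (flp_b L710026) q17398, e3 q19430 (flp_b L728888) q21232, e3 q19431 (flp_b L728900) q21233, e3 q19432 L710058 q17828, e3 q19433 L710070 q17829, e3 q19434 (flp_b L727451) q21098, e3 q19435 L710088 q17831, e3 q19436 L710098 q17832, e3 q19437 (flp_b L710105) q17403, e3 q19438 (flp_b L728987) q21242, e3 q19439 (flp_b L728999) q21243, e3 q19440 L710137 q17836, e3 q19441 L710149 q17837, e3 q19442 L710159 q17407, e3 q19443 L710167 q17408, e3 q19444 (flp_b L729051) q21248, e3 q19445 (flp_b L729058) q21249, e3 q19446 (flp_b L729072) q21250, e3 q19447 (flp_b L729080) q21251, e3 q19448 L710205 q17845, e3 q19449 L710215 q17846, e3 q19450 L710227 q17847, e3 q19451 L710235 q17413, e3 q19452 (flp_b L729165) q21261, e3 q19453 L710260 q17417, e3 q19454 L710276 q17418,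 e3 q19455 L710290 q17419, trivial⟩ (by decide +kernel)

theorem ce_b_304 : ∀ r, r < 64 → sm gb (Qf (19456 + r)) = Qf (tab Gen.b (19456 + r)) :=
  edges_tab (sm gb) Qf (tab Gen.b) 19456 [(19456, 21263), (19457, 21264), (19458, 21265), (19459, 17862), (19460, 17863), (19461, 17425), (19462, 17426), (19463, 17870), (19464, 17871), (19465, 21100), (19466, 21082), (19467, 17874), (19468, 17875), (19469, 17876), (19470, 17434), (19471, 17435), (19472, 20847), (19473, 21274), (19474, 21275), (19475, 21276), (19476, 17884), (19477, 17885), (19478, 20948), (19479, 20964), (19480, 17442), (19481, 17443), (19482, 17444), (19483, 17445), (19484, 21288), (19485, 21289), (19486, 21290), (19487, 21291), (19488, 21292), (19489, 21293), (19490, 21294), (19491, 17899), (19492, 17900), (19493, 17901), (19494, 17902), (19495, 17866), (19496, 20971), (19497, 17452), (19498, 17453), (19499, 17454), (19500, 21312), (19501, 21313), (19502, 21314), (19503, 17913), (19504, 17858), (19505, 17867), (19506, 20972), (19507, 17462), (19508, 17463), (19509,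 17464), (19510, 17465), (19511, 21231), (19512, 21320), (19513, 21321), (19514, 21322), (19515, 21059), (19516, 17926), (19517, 17927), (19518, 17868), (19519, 17475)]
    ⟨e3 q19456 (flp_b L729188) q21263, e3 q19457 (flp_b L729204) q21264, e3 q19458 (flp_b L729218) q21265, e3 q19459 L710331 q17862, e3 q19460 L710341 q17863, e3 q19461 L710353 q17425, e3 q19462 L710366 q17426, e3 q19463 L710376 q17870, e3 q19464 L710387 q17871, e3 q19465 (flp_b L727470) q21100, e3 q19466 (flp_b L727252) q21082, e3 q19467 L710410 q17874, e3 q19468 L710415 q17875, e3 q19469 L710423 q17876, e3 q19470 L710430 q17434, e3 q19471 L710438 q17435, e3 q19472 (flp_b L724926) q20847, e3 q19473 (flp_b L729295) q21274, e3 q19474 (flp_b L729307) q21275, e3 q19475 (flp_b L729317) q21276, e3 q19476 L710482 q17884, e3 q19477 L710494 q17885, e3 q19478 (flp_b L725998) q20948, e3 q19479 (flp_b L726167) q20964, e3 q19480 L710518 q17442, e3 q19481 L710524 q17443, e3 q19482 L710532 q17444, e3 q19483 L710540 q17445, e3 q19484 (flp_b L729424) q21288, e3 q19485 (flp_b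 L729431) q21289, e3 q19486 (flp_b L729437) q21290, e3 q19487 (flp_b L729447) q21291, e3 q19488 (flp_b L729459) q21292, e3 q19489 (flp_b L729469) q21293, e3 q19490 (flp_b L729477) q21294, e3 q19491 L710589 q17899, e3 q19492 L710595 q17900, e3 q19493 L710603 q17901, e3 q19494 L710611 q17902, e3 q19495 L710617 q17866, e3 q19496 (flp_b L726238) q20971, e3 q19497 L710640 q17452, e3 q19498 L710651 q17453, e3 q19499 L710663 q17454, e3 q19500 (flp_b L729604) q21312, e3 q19501 (flp_b L729615) q21313, e3 q19502 (flp_b L729628) q21314, e3 q19503 L710699 q17913, e3 q19504 L710711 q17858, e3 q19505 L710724 q17867, e3 q19506 (flp_b L726253) q20972, e3 q19507 L710745 q17462, e3 q19508 L710756 q17463, e3 q19509 L710765 q17464, e3 q19510 L710775 q17465, e3 q19511 (flp_b L728884) q21231, e3 q19512 (flp_b L729693) q21320, e3 q19513 (flp_b L729704) q21321, e3 q19514 (flp_b L729712) q21322, e3 q19515 L727039 q21059, e3 q19516 L710816 q17926, e3 q19517 L710826 q17927, e3 q19518 L710836 q17868, e3 q19519 L710851 q17475, trivial⟩ (by decide +kernel)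

theorem ce_b_305 : ∀ r, r < 64 → sm gb (Qf (19520 + r)) = Qf (tab Gen.b (19520 + r)) :=
  edges_tab (sm gb) Qf (tab Gen.b) 19520 [(19520, 17476), (19521, 17477), (19522, 17478), (19523, 21329), (19524, 21330), (19525, 20283), (19526, 17937), (19527, 20750), (19528, 17488), (19529, 20567), (19530, 20848), (19531, 21085), (19532, 21334), (19533, 21219), (19534, 17494), (19535, 17495), (19536, 17496), (19537, 17497), (19538, 21339), (19539, 21340), (19540, 21341), (19541, 21342), (19542, 21226), (19543, 17500), (19544, 21072), (19545, 21067), (19546, 17526), (19547, 17524), (19548, 20432), (19549, 17515), (19550, 21349), (19551, 20429), (19552, 20437), (19553, 20438), (19554, 20424), (19555, 20430), (19556, 20381), (19557, 20439), (19558, 20387), (19559, 17531), (19560, 21357), (19561, 20385), (19562, 20434), (19563, 17536), (19564, 21361), (19565, 20418), (19566, 17541), (19567, 17542), (19568, 20388), (19569, 20427), (19570, 21363), (19571, 20386), (19572, 17548), (19573, 20402), (19574, 17551), (19575, 20400), (19576, 17617),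 (19577, 17618), (19578, 17623), (19579, 17609), (19580, 17610), (19581, 20655), (19582, 20665), (19583, 21110)]
    ⟨e3 q19520 L710865 q17476, e3 q19521 L710878 q17477, e3 q19522 L710891 q17478, e3 q19523 (flp_b L729767) q21329, e3 q19524 (flp_b L729781) q21330, e3 q19525 (flp_b L718431) q20283, e3 q19526 L710917 q17937, e3 q19527 (flp_b L723841) q20750, e3 q19528 L710932 q17488, e3 q19529 (flp_b L721990) q20567, e3 q19530 (flp_b L724940) q20848, e3 q19531 (flp_b L727282) q21085, e3 q19532 (flp_b L729813) q21334, e3 q19533 (flp_b L728763) q21219, e3 q19534 L710982 q17494, e3 q19535 L710988 q17495, e3 q19536 L710995 q17496, e3 q19537 L711005 q17497, e3 q19538 (flp_b L729846) q21339, e3 q19539 (flp_b L729852) q21340, e3 q19540 (flp_b L729857) q21341, e3 q19541 (flp_b L729863) q21342, e3 q19542 (flp_b L728828) q21226, e3 q19543 L711037 q17500, e3 q19544 L727149 q21072, e3 q19545 L727108 q21067, e3 q19546 L711060 q17526, e3 q19547 L711076 q17524, e3 q19548 (flp_b L720359) q20432, e3 q19549 L711100 q17515, e3 q19550 (flp_b L729906)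 q21349, e3 q19551 (flp_b L720317) q20429, e3 q19552 (flp_b L720405) q20437, e3 q19553 (flp_b L720417) q20438, e3 q19554 (flp_b L720257) q20424, e3 q19555 (flp_b L720329) q20430, e3 q19556 (flp_b L719654) q20381, e3 q19557 (flp_b L720427) q20439, e3 q19558 (flp_b L719747) q20387, e3 q19559 L711185 q17531, e3 q19560 (flp_b L729972) q21357, e3 q19561 (flp_b L719714) q20385, e3 q19562 (flp_b L720380) q20434, e3 q19563 L711210 q17536, e3 q19564 (flp_b L730001) q21361, e3 q19565 (flp_b L720187) q20418, e3 q19566 L711228 q17541, e3 q19567 L711236 q17542, e3 q19568 (flp_b L719762) q20388, e3 q19569 (flp_b L720285) q20427, e3 q19570 (flp_b L730017) q21363, e3 q19571 (flp_b L719730) q20386, e3 q19572 L711275 q17548, e3 q19573 (flp_b L719963) q20402, e3 q19574 L711289 q17551, e3 q19575 L719940 q20400, e3 q19576 L711307 q17617, e3 q19577 L711321 q17618, e3 q19578 L711333 q17623, e3 q19579 L711349 q17609, e3 q19580 L711363 q17610, e3 q19581 (flp_b L722932) q20655, e3 q19582 (flp_b L723035) q20665, e3 q19583 (flp_b L727594) q21110, trivial⟩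 (by decide +kernel)

theorem ce_b_306 : ∀ r, r < 64 → sm gb (Qf (19584 + r)) = Qf (tab Gen.b (19584 + r)) :=
  edges_tab (sm gb) Qf (tab Gen.b) 19584 [(19584, 21112), (19585, 17612), (19586, 20666), (19587, 20672), (19588, 17567), (19589, 21374), (19590, 17570), (19591, 21376), (19592, 17573), (19593, 20634), (19594, 20647), (19595, 20648), (19596, 21105), (19597, 21106), (19598, 20661), (19599, 17580), (19600, 21383), (19601, 20085), (19602, 20086), (19603, 20680), (19604, 20681), (19605, 20682), (19606, 20683), (19607, 17621), (19608, 21107), (19609, 20703), (19610, 20704), (19611, 20705), (19612, 17622), (19613, 20588), (19614, 17598), (19615, 17599), (19616, 21397), (19617, 20621), (19618, 20735), (19619, 20736), (19620, 20737), (19621, 20738), (19622, 20625), (19623, 20058), (19624, 20649), (19625, 20662), (19626, 21367), (19627, 21368), (19628, 20663), (19629, 17614), (19630, 21411), (19631, 20461), (19632, 20462), (19633, 21365), (19634, 21366), (19635, 20684), (19636, 20706), (19637, 21392), (19638, 20707), (19639,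 17679), (19640, 17627), (19641, 20484), (19642, 19642), (19643, 20729), (19644, 20489), (19645, 17637), (19646, 17638), (19647, 20795)]
    ⟨e3 q19584 (flp_b L727614) q21112, e3 q19585 L711407 q17612, e3 q19586 (flp_b L723045) q20666, e3 q19587 (flp_b L723099) q20672, e3 q19588 L711437 q17567, e3 q19589 (flp_b L730129) q21374, e3 q19590 L711455 q17570, e3 q19591 (flp_b L730150) q21376, e3 q19592 L711475 q17573, e3 q19593 (flp_b L722717) q20634, e3 q19594 (flp_b L722851) q20647, e3 q19595 (flp_b L722861) q20648, e3 q19596 (flp_b L727528) q21105, e3 q19597 (flp_b L727542) q21106, e3 q19598 (flp_b L722986) q20661, e3 q19599 L711523 q17580, e3 q19600 (flp_b L730199) q21383, e3 q19601 (flp_b L715797) q20085, e3 q19602 (flp_b L715815) q20086, e3 q19603 (flp_b L723158) q20680, e3 q19604 (flp_b L723168) q20681, e3 q19605 (flp_b L723178) q20682, e3 q19606 (flp_b L723188) q20683, e3 q19607 L711576 q17621, e3 q19608 (flp_b L727556) q21107, e3 q19609 (flp_b L723381) q20703, e3 q19610 (flp_b L723392) q20704, e3 q19611 (flp_b L723404)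 q20705, e3 q19612 L711613 q17622, e3 q19613 (flp_b L722224) q20588, e3 q19614 L711623 q17598, e3 q19615 L711631 q17599, e3 q19616 (flp_b L730297) q21397, e3 q19617 (flp_b L722556) q20621, e3 q19618 (flp_b L723668) q20735, e3 q19619 (flp_b L723680) q20736, e3 q19620 (flp_b L723691) q20737, e3 q19621 (flp_b L723703) q20738, e3 q19622 (flp_b L722605) q20625, e3 q19623 (flp_b L715371) q20058, e3 q19624 (flp_b L722872) q20649, e3 q19625 (flp_b L722998) q20662, e3 q19626 (flp_b L730061) q21367, e3 q19627 (flp_b L730075) q21368, e3 q19628 (flp_b L723007) q20663, e3 q19629 L711731 q17614, e3 q19630 (flp_b L730391) q21411, e3 q19631 (flp_b L720707) q20461, e3 q19632 (flp_b L720719) q20462, e3 q19633 (flp_b L730033) q21365, e3 q19634 (flp_b L730047) q21366, e3 q19635 (flp_b L723198) q20684, e3 q19636 (flp_b L723414) q20706, e3 q19637 (flp_b L730264) q21392, e3 q19638 (flp_b L723422) q20707, e3 q19639 L711810 q17679, e3 q19640 L711814 q17627, e3 q19641 (flp_b L721020) q20484, e3 q19642 L711828 q19642, e3 q19643 (flp_b L723617) q20729,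 e3 q19644 (flp_b L721095) q20489, e3 q19645 L711854 q17637, e3 q19646 L711860 q17638, e3 q19647 (flp_b L724364) q20795, trivial⟩ (by decide +kernel)

theorem ce_b_307 : ∀ r, r < 64 → sm gb (Qf (19648 + r)) = Qf (tab Gen.b (19648 + r)) :=
  edges_tab (sm gb) Qf (tab Gen.b) 19648 [(19648, 21421), (19649, 21422), (19650, 21113), (19651, 17642), (19652, 21428), (19653, 17645), (19654, 17646), (19655, 21430), (19656, 20476), (19657, 20481), (19658, 20658), (19659, 21115), (19660, 21116), (19661, 17651), (19662, 17652), (19663, 21435), (19664, 21436), (19665, 21119), (19666, 20595), (19667, 20607), (19668, 17658), (19669, 17659), (19670, 17660), (19671, 17661), (19672, 20835), (19673, 21442), (19674, 20493), (19675, 21443), (19676, 21444), (19677, 21445), (19678, 20645), (19679, 21128), (19680, 21129), (19681, 21130), (19682, 17666), (19683, 21456), (19684, 20608), (19685, 17672), (19686, 17673), (19687, 17674), (19688, 20494), (19689, 21458), (19690, 21141), (19691, 21460), (19692, 20646), (19693, 21137), (19694, 20415), (19695,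 20535), (19696, 17684), (19697, 17685), (19698, 20485), (19699, 17686), (19700, 20501), (19701, 20530), (19702, 20538), (19703, 20486), (19704, 17693), (19705, 21466), (19706, 20623), (19707, 17699), (19708, 17700), (19709, 17701), (19710, 20836), (19711, 21469)]
    ⟨e3 q19648 (flp_b L730464) q21421, e3 q19649 (flp_b L730470) q21422, e3 q19650 (flp_b L727626) q21113, e3 q19651 L711890 q17642, e3 q19652 (flp_b L730507) q21428, e3 q19653 L711905 q17645, e3 q19654 L711913 q17646, e3 q19655 (flp_b L730523) q21430, e3 q19656 (flp_b L720914) q20476, e3 q19657 (flp_b L720976) q20481, e3 q19658 (flp_b L722960) q20658, e3 q19659 (flp_b L727650) q21115, e3 q19660 (flp_b L727660) q21116, e3 q19661 L711955 q17651, e3 q19662 L711961 q17652, e3 q19663 (flp_b L730556) q21435, e3 q19664 (flp_b L730564) q21436, e3 q19665 (flp_b L727692) q21119, e3 q19666 (flp_b L722296) q20595, e3 q19667 (flp_b L722416) q20607, e3 q19668 L712005 q17658, e3 q19669 L712011 q17659, e3 q19670 L712017 q17660, e3 q19671 L712023 q17661, e3 q19672 (flp_b L724809)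 q20835, e3 q19673 (flp_b L730606) q21442, e3 q19674 (flp_b L721141) q20493, e3 q19675 (flp_b L730614) q21443, e3 q19676 (flp_b L730622) q21444, e3 q19677 (flp_b L730628) q21445, e3 q19678 (flp_b L722827) q20645, e3 q19679 (flp_b L727801) q21128, e3 q19680 (flp_b L727811) q21129, e3 q19681 (flp_b L727823) q21130, e3 q19682 L712093 q17666, e3 q19683 (flp_b L730694) q21456, e3 q19684 (flp_b L722428) q20608, e3 q19685 L712111 q17672, e3 q19686 L712119 q17673, e3 q19687 L712127 q17674, e3 q19688 (flp_b L721151) q20494, e3 q19689 (flp_b L730710) q21458, e3 q19690 (flp_b L727926) q21141, e3 q19691 (flp_b L730722) q21460, e3 q19692 (flp_b L722839) q20646, e3 q19693 (flp_b L727896) q21137, e3 q19694 (flp_b L720143) q20415, e3 q19695 (flp_b L721575) q20535, e3 q19696 L712191 q17684, e3 q19697 L712197 q17685, e3 q19698 (flp_b L721034) q20485, e3 q19699 L712207 q17686, e3 q19700 (flp_b L721215) q20501, e3 q19701 (flp_b L721513) q20530, e3 q19702 L721619 q20538, e3 q19703 (flp_b L721046) q20486, e3 q19704 L712238 q17693, e3 q19705 (flp_b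 L730763) q21466, e3 q19706 (flp_b L722577) q20623, e3 q19707 L712265 q17699, e3 q19708 L712273 q17700, e3 q19709 L712284 q17701, e3 q19710 (flp_b L724819) q20836, e3 q19711 (flp_b L730784) q21469, trivial⟩ (by decide +kernel)

theorem ce_b_308 : ∀ r, r < 64 → sm gb (Qf (19712 + r)) = Qf (tab Gen.b (19712 + r)) :=
  edges_tab (sm gb) Qf (tab Gen.b) 19712 [(19712, 21470), (19713, 21471), (19714, 17703), (19715, 20548), (19716, 20487), (19717, 17706), (19718, 21476), (19719, 20541), (19720, 19720), (19721, 19721), (19722, 20568), (19723, 20569), (19724, 21191), (19725, 21207), (19726, 21201), (19727, 21145), (19728, 21146), (19729, 20205), (19730, 20206), (19731, 21147), (19732, 21148), (19733, 17792), (19734, 21149), (19735, 17794), (19736, 17793), (19737, 20845), (19738, 20846), (19739, 21123), (19740, 21124), (19741, 21142), (19742, 17746), (19743, 17747), (19744, 20852), (19745, 21495), (19746, 21496), (19747, 21497), (19748, 17796), (19749, 17801), (19750, 21150), (19751, 17753), (19752, 17754), (19753, 17755), (19754,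 17756), (19755, 21505), (19756, 21506), (19757, 21507), (19758, 21508), (19759, 17809), (19760, 21157), (19761, 17761), (19762, 17762), (19763, 17763), (19764, 21515), (19765, 21516), (19766, 17797), (19767, 17802), (19768, 17770), (19769, 17771), (19770, 21520), (19771, 21521), (19772, 17774), (19773, 20853), (19774, 17783), (19775, 21524)]
    ⟨e3 q19712 (flp_b L730790) q21470, e3 q19713 (flp_b L730797) q21471, e3 q19714 L712312 q17703, e3 q19715 (flp_b L721745) q20548, e3 q19716 (flp_b L721063) q20487, e3 q19717 L712333 q17706, e3 q19718 (flp_b L730826) q21476, e3 q19719 L721656 q20541, e3 q19720 L712354 q19720, e3 q19721 L712364 q19721, e3 q19722 (flp_b L721997) q20568, e3 q19723 (flp_b L722009) q20569, e3 q19724 (flp_b L728472) q21191, e3 q19725 (flp_b L728627) q21207, e3 q19726 (flp_b L728569) q21201, e3 q19727 (flp_b L727974) q21145, e3 q19728 (flp_b L727988) q21146, e3 q19729 (flp_b L717427) q20205, e3 q19730 (flp_b L717441) q20206, e3 q19731 (flp_b L728002) q21147, e3 q19732 (flp_b L728016) q21148, e3 q19733 L712452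 q17792, e3 q19734 (flp_b L728030) q21149, e3 q19735 L712468 q17794, e3 q19736 L712481 q17793, e3 q19737 (flp_b L724897) q20845, e3 q19738 (flp_b L724911) q20846, e3 q19739 (flp_b L727744) q21123, e3 q19740 (flp_b L727759) q21124, e3 q19741 (flp_b L727938) q21142, e3 q19742 L712520 q17746, e3 q19743 L712526 q17747, e3 q19744 (flp_b L724981) q20852, e3 q19745 (flp_b L730959) q21495, e3 q19746 (flp_b L730969) q21496, e3 q19747 (flp_b L730977) q21497, e3 q19748 L712566 q17796, e3 q19749 L712574 q17801, e3 q19750 (flp_b L728042) q21150, e3 q19751 L712592 q17753, e3 q19752 L712602 q17754, e3 q19753 L712610 q17755, e3 q19754 L712616 q17756, e3 q19755 (flp_b L731044) q21505, e3 q19756 (flp_b L731055) q21506, e3 q19757 (flp_b L731065) q21507, e3 q19758 (flp_b L731075) q21508, e3 q19759 L712647 q17809, e3 q19760 (flp_b L728120) q21157, e3 q19761 L712659 q17761, e3 q19762 L712668 q17762, e3 q19763 L712680 q17763, e3 q19764 (flp_b L731112) q21515, e3 q19765 (flp_b L731123) q21516, e3 q19766 L712705 q17797, e3 q19767 L712714 q17802, e3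 q19768 L712722 q17770, e3 q19769 L712731 q17771, e3 q19770 (flp_b L731157) q21520, e3 q19771 (flp_b L731165) q21521, e3 q19772 L712752 q17774, e3 q19773 (flp_b L724997) q20853, e3 q19774 L712767 q17783, e3 q19775 (flp_b L731184) q21524, trivial⟩ (by decide +kernel)

theorem ce_b_309 : ∀ r, r < 64 → sm gb (Qf (19776 + r)) = Qf (tab Gen.b (19776 + r)) :=
  edges_tab (sm gb) Qf (tab Gen.b) 19776 [(19776, 20132), (19777, 20133), (19778, 20798), (19779, 20799), (19780, 20804), (19781, 20827), (19782, 21487), (19783, 20993), (19784, 21075), (19785, 21492), (19786, 21502), (19787, 21519), (19788, 17799), (19789, 17800), (19790, 21534), (19791, 21535), (19792, 21503), (19793, 17886), (19794, 17887), (19795, 17806), (19796, 17807), (19797, 17808), (19798, 20986), (19799, 21540), (19800, 21541), (19801, 21513), (19802, 17904), (19803, 17812), (19804, 17916), (19805, 17823), (19806, 20987), (19807, 21547), (19808, 17921), (19809, 17826), (19810, 17827), (19811, 21551), (19812, 21552), (19813, 21553), (19814, 21237), (19815, 21099),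 (19816, 21097), (19817, 20926), (19818, 21240), (19819, 21241), (19820, 17834), (19821, 17835), (19822, 20881), (19823, 21564), (19824, 21565), (19825, 21247), (19826, 20307), (19827, 20327), (19828, 17841), (19829, 17842), (19830, 17843), (19831, 17844), (19832, 21572), (19833, 20870), (19834, 21573), (19835, 21285), (19836, 21574), (19837, 21575), (19838, 20911), (19839, 21258)]
    ⟨e3 q19776 (flp_b L716443) q20132, e3 q19777 (flp_b L716457) q20133, e3 q19778 (flp_b L724392) q20798, e3 q19779 (flp_b L724408) q20799, e3 q19780 (flp_b L724472) q20804, e3 q19781 (flp_b L724713) q20827, e3 q19782 (flp_b L730903) q21487, e3 q19783 (flp_b L726471) q20993, e3 q19784 (flp_b L727182) q21075, e3 q19785 (flp_b L730939) q21492, e3 q19786 (flp_b L731018) q21502, e3 q19787 (flp_b L731148) q21519, e3 q19788 L712874 q17799, e3 q19789 L712880 q17800, e3 q19790 (flp_b L731265) q21534, e3 q19791 (flp_b L731273) q21535, e3 q19792 (flp_b L731026) q21503, e3 q19793 L712920 q17886, e3 q19794 L712926 q17887, e3 q19795 L712934 q17806, e3 q19796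 L712940 q17807, e3 q19797 L712946 q17808, e3 q19798 (flp_b L726394) q20986, e3 q19799 (flp_b L731313) q21540, e3 q19800 (flp_b L731321) q21541, e3 q19801 (flp_b L731102) q21513, e3 q19802 L712980 q17904, e3 q19803 L712989 q17812, e3 q19804 L712998 q17916, e3 q19805 L713004 q17823, e3 q19806 (flp_b L726408) q20987, e3 q19807 (flp_b L731358) q21547, e3 q19808 L713032 q17921, e3 q19809 L713036 q17826, e3 q19810 L713040 q17827, e3 q19811 (flp_b L731392) q21551, e3 q19812 (flp_b L731398) q21552, e3 q19813 (flp_b L731404) q21553, e3 q19814 (flp_b L728940) q21237, e3 q19815 (flp_b L727458) q21099, e3 q19816 (flp_b L727435) q21097, e3 q19817 (flp_b L725769) q20926, e3 q19818 (flp_b L728968) q21240, e3 q19819 (flp_b L728978) q21241, e3 q19820 L713105 q17834, e3 q19821 L713113 q17835, e3 q19822 (flp_b L725313) q20881, e3 q19823 (flp_b L731477) q21564, e3 q19824 (flp_b L731485) q21565, e3 q19825 (flp_b L729039) q21247, e3 q19826 (flp_b L718739) q20307, e3 q19827 (flp_b L718975) q20327, e3 q19828 L713169 q17841, e3 q19829 L713175 q17842,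 e3 q19830 L713183 q17843, e3 q19831 L713189 q17844, e3 q19832 (flp_b L731539) q21572, e3 q19833 (flp_b L725192) q20870, e3 q19834 (flp_b L731546) q21573, e3 q19835 (flp_b L729396) q21285, e3 q19836 (flp_b L731554) q21574, e3 q19837 (flp_b L731562) q21575, e3 q19838 (flp_b L725633) q20911, e3 q19839 (flp_b L729137) q21258, trivial⟩ (by decide +kernel)

theorem ce_b_310 : ∀ r, r < 64 → sm gb (Qf (19840 + r)) = Qf (tab Gen.b (19840 + r)) :=
  edges_tab (sm gb) Qf (tab Gen.b) 19840 [(19840, 21259), (19841, 21260), (19842, 20336), (19843, 17851), (19844, 17852), (19845, 21590), (19846, 20337), (19847, 17859), (19848, 17860), (19849, 21309), (19850, 21318), (19851, 21592), (19852, 21593), (19853, 20912), (19854, 21267), (19855, 17869), (19856, 21310), (19857, 21319), (19858, 21328), (19859, 21268), (19860, 21101), (19861, 21083), (19862, 21081), (19863, 20642), (19864, 21272), (19865, 21273), (19866, 17880), (19867, 17881), (19868, 17882), (19869, 17943), (19870, 21606), (19871, 21607), (19872, 17942), (19873, 20637), (19874, 20643),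 (19875, 21283), (19876, 21284), (19877, 21151), (19878, 21538), (19879, 21539), (19880, 17892), (19881, 17894), (19882, 17895), (19883, 17896), (19884, 17897), (19885, 17898), (19886, 21618), (19887, 20871), (19888, 21619), (19889, 20872), (19890, 21611), (19891, 21549), (19892, 21620), (19893, 21621), (19894, 21622), (19895, 21608), (19896, 21305), (19897, 21306), (19898, 21307), (19899, 21638), (19900, 20356), (19901, 21158), (19902, 21546), (19903, 17908)]
    ⟨e3 q19840 (flp_b L729147) q21259, e3 q19841 (flp_b L729159) q21260, e3 q19842 (flp_b L719081) q20336, e3 q19843 L713271 q17851, e3 q19844 L713283 q17852, e3 q19845 (flp_b L731664) q21590, e3 q19846 (flp_b L719096) q20337, e3 q19847 L713313 q17859, e3 q19848 L713320 q17860, e3 q19849 (flp_b L729570) q21309, e3 q19850 (flp_b L729666) q21318, e3 q19851 (flp_b L731685) q21592, e3 q19852 (flp_b L731693) q21593, e3 q19853 (flp_b L725647) q20912, e3 q19854 (flp_b L729239) q21267, e3 q19855 L713379 q17869, e3 q19856 (flp_b L729583) q21310, e3 q19857 (flp_b L729679) q21319,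 e3 q19858 (flp_b L729755) q21328, e3 q19859 (flp_b L729251) q21268, e3 q19860 (flp_b L727482) q21101, e3 q19861 (flp_b L727260) q21083, e3 q19862 (flp_b L727236) q21081, e3 q19863 (flp_b L722797) q20642, e3 q19864 (flp_b L729280) q21272, e3 q19865 (flp_b L729287) q21273, e3 q19866 L713454 q17880, e3 q19867 L713464 q17881, e3 q19868 L713474 q17882, e3 q19869 L713484 q17943, e3 q19870 (flp_b L731791) q21606, e3 q19871 (flp_b L731803) q21607, e3 q19872 L713512 q17942, e3 q19873 (flp_b L722748) q20637, e3 q19874 (flp_b L722808) q20643, e3 q19875 (flp_b L729376) q21283, e3 q19876 (flp_b L729388) q21284, e3 q19877 (flp_b L728054) q21151, e3 q19878 (flp_b L731299) q21538, e3 q19879 (flp_b L731307) q21539, e3 q19880 L713564 q17892, e3 q19881 L713574 q17894, e3 q19882 L713584 q17895, e3 q19883 L713590 q17896, e3 q19884 L713598 q17897, e3 q19885 L713604 q17898, e3 q19886 (flp_b L731879) q21618, e3 q19887 (flp_b L725204) q20871, e3 q19888 (flp_b L731887) q21619, e3 q19889 (flp_b L725218) q20872, e3 q19890 (flp_b L731833) q21611, e3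 q19891 (flp_b L731374) q21549, e3 q19892 (flp_b L731899) q21620, e3 q19893 (flp_b L731907) q21621, e3 q19894 (flp_b L731915) q21622, e3 q19895 (flp_b L731811) q21608, e3 q19896 (flp_b L729544) q21305, e3 q19897 (flp_b L729552) q21306, e3 q19898 (flp_b L729560) q21307, e3 q19899 L732001 q21638, e3 q19900 (flp_b L719315) q20356, e3 q19901 (flp_b L728130) q21158, e3 q19902 (flp_b L731349) q21546, e3 q19903 L713716 q17908, trivial⟩ (by decide +kernel)

theorem ce_b_311 : ∀ r, r < 64 → sm gb (Qf (19904 + r)) = Qf (tab Gen.b (19904 + r)) :=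
  edges_tab (sm gb) Qf (tab Gen.b) 19904 [(19904, 17909), (19905, 21641), (19906, 21642), (19907, 18037), (19908, 20638), (19909, 20644), (19910, 21152), (19911, 21161), (19912, 17922), (19913, 17923), (19914, 17924), (19915, 21550), (19916, 21648), (19917, 21649), (19918, 20229), (19919, 20225), (19920, 21327), (19921, 17933), (19922, 17934), (19923, 17935), (19924, 21060), (19925, 21655), (19926, 21656), (19927, 20873), (19928, 20224), (19929, 18035), (19930, 20167), (19931, 17951), (19932, 17952), (19933, 20956), (19934, 21660), (19935, 21661), (19936, 19936), (19937, 18054), (19938, 17958), (19939, 17959), (19940, 17960), (19941, 21029), (19942, 21665), (19943, 21666), (19944, 21667), (19945, 20909), (19946, 20959), (19947, 17970), (19948, 20904), (19949, 21674), (19950, 18033), (19951, 20488), (19952, 17997), (19953, 17998), (19954, 20843), (19955, 21676), (19956, 18002), (19957, 20627), (19958, 18012), (19959, 19959), (19960, 19960), (19961, 18019), (19962, 18016), (19963, 21166), (19964, 20367), (19965, 20358), (19966,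 18025), (19967, 21025)]
    ⟨e3 q19904 L713726 q17909, e3 q19905 (flp_b L732024) q21641, e3 q19906 (flp_b L732032) q21642, e3 q19907 L713750 q18037, e3 q19908 (flp_b L722760) q20638, e3 q19909 (flp_b L722818) q20644, e3 q19910 (flp_b L728068) q21152, e3 q19911 (flp_b L728167) q21161, e3 q19912 L713789 q17922, e3 q19913 L713799 q17923, e3 q19914 L713805 q17924, e3 q19915 (flp_b L731382) q21550, e3 q19916 (flp_b L732083) q21648, e3 q19917 (flp_b L732091) q21649, e3 q19918 (flp_b L717760) q20229, e3 q19919 (flp_b L717708) q20225, e3 q19920 (flp_b L729745) q21327, e3 q19921 L713857 q17933, e3 q19922 L713866 q17934, e3 q19923 L713872 q17935, e3 q19924 (flp_b L727052) q21060, e3 q19925 (flp_b L732135) q21655, e3 q19926 (flp_b L732142) q21656, e3 q19927 (flp_b L725230) q20873, e3 q19928 (flp_b L717690) q20224, e3 q19929 L713913 q18035, e3 q19930 (flp_b L716877) q20167, e3 q19931 L713934 q17951, e3 q19932 L713947 q17952, e3 q19933 (flp_b L726077) q20956, e3 q19934 (flp_b L732177) q21660, e3 q19935 (flp_b L732191) q21661, e3 q19936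 L713983 q19936, e3 q19937 L713994 q18054, e3 q19938 L714003 q17958, e3 q19939 L714008 q17959, e3 q19940 L714016 q17960, e3 q19941 (flp_b L726769) q21029, e3 q19942 (flp_b L732234) q21665, e3 q19943 (flp_b L732241) q21666, e3 q19944 (flp_b L732250) q21667, e3 q19945 (flp_b L725611) q20909, e3 q19946 (flp_b L726115) q20959, e3 q19947 L714061 q17970, e3 q19948 (flp_b L725548) q20904, e3 q19949 (flp_b L732286) q21674, e3 q19950 L714076 q18033, e3 q19951 (flp_b L721078) q20488, e3 q19952 L714089 q17997, e3 q19953 L714094 q17998, e3 q19954 (flp_b L724879) q20843, e3 q19955 (flp_b L732296) q21676, e3 q19956 L714112 q18002, e3 q19957 (flp_b L722629) q20627, e3 q19958 (flp_b L714132) q18012, e3 q19959 L714138 q19959, e3 q19960 L714144 q19960, e3 q19961 L714154 q18019, e3 q19962 L714168 q18016, e3 q19963 (flp_b L728216) q21166, e3 q19964 (flp_b L719456) q20367, e3 q19965 (flp_b L719347) q20358, e3 q19966 L714210 q18025, e3 q19967 (flp_b L726727) q21025, trivial⟩ (by decide +kernel)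

theorem ce_b_312 : ∀ r, r < 64 → sm gb (Qf (19968 + r)) = Qf (tab Gen.b (19968 + r)) :=
  edges_tab (sm gb) Qf (tab Gen.b) 19968 [(19968, 20357), (19969, 20353), (19970, 18038), (19971, 18039), (19972, 18040), (19973, 20887), (19974, 21658), (19975, 20888), (19976, 21645), (19977, 20889), (19978, 21644), (19979, 21680), (19980, 21681), (19981, 21690), (19982, 18048), (19983, 18047), (19984, 21664), (19985, 18044), (19986, 21692), (19987, 21163), (19988, 18055), (19989, 18056), (19990, 21071), (19991, 21694), (19992, 21696), (19993, 20242), (19994, 18075), (19995, 18065), (19996, 20147), (19997, 18071), (19998, 21700), (19999, 20175), (20000, 18077), (20001, 18489), (20002, 20002), (20003, 20003), (20004, 20004), (20005, 20005), (20006, 20006), (20007, 20007), (20008, 18104), (20009, 20009), (20010, 18519), (20011, 18520), (20012, 18510), (20013, 18523), (20014, 18574), (20015, 18575), (20016, 18527), (20017, 18529), (20018, 18119), (20019, 18568), (20020, 18573), (20021, 18586), (20022, 18587), (20023, 18588), (20024, 18590),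 (20025, 21712), (20026, 18650), (20027, 18651), (20028, 18655), (20029, 18656), (20030, 18657), (20031, 18663)]
    ⟨e3 q19968 (flp_b L719331) q20357, e3 q19969 (flp_b L719277) q20353, e3 q19970 L714244 q18038, e3 q19971 L714254 q18039, e3 q19972 L714266 q18040, e3 q19973 (flp_b L725373) q20887, e3 q19974 (flp_b L732159) q21658, e3 q19975 (flp_b L725385) q20888, e3 q19976 (flp_b L732062) q21645, e3 q19977 (flp_b L725398) q20889, e3 q19978 (flp_b L732051) q21644, e3 q19979 (flp_b L732333) q21680, e3 q19980 (flp_b L732344) q21681, e3 q19981 L732400 q21690, e3 q19982 L714333 q18048, e3 q19983 L714343 q18047, e3 q19984 (flp_b L732224) q21664, e3 q19985 (flp_b L714362) q18044, e3 q19986 (flp_b L732421) q21692, e3 q19987 (flp_b L728189) q21163, e3 q19988 L714391 q18055, e3 q19989 L714401 q18056, e3 q19990 (flp_b L727138) q21071, e3 q19991 (flp_b L732435) q21694, e3 q19992 (flp_b L732450) q21696, e3 q19993 (flp_b L717945) q20242, e3 q19994 L714433 q18075, e3 q19995 L714444 q18065, e3 q19996 (flp_b L716632) q20147, e3 q19997 L714458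 q18071, e3 q19998 (flp_b L732472) q21700, e3 q19999 (flp_b L716987) q20175, e3 q20000 L714474 q18077, e3 q20001 L714482 q18489, e3 q20002 L714500 q20002, e3 q20003 L714517 q20003, e3 q20004 L714533 q20004, e3 q20005 L714548 q20005, e3 q20006 L714565 q20006, e3 q20007 L714582 q20007, e3 q20008 L714599 q18104, e3 q20009 L714626 q20009, e3 q20010 L714633 q18519, e3 q20011 L714650 q18520, e3 q20012 L714668 q18510, e3 q20013 L714686 q18523, e3 q20014 L714704 q18574, e3 q20015 L714721 q18575, e3 q20016 L714739 q18527, e3 q20017 L714751 q18529, e3 q20018 L714766 q18119, e3 q20019 L714786 q18568, e3 q20020 L714806 q18573, e3 q20021 L714824 q18586, e3 q20022 L714842 q18587, e3 q20023 L714858 q18588, e3 q20024 L714870 q18590, e3 q20025 L732663 q21712, e3 q20026 L714900 q18650, e3 q20027 L714916 q18651, e3 q20028 L714932 q18655, e3 q20029 L714947 q18656, e3 q20030 L714962 q18657, e3 q20031 L714978 q18663, trivial⟩ (by decide +kernel)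

theorem ce_b_313 : ∀ r, r < 64 → sm gb (Qf (20032 + r)) = Qf (tab Gen.b (20032 + r)) :=
  edges_tab (sm gb) Qf (tab Gen.b) 20032 [(20032, 18666), (20033, 18667), (20034, 18829), (20035, 18830), (20036, 18671), (20037, 18672), (20038, 18673), (20039, 18626), (20040, 18630), (20041, 18674), (20042, 18615), (20043, 18149), (20044, 18150), (20045, 21730), (20046, 21731), (20047, 21732), (20048, 18678), (20049, 18679), (20050, 18659), (20051, 18157), (20052, 18158), (20053, 21738), (20054, 18689), (20055, 18641), (20056, 18691), (20057, 18692), (20058, 19623), (20059, 18616), (20060, 18539), (20061, 18178), (20062, 18179), (20063, 18180), (20064, 18183), (20065, 18185), (20066, 21742), (20067, 21743), (20068, 18632), (20069, 18636), (20070, 21744), (20071, 18804), (20072, 18805), (20073, 18809), (20074, 18810), (20075, 18811), (20076, 18815), (20077, 18820), (20078, 18821), (20079, 18822), (20080, 18826), (20081, 18827), (20082, 18828), (20083, 18834), (20084, 18835), (20085, 19601), (20086, 19602), (20087, 18843), (20088, 18844),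 (20089, 18845), (20090, 18859), (20091, 18860), (20092, 18861), (20093, 18862), (20094, 18619), (20095, 18622)]
    ⟨e3 q20032 L714992 q18666, e3 q20033 L715008 q18667, e3 q20034 L715024 q18829, e3 q20035 L715040 q18830, e3 q20036 L715056 q18671, e3 q20037 L715068 q18672, e3 q20038 L715080 q18673, e3 q20039 L715092 q18626, e3 q20040 L715108 q18630, e3 q20041 L715124 q18674, e3 q20042 L715150 q18615, e3 q20043 L715158 q18149, e3 q20044 L715171 q18150, e3 q20045 (flp_b L732962) q21730, e3 q20046 (flp_b L732979) q21731, e3 q20047 (flp_b L732992) q21732, e3 q20048 L715227 q18678, e3 q20049 L715239 q18679, e3 q20050 L715249 q18659, e3 q20051 L715265 q18157, e3 q20052 L715278 q18158, e3 q20053 (flp_b L733081) q21738, e3 q20054 L715308 q18689, e3 q20055 L715320 q18641, e3 q20056 L715337 q18691, e3 q20057 L715353 q18692, e3 q20058 L715371 q19623, e3 q20059 L715378 q18616, e3 q20060 L715395 q18539, e3 q20061 L715414 q18178, e3 q20062 L715432 q18179, e3 q20063 L715448 q18180, e3 q20064 L715466 q18183, e3 q20065 L715484 q18185, e3 q20066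 (flp_b L733142) q21742, e3 q20067 (flp_b L733160) q21743, e3 q20068 L715533 q18632, e3 q20069 L715551 q18636, e3 q20070 (flp_b L733178) q21744, e3 q20071 L715587 q18804, e3 q20072 L715605 q18805, e3 q20073 L715621 q18809, e3 q20074 L715639 q18810, e3 q20075 L715653 q18811, e3 q20076 L715667 q18815, e3 q20077 L715685 q18820, e3 q20078 L715700 q18821, e3 q20079 L715713 q18822, e3 q20080 L715729 q18826, e3 q20081 L715742 q18827, e3 q20082 L715758 q18828, e3 q20083 L715769 q18834, e3 q20084 L715785 q18835, e3 q20085 L715797 q19601, e3 q20086 L715815 q19602, e3 q20087 L715833 q18843, e3 q20088 L715849 q18844, e3 q20089 L715863 q18845, e3 q20090 L715873 q18859, e3 q20091 L715887 q18860, e3 q20092 L715901 q18861, e3 q20093 L715913 q18862, e3 q20094 L715925 q18619, e3 q20095 L715941 q18622, trivial⟩ (by decide +kernel)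

theorem ce_b_314 : ∀ r, r < 64 → sm gb (Qf (20096 + r)) = Qf (tab Gen.b (20096 + r)) :=
  edges_tab (sm gb) Qf (tab Gen.b) 20096 [(20096, 18870), (20097, 18871), (20098, 18872), (20099, 21769), (20100, 18876), (20101, 18877), (20102, 18878), (20103, 21773), (20104, 18880), (20105, 18226), (20106, 18933), (20107, 18934), (20108, 21776), (20109, 18936), (20110, 18937), (20111, 18938), (20112, 18939), (20113, 19394), (20114, 18940), (20115, 18941), (20116, 19388), (20117, 19400), (20118, 18942), (20119, 18943), (20120, 18944), (20121, 19395), (20122, 18945), (20123, 18946), (20124, 18947), (20125, 19401), (20126, 18948), (20127, 18949), (20128, 19405), (20129, 18950), (20130, 18952), (20131, 18953), (20132, 19776), (20133, 19777), (20134, 18956), (20135, 18957), (20136, 18958), (20137, 18251), (20138, 18252), (20139, 21811), (20140, 19368), (20141, 21812), (20142, 21813), (20143, 18966), (20144, 18967), (20145, 19327), (20146, 19372), (20147, 19996), (20148, 18935), (20149, 18969), (20150, 18970), (20151, 18264), (20152, 19369),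 (20153, 19374), (20154, 21828), (20155, 18976), (20156, 18977), (20157, 18269), (20158, 19375), (20159, 19058)]
    ⟨e3 q20096 L715959 q18870, e3 q20097 L715971 q18871, e3 q20098 L715981 q18872, e3 q20099 L733563 q21769, e3 q20100 L716005 q18876, e3 q20101 L716023 q18877, e3 q20102 L716040 q18878, e3 q20103 L733618 q21773, e3 q20104 L716062 q18880, e3 q20105 (flp_b L716073) q18226, e3 q20106 L716090 q18933, e3 q20107 L716105 q18934, e3 q20108 L733664 q21776, e3 q20109 L716133 q18936, e3 q20110 L716145 q18937, e3 q20111 L716156 q18938, e3 q20112 L716171 q18939, e3 q20113 L716195 q19394, e3 q20114 L716202 q18940, e3 q20115 L716212 q18941, e3 q20116 L716224 q19388, e3 q20117 L716238 q19400, e3 q20118 L716251 q18942, e3 q20119 L716265 q18943, e3 q20120 L716275 q18944, e3 q20121 L716289 q19395, e3 q20122 L716303 q18945, e3 q20123 L716316 q18946, e3 q20124 L716330 q18947, e3 q20125 L716343 q19401, e3 q20126 L716357 q18948, e3 q20127 L716370 q18949, e3 q20128 L716384 q19405, e3 q20129 L716398 q18950, e3 q20130 L716412 q18952, e3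 q20131 L716428 q18953, e3 q20132 L716443 q19776, e3 q20133 L716457 q19777, e3 q20134 L716473 q18956, e3 q20135 L716483 q18957, e3 q20136 L716493 q18958, e3 q20137 L716505 q18251, e3 q20138 L716521 q18252, e3 q20139 (flp_b L734155) q21811, e3 q20140 L716549 q19368, e3 q20141 (flp_b L734171) q21812, e3 q20142 (flp_b L734187) q21813, e3 q20143 L716583 q18966, e3 q20144 L716595 q18967, e3 q20145 L716605 q19327, e3 q20146 L716618 q19372, e3 q20147 L716632 q19996, e3 q20148 L716643 q18935, e3 q20149 L716654 q18969, e3 q20150 L716666 q18970, e3 q20151 L716677 q18264, e3 q20152 L716693 q19369, e3 q20153 L716706 q19374, e3 q20154 (flp_b L734379) q21828, e3 q20155 L716730 q18976, e3 q20156 L716740 q18977, e3 q20157 L716752 q18269, e3 q20158 L716769 q19375, e3 q20159 L716781 q19058, trivial⟩ (by decide +kernel)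

theorem ce_b_315 : ∀ r, r < 64 → sm gb (Qf (20160 + r)) = Qf (tab Gen.b (20160 + r)) :=
  edges_tab (sm gb) Qf (tab Gen.b) 20160 [(20160, 21836), (20161, 18982), (20162, 18983), (20163, 18984), (20164, 18987), (20165, 21842), (20166, 18276), (20167, 19930), (20168, 18281), (20169, 18282), (20170, 18283), (20171, 21844), (20172, 21845), (20173, 21846), (20174, 21847), (20175, 19999), (20176, 18287), (20177, 19063), (20178, 18294), (20179, 18295), (20180, 18325), (20181, 18326), (20182, 18328), (20183, 18329), (20184, 18330), (20185, 18334), (20186, 18337), (20187, 18338), (20188, 19024), (20189, 18339), (20190, 18340), (20191, 19021), (20192, 19027), (20193, 18343), (20194, 18344), (20195, 18345), (20196, 19025), (20197, 18346), (20198, 19028), (20199, 18349), (20200, 18350), (20201, 19029), (20202, 18355), (20203, 18358), (20204, 18359), (20205, 19729), (20206, 19730), (20207, 21854), (20208, 21855), (20209, 19041), (20210, 19053), (20211, 19004), (20212, 21856), (20213, 21857), (20214, 21858), (20215, 19054), (20216, 19005),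 (20217, 19010), (20218, 19057), (20219, 19011), (20220, 21860), (20221, 21861), (20222, 21864), (20223, 21865)]
    ⟨e3 q20160 (flp_b L734488) q21836, e3 q20161 L716803 q18982, e3 q20162 L716817 q18983, e3 q20163 L716831 q18984, e3 q20164 L716843 q18987, e3 q20165 L734561 q21842, e3 q20166 (flp_b L716860) q18276, e3 q20167 L716877 q19930, e3 q20168 L716894 q18281, e3 q20169 L716907 q18282, e3 q20170 L716922 q18283, e3 q20171 (flp_b L734594) q21844, e3 q20172 (flp_b L734608) q21845, e3 q20173 (flp_b L734623) q21846, e3 q20174 (flp_b L734639) q21847, e3 q20175 L716987 q19999, e3 q20176 L716999 q18287, e3 q20177 L717014 q19063, e3 q20178 L717026 q18294, e3 q20179 L717042 q18295, e3 q20180 L717061 q18325, e3 q20181 L717077 q18326, e3 q20182 L717095 q18328, e3 q20183 L717111 q18329, e3 q20184 L717125 q18330, e3 q20185 L717140 q18334, e3 q20186 L717156 q18337, e3 q20187 L717169 q18338, e3 q20188 L717191 q19024, e3 q20189 L717198 q18339, e3 q20190 L717210 q18340, e3 q20191 L717222 q19021, e3 q20192 L717236 q19027, e3 q20193 L717249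 q18343, e3 q20194 L717267 q18344, e3 q20195 L717277 q18345, e3 q20196 L717289 q19025, e3 q20197 L717303 q18346, e3 q20198 L717316 q19028, e3 q20199 L717330 q18349, e3 q20200 L717346 q18350, e3 q20201 L717362 q19029, e3 q20202 L717378 q18355, e3 q20203 L717395 q18358, e3 q20204 L717412 q18359, e3 q20205 L717427 q19729, e3 q20206 L717441 q19730, e3 q20207 (flp_b L734721) q21854, e3 q20208 (flp_b L734739) q21855, e3 q20209 L717478 q19041, e3 q20210 L717494 q19053, e3 q20211 L717509 q19004, e3 q20212 (flp_b L734755) q21856, e3 q20213 (flp_b L734771) q21857, e3 q20214 (flp_b L734787) q21858, e3 q20215 L717560 q19054, e3 q20216 L717576 q19005, e3 q20217 L717591 q19010, e3 q20218 L717607 q19057, e3 q20219 L717623 q19011, e3 q20220 (flp_b L734818) q21860, e3 q20221 (flp_b L734832) q21861, e3 q20222 (flp_b L734874) q21864, e3 q20223 (flp_b L734888) q21865, trivial⟩ (by decide +kernel)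

theorem ce_b_316 : ∀ r, r < 64 → sm gb (Qf (20224 + r)) = Qf (tab Gen.b (20224 + r)) :=
  edges_tab (sm gb) Qf (tab Gen.b) 20224 [(20224, 19928), (20225, 19919), (20226, 18922), (20227, 21869), (20228, 21870), (20229, 19918), (20230, 18699), (20231, 18927), (20232, 21873), (20233, 21874), (20234, 18925), (20235, 18928), (20236, 18929), (20237, 18700), (20238, 18931), (20239, 21875), (20240, 18930), (20241, 18932), (20242, 19993), (20243, 21909), (20244, 19078), (20245, 19079), (20246, 18368), (20247, 21916), (20248, 21917), (20249, 19083), (20250, 19084), (20251, 19085), (20252, 19087), (20253, 19088), (20254, 18373), (20255, 21927), (20256, 21928), (20257, 19092), (20258, 19093), (20259, 19094), (20260, 18377), (20261, 18378), (20262, 21935), (20263, 19143), (20264, 21936), (20265, 21937), (20266, 19101), (20267, 19102), (20268, 19103), (20269, 18383), (20270, 21948), (20271, 19108), (20272, 19109), (20273, 19110), (20274, 18390), (20275, 19144), (20276, 19172), (20277, 21953), (20278, 19115), (20279, 19116), (20280, 19117),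 (20281, 19118), (20282, 18396), (20283, 19525), (20284, 19123), (20285, 19124), (20286, 19125), (20287, 19192)]
    ⟨e3 q20224 L717690 q19928, e3 q20225 L717708 q19919, e3 q20226 L717722 q18922, e3 q20227 (flp_b L734945) q21869, e3 q20228 (flp_b L734963) q21870, e3 q20229 L717760 q19918, e3 q20230 L717776 q18699, e3 q20231 L717792 q18927, e3 q20232 (flp_b L735003) q21873, e3 q20233 (flp_b L735019) q21874, e3 q20234 L717830 q18925, e3 q20235 L717845 q18928, e3 q20236 L717859 q18929, e3 q20237 L717876 q18700, e3 q20238 L717892 q18931, e3 q20239 (flp_b L735037) q21875, e3 q20240 L717918 q18930, e3 q20241 L717932 q18932, e3 q20242 L717945 q19993, e3 q20243 L735530 q21909, e3 q20244 L717970 q19078, e3 q20245 L717982 q19079, e3 q20246 (flp_b L717991) q18368, e3 q20247 (flp_b L735620) q21916, e3 q20248 (flp_b L735630) q21917, e3 q20249 L718023 q19083, e3 q20250 L718034 q19084, e3 q20251 L718044 q19085, e3 q20252 L718053 q19087, e3 q20253 L718065 q19088, e3 q20254 (flp_b L718074) q18373, e3 q20255 (flp_b L735740) q21927, e3 q20256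 (flp_b L735756) q21928, e3 q20257 L718114 q19092, e3 q20258 L718126 q19093, e3 q20259 L718134 q19094, e3 q20260 L718146 q18377, e3 q20261 L718160 q18378, e3 q20262 (flp_b L735844) q21935, e3 q20263 L718178 q19143, e3 q20264 (flp_b L735861) q21936, e3 q20265 (flp_b L735875) q21937, e3 q20266 L718212 q19101, e3 q20267 L718226 q19102, e3 q20268 L718234 q19103, e3 q20269 L718246 q18383, e3 q20270 (flp_b L736016) q21948, e3 q20271 L718273 q19108, e3 q20272 L718287 q19109, e3 q20273 L718300 q19110, e3 q20274 L718315 q18390, e3 q20275 L718329 q19144, e3 q20276 L718345 q19172, e3 q20277 (flp_b L736081) q21953, e3 q20278 L718370 q19115, e3 q20279 L718385 q19116, e3 q20280 L718396 q19117, e3 q20281 L718404 q19118, e3 q20282 L718415 q18396, e3 q20283 L718431 q19525, e3 q20284 L718445 q19123, e3 q20285 L718459 q19124, e3 q20286 L718473 q19125, e3 q20287 (flp_b L718497) q19192, trivial⟩ (by decide +kernel)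

theorem ce_b_317 : ∀ r, r < 64 → sm gb (Qf (20288 + r)) = Qf (tab Gen.b (20288 + r)) :=
  edges_tab (sm gb) Qf (tab Gen.b) 20288 [(20288, 19130), (20289, 19131), (20290, 19132), (20291, 19105), (20292, 18404), (20293, 18405), (20294, 21967), (20295, 21968), (20296, 19140), (20297, 19141), (20298, 19142), (20299, 19098), (20300, 19113), (20301, 18412), (20302, 18413), (20303, 18414), (20304, 18415), (20305, 21978), (20306, 21979), (20307, 19826), (20308, 21980), (20309, 21981), (20310, 21982), (20311, 19156), (20312, 19157), (20313, 19158), (20314, 19159), (20315, 19106), (20316, 18421), (20317, 21995), (20318, 19168), (20319, 19169), (20320, 19170), (20321, 19171), (20322, 19114), (20323, 18430), (20324, 18431), (20325, 18432), (20326, 19252), (20327, 19827), (20328, 22002), (20329, 22003), (20330, 19182), (20331, 19183), (20332, 19184), (20333, 22011), (20334, 19122), (20335, 18443), (20336, 19842), (20337, 19846), (20338, 18981), (20339, 19195), (20340, 19196), (20341, 18447), (20342, 19199), (20343, 19200), (20344, 19201),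 (20345, 22019), (20346, 19203), (20347, 19204), (20348, 22023), (20349, 19206), (20350, 18455), (20351, 19208)]
    ⟨e3 q20288 L718501 q19130, e3 q20289 L718508 q19131, e3 q20290 L718518 q19132, e3 q20291 L718539 q19105, e3 q20292 L718543 q18404, e3 q20293 L718555 q18405, e3 q20294 (flp_b L736272) q21967, e3 q20295 (flp_b L736286) q21968, e3 q20296 L718593 q19140, e3 q20297 L718605 q19141, e3 q20298 L718619 q19142, e3 q20299 L718629 q19098, e3 q20300 L718643 q19113, e3 q20301 L718655 q18412, e3 q20302 L718671 q18413, e3 q20303 L718687 q18414, e3 q20304 L718697 q18415, e3 q20305 (flp_b L736416) q21978, e3 q20306 (flp_b L736432) q21979, e3 q20307 L718739 q19826, e3 q20308 (flp_b L736450) q21980, e3 q20309 (flp_b L736466) q21981, e3 q20310 (flp_b L736476) q21982, e3 q20311 L718783 q19156, e3 q20312 L718791 q19157, e3 q20313 L718801 q19158, e3 q20314 L718809 q19159, e3 q20315 L718817 q19106, e3 q20316 L718830 q18421, e3 q20317 (flp_b L736615) q21995, e3 q20318 L718852 q19168, e3 q20319 L718867 q19169, e3 q20320 L718880 q19170,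 e3 q20321 L718892 q19171, e3 q20322 L718903 q19114, e3 q20323 L718917 q18430, e3 q20324 L718933 q18431, e3 q20325 L718949 q18432, e3 q20326 L718959 q19252, e3 q20327 L718975 q19827, e3 q20328 (flp_b L736702) q22002, e3 q20329 (flp_b L736720) q22003, e3 q20330 L719009 q19182, e3 q20331 L719019 q19183, e3 q20332 L719027 q19184, e3 q20333 L736806 q22011, e3 q20334 L719047 q19122, e3 q20335 L719064 q18443, e3 q20336 L719081 q19842, e3 q20337 L719096 q19846, e3 q20338 L719112 q18981, e3 q20339 L719125 q19195, e3 q20340 L719134 q19196, e3 q20341 (flp_b L719140) q18447, e3 q20342 L719159 q19199, e3 q20343 L719174 q19200, e3 q20344 L719188 q19201, e3 q20345 L736916 q22019, e3 q20346 L719207 q19203, e3 q20347 L719218 q19204, e3 q20348 L736959 q22023, e3 q20349 L719236 q19206, e3 q20350 (flp_b L719239) q18455, e3 q20351 L719252 q19208, trivial⟩ (by decide +kernel)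

theorem ce_b_318 : ∀ r, r < 64 → sm gb (Qf (20352 + r)) = Qf (tab Gen.b (20352 + r)) :=
  edges_tab (sm gb) Qf (tab Gen.b) 20352 [(20352, 19359), (20353, 19969), (20354, 18462), (20355, 22027), (20356, 19900), (20357, 19968), (20358, 19965), (20359, 18468), (20360, 18469), (20361, 18470), (20362, 18471), (20363, 22031), (20364, 22032), (20365, 22033), (20366, 22034), (20367, 19964), (20368, 18474), (20369, 22039), (20370, 18477), (20371, 22041), (20372, 18988), (20373, 20373), (20374, 18482), (20375, 20375), (20376, 18509), (20377, 18512), (20378, 18547), (20379, 18583), (20380, 19270), (20381, 19556), (20382, 18541), (20383, 22043), (20384, 21704), (20385, 19561), (20386, 19571), (20387, 19558), (20388, 19568), (20389, 18517), (20390, 22050), (20391, 18545), (20392, 21703), (20393, 19267), (20394, 19279), (20395, 18525), (20396, 22054), (20397, 18556), (20398, 21706), (20399, 18559), (20400, 19575), (20401, 18531), (20402, 19573), (20403, 18546), (20404, 18552), (20405, 18536), (20406, 22058), (20407, 18684), (20408, 18554),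 (20409, 22047), (20410, 18544), (20411, 18549), (20412, 22062), (20413, 22052), (20414, 22044), (20415, 19694)]
    ⟨e3 q20352 L719269 q19359, e3 q20353 L719277 q19969, e3 q20354 L719291 q18462, e3 q20355 (flp_b L737012) q22027, e3 q20356 L719315 q19900, e3 q20357 L719331 q19968, e3 q20358 L719347 q19965, e3 q20359 L719360 q18468, e3 q20360 L719373 q18469, e3 q20361 L719387 q18470, e3 q20362 L719402 q18471, e3 q20363 (flp_b L737065) q22031, e3 q20364 (flp_b L737078) q22032, e3 q20365 (flp_b L737090) q22033, e3 q20366 (flp_b L737103) q22034, e3 q20367 L719456 q19964, e3 q20368 L719468 q18474, e3 q20369 (flp_b L737160) q22039, e3 q20370 L719488 q18477, e3 q20371 (flp_b L737183) q22041, e3 q20372 L719508 q18988, e3 q20373 L719521 q20373, e3 q20374 L719533 q18482, e3 q20375 L719550 q20375, e3 q20376 L719566 q18509, e3 q20377 L719584 q18512, e3 q20378 L719602 q18547, e3 q20379 L719620 q18583, e3 q20380 L719637 q19270, e3 q20381 L719654 q19556, e3 q20382 L719668 q18541, e3 q20383 (flp_b L737209) q22043, e3 q20384 (flp_b L732522)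 q21704, e3 q20385 L719714 q19561, e3 q20386 L719730 q19571, e3 q20387 L719747 q19558, e3 q20388 L719762 q19568, e3 q20389 L719778 q18517, e3 q20390 (flp_b L737341) q22050, e3 q20391 L719805 q18545, e3 q20392 (flp_b L732504) q21703, e3 q20393 L719828 q19267, e3 q20394 L719848 q19279, e3 q20395 L719866 q18525, e3 q20396 (flp_b L737397) q22054, e3 q20397 L719890 q18556, e3 q20398 (flp_b L732562) q21706, e3 q20399 L719912 q18559, e3 q20400 (flp_b L719940) q19575, e3 q20401 L719946 q18531, e3 q20402 L719963 q19573, e3 q20403 L719978 q18546, e3 q20404 L719994 q18552, e3 q20405 L720006 q18536, e3 q20406 (flp_b L737467) q22058, e3 q20407 L720035 q18684, e3 q20408 L720053 q18554, e3 q20409 (flp_b L737285) q22047, e3 q20410 L720078 q18544, e3 q20411 L720095 q18549, e3 q20412 (flp_b L737536) q22062, e3 q20413 (flp_b L737370) q22052, e3 q20414 (flp_b L737229) q22044, e3 q20415 L720143 q19694, trivial⟩ (by decide +kernel)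

theorem ce_b_319 : ∀ r, r < 64 → sm gb (Qf (20416 + r)) = Qf (tab Gen.b (20416 + r)) :=
  edges_tab (sm gb) Qf (tab Gen.b) 20416 [(20416, 22063), (20417, 18580), (20418, 19565), (20419, 18555), (20420, 22061), (20421, 22067), (20422, 22056), (20423, 18593), (20424, 19554), (20425, 18563), (20426, 22072), (20427, 19569), (20428, 19276), (20429, 19551), (20430, 19555), (20431, 18571), (20432, 19548), (20433, 22075), (20434, 19562), (20435, 21708), (20436, 21705), (20437, 19552), (20438, 19553), (20439, 19557), (20440, 22066), (20441, 18584), (20442, 18585), (20443, 22045), (20444, 22082), (20445, 22083), (20446, 21709), (20447, 21710), (20448, 22087), (20449, 18595), (20450, 18591), (20451, 20451), (20452, 18624), (20453, 18625), (20454, 18627), (20455, 18628), (20456, 18629), (20457, 18633), (20458, 18747), (20459, 18748), (20460, 18855), (20461, 19631), (20462, 19632), (20463, 21729), (20464, 18866), (20465, 19312), (20466, 19319), (20467, 21766), (20468, 18867), (20469, 19320), (20470, 18730), (20471, 18731), (20472, 22088),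 (20473, 22089), (20474, 21719), (20475, 21727), (20476, 19656), (20477, 22090), (20478, 22091), (20479, 22092)]
    ⟨e3 q20416 (flp_b L737554) q22063, e3 q20417 L720169 q18580, e3 q20418 L720187 q19565, e3 q20419 L720197 q18555, e3 q20420 (flp_b L737518) q22061, e3 q20421 (flp_b L737610) q22067, e3 q20422 (flp_b L737431) q22056, e3 q20423 L720235 q18593, e3 q20424 L720257 q19554, e3 q20425 L720262 q18563, e3 q20426 (flp_b L737677) q22072, e3 q20427 L720285 q19569, e3 q20428 L720299 q19276, e3 q20429 L720317 q19551, e3 q20430 L720329 q19555, e3 q20431 L720343 q18571, e3 q20432 L720359 q19548, e3 q20433 (flp_b L737715) q22075, e3 q20434 L720380 q19562, e3 q20435 (flp_b L732594) q21708, e3 q20436 (flp_b L732542) q21705, e3 q20437 L720405 q19552, e3 q20438 L720417 q19553, e3 q20439 L720427 q19557, e3 q20440 (flp_b L737594) q22066, e3 q20441 L720455 q18584, e3 q20442 L720469 q18585, e3 q20443 (flp_b L737249) q22045, e3 q20444 (flp_b L737797) q22082, e3 q20445 (flp_b L737810) q22083, e3 q20446 (flp_b L732611) q21709, e3 q20447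 (flp_b L732631) q21710, e3 q20448 (flp_b L737851) q22087, e3 q20449 L720541 q18595, e3 q20450 (flp_b L720544) q18591, e3 q20451 L720558 q20451, e3 q20452 L720576 q18624, e3 q20453 L720590 q18625, e3 q20454 L720607 q18627, e3 q20455 L720623 q18628, e3 q20456 L720635 q18629, e3 q20457 L720649 q18633, e3 q20458 L720659 q18747, e3 q20459 L720675 q18748, e3 q20460 L720700 q18855, e3 q20461 L720707 q19631, e3 q20462 L720719 q19632, e3 q20463 (flp_b L732944) q21729, e3 q20464 L720745 q18866, e3 q20465 L720760 q19312, e3 q20466 L720775 q19319, e3 q20467 (flp_b L733519) q21766, e3 q20468 L720800 q18867, e3 q20469 L720814 q19320, e3 q20470 L720828 q18730, e3 q20471 L720844 q18731, e3 q20472 (flp_b L737863) q22088, e3 q20473 (flp_b L737881) q22089, e3 q20474 (flp_b L732782) q21719, e3 q20475 (flp_b L732910) q21727, e3 q20476 L720914 q19656, e3 q20477 (flp_b L737895) q22090, e3 q20478 (flp_b L737911) q22091, e3 q20479 (flp_b L737925) q22092, trivial⟩ (by decide +kernel)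

theorem ce_b_320 : ∀ r, r < 64 → sm gb (Qf (20480 + r)) = Qf (tab Gen.b (20480 + r)) :=
  edges_tab (sm gb) Qf (tab Gen.b) 20480 [(20480, 21728), (20481, 19657), (20482, 21746), (20483, 18635), (20484, 19641), (20485, 19698), (20486, 19703), (20487, 19716), (20488, 19951), (20489, 19644), (20490, 21795), (20491, 19377), (20492, 19378), (20493, 19674), (20494, 19688), (20495, 18649), (20496, 22126), (20497, 22127), (20498, 21713), (20499, 21714), (20500, 21715), (20501, 19700), (20502, 18654), (20503, 22134), (20504, 18740), (20505, 21716), (20506, 21717), (20507, 18660), (20508, 21737), (20509, 22139), (20510, 18741), (20511, 18746), (20512, 21718), (20513, 19294), (20514, 19295), (20515, 21720), (20516, 21721), (20517, 18669), (20518, 18670), (20519, 21895), (20520, 22147), (20521, 22148), (20522, 18755), (20523, 21725), (20524, 21726), (20525, 18676), (20526, 22155), (20527, 18767), (20528, 21735), (20529, 21736), (20530, 19701), (20531, 18685), (20532, 18686), (20533, 18736), (20534, 22060), (20535, 19695), (20536, 18768),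 (20537, 18774), (20538, 19702), (20539, 18778), (20540, 21740), (20541, 19719), (20542, 18779), (20543, 18701)]
    ⟨e3 q20480 (flp_b L732926) q21728, e3 q20481 L720976 q19657, e3 q20482 (flp_b L733214) q21746, e3 q20483 L721004 q18635, e3 q20484 L721020 q19641, e3 q20485 L721034 q19698, e3 q20486 L721046 q19703, e3 q20487 L721063 q19716, e3 q20488 L721078 q19951, e3 q20489 L721095 q19644, e3 q20490 (flp_b L733926) q21795, e3 q20491 L721120 q19377, e3 q20492 L721132 q19378, e3 q20493 L721141 q19674, e3 q20494 L721151 q19688, e3 q20495 (flp_b L721161) q18649, e3 q20496 (flp_b L738413) q22126, e3 q20497 (flp_b L738429) q22127, e3 q20498 (flp_b L732684) q21713, e3 q20499 (flp_b L732702) q21714, e3 q20500 (flp_b L732718) q21715, e3 q20501 L721215 q19700, e3 q20502 L721227 q18654, e3 q20503 (flp_b L738505) q22134, e3 q20504 L721248 q18740, e3 q20505 (flp_b L732736) q21716, e3 q20506 (flp_b L732751) q21717, e3 q20507 L721274 q18660, e3 q20508 (flp_b L733063) q21737, e3 q20509 (flp_b L738558) q22139, e3 q20510 L721307 q18741, e3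 q20511 L721322 q18746, e3 q20512 (flp_b L732767) q21718, e3 q20513 L721341 q19294, e3 q20514 L721357 q19295, e3 q20515 (flp_b L732800) q21720, e3 q20516 (flp_b L732816) q21721, e3 q20517 L721387 q18669, e3 q20518 L721397 q18670, e3 q20519 (flp_b L735333) q21895, e3 q20520 (flp_b L738670) q22147, e3 q20521 (flp_b L738682) q22148, e3 q20522 L721445 q18755, e3 q20523 (flp_b L732886) q21725, e3 q20524 (flp_b L732900) q21726, e3 q20525 L721471 q18676, e3 q20526 (flp_b L738760) q22155, e3 q20527 L721487 q18767, e3 q20528 (flp_b L733039) q21735, e3 q20529 (flp_b L733049) q21736, e3 q20530 L721513 q19701, e3 q20531 L721525 q18685, e3 q20532 L721535 q18686, e3 q20533 L721547 q18736, e3 q20534 (flp_b L737498) q22060, e3 q20535 L721575 q19695, e3 q20536 L721587 q18768, e3 q20537 L721597 q18774, e3 q20538 (flp_b L721619) q19702, e3 q20539 L721625 q18778, e3 q20540 (flp_b L733115) q21740, e3 q20541 (flp_b L721656) q19719, e3 q20542 L721662 q18779, e3 q20543 L721677 q18701, trivial⟩ (by decide +kernel)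

theorem ce_b_321 : ∀ r, r < 64 → sm gb (Qf (20544 + r)) = Qf (tab Gen.b (20544 + r)) :=
  edges_tab (sm gb) Qf (tab Gen.b) 20544 [(20544, 21899), (20545, 21904), (20546, 22165), (20547, 18704), (20548, 19715), (20549, 20549), (20550, 18733), (20551, 18734), (20552, 18742), (20553, 18750), (20554, 18751), (20555, 18718), (20556, 22174), (20557, 22175), (20558, 18756), (20559, 18757), (20560, 18761), (20561, 18723), (20562, 22180), (20563, 18726), (20564, 22140), (20565, 18918), (20566, 18919), (20567, 19529), (20568, 19722), (20569, 19723), (20570, 18764), (20571, 22106), (20572, 22107), (20573, 18732), (20574, 22193), (20575, 22194), (20576, 22131), (20577, 22170), (20578, 22171), (20579, 18765), (20580, 22160), (20581, 18739), (20582, 18749), (20583, 18758), (20584, 22202), (20585, 22136), (20586, 22141), (20587, 18745), (20588, 19613), (20589, 22208), (20590, 22142), (20591, 22093), (20592, 22094), (20593, 22196), (20594, 22203), (20595, 19666), (20596, 22172), (20597, 22173), (20598, 18836), (20599, 18753), (20600, 18754),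 (20601, 22189), (20602, 22219), (20603, 22220), (20604, 22152), (20605, 22179), (20606, 22204), (20607, 19667)]
    ⟨e3 q20544 (flp_b L735387) q21899, e3 q20545 (flp_b L735460) q21904, e3 q20546 (flp_b L738895) q22165, e3 q20547 L721730 q18704, e3 q20548 L721745 q19715, e3 q20549 L721760 q20549, e3 q20550 L721776 q18733, e3 q20551 L721790 q18734, e3 q20552 L721804 q18742, e3 q20553 L721816 q18750, e3 q20554 L721828 q18751, e3 q20555 (flp_b L721836) q18718, e3 q20556 (flp_b L739011) q22174, e3 q20557 (flp_b L739027) q22175, e3 q20558 L721874 q18756, e3 q20559 L721884 q18757, e3 q20560 L721894 q18761, e3 q20561 L721906 q18723, e3 q20562 (flp_b L739087) q22180, e3 q20563 L721931 q18726, e3 q20564 (flp_b L738573) q22140, e3 q20565 L721952 q18918, e3 q20566 L721967 q18919, e3 q20567 L721990 q19529, e3 q20568 L721997 q19722, e3 q20569 L722009 q19723, e3 q20570 L722026 q18764, e3 q20571 (flp_b L738141) q22106, e3 q20572 (flp_b L738159) q22107, e3 q20573 (flp_b L722047) q18732, e3 q20574 (flp_b L739258) q22193, e3 q20575 (flp_b L739274)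 q22194, e3 q20576 (flp_b L738475) q22131, e3 q20577 (flp_b L738957) q22170, e3 q20578 (flp_b L738971) q22171, e3 q20579 L722113 q18765, e3 q20580 (flp_b L738826) q22160, e3 q20581 L722136 q18739, e3 q20582 L722151 q18749, e3 q20583 L722167 q18758, e3 q20584 (flp_b L739374) q22202, e3 q20585 (flp_b L738528) q22136, e3 q20586 (flp_b L738588) q22141, e3 q20587 L722210 q18745, e3 q20588 L722224 q19613, e3 q20589 (flp_b L739450) q22208, e3 q20590 (flp_b L738604) q22142, e3 q20591 (flp_b L737939) q22093, e3 q20592 (flp_b L737957) q22094, e3 q20593 (flp_b L739300) q22196, e3 q20594 (flp_b L739390) q22203, e3 q20595 L722296 q19666, e3 q20596 (flp_b L738987) q22172, e3 q20597 (flp_b L739001) q22173, e3 q20598 L722336 q18836, e3 q20599 L722340 q18753, e3 q20600 L722348 q18754, e3 q20601 (flp_b L739209) q22189, e3 q20602 (flp_b L739589) q22219, e3 q20603 (flp_b L739599) q22220, e3 q20604 (flp_b L738730) q22152, e3 q20605 (flp_b L739077) q22179, e3 q20606 (flp_b L739406) q22204, e3 q20607 L722416 q19667, trivial⟩ (by decide +kernel)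

theorem ce_b_322 : ∀ r, r < 64 → sm gb (Qf (20608 + r)) = Qf (tab Gen.b (20608 + r)) :=
  edges_tab (sm gb) Qf (tab Gen.b) 20608 [(20608, 19684), (20609, 18851), (20610, 18766), (20611, 22190), (20612, 22201), (20613, 22228), (20614, 22157), (20615, 22161), (20616, 18863), (20617, 18772), (20618, 18773), (20619, 22143), (20620, 22235), (20621, 19617), (20622, 18888), (20623, 19706), (20624, 22162), (20625, 19622), (20626, 18782), (20627, 19957), (20628, 20628), (20629, 18786), (20630, 22241), (20631, 18898), (20632, 18792), (20633, 22244), (20634, 19593), (20635, 18795), (20636, 21915), (20637, 19873), (20638, 19908), (20639, 18798), (20640, 22251), (20641, 22252), (20642, 19863), (20643, 19874), (20644, 19909), (20645, 19678), (20646, 19692), (20647, 19594), (20648, 19595), (20649, 19624), (20650, 21747), (20651, 21748), (20652, 18807), (20653, 18808), (20654, 22266), (20655, 19581), (20656, 22267), (20657, 22268), (20658, 19658), (20659, 21749), (20660, 21750), (20661, 19598), (20662, 19625), (20663, 19628), (20664, 18819),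 (20665, 19582), (20666, 19586), (20667, 22280), (20668, 21751), (20669, 21752), (20670, 21753), (20671, 18825)]
    ⟨e3 q20608 L722428 q19684, e3 q20609 L722440 q18851, e3 q20610 L722454 q18766, e3 q20611 (flp_b L739227) q22190, e3 q20612 (flp_b L739358) q22201, e3 q20613 (flp_b L739679) q22228, e3 q20614 (flp_b L738792) q22157, e3 q20615 (flp_b L738842) q22161, e3 q20616 L722503 q18863, e3 q20617 L722517 q18772, e3 q20618 L722525 q18773, e3 q20619 L738628 q22143, e3 q20620 (flp_b L739758) q22235, e3 q20621 L722556 q19617, e3 q20622 L722562 q18888, e3 q20623 L722577 q19706, e3 q20624 (flp_b L738858) q22162, e3 q20625 L722605 q19622, e3 q20626 L722612 q18782, e3 q20627 L722629 q19957, e3 q20628 L722644 q20628, e3 q20629 L722655 q18786, e3 q20630 (flp_b L739837) q22241, e3 q20631 L722680 q18898, e3 q20632 L722691 q18792, e3 q20633 (flp_b L739871) q22244, e3 q20634 L722717 q19593, e3 q20635 L722726 q18795, e3 q20636 (flp_b L735616) q21915, e3 q20637 L722748 q19873, e3 q20638 L722760 q19908, e3 q20639 (flp_b L722769) q18798,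 e3 q20640 (flp_b L739951) q22251, e3 q20641 (flp_b L739961) q22252, e3 q20642 L722797 q19863, e3 q20643 L722808 q19874, e3 q20644 L722818 q19909, e3 q20645 L722827 q19678, e3 q20646 L722839 q19692, e3 q20647 L722851 q19594, e3 q20648 L722861 q19595, e3 q20649 L722872 q19624, e3 q20650 (flp_b L733234) q21747, e3 q20651 (flp_b L733252) q21748, e3 q20652 L722898 q18807, e3 q20653 L722914 q18808, e3 q20654 (flp_b L740106) q22266, e3 q20655 L722932 q19581, e3 q20656 (flp_b L740121) q22267, e3 q20657 (flp_b L740137) q22268, e3 q20658 L722960 q19658, e3 q20659 (flp_b L733270) q21749, e3 q20660 (flp_b L733288) q21750, e3 q20661 L722986 q19598, e3 q20662 L722998 q19625, e3 q20663 L723007 q19628, e3 q20664 L723021 q18819, e3 q20665 L723035 q19582, e3 q20666 L723045 q19586, e3 q20667 (flp_b L740254) q22280, e3 q20668 (flp_b L733302) q21751, e3 q20669 (flp_b L733317) q21752, e3 q20670 (flp_b L733331) q21753, e3 q20671 L723086 q18825, trivial⟩ (by decide +kernel)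

theorem ce_b_323 : ∀ r, r < 64 → sm gb (Qf (20672 + r)) = Qf (tab Gen.b (20672 + r)) :=
  edges_tab (sm gb) Qf (tab Gen.b) 20672 [(20672, 19587), (20673, 22287), (20674, 21754), (20675, 21755), (20676, 22237), (20677, 21722), (20678, 21723), (20679, 21724), (20680, 19603), (20681, 19604), (20682, 19605), (20683, 19606), (20684, 19635), (20685, 21756), (20686, 22215), (20687, 22218), (20688, 18839), (20689, 18840), (20690, 18841), (20691, 18842), (20692, 22302), (20693, 22303), (20694, 22304), (20695, 22095), (20696, 22305), (20697, 22306), (20698, 22307), (20699, 21758), (20700, 21759), (20701, 21760), (20702, 21761), (20703, 19609), (20704, 19610), (20705, 19611), (20706, 19636), (20707, 19638), (20708, 22227), (20709, 18856), (20710, 18857), (20711, 18858), (20712, 22096), (20713, 22323), (20714, 22324), (20715, 22325), (20716, 21762), (20717, 21763), (20718, 21764), (20719, 22335), (20720, 18868), (20721, 18869), (20722, 22101), (20723, 22104), (20724, 22209), (20725, 22336), (20726, 18873), (20727, 21767), (20728, 21768),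 (20729, 19643), (20730, 21770), (20731, 22341), (20732, 21772), (20733, 18879), (20734, 18900), (20735, 19618)]
    ⟨e3 q20672 L723099 q19587, e3 q20673 (flp_b L740320) q22287, e3 q20674 (flp_b L733346) q21754, e3 q20675 (flp_b L733360) q21755, e3 q20676 (flp_b L739789) q22237, e3 q20677 (flp_b L732834) q21722, e3 q20678 (flp_b L732852) q21723, e3 q20679 (flp_b L732868) q21724, e3 q20680 L723158 q19603, e3 q20681 L723168 q19604, e3 q20682 L723178 q19605, e3 q20683 L723188 q19606, e3 q20684 L723198 q19635, e3 q20685 (flp_b L733377) q21756, e3 q20686 (flp_b L739535) q22215, e3 q20687 (flp_b L739575) q22218, e3 q20688 L723244 q18839, e3 q20689 L723258 q18840, e3 q20690 L723270 q18841, e3 q20691 L723282 q18842, e3 q20692 (flp_b L740491) q22302, e3 q20693 (flp_b L740502) q22303, e3 q20694 (flp_b L740514) q22304, e3 q20695 (flp_b L737973) q22095, e3 q20696 (flp_b L740530) q22305, e3 q20697 (flp_b L740542) q22306, e3 q20698 (flp_b L740554) q22307, e3 q20699 (flp_b L733409) q21758, e3 q20700 (flp_b L733427) q21759, e3 q20701 (flp_b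 L733443) q21760, e3 q20702 (flp_b L733455) q21761, e3 q20703 L723381 q19609, e3 q20704 L723392 q19610, e3 q20705 L723404 q19611, e3 q20706 L723414 q19636, e3 q20707 L723422 q19638, e3 q20708 (flp_b L739665) q22227, e3 q20709 L723448 q18856, e3 q20710 L723461 q18857, e3 q20711 L723475 q18858, e3 q20712 (flp_b L737989) q22096, e3 q20713 (flp_b L740689) q22323, e3 q20714 (flp_b L740703) q22324, e3 q20715 (flp_b L740716) q22325, e3 q20716 (flp_b L733465) q21762, e3 q20717 (flp_b L733481) q21763, e3 q20718 (flp_b L733493) q21764, e3 q20719 L740785 q22335, e3 q20720 L723541 q18868, e3 q20721 L723550 q18869, e3 q20722 (flp_b L738064) q22101, e3 q20723 (flp_b L738111) q22104, e3 q20724 (flp_b L739465) q22209, e3 q20725 (flp_b L740797) q22336, e3 q20726 L723589 q18873, e3 q20727 (flp_b L733537) q21767, e3 q20728 (flp_b L733551) q21768, e3 q20729 L723617 q19643, e3 q20730 (flp_b L733583) q21770, e3 q20731 L740851 q22341, e3 q20732 (flp_b L733611) q21772, e3 q20733 (flp_b L723644) q18879, e3 q20734 L723661 q18900, e3 q20735 L723668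 q19618, trivial⟩ (by decide +kernel)

theorem ce_b_324 : ∀ r, r < 64 → sm gb (Qf (20736 + r)) = Qf (tab Gen.b (20736 + r)) :=
  edges_tab (sm gb) Qf (tab Gen.b) 20736 [(20736, 19619), (20737, 19620), (20738, 19621), (20739, 19049), (20740, 19059), (20741, 22238), (20742, 18892), (20743, 18893), (20744, 18894), (20745, 18895), (20746, 22349), (20747, 22350), (20748, 22351), (20749, 22352), (20750, 19527), (20751, 22339), (20752, 20752), (20753, 20753), (20754, 18920), (20755, 18921), (20756, 19262), (20757, 19232), (20758, 18923), (20759, 18924), (20760, 19231), (20761, 18926), (20762, 19181), (20763, 19194), (20764, 22182), (20765, 22183), (20766, 22358), (20767, 22359), (20768, 21896), (20769, 22362), (20770, 21902), (20771, 21900), (20772, 21903), (20773, 21907), (20774, 21905), (20775, 21774), (20776, 21775), (20777, 21808), (20778, 21825), (20779, 21779), (20780, 21780), (20781, 21781), (20782, 21782), (20783, 21783), (20784, 21786), (20785, 21787), (20786, 21788), (20787, 21792), (20788, 21793), (20789, 21796), (20790,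 21797), (20791, 21799), (20792, 21800), (20793, 19015), (20794, 19016), (20795, 19647), (20796, 21803), (20797, 21804), (20798, 19778), (20799, 19779)]
    ⟨e3 q20736 L723680 q19619, e3 q20737 L723691 q19620, e3 q20738 L723703 q19621, e3 q20739 L723714 q19049, e3 q20740 L723727 q19059, e3 q20741 (flp_b L739804) q22238, e3 q20742 L723753 q18892, e3 q20743 L723765 q18893, e3 q20744 L723778 q18894, e3 q20745 L723792 q18895, e3 q20746 (flp_b L740935) q22349, e3 q20747 (flp_b L740947) q22350, e3 q20748 (flp_b L740958) q22351, e3 q20749 (flp_b L740970) q22352, e3 q20750 L723841 q19527, e3 q20751 (flp_b L740837) q22339, e3 q20752 L723851 q20752, e3 q20753 L723866 q20753, e3 q20754 L723884 q18920, e3 q20755 L723894 q18921, e3 q20756 L723906 q19262, e3 q20757 L723922 q19232, e3 q20758 L723935 q18923, e3 q20759 L723945 q18924, e3 q20760 L723959 q19231, e3 q20761 L723973 q18926, e3 q20762 L723986 q19181, e3 q20763 L724000 q19194, e3 q20764 (flp_b L739112) q22182, e3 q20765 (flp_b L739128) q22183, e3 q20766 (flp_b L741023) q22358, e3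 q20767 (flp_b L741033) q22359, e3 q20768 (flp_b L735351) q21896, e3 q20769 (flp_b L741077) q22362, e3 q20770 (flp_b L735429) q21902, e3 q20771 (flp_b L735403) q21900, e3 q20772 (flp_b L735444) q21903, e3 q20773 (flp_b L735503) q21907, e3 q20774 (flp_b L735477) q21905, e3 q20775 (flp_b L733637) q21774, e3 q20776 (flp_b L733653) q21775, e3 q20777 (flp_b L734119) q21808, e3 q20778 (flp_b L734343) q21825, e3 q20779 (flp_b L733706) q21779, e3 q20780 (flp_b L733719) q21780, e3 q20781 (flp_b L733731) q21781, e3 q20782 (flp_b L733744) q21782, e3 q20783 (flp_b L733762) q21783, e3 q20784 (flp_b L733808) q21786, e3 q20785 (flp_b L733822) q21787, e3 q20786 (flp_b L733832) q21788, e3 q20787 (flp_b L733885) q21792, e3 q20788 (flp_b L733899) q21793, e3 q20789 (flp_b L733940) q21796, e3 q20790 (flp_b L733953) q21797, e3 q20791 (flp_b L733981) q21799, e3 q20792 (flp_b L733995) q21800, e3 q20793 L724335 q19015, e3 q20794 L724351 q19016, e3 q20795 L724364 q19647, e3 q20796 (flp_b L734040) q21803, e3 q20797 (flp_b L734058) q21804, e3 q20798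 L724392 q19778, e3 q20799 L724408 q19779, trivial⟩ (by decide +kernel)

theorem ce_b_325 : ∀ r, r < 64 → sm gb (Qf (20800 + r)) = Qf (tab Gen.b (20800 + r)) :=
  edges_tab (sm gb) Qf (tab Gen.b) 20800 [(20800, 21809), (20801, 21810), (20802, 18963), (20803, 18964), (20804, 19780), (20805, 19370), (20806, 22397), (20807, 19035), (20808, 19044), (20809, 21820), (20810, 21821), (20811, 21826), (20812, 21827), (20813, 19371), (20814, 19050), (20815, 19055), (20816, 21832), (20817, 22013), (20818, 19051), (20819, 19056), (20820, 21837), (20821, 21838), (20822, 19060), (20823, 19062), (20824, 22042), (20825, 21841), (20826, 19061), (20827, 19781), (20828, 19019), (20829, 19020), (20830, 19022), (20831, 19023), (20832, 19026), (20833, 19031), (20834, 19032), (20835, 19672), (20836, 19710), (20837, 19036), (20838, 19037), (20839, 21876), (20840, 21884), (20841, 21887), (20842, 19045), (20843, 19954), (20844, 21888), (20845, 19737), (20846, 19738), (20847, 19472), (20848, 19530), (20849, 21866), (20850, 22390), (20851, 22391), (20852,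 19744), (20853, 19773), (20854, 21862), (20855, 22416), (20856, 22417), (20857, 21867), (20858, 22418), (20859, 21859), (20860, 21863), (20861, 21871), (20862, 21868), (20863, 21872)]
    ⟨e3 q20800 (flp_b L734133) q21809, e3 q20801 (flp_b L734145) q21810, e3 q20802 L724440 q18963, e3 q20803 L724456 q18964, e3 q20804 L724472 q19780, e3 q20805 L724488 q19370, e3 q20806 (flp_b L741489) q22397, e3 q20807 L724516 q19035, e3 q20808 L724526 q19044, e3 q20809 (flp_b L734280) q21820, e3 q20810 (flp_b L734292) q21821, e3 q20811 (flp_b L734356) q21826, e3 q20812 (flp_b L734366) q21827, e3 q20813 L724569 q19371, e3 q20814 L724585 q19050, e3 q20815 L724595 q19055, e3 q20816 (flp_b L734434) q21832, e3 q20817 (flp_b L736841) q22013, e3 q20818 L724625 q19051, e3 q20819 L724634 q19056, e3 q20820 (flp_b L734505) q21837, e3 q20821 (flp_b L734520) q21838, e3 q20822 L724665 q19060, e3 q20823 L724678 q19062, e3 q20824 (flp_b L737196) q22042, e3 q20825 (flp_b L734554) q21841, e3 q20826 L724703 q19061, e3 q20827 L724713 q19781, e3 q20828 L724727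 q19019, e3 q20829 L724741 q19020, e3 q20830 L724755 q19022, e3 q20831 L724763 q19023, e3 q20832 L724775 q19026, e3 q20833 L724788 q19031, e3 q20834 L724798 q19032, e3 q20835 L724809 q19672, e3 q20836 L724819 q19710, e3 q20837 L724830 q19036, e3 q20838 L724838 q19037, e3 q20839 (flp_b L735052) q21876, e3 q20840 (flp_b L735173) q21884, e3 q20841 (flp_b L735216) q21887, e3 q20842 L724871 q19045, e3 q20843 L724879 q19954, e3 q20844 (flp_b L735232) q21888, e3 q20845 L724897 q19737, e3 q20846 L724911 q19738, e3 q20847 L724926 q19472, e3 q20848 L724940 q19530, e3 q20849 (flp_b L734900) q21866, e3 q20850 (flp_b L741405) q22390, e3 q20851 (flp_b L741421) q22391, e3 q20852 L724981 q19744, e3 q20853 L724997 q19773, e3 q20854 (flp_b L734845) q21862, e3 q20855 (flp_b L741684) q22416, e3 q20856 (flp_b L741698) q22417, e3 q20857 (flp_b L734917) q21867, e3 q20858 (flp_b L741714) q22418, e3 q20859 (flp_b L734811) q21859, e3 q20860 (flp_b L734861) q21863, e3 q20861 (flp_b L734973) q21871, e3 q20862 (flp_b L734931) q21868, e3 q20863 (flp_b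 L734988) q21872, trivial⟩ (by decide +kernel)

theorem ce_b_326 : ∀ r, r < 64 → sm gb (Qf (20864 + r)) = Qf (tab Gen.b (20864 + r)) :=
  edges_tab (sm gb) Qf (tab Gen.b) 20864 [(20864, 21801), (20865, 19150), (20866, 19224), (20867, 22128), (20868, 22419), (20869, 22420), (20870, 19833), (20871, 19887), (20872, 19889), (20873, 19927), (20874, 22299), (20875, 22401), (20876, 22423), (20877, 19040), (20878, 19042), (20879, 19043), (20880, 21881), (20881, 19822), (20882, 22464), (20883, 21882), (20884, 22465), (20885, 22402), (20886, 22427), (20887, 19973), (20888, 19975), (20889, 19977), (20890, 22347), (20891, 22406), (20892, 22410), (20893, 21883), (20894, 21886), (20895, 22407), (20896, 21831), (20897, 21835), (20898, 22348), (20899, 22413), (20900, 21852), (20901, 21853), (20902, 22414), (20903, 19254), (20904, 19948), (20905, 19086), (20906, 19220), (20907, 19164), (20908, 19074), (20909, 19945), (20910, 22491), (20911, 19838), (20912, 19853), (20913, 19077), (20914, 22495), (20915, 22496), (20916, 21912), (20917, 21913),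 (20918, 21914), (20919, 19411), (20920, 19081), (20921, 19082), (20922, 22505), (20923, 22506), (20924, 22507), (20925, 22508), (20926, 19817), (20927, 21922)]
    ⟨e3 q20864 (flp_b L734008) q21801, e3 q20865 L725137 q19150, e3 q20866 L725151 q19224, e3 q20867 (flp_b L738442) q22128, e3 q20868 (flp_b L741724) q22419, e3 q20869 (flp_b L741734) q22420, e3 q20870 L725192 q19833, e3 q20871 L725204 q19887, e3 q20872 L725218 q19889, e3 q20873 L725230 q19927, e3 q20874 (flp_b L740447) q22299, e3 q20875 (flp_b L741547) q22401, e3 q20876 (flp_b L741767) q22423, e3 q20877 L725268 q19040, e3 q20878 L725280 q19042, e3 q20879 L725290 q19043, e3 q20880 (flp_b L735124) q21881, e3 q20881 L725313 q19822, e3 q20882 (flp_b L742248) q22464, e3 q20883 (flp_b L735141) q21882, e3 q20884 (flp_b L742260) q22465, e3 q20885 (flp_b L741559) q22402, e3 q20886 (flp_b L741799) q22427, e3 q20887 L725373 q19973, e3 q20888 L725385 q19975, e3 q20889 L725398 q19977, e3 q20890 (flp_b L740906) q22347, e3 q20891 (flp_b L741591) q22406, e3 q20892 (flp_b L741629)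 q22410, e3 q20893 (flp_b L735157) q21883, e3 q20894 (flp_b L735199) q21886, e3 q20895 (flp_b L741599) q22407, e3 q20896 (flp_b L734422) q21831, e3 q20897 (flp_b L734472) q21835, e3 q20898 (flp_b L740921) q22348, e3 q20899 (flp_b L741659) q22413, e3 q20900 (flp_b L734698) q21852, e3 q20901 (flp_b L734711) q21853, e3 q20902 (flp_b L741668) q22414, e3 q20903 L725530 q19254, e3 q20904 L725548 q19948, e3 q20905 L725559 q19086, e3 q20906 L725572 q19220, e3 q20907 L725593 q19164, e3 q20908 L725598 q19074, e3 q20909 L725611 q19945, e3 q20910 (flp_b L742524) q22491, e3 q20911 L725633 q19838, e3 q20912 L725647 q19853, e3 q20913 (flp_b L725657) q19077, e3 q20914 (flp_b L742582) q22495, e3 q20915 (flp_b L742596) q22496, e3 q20916 (flp_b L735572) q21912, e3 q20917 (flp_b L735583) q21913, e3 q20918 (flp_b L735595) q21914, e3 q20919 L725718 q19411, e3 q20920 L725722 q19081, e3 q20921 L725728 q19082, e3 q20922 (flp_b L742694) q22505, e3 q20923 (flp_b L742710) q22506, e3 q20924 (flp_b L742719) q22507, e3 q20925 (flp_b L742727) q22508, e3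 q20926 L725769 q19817, e3 q20927 (flp_b L735683) q21922, trivial⟩ (by decide +kernel)

theorem ce_b_327 : ∀ r, r < 64 → sm gb (Qf (20928 + r)) = Qf (tab Gen.b (20928 + r)) :=
  edges_tab (sm gb) Qf (tab Gen.b) 20928 [(20928, 21923), (20929, 21938), (20930, 22489), (20931, 21924), (20932, 21925), (20933, 21926), (20934, 19090), (20935, 19091), (20936, 21965), (20937, 22524), (20938, 22525), (20939, 21932), (20940, 21933), (20941, 21934), (20942, 19097), (20943, 19099), (20944, 19100), (20945, 21975), (20946, 21985), (20947, 22533), (20948, 19478), (20949, 21976), (20950, 22534), (20951, 21944), (20952, 21945), (20953, 21946), (20954, 21947), (20955, 19107), (20956, 19933), (20957, 21966), (20958, 21994), (20959, 19946), (20960, 21950), (20961, 21951), (20962, 21952), (20963, 19244), (20964, 19479), (20965, 21977), (20966, 22001), (20967, 21956), (20968, 21957), (20969, 21958), (20970, 22560), (20971, 19496), (20972, 19506), (20973, 21960), (20974, 21961), (20975, 19193), (20976, 19126), (20977, 19128), (20978, 19129), (20979,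 19256), (20980, 21939), (20981, 22564), (20982, 22565), (20983, 21962), (20984, 21963), (20985, 21964), (20986, 19798), (20987, 19806), (20988, 19136), (20989, 19137), (20990, 19138), (20991, 19139)]
    ⟨e3 q20928 (flp_b L735694) q21923, e3 q20929 (flp_b L735889) q21938, e3 q20930 (flp_b L742501) q22489, e3 q20931 (flp_b L735704) q21924, e3 q20932 (flp_b L735715) q21925, e3 q20933 (flp_b L735727) q21926, e3 q20934 L725846 q19090, e3 q20935 L725858 q19091, e3 q20936 (flp_b L736240) q21965, e3 q20937 (flp_b L742892) q22524, e3 q20938 (flp_b L742904) q22525, e3 q20939 (flp_b L735806) q21932, e3 q20940 (flp_b L735820) q21933, e3 q20941 (flp_b L735832) q21934, e3 q20942 L725932 q19097, e3 q20943 L725942 q19099, e3 q20944 L725950 q19100, e3 q20945 (flp_b L736370) q21975, e3 q20946 (flp_b L736516) q21985, e3 q20947 (flp_b L742996) q22533, e3 q20948 L725998 q19478, e3 q20949 (flp_b L736388) q21976, e3 q20950 (flp_b L743008) q22534, e3 q20951 (flp_b L735964) q21944, e3 q20952 (flp_b L735982) q21945, e3 q20953 (flp_b L735996) q21946,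 e3 q20954 (flp_b L736006) q21947, e3 q20955 L726064 q19107, e3 q20956 L726077 q19933, e3 q20957 (flp_b L736258) q21966, e3 q20958 (flp_b L736602) q21994, e3 q20959 L726115 q19946, e3 q20960 (flp_b L736041) q21950, e3 q20961 (flp_b L736055) q21951, e3 q20962 (flp_b L736069) q21952, e3 q20963 L726151 q19244, e3 q20964 L726167 q19479, e3 q20965 (flp_b L736402) q21977, e3 q20966 (flp_b L736686) q22001, e3 q20967 (flp_b L736127) q21956, e3 q20968 (flp_b L736142) q21957, e3 q20969 (flp_b L736154) q21958, e3 q20970 L743287 q22560, e3 q20971 L726238 q19496, e3 q20972 L726253 q19506, e3 q20973 (flp_b L736178) q21960, e3 q20974 (flp_b L736193) q21961, e3 q20975 L726289 q19193, e3 q20976 (flp_b L726293) q19126, e3 q20977 L726311 q19128, e3 q20978 L726323 q19129, e3 q20979 L726334 q19256, e3 q20980 (flp_b L735905) q21939, e3 q20981 (flp_b L743342) q22564, e3 q20982 (flp_b L743356) q22565, e3 q20983 (flp_b L736208) q21962, e3 q20984 (flp_b L736219) q21963, e3 q20985 (flp_b L736228) q21964, e3 q20986 L726394 q19798, e3 q20987 L726408 q19806,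 e3 q20988 L726422 q19136, e3 q20989 L726436 q19137, e3 q20990 L726446 q19138, e3 q20991 L726454 q19139, trivial⟩ (by decide +kernel)

theorem ce_b_328 : ∀ r, r < 64 → sm gb (Qf (20992 + r)) = Qf (tab Gen.b (20992 + r)) :=
  edges_tab (sm gb) Qf (tab Gen.b) 20992 [(20992, 22576), (20993, 19783), (20994, 22577), (20995, 22463), (20996, 22578), (20997, 22579), (20998, 22580), (20999, 21971), (21000, 21972), (21001, 21973), (21002, 21974), (21003, 21941), (21004, 21954), (21005, 19149), (21006, 19151), (21007, 19152), (21008, 19153), (21009, 19154), (21010, 19155), (21011, 22596), (21012, 22450), (21013, 22597), (21014, 22451), (21015, 22598), (21016, 22510), (21017, 22599), (21018, 22600), (21019, 22601), (21020, 22602), (21021, 21990), (21022, 21991), (21023, 21992), (21024, 22620), (21025, 19967), (21026, 19165), (21027, 19166), (21028, 19167), (21029, 19941), (21030, 22490), (21031, 22621), (21032, 22622), (21033, 22363), (21034, 21997), (21035, 21998), (21036, 21999), (21037, 22632), (21038, 19177), (21039, 19178), (21040,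 19179), (21041, 19180), (21042, 22633), (21043, 22634), (21044, 22635), (21045, 22563), (21046, 22364), (21047, 22361), (21048, 22007), (21049, 22008), (21050, 22644), (21051, 22010), (21052, 19185), (21053, 19190), (21054, 19191), (21055, 22647)]
    ⟨e3 q20992 (flp_b L743478) q22576, e3 q20993 L726471 q19783, e3 q20994 (flp_b L743495) q22577, e3 q20995 (flp_b L742242) q22463, e3 q20996 (flp_b L743509) q22578, e3 q20997 (flp_b L743521) q22579, e3 q20998 (flp_b L743529) q22580, e3 q20999 (flp_b L736320) q21971, e3 q21000 (flp_b L736336) q21972, e3 q21001 (flp_b L736350) q21973, e3 q21002 (flp_b L736362) q21974, e3 q21003 (flp_b L735929) q21941, e3 q21004 (flp_b L736096) q21954, e3 q21005 L726569 q19149, e3 q21006 L726576 q19151, e3 q21007 L726588 q19152, e3 q21008 L726600 q19153, e3 q21009 L726608 q19154, e3 q21010 L726616 q19155, e3 q21011 (flp_b L743678) q22596, e3 q21012 (flp_b L742080) q22450, e3 q21013 (flp_b L743687) q22597, e3 q21014 (flp_b L742095) q22451, e3 q21015 (flp_b L743696) q22598, e3 q21016 (flp_b L742752)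 q22510, e3 q21017 (flp_b L743706) q22599, e3 q21018 (flp_b L743718) q22600, e3 q21019 (flp_b L743726) q22601, e3 q21020 (flp_b L743732) q22602, e3 q21021 (flp_b L736570) q21990, e3 q21022 (flp_b L736580) q21991, e3 q21023 (flp_b L736590) q21992, e3 q21024 L743865 q22620, e3 q21025 L726727 q19967, e3 q21026 L726736 q19165, e3 q21027 L726747 q19166, e3 q21028 L726758 q19167, e3 q21029 L726769 q19941, e3 q21030 (flp_b L742512) q22490, e3 q21031 (flp_b L743871) q22621, e3 q21032 (flp_b L743881) q22622, e3 q21033 (flp_b L741089) q22363, e3 q21034 (flp_b L736637) q21997, e3 q21035 (flp_b L736652) q21998, e3 q21036 (flp_b L736663) q21999, e3 q21037 L743967 q22632, e3 q21038 L726849 q19177, e3 q21039 L726864 q19178, e3 q21040 L726875 q19179, e3 q21041 L726881 q19180, e3 q21042 (flp_b L743980) q22633, e3 q21043 (flp_b L743995) q22634, e3 q21044 (flp_b L744007) q22635, e3 q21045 (flp_b L743334) q22563, e3 q21046 (flp_b L741104) q22364, e3 q21047 (flp_b L741063) q22361, e3 q21048 (flp_b L736774) q22007, e3 q21049 (flp_b L736782) q22008,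 e3 q21050 L744074 q22644, e3 q21051 (flp_b L736802) q22010, e3 q21052 (flp_b L726966) q19185, e3 q21053 L726976 q19190, e3 q21054 L726990 q19191, e3 q21055 (flp_b L744104) q22647, trivial⟩ (by decide +kernel)

theorem ce_b_329 : ∀ r, r < 64 → sm gb (Qf (21056 + r)) = Qf (tab Gen.b (21056 + r)) :=
  edges_tab (sm gb) Qf (tab Gen.b) 21056 [(21056, 21959), (21057, 21802), (21058, 22014), (21059, 19515), (21060, 19924), (21061, 22015), (21062, 22016), (21063, 22654), (21064, 22018), (21065, 19202), (21066, 22020), (21067, 19545), (21068, 22022), (21069, 19205), (21070, 22661), (21071, 19990), (21072, 19544), (21073, 19219), (21074, 19218), (21075, 19784), (21076, 22570), (21077, 22566), (21078, 19225), (21079, 19227), (21080, 22452), (21081, 19862), (21082, 19466), (21083, 19861), (21084, 22360), (21085, 19531), (21086, 19239), (21087, 22670), (21088, 19412), (21089, 19245), (21090, 19246), (21091, 22553), (21092, 22673), (21093, 22674), (21094, 19253), (21095, 22004), (21096, 22677), (21097, 19816), (21098, 19434), (21099, 19815),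 (21100, 19465), (21101, 19860), (21102, 19271), (21103, 22046), (21104, 22683), (21105, 19596), (21106, 19597), (21107, 19608), (21108, 19284), (21109, 19285), (21110, 19583), (21111, 22687), (21112, 19584), (21113, 19650), (21114, 19315), (21115, 19659), (21116, 19660), (21117, 22144), (21118, 22145), (21119, 19665)]
    ⟨e3 q21056 L736172 q21959, e3 q21057 (flp_b L734032) q21802, e3 q21058 (flp_b L736855) q22014, e3 q21059 (flp_b L727039) q19515, e3 q21060 L727052 q19924, e3 q21061 (flp_b L736868) q22015, e3 q21062 (flp_b L736884) q22016, e3 q21063 L744161 q22654, e3 q21064 (flp_b L736909) q22018, e3 q21065 (flp_b L727084) q19202, e3 q21066 (flp_b L736932) q22020, e3 q21067 (flp_b L727108) q19545, e3 q21068 (flp_b L736954) q22022, e3 q21069 (flp_b L727115) q19205, e3 q21070 (flp_b L744235) q22661, e3 q21071 L727138 q19990, e3 q21072 (flp_b L727149) q19544, e3 q21073 L727153 q19219, e3 q21074 L727167 q19218, e3 q21075 L727182 q19784, e3 q21076 (flp_b L743413) q22570, e3 q21077 (flp_b L743367) q22566, e3 q21078 L727208 q19225,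 e3 q21079 L727217 q19227, e3 q21080 (flp_b L742109) q22452, e3 q21081 L727236 q19862, e3 q21082 L727252 q19466, e3 q21083 L727260 q19861, e3 q21084 (flp_b L741047) q22360, e3 q21085 L727282 q19531, e3 q21086 L727298 q19239, e3 q21087 (flp_b L744334) q22670, e3 q21088 L727324 q19412, e3 q21089 L727338 q19245, e3 q21090 L727351 q19246, e3 q21091 (flp_b L743218) q22553, e3 q21092 (flp_b L744372) q22673, e3 q21093 (flp_b L744386) q22674, e3 q21094 L727397 q19253, e3 q21095 (flp_b L736736) q22004, e3 q21096 (flp_b L744413) q22677, e3 q21097 L727435 q19816, e3 q21098 L727451 q19434, e3 q21099 L727458 q19815, e3 q21100 L727470 q19465, e3 q21101 L727482 q19860, e3 q21102 L727489 q19271, e3 q21103 (flp_b L737267) q22046, e3 q21104 (flp_b L744488) q22683, e3 q21105 L727528 q19596, e3 q21106 L727542 q19597, e3 q21107 L727556 q19608, e3 q21108 L727566 q19284, e3 q21109 L727580 q19285, e3 q21110 L727594 q19583, e3 q21111 (flp_b L744542) q22687, e3 q21112 L727614 q19584, e3 q21113 L727626 q19650, e3 q21114 L727638 q19315, e3 q21115 L727650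 q19659, e3 q21116 L727660 q19660, e3 q21117 (flp_b L738632) q22144, e3 q21118 (flp_b L738648) q22145, e3 q21119 L727692 q19665, trivial⟩ (by decide +kernel)

theorem ce_b_330 : ∀ r, r < 64 → sm gb (Qf (21120 + r)) = Qf (tab Gen.b (21120 + r)) :=
  edges_tab (sm gb) Qf (tab Gen.b) 21120 [(21120, 19301), (21121, 19302), (21122, 19303), (21123, 19739), (21124, 19740), (21125, 22097), (21126, 22694), (21127, 22695), (21128, 19679), (21129, 19680), (21130, 19681), (21131, 19308), (21132, 19313), (21133, 19314), (21134, 22102), (21135, 22704), (21136, 22705), (21137, 19693), (21138, 19321), (21139, 22103), (21140, 22105), (21141, 19690), (21142, 19741), (21143, 21805), (21144, 21822), (21145, 19727), (21146, 19728), (21147, 19731), (21148, 19732), (21149, 19734), (21150, 19750), (21151, 19877), (21152, 19910), (21153, 19340), (21154, 19341), (21155, 22717), (21156, 22718), (21157, 19760), (21158, 19901), (21159, 19345), (21160, 22723), (21161, 19911), (21162, 19348), (21163, 19987), (21164, 19353), (21165, 22724), (21166, 19963),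 (21167, 19356), (21168, 22025), (21169, 22021), (21170, 19383), (21171, 19384), (21172, 19392), (21173, 21814), (21174, 21817), (21175, 21829), (21176, 22399), (21177, 21823), (21178, 21830), (21179, 19376), (21180, 22734), (21181, 22735), (21182, 22121), (21183, 22122)]
    ⟨e3 q21120 L727704 q19301, e3 q21121 L727718 q19302, e3 q21122 L727730 q19303, e3 q21123 L727744 q19739, e3 q21124 L727759 q19740, e3 q21125 (flp_b L738004) q22097, e3 q21126 (flp_b L744622) q22694, e3 q21127 (flp_b L744636) q22695, e3 q21128 L727801 q19679, e3 q21129 L727811 q19680, e3 q21130 L727823 q19681, e3 q21131 L727829 q19308, e3 q21132 L727843 q19313, e3 q21133 L727854 q19314, e3 q21134 (flp_b L738080) q22102, e3 q21135 (flp_b L744729) q22704, e3 q21136 (flp_b L744741) q22705, e3 q21137 L727896 q19693, e3 q21138 L727906 q19321, e3 q21139 (flp_b L738095) q22103, e3 q21140 (flp_b L738126) q22105, e3 q21141 L727926 q19690, e3 q21142 L727938 q19741, e3 q21143 (flp_b L734073) q21805, e3 q21144 (flp_b L734302) q21822, e3 q21145 L727974 q19727, e3 q21146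 L727988 q19728, e3 q21147 L728002 q19731, e3 q21148 L728016 q19732, e3 q21149 L728030 q19734, e3 q21150 L728042 q19750, e3 q21151 L728054 q19877, e3 q21152 L728068 q19910, e3 q21153 L728080 q19340, e3 q21154 L728090 q19341, e3 q21155 (flp_b L744884) q22717, e3 q21156 (flp_b L744894) q22718, e3 q21157 L728120 q19760, e3 q21158 L728130 q19901, e3 q21159 L728143 q19345, e3 q21160 (flp_b L744939) q22723, e3 q21161 L728167 q19911, e3 q21162 L728179 q19348, e3 q21163 L728189 q19987, e3 q21164 L728200 q19353, e3 q21165 (flp_b L744950) q22724, e3 q21166 L728216 q19963, e3 q21167 L728228 q19356, e3 q21168 (flp_b L736989) q22025, e3 q21169 (flp_b L736948) q22021, e3 q21170 L728261 q19383, e3 q21171 L728275 q19384, e3 q21172 L728289 q19392, e3 q21173 (flp_b L734203) q21814, e3 q21174 (flp_b L734244) q21817, e3 q21175 (flp_b L734397) q21829, e3 q21176 (flp_b L741521) q22399, e3 q21177 (flp_b L734315) q21823, e3 q21178 (flp_b L734411) q21830, e3 q21179 (flp_b L728350) q19376, e3 q21180 (flp_b L745049) q22734, e3 q21181 (flp_b L745061)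 q22735, e3 q21182 (flp_b L738351) q22121, e3 q21183 (flp_b L738364) q22122, trivial⟩ (by decide +kernel)

theorem ce_b_331 : ∀ r, r < 64 → sm gb (Qf (21184 + r)) = Qf (tab Gen.b (21184 + r)) :=
  edges_tab (sm gb) Qf (tab Gen.b) 21184 [(21184, 22123), (21185, 19380), (21186, 19381), (21187, 22503), (21188, 21784), (21189, 22740), (21190, 22741), (21191, 19724), (21192, 22727), (21193, 19387), (21194, 19389), (21195, 19390), (21196, 21789), (21197, 22749), (21198, 21790), (21199, 22750), (21200, 22751), (21201, 19726), (21202, 22728), (21203, 19396), (21204, 21785), (21205, 21794), (21206, 22759), (21207, 19725), (21208, 19402), (21209, 21791), (21210, 21798), (21211, 22763), (21212, 19406), (21213, 19408), (21214, 22766), (21215, 19413), (21216, 22504), (21217, 22672), (21218, 22768), (21219, 19533), (21220, 19419), (21221, 19420), (21222, 19421), (21223, 22772), (21224, 22773), (21225, 22774), (21226, 19542), (21227, 19424), (21228, 22778), (21229, 19427), (21230, 22780), (21231, 19511), (21232, 19430), (21233, 19431), (21234,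 22466), (21235, 22782), (21236, 22783), (21237, 19814), (21238, 22681), (21239, 22679), (21240, 19818), (21241, 19819), (21242, 19438), (21243, 19439), (21244, 22792), (21245, 22793), (21246, 22794), (21247, 19825)]
    ⟨e3 q21184 (flp_b L738376) q22123, e3 q21185 L728410 q19380, e3 q21186 L728416 q19381, e3 q21187 (flp_b L742669) q22503, e3 q21188 (flp_b L733777) q21784, e3 q21189 (flp_b L745112) q22740, e3 q21190 (flp_b L745120) q22741, e3 q21191 L728472 q19724, e3 q21192 (flp_b L744977) q22727, e3 q21193 L728492 q19387, e3 q21194 L728500 q19389, e3 q21195 L728508 q19390, e3 q21196 (flp_b L733846) q21789, e3 q21197 (flp_b L745209) q22749, e3 q21198 (flp_b L733857) q21790, e3 q21199 (flp_b L745219) q22750, e3 q21200 (flp_b L745227) q22751, e3 q21201 L728569 q19726, e3 q21202 (flp_b L744991) q22728, e3 q21203 L728583 q19396, e3 q21204 (flp_b L733793) q21785, e3 q21205 (flp_b L733911) q21794, e3 q21206 (flp_b L745298) q22759, e3 q21207 L728627 q19725, e3 q21208 L728639 q19402, e3 q21209 (flp_b L733871) q21791, e3 q21210 (flp_b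 L733968) q21798, e3 q21211 (flp_b L745342) q22763, e3 q21212 L728674 q19406, e3 q21213 L728687 q19408, e3 q21214 (flp_b L745371) q22766, e3 q21215 L728713 q19413, e3 q21216 (flp_b L742681) q22504, e3 q21217 (flp_b L744357) q22672, e3 q21218 (flp_b L745396) q22768, e3 q21219 L728763 q19533, e3 q21220 L728773 q19419, e3 q21221 L728782 q19420, e3 q21222 L728793 q19421, e3 q21223 (flp_b L745437) q22772, e3 q21224 (flp_b L745444) q22773, e3 q21225 (flp_b L745452) q22774, e3 q21226 L728828 q19542, e3 q21227 L728838 q19424, e3 q21228 (flp_b L745488) q22778, e3 q21229 L728857 q19427, e3 q21230 (flp_b L745509) q22780, e3 q21231 L728884 q19511, e3 q21232 L728888 q19430, e3 q21233 L728900 q19431, e3 q21234 (flp_b L742274) q22466, e3 q21235 (flp_b L745532) q22782, e3 q21236 (flp_b L745544) q22783, e3 q21237 L728940 q19814, e3 q21238 (flp_b L744465) q22681, e3 q21239 (flp_b L744446) q22679, e3 q21240 L728968 q19818, e3 q21241 L728978 q19819, e3 q21242 L728987 q19438, e3 q21243 L728999 q19439, e3 q21244 (flp_b L745634) q22792, e3 q21245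 (flp_b L745643) q22793, e3 q21246 (flp_b L745655) q22794, e3 q21247 L729039 q19825, trivial⟩ (by decide +kernel)

theorem ce_b_332 : ∀ r, r < 64 → sm gb (Qf (21248 + r)) = Qf (tab Gen.b (21248 + r)) :=
  edges_tab (sm gb) Qf (tab Gen.b) 21248 [(21248, 19444), (21249, 19445), (21250, 19446), (21251, 19447), (21252, 22526), (21253, 22567), (21254, 22800), (21255, 22801), (21256, 22802), (21257, 22803), (21258, 19839), (21259, 19840), (21260, 19841), (21261, 19452), (21262, 22813), (21263, 19456), (21264, 19457), (21265, 19458), (21266, 22814), (21267, 19854), (21268, 19859), (21269, 22682), (21270, 22667), (21271, 22665), (21272, 19864), (21273, 19865), (21274, 19473), (21275, 19474), (21276, 19475), (21277, 22432), (21278, 22184), (21279, 22433), (21280, 22820), (21281, 22821), (21282, 22822), (21283, 19875), (21284, 19876), (21285, 19835), (21286, 22539), (21287, 22554), (21288, 19484), (21289, 19485), (21290, 19486), (21291, 19487), (21292, 19488), (21293, 19489), (21294, 19490), (21295, 22582), (21296, 22581), (21297, 22834),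 (21298, 22835), (21299, 22836), (21300, 22535), (21301, 22837), (21302, 22838), (21303, 22839), (21304, 22840), (21305, 19896), (21306, 19897), (21307, 19898), (21308, 22855), (21309, 19849), (21310, 19856), (21311, 22561)]
    ⟨e3 q21248 L729051 q19444, e3 q21249 L729058 q19445, e3 q21250 L729072 q19446, e3 q21251 L729080 q19447, e3 q21252 (flp_b L742918) q22526, e3 q21253 (flp_b L743379) q22567, e3 q21254 (flp_b L745722) q22800, e3 q21255 (flp_b L745731) q22801, e3 q21256 (flp_b L745745) q22802, e3 q21257 (flp_b L745755) q22803, e3 q21258 L729137 q19839, e3 q21259 L729147 q19840, e3 q21260 L729159 q19841, e3 q21261 L729165 q19452, e3 q21262 (flp_b L745833) q22813, e3 q21263 L729188 q19456, e3 q21264 L729204 q19457, e3 q21265 L729218 q19458, e3 q21266 (flp_b L745847) q22814, e3 q21267 L729239 q19854, e3 q21268 L729251 q19859, e3 q21269 (flp_b L744477) q22682, e3 q21270 (flp_b L744295) q22667, e3 q21271 (flp_b L744279) q22665, e3 q21272 L729280 q19864, e3 q21273 L729287 q19865, e3 q21274 L729295 q19473, e3 q21275 L729307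 q19474, e3 q21276 L729317 q19475, e3 q21277 (flp_b L741861) q22432, e3 q21278 (flp_b L739143) q22184, e3 q21279 (flp_b L741874) q22433, e3 q21280 (flp_b L745898) q22820, e3 q21281 (flp_b L745910) q22821, e3 q21282 (flp_b L745920) q22822, e3 q21283 L729376 q19875, e3 q21284 L729388 q19876, e3 q21285 L729396 q19835, e3 q21286 (flp_b L743070) q22539, e3 q21287 (flp_b L743234) q22554, e3 q21288 L729424 q19484, e3 q21289 L729431 q19485, e3 q21290 L729437 q19486, e3 q21291 L729447 q19487, e3 q21292 L729459 q19488, e3 q21293 L729469 q19489, e3 q21294 L729477 q19490, e3 q21295 (flp_b L743556) q22582, e3 q21296 (flp_b L743543) q22581, e3 q21297 (flp_b L746026) q22834, e3 q21298 (flp_b L746035) q22835, e3 q21299 (flp_b L746041) q22836, e3 q21300 (flp_b L743020) q22535, e3 q21301 (flp_b L746049) q22837, e3 q21302 (flp_b L746061) q22838, e3 q21303 (flp_b L746071) q22839, e3 q21304 (flp_b L746075) q22840, e3 q21305 L729544 q19896, e3 q21306 L729552 q19897, e3 q21307 L729560 q19898, e3 q21308 L746164 q22855, e3 q21309 L729570 q19849, e3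 q21310 L729583 q19856, e3 q21311 (flp_b L743304) q22561, trivial⟩ (by decide +kernel)

theorem ce_b_333 : ∀ r, r < 64 → sm gb (Qf (21312 + r)) = Qf (tab Gen.b (21312 + r)) :=
  edges_tab (sm gb) Qf (tab Gen.b) 21312 [(21312, 19500), (21313, 19501), (21314, 19502), (21315, 22858), (21316, 22859), (21317, 22650), (21318, 19850), (21319, 19857), (21320, 19512), (21321, 19513), (21322, 19514), (21323, 22781), (21324, 22864), (21325, 22865), (21326, 22642), (21327, 19920), (21328, 19858), (21329, 19523), (21330, 19524), (21331, 22869), (21332, 21955), (21333, 22355), (21334, 19532), (21335, 22185), (21336, 22434), (21337, 22669), (21338, 22872), (21339, 19538), (21340, 19539), (21341, 19540), (21342, 19541), (21343, 22877), (21344, 22878), (21345, 22879), (21346, 22659), (21347, 22657), (21348, 22076), (21349, 19550), (21350, 22071), (21351, 22073), (21352, 22081), (21353, 22070), (21354, 21707), (21355, 22074), (21356, 22048), (21357, 19560), (21358, 22080), (21359, 22049), (21360, 22078), (21361, 19564), (21362, 22055), (21363,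 19570), (21364, 22057), (21365, 19633), (21366, 19634), (21367, 19626), (21368, 19627), (21369, 22271), (21370, 22281), (21371, 22688), (21372, 22282), (21373, 22234), (21374, 19589), (21375, 22894)]
    ⟨e3 q21312 L729604 q19500, e3 q21313 L729615 q19501, e3 q21314 L729628 q19502, e3 q21315 (flp_b L746198) q22858, e3 q21316 (flp_b L746210) q22859, e3 q21317 L744139 q22650, e3 q21318 L729666 q19850, e3 q21319 L729679 q19857, e3 q21320 L729693 q19512, e3 q21321 L729704 q19513, e3 q21322 L729712 q19514, e3 q21323 (flp_b L745521) q22781, e3 q21324 (flp_b L746262) q22864, e3 q21325 (flp_b L746274) q22865, e3 q21326 L744066 q22642, e3 q21327 L729745 q19920, e3 q21328 L729755 q19858, e3 q21329 L729767 q19523, e3 q21330 L729781 q19524, e3 q21331 (flp_b L746301) q22869, e3 q21332 (flp_b L736114) q21955, e3 q21333 (flp_b L741003) q22355, e3 q21334 L729813 q19532, e3 q21335 (flp_b L739157) q22185, e3 q21336 (flp_b L741890) q22434, e3 q21337 (flp_b L744320) q22669, e3 q21338 (flp_b L746327) q22872, e3 q21339 L729846 q19538, e3 q21340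 L729852 q19539, e3 q21341 L729857 q19540, e3 q21342 L729863 q19541, e3 q21343 (flp_b L746364) q22877, e3 q21344 (flp_b L746371) q22878, e3 q21345 (flp_b L746378) q22879, e3 q21346 (flp_b L744212) q22659, e3 q21347 L744199 q22657, e3 q21348 (flp_b L737732) q22076, e3 q21349 L729906 q19550, e3 q21350 (flp_b L737668) q22071, e3 q21351 (flp_b L737691) q22073, e3 q21352 (flp_b L737786) q22081, e3 q21353 (flp_b L737655) q22070, e3 q21354 (flp_b L732587) q21707, e3 q21355 (flp_b L737702) q22074, e3 q21356 (flp_b L737305) q22048, e3 q21357 L729972 q19560, e3 q21358 (flp_b L737773) q22080, e3 q21359 (flp_b L737323) q22049, e3 q21360 (flp_b L737751) q22078, e3 q21361 L730001 q19564, e3 q21362 (flp_b L737415) q22055, e3 q21363 L730017 q19570, e3 q21364 L737461 q22057, e3 q21365 L730033 q19633, e3 q21366 L730047 q19634, e3 q21367 L730061 q19626, e3 q21368 L730075 q19627, e3 q21369 (flp_b L740165) q22271, e3 q21370 (flp_b L740267) q22281, e3 q21371 (flp_b L744556) q22688, e3 q21372 (flp_b L740279) q22282, e3 q21373 (flp_b L739748) q22234,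 e3 q21374 L730129 q19589, e3 q21375 (flp_b L746506) q22894, trivial⟩ (by decide +kernel)

theorem ce_b_334 : ∀ r, r < 64 → sm gb (Qf (21376 + r)) = Qf (tab Gen.b (21376 + r)) :=
  edges_tab (sm gb) Qf (tab Gen.b) 21376 [(21376, 19591), (21377, 22243), (21378, 22261), (21379, 22262), (21380, 22263), (21381, 22685), (21382, 22277), (21383, 19600), (21384, 22210), (21385, 21757), (21386, 22291), (21387, 22292), (21388, 22293), (21389, 22294), (21390, 22295), (21391, 22296), (21392, 19637), (21393, 22686), (21394, 22320), (21395, 22321), (21396, 22233), (21397, 19616), (21398, 22236), (21399, 21739), (21400, 22343), (21401, 22344), (21402, 22345), (21403, 22346), (21404, 22239), (21405, 21741), (21406, 22248), (21407, 22264), (21408, 22278), (21409, 22889), (21410, 22279), (21411, 19630), (21412, 22098), (21413, 22099), (21414, 22888), (21415, 22297), (21416, 22322), (21417, 22911), (21418, 22114), (21419, 22338), (21420, 22118), (21421, 19648), (21422, 19649), (21423, 22380), (21424, 22392), (21425, 22933), (21426, 22934), (21427,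 22690), (21428, 19652), (21429, 22940), (21430, 19655), (21431, 22112), (21432, 22115), (21433, 22274), (21434, 22691), (21435, 19663), (21436, 19664), (21437, 22946), (21438, 22947), (21439, 22693)]
    ⟨e3 q21376 L730150 q19591, e3 q21377 (flp_b L739862) q22243, e3 q21378 (flp_b L740053) q22261, e3 q21379 (flp_b L740064) q22262, e3 q21380 (flp_b L740074) q22263, e3 q21381 (flp_b L744516) q22685, e3 q21382 (flp_b L740220) q22277, e3 q21383 L730199 q19600, e3 q21384 (flp_b L739487) q22210, e3 q21385 (flp_b L733391) q21757, e3 q21386 (flp_b L740360) q22291, e3 q21387 (flp_b L740373) q22292, e3 q21388 (flp_b L740385) q22293, e3 q21389 (flp_b L740397) q22294, e3 q21390 (flp_b L740409) q22295, e3 q21391 (flp_b L740419) q22296, e3 q21392 L730264 q19637, e3 q21393 (flp_b L744530) q22686, e3 q21394 (flp_b L740658) q22320, e3 q21395 (flp_b L740668) q22321, e3 q21396 (flp_b L739736) q22233, e3 q21397 L730297 q19616, e3 q21398 (flp_b L739779) q22236, e3 q21399 (flp_b L733107) q21739, e3 q21400 (flp_b L740868) q22343, e3 q21401 (flp_b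 L740880) q22344, e3 q21402 (flp_b L740889) q22345, e3 q21403 (flp_b L740897) q22346, e3 q21404 (flp_b L739825) q22239, e3 q21405 (flp_b L733135) q21741, e3 q21406 (flp_b L739917) q22248, e3 q21407 (flp_b L740086) q22264, e3 q21408 (flp_b L740231) q22278, e3 q21409 (flp_b L746456) q22889, e3 q21410 (flp_b L740241) q22279, e3 q21411 L730391 q19630, e3 q21412 (flp_b L738022) q22098, e3 q21413 (flp_b L738034) q22099, e3 q21414 (flp_b L746442) q22888, e3 q21415 (flp_b L740429) q22297, e3 q21416 (flp_b L740677) q22322, e3 q21417 (flp_b L746630) q22911, e3 q21418 (flp_b L738255) q22114, e3 q21419 (flp_b L740821) q22338, e3 q21420 (flp_b L738316) q22118, e3 q21421 L730464 q19648, e3 q21422 L730470 q19649, e3 q21423 (flp_b L741280) q22380, e3 q21424 (flp_b L741436) q22392, e3 q21425 (flp_b L746783) q22933, e3 q21426 (flp_b L746791) q22934, e3 q21427 (flp_b L744576) q22690, e3 q21428 L730507 q19652, e3 q21429 (flp_b L746821) q22940, e3 q21430 L730523 q19655, e3 q21431 (flp_b L738229) q22112, e3 q21432 (flp_b L738271) q22115, e3 q21433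 (flp_b L740194) q22274, e3 q21434 (flp_b L744588) q22691, e3 q21435 L730556 q19663, e3 q21436 L730564 q19664, e3 q21437 (flp_b L746863) q22946, e3 q21438 (flp_b L746871) q22947, e3 q21439 (flp_b L744610) q22693, trivial⟩ (by decide +kernel)

theorem ce_b_335 : ∀ r, r < 64 → sm gb (Qf (21440 + r)) = Qf (tab Gen.b (21440 + r)) :=
  edges_tab (sm gb) Qf (tab Gen.b) 21440 [(21440, 22216), (21441, 22226), (21442, 19673), (21443, 19675), (21444, 19676), (21445, 19677), (21446, 22421), (21447, 22953), (21448, 22124), (21449, 22954), (21450, 22955), (21451, 22956), (21452, 22259), (21453, 22701), (21454, 22702), (21455, 22967), (21456, 19683), (21457, 22156), (21458, 19689), (21459, 22116), (21460, 19691), (21461, 22125), (21462, 22260), (21463, 22968), (21464, 22159), (21465, 22117), (21466, 19705), (21467, 22971), (21468, 22169), (21469, 19711), (21470, 19712), (21471, 19713), (21472, 22422), (21473, 22973), (21474, 22974), (21475, 22975), (21476, 19718), (21477, 22163), (21478, 22186), (21479, 22187), (21480, 22188), (21481, 22747),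 (21482, 22757), (21483, 22711), (21484, 21877), (21485, 21878), (21486, 22712), (21487, 19782), (21488, 22713), (21489, 22429), (21490, 22430), (21491, 22431), (21492, 19785), (21493, 22696), (21494, 22697), (21495, 19745), (21496, 19746), (21497, 19747), (21498, 22437), (21499, 22438), (21500, 22993), (21501, 22994), (21502, 19786), (21503, 19792)]
    ⟨e3 q21440 (flp_b L739553) q22216, e3 q21441 (flp_b L739655) q22226, e3 q21442 L730606 q19673, e3 q21443 L730614 q19675, e3 q21444 L730622 q19676, e3 q21445 L730628 q19677, e3 q21446 (flp_b L741745) q22421, e3 q21447 (flp_b L746911) q22953, e3 q21448 (flp_b L738387) q22124, e3 q21449 (flp_b L746917) q22954, e3 q21450 (flp_b L746925) q22955, e3 q21451 (flp_b L746929) q22956, e3 q21452 (flp_b L740025) q22259, e3 q21453 (flp_b L744703) q22701, e3 q21454 (flp_b L744713) q22702, e3 q21455 L746989 q22967, e3 q21456 L730694 q19683, e3 q21457 (flp_b L738776) q22156, e3 q21458 L730710 q19689, e3 q21459 (flp_b L738285) q22116, e3 q21460 L730722 q19691, e3 q21461 (flp_b L738397) q22125,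 e3 q21462 (flp_b L740037) q22260, e3 q21463 (flp_b L746995) q22968, e3 q21464 L738820 q22159, e3 q21465 (flp_b L738301) q22117, e3 q21466 L730763 q19705, e3 q21467 (flp_b L747014) q22971, e3 q21468 (flp_b L738944) q22169, e3 q21469 L730784 q19711, e3 q21470 L730790 q19712, e3 q21471 L730797 q19713, e3 q21472 (flp_b L741755) q22422, e3 q21473 (flp_b L747026) q22973, e3 q21474 (flp_b L747034) q22974, e3 q21475 (flp_b L747041) q22975, e3 q21476 L730826 q19718, e3 q21477 L738882 q22163, e3 q21478 (flp_b L739171) q22186, e3 q21479 (flp_b L739184) q22187, e3 q21480 (flp_b L739196) q22188, e3 q21481 (flp_b L745189) q22747, e3 q21482 (flp_b L745284) q22757, e3 q21483 (flp_b L744806) q22711, e3 q21484 (flp_b L735069) q21877, e3 q21485 (flp_b L735083) q21878, e3 q21486 (flp_b L744820) q22712, e3 q21487 L730903 q19782, e3 q21488 (flp_b L744834) q22713, e3 q21489 (flp_b L741817) q22429, e3 q21490 (flp_b L741830) q22430, e3 q21491 (flp_b L741846) q22431, e3 q21492 L730939 q19785, e3 q21493 (flp_b L744648) q22696, e3 q21494 (flp_b L744665)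 q22697, e3 q21495 L730959 q19745, e3 q21496 L730969 q19746, e3 q21497 L730977 q19747, e3 q21498 (flp_b L741920) q22437, e3 q21499 (flp_b L741935) q22438, e3 q21500 (flp_b L747164) q22993, e3 q21501 (flp_b L747176) q22994, e3 q21502 L731018 q19786, e3 q21503 L731026 q19792, trivial⟩ (by decide +kernel)

theorem ce_b_336 : ∀ r, r < 64 → sm gb (Qf (21504 + r)) = Qf (tab Gen.b (21504 + r)) :=
  edges_tab (sm gb) Qf (tab Gen.b) 21504 [(21504, 22714), (21505, 19755), (21506, 19756), (21507, 19757), (21508, 19758), (21509, 23002), (21510, 23003), (21511, 23004), (21512, 23005), (21513, 19801), (21514, 23011), (21515, 19764), (21516, 19765), (21517, 23012), (21518, 23013), (21519, 19787), (21520, 19770), (21521, 19771), (21522, 23015), (21523, 22439), (21524, 19775), (21525, 21806), (21526, 21807), (21527, 22394), (21528, 22398), (21529, 22986), (21530, 22584), (21531, 22663), (21532, 22990), (21533, 22999), (21534, 19790), (21535, 19791), (21536, 23025), (21537, 23000), (21538, 19878), (21539, 19879), (21540, 19799), (21541, 19800),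 (21542, 22574), (21543, 23029), (21544, 23030), (21545, 23034), (21546, 19902), (21547, 19807), (21548, 22575), (21549, 19891), (21550, 19915), (21551, 19811), (21552, 19812), (21553, 19813), (21554, 22586), (21555, 23037), (21556, 23038), (21557, 23039), (21558, 22787), (21559, 21929), (21560, 22680), (21561, 22664), (21562, 22516), (21563, 22791), (21564, 19823), (21565, 19824), (21566, 22468), (21567, 23049)]
    ⟨e3 q21504 (flp_b L744846) q22714, e3 q21505 L731044 q19755, e3 q21506 L731055 q19756, e3 q21507 L731065 q19757, e3 q21508 L731075 q19758, e3 q21509 (flp_b L747239) q23002, e3 q21510 (flp_b L747250) q23003, e3 q21511 (flp_b L747260) q23004, e3 q21512 (flp_b L747270) q23005, e3 q21513 L731102 q19801, e3 q21514 L747293 q23011, e3 q21515 L731112 q19764, e3 q21516 L731123 q19765, e3 q21517 (flp_b L747299) q23012, e3 q21518 (flp_b L747309) q23013, e3 q21519 L731148 q19787, e3 q21520 L731157 q19770, e3 q21521 L731165 q19771, e3 q21522 (flp_b L747324) q23015, e3 q21523 (flp_b L741951) q22439, e3 q21524 L731184 q19775,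 e3 q21525 (flp_b L734089) q21806, e3 q21526 (flp_b L734105) q21807, e3 q21527 (flp_b L741457) q22394, e3 q21528 (flp_b L741505) q22398, e3 q21529 (flp_b L747115) q22986, e3 q21530 (flp_b L743580) q22584, e3 q21531 (flp_b L744248) q22663, e3 q21532 (flp_b L747144) q22990, e3 q21533 (flp_b L747213) q22999, e3 q21534 L731265 q19790, e3 q21535 L731273 q19791, e3 q21536 (flp_b L747393) q23025, e3 q21537 (flp_b L747223) q23000, e3 q21538 L731299 q19878, e3 q21539 L731307 q19879, e3 q21540 L731313 q19799, e3 q21541 L731321 q19800, e3 q21542 (flp_b L743450) q22574, e3 q21543 (flp_b L747421) q23029, e3 q21544 (flp_b L747427) q23030, e3 q21545 L747449 q23034, e3 q21546 L731349 q19902, e3 q21547 L731358 q19807, e3 q21548 (flp_b L743464) q22575, e3 q21549 L731374 q19891, e3 q21550 L731382 q19915, e3 q21551 L731392 q19811, e3 q21552 L731398 q19812, e3 q21553 L731404 q19813, e3 q21554 (flp_b L743598) q22586, e3 q21555 (flp_b L747473) q23037, e3 q21556 (flp_b L747481) q23038, e3 q21557 (flp_b L747487) q23039, e3 q21558 (flp_b L745588) q22787,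 e3 q21559 (flp_b L735769) q21929, e3 q21560 (flp_b L744453) q22680, e3 q21561 (flp_b L744261) q22664, e3 q21562 (flp_b L742811) q22516, e3 q21563 (flp_b L745624) q22791, e3 q21564 L731477 q19823, e3 q21565 L731485 q19824, e3 q21566 (flp_b L742296) q22468, e3 q21567 (flp_b L747547) q23049, trivial⟩ (by decide +kernel)

theorem ce_b_337 : ∀ r, r < 64 → sm gb (Qf (21568 + r)) = Qf (tab Gen.b (21568 + r)) :=
  edges_tab (sm gb) Qf (tab Gen.b) 21568 [(21568, 22799), (21569, 21986), (21570, 22005), (21571, 22529), (21572, 19832), (21573, 19834), (21574, 19836), (21575, 19837), (21576, 22497), (21577, 22455), (21578, 23055), (21579, 22456), (21580, 23056), (21581, 22509), (21582, 22832), (21583, 23057), (21584, 23058), (21585, 22493), (21586, 22810), (21587, 22811), (21588, 23072), (21589, 22012), (21590, 19845), (21591, 23073), (21592, 19851), (21593, 19852), (21594, 22856), (21595, 22862), (21596, 23074), (21597, 22494), (21598, 21834), (21599, 22857), (21600, 22863), (21601, 22668), (21602, 22666), (21603, 22257), (21604, 22818),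 (21605, 22819), (21606, 19870), (21607, 19871), (21608, 19895), (21609, 23085), (21610, 23086), (21611, 19890), (21612, 22249), (21613, 22258), (21614, 22830), (21615, 23095), (21616, 22715), (21617, 23028), (21618, 19886), (21619, 19888), (21620, 19892), (21621, 19893), (21622, 19894), (21623, 22457), (21624, 23098), (21625, 22458), (21626, 23091), (21627, 22459), (21628, 23090), (21629, 23035), (21630, 23099), (21631, 23100)]
    ⟨e3 q21568 (flp_b L745710) q22799, e3 q21569 (flp_b L736534) q21986, e3 q21570 (flp_b L736752) q22005, e3 q21571 (flp_b L742960) q22529, e3 q21572 L731539 q19832, e3 q21573 L731546 q19834, e3 q21574 L731554 q19836, e3 q21575 L731562 q19837, e3 q21576 (flp_b L742609) q22497, e3 q21577 (flp_b L742145) q22455, e3 q21578 (flp_b L747589) q23055, e3 q21579 (flp_b L742158) q22456, e3 q21580 (flp_b L747598) q23056, e3 q21581 (flp_b L742736) q22509, e3 q21582 (flp_b L746006) q22832, e3 q21583 (flp_b L747604) q23057, e3 q21584 (flp_b L747614) q23058, e3 q21585 (flp_b L742554) q22493, e3 q21586 (flp_b L745807)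 q22810, e3 q21587 (flp_b L745817) q22811, e3 q21588 L747704 q23072, e3 q21589 (flp_b L736824) q22012, e3 q21590 L731664 q19845, e3 q21591 (flp_b L747710) q23073, e3 q21592 L731685 q19851, e3 q21593 L731693 q19852, e3 q21594 (flp_b L746172) q22856, e3 q21595 (flp_b L746237) q22862, e3 q21596 (flp_b L747722) q23074, e3 q21597 (flp_b L742568) q22494, e3 q21598 (flp_b L734462) q21834, e3 q21599 (flp_b L746185) q22857, e3 q21600 (flp_b L746251) q22863, e3 q21601 (flp_b L744309) q22668, e3 q21602 (flp_b L744285) q22666, e3 q21603 (flp_b L740004) q22257, e3 q21604 (flp_b L745885) q22818, e3 q21605 (flp_b L745892) q22819, e3 q21606 L731791 q19870, e3 q21607 L731803 q19871, e3 q21608 L731811 q19895, e3 q21609 (flp_b L747800) q23085, e3 q21610 (flp_b L747810) q23086, e3 q21611 L731833 q19890, e3 q21612 (flp_b L739928) q22249, e3 q21613 (flp_b L740015) q22258, e3 q21614 (flp_b L745988) q22830, e3 q21615 L747878 q23095, e3 q21616 (flp_b L744858) q22715, e3 q21617 (flp_b L747415) q23028, e3 q21618 L731879 q19886, e3 q21619 L731887 q19888,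 e3 q21620 L731899 q19892, e3 q21621 L731907 q19893, e3 q21622 L731915 q19894, e3 q21623 (flp_b L742170) q22457, e3 q21624 (flp_b L747896) q23098, e3 q21625 (flp_b L742182) q22458, e3 q21626 (flp_b L747852) q23091, e3 q21627 (flp_b L742196) q22459, e3 q21628 (flp_b L747842) q23090, e3 q21629 (flp_b L747455) q23035, e3 q21630 (flp_b L747906) q23099, e3 q21631 (flp_b L747914) q23100, trivial⟩ (by decide +kernel)

theorem ce_b_338 : ∀ r, r < 64 → sm gb (Qf (21632 + r)) = Qf (tab Gen.b (21632 + r)) :=
  edges_tab (sm gb) Qf (tab Gen.b) 21632 [(21632, 23112), (21633, 23087), (21634, 21893), (21635, 22852), (21636, 22853), (21637, 23117), (21638, 19899), (21639, 22029), (21640, 22722), (21641, 19905), (21642, 19906), (21643, 23120), (21644, 19978), (21645, 19976), (21646, 22250), (21647, 22716), (21648, 19916), (21649, 19917), (21650, 22646), (21651, 23036), (21652, 23125), (21653, 23127), (21654, 21894), (21655, 19925), (21656, 19926), (21657, 23131), (21658, 19974), (21659, 21843), (21660, 19934), (21661, 19935), (21662, 22546),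 (21663, 23133), (21664, 19984), (21665, 19942), (21666, 19943), (21667, 19944), (21668, 22623), (21669, 23137), (21670, 23138), (21671, 23140), (21672, 22492), (21673, 22549), (21674, 19949), (21675, 22488), (21676, 19955), (21677, 22428), (21678, 22030), (21679, 22026), (21680, 19979), (21681, 19980), (21682, 22474), (21683, 23124), (21684, 22475), (21685, 23123), (21686, 22476), (21687, 23145), (21688, 23136), (21689, 23146), (21690, 19981), (21691, 22656), (21692, 19986), (21693, 23153), (21694, 19991), (21695, 22660)]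
    ⟨e3 q21632 L747976 q23112, e3 q21633 (flp_b L747820) q23087, e3 q21634 (flp_b L735301) q21893, e3 q21635 (flp_b L746148) q22852, e3 q21636 (flp_b L746156) q22853, e3 q21637 L747996 q23117, e3 q21638 (flp_b L732001) q19899, e3 q21639 (flp_b L737032) q22029, e3 q21640 (flp_b L744926) q22722, e3 q21641 L732024 q19905, e3 q21642 L732032 q19906, e3 q21643 (flp_b L748012) q23120, e3 q21644 L732051 q19978, e3 q21645 L732062 q19976, e3 q21646 (flp_b L739940) q22250, e3 q21647 (flp_b L744872) q22716, e3 q21648 L732083 q19916, e3 q21649 L732091 q19917, e3 q21650 (flp_b L744098) q22646, e3 q21651 (flp_b L747465) q23036, e3 q21652 (flp_b L748054) q23125, e3 q21653 (flp_b L748070) q23127, e3 q21654 (flp_b L735317) q21894, e3 q21655 L732135 q19925, e3 q21656 L732142 q19926, e3 q21657 (flp_b L748100) q23131, e3 q21658 L732159 q19974, e3 q21659 (flp_b L734579) q21843, e3 q21660 L732177 q19934, e3 q21661 L732191 q19935, e3 q21662 (flp_b L743136) q22546, e3 q21663 (flp_b L748116) q23133, e3 q21664 L732224 q19984, e3 q21665 L732234 q19942,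 e3 q21666 L732241 q19943, e3 q21667 L732250 q19944, e3 q21668 (flp_b L743889) q22623, e3 q21669 (flp_b L748153) q23137, e3 q21670 (flp_b L748158) q23138, e3 q21671 (flp_b L748170) q23140, e3 q21672 (flp_b L742539) q22492, e3 q21673 (flp_b L743176) q22549, e3 q21674 L732286 q19949, e3 q21675 (flp_b L742488) q22488, e3 q21676 L732296 q19955, e3 q21677 (flp_b L741805) q22428, e3 q21678 (flp_b L737048) q22030, e3 q21679 (flp_b L736997) q22026, e3 q21680 L732333 q19979, e3 q21681 L732344 q19980, e3 q21682 (flp_b L742352) q22474, e3 q21683 (flp_b L748047) q23124, e3 q21684 (flp_b L742364) q22475, e3 q21685 (flp_b L748037) q23123, e3 q21686 (flp_b L742378) q22476, e3 q21687 (flp_b L748197) q23145, e3 q21688 (flp_b L748144) q23136, e3 q21689 (flp_b L748205) q23146, e3 q21690 (flp_b L732400) q19981, e3 q21691 (flp_b L744189) q22656, e3 q21692 L732421 q19986, e3 q21693 (flp_b L748255) q23153, e3 q21694 L732435 q19991, e3 q21695 (flp_b L744231) q22660, trivial⟩ (by decide +kernel)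

theorem ce_b_339 : ∀ r, r < 64 → sm gb (Qf (21696 + r)) = Qf (tab Gen.b (21696 + r)) :=
  edges_tab (sm gb) Qf (tab Gen.b) 21696 [(21696, 19992), (21697, 23155), (21698, 21908), (21699, 21824), (21700, 19998), (21701, 21839), (21702, 21702), (21703, 20392), (21704, 20384), (21705, 20436), (21706, 20398), (21707, 21354), (21708, 20435), (21709, 20446), (21710, 20447), (21711, 23160), (21712, 20025), (21713, 20498), (21714, 20499), (21715, 20500), (21716, 20505), (21717, 20506), (21718, 20512), (21719, 20474), (21720, 20515), (21721, 20516), (21722, 20677), (21723, 20678), (21724, 20679), (21725, 20523), (21726, 20524), (21727, 20475), (21728, 20480), (21729, 20463), (21730, 20045), (21731, 20046), (21732, 20047), (21733, 23173), (21734, 23174), (21735, 20528), (21736, 20529), (21737, 20508), (21738, 20053), (21739, 21399), (21740, 20540), (21741, 21405), (21742, 20066), (21743, 20067), (21744, 20070), (21745, 23180), (21746, 20482), (21747, 20650), (21748, 20651), (21749, 20659), (21750, 20660), (21751, 20668), (21752, 20669),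 (21753, 20670), (21754, 20674), (21755, 20675), (21756, 20685), (21757, 21385), (21758, 20699), (21759, 20700)]
    ⟨e3 q21696 L732450 q19992, e3 q21697 (flp_b L748274) q23155, e3 q21698 (flp_b L735517) q21908, e3 q21699 (flp_b L734330) q21824, e3 q21700 L732472 q19998, e3 q21701 (flp_b L734537) q21839, e3 q21702 L732486 q21702, e3 q21703 L732504 q20392, e3 q21704 L732522 q20384, e3 q21705 L732542 q20436, e3 q21706 L732562 q20398, e3 q21707 L732587 q21354, e3 q21708 L732594 q20435, e3 q21709 L732611 q20446, e3 q21710 L732631 q20447, e3 q21711 L748330 q23160, e3 q21712 (flp_b L732663) q20025, e3 q21713 L732684 q20498, e3 q21714 L732702 q20499, e3 q21715 L732718 q20500, e3 q21716 L732736 q20505, e3 q21717 L732751 q20506, e3 q21718 L732767 q20512, e3 q21719 L732782 q20474, e3 q21720 L732800 q20515, e3 q21721 L732816 q20516, e3 q21722 L732834 q20677, e3 q21723 L732852 q20678, e3 q21724 L732868 q20679, e3 q21725 L732886 q20523, e3 q21726 L732900 q20524, e3 q21727 L732910 q20475, e3 q21728 L732926 q20480, e3 q21729 L732944 q20463,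 e3 q21730 L732962 q20045, e3 q21731 L732979 q20046, e3 q21732 L732992 q20047, e3 q21733 (flp_b L748551) q23173, e3 q21734 (flp_b L748568) q23174, e3 q21735 L733039 q20528, e3 q21736 L733049 q20529, e3 q21737 L733063 q20508, e3 q21738 L733081 q20053, e3 q21739 L733107 q21399, e3 q21740 L733115 q20540, e3 q21741 L733135 q21405, e3 q21742 L733142 q20066, e3 q21743 L733160 q20067, e3 q21744 L733178 q20070, e3 q21745 (flp_b L748663) q23180, e3 q21746 L733214 q20482, e3 q21747 L733234 q20650, e3 q21748 L733252 q20651, e3 q21749 L733270 q20659, e3 q21750 L733288 q20660, e3 q21751 L733302 q20668, e3 q21752 L733317 q20669, e3 q21753 L733331 q20670, e3 q21754 L733346 q20674, e3 q21755 L733360 q20675, e3 q21756 L733377 q20685, e3 q21757 L733391 q21385, e3 q21758 L733409 q20699, e3 q21759 L733427 q20700, trivial⟩ (by decide +kernel)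

theorem ce_b_340 : ∀ r, r < 64 → sm gb (Qf (21760 + r)) = Qf (tab Gen.b (21760 + r)) :=
  edges_tab (sm gb) Qf (tab Gen.b) 21760 [(21760, 20701), (21761, 20702), (21762, 20716), (21763, 20717), (21764, 20718), (21765, 23198), (21766, 20467), (21767, 20727), (21768, 20728), (21769, 20099), (21770, 20730), (21771, 23200), (21772, 20732), (21773, 20103), (21774, 20775), (21775, 20776), (21776, 20108), (21777, 23205), (21778, 23206), (21779, 20779), (21780, 20780), (21781, 20781), (21782, 20782), (21783, 20783), (21784, 21188), (21785, 21204), (21786, 20784), (21787, 20785), (21788, 20786), (21789, 21196), (21790, 21198), (21791, 21209), (21792, 20787), (21793, 20788), (21794, 21205), (21795, 20490), (21796, 20789), (21797, 20790), (21798, 21210), (21799, 20791), (21800, 20792), (21801, 20864), (21802, 21057), (21803, 20796), (21804, 20797), (21805, 21143), (21806, 21525), (21807, 21526), (21808, 20777), (21809, 20800), (21810, 20801), (21811, 20139), (21812, 20141), (21813, 20142), (21814, 21173), (21815, 23241), (21816, 23242),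 (21817, 21174), (21818, 23243), (21819, 23244), (21820, 20809), (21821, 20810), (21822, 21144), (21823, 21177)]
    ⟨e3 q21760 L733443 q20701, e3 q21761 L733455 q20702, e3 q21762 L733465 q20716, e3 q21763 L733481 q20717, e3 q21764 L733493 q20718, e3 q21765 L748929 q23198, e3 q21766 L733519 q20467, e3 q21767 L733537 q20727, e3 q21768 L733551 q20728, e3 q21769 (flp_b L733563) q20099, e3 q21770 L733583 q20730, e3 q21771 L748964 q23200, e3 q21772 L733611 q20732, e3 q21773 (flp_b L733618) q20103, e3 q21774 L733637 q20775, e3 q21775 L733653 q20776, e3 q21776 (flp_b L733664) q20108, e3 q21777 (flp_b L749044) q23205, e3 q21778 (flp_b L749062) q23206, e3 q21779 L733706 q20779, e3 q21780 L733719 q20780, e3 q21781 L733731 q20781, e3 q21782 L733744 q20782, e3 q21783 L733762 q20783, e3 q21784 L733777 q21188, e3 q21785 L733793 q21204, e3 q21786 L733808 q20784, e3 q21787 L733822 q20785, e3 q21788 L733832 q20786, e3 q21789 L733846 q21196, e3 q21790 L733857 q21198, e3 q21791 L733871 q21209, e3 q21792 L733885 q20787, e3 q21793 L733899 q20788,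 e3 q21794 L733911 q21205, e3 q21795 L733926 q20490, e3 q21796 L733940 q20789, e3 q21797 L733953 q20790, e3 q21798 L733968 q21210, e3 q21799 L733981 q20791, e3 q21800 L733995 q20792, e3 q21801 L734008 q20864, e3 q21802 L734032 q21057, e3 q21803 L734040 q20796, e3 q21804 L734058 q20797, e3 q21805 L734073 q21143, e3 q21806 L734089 q21525, e3 q21807 L734105 q21526, e3 q21808 L734119 q20777, e3 q21809 L734133 q20800, e3 q21810 L734145 q20801, e3 q21811 L734155 q20139, e3 q21812 L734171 q20141, e3 q21813 L734187 q20142, e3 q21814 L734203 q21173, e3 q21815 (flp_b L749576) q23241, e3 q21816 (flp_b L749594) q23242, e3 q21817 L734244 q21174, e3 q21818 (flp_b L749612) q23243, e3 q21819 (flp_b L749630) q23244, e3 q21820 L734280 q20809, e3 q21821 L734292 q20810, e3 q21822 L734302 q21144, e3 q21823 L734315 q21177, trivial⟩ (by decide +kernel)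

theorem ce_b_341 : ∀ r, r < 64 → sm gb (Qf (21824 + r)) = Qf (tab Gen.b (21824 + r)) :=
  edges_tab (sm gb) Qf (tab Gen.b) 21824 [(21824, 21699), (21825, 20778), (21826, 20811), (21827, 20812), (21828, 20154), (21829, 21175), (21830, 21178), (21831, 20896), (21832, 20816), (21833, 23266), (21834, 21598), (21835, 20897), (21836, 20160), (21837, 20820), (21838, 20821), (21839, 21701), (21840, 23270), (21841, 20825), (21842, 20165), (21843, 21659), (21844, 20171), (21845, 20172), (21846, 20173), (21847, 20174), (21848, 23273), (21849, 23274), (21850, 23275), (21851, 23276), (21852, 20900), (21853, 20901), (21854, 20207), (21855, 20208), (21856, 20212), (21857, 20213), (21858, 20214), (21859, 20859), (21860, 20220), (21861, 20221), (21862, 20854), (21863, 20860), (21864, 20222), (21865, 20223), (21866, 20849), (21867, 20857), (21868, 20862), (21869, 20227), (21870, 20228), (21871, 20861), (21872, 20863), (21873, 20232), (21874, 20233), (21875, 20239), (21876, 20839), (21877, 21484), (21878, 21485), (21879, 23282), (21880, 23283),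 (21881, 20880), (21882, 20883), (21883, 20893), (21884, 20840), (21885, 23284), (21886, 20894), (21887, 20841)]
    ⟨e3 q21824 L734330 q21699, e3 q21825 L734343 q20778, e3 q21826 L734356 q20811, e3 q21827 L734366 q20812, e3 q21828 L734379 q20154, e3 q21829 L734397 q21175, e3 q21830 L734411 q21178, e3 q21831 L734422 q20896, e3 q21832 L734434 q20816, e3 q21833 L749902 q23266, e3 q21834 L734462 q21598, e3 q21835 L734472 q20897, e3 q21836 L734488 q20160, e3 q21837 L734505 q20820, e3 q21838 L734520 q20821, e3 q21839 L734537 q21701, e3 q21840 L749957 q23270, e3 q21841 L734554 q20825, e3 q21842 (flp_b L734561) q20165, e3 q21843 L734579 q21659, e3 q21844 L734594 q20171, e3 q21845 L734608 q20172, e3 q21846 L734623 q20173, e3 q21847 L734639 q20174, e3 q21848 (flp_b L750001) q23273, e3 q21849 (flp_b L750015) q23274, e3 q21850 (flp_b L750028) q23275, e3 q21851 (flp_b L750042) q23276, e3 q21852 L734698 q20900, e3 q21853 L734711 q20901, e3 q21854 L734721 q20207, e3 q21855 L734739 q20208, e3 q21856 L734755 q20212, e3 q21857 L734771 q20213,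 e3 q21858 L734787 q20214, e3 q21859 L734811 q20859, e3 q21860 L734818 q20220, e3 q21861 L734832 q20221, e3 q21862 L734845 q20854, e3 q21863 L734861 q20860, e3 q21864 L734874 q20222, e3 q21865 L734888 q20223, e3 q21866 L734900 q20849, e3 q21867 L734917 q20857, e3 q21868 L734931 q20862, e3 q21869 L734945 q20227, e3 q21870 L734963 q20228, e3 q21871 L734973 q20861, e3 q21872 L734988 q20863, e3 q21873 L735003 q20232, e3 q21874 L735019 q20233, e3 q21875 L735037 q20239, e3 q21876 L735052 q20839, e3 q21877 L735069 q21484, e3 q21878 L735083 q21485, e3 q21879 (flp_b L750119) q23282, e3 q21880 (flp_b L750137) q23283, e3 q21881 L735124 q20880, e3 q21882 L735141 q20883, e3 q21883 L735157 q20893, e3 q21884 L735173 q20840, e3 q21885 (flp_b L750155) q23284, e3 q21886 L735199 q20894, e3 q21887 L735216 q20841, trivial⟩ (by decide +kernel)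

theorem ce_b_342 : ∀ r, r < 64 → sm gb (Qf (21888 + r)) = Qf (tab Gen.b (21888 + r)) :=
  edges_tab (sm gb) Qf (tab Gen.b) 21888 [(21888, 20844), (21889, 23287), (21890, 23288), (21891, 23289), (21892, 23292), (21893, 21634), (21894, 21654), (21895, 20519), (21896, 20768), (21897, 23296), (21898, 23297), (21899, 20544), (21900, 20771), (21901, 23299), (21902, 20770), (21903, 20772), (21904, 20545), (21905, 20774), (21906, 23300), (21907, 20773), (21908, 21698), (21909, 20243), (21910, 23325), (21911, 23326), (21912, 20916), (21913, 20917), (21914, 20918), (21915, 20636), (21916, 20247), (21917, 20248), (21918, 23245), (21919, 23221), (21920, 23336), (21921, 23337), (21922, 20927), (21923, 20928), (21924, 20931), (21925, 20932), (21926, 20933), (21927, 20255), (21928, 20256), (21929, 21559), (21930, 23347), (21931, 23348), (21932, 20939), (21933, 20940), (21934, 20941), (21935, 20262), (21936, 20264), (21937, 20265), (21938, 20929), (21939, 20980), (21940, 23355), (21941, 21003), (21942, 23356), (21943, 23357), (21944, 20951),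 (21945, 20952), (21946, 20953), (21947, 20954), (21948, 20270), (21949, 23368), (21950, 20960), (21951, 20961)]
    ⟨e3 q21888 L735232 q20844, e3 q21889 (flp_b L750203) q23287, e3 q21890 (flp_b L750220) q23288, e3 q21891 (flp_b L750234) q23289, e3 q21892 (flp_b L750279) q23292, e3 q21893 L735301 q21634, e3 q21894 L735317 q21654, e3 q21895 L735333 q20519, e3 q21896 L735351 q20768, e3 q21897 (flp_b L750339) q23296, e3 q21898 (flp_b L750357) q23297, e3 q21899 L735387 q20544, e3 q21900 L735403 q20771, e3 q21901 (flp_b L750383) q23299, e3 q21902 L735429 q20770, e3 q21903 L735444 q20772, e3 q21904 L735460 q20545, e3 q21905 L735477 q20774, e3 q21906 (flp_b L750401) q23300, e3 q21907 L735503 q20773, e3 q21908 L735517 q21698, e3 q21909 (flp_b L735530) q20243, e3 q21910 (flp_b L750772) q23325, e3 q21911 (flp_b L750790) q23326, e3 q21912 L735572 q20916, e3 q21913 L735583 q20917, e3 q21914 L735595 q20918, e3 q21915 L735616 q20636, e3 q21916 L735620 q20247, e3 q21917 L735630 q20248, e3 q21918 (flp_b L749648) q23245, e3 q21919 (flp_b L749288)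 q23221, e3 q21920 (flp_b L750935) q23336, e3 q21921 (flp_b L750945) q23337, e3 q21922 L735683 q20927, e3 q21923 L735694 q20928, e3 q21924 L735704 q20931, e3 q21925 L735715 q20932, e3 q21926 L735727 q20933, e3 q21927 L735740 q20255, e3 q21928 L735756 q20256, e3 q21929 L735769 q21559, e3 q21930 (flp_b L751063) q23347, e3 q21931 (flp_b L751079) q23348, e3 q21932 L735806 q20939, e3 q21933 L735820 q20940, e3 q21934 L735832 q20941, e3 q21935 L735844 q20262, e3 q21936 L735861 q20264, e3 q21937 L735875 q20265, e3 q21938 L735889 q20929, e3 q21939 L735905 q20980, e3 q21940 (flp_b L751169) q23355, e3 q21941 L735929 q21003, e3 q21942 (flp_b L751186) q23356, e3 q21943 (flp_b L751202) q23357, e3 q21944 L735964 q20951, e3 q21945 L735982 q20952, e3 q21946 L735996 q20953, e3 q21947 L736006 q20954, e3 q21948 L736016 q20270, e3 q21949 (flp_b L751334) q23368, e3 q21950 L736041 q20960, e3 q21951 L736055 q20961, trivial⟩ (by decide +kernel)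

theorem ce_b_343 : ∀ r, r < 64 → sm gb (Qf (21952 + r)) = Qf (tab Gen.b (21952 + r)) :=
  edges_tab (sm gb) Qf (tab Gen.b) 21952 [(21952, 20962), (21953, 20277), (21954, 21004), (21955, 21332), (21956, 20967), (21957, 20968), (21958, 20969), (21959, 21056), (21960, 20973), (21961, 20974), (21962, 20983), (21963, 20984), (21964, 20985), (21965, 20936), (21966, 20957), (21967, 20294), (21968, 20295), (21969, 23385), (21970, 23386), (21971, 20999), (21972, 21000), (21973, 21001), (21974, 21002), (21975, 20945), (21976, 20949), (21977, 20965), (21978, 20305), (21979, 20306), (21980, 20308), (21981, 20309), (21982, 20310), (21983, 23396), (21984, 23397), (21985, 20946), (21986, 21569), (21987, 23398), (21988, 23399), (21989, 23400), (21990, 21021), (21991, 21022), (21992, 21023), (21993, 23413), (21994, 20958), (21995, 20317), (21996, 23415), (21997, 21034), (21998, 21035), (21999, 21036), (22000, 23421), (22001, 20966), (22002, 20328), (22003, 20329), (22004, 21095), (22005, 21570), (22006, 23422), (22007, 21048), (22008, 21049),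 (22009, 23427), (22010, 21051), (22011, 20333), (22012, 21589), (22013, 20817), (22014, 21058), (22015, 21061)]
    ⟨e3 q21952 L736069 q20962, e3 q21953 L736081 q20277, e3 q21954 L736096 q21004, e3 q21955 L736114 q21332, e3 q21956 L736127 q20967, e3 q21957 L736142 q20968, e3 q21958 L736154 q20969, e3 q21959 (flp_b L736172) q21056, e3 q21960 L736178 q20973, e3 q21961 L736193 q20974, e3 q21962 L736208 q20983, e3 q21963 L736219 q20984, e3 q21964 L736228 q20985, e3 q21965 L736240 q20936, e3 q21966 L736258 q20957, e3 q21967 L736272 q20294, e3 q21968 L736286 q20295, e3 q21969 (flp_b L751569) q23385, e3 q21970 (flp_b L751581) q23386, e3 q21971 L736320 q20999, e3 q21972 L736336 q21000, e3 q21973 L736350 q21001, e3 q21974 L736362 q21002, e3 q21975 L736370 q20945, e3 q21976 L736388 q20949, e3 q21977 L736402 q20965, e3 q21978 L736416 q20305, e3 q21979 L736432 q20306, e3 q21980 L736450 q20308, e3 q21981 L736466 q20309, e3 q21982 L736476 q20310, e3 q21983 (flp_b L751705) q23396, e3 q21984 (flp_b L751721) q23397, e3 q21985 L736516 q20946,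 e3 q21986 L736534 q21569, e3 q21987 (flp_b L751737) q23398, e3 q21988 (flp_b L751753) q23399, e3 q21989 (flp_b L751759) q23400, e3 q21990 L736570 q21021, e3 q21991 L736580 q21022, e3 q21992 L736590 q21023, e3 q21993 L751887 q23413, e3 q21994 L736602 q20958, e3 q21995 L736615 q20317, e3 q21996 (flp_b L751914) q23415, e3 q21997 L736637 q21034, e3 q21998 L736652 q21035, e3 q21999 L736663 q21036, e3 q22000 L751989 q23421, e3 q22001 L736686 q20966, e3 q22002 L736702 q20328, e3 q22003 L736720 q20329, e3 q22004 L736736 q21095, e3 q22005 L736752 q21570, e3 q22006 (flp_b L752010) q23422, e3 q22007 L736774 q21048, e3 q22008 L736782 q21049, e3 q22009 L752074 q23427, e3 q22010 L736802 q21051, e3 q22011 (flp_b L736806) q20333, e3 q22012 L736824 q21589, e3 q22013 L736841 q20817, e3 q22014 L736855 q21058, e3 q22015 L736868 q21061, trivial⟩ (by decide +kernel)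

theorem ce_b_344 : ∀ r, r < 64 → sm gb (Qf (22016 + r)) = Qf (tab Gen.b (22016 + r)) :=
  edges_tab (sm gb) Qf (tab Gen.b) 22016 [(22016, 21062), (22017, 23431), (22018, 21064), (22019, 20345), (22020, 21066), (22021, 21169), (22022, 21068), (22023, 20348), (22024, 23436), (22025, 21168), (22026, 21679), (22027, 20355), (22028, 23438), (22029, 21639), (22030, 21678), (22031, 20363), (22032, 20364), (22033, 20365), (22034, 20366), (22035, 23442), (22036, 23443), (22037, 23444), (22038, 23445), (22039, 20369), (22040, 23441), (22041, 20371), (22042, 20824), (22043, 20383), (22044, 20414), (22045, 20443), (22046, 21103), (22047, 20409), (22048, 21356), (22049, 21359), (22050, 20390), (22051, 23453), (22052, 20413), (22053, 23158), (22054, 20396), (22055, 21362), (22056, 20422), (22057, 21364), (22058, 20406), (22059, 23454), (22060, 20534), (22061, 20420), (22062, 20412), (22063, 20416), (22064, 23457), (22065, 23455), (22066, 20440), (22067, 20421), (22068, 23456), (22069, 23461), (22070, 21353), (22071, 21350), (22072, 20426),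 (22073, 21351), (22074, 21355), (22075, 20433), (22076, 21348), (22077, 23464), (22078, 21360), (22079, 23463)]
    ⟨e3 q22016 L736884 q21062, e3 q22017 L752125 q23431, e3 q22018 L736909 q21064, e3 q22019 (flp_b L736916) q20345, e3 q22020 L736932 q21066, e3 q22021 L736948 q21169, e3 q22022 L736954 q21068, e3 q22023 (flp_b L736959) q20348, e3 q22024 (flp_b L752196) q23436, e3 q22025 L736989 q21168, e3 q22026 L736997 q21679, e3 q22027 L737012 q20355, e3 q22028 (flp_b L752214) q23438, e3 q22029 L737032 q21639, e3 q22030 L737048 q21678, e3 q22031 L737065 q20363, e3 q22032 L737078 q20364, e3 q22033 L737090 q20365, e3 q22034 L737103 q20366, e3 q22035 (flp_b L752267) q23442, e3 q22036 (flp_b L752281) q23443, e3 q22037 (flp_b L752295) q23444, e3 q22038 (flp_b L752310) q23445, e3 q22039 L737160 q20369, e3 q22040 (flp_b L752252) q23441, e3 q22041 L737183 q20371, e3 q22042 L737196 q20824, e3 q22043 L737209 q20383, e3 q22044 L737229 q20414, e3 q22045 L737249 q20443, e3 q22046 L737267 q21103, e3 q22047 L737285 q20409, e3 q22048 L737305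 q21356, e3 q22049 L737323 q21359, e3 q22050 L737341 q20390, e3 q22051 (flp_b L752426) q23453, e3 q22052 L737370 q20413, e3 q22053 (flp_b L748295) q23158, e3 q22054 L737397 q20396, e3 q22055 L737415 q21362, e3 q22056 L737431 q20422, e3 q22057 (flp_b L737461) q21364, e3 q22058 L737467 q20406, e3 q22059 (flp_b L752445) q23454, e3 q22060 L737498 q20534, e3 q22061 L737518 q20420, e3 q22062 L737536 q20412, e3 q22063 L737554 q20416, e3 q22064 (flp_b L752502) q23457, e3 q22065 (flp_b L752464) q23455, e3 q22066 L737594 q20440, e3 q22067 L737610 q20421, e3 q22068 L752496 q23456, e3 q22069 (flp_b L752579) q23461, e3 q22070 L737655 q21353, e3 q22071 L737668 q21350, e3 q22072 L737677 q20426, e3 q22073 L737691 q21351, e3 q22074 L737702 q21355, e3 q22075 L737715 q20433, e3 q22076 L737732 q21348, e3 q22077 (flp_b L752637) q23464, e3 q22078 L737751 q21360, e3 q22079 (flp_b L752618) q23463, trivial⟩ (by decide +kernel)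

theorem ce_b_345 : ∀ r, r < 64 → sm gb (Qf (22080 + r)) = Qf (tab Gen.b (22080 + r)) :=
  edges_tab (sm gb) Qf (tab Gen.b) 22080 [(22080, 21358), (22081, 21352), (22082, 20444), (22083, 20445), (22084, 23451), (22085, 23458), (22086, 23465), (22087, 20448), (22088, 20472), (22089, 20473), (22090, 20477), (22091, 20478), (22092, 20479), (22093, 20591), (22094, 20592), (22095, 20695), (22096, 20712), (22097, 21125), (22098, 21412), (22099, 21413), (22100, 23172), (22101, 20722), (22102, 21134), (22103, 21139), (22104, 20723), (22105, 21140), (22106, 20571), (22107, 20572), (22108, 23466), (22109, 23467), (22110, 23165), (22111, 23171), (22112, 21431), (22113, 23468), (22114, 21418), (22115, 21432), (22116, 21459), (22117, 21465), (22118, 21420), (22119, 23218), (22120, 23228), (22121, 21182), (22122, 21183), (22123, 21184), (22124, 21448), (22125, 21461), (22126, 20496), (22127, 20497), (22128, 20867), (22129, 23495), (22130, 23496), (22131, 20576), (22132, 23161), (22133, 23162), (22134, 20503), (22135, 23503), (22136, 20585),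 (22137, 23163), (22138, 23164), (22139, 20509), (22140, 20564), (22141, 20586), (22142, 20590), (22143, 20619)]
    ⟨e3 q22080 L737773 q21358, e3 q22081 L737786 q21352, e3 q22082 L737797 q20444, e3 q22083 L737810 q20445, e3 q22084 (flp_b L752388) q23451, e3 q22085 (flp_b L752521) q23458, e3 q22086 (flp_b L752656) q23465, e3 q22087 L737851 q20448, e3 q22088 L737863 q20472, e3 q22089 L737881 q20473, e3 q22090 L737895 q20477, e3 q22091 L737911 q20478, e3 q22092 L737925 q20479, e3 q22093 L737939 q20591, e3 q22094 L737957 q20592, e3 q22095 L737973 q20695, e3 q22096 L737989 q20712, e3 q22097 L738004 q21125, e3 q22098 L738022 q21412, e3 q22099 L738034 q21413, e3 q22100 (flp_b L748531) q23172, e3 q22101 L738064 q20722, e3 q22102 L738080 q21134, e3 q22103 L738095 q21139, e3 q22104 L738111 q20723, e3 q22105 L738126 q21140, e3 q22106 L738141 q20571, e3 q22107 L738159 q20572, e3 q22108 (flp_b L752675) q23466, e3 q22109 (flp_b L752693) q23467, e3 q22110 (flp_b L748421) q23165, e3 q22111 (flp_b L748513) q23171, e3 q22112 L738229 q21431,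 e3 q22113 (flp_b L752709) q23468, e3 q22114 L738255 q21418, e3 q22115 L738271 q21432, e3 q22116 L738285 q21459, e3 q22117 L738301 q21465, e3 q22118 L738316 q21420, e3 q22119 (flp_b L749244) q23218, e3 q22120 (flp_b L749391) q23228, e3 q22121 L738351 q21182, e3 q22122 L738364 q21183, e3 q22123 L738376 q21184, e3 q22124 L738387 q21448, e3 q22125 L738397 q21461, e3 q22126 L738413 q20496, e3 q22127 L738429 q20497, e3 q22128 L738442 q20867, e3 q22129 (flp_b L753119) q23495, e3 q22130 (flp_b L753135) q23496, e3 q22131 L738475 q20576, e3 q22132 (flp_b L748354) q23161, e3 q22133 (flp_b L748372) q23162, e3 q22134 L738505 q20503, e3 q22135 (flp_b L753219) q23503, e3 q22136 L738528 q20585, e3 q22137 (flp_b L748388) q23163, e3 q22138 (flp_b L748404) q23164, e3 q22139 L738558 q20509, e3 q22140 L738573 q20564, e3 q22141 L738588 q20586, e3 q22142 L738604 q20590, e3 q22143 (flp_b L738628) q20619, trivial⟩ (by decide +kernel)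

theorem ce_b_346 : ∀ r, r < 64 → sm gb (Qf (22144 + r)) = Qf (tab Gen.b (22144 + r)) :=
  edges_tab (sm gb) Qf (tab Gen.b) 22144 [(22144, 21117), (22145, 21118), (22146, 23166), (22147, 20520), (22148, 20521), (22149, 23315), (22150, 23511), (22151, 23512), (22152, 20604), (22153, 23169), (22154, 23170), (22155, 20526), (22156, 21457), (22157, 20614), (22158, 23176), (22159, 21464), (22160, 20580), (22161, 20615), (22162, 20624), (22163, 21477), (22164, 23179), (22165, 20546), (22166, 23319), (22167, 23323), (22168, 23525), (22169, 21468), (22170, 20577), (22171, 20578), (22172, 20596), (22173, 20597), (22174, 20556), (22175, 20557), (22176, 23531), (22177, 23532), (22178, 23533), (22179, 20605), (22180, 20562), (22181, 23504), (22182, 20764), (22183, 20765), (22184, 21278), (22185, 21335), (22186, 21478), (22187, 21479), (22188, 21480), (22189, 20601), (22190, 20611), (22191, 23478), (22192, 23479), (22193, 20574), (22194, 20575), (22195, 23379), (22196, 20593), (22197, 23549), (22198, 23550), (22199, 23500), (22200, 23529),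 (22201, 20612), (22202, 20584), (22203, 20594), (22204, 20606), (22205, 23557), (22206, 23505), (22207, 23508)]
    ⟨e3 q22144 L738632 q21117, e3 q22145 L738648 q21118, e3 q22146 (flp_b L748439) q23166, e3 q22147 L738670 q20520, e3 q22148 L738682 q20521, e3 q22149 (flp_b L750629) q23315, e3 q22150 (flp_b L753332) q23511, e3 q22151 (flp_b L753346) q23512, e3 q22152 L738730 q20604, e3 q22153 (flp_b L748489) q23169, e3 q22154 (flp_b L748501) q23170, e3 q22155 L738760 q20526, e3 q22156 L738776 q21457, e3 q22157 L738792 q20614, e3 q22158 (flp_b L748602) q23176, e3 q22159 (flp_b L738820) q21464, e3 q22160 L738826 q20580, e3 q22161 L738842 q20615, e3 q22162 L738858 q20624, e3 q22163 (flp_b L738882) q21477, e3 q22164 (flp_b L748648) q23179, e3 q22165 L738895 q20546, e3 q22166 (flp_b L750681) q23319, e3 q22167 (flp_b L750742) q23323, e3 q22168 (flp_b L753502) q23525, e3 q22169 L738944 q21468, e3 q22170 L738957 q20577, e3 q22171 L738971 q20578, e3 q22172 L738987 q20596, e3 q22173 L739001 q20597, e3 q22174 L739011 q20556, e3 q22175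 L739027 q20557, e3 q22176 (flp_b L753589) q23531, e3 q22177 (flp_b L753606) q23532, e3 q22178 (flp_b L753622) q23533, e3 q22179 L739077 q20605, e3 q22180 L739087 q20562, e3 q22181 (flp_b L753236) q23504, e3 q22182 L739112 q20764, e3 q22183 L739128 q20765, e3 q22184 L739143 q21278, e3 q22185 L739157 q21335, e3 q22186 L739171 q21478, e3 q22187 L739184 q21479, e3 q22188 L739196 q21480, e3 q22189 L739209 q20601, e3 q22190 L739227 q20611, e3 q22191 (flp_b L752873) q23478, e3 q22192 (flp_b L752891) q23479, e3 q22193 L739258 q20574, e3 q22194 L739274 q20575, e3 q22195 (flp_b L751488) q23379, e3 q22196 L739300 q20593, e3 q22197 (flp_b L753847) q23549, e3 q22198 (flp_b L753863) q23550, e3 q22199 (flp_b L753185) q23500, e3 q22200 (flp_b L753563) q23529, e3 q22201 L739358 q20612, e3 q22202 L739374 q20584, e3 q22203 L739390 q20594, e3 q22204 L739406 q20606, e3 q22205 (flp_b L753951) q23557, e3 q22206 (flp_b L753253) q23505, e3 q22207 (flp_b L753293) q23508, trivial⟩ (by decide +kernel)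

theorem ce_b_347 : ∀ r, r < 64 → sm gb (Qf (22208 + r)) = Qf (tab Gen.b (22208 + r)) :=
  edges_tab (sm gb) Qf (tab Gen.b) 22208 [(22208, 20589), (22209, 20724), (22210, 21384), (22211, 23469), (22212, 23470), (22213, 23552), (22214, 23558), (22215, 20686), (22216, 21440), (22217, 23530), (22218, 20687), (22219, 20602), (22220, 20603), (22221, 23546), (22222, 23568), (22223, 23569), (22224, 23516), (22225, 23537), (22226, 21441), (22227, 20708), (22228, 20613), (22229, 23547), (22230, 23507), (22231, 23576), (22232, 23520), (22233, 21396), (22234, 21373), (22235, 20620), (22236, 21398), (22237, 20676), (22238, 20741), (22239, 21404), (22240, 23523), (22241, 20630), (22242, 23585), (22243, 21377), (22244, 20633), (22245, 23587), (22246, 23334), (22247, 23335), (22248, 21406), (22249, 21612), (22250, 21646), (22251, 20640), (22252, 20641), (22253, 23208), (22254, 23207), (22255, 23594), (22256, 23595), (22257, 21603), (22258, 21613), (22259, 21452), (22260, 21462), (22261, 21378), (22262, 21379), (22263, 21380), (22264, 21407),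 (22265, 23182), (22266, 20654), (22267, 20656), (22268, 20657), (22269, 23489), (22270, 23610), (22271, 21369)]
    ⟨e3 q22208 L739450 q20589, e3 q22209 L739465 q20724, e3 q22210 L739487 q21384, e3 q22211 (flp_b L752725) q23469, e3 q22212 (flp_b L752743) q23470, e3 q22213 (flp_b L753892) q23552, e3 q22214 (flp_b L753968) q23558, e3 q22215 L739535 q20686, e3 q22216 L739553 q21440, e3 q22217 (flp_b L753577) q23530, e3 q22218 L739575 q20687, e3 q22219 L739589 q20602, e3 q22220 L739599 q20603, e3 q22221 (flp_b L753805) q23546, e3 q22222 (flp_b L754101) q23568, e3 q22223 (flp_b L754109) q23569, e3 q22224 (flp_b L753390) q23516, e3 q22225 (flp_b L753674) q23537, e3 q22226 L739655 q21441, e3 q22227 L739665 q20708, e3 q22228 L739679 q20613, e3 q22229 (flp_b L753823) q23547, e3 q22230 L753287 q23507, e3 q22231 (flp_b L754181) q23576, e3 q22232 (flp_b L753432) q23520, e3 q22233 L739736 q21396, e3 q22234 L739748 q21373, e3 q22235 L739758 q20620, e3 q22236 L739779 q21398, e3 q22237 L739789 q20676, e3 q22238 L739804 q20741, e3 q22239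 L739825 q21404, e3 q22240 (flp_b L753470) q23523, e3 q22241 L739837 q20630, e3 q22242 (flp_b L754297) q23585, e3 q22243 L739862 q21377, e3 q22244 L739871 q20633, e3 q22245 (flp_b L754321) q23587, e3 q22246 (flp_b L750905) q23334, e3 q22247 (flp_b L750923) q23335, e3 q22248 L739917 q21406, e3 q22249 L739928 q21612, e3 q22250 L739940 q21646, e3 q22251 L739951 q20640, e3 q22252 L739961 q20641, e3 q22253 (flp_b L749093) q23208, e3 q22254 (flp_b L749076) q23207, e3 q22255 (flp_b L754415) q23594, e3 q22256 (flp_b L754425) q23595, e3 q22257 L740004 q21603, e3 q22258 L740015 q21613, e3 q22259 L740025 q21452, e3 q22260 L740037 q21462, e3 q22261 L740053 q21378, e3 q22262 L740064 q21379, e3 q22263 L740074 q21380, e3 q22264 L740086 q21407, e3 q22265 (flp_b L748697) q23182, e3 q22266 L740106 q20654, e3 q22267 L740121 q20656, e3 q22268 L740137 q20657, e3 q22269 (flp_b L753044) q23489, e3 q22270 (flp_b L754597) q23610, e3 q22271 L740165 q21369, trivial⟩ (by decide +kernel)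

theorem ce_b_348 : ∀ r, r < 64 → sm gb (Qf (22272 + r)) = Qf (tab Gen.b (22272 + r)) :=
  edges_tab (sm gb) Qf (tab Gen.b) 22272 [(22272, 23611), (22273, 23612), (22274, 21433), (22275, 23183), (22276, 23184), (22277, 21382), (22278, 21408), (22279, 21410), (22280, 20667), (22281, 21370), (22282, 21372), (22283, 23622), (22284, 23185), (22285, 23186), (22286, 23579), (22287, 20673), (22288, 23187), (22289, 23167), (22290, 23168), (22291, 21386), (22292, 21387), (22293, 21388), (22294, 21389), (22295, 21390), (22296, 21391), (22297, 21415), (22298, 23188), (22299, 20874), (22300, 23564), (22301, 23567), (22302, 20692), (22303, 20693), (22304, 20694), (22305, 20696), (22306, 20697), (22307, 20698), (22308, 23488), (22309, 23641), (22310, 23642), (22311, 23643), (22312, 23471), (22313, 23644), (22314, 23645), (22315, 23646), (22316, 23190), (22317, 23191), (22318, 23192), (22319, 23660), (22320, 21394), (22321, 21395), (22322, 21416), (22323, 20713), (22324, 20714), (22325, 20715), (22326, 23472), (22327, 23663), (22328, 23559),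 (22329, 23664), (22330, 23665), (22331, 23194), (22332, 23195), (22333, 23670), (22334, 23197), (22335, 20719)]
    ⟨e3 q22272 (flp_b L754614) q23611, e3 q22273 (flp_b L754632) q23612, e3 q22274 L740194 q21433, e3 q22275 (flp_b L748715) q23183, e3 q22276 (flp_b L748733) q23184, e3 q22277 L740220 q21382, e3 q22278 L740231 q21408, e3 q22279 L740241 q21410, e3 q22280 L740254 q20667, e3 q22281 L740267 q21370, e3 q22282 L740279 q21372, e3 q22283 (flp_b L754721) q23622, e3 q22284 (flp_b L748745) q23185, e3 q22285 (flp_b L748761) q23186, e3 q22286 (flp_b L754227) q23579, e3 q22287 L740320 q20673, e3 q22288 (flp_b L748776) q23187, e3 q22289 (flp_b L748455) q23167, e3 q22290 (flp_b L748473) q23168, e3 q22291 L740360 q21386, e3 q22292 L740373 q21387, e3 q22293 L740385 q21388, e3 q22294 L740397 q21389, e3 q22295 L740409 q21390, e3 q22296 L740419 q21391, e3 q22297 L740429 q21415, e3 q22298 (flp_b L748793) q23188, e3 q22299 L740447 q20874, e3 q22300 (flp_b L754049) q23564, e3 q22301 (flp_b L754087) q23567, e3 q22302 L740491 q20692, e3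 q22303 L740502 q20693, e3 q22304 L740514 q20694, e3 q22305 L740530 q20696, e3 q22306 L740542 q20697, e3 q22307 L740554 q20698, e3 q22308 (flp_b L753027) q23488, e3 q22309 (flp_b L754924) q23641, e3 q22310 (flp_b L754937) q23642, e3 q22311 (flp_b L754949) q23643, e3 q22312 (flp_b L752761) q23471, e3 q22313 (flp_b L754963) q23644, e3 q22314 (flp_b L754977) q23645, e3 q22315 (flp_b L754985) q23646, e3 q22316 (flp_b L748823) q23190, e3 q22317 (flp_b L748841) q23191, e3 q22318 (flp_b L748857) q23192, e3 q22319 L755085 q23660, e3 q22320 L740658 q21394, e3 q22321 L740668 q21395, e3 q22322 L740677 q21416, e3 q22323 L740689 q20713, e3 q22324 L740703 q20714, e3 q22325 L740716 q20715, e3 q22326 (flp_b L752777) q23472, e3 q22327 (flp_b L755112) q23663, e3 q22328 (flp_b L753986) q23559, e3 q22329 (flp_b L755127) q23664, e3 q22330 (flp_b L755142) q23665, e3 q22331 (flp_b L748875) q23194, e3 q22332 (flp_b L748891) q23195, e3 q22333 (flp_b L755180) q23670, e3 q22334 (flp_b L748923) q23197, e3 q22335 (flp_b L740785) q20719, trivial⟩ (by decide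 +kernel)

theorem ce_b_349 : ∀ r, r < 64 → sm gb (Qf (22336 + r)) = Qf (tab Gen.b (22336 + r)) :=
  edges_tab (sm gb) Qf (tab Gen.b) 22336 [(22336, 20725), (22337, 23475), (22338, 21419), (22339, 20751), (22340, 23199), (22341, 20731), (22342, 23674), (22343, 21400), (22344, 21401), (22345, 21402), (22346, 21403), (22347, 20890), (22348, 20898), (22349, 20746), (22350, 20747), (22351, 20748), (22352, 20749), (22353, 23681), (22354, 23682), (22355, 21333), (22356, 23683), (22357, 23673), (22358, 20766), (22359, 20767), (22360, 21084), (22361, 21047), (22362, 20769), (22363, 21033), (22364, 21046), (22365, 23538), (22366, 23539), (22367, 23689), (22368, 23316), (22369, 23692), (22370, 23322), (22371, 23320), (22372, 23324), (22373, 23202), (22374, 23203), (22375, 23204), (22376, 23238), (22377, 23257), (22378, 23211), (22379, 23212), (22380, 21423), (22381, 23213), (22382, 23214), (22383, 23219), (22384, 23220), (22385, 23225), (22386, 23226), (22387, 23229), (22388, 23230), (22389, 23232), (22390, 20850), (22391, 20851), (22392,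 21424), (22393, 23234), (22394, 21527), (22395, 23239), (22396, 23240), (22397, 20806), (22398, 21528), (22399, 21176)]
    ⟨e3 q22336 L740797 q20725, e3 q22337 (flp_b L752823) q23475, e3 q22338 L740821 q21419, e3 q22339 L740837 q20751, e3 q22340 (flp_b L748951) q23199, e3 q22341 (flp_b L740851) q20731, e3 q22342 (flp_b L755217) q23674, e3 q22343 L740868 q21400, e3 q22344 L740880 q21401, e3 q22345 L740889 q21402, e3 q22346 L740897 q21403, e3 q22347 L740906 q20890, e3 q22348 L740921 q20898, e3 q22349 L740935 q20746, e3 q22350 L740947 q20747, e3 q22351 L740958 q20748, e3 q22352 L740970 q20749, e3 q22353 (flp_b L755292) q23681, e3 q22354 (flp_b L755305) q23682, e3 q22355 L741003 q21333, e3 q22356 (flp_b L755318) q23683, e3 q22357 (flp_b L755204) q23673, e3 q22358 L741023 q20766, e3 q22359 L741033 q20767, e3 q22360 L741047 q21084, e3 q22361 L741063 q21047, e3 q22362 L741077 q20769, e3 q22363 L741089 q21033, e3 q22364 L741104 q21046, e3 q22365 (flp_b L753684) q23538, e3 q22366 (flp_b L753700) q23539, e3 q22367 (flp_b L755379)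 q23689, e3 q22368 (flp_b L750647) q23316, e3 q22369 (flp_b L755422) q23692, e3 q22370 (flp_b L750725) q23322, e3 q22371 (flp_b L750697) q23320, e3 q22372 (flp_b L750757) q23324, e3 q22373 (flp_b L748994) q23202, e3 q22374 (flp_b L749011) q23203, e3 q22375 (flp_b L749027) q23204, e3 q22376 (flp_b L749538) q23238, e3 q22377 (flp_b L749795) q23257, e3 q22378 (flp_b L749135) q23211, e3 q22379 (flp_b L749148) q23212, e3 q22380 L741280 q21423, e3 q22381 (flp_b L749160) q23213, e3 q22382 (flp_b L749178) q23214, e3 q22383 (flp_b L749262) q23219, e3 q22384 (flp_b L749276) q23220, e3 q22385 (flp_b L749349) q23225, e3 q22386 (flp_b L749365) q23226, e3 q22387 (flp_b L749405) q23229, e3 q22388 (flp_b L749419) q23230, e3 q22389 (flp_b L749448) q23232, e3 q22390 L741405 q20850, e3 q22391 L741421 q20851, e3 q22392 L741436 q21424, e3 q22393 (flp_b L749476) q23234, e3 q22394 L741457 q21527, e3 q22395 (flp_b L749554) q23239, e3 q22396 (flp_b L749566) q23240, e3 q22397 L741489 q20806, e3 q22398 L741505 q21528, e3 q22399 L741521 q21176, trivial⟩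 (by decide +kernel)

theorem ce_b_350 : ∀ r, r < 64 → sm gb (Qf (22400 + r)) = Qf (tab Gen.b (22400 + r)) :=
  edges_tab (sm gb) Qf (tab Gen.b) 22400 [(22400, 23719), (22401, 20875), (22402, 20885), (22403, 23252), (22404, 23727), (22405, 23258), (22406, 20891), (22407, 20895), (22408, 23424), (22409, 23265), (22410, 20892), (22411, 23267), (22412, 23269), (22413, 20899), (22414, 20902), (22415, 23449), (22416, 20855), (22417, 20856), (22418, 20858), (22419, 20868), (22420, 20869), (22421, 21446), (22422, 21472), (22423, 20876), (22424, 23301), (22425, 23307), (22426, 23309), (22427, 20886), (22428, 21677), (22429, 21489), (22430, 21490), (22431, 21491), (22432, 21277), (22433, 21279), (22434, 21336), (22435, 23293), (22436, 23713), (22437, 21498), (22438, 21499), (22439, 21523), (22440, 23285), (22441, 23290), (22442, 23735), (22443, 23294), (22444, 23736), (22445, 23286), (22446, 23291), (22447, 23298), (22448, 23295), (22449, 23231), (22450, 21012), (22451, 21014), (22452, 21080), (22453, 23497), (22454, 23737), (22455,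 21577), (22456, 21579), (22457, 21623), (22458, 21625), (22459, 21627), (22460, 23639), (22461, 23723), (22462, 23740), (22463, 20995)]
    ⟨e3 q22400 (flp_b L755721) q23719, e3 q22401 L741547 q20875, e3 q22402 L741559 q20885, e3 q22403 (flp_b L749738) q23252, e3 q22404 L755811 q23727, e3 q22405 (flp_b L749806) q23258, e3 q22406 L741591 q20891, e3 q22407 L741599 q20895, e3 q22408 (flp_b L752044) q23424, e3 q22409 (flp_b L749894) q23265, e3 q22410 L741629 q20892, e3 q22411 (flp_b L749924) q23267, e3 q22412 (flp_b L749948) q23269, e3 q22413 L741659 q20899, e3 q22414 L741668 q20902, e3 q22415 (flp_b L752363) q23449, e3 q22416 L741684 q20855, e3 q22417 L741698 q20856, e3 q22418 L741714 q20858, e3 q22419 L741724 q20868, e3 q22420 L741734 q20869, e3 q22421 L741745 q21446, e3 q22422 L741755 q21472, e3 q22423 L741767 q20876, e3 q22424 (flp_b L750418) q23301, e3 q22425 (flp_b L750515) q23307, e3 q22426 (flp_b L750543) q23309, e3 q22427 L741799 q20886, e3 q22428 L741805 q21677, e3 q22429 L741817 q21489, e3 q22430 L741830 q21490, e3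 q22431 L741846 q21491, e3 q22432 L741861 q21277, e3 q22433 L741874 q21279, e3 q22434 L741890 q21336, e3 q22435 (flp_b L750291) q23293, e3 q22436 (flp_b L755660) q23713, e3 q22437 L741920 q21498, e3 q22438 L741935 q21499, e3 q22439 L741951 q21523, e3 q22440 (flp_b L750171) q23285, e3 q22441 (flp_b L750249) q23290, e3 q22442 (flp_b L755892) q23735, e3 q22443 (flp_b L750308) q23294, e3 q22444 (flp_b L755906) q23736, e3 q22445 (flp_b L750189) q23286, e3 q22446 (flp_b L750265) q23291, e3 q22447 (flp_b L750367) q23298, e3 q22448 (flp_b L750324) q23295, e3 q22449 (flp_b L749433) q23231, e3 q22450 L742080 q21012, e3 q22451 L742095 q21014, e3 q22452 L742109 q21080, e3 q22453 (flp_b L753149) q23497, e3 q22454 (flp_b L755916) q23737, e3 q22455 L742145 q21577, e3 q22456 L742158 q21579, e3 q22457 L742170 q21623, e3 q22458 L742182 q21625, e3 q22459 L742196 q21627, e3 q22460 (flp_b L754890) q23639, e3 q22461 (flp_b L755785) q23723, e3 q22462 (flp_b L755951) q23740, e3 q22463 L742242 q20995, trivial⟩ (by decide +kernel)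

theorem ce_b_351 : ∀ r, r < 64 → sm gb (Qf (22464 + r)) = Qf (tab Gen.b (22464 + r)) :=
  edges_tab (sm gb) Qf (tab Gen.b) 22464 [(22464, 20882), (22465, 20884), (22466, 21234), (22467, 23304), (22468, 21566), (22469, 23777), (22470, 23305), (22471, 23778), (22472, 23724), (22473, 23787), (22474, 21682), (22475, 21684), (22476, 21686), (22477, 23679), (22478, 23729), (22479, 23256), (22480, 23306), (22481, 23262), (22482, 23263), (22483, 23730), (22484, 23680), (22485, 23281), (22486, 23733), (22487, 23280), (22488, 21675), (22489, 20930), (22490, 21030), (22491, 20910), (22492, 21672), (22493, 21585), (22494, 21597), (22495, 20914), (22496, 20915), (22497, 21576), (22498, 23804), (22499, 23805), (22500, 23331), (22501, 23332), (22502, 23333), (22503, 21187), (22504, 21216), (22505, 20922), (22506, 20923), (22507, 20924), (22508, 20925), (22509, 21581), (22510, 21016), (22511, 23814), (22512, 23327), (22513, 23815), (22514, 23816), (22515, 23817), (22516, 21562), (22517, 23342), (22518, 23343), (22519, 23358), (22520, 23801),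 (22521, 23344), (22522, 23345), (22523, 23346), (22524, 20937), (22525, 20938), (22526, 21252), (22527, 23383)]
    ⟨e3 q22464 L742248 q20882, e3 q22465 L742260 q20884, e3 q22466 L742274 q21234, e3 q22467 (flp_b L750463) q23304, e3 q22468 L742296 q21566, e3 q22469 (flp_b L756361) q23777, e3 q22470 (flp_b L750480) q23305, e3 q22471 (flp_b L756373) q23778, e3 q22472 (flp_b L755795) q23724, e3 q22473 L756459 q23787, e3 q22474 L742352 q21682, e3 q22475 L742364 q21684, e3 q22476 L742378 q21686, e3 q22477 (flp_b L755267) q23679, e3 q22478 (flp_b L755831) q23729, e3 q22479 (flp_b L749782) q23256, e3 q22480 (flp_b L750498) q23306, e3 q22481 (flp_b L749859) q23262, e3 q22482 (flp_b L749874) q23263, e3 q22483 (flp_b L755841) q23730, e3 q22484 (flp_b L755280) q23680, e3 q22485 (flp_b L750107) q23281, e3 q22486 (flp_b L755874) q23733, e3 q22487 (flp_b L750096) q23280, e3 q22488 L742488 q21675, e3 q22489 L742501 q20930, e3 q22490 L742512 q21030, e3 q22491 L742524 q20910, e3 q22492 L742539 q21672, e3 q22493 L742554 q21585, e3 q22494 L742568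 q21597, e3 q22495 L742582 q20914, e3 q22496 L742596 q20915, e3 q22497 L742609 q21576, e3 q22498 (flp_b L756637) q23804, e3 q22499 (flp_b L756653) q23805, e3 q22500 (flp_b L750863) q23331, e3 q22501 (flp_b L750880) q23332, e3 q22502 (flp_b L750891) q23333, e3 q22503 L742669 q21187, e3 q22504 L742681 q21216, e3 q22505 L742694 q20922, e3 q22506 L742710 q20923, e3 q22507 L742719 q20924, e3 q22508 L742727 q20925, e3 q22509 L742736 q21581, e3 q22510 L742752 q21016, e3 q22511 (flp_b L756749) q23814, e3 q22512 (flp_b L750804) q23327, e3 q22513 (flp_b L756765) q23815, e3 q22514 (flp_b L756776) q23816, e3 q22515 (flp_b L756784) q23817, e3 q22516 L742811 q21562, e3 q22517 (flp_b L751000) q23342, e3 q22518 (flp_b L751011) q23343, e3 q22519 (flp_b L751217) q23358, e3 q22520 (flp_b L756595) q23801, e3 q22521 (flp_b L751023) q23344, e3 q22522 (flp_b L751038) q23345, e3 q22523 (flp_b L751049) q23346, e3 q22524 L742892 q20937, e3 q22525 L742904 q20938, e3 q22526 L742918 q21252, e3 q22527 (flp_b L751537) q23383, trivial⟩ (by decide +kernel)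

theorem ce_b_352 : ∀ r, r < 64 → sm gb (Qf (22528 + r)) = Qf (tab Gen.b (22528 + r)) :=
  edges_tab (sm gb) Qf (tab Gen.b) 22528 [(22528, 23832), (22529, 21571), (22530, 23352), (22531, 23353), (22532, 23354), (22533, 20947), (22534, 20950), (22535, 21300), (22536, 23393), (22537, 23403), (22538, 23840), (22539, 21286), (22540, 23394), (22541, 23841), (22542, 23364), (22543, 23365), (22544, 23366), (22545, 23853), (22546, 21662), (22547, 23384), (22548, 23414), (22549, 21673), (22550, 23370), (22551, 23371), (22552, 23860), (22553, 21091), (22554, 21287), (22555, 23395), (22556, 23374), (22557, 23375), (22558, 23866), (22559, 23377), (22560, 20970), (22561, 21311), (22562, 23378), (22563, 21045), (22564, 20981), (22565, 20982), (22566, 21077), (22567, 21253), (22568, 23359), (22569, 23869), (22570, 21076), (22571, 23380), (22572, 23381), (22573, 23382), (22574, 21542), (22575, 21548), (22576, 20992), (22577, 20994), (22578, 20996), (22579, 20997), (22580, 20998), (22581, 21296), (22582, 21295), (22583, 23879), (22584, 21530),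 (22585, 23874), (22586, 21554), (22587, 23776), (22588, 23880), (22589, 23881), (22590, 23870), (22591, 23389)]
    ⟨e3 q22528 (flp_b L756930) q23832, e3 q22529 L742960 q21571, e3 q22530 (flp_b L751131) q23352, e3 q22531 (flp_b L751145) q23353, e3 q22532 (flp_b L751159) q23354, e3 q22533 L742996 q20947, e3 q22534 L743008 q20950, e3 q22535 L743020 q21300, e3 q22536 (flp_b L751655) q23393, e3 q22537 (flp_b L751797) q23403, e3 q22538 (flp_b L757020) q23840, e3 q22539 L743070 q21286, e3 q22540 (flp_b L751673) q23394, e3 q22541 (flp_b L757030) q23841, e3 q22542 (flp_b L751286) q23364, e3 q22543 (flp_b L751304) q23365, e3 q22544 (flp_b L751318) q23366, e3 q22545 L757154 q23853, e3 q22546 L743136 q21662, e3 q22547 (flp_b L751555) q23384, e3 q22548 (flp_b L751897) q23414, e3 q22549 L743176 q21673, e3 q22550 (flp_b L751364) q23370, e3 q22551 (flp_b L751379) q23371, e3 q22552 L757228 q23860, e3 q22553 L743218 q21091, e3 q22554 L743234 q21287, e3 q22555 (flp_b L751689) q23395, e3 q22556 (flp_b L751419) q23374, e3 q22557 (flp_b L751435)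 q23375, e3 q22558 L757299 q23866, e3 q22559 (flp_b L751463) q23377, e3 q22560 (flp_b L743287) q20970, e3 q22561 L743304 q21311, e3 q22562 (flp_b L751472) q23378, e3 q22563 L743334 q21045, e3 q22564 L743342 q20981, e3 q22565 L743356 q20982, e3 q22566 L743367 q21077, e3 q22567 L743379 q21253, e3 q22568 (flp_b L751233) q23359, e3 q22569 (flp_b L757339) q23869, e3 q22570 L743413 q21076, e3 q22571 (flp_b L751505) q23380, e3 q22572 (flp_b L751518) q23381, e3 q22573 (flp_b L751527) q23382, e3 q22574 L743450 q21542, e3 q22575 L743464 q21548, e3 q22576 L743478 q20992, e3 q22577 L743495 q20994, e3 q22578 L743509 q20996, e3 q22579 L743521 q20997, e3 q22580 L743529 q20998, e3 q22581 L743543 q21296, e3 q22582 L743556 q21295, e3 q22583 (flp_b L757440) q23879, e3 q22584 L743580 q21530, e3 q22585 (flp_b L757391) q23874, e3 q22586 L743598 q21554, e3 q22587 (flp_b L756345) q23776, e3 q22588 (flp_b L757455) q23880, e3 q22589 (flp_b L757467) q23881, e3 q22590 (flp_b L757349) q23870, e3 q22591 (flp_b L751611) q23389, trivial⟩ (by decide +kernel)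

theorem ce_b_353 : ∀ r, r < 64 → sm gb (Qf (22592 + r)) = Qf (tab Gen.b (22592 + r)) :=
  edges_tab (sm gb) Qf (tab Gen.b) 22592 [(22592, 23390), (22593, 23391), (22594, 23896), (22595, 23361), (22596, 21011), (22597, 21013), (22598, 21015), (22599, 21017), (22600, 21018), (22601, 21019), (22602, 21020), (22603, 23596), (22604, 23588), (22605, 23898), (22606, 23764), (22607, 23899), (22608, 23765), (22609, 23900), (22610, 23819), (22611, 23901), (22612, 23902), (22613, 23917), (22614, 23904), (22615, 23690), (22616, 23409), (22617, 23410), (22618, 23923), (22619, 23412), (22620, 21024), (22621, 21031), (22622, 21032), (22623, 21668), (22624, 23802), (22625, 23926), (22626, 23868), (22627, 23693), (22628, 23417), (22629, 23418), (22630, 23934), (22631, 23420), (22632, 21037), (22633, 21042), (22634, 21043), (22635, 21044), (22636, 23937), (22637, 23376), (22638, 23864), (22639, 23938), (22640, 23691), (22641, 23425), (22642, 21326), (22643, 23426), (22644, 21050), (22645, 23947), (22646, 21650), (22647, 21055), (22648, 23372),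 (22649, 23233), (22650, 21317), (22651, 23429), (22652, 23953), (22653, 23430), (22654, 21063), (22655, 23957)]
    ⟨e3 q22592 (flp_b L751627) q23390, e3 q22593 (flp_b L751639) q23391, e3 q22594 L757590 q23896, e3 q22595 (flp_b L751255) q23361, e3 q22596 L743678 q21011, e3 q22597 L743687 q21013, e3 q22598 L743696 q21015, e3 q22599 L743706 q21017, e3 q22600 L743718 q21018, e3 q22601 L743726 q21019, e3 q22602 L743732 q21020, e3 q22603 (flp_b L754438) q23596, e3 q22604 (flp_b L754335) q23588, e3 q22605 (flp_b L757604) q23898, e3 q22606 (flp_b L756212) q23764, e3 q22607 (flp_b L757615) q23899, e3 q22608 (flp_b L756227) q23765, e3 q22609 (flp_b L757622) q23900, e3 q22610 (flp_b L756811) q23819, e3 q22611 (flp_b L757634) q23901, e3 q22612 (flp_b L757648) q23902, e3 q22613 L757758 q23917, e3 q22614 (flp_b L757658) q23904, e3 q22615 (flp_b L755391) q23690, e3 q22616 (flp_b L751861) q23409, e3 q22617 (flp_b L751871) q23410, e3 q22618 L757802 q23923, e3 q22619 (flp_b L751883) q23412, e3 q22620 (flp_b L743865) q21024, e3 q22621 L743871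 q21031, e3 q22622 L743881 q21032, e3 q22623 L743889 q21668, e3 q22624 (flp_b L756608) q23802, e3 q22625 (flp_b L757816) q23926, e3 q22626 (flp_b L757331) q23868, e3 q22627 (flp_b L755434) q23693, e3 q22628 (flp_b L751941) q23417, e3 q22629 (flp_b L751956) q23418, e3 q22630 L757880 q23934, e3 q22631 (flp_b L751983) q23420, e3 q22632 (flp_b L743967) q21037, e3 q22633 L743980 q21042, e3 q22634 L743995 q21043, e3 q22635 L744007 q21044, e3 q22636 (flp_b L757915) q23937, e3 q22637 L751459 q23376, e3 q22638 (flp_b L757288) q23864, e3 q22639 (flp_b L757929) q23938, e3 q22640 (flp_b L755407) q23691, e3 q22641 (flp_b L752058) q23425, e3 q22642 (flp_b L744066) q21326, e3 q22643 (flp_b L752068) q23426, e3 q22644 (flp_b L744074) q21050, e3 q22645 (flp_b L758008) q23947, e3 q22646 L744098 q21650, e3 q22647 L744104 q21055, e3 q22648 L751400 q23372, e3 q22649 (flp_b L749468) q23233, e3 q22650 (flp_b L744139) q21317, e3 q22651 (flp_b L752102) q23429, e3 q22652 L758055 q23953, e3 q22653 (flp_b L752116) q23430, e3 q22654 (flp_b L744161) q21063,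 e3 q22655 (flp_b L758091) q23957, trivial⟩ (by decide +kernel)

theorem ce_b_354 : ∀ r, r < 64 → sm gb (Qf (22656 + r)) = Qf (tab Gen.b (22656 + r)) :=
  edges_tab (sm gb) Qf (tab Gen.b) 22656 [(22656, 21691), (22657, 21347), (22658, 23434), (22659, 21346), (22660, 21695), (22661, 21070), (22662, 23962), (22663, 21531), (22664, 21561), (22665, 21271), (22666, 21602), (22667, 21270), (22668, 21601), (22669, 21337), (22670, 21087), (22671, 23450), (22672, 21217), (22673, 21092), (22674, 21093), (22675, 23861), (22676, 23972), (22677, 21096), (22678, 23423), (22679, 21239), (22680, 21560), (22681, 21238), (22682, 21269), (22683, 21104), (22684, 23452), (22685, 21381), (22686, 21393), (22687, 21111), (22688, 21371), (22689, 23977), (22690, 21427), (22691, 21434), (22692, 23509), (22693, 21439), (22694, 21126), (22695, 21127), (22696, 21493), (22697, 21494), (22698, 23473), (22699, 23984), (22700, 23985), (22701, 21453), (22702, 21454), (22703, 23993), (22704, 21135), (22705, 21136), (22706, 23476), (22707, 23994), (22708, 23477),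 (22709, 23235), (22710, 23254), (22711, 21483), (22712, 21486), (22713, 21488), (22714, 21504), (22715, 21616), (22716, 21647), (22717, 21155), (22718, 21156), (22719, 24004)]
    ⟨e3 q22656 L744189 q21691, e3 q22657 (flp_b L744199) q21347, e3 q22658 (flp_b L752170) q23434, e3 q22659 L744212 q21346, e3 q22660 L744231 q21695, e3 q22661 L744235 q21070, e3 q22662 (flp_b L758142) q23962, e3 q22663 L744248 q21531, e3 q22664 L744261 q21561, e3 q22665 L744279 q21271, e3 q22666 L744285 q21602, e3 q22667 L744295 q21270, e3 q22668 L744309 q21601, e3 q22669 L744320 q21337, e3 q22670 L744334 q21087, e3 q22671 (flp_b L752376) q23450, e3 q22672 L744357 q21217, e3 q22673 L744372 q21092, e3 q22674 L744386 q21093, e3 q22675 (flp_b L757246) q23861, e3 q22676 (flp_b L758248) q23972, e3 q22677 L744413 q21096, e3 q22678 (flp_b L752026) q23423, e3 q22679 L744446 q21239, e3 q22680 L744453 q21560, e3 q22681 L744465 q21238, e3 q22682 L744477 q21269, e3 q22683 L744488 q21104, e3 q22684 (flp_b L752407) q23452, e3 q22685 L744516 q21381, e3 q22686 L744530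 q21393, e3 q22687 L744542 q21111, e3 q22688 L744556 q21371, e3 q22689 (flp_b L758299) q23977, e3 q22690 L744576 q21427, e3 q22691 L744588 q21434, e3 q22692 (flp_b L753308) q23509, e3 q22693 L744610 q21439, e3 q22694 L744622 q21126, e3 q22695 L744636 q21127, e3 q22696 L744648 q21493, e3 q22697 L744665 q21494, e3 q22698 (flp_b L752793) q23473, e3 q22699 (flp_b L758377) q23984, e3 q22700 (flp_b L758391) q23985, e3 q22701 L744703 q21453, e3 q22702 L744713 q21454, e3 q22703 L758472 q23993, e3 q22704 L744729 q21135, e3 q22705 L744741 q21136, e3 q22706 (flp_b L752840) q23476, e3 q22707 (flp_b L758480) q23994, e3 q22708 (flp_b L752856) q23477, e3 q22709 (flp_b L749492) q23235, e3 q22710 (flp_b L749756) q23254, e3 q22711 L744806 q21483, e3 q22712 L744820 q21486, e3 q22713 L744834 q21488, e3 q22714 L744846 q21504, e3 q22715 L744858 q21616, e3 q22716 L744872 q21647, e3 q22717 L744884 q21155, e3 q22718 L744894 q21156, e3 q22719 (flp_b L758604) q24004, trivial⟩ (by decide +kernel)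

theorem ce_b_355 : ∀ r, r < 64 → sm gb (Qf (22720 + r)) = Qf (tab Gen.b (22720 + r)) :=
  edges_tab (sm gb) Qf (tab Gen.b) 22720 [(22720, 24005), (22721, 24008), (22722, 21640), (22723, 21160), (22724, 21165), (22725, 23435), (22726, 23433), (22727, 21192), (22728, 21202), (22729, 23246), (22730, 23249), (22731, 23260), (22732, 23721), (22733, 23255), (22734, 21180), (22735, 21181), (22736, 24016), (22737, 24017), (22738, 23492), (22739, 23493), (22740, 21189), (22741, 21190), (22742, 23215), (22743, 23812), (22744, 23216), (22745, 24022), (22746, 24023), (22747, 21481), (22748, 24010), (22749, 21197), (22750, 21199), (22751, 21200), (22752, 23222), (22753, 24031), (22754, 23223), (22755, 24032), (22756, 24033), (22757, 21482), (22758, 24041), (22759, 21206), (22760, 23217), (22761, 23227), (22762, 24042), (22763, 21211), (22764, 23224), (22765, 24045), (22766, 21214), (22767, 24047), (22768, 21218), (22769, 23813), (22770, 23970), (22771, 24049), (22772, 21223), (22773, 21224), (22774, 21225), (22775, 24053), (22776, 24055),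 (22777, 24056), (22778, 21228), (22779, 24059), (22780, 21230), (22781, 21323), (22782, 21235), (22783, 21236)]
    ⟨e3 q22720 (flp_b L758610) q24005, e3 q22721 L758628 q24008, e3 q22722 L744926 q21640, e3 q22723 L744939 q21160, e3 q22724 L744950 q21165, e3 q22725 (flp_b L752183) q23435, e3 q22726 (flp_b L752164) q23433, e3 q22727 L744977 q21192, e3 q22728 L744991 q21202, e3 q22729 (flp_b L749665) q23246, e3 q22730 (flp_b L749706) q23249, e3 q22731 (flp_b L749831) q23260, e3 q22732 (flp_b L755757) q23721, e3 q22733 (flp_b L749770) q23255, e3 q22734 L745049 q21180, e3 q22735 L745061 q21181, e3 q22736 (flp_b L758706) q24016, e3 q22737 (flp_b L758720) q24017, e3 q22738 (flp_b L753082) q23492, e3 q22739 (flp_b L753095) q23493, e3 q22740 L745112 q21189, e3 q22741 L745120 q21190, e3 q22742 (flp_b L749195) q23215, e3 q22743 (flp_b L756724) q23812, e3 q22744 (flp_b L749212) q23216, e3 q22745 (flp_b L758769) q24022, e3 q22746 (flp_b L758777) q24023, e3 q22747 L745189 q21481, e3 q22748 (flp_b L758654) q24010, e3 q22749 L745209 q21197,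 e3 q22750 L745219 q21199, e3 q22751 L745227 q21200, e3 q22752 (flp_b L749305) q23222, e3 q22753 (flp_b L758866) q24031, e3 q22754 (flp_b L749318) q23223, e3 q22755 (flp_b L758874) q24032, e3 q22756 (flp_b L758880) q24033, e3 q22757 L745284 q21482, e3 q22758 L758941 q24041, e3 q22759 L745298 q21206, e3 q22760 (flp_b L749228) q23217, e3 q22761 (flp_b L749377) q23227, e3 q22762 (flp_b L758949) q24042, e3 q22763 L745342 q21211, e3 q22764 (flp_b L749334) q23224, e3 q22765 (flp_b L758983) q24045, e3 q22766 L745371 q21214, e3 q22767 (flp_b L759002) q24047, e3 q22768 L745396 q21218, e3 q22769 (flp_b L756738) q23813, e3 q22770 (flp_b L758231) q23970, e3 q22771 (flp_b L759025) q24049, e3 q22772 L745437 q21223, e3 q22773 L745444 q21224, e3 q22774 L745452 q21225, e3 q22775 (flp_b L759069) q24053, e3 q22776 (flp_b L759085) q24055, e3 q22777 (flp_b L759094) q24056, e3 q22778 L745488 q21228, e3 q22779 (flp_b L759123) q24059, e3 q22780 L745509 q21230, e3 q22781 L745521 q21323, e3 q22782 L745532 q21235, e3 q22783 L745544 q21236, trivial⟩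 (by decide +kernel)

theorem ce_b_356 : ∀ r, r < 64 → sm gb (Qf (22784 + r)) = Qf (tab Gen.b (22784 + r)) :=
  edges_tab (sm gb) Qf (tab Gen.b) 22784 [(22784, 23779), (22785, 24062), (22786, 24063), (22787, 21558), (22788, 23328), (22789, 23974), (22790, 23964), (22791, 21563), (22792, 21244), (22793, 21245), (22794, 21246), (22795, 23540), (22796, 24072), (22797, 24073), (22798, 24074), (22799, 21568), (22800, 21254), (22801, 21255), (22802, 21256), (22803, 21257), (22804, 23833), (22805, 23871), (22806, 24080), (22807, 24081), (22808, 24082), (22809, 24083), (22810, 21586), (22811, 21587), (22812, 24092), (22813, 21262), (22814, 21266), (22815, 23968), (22816, 23966), (22817, 23685), (22818, 21604), (22819, 21605), (22820, 21280), (22821, 21281), (22822, 21282), (22823, 23541), (22824, 23747), (22825, 23542), (22826, 23748), (22827, 24098), (22828, 24099), (22829, 24100), (22830, 21614), (22831, 24110), (22832, 21582), (22833, 23846), (22834, 21297), (22835, 21298), (22836, 21299), (22837, 21301), (22838, 21302), (22839,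 21303), (22840, 21304), (22841, 23883), (22842, 23882), (22843, 24113), (22844, 24114), (22845, 24115), (22846, 23842), (22847, 24116)]
    ⟨e3 q22784 (flp_b L756387) q23779, e3 q22785 (flp_b L759156) q24062, e3 q22786 (flp_b L759170) q24063, e3 q22787 L745588 q21558, e3 q22788 (flp_b L750821) q23328, e3 q22789 (flp_b L758261) q23974, e3 q22790 (flp_b L758162) q23964, e3 q22791 L745624 q21563, e3 q22792 L745634 q21244, e3 q22793 L745643 q21245, e3 q22794 L745655 q21246, e3 q22795 (flp_b L753717) q23540, e3 q22796 (flp_b L759254) q24072, e3 q22797 (flp_b L759265) q24073, e3 q22798 (flp_b L759279) q24074, e3 q22799 L745710 q21568, e3 q22800 L745722 q21254, e3 q22801 L745731 q21255, e3 q22802 L745745 q21256, e3 q22803 L745755 q21257, e3 q22804 (flp_b L756942) q23833, e3 q22805 (flp_b L757361) q23871, e3 q22806 (flp_b L759337) q24080, e3 q22807 (flp_b L759344) q24081, e3 q22808 (flp_b L759360) q24082, e3 q22809 (flp_b L759366) q24083, e3 q22810 L745807 q21586, e3 q22811 L745817 q21587, e3 q22812 L759432 q24092, e3 q22813 L745833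 q21262, e3 q22814 L745847 q21266, e3 q22815 (flp_b L758201) q23968, e3 q22816 (flp_b L758180) q23966, e3 q22817 (flp_b L755346) q23685, e3 q22818 L745885 q21604, e3 q22819 L745892 q21605, e3 q22820 L745898 q21280, e3 q22821 L745910 q21281, e3 q22822 L745920 q21282, e3 q22823 (flp_b L753734) q23541, e3 q22824 (flp_b L756010) q23747, e3 q22825 (flp_b L753751) q23542, e3 q22826 (flp_b L756025) q23748, e3 q22827 (flp_b L759469) q24098, e3 q22828 (flp_b L759483) q24099, e3 q22829 (flp_b L759489) q24100, e3 q22830 L745988 q21614, e3 q22831 L759569 q24110, e3 q22832 L746006 q21582, e3 q22833 (flp_b L757092) q23846, e3 q22834 L746026 q21297, e3 q22835 L746035 q21298, e3 q22836 L746041 q21299, e3 q22837 L746049 q21301, e3 q22838 L746061 q21302, e3 q22839 L746071 q21303, e3 q22840 L746075 q21304, e3 q22841 (flp_b L757486) q23883, e3 q22842 (flp_b L757473) q23882, e3 q22843 (flp_b L759597) q24113, e3 q22844 (flp_b L759604) q24114, e3 q22845 (flp_b L759612) q24115, e3 q22846 (flp_b L757042) q23842, e3 q22847 (flp_b L759620) q24116, trivial⟩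 (by decide +kernel)

theorem ce_b_357 : ∀ r, r < 64 → sm gb (Qf (22848 + r)) = Qf (tab Gen.b (22848 + r)) :=
  edges_tab (sm gb) Qf (tab Gen.b) 22848 [(22848, 24117), (22849, 24130), (22850, 24119), (22851, 23945), (22852, 21635), (22853, 21636), (22854, 24135), (22855, 21308), (22856, 21594), (22857, 21599), (22858, 21315), (22859, 21316), (22860, 24139), (22861, 23943), (22862, 21595), (22863, 21600), (22864, 21324), (22865, 21325), (22866, 24061), (22867, 23373), (22868, 24143), (22869, 21331), (22870, 23369), (22871, 23687), (22872, 21338), (22873, 23543), (22874, 23749), (22875, 23969), (22876, 23959), (22877, 21343), (22878, 21344), (22879, 21345), (22880, 24151), (22881, 24152), (22882, 23960), (22883, 23951), (22884, 23460), (22885, 23459), (22886, 23462), (22887, 23159), (22888, 21414), (22889, 21409), (22890, 23615), (22891, 23623), (22892, 23978), (22893, 23575), (22894, 21375), (22895, 24161), (22896, 23584), (22897, 23604), (22898, 23605), (22899, 23606), (22900, 23607), (22901, 23975), (22902, 23561), (22903,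 23189), (22904, 23630), (22905, 23631), (22906, 23632), (22907, 23633), (22908, 23634), (22909, 23635), (22910, 23636), (22911, 21417)]
    ⟨e3 q22848 (flp_b L759634) q24117, e3 q22849 L759708 q24130, e3 q22850 (flp_b L759644) q24119, e3 q22851 (flp_b L757984) q23945, e3 q22852 L746148 q21635, e3 q22853 L746156 q21636, e3 q22854 L759730 q24135, e3 q22855 (flp_b L746164) q21308, e3 q22856 L746172 q21594, e3 q22857 L746185 q21599, e3 q22858 L746198 q21315, e3 q22859 L746210 q21316, e3 q22860 (flp_b L759768) q24139, e3 q22861 L757972 q23943, e3 q22862 L746237 q21595, e3 q22863 L746251 q21600, e3 q22864 L746262 q21324, e3 q22865 L746274 q21325, e3 q22866 (flp_b L759144) q24061, e3 q22867 (flp_b L751406) q23373, e3 q22868 (flp_b L759804) q24143, e3 q22869 L746301 q21331, e3 q22870 (flp_b L751350) q23369, e3 q22871 (flp_b L755360) q23687, e3 q22872 L746327 q21338, e3 q22873 (flp_b L753765) q23543, e3 q22874 (flp_b L756039) q23749, e3 q22875 (flp_b L758216) q23969, e3 q22876 (flp_b L758108) q23959, e3 q22877 L746364 q21343, e3 q22878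 L746371 q21344, e3 q22879 L746378 q21345, e3 q22880 (flp_b L759854) q24151, e3 q22881 (flp_b L759862) q24152, e3 q22882 (flp_b L758119) q23960, e3 q22883 L758044 q23951, e3 q22884 (flp_b L752569) q23460, e3 q22885 (flp_b L752551) q23459, e3 q22886 (flp_b L752608) q23462, e3 q22887 (flp_b L748326) q23159, e3 q22888 L746442 q21414, e3 q22889 L746456 q21409, e3 q22890 (flp_b L754659) q23615, e3 q22891 (flp_b L754738) q23623, e3 q22892 (flp_b L758315) q23978, e3 q22893 (flp_b L754171) q23575, e3 q22894 L746506 q21375, e3 q22895 (flp_b L759940) q24161, e3 q22896 (flp_b L754292) q23584, e3 q22897 (flp_b L754524) q23604, e3 q22898 (flp_b L754541) q23605, e3 q22899 (flp_b L754554) q23606, e3 q22900 (flp_b L754566) q23607, e3 q22901 (flp_b L758273) q23975, e3 q22902 (flp_b L754021) q23561, e3 q22903 (flp_b L748805) q23189, e3 q22904 (flp_b L754794) q23630, e3 q22905 (flp_b L754809) q23631, e3 q22906 (flp_b L754824) q23632, e3 q22907 (flp_b L754836) q23633, e3 q22908 (flp_b L754846) q23634, e3 q22909 (flp_b L754858) q23635, e3 q22910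 (flp_b L754864) q23636, e3 q22911 L746630 q21417, trivial⟩ (by decide +kernel)

theorem ce_b_358 : ∀ r, r < 64 → sm gb (Qf (22912 + r)) = Qf (tab Gen.b (22912 + r)) :=
  edges_tab (sm gb) Qf (tab Gen.b) 22912 [(22912, 24179), (22913, 23661), (22914, 23578), (22915, 23581), (22916, 23177), (22917, 23676), (22918, 23677), (22919, 23678), (22920, 23583), (22921, 23178), (22922, 23592), (22923, 23608), (22924, 23621), (22925, 24156), (22926, 23474), (22927, 24155), (22928, 23637), (22929, 23662), (22930, 24196), (22931, 23482), (22932, 23487), (22933, 21425), (22934, 21426), (22935, 23705), (22936, 23714), (22937, 24197), (22938, 24198), (22939, 24204), (22940, 21429), (22941, 24205), (22942, 23483), (22943, 23485), (22944, 23618), (22945, 23981), (22946, 21437), (22947, 21438), (22948, 24210), (22949, 24211), (22950, 24214), (22951, 23565), (22952, 23519), (22953, 21447), (22954, 21449), (22955, 21450), (22956, 21451), (22957, 23738), (22958, 24217), (22959, 23494), (22960, 24218), (22961, 24228), (22962, 24220), (22963, 24221),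 (22964, 23603), (22965, 23991), (22966, 24233), (22967, 21455), (22968, 21463), (22969, 23521), (22970, 23486), (22971, 21467), (22972, 23528), (22973, 21473), (22974, 21474), (22975, 21475)]
    ⟨e3 q22912 L760052 q24179, e3 q22913 (flp_b L755093) q23661, e3 q22914 (flp_b L754217) q23578, e3 q22915 (flp_b L754260) q23581, e3 q22916 (flp_b L748626) q23177, e3 q22917 (flp_b L755234) q23676, e3 q22918 (flp_b L755247) q23677, e3 q22919 (flp_b L755256) q23678, e3 q22920 (flp_b L754272) q23583, e3 q22921 (flp_b L748641) q23178, e3 q22922 (flp_b L754392) q23592, e3 q22923 (flp_b L754577) q23608, e3 q22924 (flp_b L754708) q23621, e3 q22925 (flp_b L759896) q24156, e3 q22926 (flp_b L752811) q23474, e3 q22927 (flp_b L759880) q24155, e3 q22928 (flp_b L754872) q23637, e3 q22929 (flp_b L755102) q23662, e3 q22930 L760163 q24196, e3 q22931 (flp_b L752935) q23482, e3 q22932 (flp_b L753010) q23487, e3 q22933 L746783 q21425, e3 q22934 L746791 q21426, e3 q22935 (flp_b L755563) q23705, e3 q22936 (flp_b L755674) q23714, e3 q22937 (flp_b L760169)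 q24197, e3 q22938 (flp_b L760175) q24198, e3 q22939 L760208 q24204, e3 q22940 L746821 q21429, e3 q22941 (flp_b L760214) q24205, e3 q22942 (flp_b L752951) q23483, e3 q22943 (flp_b L752977) q23485, e3 q22944 (flp_b L754684) q23618, e3 q22945 (flp_b L758347) q23981, e3 q22946 L746863 q21437, e3 q22947 L746871 q21438, e3 q22948 (flp_b L760245) q24210, e3 q22949 (flp_b L760251) q24211, e3 q22950 L760269 q24214, e3 q22951 (flp_b L754067) q23565, e3 q22952 (flp_b L753418) q23519, e3 q22953 L746911 q21447, e3 q22954 L746917 q21449, e3 q22955 L746925 q21450, e3 q22956 L746929 q21451, e3 q22957 (flp_b L755928) q23738, e3 q22958 (flp_b L760287) q24217, e3 q22959 (flp_b L753105) q23494, e3 q22960 (flp_b L760293) q24218, e3 q22961 L760347 q24228, e3 q22962 (flp_b L760301) q24220, e3 q22963 (flp_b L760307) q24221, e3 q22964 (flp_b L754510) q23603, e3 q22965 (flp_b L758454) q23991, e3 q22966 L760371 q24233, e3 q22967 (flp_b L746989) q21455, e3 q22968 L746995 q21463, e3 q22969 L753458 q23521, e3 q22970 (flp_b L752993) q23486, e3 q22971 L747014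 q21467, e3 q22972 (flp_b L753548) q23528, e3 q22973 L747026 q21473, e3 q22974 L747034 q21474, e3 q22975 L747041 q21475, trivial⟩ (by decide +kernel)

theorem ce_b_359 : ∀ r, r < 64 → sm gb (Qf (22976 + r)) = Qf (tab Gen.b (22976 + r)) :=
  edges_tab (sm gb) Qf (tab Gen.b) 22976 [(22976, 23739), (22977, 24235), (22978, 23524), (22979, 23544), (22980, 23545), (22981, 24029), (22982, 24240), (22983, 23999), (22984, 23302), (22985, 24000), (22986, 21529), (22987, 24245), (22988, 23745), (22989, 23746), (22990, 21532), (22991, 23986), (22992, 23987), (22993, 21500), (22994, 21501), (22995, 23752), (22996, 23753), (22997, 24251), (22998, 24252), (22999, 21533), (23000, 21537), (23001, 24259), (23002, 21509), (23003, 21510), (23004, 21511), (23005, 21512), (23006, 24260), (23007, 24261), (23008, 24262), (23009, 24268), (23010, 24269), (23011, 21514), (23012, 21517), (23013, 21518), (23014, 24271), (23015, 21522), (23016, 24273), (23017, 23236), (23018, 23237), (23019, 23716), (23020, 23720), (23021, 24278), (23022, 23885), (23023,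 24248), (23024, 24257), (23025, 21536), (23026, 24282), (23027, 24284), (23028, 21617), (23029, 21543), (23030, 21544), (23031, 23878), (23032, 24286), (23033, 24290), (23034, 21545), (23035, 21629), (23036, 21651), (23037, 21555), (23038, 21556), (23039, 21557)]
    ⟨e3 q22976 (flp_b L755940) q23739, e3 q22977 (flp_b L760383) q24235, e3 q22978 (flp_b L753487) q23524, e3 q22979 (flp_b L753780) q23544, e3 q22980 (flp_b L753793) q23545, e3 q22981 (flp_b L758844) q24029, e3 q22982 L760415 q24240, e3 q22983 (flp_b L758538) q23999, e3 q22984 (flp_b L750435) q23302, e3 q22985 (flp_b L758554) q24000, e3 q22986 L747115 q21529, e3 q22987 L760447 q24245, e3 q22988 (flp_b L755981) q23745, e3 q22989 (flp_b L755996) q23746, e3 q22990 L747144 q21532, e3 q22991 (flp_b L758403) q23986, e3 q22992 (flp_b L758418) q23987, e3 q22993 L747164 q21500, e3 q22994 L747176 q21501, e3 q22995 (flp_b L756071) q23752, e3 q22996 (flp_b L756086) q23753, e3 q22997 (flp_b L760487) q24251, e3 q22998 (flp_b L760499) q24252, e3 q22999 L747213 q21533, e3 q23000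 L747223 q21537, e3 q23001 L760542 q24259, e3 q23002 L747239 q21509, e3 q23003 L747250 q21510, e3 q23004 L747260 q21511, e3 q23005 L747270 q21512, e3 q23006 (flp_b L760552) q24260, e3 q23007 (flp_b L760563) q24261, e3 q23008 (flp_b L760573) q24262, e3 q23009 L760599 q24268, e3 q23010 L760603 q24269, e3 q23011 (flp_b L747293) q21514, e3 q23012 L747299 q21517, e3 q23013 L747309 q21518, e3 q23014 (flp_b L760615) q24271, e3 q23015 L747324 q21522, e3 q23016 (flp_b L760629) q24273, e3 q23017 (flp_b L749508) q23236, e3 q23018 (flp_b L749522) q23237, e3 q23019 (flp_b L755693) q23716, e3 q23020 (flp_b L755739) q23720, e3 q23021 L760656 q24278, e3 q23022 (flp_b L757508) q23885, e3 q23023 (flp_b L760466) q24248, e3 q23024 (flp_b L760530) q24257, e3 q23025 L747393 q21536, e3 q23026 (flp_b L760680) q24282, e3 q23027 L760692 q24284, e3 q23028 L747415 q21617, e3 q23029 L747421 q21543, e3 q23030 L747427 q21544, e3 q23031 (flp_b L757426) q23878, e3 q23032 (flp_b L760704) q24286, e3 q23033 L760722 q24290, e3 q23034 (flp_b L747449) q21545, e3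 q23035 L747455 q21629, e3 q23036 L747465 q21651, e3 q23037 L747473 q21555, e3 q23038 L747481 q21556, e3 q23039 L747487 q21557, trivial⟩ (by decide +kernel)

theorem ce_b_360 : ∀ r, r < 64 → sm gb (Qf (23040 + r)) = Qf (tab Gen.b (23040 + r)) :=
  edges_tab (sm gb) Qf (tab Gen.b) 23040 [(23040, 23887), (23041, 24294), (23042, 24295), (23043, 24297), (23044, 24302), (23045, 23349), (23046, 23965), (23047, 23825), (23048, 24071), (23049, 21567), (23050, 23781), (23051, 24307), (23052, 24310), (23053, 23404), (23054, 23836), (23055, 21578), (23056, 21580), (23057, 21583), (23058, 21584), (23059, 23589), (23060, 23806), (23061, 23768), (23062, 24313), (23063, 23769), (23064, 24314), (23065, 23818), (23066, 24111), (23067, 24315), (23068, 24327), (23069, 23803), (23070, 24090), (23071, 24330), (23072, 21588), (23073, 21591), (23074, 21596), (23075, 23261), (23076, 24137), (23077, 24142), (23078, 24334), (23079, 24138), (23080, 23967), (23081, 23912), (23082, 23601), (23083, 24096), (23084, 24342), (23085, 21609), (23086, 21610),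 (23087, 21633), (23088, 24343), (23089, 24348), (23090, 21628), (23091, 21626), (23092, 23593), (23093, 23602), (23094, 24354), (23095, 21615), (23096, 24003), (23097, 24285), (23098, 21624), (23099, 21630), (23100, 21631), (23101, 24361), (23102, 23770), (23103, 24351)]
    ⟨e3 q23040 (flp_b L757526) q23887, e3 q23041 (flp_b L760754) q24294, e3 q23042 (flp_b L760760) q24295, e3 q23043 (flp_b L760770) q24297, e3 q23044 L760794 q24302, e3 q23045 (flp_b L751093) q23349, e3 q23046 (flp_b L758168) q23965, e3 q23047 (flp_b L756863) q23825, e3 q23048 (flp_b L759244) q24071, e3 q23049 L747547 q21567, e3 q23050 (flp_b L756407) q23781, e3 q23051 (flp_b L760827) q24307, e3 q23052 L760849 q24310, e3 q23053 (flp_b L751815) q23404, e3 q23054 (flp_b L756984) q23836, e3 q23055 L747589 q21578, e3 q23056 L747598 q21580, e3 q23057 L747604 q21583, e3 q23058 L747614 q21584, e3 q23059 (flp_b L754352) q23589, e3 q23060 (flp_b L756664) q23806, e3 q23061 (flp_b L756260) q23768, e3 q23062 (flp_b L760869) q24313, e3 q23063 (flp_b L756273) q23769,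 e3 q23064 (flp_b L760876) q24314, e3 q23065 (flp_b L756795) q23818, e3 q23066 (flp_b L759579) q24111, e3 q23067 (flp_b L760882) q24315, e3 q23068 L760957 q24327, e3 q23069 (flp_b L756623) q23803, e3 q23070 (flp_b L759414) q24090, e3 q23071 L760975 q24330, e3 q23072 (flp_b L747704) q21588, e3 q23073 L747710 q21591, e3 q23074 L747722 q21596, e3 q23075 (flp_b L749849) q23261, e3 q23076 (flp_b L759744) q24137, e3 q23077 (flp_b L759793) q24142, e3 q23078 (flp_b L761006) q24334, e3 q23079 (flp_b L759758) q24138, e3 q23080 (flp_b L758192) q23967, e3 q23081 (flp_b L757724) q23912, e3 q23082 (flp_b L754489) q23601, e3 q23083 (flp_b L759459) q24096, e3 q23084 L761052 q24342, e3 q23085 L747800 q21609, e3 q23086 L747810 q21610, e3 q23087 L747820 q21633, e3 q23088 (flp_b L761058) q24343, e3 q23089 L761096 q24348, e3 q23090 L747842 q21628, e3 q23091 L747852 q21626, e3 q23092 (flp_b L754403) q23593, e3 q23093 (flp_b L754500) q23602, e3 q23094 L761138 q24354, e3 q23095 (flp_b L747878) q21615, e3 q23096 (flp_b L758590) q24003, e3 q23097 (flp_b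 L760700) q24285, e3 q23098 L747896 q21624, e3 q23099 L747906 q21630, e3 q23100 L747914 q21631, e3 q23101 L761174 q24361, e3 q23102 (flp_b L756285) q23770, e3 q23103 (flp_b L761122) q24351, trivial⟩ (by decide +kernel)

theorem ce_b_361 : ∀ r, r < 64 → sm gb (Qf (23104 + r)) = Qf (tab Gen.b (23104 + r)) :=
  edges_tab (sm gb) Qf (tab Gen.b) 23104 [(23104, 23771), (23105, 24350), (23106, 23772), (23107, 24368), (23108, 24292), (23109, 24358), (23110, 24372), (23111, 24360), (23112, 21632), (23113, 24376), (23114, 23313), (23115, 24133), (23116, 24379), (23117, 21637), (23118, 24291), (23119, 23440), (23120, 21643), (23121, 23936), (23122, 24382), (23123, 21685), (23124, 21683), (23125, 21652), (23126, 23946), (23127, 21653), (23128, 24293), (23129, 24385), (23130, 23314), (23131, 21657), (23132, 23272), (23133, 21663), (23134, 23854), (23135, 24009), (23136, 21688), (23137, 21669), (23138, 21670), (23139, 23268), (23140, 21671), (23141, 23927), (23142, 24390), (23143, 24391), (23144, 23856), (23145, 21687), (23146, 21689),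 (23147, 23788), (23148, 24384), (23149, 23789), (23150, 24383), (23151, 24396), (23152, 24389), (23153, 21693), (23154, 23956), (23155, 21697), (23156, 23961), (23157, 23259), (23158, 22053), (23159, 22887), (23160, 21711), (23161, 22132), (23162, 22133), (23163, 22137), (23164, 22138), (23165, 22110), (23166, 22146), (23167, 22289)]
    ⟨e3 q23104 (flp_b L756297) q23771, e3 q23105 (flp_b L761112) q24350, e3 q23106 (flp_b L756313) q23772, e3 q23107 L761214 q24368, e3 q23108 (flp_b L760734) q24292, e3 q23109 (flp_b L761160) q24358, e3 q23110 L761234 q24372, e3 q23111 (flp_b L761170) q24360, e3 q23112 (flp_b L747976) q21632, e3 q23113 (flp_b L761256) q24376, e3 q23114 (flp_b L750599) q23313, e3 q23115 (flp_b L759722) q24133, e3 q23116 L761266 q24379, e3 q23117 (flp_b L747996) q21637, e3 q23118 (flp_b L760728) q24291, e3 q23119 (flp_b L752236) q23440, e3 q23120 L748012 q21643, e3 q23121 (flp_b L757909) q23936, e3 q23122 (flp_b L761284) q24382, e3 q23123 L748037 q21685, e3 q23124 L748047 q21683, e3 q23125 L748054 q21652, e3 q23126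 (flp_b L758004) q23946, e3 q23127 L748070 q21653, e3 q23128 (flp_b L760744) q24293, e3 q23129 (flp_b L761313) q24385, e3 q23130 (flp_b L750613) q23314, e3 q23131 L748100 q21657, e3 q23132 (flp_b L749986) q23272, e3 q23133 L748116 q21663, e3 q23134 (flp_b L757164) q23854, e3 q23135 (flp_b L758640) q24009, e3 q23136 L748144 q21688, e3 q23137 L748153 q21669, e3 q23138 L748158 q21670, e3 q23139 (flp_b L749941) q23268, e3 q23140 L748170 q21671, e3 q23141 (flp_b L757825) q23927, e3 q23142 (flp_b L761353) q24390, e3 q23143 (flp_b L761360) q24391, e3 q23144 (flp_b L757191) q23856, e3 q23145 L748197 q21687, e3 q23146 L748205 q21689, e3 q23147 (flp_b L756467) q23788, e3 q23148 (flp_b L761304) q24384, e3 q23149 (flp_b L756480) q23789, e3 q23150 (flp_b L761294) q24383, e3 q23151 (flp_b L761386) q24396, e3 q23152 (flp_b L761346) q24389, e3 q23153 L748255 q21693, e3 q23154 (flp_b L758087) q23956, e3 q23155 L748274 q21697, e3 q23156 (flp_b L758131) q23961, e3 q23157 (flp_b L749825) q23259, e3 q23158 L748295 q22053, e3 q23159 L748326 q22887,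 e3 q23160 (flp_b L748330) q21711, e3 q23161 L748354 q22132, e3 q23162 L748372 q22133, e3 q23163 L748388 q22137, e3 q23164 L748404 q22138, e3 q23165 L748421 q22110, e3 q23166 L748439 q22146, e3 q23167 L748455 q22289, trivial⟩ (by decide +kernel)

theorem ce_b_362 : ∀ r, r < 64 → sm gb (Qf (23168 + r)) = Qf (tab Gen.b (23168 + r)) :=
  edges_tab (sm gb) Qf (tab Gen.b) 23168 [(23168, 22290), (23169, 22153), (23170, 22154), (23171, 22111), (23172, 22100), (23173, 21733), (23174, 21734), (23175, 24411), (23176, 22158), (23177, 22916), (23178, 22921), (23179, 22164), (23180, 21745), (23181, 24415), (23182, 22265), (23183, 22275), (23184, 22276), (23185, 22284), (23186, 22285), (23187, 22288), (23188, 22298), (23189, 22903), (23190, 22316), (23191, 22317), (23192, 22318), (23193, 24428), (23194, 22331), (23195, 22332), (23196, 24430), (23197, 22334), (23198, 21765), (23199, 22340), (23200, 21771), (23201, 24432), (23202, 22373), (23203, 22374), (23204, 22375), (23205, 21777), (23206, 21778), (23207, 22254), (23208, 22253), (23209,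 24436), (23210, 24437), (23211, 22378), (23212, 22379), (23213, 22381), (23214, 22382), (23215, 22742), (23216, 22744), (23217, 22760), (23218, 22119), (23219, 22383), (23220, 22384), (23221, 21919), (23222, 22752), (23223, 22754), (23224, 22764), (23225, 22385), (23226, 22386), (23227, 22761), (23228, 22120), (23229, 22387), (23230, 22388), (23231, 22449)]
    ⟨e3 q23168 L748473 q22290, e3 q23169 L748489 q22153, e3 q23170 L748501 q22154, e3 q23171 L748513 q22111, e3 q23172 L748531 q22100, e3 q23173 L748551 q21733, e3 q23174 L748568 q21734, e3 q23175 (flp_b L761572) q24411, e3 q23176 L748602 q22158, e3 q23177 L748626 q22916, e3 q23178 L748641 q22921, e3 q23179 L748648 q22164, e3 q23180 L748663 q21745, e3 q23181 (flp_b L761639) q24415, e3 q23182 L748697 q22265, e3 q23183 L748715 q22275, e3 q23184 L748733 q22276, e3 q23185 L748745 q22284, e3 q23186 L748761 q22285, e3 q23187 L748776 q22288, e3 q23188 L748793 q22298, e3 q23189 L748805 q22903, e3 q23190 L748823 q22316, e3 q23191 L748841 q22317, e3 q23192 L748857 q22318, e3 q23193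 L761833 q24428, e3 q23194 L748875 q22331, e3 q23195 L748891 q22332, e3 q23196 L761857 q24430, e3 q23197 L748923 q22334, e3 q23198 (flp_b L748929) q21765, e3 q23199 L748951 q22340, e3 q23200 (flp_b L748964) q21771, e3 q23201 (flp_b L761893) q24432, e3 q23202 L748994 q22373, e3 q23203 L749011 q22374, e3 q23204 L749027 q22375, e3 q23205 L749044 q21777, e3 q23206 L749062 q21778, e3 q23207 L749076 q22254, e3 q23208 L749093 q22253, e3 q23209 (flp_b L761958) q24436, e3 q23210 (flp_b L761976) q24437, e3 q23211 L749135 q22378, e3 q23212 L749148 q22379, e3 q23213 L749160 q22381, e3 q23214 L749178 q22382, e3 q23215 L749195 q22742, e3 q23216 L749212 q22744, e3 q23217 L749228 q22760, e3 q23218 L749244 q22119, e3 q23219 L749262 q22383, e3 q23220 L749276 q22384, e3 q23221 L749288 q21919, e3 q23222 L749305 q22752, e3 q23223 L749318 q22754, e3 q23224 L749334 q22764, e3 q23225 L749349 q22385, e3 q23226 L749365 q22386, e3 q23227 L749377 q22761, e3 q23228 L749391 q22120, e3 q23229 L749405 q22387, e3 q23230 L749419 q22388, e3 q23231 L749433 q22449,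 trivial⟩ (by decide +kernel)

theorem ce_b_363 : ∀ r, r < 64 → sm gb (Qf (23232 + r)) = Qf (tab Gen.b (23232 + r)) :=
  edges_tab (sm gb) Qf (tab Gen.b) 23232 [(23232, 22389), (23233, 22649), (23234, 22393), (23235, 22709), (23236, 23017), (23237, 23018), (23238, 22376), (23239, 22395), (23240, 22396), (23241, 21815), (23242, 21816), (23243, 21818), (23244, 21819), (23245, 21918), (23246, 22729), (23247, 24471), (23248, 24472), (23249, 22730), (23250, 24473), (23251, 24474), (23252, 22403), (23253, 24485), (23254, 22710), (23255, 22733), (23256, 22479), (23257, 22377), (23258, 22405), (23259, 23157), (23260, 22731), (23261, 23075), (23262, 22481), (23263, 22482), (23264, 24496), (23265, 22409), (23266, 21833), (23267, 22411), (23268, 23139), (23269, 22412), (23270, 21840), (23271, 24501), (23272, 23132), (23273, 21848), (23274, 21849), (23275, 21850), (23276, 21851), (23277, 24504), (23278, 24505), (23279, 24506), (23280, 22487), (23281, 22485), (23282, 21879), (23283, 21880), (23284, 21885), (23285, 22440), (23286, 22445),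 (23287, 21889), (23288, 21890), (23289, 21891), (23290, 22441), (23291, 22446), (23292, 21892), (23293, 22435), (23294, 22443), (23295, 22448)]
    ⟨e3 q23232 L749448 q22389, e3 q23233 L749468 q22649, e3 q23234 L749476 q22393, e3 q23235 L749492 q22709, e3 q23236 L749508 q23017, e3 q23237 L749522 q23018, e3 q23238 L749538 q22376, e3 q23239 L749554 q22395, e3 q23240 L749566 q22396, e3 q23241 L749576 q21815, e3 q23242 L749594 q21816, e3 q23243 L749612 q21818, e3 q23244 L749630 q21819, e3 q23245 L749648 q21918, e3 q23246 L749665 q22729, e3 q23247 (flp_b L762464) q24471, e3 q23248 (flp_b L762482) q24472, e3 q23249 L749706 q22730, e3 q23250 (flp_b L762498) q24473, e3 q23251 (flp_b L762512) q24474, e3 q23252 L749738 q22403, e3 q23253 L762642 q24485, e3 q23254 L749756 q22710, e3 q23255 L749770 q22733, e3 q23256 L749782 q22479, e3 q23257 L749795 q22377, e3 q23258 L749806 q22405, e3 q23259 L749825 q23157, e3 q23260 L749831 q22731, e3 q23261 L749849 q23075, e3 q23262 L749859 q22481, e3 q23263 L749874 q22482, e3 q23264 (flp_b L762789)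 q24496, e3 q23265 L749894 q22409, e3 q23266 (flp_b L749902) q21833, e3 q23267 L749924 q22411, e3 q23268 L749941 q23139, e3 q23269 L749948 q22412, e3 q23270 (flp_b L749957) q21840, e3 q23271 (flp_b L762860) q24501, e3 q23272 L749986 q23132, e3 q23273 L750001 q21848, e3 q23274 L750015 q21849, e3 q23275 L750028 q21850, e3 q23276 L750042 q21851, e3 q23277 (flp_b L762902) q24504, e3 q23278 (flp_b L762917) q24505, e3 q23279 (flp_b L762932) q24506, e3 q23280 L750096 q22487, e3 q23281 L750107 q22485, e3 q23282 L750119 q21879, e3 q23283 L750137 q21880, e3 q23284 L750155 q21885, e3 q23285 L750171 q22440, e3 q23286 L750189 q22445, e3 q23287 L750203 q21889, e3 q23288 L750220 q21890, e3 q23289 L750234 q21891, e3 q23290 L750249 q22441, e3 q23291 L750265 q22446, e3 q23292 L750279 q21892, e3 q23293 L750291 q22435, e3 q23294 L750308 q22443, e3 q23295 L750324 q22448, trivial⟩ (by decide +kernel)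

theorem ce_b_364 : ∀ r, r < 64 → sm gb (Qf (23296 + r)) = Qf (tab Gen.b (23296 + r)) :=
  edges_tab (sm gb) Qf (tab Gen.b) 23296 [(23296, 21897), (23297, 21898), (23298, 22447), (23299, 21901), (23300, 21906), (23301, 22424), (23302, 22984), (23303, 24511), (23304, 22467), (23305, 22470), (23306, 22480), (23307, 22425), (23308, 24512), (23309, 22426), (23310, 24515), (23311, 24516), (23312, 24519), (23313, 23114), (23314, 23130), (23315, 22149), (23316, 22368), (23317, 24523), (23318, 24544), (23319, 22166), (23320, 22371), (23321, 24525), (23322, 22370), (23323, 22167), (23324, 22372), (23325, 21910), (23326, 21911), (23327, 22512), (23328, 22788), (23329, 24548), (23330, 24549), (23331, 22500), (23332, 22501), (23333, 22502), (23334, 22246), (23335, 22247), (23336, 21920), (23337, 21921), (23338, 24475), (23339, 24451), (23340, 24559), (23341, 24560), (23342, 22517), (23343, 22518), (23344, 22521), (23345, 22522), (23346, 22523), (23347, 21930), (23348, 21931), (23349, 23045), (23350, 24570), (23351, 24571), (23352, 22530),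 (23353, 22531), (23354, 22532), (23355, 21940), (23356, 21942), (23357, 21943), (23358, 22519), (23359, 22568)]
    ⟨e3 q23296 L750339 q21897, e3 q23297 L750357 q21898, e3 q23298 L750367 q22447, e3 q23299 L750383 q21901, e3 q23300 L750401 q21906, e3 q23301 L750418 q22424, e3 q23302 L750435 q22984, e3 q23303 (flp_b L763002) q24511, e3 q23304 L750463 q22467, e3 q23305 L750480 q22470, e3 q23306 L750498 q22480, e3 q23307 L750515 q22425, e3 q23308 (flp_b L763020) q24512, e3 q23309 L750543 q22426, e3 q23310 (flp_b L763069) q24515, e3 q23311 (flp_b L763086) q24516, e3 q23312 (flp_b L763131) q24519, e3 q23313 L750599 q23114, e3 q23314 L750613 q23130, e3 q23315 L750629 q22149, e3 q23316 L750647 q22368, e3 q23317 (flp_b L763189) q24523, e3 q23318 L763484 q24544, e3 q23319 L750681 q22166, e3 q23320 L750697 q22371, e3 q23321 (flp_b L763213) q24525, e3 q23322 L750725 q22370, e3 q23323 L750742 q22167, e3 q23324 L750757 q22372, e3 q23325 L750772 q21910, e3 q23326 L750790 q21911, e3 q23327 L750804 q22512, e3 q23328 L750821 q22788, e3 q23329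 (flp_b L763545) q24548, e3 q23330 (flp_b L763563) q24549, e3 q23331 L750863 q22500, e3 q23332 L750880 q22501, e3 q23333 L750891 q22502, e3 q23334 L750905 q22246, e3 q23335 L750923 q22247, e3 q23336 L750935 q21920, e3 q23337 L750945 q21921, e3 q23338 (flp_b L762530) q24475, e3 q23339 (flp_b L762196) q24451, e3 q23340 (flp_b L763713) q24559, e3 q23341 (flp_b L763725) q24560, e3 q23342 L751000 q22517, e3 q23343 L751011 q22518, e3 q23344 L751023 q22521, e3 q23345 L751038 q22522, e3 q23346 L751049 q22523, e3 q23347 L751063 q21930, e3 q23348 L751079 q21931, e3 q23349 L751093 q23045, e3 q23350 (flp_b L763838) q24570, e3 q23351 (flp_b L763854) q24571, e3 q23352 L751131 q22530, e3 q23353 L751145 q22531, e3 q23354 L751159 q22532, e3 q23355 L751169 q21940, e3 q23356 L751186 q21942, e3 q23357 L751202 q21943, e3 q23358 L751217 q22519, e3 q23359 L751233 q22568, trivial⟩ (by decide +kernel)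

theorem ce_b_365 : ∀ r, r < 64 → sm gb (Qf (23360 + r)) = Qf (tab Gen.b (23360 + r)) :=
  edges_tab (sm gb) Qf (tab Gen.b) 23360 [(23360, 24578), (23361, 22595), (23362, 24579), (23363, 24580), (23364, 22542), (23365, 22543), (23366, 22544), (23367, 24592), (23368, 21949), (23369, 22870), (23370, 22550), (23371, 22551), (23372, 22648), (23373, 22867), (23374, 22556), (23375, 22557), (23376, 22637), (23377, 22559), (23378, 22562), (23379, 22195), (23380, 22571), (23381, 22572), (23382, 22573), (23383, 22527), (23384, 22547), (23385, 21969), (23386, 21970), (23387, 24606), (23388, 24607), (23389, 22591), (23390, 22592), (23391, 22593), (23392, 24615), (23393, 22536), (23394, 22540), (23395, 22555), (23396, 21983), (23397, 21984), (23398, 21987), (23399, 21988), (23400, 21989), (23401, 24619), (23402, 24620), (23403, 22537), (23404, 23053), (23405, 24621), (23406, 24631), (23407, 24623), (23408, 24624), (23409, 22616), (23410, 22617), (23411, 24638), (23412, 22619), (23413, 21993), (23414, 22548), (23415, 21996), (23416, 24641),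 (23417, 22628), (23418, 22629), (23419, 24645), (23420, 22631), (23421, 22000), (23422, 22006), (23423, 22678)]
    ⟨e3 q23360 (flp_b L763935) q24578, e3 q23361 L751255 q22595, e3 q23362 (flp_b L763952) q24579, e3 q23363 (flp_b L763964) q24580, e3 q23364 L751286 q22542, e3 q23365 L751304 q22543, e3 q23366 L751318 q22544, e3 q23367 L764105 q24592, e3 q23368 L751334 q21949, e3 q23369 L751350 q22870, e3 q23370 L751364 q22550, e3 q23371 L751379 q22551, e3 q23372 (flp_b L751400) q22648, e3 q23373 L751406 q22867, e3 q23374 L751419 q22556, e3 q23375 L751435 q22557, e3 q23376 (flp_b L751459) q22637, e3 q23377 L751463 q22559, e3 q23378 L751472 q22562, e3 q23379 L751488 q22195, e3 q23380 L751505 q22571, e3 q23381 L751518 q22572, e3 q23382 L751527 q22573, e3 q23383 L751537 q22527, e3 q23384 L751555 q22547, e3 q23385 L751569 q21969, e3 q23386 L751581 q21970, e3 q23387 (flp_b L764297) q24606, e3 q23388 (flp_b L764307) q24607, e3 q23389 L751611 q22591, e3 q23390 L751627 q22592, e3 q23391 L751639 q22593, e3 q23392 L764395 q24615, e3 q23393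 L751655 q22536, e3 q23394 L751673 q22540, e3 q23395 L751689 q22555, e3 q23396 L751705 q21983, e3 q23397 L751721 q21984, e3 q23398 L751737 q21987, e3 q23399 L751753 q21988, e3 q23400 L751759 q21989, e3 q23401 (flp_b L764451) q24619, e3 q23402 (flp_b L764467) q24620, e3 q23403 L751797 q22537, e3 q23404 L751815 q23053, e3 q23405 (flp_b L764481) q24621, e3 q23406 L764611 q24631, e3 q23407 (flp_b L764503) q24623, e3 q23408 (flp_b L764513) q24624, e3 q23409 L751861 q22616, e3 q23410 L751871 q22617, e3 q23411 L764669 q24638, e3 q23412 L751883 q22619, e3 q23413 (flp_b L751887) q21993, e3 q23414 L751897 q22548, e3 q23415 L751914 q21996, e3 q23416 (flp_b L764689) q24641, e3 q23417 L751941 q22628, e3 q23418 L751956 q22629, e3 q23419 L764745 q24645, e3 q23420 L751983 q22631, e3 q23421 (flp_b L751989) q22000, e3 q23422 L752010 q22006, e3 q23423 L752026 q22678, trivial⟩ (by decide +kernel)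

theorem ce_b_366 : ∀ r, r < 64 → sm gb (Qf (23424 + r)) = Qf (tab Gen.b (23424 + r)) :=
  edges_tab (sm gb) Qf (tab Gen.b) 23424 [(23424, 22408), (23425, 22641), (23426, 22643), (23427, 22009), (23428, 24648), (23429, 22651), (23430, 22653), (23431, 22017), (23432, 24652), (23433, 22726), (23434, 22658), (23435, 22725), (23436, 22024), (23437, 24655), (23438, 22028), (23439, 24654), (23440, 23119), (23441, 22040), (23442, 22035), (23443, 22036), (23444, 22037), (23445, 22038), (23446, 24657), (23447, 24658), (23448, 24653), (23449, 22415), (23450, 22671), (23451, 22084), (23452, 22684), (23453, 22051), (23454, 22059), (23455, 22065), (23456, 22068), (23457, 22064), (23458, 22085), (23459, 22885), (23460, 22884), (23461, 22069), (23462, 22886), (23463, 22079), (23464, 22077), (23465, 22086), (23466, 22108), (23467, 22109), (23468, 22113), (23469, 22211), (23470, 22212), (23471, 22312), (23472, 22326), (23473, 22698), (23474, 22926), (23475, 22337), (23476, 22706), (23477, 22708), (23478, 22191), (23479, 22192), (23480, 24662),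 (23481, 24405), (23482, 22931), (23483, 22942), (23484, 24663), (23485, 22943), (23486, 22970), (23487, 22932)]
    ⟨e3 q23424 L752044 q22408, e3 q23425 L752058 q22641, e3 q23426 L752068 q22643, e3 q23427 (flp_b L752074) q22009, e3 q23428 (flp_b L764789) q24648, e3 q23429 L752102 q22651, e3 q23430 L752116 q22653, e3 q23431 (flp_b L752125) q22017, e3 q23432 (flp_b L764840) q24652, e3 q23433 L752164 q22726, e3 q23434 L752170 q22658, e3 q23435 L752183 q22725, e3 q23436 L752196 q22024, e3 q23437 (flp_b L764891) q24655, e3 q23438 L752214 q22028, e3 q23439 (flp_b L764874) q24654, e3 q23440 L752236 q23119, e3 q23441 L752252 q22040, e3 q23442 L752267 q22035, e3 q23443 L752281 q22036, e3 q23444 L752295 q22037, e3 q23445 L752310 q22038, e3 q23446 (flp_b L764912) q24657, e3 q23447 (flp_b L764927) q24658, e3 q23448 (flp_b L764857) q24653, e3 q23449 L752363 q22415, e3 q23450 L752376 q22671, e3 q23451 L752388 q22084, e3 q23452 L752407 q22684, e3 q23453 L752426 q22051, e3 q23454 L752445 q22059, e3 q23455 L752464 q22065, e3 q23456 (flp_b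 L752496) q22068, e3 q23457 L752502 q22064, e3 q23458 L752521 q22085, e3 q23459 L752551 q22885, e3 q23460 L752569 q22884, e3 q23461 L752579 q22069, e3 q23462 L752608 q22886, e3 q23463 L752618 q22079, e3 q23464 L752637 q22077, e3 q23465 L752656 q22086, e3 q23466 L752675 q22108, e3 q23467 L752693 q22109, e3 q23468 L752709 q22113, e3 q23469 L752725 q22211, e3 q23470 L752743 q22212, e3 q23471 L752761 q22312, e3 q23472 L752777 q22326, e3 q23473 L752793 q22698, e3 q23474 L752811 q22926, e3 q23475 L752823 q22337, e3 q23476 L752840 q22706, e3 q23477 L752856 q22708, e3 q23478 L752873 q22191, e3 q23479 L752891 q22192, e3 q23480 (flp_b L764987) q24662, e3 q23481 (flp_b L761482) q24405, e3 q23482 L752935 q22931, e3 q23483 L752951 q22942, e3 q23484 (flp_b L765005) q24663, e3 q23485 L752977 q22943, e3 q23486 L752993 q22970, e3 q23487 L753010 q22932, trivial⟩ (by decide +kernel)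

theorem ce_b_367 : ∀ r, r < 64 → sm gb (Qf (23488 + r)) = Qf (tab Gen.b (23488 + r)) :=
  edges_tab (sm gb) Qf (tab Gen.b) 23488 [(23488, 22308), (23489, 22269), (23490, 24448), (23491, 24458), (23492, 22738), (23493, 22739), (23494, 22959), (23495, 22129), (23496, 22130), (23497, 22453), (23498, 24684), (23499, 24685), (23500, 22199), (23501, 24402), (23502, 24403), (23503, 22135), (23504, 22181), (23505, 22206), (23506, 24404), (23507, 22230), (23508, 22207), (23509, 22692), (23510, 24406), (23511, 22150), (23512, 22151), (23513, 24540), (23514, 24698), (23515, 24699), (23516, 22224), (23517, 24409), (23518, 24707), (23519, 22952), (23520, 22232), (23521, 22969), (23522, 24413), (23523, 22240), (23524, 22978), (23525, 22168), (23526, 24545), (23527, 24547), (23528, 22972), (23529, 22200), (23530, 22217), (23531, 22176), (23532, 22177), (23533, 22178), (23534, 24713), (23535, 24714), (23536, 24692), (23537, 22225), (23538, 22365), (23539, 22366), (23540, 22795), (23541, 22823), (23542, 22825), (23543, 22873), (23544, 22979),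 (23545, 22980), (23546, 22221), (23547, 22229), (23548, 24670), (23549, 22197), (23550, 22198), (23551, 24600)]
    ⟨e3 q23488 L753027 q22308, e3 q23489 L753044 q22269, e3 q23490 (flp_b L762150) q24448, e3 q23491 (flp_b L762287) q24458, e3 q23492 L753082 q22738, e3 q23493 L753095 q22739, e3 q23494 L753105 q22959, e3 q23495 L753119 q22129, e3 q23496 L753135 q22130, e3 q23497 L753149 q22453, e3 q23498 (flp_b L765318) q24684, e3 q23499 (flp_b L765336) q24685, e3 q23500 L753185 q22199, e3 q23501 (flp_b L761431) q24402, e3 q23502 (flp_b L761449) q24403, e3 q23503 L753219 q22135, e3 q23504 L753236 q22181, e3 q23505 L753253 q22206, e3 q23506 (flp_b L761465) q24404, e3 q23507 (flp_b L753287) q22230, e3 q23508 L753293 q22207, e3 q23509 L753308 q22692, e3 q23510 (flp_b L761500) q24406, e3 q23511 L753332 q22150, e3 q23512 L753346 q22151, e3 q23513 (flp_b L763432) q24540, e3 q23514 (flp_b L765493) q24698, e3 q23515 (flp_b L765503) q24699, e3 q23516 L753390 q22224, e3 q23517 (flp_b L761550) q24409, e3 q23518 L765583 q24707, e3 q23519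 L753418 q22952, e3 q23520 L753432 q22232, e3 q23521 (flp_b L753458) q22969, e3 q23522 (flp_b L761610) q24413, e3 q23523 L753470 q22240, e3 q23524 L753487 q22978, e3 q23525 L753502 q22168, e3 q23526 (flp_b L763494) q24545, e3 q23527 (flp_b L763528) q24547, e3 q23528 L753548 q22972, e3 q23529 L753563 q22200, e3 q23530 L753577 q22217, e3 q23531 L753589 q22176, e3 q23532 L753606 q22177, e3 q23533 L753622 q22178, e3 q23534 (flp_b L765669) q24713, e3 q23535 (flp_b L765686) q24714, e3 q23536 (flp_b L765413) q24692, e3 q23537 L753674 q22225, e3 q23538 L753684 q22365, e3 q23539 L753700 q22366, e3 q23540 L753717 q22795, e3 q23541 L753734 q22823, e3 q23542 L753751 q22825, e3 q23543 L753765 q22873, e3 q23544 L753780 q22979, e3 q23545 L753793 q22980, e3 q23546 L753805 q22221, e3 q23547 L753823 q22229, e3 q23548 (flp_b L765123) q24670, e3 q23549 L753847 q22197, e3 q23550 L753863 q22198, e3 q23551 (flp_b L764219) q24600, trivial⟩ (by decide +kernel)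

theorem ce_b_368 : ∀ r, r < 64 → sm gb (Qf (23552 + r)) = Qf (tab Gen.b (23552 + r)) :=
  edges_tab (sm gb) Qf (tab Gen.b) 23552 [(23552, 22213), (23553, 24728), (23554, 24729), (23555, 24689), (23556, 24711), (23557, 22205), (23558, 22214), (23559, 22328), (23560, 24693), (23561, 22902), (23562, 24664), (23563, 24731), (23564, 22300), (23565, 22951), (23566, 24712), (23567, 22301), (23568, 22222), (23569, 22223), (23570, 24726), (23571, 24744), (23572, 24746), (23573, 24704), (23574, 24753), (23575, 22893), (23576, 22231), (23577, 24694), (23578, 22914), (23579, 22286), (23580, 24754), (23581, 22915), (23582, 24708), (23583, 22920), (23584, 22896), (23585, 22242), (23586, 24761), (23587, 22245), (23588, 22604), (23589, 23059), (23590, 24557), (23591, 24558), (23592, 22922), (23593, 23092), (23594, 22255), (23595, 22256), (23596, 22603), (23597, 24439), (23598, 24438), (23599, 24768), (23600, 24769), (23601, 23082), (23602, 23093), (23603, 22964), (23604, 22897), (23605, 22898), (23606, 22899), (23607, 22900), (23608, 22923),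 (23609, 24417), (23610, 22270), (23611, 22272), (23612, 22273), (23613, 24678), (23614, 24784), (23615, 22890)]
    ⟨e3 q23552 L753892 q22213, e3 q23553 (flp_b L765877) q24728, e3 q23554 (flp_b L765895) q24729, e3 q23555 (flp_b L765381) q24689, e3 q23556 (flp_b L765643) q24711, e3 q23557 L753951 q22205, e3 q23558 L753968 q22214, e3 q23559 L753986 q22328, e3 q23560 (flp_b L765430) q24693, e3 q23561 L754021 q22902, e3 q23562 (flp_b L765021) q24664, e3 q23563 (flp_b L765923) q24731, e3 q23564 L754049 q22300, e3 q23565 L754067 q22951, e3 q23566 (flp_b L765657) q24712, e3 q23567 L754087 q22301, e3 q23568 L754101 q22222, e3 q23569 L754109 q22223, e3 q23570 (flp_b L765851) q24726, e3 q23571 (flp_b L766067) q24744, e3 q23572 (flp_b L766093) q24746, e3 q23573 (flp_b L765559) q24704, e3 q23574 L766151 q24753, e3 q23575 L754171 q22893, e3 q23576 L754181 q22231, e3 q23577 (flp_b L765458) q24694, e3 q23578 L754217 q22914, e3 q23579 L754227 q22286, e3 q23580 (flp_b L766161) q24754, e3 q23581 L754260 q22915, e3 q23582 (flp_b L765595) q24708,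 e3 q23583 L754272 q22920, e3 q23584 L754292 q22896, e3 q23585 L754297 q22242, e3 q23586 (flp_b L766265) q24761, e3 q23587 L754321 q22245, e3 q23588 L754335 q22604, e3 q23589 L754352 q23059, e3 q23590 (flp_b L763682) q24557, e3 q23591 (flp_b L763700) q24558, e3 q23592 L754392 q22922, e3 q23593 L754403 q23092, e3 q23594 L754415 q22255, e3 q23595 L754425 q22256, e3 q23596 L754438 q22603, e3 q23597 (flp_b L762008) q24439, e3 q23598 (flp_b L761991) q24438, e3 q23599 (flp_b L766363) q24768, e3 q23600 (flp_b L766375) q24769, e3 q23601 L754489 q23082, e3 q23602 L754500 q23093, e3 q23603 L754510 q22964, e3 q23604 L754524 q22897, e3 q23605 L754541 q22898, e3 q23606 L754554 q22899, e3 q23607 L754566 q22900, e3 q23608 L754577 q22923, e3 q23609 (flp_b L761675) q24417, e3 q23610 L754597 q22270, e3 q23611 L754614 q22272, e3 q23612 L754632 q22273, e3 q23613 (flp_b L765238) q24678, e3 q23614 (flp_b L766532) q24784, e3 q23615 L754659 q22890, trivial⟩ (by decide +kernel)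

theorem ce_b_369 : ∀ r, r < 64 → sm gb (Qf (23616 + r)) = Qf (tab Gen.b (23616 + r)) :=
  edges_tab (sm gb) Qf (tab Gen.b) 23616 [(23616, 24785), (23617, 24786), (23618, 22944), (23619, 24418), (23620, 24796), (23621, 22924), (23622, 22283), (23623, 22891), (23624, 24798), (23625, 24420), (23626, 24757), (23627, 24421), (23628, 24407), (23629, 24408), (23630, 22904), (23631, 22905), (23632, 22906), (23633, 22907), (23634, 22908), (23635, 22909), (23636, 22910), (23637, 22928), (23638, 24813), (23639, 22460), (23640, 24741), (23641, 22309), (23642, 22310), (23643, 22311), (23644, 22313), (23645, 22314), (23646, 22315), (23647, 24677), (23648, 24816), (23649, 24817), (23650, 24818), (23651, 24665), (23652, 24819), (23653, 24831), (23654, 24821), (23655, 24822), (23656, 24424), (23657, 24425), (23658, 24838), (23659, 24427), (23660, 22319), (23661, 22913), (23662, 22929), (23663, 22327), (23664, 22329), (23665, 22330), (23666, 24666), (23667, 24736), (23668, 24842), (23669, 24843), (23670, 22333), (23671, 24429), (23672, 24834),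 (23673, 22357), (23674, 22342), (23675, 24849), (23676, 22917), (23677, 22918), (23678, 22919), (23679, 22477)]
    ⟨e3 q23616 (flp_b L766547) q24785, e3 q23617 (flp_b L766561) q24786, e3 q23618 L754684 q22944, e3 q23619 (flp_b L761693) q24418, e3 q23620 L766640 q24796, e3 q23621 L754708 q22924, e3 q23622 L754721 q22283, e3 q23623 L754738 q22891, e3 q23624 (flp_b L766659) q24798, e3 q23625 (flp_b L761721) q24420, e3 q23626 (flp_b L766205) q24757, e3 q23627 (flp_b L761738) q24421, e3 q23628 (flp_b L761516) q24407, e3 q23629 (flp_b L761534) q24408, e3 q23630 L754794 q22904, e3 q23631 L754809 q22905, e3 q23632 L754824 q22906, e3 q23633 L754836 q22907, e3 q23634 L754846 q22908, e3 q23635 L754858 q22909, e3 q23636 L754864 q22910, e3 q23637 L754872 q22928, e3 q23638 L766810 q24813, e3 q23639 L754890 q22460, e3 q23640 (flp_b L766031) q24741, e3 q23641 L754924 q22309, e3 q23642 L754937 q22310, e3 q23643 L754949 q22311, e3 q23644 L754963 q22313, e3 q23645 L754977 q22314, e3 q23646 L754985 q22315, e3 q23647 (flp_b L765221) q24677,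 e3 q23648 (flp_b L766848) q24816, e3 q23649 (flp_b L766859) q24817, e3 q23650 (flp_b L766873) q24818, e3 q23651 (flp_b L765039) q24665, e3 q23652 (flp_b L766885) q24819, e3 q23653 L766978 q24831, e3 q23654 (flp_b L766903) q24821, e3 q23655 (flp_b L766913) q24822, e3 q23656 (flp_b L761781) q24424, e3 q23657 (flp_b L761799) q24425, e3 q23658 L767034 q24838, e3 q23659 (flp_b L761825) q24427, e3 q23660 (flp_b L755085) q22319, e3 q23661 L755093 q22913, e3 q23662 L755102 q22929, e3 q23663 L755112 q22327, e3 q23664 L755127 q22329, e3 q23665 L755142 q22330, e3 q23666 (flp_b L765057) q24666, e3 q23667 (flp_b L765974) q24736, e3 q23668 (flp_b L767063) q24842, e3 q23669 (flp_b L767076) q24843, e3 q23670 L755180 q22333, e3 q23671 (flp_b L761845) q24429, e3 q23672 (flp_b L766996) q24834, e3 q23673 L755204 q22357, e3 q23674 L755217 q22342, e3 q23675 (flp_b L767128) q24849, e3 q23676 L755234 q22917, e3 q23677 L755247 q22918, e3 q23678 L755256 q22919, e3 q23679 L755267 q22477, trivial⟩ (by decide +kernel)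

theorem ce_b_370 : ∀ r, r < 64 → sm gb (Qf (23680 + r)) = Qf (tab Gen.b (23680 + r)) :=
  edges_tab (sm gb) Qf (tab Gen.b) 23680 [(23680, 22484), (23681, 22353), (23682, 22354), (23683, 22356), (23684, 24854), (23685, 22817), (23686, 24855), (23687, 22871), (23688, 24848), (23689, 22367), (23690, 22615), (23691, 22640), (23692, 22369), (23693, 22627), (23694, 24719), (23695, 24861), (23696, 24541), (23697, 24869), (23698, 24546), (23699, 24434), (23700, 24435), (23701, 24468), (23702, 24490), (23703, 24442), (23704, 24443), (23705, 22935), (23706, 24444), (23707, 24449), (23708, 24450), (23709, 24455), (23710, 24882), (23711, 24459), (23712, 24463), (23713, 22436), (23714, 22936), (23715, 24464), (23716, 23019), (23717, 24469), (23718, 24890), (23719, 22400), (23720, 23020), (23721, 22732), (23722, 24894), (23723, 22461), (23724, 22472), (23725, 24898), (23726, 24484), (23727, 22404), (23728, 24492), (23729, 22478), (23730, 22483), (23731, 24634), (23732, 24499), (23733, 22486), (23734, 24661), (23735, 22442), (23736, 22444),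 (23737, 22454), (23738, 22957), (23739, 22976), (23740, 22462), (23741, 24526), (23742, 24532), (23743, 24534)]
    ⟨e3 q23680 L755280 q22484, e3 q23681 L755292 q22353, e3 q23682 L755305 q22354, e3 q23683 L755318 q22356, e3 q23684 (flp_b L767182) q24854, e3 q23685 L755346 q22817, e3 q23686 (flp_b L767196) q24855, e3 q23687 L755360 q22871, e3 q23688 (flp_b L767114) q24848, e3 q23689 L755379 q22367, e3 q23690 L755391 q22615, e3 q23691 L755407 q22640, e3 q23692 L755422 q22369, e3 q23693 L755434 q22627, e3 q23694 (flp_b L765742) q24719, e3 q23695 (flp_b L767262) q24861, e3 q23696 (flp_b L763450) q24541, e3 q23697 L767353 q24869, e3 q23698 (flp_b L763512) q24546, e3 q23699 (flp_b L761925) q24434, e3 q23700 (flp_b L761942) q24435, e3 q23701 (flp_b L762432) q24468, e3 q23702 (flp_b L762711) q24490, e3 q23703 (flp_b L762053) q24442, e3 q23704 (flp_b L762066) q24443, e3 q23705 L755563 q22935, e3 q23706 (flp_b L762080) q24444, e3 q23707 (flp_b L762168) q24449, e3 q23708 (flp_b L762184) q24450, e3 q23709 (flp_b L762249) q24455, e3 q23710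 L767489 q24882, e3 q23711 (flp_b L762302) q24459, e3 q23712 (flp_b L762361) q24463, e3 q23713 L755660 q22436, e3 q23714 L755674 q22936, e3 q23715 (flp_b L762374) q24464, e3 q23716 L755693 q23019, e3 q23717 (flp_b L762446) q24469, e3 q23718 L767578 q24890, e3 q23719 L755721 q22400, e3 q23720 L755739 q23020, e3 q23721 L755757 q22732, e3 q23722 L767632 q24894, e3 q23723 L755785 q22461, e3 q23724 L755795 q22472, e3 q23725 L767668 q24898, e3 q23726 (flp_b L762634) q24484, e3 q23727 (flp_b L755811) q22404, e3 q23728 (flp_b L762736) q24492, e3 q23729 L755831 q22478, e3 q23730 L755841 q22483, e3 q23731 (flp_b L764635) q24634, e3 q23732 (flp_b L762832) q24499, e3 q23733 L755874 q22486, e3 q23734 (flp_b L764970) q24661, e3 q23735 L755892 q22442, e3 q23736 L755906 q22444, e3 q23737 L755916 q22454, e3 q23738 L755928 q22957, e3 q23739 L755940 q22976, e3 q23740 L755951 q22462, e3 q23741 (flp_b L763231) q24526, e3 q23742 (flp_b L763322) q24532, e3 q23743 (flp_b L763346) q24534, trivial⟩ (by decide +kernel)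

theorem ce_b_371 : ∀ r, r < 64 → sm gb (Qf (23744 + r)) = Qf (tab Gen.b (23744 + r)) :=
  edges_tab (sm gb) Qf (tab Gen.b) 23744 [(23744, 24914), (23745, 22988), (23746, 22989), (23747, 22824), (23748, 22826), (23749, 22874), (23750, 24520), (23751, 24884), (23752, 22995), (23753, 22996), (23754, 24513), (23755, 24517), (23756, 24905), (23757, 24521), (23758, 24929), (23759, 24514), (23760, 24518), (23761, 24457), (23762, 24461), (23763, 24522), (23764, 22606), (23765, 22608), (23766, 24686), (23767, 24907), (23768, 23061), (23769, 23063), (23770, 23102), (23771, 23104), (23772, 23106), (23773, 24814), (23774, 24895), (23775, 24946), (23776, 22587), (23777, 22469), (23778, 22471), (23779, 22784), (23780, 24529), (23781, 23050), (23782, 24948), (23783, 24530), (23784, 24956), (23785, 24957), (23786, 24897), (23787, 22473), (23788, 23147), (23789, 23149), (23790, 24488), (23791, 24853), (23792, 24489), (23793, 24901), (23794, 24495), (23795, 24531), (23796, 24482), (23797, 24510), (23798, 24433), (23799, 24503), (23800, 24509),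 (23801, 22520), (23802, 22624), (23803, 23069), (23804, 22498), (23805, 22499), (23806, 23060), (23807, 24973)]
    ⟨e3 q23744 L767799 q24914, e3 q23745 L755981 q22988, e3 q23746 L755996 q22989, e3 q23747 L756010 q22824, e3 q23748 L756025 q22826, e3 q23749 L756039 q22874, e3 q23750 (flp_b L763145) q24520, e3 q23751 (flp_b L767516) q24884, e3 q23752 L756071 q22995, e3 q23753 L756086 q22996, e3 q23754 (flp_b L763036) q24513, e3 q23755 (flp_b L763100) q24517, e3 q23756 (flp_b L767726) q24905, e3 q23757 (flp_b L763162) q24521, e3 q23758 L767974 q24929, e3 q23759 (flp_b L763054) q24514, e3 q23760 (flp_b L763116) q24518, e3 q23761 (flp_b L762271) q24457, e3 q23762 (flp_b L762331) q24461, e3 q23763 (flp_b L763174) q24522, e3 q23764 L756212 q22606, e3 q23765 L756227 q22608, e3 q23766 (flp_b L765351) q24686, e3 q23767 (flp_b L767748) q24907, e3 q23768 L756260 q23061, e3 q23769 L756273 q23063, e3 q23770 L756285 q23102, e3 q23771 L756297 q23104, e3 q23772 L756313 q23106, e3 q23773 (flp_b L766820) q24814, e3 q23774 (flp_b L767646) q24895,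 e3 q23775 L768161 q24946, e3 q23776 L756345 q22587, e3 q23777 L756361 q22469, e3 q23778 L756373 q22471, e3 q23779 L756387 q22784, e3 q23780 (flp_b L763274) q24529, e3 q23781 L756407 q23050, e3 q23782 (flp_b L768183) q24948, e3 q23783 (flp_b L763291) q24530, e3 q23784 L768272 q24956, e3 q23785 L768282 q24957, e3 q23786 (flp_b L767662) q24897, e3 q23787 (flp_b L756459) q22473, e3 q23788 L756467 q23147, e3 q23789 L756480 q23149, e3 q23790 (flp_b L762683) q24488, e3 q23791 (flp_b L767169) q24853, e3 q23792 (flp_b L762699) q24489, e3 q23793 (flp_b L767688) q24901, e3 q23794 (flp_b L762774) q24495, e3 q23795 (flp_b L763305) q24531, e3 q23796 (flp_b L762614) q24482, e3 q23797 (flp_b L762989) q24510, e3 q23798 (flp_b L761910) q24433, e3 q23799 (flp_b L762887) q24503, e3 q23800 (flp_b L762975) q24509, e3 q23801 L756595 q22520, e3 q23802 L756608 q22624, e3 q23803 L756623 q23069, e3 q23804 L756637 q22498, e3 q23805 L756653 q22499, e3 q23806 L756664 q23060, e3 q23807 (flp_b L768436) q24973, trivial⟩ (by decide +kernel)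

theorem ce_b_372 : ∀ r, r < 64 → sm gb (Qf (23808 + r)) = Qf (tab Gen.b (23808 + r)) :=
  edges_tab (sm gb) Qf (tab Gen.b) 23808 [(23808, 24642), (23809, 24554), (23810, 24555), (23811, 24556), (23812, 22743), (23813, 22769), (23814, 22511), (23815, 22513), (23816, 22514), (23817, 22515), (23818, 23065), (23819, 22610), (23820, 24981), (23821, 24550), (23822, 24982), (23823, 24983), (23824, 24985), (23825, 23047), (23826, 24565), (23827, 24997), (23828, 24581), (23829, 24567), (23830, 24568), (23831, 24569), (23832, 22528), (23833, 22804), (23834, 24604), (23835, 25002), (23836, 23054), (23837, 24575), (23838, 24576), (23839, 25010), (23840, 22538), (23841, 22541), (23842, 22846), (23843, 24616), (23844, 24628), (23845, 25011), (23846, 22833), (23847, 24617), (23848, 25020), (23849, 24588), (23850, 24589), (23851, 25024), (23852, 24591), (23853, 22545), (23854, 23134), (23855, 24605), (23856, 23144), (23857, 24594), (23858, 25031), (23859, 24596), (23860, 22552), (23861, 22675), (23862, 24618), (23863, 24597), (23864, 22638),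 (23865, 24598), (23866, 22558), (23867, 25036), (23868, 22626), (23869, 22569), (23870, 22590), (23871, 22805)]
    ⟨e3 q23808 (flp_b L764707) q24642, e3 q23809 (flp_b L763640) q24554, e3 q23810 (flp_b L763657) q24555, e3 q23811 (flp_b L763668) q24556, e3 q23812 L756724 q22743, e3 q23813 L756738 q22769, e3 q23814 L756749 q22511, e3 q23815 L756765 q22513, e3 q23816 L756776 q22514, e3 q23817 L756784 q22515, e3 q23818 L756795 q23065, e3 q23819 L756811 q22610, e3 q23820 (flp_b L768521) q24981, e3 q23821 (flp_b L763578) q24550, e3 q23822 (flp_b L768537) q24982, e3 q23823 (flp_b L768546) q24983, e3 q23824 (flp_b L768559) q24985, e3 q23825 L756863 q23047, e3 q23826 (flp_b L763776) q24565, e3 q23827 L768664 q24997, e3 q23828 (flp_b L763979) q24581, e3 q23829 (flp_b L763798) q24567, e3 q23830 (flp_b L763813) q24568, e3 q23831 (flp_b L763824) q24569, e3 q23832 L756930 q22528, e3 q23833 L756942 q22804, e3 q23834 (flp_b L764263) q24604, e3 q23835 (flp_b L768715) q25002, e3 q23836 L756984 q23054, e3 q23837 (flp_b L763901) q24575, e3 q23838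 (flp_b L763917) q24576, e3 q23839 L768805 q25010, e3 q23840 L757020 q22538, e3 q23841 L757030 q22541, e3 q23842 L757042 q22846, e3 q23843 (flp_b L764405) q24616, e3 q23844 (flp_b L764567) q24628, e3 q23845 (flp_b L768815) q25011, e3 q23846 L757092 q22833, e3 q23847 (flp_b L764423) q24617, e3 q23848 L768917 q25020, e3 q23849 (flp_b L764063) q24588, e3 q23850 (flp_b L764081) q24589, e3 q23851 L768951 q25024, e3 q23852 (flp_b L764099) q24591, e3 q23853 (flp_b L757154) q22545, e3 q23854 L757164 q23134, e3 q23855 (flp_b L764281) q24605, e3 q23856 L757191 q23144, e3 q23857 (flp_b L764130) q24594, e3 q23858 L769015 q25031, e3 q23859 (flp_b L764163) q24596, e3 q23860 (flp_b L757228) q22552, e3 q23861 L757246 q22675, e3 q23862 (flp_b L764435) q24618, e3 q23863 (flp_b L764174) q24597, e3 q23864 L757288 q22638, e3 q23865 (flp_b L764191) q24598, e3 q23866 (flp_b L757299) q22558, e3 q23867 (flp_b L769076) q25036, e3 q23868 L757331 q22626, e3 q23869 L757339 q22569, e3 q23870 L757349 q22590, e3 q23871 L757361 q22805, trivial⟩ (by decide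 +kernel)

theorem ce_b_373 : ∀ r, r < 64 → sm gb (Qf (23872 + r)) = Qf (tab Gen.b (23872 + r)) :=
  edges_tab (sm gb) Qf (tab Gen.b) 23872 [(23872, 24582), (23873, 25038), (23874, 22585), (23875, 24601), (23876, 24602), (23877, 25048), (23878, 23031), (23879, 22583), (23880, 22588), (23881, 22589), (23882, 22842), (23883, 22841), (23884, 25044), (23885, 23022), (23886, 25043), (23887, 23040), (23888, 24947), (23889, 25050), (23890, 25061), (23891, 25039), (23892, 24611), (23893, 24612), (23894, 25066), (23895, 24614), (23896, 22594), (23897, 24584), (23898, 22605), (23899, 22607), (23900, 22609), (23901, 22611), (23902, 22612), (23903, 25076), (23904, 22614), (23905, 24770), (23906, 24762), (23907, 25070), (23908, 24934), (23909, 25071), (23910, 24935), (23911, 25086), (23912, 23081), (23913, 24987), (23914, 25073), (23915, 25092), (23916, 25075), (23917, 22613), (23918, 25096), (23919, 24862), (23920, 24635), (23921, 25100), (23922, 24637), (23923, 22618), (23924, 25103), (23925, 24959), (23926, 22625), (23927, 23141), (23928,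 24971), (23929, 25033), (23930, 25105), (23931, 24643), (23932, 25112), (23933, 24644), (23934, 22630), (23935, 25116)]
    ⟨e3 q23872 (flp_b L763995) q24582, e3 q23873 (flp_b L769099) q25038, e3 q23874 L757391 q22585, e3 q23875 (flp_b L764236) q24601, e3 q23876 (flp_b L764247) q24602, e3 q23877 L769200 q25048, e3 q23878 L757426 q23031, e3 q23879 L757440 q22583, e3 q23880 L757455 q22588, e3 q23881 L757467 q22589, e3 q23882 L757473 q22842, e3 q23883 L757486 q22841, e3 q23884 (flp_b L769170) q25044, e3 q23885 L757508 q23022, e3 q23886 (flp_b L769154) q25043, e3 q23887 L757526 q23040, e3 q23888 (flp_b L768167) q24947, e3 q23889 (flp_b L769222) q25050, e3 q23890 L769318 q25061, e3 q23891 (flp_b L769111) q25039, e3 q23892 (flp_b L764349) q24611, e3 q23893 (flp_b L764365) q24612, e3 q23894 L769352 q25066, e3 q23895 (flp_b L764387) q24614, e3 q23896 (flp_b L757590) q22594, e3 q23897 (flp_b L764018) q24584, e3 q23898 L757604 q22605, e3 q23899 L757615 q22607, e3 q23900 L757622 q22609, e3 q23901 L757634 q22611, e3 q23902 L757648 q22612,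 e3 q23903 L769423 q25076, e3 q23904 L757658 q22614, e3 q23905 (flp_b L766387) q24770, e3 q23906 (flp_b L766282) q24762, e3 q23907 (flp_b L769378) q25070, e3 q23908 (flp_b L768033) q24934, e3 q23909 (flp_b L769387) q25071, e3 q23910 (flp_b L768048) q24935, e3 q23911 L769504 q25086, e3 q23912 L757724 q23081, e3 q23913 (flp_b L768585) q24987, e3 q23914 (flp_b L769405) q25073, e3 q23915 L769550 q25092, e3 q23916 (flp_b L769419) q25075, e3 q23917 (flp_b L757758) q22613, e3 q23918 (flp_b L769578) q25096, e3 q23919 (flp_b L767274) q24862, e3 q23920 (flp_b L764649) q24635, e3 q23921 L769612 q25100, e3 q23922 (flp_b L764663) q24637, e3 q23923 (flp_b L757802) q22618, e3 q23924 (flp_b L769630) q25103, e3 q23925 (flp_b L768296) q24959, e3 q23926 L757816 q22625, e3 q23927 L757825 q23141, e3 q23928 (flp_b L768406) q24971, e3 q23929 (flp_b L769048) q25033, e3 q23930 (flp_b L769638) q25105, e3 q23931 (flp_b L764720) q24643, e3 q23932 L769700 q25112, e3 q23933 (flp_b L764737) q24644, e3 q23934 (flp_b L757880) q22630, e3 q23935 (flp_b L769738)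 q25116, trivial⟩ (by decide +kernel)

theorem ce_b_374 : ∀ r, r < 64 → sm gb (Qf (23936 + r)) = Qf (tab Gen.b (23936 + r)) :=
  edges_tab (sm gb) Qf (tab Gen.b) 23936 [(23936, 23121), (23937, 22636), (23938, 22639), (23939, 24595), (23940, 24599), (23941, 25035), (23942, 24863), (23943, 22861), (23944, 24647), (23945, 22851), (23946, 23126), (23947, 22645), (23948, 25124), (23949, 24460), (23950, 24462), (23951, 22883), (23952, 24650), (23953, 22652), (23954, 25129), (23955, 24651), (23956, 23154), (23957, 22655), (23958, 25133), (23959, 22876), (23960, 22882), (23961, 23156), (23962, 22662), (23963, 25139), (23964, 22790), (23965, 23046), (23966, 22816), (23967, 23080), (23968, 22815), (23969, 22875), (23970, 22770), (23971, 24498), (23972, 22676), (23973, 25147), (23974, 22789), (23975, 22901), (23976, 25149), (23977, 22689), (23978, 22892), (23979, 25152), (23980, 25153), (23981, 22945), (23982, 24696), (23983, 25156), (23984, 22699), (23985, 22700), (23986, 22991), (23987, 22992), (23988, 24667), (23989, 25157), (23990,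 25164), (23991, 22965), (23992, 25166), (23993, 22703), (23994, 22707), (23995, 24669), (23996, 25168), (23997, 24465), (23998, 24486), (23999, 22983)]
    ⟨e3 q23936 L757909 q23121, e3 q23937 L757915 q22636, e3 q23938 L757929 q22639, e3 q23939 (flp_b L764157) q24595, e3 q23940 (flp_b L764206) q24599, e3 q23941 (flp_b L769063) q25035, e3 q23942 (flp_b L767288) q24863, e3 q23943 (flp_b L757972) q22861, e3 q23944 (flp_b L764777) q24647, e3 q23945 L757984 q22851, e3 q23946 L758004 q23126, e3 q23947 L758008 q22645, e3 q23948 (flp_b L769808) q25124, e3 q23949 (flp_b L762323) q24460, e3 q23950 (flp_b L762353) q24462, e3 q23951 (flp_b L758044) q22883, e3 q23952 (flp_b L764809) q24650, e3 q23953 (flp_b L758055) q22652, e3 q23954 (flp_b L769853) q25129, e3 q23955 (flp_b L764826) q24651, e3 q23956 L758087 q23154, e3 q23957 L758091 q22655, e3 q23958 (flp_b L769891) q25133, e3 q23959 L758108 q22876, e3 q23960 L758119 q22882, e3 q23961 L758131 q23156, e3 q23962 L758142 q22662, e3 q23963 (flp_b L769951) q25139, e3 q23964 L758162 q22790,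 e3 q23965 L758168 q23046, e3 q23966 L758180 q22816, e3 q23967 L758192 q23080, e3 q23968 L758201 q22815, e3 q23969 L758216 q22875, e3 q23970 L758231 q22770, e3 q23971 (flp_b L762825) q24498, e3 q23972 L758248 q22676, e3 q23973 (flp_b L770032) q25147, e3 q23974 L758261 q22789, e3 q23975 L758273 q22901, e3 q23976 L770052 q25149, e3 q23977 L758299 q22689, e3 q23978 L758315 q22892, e3 q23979 L770090 q25152, e3 q23980 L770096 q25153, e3 q23981 L758347 q22945, e3 q23982 (flp_b L765469) q24696, e3 q23983 L770128 q25156, e3 q23984 L758377 q22699, e3 q23985 L758391 q22700, e3 q23986 L758403 q22991, e3 q23987 L758418 q22992, e3 q23988 (flp_b L765074) q24667, e3 q23989 (flp_b L770142) q25157, e3 q23990 L770218 q25164, e3 q23991 L758454 q22965, e3 q23992 L770230 q25166, e3 q23993 (flp_b L758472) q22703, e3 q23994 L758480 q22707, e3 q23995 (flp_b L765106) q24669, e3 q23996 (flp_b L770250) q25168, e3 q23997 (flp_b L762390) q24465, e3 q23998 (flp_b L762654) q24486, e3 q23999 L758538 q22983, trivial⟩ (by decide +kernel)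

theorem ce_b_375 : ∀ r, r < 64 → sm gb (Qf (24000 + r)) = Qf (tab Gen.b (24000 + r)) :=
  edges_tab (sm gb) Qf (tab Gen.b) 24000 [(24000, 22985), (24001, 25174), (24002, 25175), (24003, 23096), (24004, 22719), (24005, 22720), (24006, 25179), (24007, 25178), (24008, 22721), (24009, 23135), (24010, 22748), (24011, 25183), (24012, 24476), (24013, 24479), (24014, 24494), (24015, 25187), (24016, 22736), (24017, 22737), (24018, 25188), (24019, 25189), (24020, 24681), (24021, 24682), (24022, 22745), (24023, 22746), (24024, 24445), (24025, 24979), (24026, 24446), (24027, 25194), (24028, 25195), (24029, 22981), (24030, 25203), (24031, 22753), (24032, 22755), (24033, 22756), (24034, 24452), (24035, 25204), (24036, 24453), (24037, 25213), (24038, 25206), (24039, 25207), (24040, 25216), (24041, 22758), (24042, 22762), (24043, 24447), (24044, 25218), (24045, 22765), (24046, 24454), (24047, 22767), (24048, 25221), (24049, 22771), (24050, 24980), (24051, 25145), (24052, 25223), (24053, 22775), (24054, 25128), (24055, 22776), (24056, 22777),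 (24057, 25228), (24058, 25230), (24059, 22779), (24060, 25144), (24061, 22866), (24062, 22785), (24063, 22786)]
    ⟨e3 q24000 L758554 q22985, e3 q24001 L770315 q25174, e3 q24002 L770325 q25175, e3 q24003 L758590 q23096, e3 q24004 L758604 q22719, e3 q24005 L758610 q22720, e3 q24006 L770359 q25179, e3 q24007 (flp_b L770355) q25178, e3 q24008 (flp_b L758628) q22721, e3 q24009 L758640 q23135, e3 q24010 L758654 q22748, e3 q24011 L770397 q25183, e3 q24012 (flp_b L762547) q24476, e3 q24013 (flp_b L762586) q24479, e3 q24014 (flp_b L762763) q24494, e3 q24015 L770427 q25187, e3 q24016 L758706 q22736, e3 q24017 L758720 q22737, e3 q24018 (flp_b L770437) q25188, e3 q24019 (flp_b L770449) q25189, e3 q24020 (flp_b L765279) q24681, e3 q24021 (flp_b L765292) q24682, e3 q24022 L758769 q22745, e3 q24023 L758777 q22746, e3 q24024 (flp_b L762098) q24445, e3 q24025 (flp_b L768496) q24979, e3 q24026 (flp_b L762115) q24446, e3 q24027 (flp_b L770496) q25194, e3 q24028 (flp_b L770502) q25195, e3 q24029 L758844 q22981, e3 q24030 L770581 q25203, e3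 q24031 L758866 q22753, e3 q24032 L758874 q22755, e3 q24033 L758880 q22756, e3 q24034 (flp_b L762213) q24452, e3 q24035 (flp_b L770589) q25204, e3 q24036 (flp_b L762224) q24453, e3 q24037 L770663 q25213, e3 q24038 (flp_b L770601) q25206, e3 q24039 (flp_b L770609) q25207, e3 q24040 L770681 q25216, e3 q24041 (flp_b L758941) q22758, e3 q24042 L758949 q22762, e3 q24043 (flp_b L762133) q24447, e3 q24044 (flp_b L770699) q25218, e3 q24045 L758983 q22765, e3 q24046 (flp_b L762236) q24454, e3 q24047 L759002 q22767, e3 q24048 (flp_b L770731) q25221, e3 q24049 L759025 q22771, e3 q24050 (flp_b L768508) q24980, e3 q24051 (flp_b L770014) q25145, e3 q24052 (flp_b L770756) q25223, e3 q24053 L759069 q22775, e3 q24054 (flp_b L769849) q25128, e3 q24055 L759085 q22776, e3 q24056 L759094 q22777, e3 q24057 (flp_b L770807) q25228, e3 q24058 (flp_b L770822) q25230, e3 q24059 L759123 q22779, e3 q24060 (flp_b L770007) q25144, e3 q24061 L759144 q22866, e3 q24062 L759156 q22785, e3 q24063 L759170 q22786, trivial⟩ (by decide +kernel)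

theorem ce_b_376 : ∀ r, r < 64 → sm gb (Qf (24064 + r)) = Qf (tab Gen.b (24064 + r)) :=
  edges_tab (sm gb) Qf (tab Gen.b) 24064 [(24064, 24950), (24065, 25232), (24066, 25234), (24067, 25238), (24068, 24551), (24069, 25141), (24070, 24856), (24071, 23048), (24072, 22796), (24073, 22797), (24074, 22798), (24075, 24720), (24076, 25243), (24077, 25244), (24078, 25245), (24079, 25250), (24080, 22806), (24081, 22807), (24082, 22808), (24083, 22809), (24084, 25003), (24085, 25040), (24086, 25251), (24087, 25252), (24088, 25260), (24089, 25254), (24090, 23070), (24091, 25263), (24092, 22812), (24093, 25143), (24094, 25142), (24095, 24858), (24096, 23083), (24097, 25271), (24098, 22827), (24099, 22828), (24100, 22829), (24101, 24721), (24102, 24917), (24103, 24722), (24104, 24918), (24105, 25272), (24106, 25282), (24107, 25274), (24108, 25121), (24109, 25286), (24110, 22831), (24111, 23066), (24112, 25017), (24113, 22843), (24114, 22844), (24115, 22845), (24116, 22847), (24117, 22848), (24118, 25297), (24119, 22850), (24120, 25053),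 (24121, 25052), (24122, 25290), (24123, 25291), (24124, 25305), (24125, 25293), (24126, 25013), (24127, 25294)]
    ⟨e3 q24064 (flp_b L768209) q24950, e3 q24065 (flp_b L770839) q25232, e3 q24066 (flp_b L770860) q25234, e3 q24067 L770895 q25238, e3 q24068 (flp_b L763595) q24551, e3 q24069 (flp_b L769964) q25141, e3 q24070 (flp_b L767216) q24856, e3 q24071 L759244 q23048, e3 q24072 L759254 q22796, e3 q24073 L759265 q22797, e3 q24074 L759279 q22798, e3 q24075 (flp_b L765758) q24720, e3 q24076 (flp_b L770939) q25243, e3 q24077 (flp_b L770948) q25244, e3 q24078 (flp_b L770958) q25245, e3 q24079 L771004 q25250, e3 q24080 L759337 q22806, e3 q24081 L759344 q22807, e3 q24082 L759360 q22808, e3 q24083 L759366 q22809, e3 q24084 (flp_b L768729) q25003, e3 q24085 (flp_b L769125) q25040, e3 q24086 (flp_b L771018) q25251, e3 q24087 (flp_b L771026) q25252, e3 q24088 L771083 q25260, e3 q24089 (flp_b L771044) q25254, e3 q24090 L759414 q23070, e3 q24091 L771105 q25263, e3 q24092 (flp_b L759432) q22812, e3 q24093 (flp_b L769988) q25143, e3 q24094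 (flp_b L769978) q25142, e3 q24095 (flp_b L767231) q24858, e3 q24096 L759459 q23083, e3 q24097 L771155 q25271, e3 q24098 L759469 q22827, e3 q24099 L759483 q22828, e3 q24100 L759489 q22829, e3 q24101 (flp_b L765775) q24721, e3 q24102 (flp_b L767836) q24917, e3 q24103 (flp_b L765792) q24722, e3 q24104 (flp_b L767849) q24918, e3 q24105 (flp_b L771163) q25272, e3 q24106 L771242 q25282, e3 q24107 (flp_b L771179) q25274, e3 q24108 (flp_b L769774) q25121, e3 q24109 L771266 q25286, e3 q24110 (flp_b L759569) q22831, e3 q24111 L759579 q23066, e3 q24112 (flp_b L768889) q25017, e3 q24113 L759597 q22843, e3 q24114 L759604 q22844, e3 q24115 L759612 q22845, e3 q24116 L759620 q22847, e3 q24117 L759634 q22848, e3 q24118 L771352 q25297, e3 q24119 L759644 q22850, e3 q24120 (flp_b L769247) q25053, e3 q24121 (flp_b L769234) q25052, e3 q24122 (flp_b L771304) q25290, e3 q24123 (flp_b L771312) q25291, e3 q24124 L771399 q25305, e3 q24125 (flp_b L771322) q25293, e3 q24126 (flp_b L768837) q25013, e3 q24127 (flp_b L771332) q25294, trivial⟩ (by decide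 +kernel)

theorem ce_b_377 : ∀ r, r < 64 → sm gb (Qf (24128 + r)) = Qf (tab Gen.b (24128 + r)) :=
  edges_tab (sm gb) Qf (tab Gen.b) 24128 [(24128, 25311), (24129, 25296), (24130, 22849), (24131, 25314), (24132, 25122), (24133, 23115), (24134, 25317), (24135, 22854), (24136, 25217), (24137, 23076), (24138, 23079), (24139, 22860), (24140, 25320), (24141, 25110), (24142, 23077), (24143, 22868), (24144, 24593), (24145, 24587), (24146, 24860), (24147, 24723), (24148, 24919), (24149, 25135), (24150, 25127), (24151, 22880), (24152, 22881), (24153, 25326), (24154, 25136), (24155, 22927), (24156, 22925), (24157, 24789), (24158, 24799), (24159, 25333), (24160, 24745), (24161, 22895), (24162, 24760), (24163, 24778), (24164, 24779), (24165, 24780), (24166, 24781), (24167, 25339), (24168, 24737), (24169, 25340), (24170, 24804), (24171, 24805), (24172, 24806), (24173, 24807), (24174, 24808), (24175, 25348), (24176, 24810), (24177, 24758), (24178, 25352), (24179, 22912), (24180, 24841), (24181, 24755), (24182, 24412), (24183, 24851), (24184,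 24852), (24185, 24759), (24186, 24414), (24187, 24766), (24188, 24782), (24189, 24797), (24190, 25360), (24191, 24668)]
    ⟨e3 q24128 L771431 q25311, e3 q24129 (flp_b L771348) q25296, e3 q24130 (flp_b L759708) q22849, e3 q24131 (flp_b L771447) q25314, e3 q24132 (flp_b L769786) q25122, e3 q24133 L759722 q23115, e3 q24134 L771457 q25317, e3 q24135 (flp_b L759730) q22854, e3 q24136 (flp_b L770693) q25217, e3 q24137 L759744 q23076, e3 q24138 L759758 q23079, e3 q24139 L759768 q22860, e3 q24140 (flp_b L771484) q25320, e3 q24141 (flp_b L769690) q25110, e3 q24142 L759793 q23077, e3 q24143 L759804 q22868, e3 q24144 (flp_b L764117) q24593, e3 q24145 (flp_b L764050) q24587, e3 q24146 (flp_b L767248) q24860, e3 q24147 (flp_b L765808) q24723, e3 q24148 (flp_b L767861) q24919, e3 q24149 (flp_b L769910) q25135, e3 q24150 (flp_b L769829) q25127, e3 q24151 L759854 q22880, e3 q24152 L759862 q22881, e3 q24153 (flp_b L771529) q25326, e3 q24154 (flp_b L769922) q25136, e3 q24155 L759880 q22927, e3 q24156 L759896 q22925, e3 q24157 (flp_b L766587)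 q24789, e3 q24158 (flp_b L766676) q24799, e3 q24159 L771590 q25333, e3 q24160 (flp_b L766087) q24745, e3 q24161 L759940 q22895, e3 q24162 (flp_b L766250) q24760, e3 q24163 (flp_b L766469) q24778, e3 q24164 (flp_b L766486) q24779, e3 q24165 (flp_b L766497) q24780, e3 q24166 (flp_b L766505) q24781, e3 q24167 L771628 q25339, e3 q24168 (flp_b L766000) q24737, e3 q24169 L771634 q25340, e3 q24170 (flp_b L766722) q24804, e3 q24171 (flp_b L766737) q24805, e3 q24172 (flp_b L766750) q24806, e3 q24173 (flp_b L766764) q24807, e3 q24174 (flp_b L766772) q24808, e3 q24175 L771687 q25348, e3 q24176 (flp_b L766786) q24810, e3 q24177 (flp_b L766222) q24758, e3 q24178 L771709 q25352, e3 q24179 (flp_b L760052) q22912, e3 q24180 (flp_b L767054) q24841, e3 q24181 (flp_b L766188) q24755, e3 q24182 (flp_b L761602) q24412, e3 q24183 (flp_b L767147) q24851, e3 q24184 (flp_b L767159) q24852, e3 q24185 (flp_b L766236) q24759, e3 q24186 (flp_b L761624) q24414, e3 q24187 (flp_b L766340) q24766, e3 q24188 (flp_b L766514) q24782, e3 q24189 (flp_b L766648)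 q24797, e3 q24190 L771766 q25360, e3 q24191 (flp_b L765092) q24668, trivial⟩ (by decide +kernel)

theorem ce_b_378 : ∀ r, r < 64 → sm gb (Qf (24192 + r)) = Qf (tab Gen.b (24192 + r)) :=
  edges_tab (sm gb) Qf (tab Gen.b) 24192 [(24192, 25362), (24193, 25363), (24194, 24812), (24195, 24673), (24196, 22930), (24197, 22937), (24198, 22938), (24199, 24876), (24200, 24885), (24201, 25373), (24202, 25368), (24203, 25369), (24204, 22939), (24205, 22941), (24206, 24674), (24207, 24676), (24208, 24793), (24209, 25381), (24210, 22948), (24211, 22949), (24212, 25384), (24213, 25383), (24214, 22950), (24215, 24742), (24216, 24703), (24217, 22958), (24218, 22960), (24219, 25392), (24220, 22962), (24221, 22963), (24222, 24908), (24223, 25397), (24224, 25390), (24225, 24683), (24226, 25400), (24227, 24777), (24228, 22961), (24229, 25403), (24230, 25394), (24231, 24709), (24232, 25406), (24233, 22966), (24234, 25366), (24235, 22977), (24236, 24909), (24237, 24724), (24238, 24725), (24239, 25410), (24240, 22982), (24241, 25412), (24242, 24527),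 (24243, 25414), (24244, 25415), (24245, 22987), (24246, 24915), (24247, 24916), (24248, 23023), (24249, 25159), (24250, 25422), (24251, 22997), (24252, 22998), (24253, 24922), (24254, 24923), (24255, 25423)]
    ⟨e3 q24192 L771778 q25362, e3 q24193 L771784 q25363, e3 q24194 (flp_b L766802) q24812, e3 q24195 (flp_b L765165) q24673, e3 q24196 (flp_b L760163) q22930, e3 q24197 L760169 q22937, e3 q24198 L760175 q22938, e3 q24199 (flp_b L767424) q24876, e3 q24200 (flp_b L767530) q24885, e3 q24201 L771842 q25373, e3 q24202 (flp_b L771812) q25368, e3 q24203 (flp_b L771820) q25369, e3 q24204 (flp_b L760208) q22939, e3 q24205 L760214 q22941, e3 q24206 (flp_b L765181) q24674, e3 q24207 (flp_b L765205) q24676, e3 q24208 (flp_b L766618) q24793, e3 q24209 L771886 q25381, e3 q24210 L760245 q22948, e3 q24211 L760251 q22949, e3 q24212 L771904 q25384, e3 q24213 (flp_b L771898) q25383, e3 q24214 (flp_b L760269) q22950, e3 q24215 (flp_b L766049) q24742, e3 q24216 (flp_b L765545) q24703, e3 q24217 L760287 q22958, e3 q24218 L760293 q22960, e3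 q24219 L771948 q25392, e3 q24220 L760301 q22962, e3 q24221 L760307 q22963, e3 q24222 (flp_b L767758) q24908, e3 q24223 L771974 q25397, e3 q24224 (flp_b L771938) q25390, e3 q24225 (flp_b L765304) q24683, e3 q24226 L771992 q25400, e3 q24227 (flp_b L766453) q24777, e3 q24228 (flp_b L760347) q22961, e3 q24229 (flp_b L772012) q25403, e3 q24230 (flp_b L771958) q25394, e3 q24231 (flp_b L765611) q24709, e3 q24232 L772022 q25406, e3 q24233 (flp_b L760371) q22966, e3 q24234 (flp_b L771804) q25366, e3 q24235 L760383 q22977, e3 q24236 (flp_b L767766) q24909, e3 q24237 (flp_b L765824) q24724, e3 q24238 (flp_b L765837) q24725, e3 q24239 L772048 q25410, e3 q24240 (flp_b L760415) q22982, e3 q24241 L772060 q25412, e3 q24242 (flp_b L763248) q24527, e3 q24243 L772074 q25414, e3 q24244 L772082 q25415, e3 q24245 (flp_b L760447) q22987, e3 q24246 (flp_b L767809) q24915, e3 q24247 (flp_b L767822) q24916, e3 q24248 L760466 q23023, e3 q24249 (flp_b L770166) q25159, e3 q24250 L772125 q25422, e3 q24251 L760487 q22997, e3 q24252 L760499 q22998, e3 q24253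 (flp_b L767893) q24922, e3 q24254 (flp_b L767908) q24923, e3 q24255 (flp_b L772133) q25423, trivial⟩ (by decide +kernel)

theorem ce_b_379 : ∀ r, r < 64 → sm gb (Qf (24256 + r)) = Qf (tab Gen.b (24256 + r)) :=
  edges_tab (sm gb) Qf (tab Gen.b) 24256 [(24256, 25429), (24257, 23024), (24258, 25431), (24259, 23001), (24260, 23006), (24261, 23007), (24262, 23008), (24263, 25437), (24264, 25433), (24265, 25440), (24266, 25441), (24267, 25436), (24268, 23009), (24269, 23010), (24270, 25411), (24271, 23014), (24272, 25445), (24273, 23016), (24274, 24466), (24275, 24467), (24276, 25448), (24277, 25449), (24278, 23021), (24279, 25055), (24280, 25419), (24281, 25454), (24282, 23026), (24283, 25456), (24284, 23027), (24285, 23097), (24286, 23032), (24287, 25460), (24288, 25049), (24289, 25462), (24290, 23033), (24291, 23118), (24292, 23108), (24293, 23128), (24294, 23041), (24295, 23042), (24296, 24491), (24297, 23043), (24298, 25057), (24299, 25466), (24300, 25473), (24301, 25468), (24302, 23044), (24303, 24572), (24304, 25085), (24305,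 24994), (24306, 25480), (24307, 23051), (24308, 24952), (24309, 25483), (24310, 23052), (24311, 24629), (24312, 25006), (24313, 23062), (24314, 23064), (24315, 23067), (24316, 25491), (24317, 24763), (24318, 24974), (24319, 24938)]
    ⟨e3 q24256 L772171 q25429, e3 q24257 L760530 q23024, e3 q24258 L772183 q25431, e3 q24259 (flp_b L760542) q23001, e3 q24260 L760552 q23006, e3 q24261 L760563 q23007, e3 q24262 L760573 q23008, e3 q24263 L772231 q25437, e3 q24264 (flp_b L772201) q25433, e3 q24265 L772246 q25440, e3 q24266 L772250 q25441, e3 q24267 (flp_b L772227) q25436, e3 q24268 (flp_b L760599) q23009, e3 q24269 (flp_b L760603) q23010, e3 q24270 (flp_b L772058) q25411, e3 q24271 L760615 q23014, e3 q24272 (flp_b L772272) q25445, e3 q24273 L760629 q23016, e3 q24274 (flp_b L762406) q24466, e3 q24275 (flp_b L762418) q24467, e3 q24276 L772289 q25448, e3 q24277 L772293 q25449, e3 q24278 (flp_b L760656) q23021, e3 q24279 (flp_b L769270) q25055, e3 q24280 (flp_b L772108) q25419, e3 q24281 L772324 q25454, e3 q24282 L760680 q23026, e3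 q24283 L772332 q25456, e3 q24284 (flp_b L760692) q23027, e3 q24285 L760700 q23097, e3 q24286 L760704 q23032, e3 q24287 L772352 q25460, e3 q24288 (flp_b L769210) q25049, e3 q24289 L772362 q25462, e3 q24290 (flp_b L760722) q23033, e3 q24291 L760728 q23118, e3 q24292 L760734 q23108, e3 q24293 L760744 q23128, e3 q24294 L760754 q23041, e3 q24295 L760760 q23042, e3 q24296 (flp_b L762730) q24491, e3 q24297 L760770 q23043, e3 q24298 (flp_b L769288) q25057, e3 q24299 (flp_b L772392) q25466, e3 q24300 L772426 q25473, e3 q24301 (flp_b L772400) q25468, e3 q24302 (flp_b L760794) q23044, e3 q24303 (flp_b L763869) q24572, e3 q24304 (flp_b L769494) q25085, e3 q24305 (flp_b L768643) q24994, e3 q24306 L772463 q25480, e3 q24307 L760827 q23051, e3 q24308 (flp_b L768230) q24952, e3 q24309 L772483 q25483, e3 q24310 (flp_b L760849) q23052, e3 q24311 (flp_b L764585) q24629, e3 q24312 (flp_b L768771) q25006, e3 q24313 L760869 q23062, e3 q24314 L760876 q23064, e3 q24315 L760882 q23067, e3 q24316 L772531 q25491, e3 q24317 (flp_b L766299) q24763, e3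 q24318 (flp_b L768450) q24974, e3 q24319 (flp_b L768078) q24938, trivial⟩ (by decide +kernel)

theorem ce_b_380 : ∀ r, r < 64 → sm gb (Qf (24320 + r)) = Qf (tab Gen.b (24320 + r)) :=
  edges_tab (sm gb) Qf (tab Gen.b) 24320 [(24320, 25487), (24321, 24939), (24322, 25498), (24323, 24986), (24324, 25288), (24325, 25502), (24326, 25490), (24327, 23068), (24328, 24972), (24329, 25506), (24330, 23071), (24331, 25450), (24332, 24487), (24333, 24493), (24334, 23078), (24335, 25319), (24336, 25321), (24337, 25088), (24338, 25512), (24339, 24775), (24340, 25515), (24341, 25270), (24342, 23084), (24343, 23088), (24344, 25520), (24345, 25521), (24346, 25522), (24347, 25519), (24348, 23089), (24349, 25526), (24350, 23105), (24351, 23103), (24352, 24767), (24353, 25530), (24354, 23094), (24355, 25457), (24356, 25176), (24357, 25533), (24358, 23109), (24359, 25536), (24360, 23111), (24361, 23101), (24362, 24940), (24363, 25528), (24364, 24941), (24365, 25544), (24366, 25524), (24367, 25546), (24368, 23107), (24369, 25464), (24370, 25550),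 (24371, 25535), (24372, 23110), (24373, 25554), (24374, 24539), (24375, 25463), (24376, 23113), (24377, 25557), (24378, 25558), (24379, 23116), (24380, 25181), (24381, 25115), (24382, 23122), (24383, 23150)]
    ⟨e3 q24320 (flp_b L772507) q25487, e3 q24321 (flp_b L768091) q24939, e3 q24322 L772575 q25498, e3 q24323 (flp_b L768569) q24986, e3 q24324 (flp_b L771288) q25288, e3 q24325 L772601 q25502, e3 q24326 (flp_b L772525) q25490, e3 q24327 (flp_b L760957) q23068, e3 q24328 (flp_b L768422) q24972, e3 q24329 L772627 q25506, e3 q24330 (flp_b L760975) q23071, e3 q24331 (flp_b L772303) q25450, e3 q24332 (flp_b L762673) q24487, e3 q24333 (flp_b L762755) q24493, e3 q24334 L761006 q23078, e3 q24335 (flp_b L771473) q25319, e3 q24336 (flp_b L771495) q25321, e3 q24337 (flp_b L769524) q25088, e3 q24338 L772666 q25512, e3 q24339 (flp_b L766433) q24775, e3 q24340 L772683 q25515, e3 q24341 (flp_b L771152) q25270, e3 q24342 (flp_b L761052) q23084, e3 q24343 L761058 q23088, e3 q24344 L772715 q25520, e3 q24345 L772725 q25521, e3 q24346 L772735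 q25522, e3 q24347 (flp_b L772705) q25519, e3 q24348 (flp_b L761096) q23089, e3 q24349 (flp_b L772769) q25526, e3 q24350 L761112 q23105, e3 q24351 L761122 q23103, e3 q24352 (flp_b L766351) q24767, e3 q24353 L772799 q25530, e3 q24354 (flp_b L761138) q23094, e3 q24355 (flp_b L772342) q25457, e3 q24356 (flp_b L770339) q25176, e3 q24357 L772815 q25533, e3 q24358 L761160 q23109, e3 q24359 L772829 q25536, e3 q24360 L761170 q23111, e3 q24361 (flp_b L761174) q23101, e3 q24362 (flp_b L768105) q24940, e3 q24363 (flp_b L772787) q25528, e3 q24364 (flp_b L768119) q24941, e3 q24365 L772875 q25544, e3 q24366 (flp_b L772751) q25524, e3 q24367 L772887 q25546, e3 q24368 (flp_b L761214) q23107, e3 q24369 (flp_b L772376) q25464, e3 q24370 L772907 q25550, e3 q24371 (flp_b L772823) q25535, e3 q24372 (flp_b L761234) q23110, e3 q24373 (flp_b L772931) q25554, e3 q24374 (flp_b L763416) q24539, e3 q24375 (flp_b L772370) q25463, e3 q24376 L761256 q23113, e3 q24377 (flp_b L772945) q25557, e3 q24378 L772947 q25558, e3 q24379 (flp_b L761266) q23116, e3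 q24380 (flp_b L770381) q25181, e3 q24381 (flp_b L769734) q25115, e3 q24382 L761284 q23122, e3 q24383 L761294 q23150, trivial⟩ (by decide +kernel)

theorem ce_b_381 : ∀ r, r < 64 → sm gb (Qf (24384 + r)) = Qf (tab Gen.b (24384 + r)) :=
  edges_tab (sm gb) Qf (tab Gen.b) 24384 [(24384, 23148), (24385, 23129), (24386, 25123), (24387, 25465), (24388, 25027), (24389, 23152), (24390, 23142), (24391, 23143), (24392, 24500), (24393, 25106), (24394, 25562), (24395, 25028), (24396, 23151), (24397, 24960), (24398, 25561), (24399, 24962), (24400, 25137), (24401, 25132), (24402, 23501), (24403, 23502), (24404, 23506), (24405, 23481), (24406, 23510), (24407, 23628), (24408, 23629), (24409, 23517), (24410, 25576), (24411, 23175), (24412, 24182), (24413, 23522), (24414, 24186), (24415, 23181), (24416, 25580), (24417, 23609), (24418, 23619), (24419, 25584), (24420, 23625), (24421, 23627), (24422, 25586), (24423, 25587), (24424, 23656), (24425, 23657), (24426, 25591), (24427, 23659), (24428, 23193), (24429, 23671), (24430, 23196), (24431,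 25594), (24432, 23201), (24433, 23798), (24434, 23699), (24435, 23700), (24436, 23209), (24437, 23210), (24438, 23598), (24439, 23597), (24440, 25599), (24441, 25600), (24442, 23703), (24443, 23704), (24444, 23706), (24445, 24024), (24446, 24026), (24447, 24043)]
    ⟨e3 q24384 L761304 q23148, e3 q24385 L761313 q23129, e3 q24386 (flp_b L769796) q25123, e3 q24387 (flp_b L772384) q25465, e3 q24388 (flp_b L768973) q25027, e3 q24389 L761346 q23152, e3 q24390 L761353 q23142, e3 q24391 L761360 q23143, e3 q24392 (flp_b L762845) q24500, e3 q24393 (flp_b L769645) q25106, e3 q24394 (flp_b L772975) q25562, e3 q24395 (flp_b L768988) q25028, e3 q24396 L761386 q23151, e3 q24397 (flp_b L768302) q24960, e3 q24398 (flp_b L772967) q25561, e3 q24399 (flp_b L768327) q24962, e3 q24400 (flp_b L769933) q25137, e3 q24401 (flp_b L769880) q25132, e3 q24402 L761431 q23501, e3 q24403 L761449 q23502, e3 q24404 L761465 q23506, e3 q24405 L761482 q23481, e3 q24406 L761500 q23510, e3 q24407 L761516 q23628, e3 q24408 L761534 q23629, e3 q24409 L761550 q23517,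 e3 q24410 L773142 q25576, e3 q24411 L761572 q23175, e3 q24412 L761602 q24182, e3 q24413 L761610 q23522, e3 q24414 L761624 q24186, e3 q24415 L761639 q23181, e3 q24416 L773204 q25580, e3 q24417 L761675 q23609, e3 q24418 L761693 q23619, e3 q24419 L773270 q25584, e3 q24420 L761721 q23625, e3 q24421 L761738 q23627, e3 q24422 L773301 q25586, e3 q24423 L773313 q25587, e3 q24424 L761781 q23656, e3 q24425 L761799 q23657, e3 q24426 L773381 q25591, e3 q24427 L761825 q23659, e3 q24428 (flp_b L761833) q23193, e3 q24429 L761845 q23671, e3 q24430 (flp_b L761857) q23196, e3 q24431 (flp_b L773415) q25594, e3 q24432 L761893 q23201, e3 q24433 L761910 q23798, e3 q24434 L761925 q23699, e3 q24435 L761942 q23700, e3 q24436 L761958 q23209, e3 q24437 L761976 q23210, e3 q24438 L761991 q23598, e3 q24439 L762008 q23597, e3 q24440 (flp_b L773492) q25599, e3 q24441 (flp_b L773510) q25600, e3 q24442 L762053 q23703, e3 q24443 L762066 q23704, e3 q24444 L762080 q23706, e3 q24445 L762098 q24024, e3 q24446 L762115 q24026, e3 q24447 L762133 q24043, trivial⟩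 (by decide +kernel)

theorem ce_b_382 : ∀ r, r < 64 → sm gb (Qf (24448 + r)) = Qf (tab Gen.b (24448 + r)) :=
  edges_tab (sm gb) Qf (tab Gen.b) 24448 [(24448, 23490), (24449, 23707), (24450, 23708), (24451, 23339), (24452, 24034), (24453, 24036), (24454, 24046), (24455, 23709), (24456, 25621), (24457, 23761), (24458, 23491), (24459, 23711), (24460, 23949), (24461, 23762), (24462, 23950), (24463, 23712), (24464, 23715), (24465, 23997), (24466, 24274), (24467, 24275), (24468, 23701), (24469, 23717), (24470, 25635), (24471, 23247), (24472, 23248), (24473, 23250), (24474, 23251), (24475, 23338), (24476, 24012), (24477, 25636), (24478, 25637), (24479, 24013), (24480, 25647), (24481, 25639), (24482, 23796), (24483, 25651), (24484, 23726), (24485, 23253), (24486, 23998), (24487, 24332), (24488, 23790), (24489, 23792), (24490, 23702), (24491, 24296), (24492, 23728), (24493, 24333), (24494, 24014), (24495, 23794), (24496, 23264), (24497, 25650), (24498, 23971), (24499, 23732), (24500, 24392), (24501, 23271), (24502, 25666), (24503,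 23799), (24504, 23277), (24505, 23278), (24506, 23279), (24507, 25669), (24508, 25670), (24509, 23800), (24510, 23797), (24511, 23303)]
    ⟨e3 q24448 L762150 q23490, e3 q24449 L762168 q23707, e3 q24450 L762184 q23708, e3 q24451 L762196 q23339, e3 q24452 L762213 q24034, e3 q24453 L762224 q24036, e3 q24454 L762236 q24046, e3 q24455 L762249 q23709, e3 q24456 L773801 q25621, e3 q24457 L762271 q23761, e3 q24458 L762287 q23491, e3 q24459 L762302 q23711, e3 q24460 L762323 q23949, e3 q24461 L762331 q23762, e3 q24462 L762353 q23950, e3 q24463 L762361 q23712, e3 q24464 L762374 q23715, e3 q24465 L762390 q23997, e3 q24466 L762406 q24274, e3 q24467 L762418 q24275, e3 q24468 L762432 q23701, e3 q24469 L762446 q23717, e3 q24470 L773989 q25635, e3 q24471 L762464 q23247, e3 q24472 L762482 q23248, e3 q24473 L762498 q23250, e3 q24474 L762512 q23251, e3 q24475 L762530 q23338, e3 q24476 L762547 q24012, e3 q24477 (flp_b L774001) q25636, e3 q24478 (flp_b L774019) q25637, e3 q24479 L762586 q24013, e3 q24480 L774148 q25647, e3 q24481 (flp_b L774047)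 q25639, e3 q24482 L762614 q23796, e3 q24483 L774190 q25651, e3 q24484 L762634 q23726, e3 q24485 (flp_b L762642) q23253, e3 q24486 L762654 q23998, e3 q24487 L762673 q24332, e3 q24488 L762683 q23790, e3 q24489 L762699 q23792, e3 q24490 L762711 q23702, e3 q24491 L762730 q24296, e3 q24492 L762736 q23728, e3 q24493 L762755 q24333, e3 q24494 L762763 q24014, e3 q24495 L762774 q23794, e3 q24496 L762789 q23264, e3 q24497 (flp_b L774176) q25650, e3 q24498 L762825 q23971, e3 q24499 L762832 q23732, e3 q24500 L762845 q24392, e3 q24501 L762860 q23271, e3 q24502 (flp_b L774386) q25666, e3 q24503 L762887 q23799, e3 q24504 L762902 q23277, e3 q24505 L762917 q23278, e3 q24506 L762932 q23279, e3 q24507 (flp_b L774430) q25669, e3 q24508 (flp_b L774446) q25670, e3 q24509 L762975 q23800, e3 q24510 L762989 q23797, e3 q24511 L763002 q23303, trivial⟩ (by decide +kernel)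

theorem ce_b_383 : ∀ r, r < 64 → sm gb (Qf (24512 + r)) = Qf (tab Gen.b (24512 + r)) :=
  edges_tab (sm gb) Qf (tab Gen.b) 24512 [(24512, 23308), (24513, 23754), (24514, 23759), (24515, 23310), (24516, 23311), (24517, 23755), (24518, 23760), (24519, 23312), (24520, 23750), (24521, 23757), (24522, 23763), (24523, 23317), (24524, 25687), (24525, 23321), (24526, 23741), (24527, 24242), (24528, 25673), (24529, 23780), (24530, 23783), (24531, 23795), (24532, 23742), (24533, 25696), (24534, 23743), (24535, 25677), (24536, 25678), (24537, 25699), (24538, 25700), (24539, 24374), (24540, 23513), (24541, 23696), (24542, 25705), (24543, 25686), (24544, 23318), (24545, 23526), (24546, 23698), (24547, 23527), (24548, 23329), (24549, 23330), (24550, 23821), (24551, 24068), (24552, 25709), (24553, 25710), (24554, 23809), (24555, 23810), (24556, 23811), (24557, 23590), (24558, 23591), (24559, 23340), (24560, 23341), (24561, 25640), (24562, 25614), (24563, 25720), (24564, 25722), (24565, 23826), (24566, 25730), (24567, 23829), (24568, 23830),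 (24569, 23831), (24570, 23350), (24571, 23351), (24572, 24303), (24573, 25734), (24574, 25735), (24575, 23837)]
    ⟨e3 q24512 L763020 q23308, e3 q24513 L763036 q23754, e3 q24514 L763054 q23759, e3 q24515 L763069 q23310, e3 q24516 L763086 q23311, e3 q24517 L763100 q23755, e3 q24518 L763116 q23760, e3 q24519 L763131 q23312, e3 q24520 L763145 q23750, e3 q24521 L763162 q23757, e3 q24522 L763174 q23763, e3 q24523 L763189 q23317, e3 q24524 L774702 q25687, e3 q24525 L763213 q23321, e3 q24526 L763231 q23741, e3 q24527 L763248 q24242, e3 q24528 (flp_b L774488) q25673, e3 q24529 L763274 q23780, e3 q24530 L763291 q23783, e3 q24531 L763305 q23795, e3 q24532 L763322 q23742, e3 q24533 L774830 q25696, e3 q24534 L763346 q23743, e3 q24535 (flp_b L774556) q25677, e3 q24536 (flp_b L774573) q25678, e3 q24537 L774864 q25699, e3 q24538 L774876 q25700, e3 q24539 L763416 q24374, e3 q24540 L763432 q23513, e3 q24541 L763450 q23696, e3 q24542 L774952 q25705, e3 q24543 (flp_b L774688) q25686, e3 q24544 (flp_b L763484) q23318, e3 q24545 L763494 q23526,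 e3 q24546 L763512 q23698, e3 q24547 L763528 q23527, e3 q24548 L763545 q23329, e3 q24549 L763563 q23330, e3 q24550 L763578 q23821, e3 q24551 L763595 q24068, e3 q24552 (flp_b L775006) q25709, e3 q24553 (flp_b L775024) q25710, e3 q24554 L763640 q23809, e3 q24555 L763657 q23810, e3 q24556 L763668 q23811, e3 q24557 L763682 q23590, e3 q24558 L763700 q23591, e3 q24559 L763713 q23340, e3 q24560 L763725 q23341, e3 q24561 (flp_b L774063) q25640, e3 q24562 (flp_b L773711) q25614, e3 q24563 (flp_b L775166) q25720, e3 q24564 (flp_b L775184) q25722, e3 q24565 L763776 q23826, e3 q24566 L775260 q25730, e3 q24567 L763798 q23829, e3 q24568 L763813 q23830, e3 q24569 L763824 q23831, e3 q24570 L763838 q23350, e3 q24571 L763854 q23351, e3 q24572 L763869 q24303, e3 q24573 (flp_b L775313) q25734, e3 q24574 (flp_b L775327) q25735, e3 q24575 L763901 q23837, trivial⟩ (by decide +kernel)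

theorem ce_b_384 : ∀ r, r < 64 → sm gb (Qf (24576 + r)) = Qf (tab Gen.b (24576 + r)) :=
  edges_tab (sm gb) Qf (tab Gen.b) 24576 [(24576, 23838), (24577, 25743), (24578, 23360), (24579, 23362), (24580, 23363), (24581, 23828), (24582, 23872), (24583, 25744), (24584, 23897), (24585, 25752), (24586, 25746), (24587, 24145), (24588, 23849), (24589, 23850), (24590, 25758), (24591, 23852), (24592, 23367), (24593, 24144), (24594, 23857), (24595, 23939), (24596, 23859), (24597, 23863), (24598, 23865), (24599, 23940), (24600, 23551), (24601, 23875), (24602, 23876), (24603, 25769), (24604, 23834), (24605, 23855), (24606, 23387), (24607, 23388), (24608, 25775), (24609, 25773), (24610, 25774), (24611, 23892), (24612, 23893), (24613, 25782), (24614, 23895), (24615, 23392), (24616, 23843), (24617, 23847), (24618, 23862), (24619, 23401), (24620, 23402), (24621, 23405), (24622, 25792), (24623, 23407), (24624, 23408), (24625, 25788), (24626, 25797), (24627, 25790), (24628, 23844), (24629, 24311), (24630, 25802), (24631, 23406), (24632, 25804),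 (24633, 25794), (24634, 23731), (24635, 23920), (24636, 25809), (24637, 23922), (24638, 23411), (24639, 25812)]
    ⟨e3 q24576 L763917 q23838, e3 q24577 L775423 q25743, e3 q24578 L763935 q23360, e3 q24579 L763952 q23362, e3 q24580 L763964 q23363, e3 q24581 L763979 q23828, e3 q24582 L763995 q23872, e3 q24583 (flp_b L775435) q25744, e3 q24584 L764018 q23897, e3 q24585 L775536 q25752, e3 q24586 (flp_b L775463) q25746, e3 q24587 L764050 q24145, e3 q24588 L764063 q23849, e3 q24589 L764081 q23850, e3 q24590 L775612 q25758, e3 q24591 L764099 q23852, e3 q24592 (flp_b L764105) q23367, e3 q24593 L764117 q24144, e3 q24594 L764130 q23857, e3 q24595 L764157 q23939, e3 q24596 L764163 q23859, e3 q24597 L764174 q23863, e3 q24598 L764191 q23865, e3 q24599 L764206 q23940, e3 q24600 L764219 q23551, e3 q24601 L764236 q23875, e3 q24602 L764247 q23876, e3 q24603 L775739 q25769, e3 q24604 L764263 q23834, e3 q24605 L764281 q23855, e3 q24606 L764297 q23387, e3 q24607 L764307 q23388, e3 q24608 L775819 q25775, e3 q24609 (flp_b L775793) q25773, e3 q24610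 (flp_b L775805) q25774, e3 q24611 L764349 q23892, e3 q24612 L764365 q23893, e3 q24613 L775899 q25782, e3 q24614 L764387 q23895, e3 q24615 (flp_b L764395) q23392, e3 q24616 L764405 q23843, e3 q24617 L764423 q23847, e3 q24618 L764435 q23862, e3 q24619 L764451 q23401, e3 q24620 L764467 q23402, e3 q24621 L764481 q23405, e3 q24622 L776027 q25792, e3 q24623 L764503 q23407, e3 q24624 L764513 q23408, e3 q24625 (flp_b L775973) q25788, e3 q24626 L776083 q25797, e3 q24627 (flp_b L775999) q25790, e3 q24628 L764567 q23844, e3 q24629 L764585 q24311, e3 q24630 L776157 q25802, e3 q24631 (flp_b L764611) q23406, e3 q24632 (flp_b L776177) q25804, e3 q24633 (flp_b L776045) q25794, e3 q24634 L764635 q23731, e3 q24635 L764649 q23920, e3 q24636 L776223 q25809, e3 q24637 L764663 q23922, e3 q24638 (flp_b L764669) q23411, e3 q24639 (flp_b L776245) q25812, trivial⟩ (by decide +kernel)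

theorem ce_b_385 : ∀ r, r < 64 → sm gb (Qf (24640 + r)) = Qf (tab Gen.b (24640 + r)) :=
  edges_tab (sm gb) Qf (tab Gen.b) 24640 [(24640, 25707), (24641, 23416), (24642, 23808), (24643, 23931), (24644, 23933), (24645, 23419), (24646, 25816), (24647, 23944), (24648, 23428), (24649, 25818), (24650, 23952), (24651, 23955), (24652, 23432), (24653, 23448), (24654, 23439), (24655, 23437), (24656, 25778), (24657, 23446), (24658, 23447), (24659, 25821), (24660, 25771), (24661, 23734), (24662, 23480), (24663, 23484), (24664, 23562), (24665, 23651), (24666, 23666), (24667, 23988), (24668, 24191), (24669, 23995), (24670, 23548), (24671, 25823), (24672, 25570), (24673, 24195), (24674, 24206), (24675, 25837), (24676, 24207), (24677, 23647), (24678, 23613), (24679, 25611), (24680, 25623), (24681, 24020), (24682, 24021), (24683, 24225), (24684, 23498), (24685, 23499), (24686, 23766), (24687, 25845), (24688, 25846), (24689, 23555), (24690, 25567), (24691, 25854), (24692, 23536), (24693, 23560), (24694, 23577), (24695, 25569), (24696, 23982),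 (24697, 25858), (24698, 23514), (24699, 23515), (24700, 25702), (24701, 25863), (24702, 25860), (24703, 24216)]
    ⟨e3 q24640 (flp_b L774982) q25707, e3 q24641 L764689 q23416, e3 q24642 L764707 q23808, e3 q24643 L764720 q23931, e3 q24644 L764737 q23933, e3 q24645 (flp_b L764745) q23419, e3 q24646 (flp_b L776292) q25816, e3 q24647 L764777 q23944, e3 q24648 L764789 q23428, e3 q24649 (flp_b L776322) q25818, e3 q24650 L764809 q23952, e3 q24651 L764826 q23955, e3 q24652 L764840 q23432, e3 q24653 L764857 q23448, e3 q24654 L764874 q23439, e3 q24655 L764891 q23437, e3 q24656 (flp_b L775855) q25778, e3 q24657 L764912 q23446, e3 q24658 L764927 q23447, e3 q24659 (flp_b L776355) q25821, e3 q24660 (flp_b L775767) q25771, e3 q24661 L764970 q23734, e3 q24662 L764987 q23480, e3 q24663 L765005 q23484, e3 q24664 L765021 q23562, e3 q24665 L765039 q23651, e3 q24666 L765057 q23666, e3 q24667 L765074 q23988, e3 q24668 L765092 q24191, e3 q24669 L765106 q23995, e3 q24670 L765123 q23548, e3 q24671 (flp_b L776390) q25823, e3 q24672 (flp_b L773052)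 q25570, e3 q24673 L765165 q24195, e3 q24674 L765181 q24206, e3 q24675 L776606 q25837, e3 q24676 L765205 q24207, e3 q24677 L765221 q23647, e3 q24678 L765238 q23613, e3 q24679 (flp_b L773671) q25611, e3 q24680 (flp_b L773830) q25623, e3 q24681 L765279 q24020, e3 q24682 L765292 q24021, e3 q24683 L765304 q24225, e3 q24684 L765318 q23498, e3 q24685 L765336 q23499, e3 q24686 L765351 q23766, e3 q24687 (flp_b L776707) q25845, e3 q24688 (flp_b L776723) q25846, e3 q24689 L765381 q23555, e3 q24690 (flp_b L773003) q25567, e3 q24691 L776813 q25854, e3 q24692 L765413 q23536, e3 q24693 L765430 q23560, e3 q24694 L765458 q23577, e3 q24695 (flp_b L773035) q25569, e3 q24696 L765469 q23982, e3 q24697 L776871 q25858, e3 q24698 L765493 q23514, e3 q24699 L765503 q23515, e3 q24700 (flp_b L774910) q25702, e3 q24701 L776933 q25863, e3 q24702 (flp_b L776891) q25860, e3 q24703 L765545 q24216, trivial⟩ (by decide +kernel)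

theorem ce_b_386 : ∀ r, r < 64 → sm gb (Qf (24704 + r)) = Qf (tab Gen.b (24704 + r)) :=
  edges_tab (sm gb) Qf (tab Gen.b) 24704 [(24704, 23573), (24705, 25868), (24706, 25575), (24707, 23518), (24708, 23582), (24709, 24231), (24710, 25708), (24711, 23556), (24712, 23566), (24713, 23534), (24714, 23535), (24715, 25874), (24716, 25875), (24717, 25850), (24718, 25879), (24719, 23694), (24720, 24075), (24721, 24101), (24722, 24103), (24723, 24147), (24724, 24237), (24725, 24238), (24726, 23570), (24727, 25831), (24728, 23553), (24729, 23554), (24730, 25765), (24731, 23563), (24732, 25889), (24733, 25890), (24734, 25851), (24735, 25898), (24736, 23667), (24737, 24168), (24738, 25855), (24739, 25825), (24740, 25892), (24741, 23640), (24742, 24215), (24743, 25904), (24744, 23571), (24745, 24160), (24746, 23572), (24747, 25887), (24748, 25911), (24749, 25906), (24750, 25908), (24751, 25914), (24752, 25867), (24753, 23574), (24754, 23580), (24755, 24181), (24756, 25856), (24757, 23626), (24758, 24177), (24759, 24185), (24760, 24162),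 (24761, 23586), (24762, 23906), (24763, 24317), (24764, 25718), (24765, 25719), (24766, 24187), (24767, 24352)]
    ⟨e3 q24704 L765559 q23573, e3 q24705 L776989 q25868, e3 q24706 (flp_b L773130) q25575, e3 q24707 (flp_b L765583) q23518, e3 q24708 L765595 q23582, e3 q24709 L765611 q24231, e3 q24710 (flp_b L774988) q25708, e3 q24711 L765643 q23556, e3 q24712 L765657 q23566, e3 q24713 L765669 q23534, e3 q24714 L765686 q23535, e3 q24715 (flp_b L777053) q25874, e3 q24716 (flp_b L777070) q25875, e3 q24717 (flp_b L776770) q25850, e3 q24718 L777114 q25879, e3 q24719 L765742 q23694, e3 q24720 L765758 q24075, e3 q24721 L765775 q24101, e3 q24722 L765792 q24103, e3 q24723 L765808 q24147, e3 q24724 L765824 q24237, e3 q24725 L765837 q24238, e3 q24726 L765851 q23570, e3 q24727 (flp_b L776518) q25831, e3 q24728 L765877 q23553, e3 q24729 L765895 q23554, e3 q24730 (flp_b L775697) q25765, e3 q24731 L765923 q23563, e3 q24732 (flp_b L777253) q25889, e3 q24733 (flp_b L777267) q25890, e3 q24734 (flp_b L776787) q25851, e3 q24735 L777363 q25898,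 e3 q24736 L765974 q23667, e3 q24737 L766000 q24168, e3 q24738 (flp_b L776825) q25855, e3 q24739 (flp_b L776424) q25825, e3 q24740 (flp_b L777296) q25892, e3 q24741 L766031 q23640, e3 q24742 L766049 q24215, e3 q24743 L777430 q25904, e3 q24744 L766067 q23571, e3 q24745 L766087 q24160, e3 q24746 L766093 q23572, e3 q24747 (flp_b L777229) q25887, e3 q24748 L777508 q25911, e3 q24749 (flp_b L777444) q25906, e3 q24750 (flp_b L777476) q25908, e3 q24751 L777530 q25914, e3 q24752 (flp_b L776977) q25867, e3 q24753 (flp_b L766151) q23574, e3 q24754 L766161 q23580, e3 q24755 L766188 q24181, e3 q24756 (flp_b L776842) q25856, e3 q24757 L766205 q23626, e3 q24758 L766222 q24177, e3 q24759 L766236 q24185, e3 q24760 L766250 q24162, e3 q24761 L766265 q23586, e3 q24762 L766282 q23906, e3 q24763 L766299 q24317, e3 q24764 (flp_b L775136) q25718, e3 q24765 (flp_b L775154) q25719, e3 q24766 L766340 q24187, e3 q24767 L766351 q24352, trivial⟩ (by decide +kernel)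

theorem ce_b_387 : ∀ r, r < 64 → sm gb (Qf (24768 + r)) = Qf (tab Gen.b (24768 + r)) :=
  edges_tab (sm gb) Qf (tab Gen.b) 24768 [(24768, 23599), (24769, 23600), (24770, 23905), (24771, 25602), (24772, 25601), (24773, 25926), (24774, 25928), (24775, 24339), (24776, 25937), (24777, 24227), (24778, 24163), (24779, 24164), (24780, 24165), (24781, 24166), (24782, 24188), (24783, 25945), (24784, 23614), (24785, 23616), (24786, 23617), (24787, 25839), (24788, 25946), (24789, 24157), (24790, 25955), (24791, 25948), (24792, 25949), (24793, 24208), (24794, 25960), (24795, 25583), (24796, 23620), (24797, 24189), (24798, 23624), (24799, 24158), (24800, 25585), (24801, 25918), (24802, 25572), (24803, 25966), (24804, 24170), (24805, 24171), (24806, 24172), (24807, 24173), (24808, 24174), (24809, 25974), (24810, 24176), (24811, 25976), (24812, 24194), (24813, 23638), (24814, 23773), (24815, 25902), (24816, 23648), (24817, 23649), (24818, 23650), (24819, 23652), (24820, 25987), (24821, 23654), (24822, 23655), (24823, 25838), (24824, 25981),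 (24825, 25982), (24826, 25995), (24827, 25984), (24828, 25826), (24829, 26000), (24830, 25986), (24831, 23653)]
    ⟨e3 q24768 L766363 q23599, e3 q24769 L766375 q23600, e3 q24770 L766387 q23905, e3 q24771 (flp_b L773541) q25602, e3 q24772 (flp_b L773524) q25601, e3 q24773 (flp_b L777677) q25926, e3 q24774 (flp_b L777695) q25928, e3 q24775 L766433 q24339, e3 q24776 L777776 q25937, e3 q24777 L766453 q24227, e3 q24778 L766469 q24163, e3 q24779 L766486 q24164, e3 q24780 L766497 q24165, e3 q24781 L766505 q24166, e3 q24782 L766514 q24188, e3 q24783 L777865 q25945, e3 q24784 L766532 q23614, e3 q24785 L766547 q23616, e3 q24786 L766561 q23617, e3 q24787 (flp_b L776635) q25839, e3 q24788 (flp_b L777875) q25946, e3 q24789 L766587 q24157, e3 q24790 L777971 q25955, e3 q24791 (flp_b L777903) q25948, e3 q24792 (flp_b L777917) q25949, e3 q24793 L766618 q24208, e3 q24794 L778019 q25960, e3 q24795 (flp_b L773258) q25583, e3 q24796 (flp_b L766640) q23620, e3 q24797 L766648 q24189, e3 q24798 L766659 q23624, e3 q24799 L766676 q24158, e3 q24800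 (flp_b L773286) q25585, e3 q24801 (flp_b L777573) q25918, e3 q24802 (flp_b L773086) q25572, e3 q24803 L778063 q25966, e3 q24804 L766722 q24170, e3 q24805 L766737 q24171, e3 q24806 L766750 q24172, e3 q24807 L766764 q24173, e3 q24808 L766772 q24174, e3 q24809 L778144 q25974, e3 q24810 L766786 q24176, e3 q24811 L778158 q25976, e3 q24812 L766802 q24194, e3 q24813 (flp_b L766810) q23638, e3 q24814 L766820 q23773, e3 q24815 (flp_b L777408) q25902, e3 q24816 L766848 q23648, e3 q24817 L766859 q23649, e3 q24818 L766873 q23650, e3 q24819 L766885 q23652, e3 q24820 L778278 q25987, e3 q24821 L766903 q23654, e3 q24822 L766913 q23655, e3 q24823 (flp_b L776618) q25838, e3 q24824 (flp_b L778214) q25981, e3 q24825 (flp_b L778224) q25982, e3 q24826 L778343 q25995, e3 q24827 (flp_b L778244) q25984, e3 q24828 (flp_b L776442) q25826, e3 q24829 L778385 q26000, e3 q24830 (flp_b L778270) q25986, e3 q24831 (flp_b L766978) q23653, trivial⟩ (by decide +kernel)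

theorem ce_b_388 : ∀ r, r < 64 → sm gb (Qf (24832 + r)) = Qf (tab Gen.b (24832 + r)) :=
  edges_tab (sm gb) Qf (tab Gen.b) 24832 [(24832, 26004), (24833, 25989), (24834, 23672), (24835, 25588), (24836, 26008), (24837, 25590), (24838, 23658), (24839, 26011), (24840, 25916), (24841, 24180), (24842, 23668), (24843, 23669), (24844, 25827), (24845, 25895), (24846, 26013), (24847, 26006), (24848, 23688), (24849, 23675), (24850, 26018), (24851, 24183), (24852, 24184), (24853, 23791), (24854, 23684), (24855, 23686), (24856, 24070), (24857, 26021), (24858, 24095), (24859, 26016), (24860, 24146), (24861, 23695), (24862, 23919), (24863, 23942), (24864, 26029), (24865, 25880), (24866, 26031), (24867, 26032), (24868, 25704), (24869, 23697), (24870, 25597), (24871, 25598), (24872, 25632), (24873, 25659), (24874, 25605), (24875, 26042), (24876, 24199), (24877, 25607), (24878, 25612), (24879, 26047), (24880, 26048), (24881, 25620), (24882, 23710), (24883, 25625), (24884, 23751), (24885, 24200), (24886, 26054), (24887, 26055), (24888, 26056),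 (24889, 25634), (24890, 23718), (24891, 26059), (24892, 26060), (24893, 26061), (24894, 23722), (24895, 23774)]
    ⟨e3 q24832 (flp_b L778409) q26004, e3 q24833 (flp_b L778300) q25989, e3 q24834 L766996 q23672, e3 q24835 (flp_b L773335) q25588, e3 q24836 L778435 q26008, e3 q24837 (flp_b L773367) q25590, e3 q24838 (flp_b L767034) q23658, e3 q24839 (flp_b L778463) q26011, e3 q24840 (flp_b L777550) q25916, e3 q24841 L767054 q24180, e3 q24842 L767063 q23668, e3 q24843 L767076 q23669, e3 q24844 (flp_b L776456) q25827, e3 q24845 (flp_b L777334) q25895, e3 q24846 (flp_b L778475) q26013, e3 q24847 (flp_b L778419) q26006, e3 q24848 L767114 q23688, e3 q24849 L767128 q23675, e3 q24850 (flp_b L778527) q26018, e3 q24851 L767147 q24183, e3 q24852 L767159 q24184, e3 q24853 L767169 q23791, e3 q24854 L767182 q23684, e3 q24855 L767196 q23686, e3 q24856 L767216 q24070, e3 q24857 (flp_b L778559) q26021, e3 q24858 L767231 q24095, e3 q24859 (flp_b L778498) q26016, e3 q24860 L767248 q24146, e3 q24861 L767262 q23695, e3 q24862 L767274 q23919, e3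 q24863 L767288 q23942, e3 q24864 L778654 q26029, e3 q24865 (flp_b L777126) q25880, e3 q24866 L778678 q26031, e3 q24867 L778688 q26032, e3 q24868 (flp_b L774940) q25704, e3 q24869 (flp_b L767353) q23697, e3 q24870 (flp_b L773459) q25597, e3 q24871 (flp_b L773476) q25598, e3 q24872 (flp_b L773957) q25632, e3 q24873 (flp_b L774289) q25659, e3 q24874 (flp_b L773581) q25605, e3 q24875 L778786 q26042, e3 q24876 L767424 q24199, e3 q24877 (flp_b L773607) q25607, e3 q24878 (flp_b L773689) q25612, e3 q24879 L778846 q26047, e3 q24880 L778856 q26048, e3 q24881 (flp_b L773791) q25620, e3 q24882 (flp_b L767489) q23710, e3 q24883 (flp_b L773859) q25625, e3 q24884 L767516 q23751, e3 q24885 L767530 q24200, e3 q24886 L778923 q26054, e3 q24887 L778931 q26055, e3 q24888 L778947 q26056, e3 q24889 (flp_b L773979) q25634, e3 q24890 (flp_b L767578) q23718, e3 q24891 L778971 q26059, e3 q24892 L778987 q26060, e3 q24893 L779003 q26061, e3 q24894 (flp_b L767632) q23722, e3 q24895 L767646 q23774, trivial⟩ (by decide +kernel)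

theorem ce_b_389 : ∀ r, r < 64 → sm gb (Qf (24896 + r)) = Qf (tab Gen.b (24896 + r)) :=
  edges_tab (sm gb) Qf (tab Gen.b) 24896 [(24896, 26065), (24897, 23786), (24898, 23725), (24899, 26068), (24900, 26034), (24901, 23793), (24902, 25806), (24903, 25665), (24904, 25822), (24905, 23756), (24906, 26073), (24907, 23767), (24908, 24222), (24909, 24236), (24910, 26077), (24911, 25688), (24912, 26080), (24913, 25695), (24914, 23744), (24915, 24246), (24916, 24247), (24917, 24102), (24918, 24104), (24919, 24148), (24920, 25682), (24921, 26091), (24922, 24253), (24923, 24254), (24924, 25675), (24925, 25679), (24926, 26097), (24927, 26098), (24928, 25684), (24929, 23758), (24930, 25676), (24931, 25622), (24932, 25680), (24933, 25618), (24934, 23908), (24935, 23910), (24936, 25847), (24937, 26109), (24938, 24319), (24939, 24321), (24940, 24362), (24941, 24364), (24942, 26115), (24943, 25979), (24944, 26118), (24945, 26064), (24946, 23775), (24947, 23888), (24948, 23782), (24949, 26123), (24950, 24064), (24951, 25691), (24952, 24308),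 (24953, 26128), (24954, 26129), (24955, 25693), (24956, 23784), (24957, 23785), (24958, 26133), (24959, 23925)]
    ⟨e3 q24896 L779053 q26065, e3 q24897 L767662 q23786, e3 q24898 (flp_b L767668) q23725, e3 q24899 (flp_b L779073) q26068, e3 q24900 (flp_b L778716) q26034, e3 q24901 L767688 q23793, e3 q24902 (flp_b L776193) q25806, e3 q24903 (flp_b L774370) q25665, e3 q24904 (flp_b L776372) q25822, e3 q24905 L767726 q23756, e3 q24906 L779128 q26073, e3 q24907 L767748 q23767, e3 q24908 L767758 q24222, e3 q24909 L767766 q24236, e3 q24910 L779164 q26077, e3 q24911 (flp_b L774714) q25688, e3 q24912 L779191 q26080, e3 q24913 (flp_b L774818) q25695, e3 q24914 (flp_b L767799) q23744, e3 q24915 L767809 q24246, e3 q24916 L767822 q24247, e3 q24917 L767836 q24102, e3 q24918 L767849 q24104, e3 q24919 L767861 q24148, e3 q24920 (flp_b L774630) q25682, e3 q24921 L779303 q26091, e3 q24922 L767893 q24253, e3 q24923 L767908 q24254, e3 q24924 (flp_b L774522) q25675, e3 q24925 (flp_b L774589) q25679, e3 q24926 L779373 q26097, e3 q24927 L779383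 q26098, e3 q24928 (flp_b L774658) q25684, e3 q24929 (flp_b L767974) q23758, e3 q24930 (flp_b L774540) q25676, e3 q24931 (flp_b L773815) q25622, e3 q24932 (flp_b L774603) q25680, e3 q24933 (flp_b L773764) q25618, e3 q24934 L768033 q23908, e3 q24935 L768048 q23910, e3 q24936 (flp_b L776738) q25847, e3 q24937 L779500 q26109, e3 q24938 L768078 q24319, e3 q24939 L768091 q24321, e3 q24940 L768105 q24362, e3 q24941 L768119 q24364, e3 q24942 L779568 q26115, e3 q24943 (flp_b L778186) q25979, e3 q24944 L779594 q26118, e3 q24945 (flp_b L779045) q26064, e3 q24946 (flp_b L768161) q23775, e3 q24947 L768167 q23888, e3 q24948 L768183 q23782, e3 q24949 L779640 q26123, e3 q24950 L768209 q24064, e3 q24951 (flp_b L774758) q25691, e3 q24952 L768230 q24308, e3 q24953 L779697 q26128, e3 q24954 L779705 q26129, e3 q24955 (flp_b L774788) q25693, e3 q24956 (flp_b L768272) q23784, e3 q24957 (flp_b L768282) q23785, e3 q24958 (flp_b L779743) q26133, e3 q24959 L768296 q23925, trivial⟩ (by decide +kernel)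

theorem ce_b_390 : ∀ r, r < 64 → sm gb (Qf (24960 + r)) = Qf (tab Gen.b (24960 + r)) :=
  edges_tab (sm gb) Qf (tab Gen.b) 24960 [(24960, 24397), (24961, 25656), (24962, 24399), (24963, 25657), (24964, 25596), (24965, 25631), (24966, 25662), (24967, 25649), (24968, 25668), (24969, 25578), (24970, 25672), (24971, 23928), (24972, 24328), (24973, 23807), (24974, 24318), (24975, 26146), (24976, 25715), (24977, 25716), (24978, 26152), (24979, 24025), (24980, 24050), (24981, 23820), (24982, 23822), (24983, 23823), (24984, 25658), (24985, 23824), (24986, 24323), (24987, 23913), (24988, 26156), (24989, 25711), (24990, 26157), (24991, 26168), (24992, 26159), (24993, 26161), (24994, 24305), (24995, 26174), (24996, 25729), (24997, 23827), (24998, 25747), (24999, 25731), (25000, 25732), (25001, 26181), (25002, 23835), (25003, 24084), (25004, 25770), (25005, 26185), (25006, 24312), (25007, 25740), (25008, 26189), (25009, 25742), (25010, 23839), (25011, 23845), (25012, 26193), (25013, 24126), (25014, 25785), (25015, 25800), (25016, 26197),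 (25017, 24112), (25018, 26199), (25019, 25787), (25020, 23848), (25021, 25755), (25022, 26204), (25023, 25757)]
    ⟨e3 q24960 L768302 q24397, e3 q24961 (flp_b L774248) q25656, e3 q24962 L768327 q24399, e3 q24963 (flp_b L774263) q25657, e3 q24964 (flp_b L773445) q25596, e3 q24965 (flp_b L773943) q25631, e3 q24966 (flp_b L774330) q25662, e3 q24967 (flp_b L774168) q25649, e3 q24968 (flp_b L774413) q25668, e3 q24969 (flp_b L773174) q25578, e3 q24970 (flp_b L774475) q25672, e3 q24971 L768406 q23928, e3 q24972 L768422 q24328, e3 q24973 L768436 q23807, e3 q24974 L768450 q24318, e3 q24975 (flp_b L779868) q26146, e3 q24976 (flp_b L775095) q25715, e3 q24977 (flp_b L775112) q25716, e3 q24978 L779925 q26152, e3 q24979 L768496 q24025, e3 q24980 L768508 q24050, e3 q24981 L768521 q23820, e3 q24982 L768537 q23822, e3 q24983 L768546 q23823, e3 q24984 (flp_b L774283) q25658, e3 q24985 L768559 q23824, e3 q24986 L768569 q24323, e3 q24987 L768585 q23913, e3 q24988 (flp_b L779972) q26156, e3 q24989 (flp_b L775038) q25711, e3 q24990 (flp_b L779986)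 q26157, e3 q24991 L780078 q26168, e3 q24992 (flp_b L780000) q26159, e3 q24993 (flp_b L780016) q26161, e3 q24994 L768643 q24305, e3 q24995 L780124 q26174, e3 q24996 (flp_b L775251) q25729, e3 q24997 (flp_b L768664) q23827, e3 q24998 (flp_b L775477) q25747, e3 q24999 (flp_b L775274) q25731, e3 q25000 (flp_b L775289) q25732, e3 q25001 L780183 q26181, e3 q25002 L768715 q23835, e3 q25003 L768729 q24084, e3 q25004 (flp_b L775751) q25770, e3 q25005 L780233 q26185, e3 q25006 L768771 q24312, e3 q25007 (flp_b L775391) q25740, e3 q25008 L780269 q26189, e3 q25009 (flp_b L775415) q25742, e3 q25010 (flp_b L768805) q23839, e3 q25011 L768815 q23845, e3 q25012 L780303 q26193, e3 q25013 L768837 q24126, e3 q25014 (flp_b L775931) q25785, e3 q25015 (flp_b L776127) q25800, e3 q25016 L780351 q26197, e3 q25017 L768889 q24112, e3 q25018 L780373 q26199, e3 q25019 (flp_b L775959) q25787, e3 q25020 (flp_b L768917) q23848, e3 q25021 (flp_b L775570) q25755, e3 q25022 L780423 q26204, e3 q25023 (flp_b L775600) q25757, trivial⟩ (by decide +kernel)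

theorem ce_b_391 : ∀ r, r < 64 → sm gb (Qf (25024 + r)) = Qf (tab Gen.b (25024 + r)) :=
  edges_tab (sm gb) Qf (tab Gen.b) 25024 [(25024, 23851), (25025, 26207), (25026, 26100), (25027, 24388), (25028, 24395), (25029, 26211), (25030, 25761), (25031, 23858), (25032, 26214), (25033, 23929), (25034, 25763), (25035, 23941), (25036, 23867), (25037, 26218), (25038, 23873), (25039, 23891), (25040, 24085), (25041, 25748), (25042, 26225), (25043, 23886), (25044, 23884), (25045, 25766), (25046, 26230), (25047, 25768), (25048, 23877), (25049, 24288), (25050, 23889), (25051, 26236), (25052, 24121), (25053, 24120), (25054, 26227), (25055, 24279), (25056, 26242), (25057, 24298), (25058, 26121), (25059, 26246), (25060, 26235), (25061, 23890), (25062, 26249), (25063, 25779), (25064, 26252), (25065, 25781), (25066, 23894), (25067, 26256), (25068, 26120), (25069, 26258), (25070, 23907), (25071, 23909), (25072, 26262), (25073, 23914), (25074, 26264), (25075, 23916), (25076, 23903), (25077, 26267), (25078, 25929), (25079, 25921), (25080, 26259),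 (25081, 26105), (25082, 26274), (25083, 26261), (25084, 26277), (25085, 24304), (25086, 23911), (25087, 26280)]
    ⟨e3 q25024 (flp_b L768951) q23851, e3 q25025 (flp_b L780447) q26207, e3 q25026 (flp_b L779411) q26100, e3 q25027 L768973 q24388, e3 q25028 L768988 q24395, e3 q25029 L780486 q26211, e3 q25030 (flp_b L775638) q25761, e3 q25031 (flp_b L769015) q23858, e3 q25032 (flp_b L780517) q26214, e3 q25033 L769048 q23929, e3 q25034 (flp_b L775668) q25763, e3 q25035 L769063 q23941, e3 q25036 L769076 q23867, e3 q25037 (flp_b L780565) q26218, e3 q25038 L769099 q23873, e3 q25039 L769111 q23891, e3 q25040 L769125 q24085, e3 q25041 (flp_b L775495) q25748, e3 q25042 L780631 q26225, e3 q25043 L769154 q23886, e3 q25044 L769170 q23884, e3 q25045 (flp_b L775714) q25766, e3 q25046 L780682 q26230, e3 q25047 (flp_b L775730) q25768, e3 q25048 (flp_b L769200) q23877, e3 q25049 L769210 q24288, e3 q25050 L769222 q23889, e3 q25051 L780728 q26236, e3 q25052 L769234 q24121, e3 q25053 L769247 q24120, e3 q25054 (flp_b L780659) q26227, e3 q25055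 L769270 q24279, e3 q25056 L780789 q26242, e3 q25057 L769288 q24298, e3 q25058 (flp_b L779616) q26121, e3 q25059 L780817 q26246, e3 q25060 (flp_b L780722) q26235, e3 q25061 (flp_b L769318) q23890, e3 q25062 (flp_b L780839) q26249, e3 q25063 (flp_b L775867) q25779, e3 q25064 L780863 q26252, e3 q25065 (flp_b L775891) q25781, e3 q25066 (flp_b L769352) q23894, e3 q25067 (flp_b L780885) q26256, e3 q25068 (flp_b L779612) q26120, e3 q25069 L780897 q26258, e3 q25070 L769378 q23907, e3 q25071 L769387 q23909, e3 q25072 L780928 q26262, e3 q25073 L769405 q23914, e3 q25074 L780950 q26264, e3 q25075 L769419 q23916, e3 q25076 (flp_b L769423) q23903, e3 q25077 (flp_b L780968) q26267, e3 q25078 (flp_b L777706) q25929, e3 q25079 (flp_b L777613) q25921, e3 q25080 (flp_b L780905) q26259, e3 q25081 (flp_b L779461) q26105, e3 q25082 L781022 q26274, e3 q25083 (flp_b L780921) q26261, e3 q25084 L781045 q26277, e3 q25085 L769494 q24304, e3 q25086 (flp_b L769504) q23911, e3 q25087 (flp_b L781071) q26280, trivial⟩ (by decide +kernel)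

theorem ce_b_392 : ∀ r, r < 64 → sm gb (Qf (25088 + r)) = Qf (tab Gen.b (25088 + r)) :=
  edges_tab (sm gb) Qf (tab Gen.b) 25088 [(25088, 24337), (25089, 26163), (25090, 26285), (25091, 25764), (25092, 23915), (25093, 26289), (25094, 26028), (25095, 26131), (25096, 23918), (25097, 26293), (25098, 26294), (25099, 25808), (25100, 23921), (25101, 26297), (25102, 26132), (25103, 23924), (25104, 26300), (25105, 23930), (25106, 24393), (25107, 26209), (25108, 26071), (25109, 26216), (25110, 24141), (25111, 25814), (25112, 23932), (25113, 26308), (25114, 25815), (25115, 24381), (25116, 23935), (25117, 26311), (25118, 25762), (25119, 25626), (25120, 26217), (25121, 24108), (25122, 24132), (25123, 24386), (25124, 23948), (25125, 26319), (25126, 25624), (25127, 24150), (25128, 24054), (25129, 23954), (25130, 26322), (25131, 26323), (25132, 24401), (25133, 23958), (25134, 26326), (25135, 24149), (25136, 24154), (25137, 24400), (25138, 26017), (25139, 23963), (25140, 26304), (25141, 24069), (25142, 24094), (25143, 24093), (25144, 24060),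 (25145, 24051), (25146, 25664), (25147, 23973), (25148, 26336), (25149, 23976), (25150, 26338), (25151, 26339)]
    ⟨e3 q25088 L769524 q24337, e3 q25089 (flp_b L780039) q26163, e3 q25090 L781111 q26285, e3 q25091 (flp_b L775685) q25764, e3 q25092 (flp_b L769550) q23915, e3 q25093 (flp_b L781139) q26289, e3 q25094 (flp_b L778642) q26028, e3 q25095 (flp_b L779733) q26131, e3 q25096 L769578 q23918, e3 q25097 (flp_b L781177) q26293, e3 q25098 L781183 q26294, e3 q25099 (flp_b L776213) q25808, e3 q25100 (flp_b L769612) q23921, e3 q25101 (flp_b L781207) q26297, e3 q25102 (flp_b L779739) q26132, e3 q25103 L769630 q23924, e3 q25104 (flp_b L781225) q26300, e3 q25105 L769638 q23930, e3 q25106 L769645 q24393, e3 q25107 (flp_b L780471) q26209, e3 q25108 (flp_b L779101) q26071, e3 q25109 (flp_b L780540) q26216, e3 q25110 L769690 q24141, e3 q25111 (flp_b L776261) q25814, e3 q25112 (flp_b L769700) q23932, e3 q25113 (flp_b L781298) q26308, e3 q25114 (flp_b L776279) q25815, e3 q25115 L769734 q24381, e3 q25116 L769738 q23935, e3 q25117 (flp_b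 L781328) q26311, e3 q25118 (flp_b L775653) q25762, e3 q25119 (flp_b L773872) q25626, e3 q25120 (flp_b L780553) q26217, e3 q25121 L769774 q24108, e3 q25122 L769786 q24132, e3 q25123 L769796 q24386, e3 q25124 L769808 q23948, e3 q25125 (flp_b L781394) q26319, e3 q25126 (flp_b L773851) q25624, e3 q25127 L769829 q24150, e3 q25128 L769849 q24054, e3 q25129 L769853 q23954, e3 q25130 (flp_b L781419) q26322, e3 q25131 (flp_b L781433) q26323, e3 q25132 L769880 q24401, e3 q25133 L769891 q23958, e3 q25134 (flp_b L781464) q26326, e3 q25135 L769910 q24149, e3 q25136 L769922 q24154, e3 q25137 L769933 q24400, e3 q25138 (flp_b L778521) q26017, e3 q25139 L769951 q23963, e3 q25140 (flp_b L781253) q26304, e3 q25141 L769964 q24069, e3 q25142 L769978 q24094, e3 q25143 L769988 q24093, e3 q25144 L770007 q24060, e3 q25145 L770014 q24051, e3 q25146 (flp_b L774353) q25664, e3 q25147 L770032 q23973, e3 q25148 L781568 q26336, e3 q25149 (flp_b L770052) q23976, e3 q25150 L781594 q26338, e3 q25151 L781608 q26339, trivial⟩ (by decide +kernel)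

theorem ce_b_393 : ∀ r, r < 64 → sm gb (Qf (25152 + r)) = Qf (tab Gen.b (25152 + r)) :=
  edges_tab (sm gb) Qf (tab Gen.b) 25152 [(25152, 23979), (25153, 23980), (25154, 26342), (25155, 26343), (25156, 23983), (25157, 23989), (25158, 26347), (25159, 24249), (25160, 26350), (25161, 25828), (25162, 26353), (25163, 26346), (25164, 23990), (25165, 26356), (25166, 23992), (25167, 26340), (25168, 23996), (25169, 25830), (25170, 25628), (25171, 25655), (25172, 26360), (25173, 26361), (25174, 24001), (25175, 24002), (25176, 24356), (25177, 26365), (25178, 24007), (25179, 24006), (25180, 26368), (25181, 24380), (25182, 26369), (25183, 24011), (25184, 25641), (25185, 26373), (25186, 25646), (25187, 24015), (25188, 24018), (25189, 24019), (25190, 26376), (25191, 26377), (25192, 25842), (25193, 26383), (25194, 24027), (25195, 24028), (25196, 25608), (25197, 26153), (25198, 25609), (25199, 26392), (25200, 26385), (25201, 26386), (25202, 26396), (25203, 24030), (25204, 24035), (25205, 26400), (25206, 24038), (25207, 24039), (25208, 25615),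 (25209, 26405), (25210, 26399), (25211, 26408), (25212, 25617), (25213, 24037), (25214, 26411), (25215, 26402)]
    ⟨e3 q25152 (flp_b L770090) q23979, e3 q25153 (flp_b L770096) q23980, e3 q25154 L781642 q26342, e3 q25155 L781654 q26343, e3 q25156 (flp_b L770128) q23983, e3 q25157 L770142 q23989, e3 q25158 L781702 q26347, e3 q25159 L770166 q24249, e3 q25160 L781743 q26350, e3 q25161 (flp_b L776473) q25828, e3 q25162 L781781 q26353, e3 q25163 (flp_b L781690) q26346, e3 q25164 (flp_b L770218) q23990, e3 q25165 L781803 q26356, e3 q25166 (flp_b L770230) q23992, e3 q25167 (flp_b L781628) q26340, e3 q25168 L770250 q23996, e3 q25169 (flp_b L776501) q25830, e3 q25170 (flp_b L773903) q25628, e3 q25171 (flp_b L774237) q25655, e3 q25172 L781847 q26360, e3 q25173 L781861 q26361, e3 q25174 (flp_b L770315) q24001, e3 q25175 (flp_b L770325) q24002, e3 q25176 L770339 q24356, e3 q25177 L781911 q26365, e3 q25178 L770355 q24007, e3 q25179 (flp_b L770359) q24006, e3 q25180 (flp_b L781933) q26368, e3 q25181 L770381 q24380, e3 q25182 L781937 q26369,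 e3 q25183 (flp_b L770397) q24011, e3 q25184 (flp_b L774080) q25641, e3 q25185 L781974 q26373, e3 q25186 (flp_b L774140) q25646, e3 q25187 (flp_b L770427) q24015, e3 q25188 L770437 q24018, e3 q25189 L770449 q24019, e3 q25190 (flp_b L782002) q26376, e3 q25191 (flp_b L782014) q26377, e3 q25192 (flp_b L776671) q25842, e3 q25193 L782070 q26383, e3 q25194 L770496 q24027, e3 q25195 L770502 q24028, e3 q25196 (flp_b L773625) q25608, e3 q25197 (flp_b L779935) q26153, e3 q25198 (flp_b L773642) q25609, e3 q25199 L782158 q26392, e3 q25200 (flp_b L782082) q26385, e3 q25201 (flp_b L782092) q26386, e3 q25202 L782192 q26396, e3 q25203 (flp_b L770581) q24030, e3 q25204 L770589 q24035, e3 q25205 L782230 q26400, e3 q25206 L770601 q24038, e3 q25207 L770609 q24039, e3 q25208 (flp_b L773728) q25615, e3 q25209 L782271 q26405, e3 q25210 (flp_b L782222) q26399, e3 q25211 L782297 q26408, e3 q25212 (flp_b L773752) q25617, e3 q25213 (flp_b L770663) q24037, e3 q25214 (flp_b L782319) q26411, e3 q25215 (flp_b L782244) q26402, trivial⟩ (by decide +kernel)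

theorem ce_b_394 : ∀ r, r < 64 → sm gb (Qf (25216 + r)) = Qf (tab Gen.b (25216 + r)) :=
  edges_tab (sm gb) Qf (tab Gen.b) 25216 [(25216, 24040), (25217, 24136), (25218, 24044), (25219, 25610), (25220, 26154), (25221, 24048), (25222, 26325), (25223, 24052), (25224, 26155), (25225, 26335), (25226, 26334), (25227, 26307), (25228, 24057), (25229, 26321), (25230, 24058), (25231, 26417), (25232, 24065), (25233, 25654), (25234, 24066), (25235, 26124), (25236, 26423), (25237, 26419), (25238, 24067), (25239, 25712), (25240, 26332), (25241, 26022), (25242, 26430), (25243, 24076), (25244, 24077), (25245, 24078), (25246, 25881), (25247, 26431), (25248, 26437), (25249, 26433), (25250, 24079), (25251, 24086), (25252, 24087), (25253, 26443), (25254, 24089), (25255, 26183), (25256, 26222), (25257, 26448), (25258, 26441), (25259, 26450), (25260, 24088), (25261, 26452), (25262, 26453), (25263, 24091), (25264, 26375), (25265, 26333), (25266, 26457), (25267, 26024), (25268, 26025), (25269, 26460), (25270, 24341), (25271, 24097), (25272, 24105),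 (25273, 26465), (25274, 24107), (25275, 25882), (25276, 26085), (25277, 25883), (25278, 26472), (25279, 26087)]
    ⟨e3 q25216 (flp_b L770681) q24040, e3 q25217 L770693 q24136, e3 q25218 L770699 q24044, e3 q25219 (flp_b L773656) q25610, e3 q25220 (flp_b L779954) q26154, e3 q25221 L770731 q24048, e3 q25222 (flp_b L781454) q26325, e3 q25223 L770756 q24052, e3 q25224 (flp_b L779960) q26155, e3 q25225 (flp_b L781560) q26335, e3 q25226 (flp_b L781547) q26334, e3 q25227 (flp_b L781294) q26307, e3 q25228 L770807 q24057, e3 q25229 (flp_b L781408) q26321, e3 q25230 L770822 q24058, e3 q25231 (flp_b L782374) q26417, e3 q25232 L770839 q24065, e3 q25233 (flp_b L774229) q25654, e3 q25234 L770860 q24066, e3 q25235 (flp_b L779656) q26124, e3 q25236 L782431 q26423, e3 q25237 (flp_b L782393) q26419, e3 q25238 (flp_b L770895) q24067, e3 q25239 (flp_b L775055) q25712, e3 q25240 (flp_b L781525) q26332, e3 q25241 (flp_b L778574) q26022, e3 q25242 L782491 q26430, e3 q25243 L770939 q24076, e3 q25244 L770948 q24077, e3 q25245 L770958 q24078, e3 q25246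 (flp_b L777142) q25881, e3 q25247 (flp_b L782503) q26431, e3 q25248 L782558 q26437, e3 q25249 (flp_b L782523) q26433, e3 q25250 (flp_b L771004) q24079, e3 q25251 L771018 q24086, e3 q25252 L771026 q24087, e3 q25253 L782613 q26443, e3 q25254 L771044 q24089, e3 q25255 (flp_b L780207) q26183, e3 q25256 (flp_b L780608) q26222, e3 q25257 L782650 q26448, e3 q25258 (flp_b L782594) q26441, e3 q25259 L782660 q26450, e3 q25260 (flp_b L771083) q24088, e3 q25261 (flp_b L782678) q26452, e3 q25262 L782682 q26453, e3 q25263 (flp_b L771105) q24091, e3 q25264 (flp_b L781996) q26375, e3 q25265 (flp_b L781535) q26333, e3 q25266 L782713 q26457, e3 q25267 (flp_b L778593) q26024, e3 q25268 (flp_b L778605) q26025, e3 q25269 L782731 q26460, e3 q25270 L771152 q24341, e3 q25271 (flp_b L771155) q24097, e3 q25272 L771163 q24105, e3 q25273 L782767 q26465, e3 q25274 L771179 q24107, e3 q25275 (flp_b L777159) q25882, e3 q25276 (flp_b L779239) q26085, e3 q25277 (flp_b L777176) q25883, e3 q25278 L782824 q26472, e3 q25279 (flp_b L779263) q26087, trivial⟩ (by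 decide +kernel)

theorem ce_b_395 : ∀ r, r < 64 → sm gb (Qf (25280 + r)) = Qf (tab Gen.b (25280 + r)) :=
  edges_tab (sm gb) Qf (tab Gen.b) 25280 [(25280, 26475), (25281, 26464), (25282, 24106), (25283, 26478), (25284, 26315), (25285, 26306), (25286, 24109), (25287, 26397), (25288, 24324), (25289, 26484), (25290, 24122), (25291, 24123), (25292, 26489), (25293, 24125), (25294, 24127), (25295, 26492), (25296, 24129), (25297, 24118), (25298, 26495), (25299, 26238), (25300, 26237), (25301, 26500), (25302, 26486), (25303, 26502), (25304, 26488), (25305, 24124), (25306, 26506), (25307, 26316), (25308, 26194), (25309, 26510), (25310, 25754), (25311, 24128), (25312, 26513), (25313, 26410), (25314, 24131), (25315, 26515), (25316, 26516), (25317, 24134), (25318, 26413), (25319, 24335), (25320, 24140), (25321, 24336), (25322, 25739), (25323, 25884), (25324, 26088), (25325, 26143), (25326, 24153), (25327, 26328), (25328, 26521), (25329, 26522), (25330, 26523), (25331, 25954), (25332, 25907), (25333, 24159), (25334, 25939), (25335, 25940),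 (25336, 26530), (25337, 25942), (25338, 25899), (25339, 24167), (25340, 24169), (25341, 25967), (25342, 25968), (25343, 25969)]
    ⟨e3 q25280 L782846 q26475, e3 q25281 (flp_b L782759) q26464, e3 q25282 (flp_b L771242) q24106, e3 q25283 (flp_b L782872) q26478, e3 q25284 (flp_b L781362) q26315, e3 q25285 (flp_b L781273) q26306, e3 q25286 (flp_b L771266) q24109, e3 q25287 (flp_b L782212) q26397, e3 q25288 L771288 q24324, e3 q25289 L782922 q26484, e3 q25290 L771304 q24122, e3 q25291 L771312 q24123, e3 q25292 L782951 q26489, e3 q25293 L771322 q24125, e3 q25294 L771332 q24127, e3 q25295 L782975 q26492, e3 q25296 L771348 q24129, e3 q25297 (flp_b L771352) q24118, e3 q25298 (flp_b L782995) q26495, e3 q25299 (flp_b L780750) q26238, e3 q25300 (flp_b L780736) q26237, e3 q25301 L783031 q26500, e3 q25302 (flp_b L782934) q26486, e3 q25303 L783043 q26502, e3 q25304 (flp_b L782945) q26488, e3 q25305 (flp_b L771399) q24124, e3 q25306 (flp_b L783065) q26506, e3 q25307 (flp_b L781370) q26316, e3 q25308 (flp_b L780317) q26194, e3 q25309 L783087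 q26510, e3 q25310 (flp_b L775556) q25754, e3 q25311 (flp_b L771431) q24128, e3 q25312 (flp_b L783107) q26513, e3 q25313 (flp_b L782315) q26410, e3 q25314 L771447 q24131, e3 q25315 (flp_b L783115) q26515, e3 q25316 L783117 q26516, e3 q25317 (flp_b L771457) q24134, e3 q25318 (flp_b L782339) q26413, e3 q25319 L771473 q24335, e3 q25320 L771484 q24140, e3 q25321 L771495 q24336, e3 q25322 (flp_b L775378) q25739, e3 q25323 (flp_b L777188) q25884, e3 q25324 (flp_b L779277) q26088, e3 q25325 (flp_b L779834) q26143, e3 q25326 L771529 q24153, e3 q25327 (flp_b L781481) q26328, e3 q25328 L783153 q26521, e3 q25329 L783167 q26522, e3 q25330 L783181 q26523, e3 q25331 (flp_b L777963) q25954, e3 q25332 (flp_b L777458) q25907, e3 q25333 (flp_b L771590) q24159, e3 q25334 (flp_b L777802) q25939, e3 q25335 (flp_b L777819) q25940, e3 q25336 L783224 q26530, e3 q25337 (flp_b L777839) q25942, e3 q25338 (flp_b L777373) q25899, e3 q25339 (flp_b L771628) q24167, e3 q25340 (flp_b L771634) q24169, e3 q25341 (flp_b L778075) q25967, e3 q25342 (flp_b L778090)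 q25968, e3 q25343 (flp_b L778102) q25969, trivial⟩ (by decide +kernel)

theorem ce_b_396 : ∀ r, r < 64 → sm gb (Qf (25344 + r)) = Qf (tab Gen.b (25344 + r)) :=
  edges_tab (sm gb) Qf (tab Gen.b) 25344 [(25344, 26540), (25345, 25971), (25346, 26543), (25347, 25973), (25348, 24175), (25349, 26547), (25350, 25919), (25351, 25577), (25352, 24178), (25353, 26526), (25354, 25917), (25355, 26020), (25356, 25920), (25357, 25924), (25358, 26554), (25359, 25944), (25360, 24190), (25361, 26557), (25362, 24192), (25363, 24193), (25364, 26560), (25365, 25834), (25366, 24234), (25367, 26562), (25368, 24202), (25369, 24203), (25370, 26043), (25371, 26566), (25372, 26053), (25373, 24201), (25374, 26569), (25375, 25965), (25376, 26556), (25377, 26571), (25378, 25836), (25379, 26573), (25380, 25959), (25381, 24209), (25382, 26576), (25383, 24213), (25384, 24212), (25385, 26579), (25386, 26558), (25387, 26580), (25388, 25865), (25389, 26582), (25390, 24224), (25391, 26584), (25392, 24219), (25393, 26586), (25394, 24230), (25395, 26588), (25396,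 26076), (25397, 24223), (25398, 26591), (25399, 26592), (25400, 24226), (25401, 26594), (25402, 26559), (25403, 24229), (25404, 26596), (25405, 25871), (25406, 24232), (25407, 26337)]
    ⟨e3 q25344 L783295 q26540, e3 q25345 (flp_b L778120) q25971, e3 q25346 L783313 q26543, e3 q25347 (flp_b L778138) q25973, e3 q25348 (flp_b L771687) q24175, e3 q25349 (flp_b L783335) q26547, e3 q25350 (flp_b L777590) q25919, e3 q25351 (flp_b L773156) q25577, e3 q25352 (flp_b L771709) q24178, e3 q25353 (flp_b L783205) q26526, e3 q25354 (flp_b L777556) q25917, e3 q25355 (flp_b L778548) q26020, e3 q25356 (flp_b L777600) q25920, e3 q25357 (flp_b L777655) q25924, e3 q25358 L783382 q26554, e3 q25359 (flp_b L777857) q25944, e3 q25360 (flp_b L771766) q24190, e3 q25361 L783402 q26557, e3 q25362 (flp_b L771778) q24192, e3 q25363 (flp_b L771784) q24193, e3 q25364 (flp_b L783424) q26560, e3 q25365 (flp_b L776564) q25834, e3 q25366 L771804 q24234, e3 q25367 L783432 q26562, e3 q25368 L771812 q24202, e3 q25369 L771820 q24203, e3 q25370 (flp_b L778798) q26043,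 e3 q25371 L783457 q26566, e3 q25372 (flp_b L778914) q26053, e3 q25373 (flp_b L771842) q24201, e3 q25374 (flp_b L783475) q26569, e3 q25375 (flp_b L778051) q25965, e3 q25376 (flp_b L783400) q26556, e3 q25377 L783485 q26571, e3 q25378 (flp_b L776594) q25836, e3 q25379 L783499 q26573, e3 q25380 (flp_b L778005) q25959, e3 q25381 (flp_b L771886) q24209, e3 q25382 L783517 q26576, e3 q25383 L771898 q24213, e3 q25384 (flp_b L771904) q24212, e3 q25385 (flp_b L783537) q26579, e3 q25386 (flp_b L783414) q26558, e3 q25387 L783541 q26580, e3 q25388 (flp_b L776951) q25865, e3 q25389 L783549 q26582, e3 q25390 L771938 q24224, e3 q25391 L783561 q26584, e3 q25392 (flp_b L771948) q24219, e3 q25393 (flp_b L783573) q26586, e3 q25394 L771958 q24230, e3 q25395 L783581 q26588, e3 q25396 (flp_b L779156) q26076, e3 q25397 (flp_b L771974) q24223, e3 q25398 (flp_b L783601) q26591, e3 q25399 L783605 q26592, e3 q25400 (flp_b L771992) q24226, e3 q25401 (flp_b L783619) q26594, e3 q25402 (flp_b L783420) q26559, e3 q25403 L772012 q24229, e3 q25404 (flp_b L783631)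 q26596, e3 q25405 (flp_b L777015) q25871, e3 q25406 (flp_b L772022) q24232, e3 q25407 (flp_b L781592) q26337, trivial⟩ (by decide +kernel)

theorem ce_b_397 : ∀ r, r < 64 → sm gb (Qf (25408 + r)) = Qf (tab Gen.b (25408 + r)) :=
  edges_tab (sm gb) Qf (tab Gen.b) 25408 [(25408, 25885), (25409, 26601), (25410, 24239), (25411, 24270), (25412, 24241), (25413, 26604), (25414, 24243), (25415, 24244), (25416, 26062), (25417, 26083), (25418, 26609), (25419, 24280), (25420, 26612), (25421, 26349), (25422, 24250), (25423, 24255), (25424, 26617), (25425, 26092), (25426, 26620), (25427, 26621), (25428, 26616), (25429, 24256), (25430, 26624), (25431, 24258), (25432, 26602), (25433, 24264), (25434, 26628), (25435, 26629), (25436, 24267), (25437, 24263), (25438, 26632), (25439, 26627), (25440, 24265), (25441, 24266), (25442, 26636), (25443, 26050), (25444, 26370), (25445, 24272), (25446, 26637), (25447, 25630), (25448, 24276), (25449, 24277), (25450, 24331), (25451, 26641), (25452, 26642), (25453, 26611), (25454, 24281), (25455, 26645),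 (25456, 24283), (25457, 24355), (25458, 26647), (25459, 26648), (25460, 24287), (25461, 26650), (25462, 24289), (25463, 24375), (25464, 24369), (25465, 24387), (25466, 24299), (25467, 26656), (25468, 24301), (25469, 25660), (25470, 26243), (25471, 26661)]
    ⟨e3 q25408 (flp_b L777203) q25885, e3 q25409 L783656 q26601, e3 q25410 (flp_b L772048) q24239, e3 q25411 L772058 q24270, e3 q25412 (flp_b L772060) q24241, e3 q25413 L783676 q26604, e3 q25414 (flp_b L772074) q24243, e3 q25415 (flp_b L772082) q24244, e3 q25416 (flp_b L779029) q26062, e3 q25417 (flp_b L779213) q26083, e3 q25418 L783709 q26609, e3 q25419 L772108 q24280, e3 q25420 L783732 q26612, e3 q25421 (flp_b L781732) q26349, e3 q25422 (flp_b L772125) q24250, e3 q25423 L772133 q24255, e3 q25424 L783764 q26617, e3 q25425 (flp_b L779315) q26092, e3 q25426 L783785 q26620, e3 q25427 L783791 q26621, e3 q25428 (flp_b L783758) q26616, e3 q25429 (flp_b L772171) q24256, e3 q25430 L783811 q26624, e3 q25431 (flp_b L772183) q24258, e3 q25432 (flp_b L783668) q26602, e3 q25433 L772201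 q24264, e3 q25434 L783848 q26628, e3 q25435 L783858 q26629, e3 q25436 L772227 q24267, e3 q25437 (flp_b L772231) q24263, e3 q25438 L783874 q26632, e3 q25439 (flp_b L783841) q26627, e3 q25440 (flp_b L772246) q24265, e3 q25441 (flp_b L772250) q24266, e3 q25442 (flp_b L783898) q26636, e3 q25443 (flp_b L778886) q26050, e3 q25444 (flp_b L781959) q26370, e3 q25445 L772272 q24272, e3 q25446 L783900 q26637, e3 q25447 (flp_b L773929) q25630, e3 q25448 (flp_b L772289) q24276, e3 q25449 (flp_b L772293) q24277, e3 q25450 L772303 q24331, e3 q25451 L783924 q26641, e3 q25452 L783930 q26642, e3 q25453 (flp_b L783725) q26611, e3 q25454 (flp_b L772324) q24281, e3 q25455 L783946 q26645, e3 q25456 (flp_b L772332) q24283, e3 q25457 L772342 q24355, e3 q25458 L783960 q26647, e3 q25459 L783964 q26648, e3 q25460 (flp_b L772352) q24287, e3 q25461 L783974 q26650, e3 q25462 (flp_b L772362) q24289, e3 q25463 L772370 q24375, e3 q25464 L772376 q24369, e3 q25465 L772384 q24387, e3 q25466 L772392 q24299, e3 q25467 L784012 q26656, e3 q25468 L772400 q24301,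 e3 q25469 (flp_b L774301) q25660, e3 q25470 (flp_b L780797) q26243, e3 q25471 L784034 q26661, trivial⟩ (by decide +kernel)

theorem ce_b_398 : ∀ r, r < 64 → sm gb (Qf (25472 + r)) = Qf (tab Gen.b (25472 + r)) :=
  edges_tab (sm gb) Qf (tab Gen.b) 25472 [(25472, 26655), (25473, 24300), (25474, 26664), (25475, 26639), (25476, 25736), (25477, 26667), (25478, 26668), (25479, 26173), (25480, 24306), (25481, 26671), (25482, 26672), (25483, 24309), (25484, 26640), (25485, 26674), (25486, 26186), (25487, 24320), (25488, 26679), (25489, 26680), (25490, 24326), (25491, 24316), (25492, 25922), (25493, 26147), (25494, 26110), (25495, 26688), (25496, 26678), (25497, 26690), (25498, 24322), (25499, 26162), (25500, 26694), (25501, 26483), (25502, 24325), (25503, 26698), (25504, 26292), (25505, 26699), (25506, 24329), (25507, 26362), (25508, 25661), (25509, 26518), (25510, 26701), (25511, 26276), (25512, 24338), (25513, 26704), (25514, 25936), (25515, 24340), (25516, 26707), (25517, 26644), (25518, 26709), (25519, 24347), (25520, 24344),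 (25521, 24345), (25522, 24346), (25523, 26714), (25524, 24366), (25525, 26646), (25526, 24349), (25527, 26718), (25528, 24363), (25529, 26720), (25530, 24353), (25531, 26363), (25532, 26722), (25533, 24357), (25534, 26724), (25535, 24371)]
    ⟨e3 q25472 (flp_b L784006) q26655, e3 q25473 (flp_b L772426) q24300, e3 q25474 (flp_b L784052) q26664, e3 q25475 (flp_b L783914) q26639, e3 q25476 (flp_b L775342) q25736, e3 q25477 L784067 q26667, e3 q25478 L784075 q26668, e3 q25479 (flp_b L780115) q26173, e3 q25480 (flp_b L772463) q24306, e3 q25481 L784093 q26671, e3 q25482 L784103 q26672, e3 q25483 (flp_b L772483) q24309, e3 q25484 (flp_b L783922) q26640, e3 q25485 L784117 q26674, e3 q25486 (flp_b L780247) q26186, e3 q25487 L772507 q24320, e3 q25488 L784142 q26679, e3 q25489 L784148 q26680, e3 q25490 L772525 q24326, e3 q25491 (flp_b L772531) q24316, e3 q25492 (flp_b L777630) q25922, e3 q25493 (flp_b L779882) q26147, e3 q25494 (flp_b L779510) q26110, e3 q25495 L784204 q26688, e3 q25496 (flp_b L784137) q26678, e3 q25497 L784216 q26690,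 e3 q25498 (flp_b L772575) q24322, e3 q25499 (flp_b L780025) q26162, e3 q25500 L784242 q26694, e3 q25501 (flp_b L782914) q26483, e3 q25502 (flp_b L772601) q24325, e3 q25503 (flp_b L784274) q26698, e3 q25504 (flp_b L781167) q26292, e3 q25505 L784278 q26699, e3 q25506 (flp_b L772627) q24329, e3 q25507 (flp_b L781885) q26362, e3 q25508 (flp_b L774315) q25661, e3 q25509 (flp_b L783133) q26518, e3 q25510 L784290 q26701, e3 q25511 (flp_b L781038) q26276, e3 q25512 (flp_b L772666) q24338, e3 q25513 L784306 q26704, e3 q25514 (flp_b L777767) q25936, e3 q25515 (flp_b L772683) q24340, e3 q25516 (flp_b L784324) q26707, e3 q25517 (flp_b L783944) q26644, e3 q25518 L784329 q26709, e3 q25519 L772705 q24347, e3 q25520 (flp_b L772715) q24344, e3 q25521 (flp_b L772725) q24345, e3 q25522 (flp_b L772735) q24346, e3 q25523 (flp_b L784379) q26714, e3 q25524 L772751 q24366, e3 q25525 (flp_b L783958) q26646, e3 q25526 L772769 q24349, e3 q25527 (flp_b L784415) q26718, e3 q25528 L772787 q24363, e3 q25529 L784429 q26720, e3 q25530 (flp_b L772799) q24353,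 e3 q25531 (flp_b L781897) q26363, e3 q25532 L784439 q26722, e3 q25533 (flp_b L772815) q24357, e3 q25534 L784447 q26724, e3 q25535 L772823 q24371, trivial⟩ (by decide +kernel)

theorem ce_b_399 : ∀ r, r < 64 → sm gb (Qf (25536 + r)) = Qf (tab Gen.b (25536 + r)) :=
  edges_tab (sm gb) Qf (tab Gen.b) 25536 [(25536, 24359), (25537, 26727), (25538, 26723), (25539, 26112), (25540, 26731), (25541, 26716), (25542, 26734), (25543, 26114), (25544, 24365), (25545, 26737), (25546, 24367), (25547, 26651), (25548, 26740), (25549, 26653), (25550, 24370), (25551, 26743), (25552, 26317), (25553, 26367), (25554, 24373), (25555, 26745), (25556, 26201), (25557, 24377), (25558, 24378), (25559, 25653), (25560, 26310), (25561, 24398), (25562, 24394), (25563, 26302), (25564, 26210), (25565, 26136), (25566, 26330), (25567, 24690), (25568, 26751), (25569, 24695), (25570, 24672), (25571, 26753), (25572, 24802), (25573, 26755), (25574, 26756), (25575, 24706), (25576, 24410), (25577, 25351), (25578, 24969), (25579, 26761), (25580, 24416), (25581, 26763),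 (25582, 26764), (25583, 24795), (25584, 24419), (25585, 24800), (25586, 24422), (25587, 24423), (25588, 24835), (25589, 26770), (25590, 24837), (25591, 24426), (25592, 26773), (25593, 26762), (25594, 24431), (25595, 26775), (25596, 24964), (25597, 24870), (25598, 24871), (25599, 24440)]
    ⟨e3 q25536 (flp_b L772829) q24359, e3 q25537 (flp_b L784467) q26727, e3 q25538 (flp_b L784445) q26723, e3 q25539 (flp_b L779536) q26112, e3 q25540 L784491 q26731, e3 q25541 (flp_b L784395) q26716, e3 q25542 L784511 q26734, e3 q25543 (flp_b L779558) q26114, e3 q25544 (flp_b L772875) q24365, e3 q25545 (flp_b L784531) q26737, e3 q25546 (flp_b L772887) q24367, e3 q25547 (flp_b L783982) q26651, e3 q25548 L784547 q26740, e3 q25549 (flp_b L783994) q26653, e3 q25550 (flp_b L772907) q24370, e3 q25551 (flp_b L784567) q26743, e3 q25552 (flp_b L781382) q26317, e3 q25553 (flp_b L781929) q26367, e3 q25554 L772931 q24373, e3 q25555 (flp_b L784577) q26745, e3 q25556 (flp_b L780403) q26201, e3 q25557 L772945 q24377, e3 q25558 (flp_b L772947) q24378, e3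 q25559 (flp_b L774216) q25653, e3 q25560 (flp_b L781316) q26310, e3 q25561 L772967 q24398, e3 q25562 L772975 q24394, e3 q25563 (flp_b L781233) q26302, e3 q25564 (flp_b L780477) q26210, e3 q25565 (flp_b L779767) q26136, e3 q25566 (flp_b L781505) q26330, e3 q25567 L773003 q24690, e3 q25568 L784629 q26751, e3 q25569 L773035 q24695, e3 q25570 L773052 q24672, e3 q25571 L784663 q26753, e3 q25572 L773086 q24802, e3 q25573 L784697 q26755, e3 q25574 L784713 q26756, e3 q25575 L773130 q24706, e3 q25576 (flp_b L773142) q24410, e3 q25577 L773156 q25351, e3 q25578 L773174 q24969, e3 q25579 L784780 q26761, e3 q25580 (flp_b L773204) q24416, e3 q25581 L784816 q26763, e3 q25582 L784834 q26764, e3 q25583 L773258 q24795, e3 q25584 (flp_b L773270) q24419, e3 q25585 L773286 q24800, e3 q25586 (flp_b L773301) q24422, e3 q25587 (flp_b L773313) q24423, e3 q25588 L773335 q24835, e3 q25589 L784932 q26770, e3 q25590 L773367 q24837, e3 q25591 (flp_b L773381) q24426, e3 q25592 (flp_b L784980) q26773, e3 q25593 (flp_b L784814) q26762, e3 q25594 L773415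 q24431, e3 q25595 (flp_b L785006) q26775, e3 q25596 L773445 q24964, e3 q25597 L773459 q24870, e3 q25598 L773476 q24871, e3 q25599 L773492 q24440, trivial⟩ (by decide +kernel)

theorem ce_b_400 : ∀ r, r < 64 → sm gb (Qf (25600 + r)) = Qf (tab Gen.b (25600 + r)) :=
  edges_tab (sm gb) Qf (tab Gen.b) 25600 [(25600, 24441), (25601, 24772), (25602, 24771), (25603, 26780), (25604, 26782), (25605, 24874), (25606, 26790), (25607, 24877), (25608, 25196), (25609, 25198), (25610, 25219), (25611, 24679), (25612, 24878), (25613, 26799), (25614, 24562), (25615, 25208), (25616, 26803), (25617, 25212), (25618, 24933), (25619, 26806), (25620, 24881), (25621, 24456), (25622, 24931), (25623, 24680), (25624, 25126), (25625, 24883), (25626, 25119), (25627, 26814), (25628, 25170), (25629, 26817), (25630, 25447), (25631, 24965), (25632, 24872), (25633, 26823), (25634, 24889), (25635, 24470), (25636, 24477), (25637, 24478), (25638, 26829), (25639, 24481), (25640, 24561), (25641, 25184), (25642, 26826), (25643, 26836), (25644, 26828), (25645, 26839),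 (25646, 25186), (25647, 24480), (25648, 26843), (25649, 24967), (25650, 24497), (25651, 24483), (25652, 26847), (25653, 25559), (25654, 25233), (25655, 25171), (25656, 24961), (25657, 24963), (25658, 24984), (25659, 24873), (25660, 25469), (25661, 25508), (25662, 24966), (25663, 26845)]
    ⟨e3 q25600 L773510 q24441, e3 q25601 L773524 q24772, e3 q25602 L773541 q24771, e3 q25603 (flp_b L785085) q26780, e3 q25604 (flp_b L785117) q26782, e3 q25605 L773581 q24874, e3 q25606 L785221 q26790, e3 q25607 L773607 q24877, e3 q25608 L773625 q25196, e3 q25609 L773642 q25198, e3 q25610 L773656 q25219, e3 q25611 L773671 q24679, e3 q25612 L773689 q24878, e3 q25613 L785352 q26799, e3 q25614 L773711 q24562, e3 q25615 L773728 q25208, e3 q25616 L785399 q26803, e3 q25617 L773752 q25212, e3 q25618 L773764 q24933, e3 q25619 L785437 q26806, e3 q25620 L773791 q24881, e3 q25621 (flp_b L773801) q24456, e3 q25622 L773815 q24931, e3 q25623 L773830 q24680, e3 q25624 L773851 q25126, e3 q25625 L773859 q24883, e3 q25626 L773872 q25119, e3 q25627 L785547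 q26814, e3 q25628 L773903 q25170, e3 q25629 L785591 q26817, e3 q25630 L773929 q25447, e3 q25631 L773943 q24965, e3 q25632 L773957 q24872, e3 q25633 L785671 q26823, e3 q25634 L773979 q24889, e3 q25635 (flp_b L773989) q24470, e3 q25636 L774001 q24477, e3 q25637 L774019 q24478, e3 q25638 L785747 q26829, e3 q25639 L774047 q24481, e3 q25640 L774063 q24561, e3 q25641 L774080 q25184, e3 q25642 (flp_b L785705) q26826, e3 q25643 L785844 q26836, e3 q25644 (flp_b L785735) q26828, e3 q25645 L785880 q26839, e3 q25646 L774140 q25186, e3 q25647 (flp_b L774148) q24480, e3 q25648 (flp_b L785926) q26843, e3 q25649 L774168 q24967, e3 q25650 L774176 q24497, e3 q25651 (flp_b L774190) q24483, e3 q25652 (flp_b L785968) q26847, e3 q25653 L774216 q25559, e3 q25654 L774229 q25233, e3 q25655 L774237 q25171, e3 q25656 L774248 q24961, e3 q25657 L774263 q24963, e3 q25658 L774283 q24984, e3 q25659 L774289 q24873, e3 q25660 L774301 q25469, e3 q25661 L774315 q25508, e3 q25662 L774330 q24966, e3 q25663 (flp_b L785944) q26845, trivial⟩ (by decide +kernel)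

theorem ce_b_401 : ∀ r, r < 64 → sm gb (Qf (25664 + r)) = Qf (tab Gen.b (25664 + r)) :=
  edges_tab (sm gb) Qf (tab Gen.b) 25664 [(25664, 25146), (25665, 24903), (25666, 24502), (25667, 26857), (25668, 24968), (25669, 24507), (25670, 24508), (25671, 26859), (25672, 24970), (25673, 24528), (25674, 26862), (25675, 24924), (25676, 24930), (25677, 24535), (25678, 24536), (25679, 24925), (25680, 24932), (25681, 26868), (25682, 24920), (25683, 26871), (25684, 24928), (25685, 26873), (25686, 24543), (25687, 24524), (25688, 24911), (25689, 26878), (25690, 26879), (25691, 24951), (25692, 26882), (25693, 24955), (25694, 26884), (25695, 24913), (25696, 24533), (25697, 26864), (25698, 26889), (25699, 24537), (25700, 24538), (25701, 26892), (25702, 24700), (25703, 26895), (25704, 24868), (25705, 24542), (25706, 26898), (25707, 24640), (25708, 24710), (25709, 24552), (25710, 24553), (25711, 24989), (25712, 25239), (25713, 26899), (25714, 26900), (25715, 24976), (25716, 24977), (25717, 26909), (25718, 24764), (25719, 24765), (25720, 24563),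 (25721, 26781), (25722, 24564), (25723, 26831), (25724, 26800), (25725, 26920), (25726, 26913), (25727, 26915)]
    ⟨e3 q25664 L774353 q25146, e3 q25665 L774370 q24903, e3 q25666 L774386 q24502, e3 q25667 (flp_b L786105) q26857, e3 q25668 L774413 q24968, e3 q25669 L774430 q24507, e3 q25670 L774446 q24508, e3 q25671 (flp_b L786132) q26859, e3 q25672 L774475 q24970, e3 q25673 L774488 q24528, e3 q25674 L786177 q26862, e3 q25675 L774522 q24924, e3 q25676 L774540 q24930, e3 q25677 L774556 q24535, e3 q25678 L774573 q24536, e3 q25679 L774589 q24925, e3 q25680 L774603 q24932, e3 q25681 L786269 q26868, e3 q25682 L774630 q24920, e3 q25683 L786314 q26871, e3 q25684 L774658 q24928, e3 q25685 L786340 q26873, e3 q25686 L774688 q24543, e3 q25687 (flp_b L774702) q24524, e3 q25688 L774714 q24911, e3 q25689 L786417 q26878, e3 q25690 L786431 q26879, e3 q25691 L774758 q24951, e3 q25692 L786476 q26882, e3 q25693 L774788 q24955, e3 q25694 L786506 q26884, e3 q25695 L774818 q24913, e3 q25696 (flp_b L774830) q24533, e3 q25697 (flp_b L786213) q26864,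 e3 q25698 L786573 q26889, e3 q25699 (flp_b L774864) q24537, e3 q25700 (flp_b L774876) q24538, e3 q25701 (flp_b L786617) q26892, e3 q25702 L774910 q24700, e3 q25703 L786665 q26895, e3 q25704 L774940 q24868, e3 q25705 (flp_b L774952) q24542, e3 q25706 (flp_b L786709) q26898, e3 q25707 L774982 q24640, e3 q25708 L774988 q24710, e3 q25709 L775006 q24552, e3 q25710 L775024 q24553, e3 q25711 L775038 q24989, e3 q25712 L775055 q25239, e3 q25713 (flp_b L786723) q26899, e3 q25714 (flp_b L786739) q26900, e3 q25715 L775095 q24976, e3 q25716 L775112 q24977, e3 q25717 L786857 q26909, e3 q25718 L775136 q24764, e3 q25719 L775154 q24765, e3 q25720 L775166 q24563, e3 q25721 (flp_b L785109) q26781, e3 q25722 L775184 q24564, e3 q25723 (flp_b L785781) q26831, e3 q25724 (flp_b L785366) q26800, e3 q25725 L786979 q26920, e3 q25726 (flp_b L786908) q26913, e3 q25727 (flp_b L786927) q26915, trivial⟩ (by decide +kernel)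

theorem ce_b_402 : ∀ r, r < 64 → sm gb (Qf (25728 + r)) = Qf (tab Gen.b (25728 + r)) :=
  edges_tab (sm gb) Qf (tab Gen.b) 25728 [(25728, 26924), (25729, 24996), (25730, 24566), (25731, 24999), (25732, 25000), (25733, 26930), (25734, 24573), (25735, 24574), (25736, 25476), (25737, 26935), (25738, 26932), (25739, 25322), (25740, 25007), (25741, 26940), (25742, 25009), (25743, 24577), (25744, 24583), (25745, 26945), (25746, 24586), (25747, 24998), (25748, 25041), (25749, 26950), (25750, 26944), (25751, 26953), (25752, 24585), (25753, 26955), (25754, 25310), (25755, 25021), (25756, 26959), (25757, 25023), (25758, 24590), (25759, 26962), (25760, 26886), (25761, 25030), (25762, 25118), (25763, 25034), (25764, 25091), (25765, 24730), (25766, 25045), (25767, 26970), (25768, 25047), (25769, 24603), (25770, 25004), (25771, 24660), (25772, 26975), (25773, 24609), (25774, 24610), (25775, 24608), (25776, 26979), (25777, 26977), (25778, 24656), (25779, 25063), (25780, 26984), (25781, 25065), (25782, 24613), (25783, 26988), (25784, 26890),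 (25785, 25014), (25786, 26991), (25787, 25019), (25788, 24625), (25789, 26995), (25790, 24627), (25791, 26997)]
    ⟨e3 q25728 L787017 q26924, e3 q25729 L775251 q24996, e3 q25730 (flp_b L775260) q24566, e3 q25731 L775274 q24999, e3 q25732 L775289 q25000, e3 q25733 L787088 q26930, e3 q25734 L775313 q24573, e3 q25735 L775327 q24574, e3 q25736 L775342 q25476, e3 q25737 L787157 q26935, e3 q25738 (flp_b L787118) q26932, e3 q25739 L775378 q25322, e3 q25740 L775391 q25007, e3 q25741 L787219 q26940, e3 q25742 L775415 q25009, e3 q25743 (flp_b L775423) q24577, e3 q25744 L775435 q24583, e3 q25745 L787282 q26945, e3 q25746 L775463 q24586, e3 q25747 L775477 q24998, e3 q25748 L775495 q25041, e3 q25749 L787357 q26950, e3 q25750 (flp_b L787269) q26944, e3 q25751 L787388 q26953, e3 q25752 (flp_b L775536) q24585, e3 q25753 (flp_b L787414) q26955, e3 q25754 L775556 q25310, e3 q25755 L775570 q25021, e3 q25756 L787466 q26959, e3 q25757 L775600 q25023, e3 q25758 (flp_b L775612) q24590, e3 q25759 (flp_b L787506) q26962, e3 q25760 (flp_b L786544)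 q26886, e3 q25761 L775638 q25030, e3 q25762 L775653 q25118, e3 q25763 L775668 q25034, e3 q25764 L775685 q25091, e3 q25765 L775697 q24730, e3 q25766 L775714 q25045, e3 q25767 L787602 q26970, e3 q25768 L775730 q25047, e3 q25769 (flp_b L775739) q24603, e3 q25770 L775751 q25004, e3 q25771 L775767 q24660, e3 q25772 L787662 q26975, e3 q25773 L775793 q24609, e3 q25774 L775805 q24610, e3 q25775 (flp_b L775819) q24608, e3 q25776 (flp_b L787714) q26979, e3 q25777 (flp_b L787686) q26977, e3 q25778 L775855 q24656, e3 q25779 L775867 q25063, e3 q25780 L787778 q26984, e3 q25781 L775891 q25065, e3 q25782 (flp_b L775899) q24613, e3 q25783 (flp_b L787828) q26988, e3 q25784 (flp_b L786597) q26890, e3 q25785 L775931 q25014, e3 q25786 L787866 q26991, e3 q25787 L775959 q25019, e3 q25788 L775973 q24625, e3 q25789 L787926 q26995, e3 q25790 L775999 q24627, e3 q25791 L787952 q26997, trivial⟩ (by decide +kernel)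

theorem ce_b_403 : ∀ r, r < 64 → sm gb (Qf (25792 + r)) = Qf (tab Gen.b (25792 + r)) :=
  edges_tab (sm gb) Qf (tab Gen.b) 25792 [(25792, 24622), (25793, 26999), (25794, 24633), (25795, 27001), (25796, 26994), (25797, 24626), (25798, 27004), (25799, 26974), (25800, 25015), (25801, 27008), (25802, 24630), (25803, 26891), (25804, 24632), (25805, 27011), (25806, 24902), (25807, 27013), (25808, 25099), (25809, 24636), (25810, 27016), (25811, 26897), (25812, 24639), (25813, 27018), (25814, 25111), (25815, 25114), (25816, 24646), (25817, 27020), (25818, 24649), (25819, 26981), (25820, 26911), (25821, 24659), (25822, 24904), (25823, 24671), (25824, 27024), (25825, 24739), (25826, 24828), (25827, 24844), (25828, 25161), (25829, 27030), (25830, 25169), (25831, 24727), (25832, 27032), (25833, 27033), (25834, 25365), (25835, 27035), (25836, 25378), (25837, 24675), (25838, 24823), (25839, 24787), (25840, 26796), (25841, 26811), (25842, 25192), (25843, 27045), (25844, 27046), (25845, 24687), (25846, 24688), (25847, 24936), (25848, 27051),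 (25849, 27048), (25850, 24717), (25851, 24734), (25852, 27056), (25853, 26750), (25854, 24691), (25855, 24738)]
    ⟨e3 q25792 (flp_b L776027) q24622, e3 q25793 (flp_b L787980) q26999, e3 q25794 L776045 q24633, e3 q25795 L788000 q27001, e3 q25796 (flp_b L787912) q26994, e3 q25797 (flp_b L776083) q24626, e3 q25798 (flp_b L788044) q27004, e3 q25799 (flp_b L787648) q26974, e3 q25800 L776127 q25015, e3 q25801 L788106 q27008, e3 q25802 (flp_b L776157) q24630, e3 q25803 (flp_b L786613) q26891, e3 q25804 L776177 q24632, e3 q25805 (flp_b L788144) q27011, e3 q25806 L776193 q24902, e3 q25807 L788162 q27013, e3 q25808 L776213 q25099, e3 q25809 (flp_b L776223) q24636, e3 q25810 (flp_b L788190) q27016, e3 q25811 (flp_b L786705) q26897, e3 q25812 L776245 q24639, e3 q25813 (flp_b L788204) q27018, e3 q25814 L776261 q25111, e3 q25815 L776279 q25114, e3 q25816 L776292 q24646, e3 q25817 (flp_b L788222) q27020, e3 q25818 L776322 q24649, e3 q25819 (flp_b L787736) q26981, e3 q25820 (flp_b L786889) q26911, e3 q25821 L776355 q24659, e3 q25822 L776372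 q24904, e3 q25823 L776390 q24671, e3 q25824 L788278 q27024, e3 q25825 L776424 q24739, e3 q25826 L776442 q24828, e3 q25827 L776456 q24844, e3 q25828 L776473 q25161, e3 q25829 L788376 q27030, e3 q25830 L776501 q25169, e3 q25831 L776518 q24727, e3 q25832 L788406 q27032, e3 q25833 L788418 q27033, e3 q25834 L776564 q25365, e3 q25835 L788446 q27035, e3 q25836 L776594 q25378, e3 q25837 (flp_b L776606) q24675, e3 q25838 L776618 q24823, e3 q25839 L776635 q24787, e3 q25840 (flp_b L785314) q26796, e3 q25841 (flp_b L785509) q26811, e3 q25842 L776671 q25192, e3 q25843 L788577 q27045, e3 q25844 L788589 q27046, e3 q25845 L776707 q24687, e3 q25846 L776723 q24688, e3 q25847 L776738 q24936, e3 q25848 L788660 q27051, e3 q25849 (flp_b L788621) q27048, e3 q25850 L776770 q24717, e3 q25851 L776787 q24734, e3 q25852 L788728 q27056, e3 q25853 (flp_b L784615) q26750, e3 q25854 (flp_b L776813) q24691, e3 q25855 L776825 q24738, trivial⟩ (by decide +kernel)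

theorem ce_b_404 : ∀ r, r < 64 → sm gb (Qf (25856 + r)) = Qf (tab Gen.b (25856 + r)) :=
  edges_tab (sm gb) Qf (tab Gen.b) 25856 [(25856, 24756), (25857, 27060), (25858, 24697), (25859, 27062), (25860, 24702), (25861, 27064), (25862, 26894), (25863, 24701), (25864, 27067), (25865, 25388), (25866, 27069), (25867, 24752), (25868, 24705), (25869, 27072), (25870, 27037), (25871, 25405), (25872, 27074), (25873, 27075), (25874, 24715), (25875, 24716), (25876, 27076), (25877, 27080), (25878, 27053), (25879, 24718), (25880, 24865), (25881, 25246), (25882, 25275), (25883, 25277), (25884, 25323), (25885, 25408), (25886, 27091), (25887, 24747), (25888, 27093), (25889, 24732), (25890, 24733), (25891, 26967), (25892, 24740), (25893, 27099), (25894, 27095), (25895, 24845), (25896, 27102), (25897, 27055), (25898, 24735), (25899, 25338), (25900, 27106), (25901, 27107), (25902, 24815), (25903, 27109), (25904, 24743), (25905, 27111), (25906, 24749), (25907, 25332), (25908, 24750), (25909, 27115), (25910, 27059), (25911, 24748), (25912, 27119),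 (25913, 27113), (25914, 24751), (25915, 27122), (25916, 24840), (25917, 25354), (25918, 24801), (25919, 25350)]
    ⟨e3 q25856 L776842 q24756, e3 q25857 L788768 q27060, e3 q25858 (flp_b L776871) q24697, e3 q25859 L788794 q27062, e3 q25860 L776891 q24702, e3 q25861 L788818 q27064, e3 q25862 (flp_b L786651) q26894, e3 q25863 (flp_b L776933) q24701, e3 q25864 (flp_b L788858) q27067, e3 q25865 L776951 q25388, e3 q25866 L788878 q27069, e3 q25867 L776977 q24752, e3 q25868 (flp_b L776989) q24705, e3 q25869 (flp_b L788914) q27072, e3 q25870 (flp_b L788484) q27037, e3 q25871 L777015 q25405, e3 q25872 L788934 q27074, e3 q25873 L788948 q27075, e3 q25874 L777053 q24715, e3 q25875 L777070 q24716, e3 q25876 (flp_b L788962) q27076, e3 q25877 L789019 q27080, e3 q25878 (flp_b L788682) q27053, e3 q25879 (flp_b L777114) q24718, e3 q25880 L777126 q24865, e3 q25881 L777142 q25246, e3 q25882 L777159 q25275, e3 q25883 L777176 q25277, e3 q25884 L777188 q25323, e3 q25885 L777203 q25408, e3 q25886 L789162 q27091, e3 q25887 L777229 q24747, e3 q25888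 L789190 q27093, e3 q25889 L777253 q24732, e3 q25890 L777267 q24733, e3 q25891 (flp_b L787567) q26967, e3 q25892 L777296 q24740, e3 q25893 L789267 q27099, e3 q25894 (flp_b L789214) q27095, e3 q25895 L777334 q24845, e3 q25896 L789301 q27102, e3 q25897 (flp_b L788714) q27055, e3 q25898 (flp_b L777363) q24735, e3 q25899 L777373 q25338, e3 q25900 L789339 q27106, e3 q25901 L789347 q27107, e3 q25902 L777408 q24815, e3 q25903 L789369 q27109, e3 q25904 (flp_b L777430) q24743, e3 q25905 L789387 q27111, e3 q25906 L777444 q24749, e3 q25907 L777458 q25332, e3 q25908 L777476 q24750, e3 q25909 L789439 q27115, e3 q25910 (flp_b L788754) q27059, e3 q25911 (flp_b L777508) q24748, e3 q25912 (flp_b L789481) q27119, e3 q25913 (flp_b L789409) q27113, e3 q25914 (flp_b L777530) q24751, e3 q25915 (flp_b L789505) q27122, e3 q25916 L777550 q24840, e3 q25917 L777556 q25354, e3 q25918 L777573 q24801, e3 q25919 L777590 q25350, trivial⟩ (by decide +kernel)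

theorem ce_b_405 : ∀ r, r < 64 → sm gb (Qf (25920 + r)) = Qf (tab Gen.b (25920 + r)) :=
  edges_tab (sm gb) Qf (tab Gen.b) 25920 [(25920, 25356), (25921, 25079), (25922, 25492), (25923, 26910), (25924, 25357), (25925, 27132), (25926, 24773), (25927, 26810), (25928, 24774), (25929, 25078), (25930, 26784), (25931, 26783), (25932, 27142), (25933, 27134), (25934, 27136), (25935, 27146), (25936, 25514), (25937, 24776), (25938, 27149), (25939, 25334), (25940, 25335), (25941, 27153), (25942, 25337), (25943, 27155), (25944, 25359), (25945, 24783), (25946, 24788), (25947, 27160), (25948, 24791), (25949, 24792), (25950, 27039), (25951, 27165), (25952, 27159), (25953, 27168), (25954, 25331), (25955, 24790), (25956, 27171), (25957, 27162), (25958, 27173), (25959, 25380), (25960, 24794), (25961, 27176), (25962, 27104), (25963, 27117), (25964, 27179), (25965, 25375), (25966, 24803), (25967, 25341), (25968, 25342), (25969, 25343), (25970, 27187), (25971, 25345), (25972, 27189), (25973, 25347), (25974, 24809), (25975, 27192), (25976, 24811),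 (25977, 27194), (25978, 27110), (25979, 24943), (25980, 27196), (25981, 24824), (25982, 24825), (25983, 27201)]
    ⟨e3 q25920 L777600 q25356, e3 q25921 L777613 q25079, e3 q25922 L777630 q25492, e3 q25923 (flp_b L786873) q26910, e3 q25924 L777655 q25357, e3 q25925 L789626 q27132, e3 q25926 L777677 q24773, e3 q25927 (flp_b L785501) q26810, e3 q25928 L777695 q24774, e3 q25929 L777706 q25078, e3 q25930 (flp_b L785146) q26784, e3 q25931 (flp_b L785130) q26783, e3 q25932 L789721 q27142, e3 q25933 (flp_b L789648) q27134, e3 q25934 (flp_b L789667) q27136, e3 q25935 L789753 q27146, e3 q25936 L777767 q25514, e3 q25937 (flp_b L777776) q24776, e3 q25938 L789785 q27149, e3 q25939 L777802 q25334, e3 q25940 L777819 q25335, e3 q25941 L789840 q27153, e3 q25942 L777839 q25337, e3 q25943 L789858 q27155, e3 q25944 L777857 q25359, e3 q25945 (flp_b L777865) q24783, e3 q25946 L777875 q24788, e3 q25947 L789909 q27160, e3 q25948 L777903 q24791, e3 q25949 L777917 q24792, e3 q25950 (flp_b L788506) q27039, e3 q25951 L789970 q27165, e3 q25952 (flp_b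 L789900) q27159, e3 q25953 L789989 q27168, e3 q25954 L777963 q25331, e3 q25955 (flp_b L777971) q24790, e3 q25956 (flp_b L790019) q27171, e3 q25957 (flp_b L789941) q27162, e3 q25958 L790031 q27173, e3 q25959 L778005 q25380, e3 q25960 (flp_b L778019) q24794, e3 q25961 (flp_b L790065) q27176, e3 q25962 (flp_b L789321) q27104, e3 q25963 (flp_b L789459) q27117, e3 q25964 L790082 q27179, e3 q25965 L778051 q25375, e3 q25966 (flp_b L778063) q24803, e3 q25967 L778075 q25341, e3 q25968 L778090 q25342, e3 q25969 L778102 q25343, e3 q25970 L790171 q27187, e3 q25971 L778120 q25345, e3 q25972 L790189 q27189, e3 q25973 L778138 q25347, e3 q25974 (flp_b L778144) q24809, e3 q25975 (flp_b L790215) q27192, e3 q25976 (flp_b L778158) q24811, e3 q25977 (flp_b L790233) q27194, e3 q25978 (flp_b L789385) q27110, e3 q25979 L778186 q24943, e3 q25980 L790255 q27196, e3 q25981 L778214 q24824, e3 q25982 L778224 q24825, e3 q25983 L790312 q27201, trivial⟩ (by decide +kernel)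

theorem ce_b_406 : ∀ r, r < 64 → sm gb (Qf (25984 + r)) = Qf (tab Gen.b (25984 + r)) :=
  edges_tab (sm gb) Qf (tab Gen.b) 25984 [(25984, 24827), (25985, 27204), (25986, 24830), (25987, 24820), (25988, 27208), (25989, 24833), (25990, 27038), (25991, 27212), (25992, 27198), (25993, 27215), (25994, 27200), (25995, 24826), (25996, 27219), (25997, 27203), (25998, 27223), (25999, 27027), (26000, 24829), (26001, 27226), (26002, 27206), (26003, 27118), (26004, 24832), (26005, 27230), (26006, 24847), (26007, 27232), (26008, 24836), (26009, 27234), (26010, 27121), (26011, 24839), (26012, 27236), (26013, 24846), (26014, 27101), (26015, 27222), (26016, 24859), (26017, 25138), (26018, 24850), (26019, 27242), (26020, 25355), (26021, 24857), (26022, 25241), (26023, 27240), (26024, 25267), (26025, 25268), (26026, 27246), (26027, 27247), (26028, 25094), (26029, 24864), (26030, 27250), (26031, 24866), (26032, 24867), (26033, 27253), (26034, 24900), (26035, 26778), (26036, 27256), (26037, 27257), (26038, 26822), (26039, 26853), (26040, 27260),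 (26041, 26789), (26042, 24875), (26043, 25370), (26044, 27265), (26045, 27266), (26046, 26798), (26047, 24879)]
    ⟨e3 q25984 L778244 q24827, e3 q25985 L790348 q27204, e3 q25986 L778270 q24830, e3 q25987 (flp_b L778278) q24820, e3 q25988 (flp_b L790400) q27208, e3 q25989 L778300 q24833, e3 q25990 (flp_b L788490) q27038, e3 q25991 L790433 q27212, e3 q25992 (flp_b L790283) q27198, e3 q25993 L790454 q27215, e3 q25994 (flp_b L790302) q27200, e3 q25995 (flp_b L778343) q24826, e3 q25996 (flp_b L790486) q27219, e3 q25997 (flp_b L790338) q27203, e3 q25998 L790522 q27223, e3 q25999 (flp_b L788330) q27027, e3 q26000 (flp_b L778385) q24829, e3 q26001 (flp_b L790550) q27226, e3 q26002 (flp_b L790376) q27206, e3 q26003 (flp_b L789477) q27118, e3 q26004 L778409 q24832, e3 q26005 (flp_b L790572) q27230, e3 q26006 L778419 q24847, e3 q26007 L790580 q27232, e3 q26008 (flp_b L778435) q24836, e3 q26009 (flp_b L790600) q27234, e3 q26010 (flp_b L789501) q27121, e3 q26011 L778463 q24839, e3 q26012 (flp_b L790618) q27236, e3 q26013 L778475 q24846,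 e3 q26014 (flp_b L789289) q27101, e3 q26015 (flp_b L790512) q27222, e3 q26016 L778498 q24859, e3 q26017 L778521 q25138, e3 q26018 L778527 q24850, e3 q26019 (flp_b L790668) q27242, e3 q26020 L778548 q25355, e3 q26021 L778559 q24857, e3 q26022 L778574 q25241, e3 q26023 (flp_b L790639) q27240, e3 q26024 L778593 q25267, e3 q26025 L778605 q25268, e3 q26026 L790716 q27246, e3 q26027 L790726 q27247, e3 q26028 L778642 q25094, e3 q26029 (flp_b L778654) q24864, e3 q26030 L790768 q27250, e3 q26031 (flp_b L778678) q24866, e3 q26032 (flp_b L778688) q24867, e3 q26033 (flp_b L790804) q27253, e3 q26034 L778716 q24900, e3 q26035 (flp_b L785053) q26778, e3 q26036 L790833 q27256, e3 q26037 L790841 q27257, e3 q26038 (flp_b L785661) q26822, e3 q26039 (flp_b L786052) q26853, e3 q26040 L790871 q27260, e3 q26041 (flp_b L785210) q26789, e3 q26042 (flp_b L778786) q24875, e3 q26043 L778798 q25370, e3 q26044 L790926 q27265, e3 q26045 L790938 q27266, e3 q26046 (flp_b L785342) q26798, e3 q26047 (flp_b L778846) q24879, trivial⟩ (by decide +kernel)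

theorem ce_b_407 : ∀ r, r < 64 → sm gb (Qf (26048 + r)) = Qf (tab Gen.b (26048 + r)) :=
  edges_tab (sm gb) Qf (tab Gen.b) 26048 [(26048, 24880), (26049, 27270), (26050, 25443), (26051, 27271), (26052, 27272), (26053, 25372), (26054, 24886), (26055, 24887), (26056, 24888), (26057, 27277), (26058, 27251), (26059, 24891), (26060, 24892), (26061, 24893), (26062, 25416), (26063, 27281), (26064, 24945), (26065, 24896), (26066, 27284), (26067, 27252), (26068, 24899), (26069, 27286), (26070, 27006), (26071, 25108), (26072, 27289), (26073, 24906), (26074, 27291), (26075, 27292), (26076, 25396), (26077, 24910), (26078, 27295), (26079, 26877), (26080, 24912), (26081, 27298), (26082, 26875), (26083, 25417), (26084, 27301), (26085, 25276), (26086, 27304), (26087, 25279), (26088, 25324), (26089, 27308), (26090, 26870), (26091, 24921), (26092, 25425), (26093, 27313), (26094, 26863), (26095, 27316), (26096, 26867), (26097, 24926), (26098, 24927), (26099, 27320), (26100, 25026), (26101, 26809), (26102, 26777), (26103, 26795), (26104, 26805),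 (26105, 25081), (26106, 27328), (26107, 27329), (26108, 27050), (26109, 24937), (26110, 25494), (26111, 27334)]
    ⟨e3 q26048 (flp_b L778856) q24880, e3 q26049 (flp_b L790986) q27270, e3 q26050 L778886 q25443, e3 q26051 L790994 q27271, e3 q26052 L791010 q27272, e3 q26053 L778914 q25372, e3 q26054 (flp_b L778923) q24886, e3 q26055 (flp_b L778931) q24887, e3 q26056 (flp_b L778947) q24888, e3 q26057 (flp_b L791066) q27277, e3 q26058 (flp_b L790790) q27251, e3 q26059 (flp_b L778971) q24891, e3 q26060 (flp_b L778987) q24892, e3 q26061 (flp_b L779003) q24893, e3 q26062 L779029 q25416, e3 q26063 L791128 q27281, e3 q26064 L779045 q24945, e3 q26065 (flp_b L779053) q24896, e3 q26066 (flp_b L791158) q27284, e3 q26067 (flp_b L790800) q27252, e3 q26068 L779073 q24899, e3 q26069 (flp_b L791172) q27286, e3 q26070 (flp_b L788074) q27006, e3 q26071 L779101 q25108, e3 q26072 L791208 q27289, e3 q26073 (flp_b L779128) q24906, e3 q26074 L791234 q27291, e3 q26075 L791244 q27292, e3 q26076 L779156 q25396, e3 q26077 (flp_b L779164) q24910, e3 q26078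 L791268 q27295, e3 q26079 (flp_b L786404) q26877, e3 q26080 (flp_b L779191) q24912, e3 q26081 (flp_b L791298) q27298, e3 q26082 (flp_b L786382) q26875, e3 q26083 L779213 q25417, e3 q26084 L791327 q27301, e3 q26085 L779239 q25276, e3 q26086 L791364 q27304, e3 q26087 L779263 q25279, e3 q26088 L779277 q25324, e3 q26089 L791417 q27308, e3 q26090 (flp_b L786301) q26870, e3 q26091 (flp_b L779303) q24921, e3 q26092 L779315 q25425, e3 q26093 L791472 q27313, e3 q26094 (flp_b L786197) q26863, e3 q26095 L791508 q27316, e3 q26096 (flp_b L786257) q26867, e3 q26097 (flp_b L779373) q24926, e3 q26098 (flp_b L779383) q24927, e3 q26099 (flp_b L791554) q27320, e3 q26100 L779411 q25026, e3 q26101 (flp_b L785477) q26809, e3 q26102 (flp_b L785038) q26777, e3 q26103 (flp_b L785299) q26795, e3 q26104 (flp_b L785427) q26805, e3 q26105 L779461 q25081, e3 q26106 L791643 q27328, e3 q26107 L791657 q27329, e3 q26108 (flp_b L788649) q27050, e3 q26109 (flp_b L779500) q24937, e3 q26110 L779510 q25494, e3 q26111 L791706 q27334, trivial⟩ (by decide +kernel)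

theorem ce_b_408 : ∀ r, r < 64 → sm gb (Qf (26112 + r)) = Qf (tab Gen.b (26112 + r)) :=
  edges_tab (sm gb) Qf (tab Gen.b) 26112 [(26112, 25539), (26113, 27337), (26114, 25543), (26115, 24942), (26116, 27340), (26117, 26776), (26118, 24944), (26119, 27344), (26120, 25068), (26121, 25058), (26122, 27347), (26123, 24949), (26124, 25235), (26125, 27351), (26126, 26881), (26127, 27353), (26128, 24953), (26129, 24954), (26130, 27356), (26131, 25095), (26132, 25102), (26133, 24958), (26134, 27359), (26135, 26851), (26136, 25565), (26137, 26850), (26138, 26820), (26139, 26760), (26140, 26819), (26141, 26841), (26142, 26838), (26143, 25325), (26144, 26860), (26145, 27366), (26146, 24975), (26147, 25493), (26148, 27370), (26149, 26906), (26150, 27373), (26151, 26908), (26152, 24978), (26153, 25197), (26154, 25220), (26155, 25224), (26156, 24988), (26157, 24990), (26158, 27383), (26159, 24992), (26160, 26852), (26161, 24993), (26162, 25499), (26163, 25089), (26164, 27392), (26165, 26901), (26166, 27395), (26167, 27382), (26168, 24991),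 (26169, 27399), (26170, 27385), (26171, 27388), (26172, 27402), (26173, 25479), (26174, 24995), (26175, 27405)]
    ⟨e3 q26112 L779536 q25539, e3 q26113 L791740 q27337, e3 q26114 L779558 q25543, e3 q26115 (flp_b L779568) q24942, e3 q26116 L791778 q27340, e3 q26117 (flp_b L785024) q26776, e3 q26118 (flp_b L779594) q24944, e3 q26119 (flp_b L791810) q27344, e3 q26120 L779612 q25068, e3 q26121 L779616 q25058, e3 q26122 L791838 q27347, e3 q26123 (flp_b L779640) q24949, e3 q26124 L779656 q25235, e3 q26125 L791891 q27351, e3 q26126 (flp_b L786463) q26881, e3 q26127 L791907 q27353, e3 q26128 (flp_b L779697) q24953, e3 q26129 (flp_b L779705) q24954, e3 q26130 (flp_b L791943) q27356, e3 q26131 L779733 q25095, e3 q26132 L779739 q25102, e3 q26133 L779743 q24958, e3 q26134 (flp_b L791969) q27359, e3 q26135 (flp_b L786020) q26851, e3 q26136 L779767 q25565, e3 q26137 (flp_b L786005) q26850, e3 q26138 (flp_b L785633) q26820, e3 q26139 (flp_b L784769) q26760, e3 q26140 (flp_b L785621) q26819, e3 q26141 (flp_b L785906) q26841, e3 q26142 (flp_b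 L785872) q26838, e3 q26143 L779834 q25325, e3 q26144 (flp_b L786149) q26860, e3 q26145 L792021 q27366, e3 q26146 L779868 q24975, e3 q26147 L779882 q25493, e3 q26148 L792072 q27370, e3 q26149 (flp_b L786820) q26906, e3 q26150 L792097 q27373, e3 q26151 (flp_b L786848) q26908, e3 q26152 (flp_b L779925) q24978, e3 q26153 L779935 q25197, e3 q26154 L779954 q25220, e3 q26155 L779960 q25224, e3 q26156 L779972 q24988, e3 q26157 L779986 q24990, e3 q26158 L792201 q27383, e3 q26159 L780000 q24992, e3 q26160 (flp_b L786036) q26852, e3 q26161 L780016 q24993, e3 q26162 L780025 q25499, e3 q26163 L780039 q25089, e3 q26164 L792293 q27392, e3 q26165 (flp_b L786752) q26901, e3 q26166 L792320 q27395, e3 q26167 (flp_b L792194) q27382, e3 q26168 (flp_b L780078) q24991, e3 q26169 (flp_b L792343) q27399, e3 q26170 (flp_b L792215) q27385, e3 q26171 (flp_b L792240) q27388, e3 q26172 L792357 q27402, e3 q26173 L780115 q25479, e3 q26174 (flp_b L780124) q24995, e3 q26175 (flp_b L792387) q27405, trivial⟩ (by decide +kernel)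

theorem ce_b_409 : ∀ r, r < 64 → sm gb (Qf (26176 + r)) = Qf (tab Gen.b (26176 + r)) :=
  edges_tab (sm gb) Qf (tab Gen.b) 26176 [(26176, 27310), (26177, 27407), (26178, 26927), (26179, 27410), (26180, 26929), (26181, 25001), (26182, 27413), (26183, 25255), (26184, 27415), (26185, 25005), (26186, 25486), (26187, 27419), (26188, 26939), (26189, 25008), (26190, 27423), (26191, 27318), (26192, 27425), (26193, 25012), (26194, 25308), (26195, 27428), (26196, 27429), (26197, 25016), (26198, 27431), (26199, 25018), (26200, 27433), (26201, 25556), (26202, 27434), (26203, 26958), (26204, 25022), (26205, 27437), (26206, 27319), (26207, 25025), (26208, 27440), (26209, 25107), (26210, 25564), (26211, 25029), (26212, 27443), (26213, 26964), (26214, 25032), (26215, 27445), (26216, 25109), (26217, 25120), (26218, 25037), (26219, 27450), (26220, 27452), (26221, 27453), (26222, 25256), (26223, 27456), (26224, 26949), (26225, 25042), (26226, 27460), (26227, 25054), (26228, 27462), (26229, 26969), (26230, 25046), (26231, 27465), (26232, 27331),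 (26233, 27467), (26234, 27468), (26235, 25060), (26236, 25051), (26237, 25300), (26238, 25299), (26239, 27474)]
    ⟨e3 q26176 (flp_b L791441) q27310, e3 q26177 L792394 q27407, e3 q26178 (flp_b L787053) q26927, e3 q26179 L792429 q27410, e3 q26180 (flp_b L787077) q26929, e3 q26181 (flp_b L780183) q25001, e3 q26182 L792453 q27413, e3 q26183 L780207 q25255, e3 q26184 L792481 q27415, e3 q26185 (flp_b L780233) q25005, e3 q26186 L780247 q25486, e3 q26187 L792529 q27419, e3 q26188 (flp_b L787209) q26939, e3 q26189 (flp_b L780269) q25008, e3 q26190 (flp_b L792559) q27423, e3 q26191 (flp_b L791540) q27318, e3 q26192 L792577 q27425, e3 q26193 (flp_b L780303) q25012, e3 q26194 L780317 q25308, e3 q26195 L792613 q27428, e3 q26196 L792621 q27429, e3 q26197 (flp_b L780351) q25016, e3 q26198 L792645 q27431, e3 q26199 (flp_b L780373) q25018, e3 q26200 (flp_b L792669) q27433, e3 q26201 L780403 q25556, e3 q26202 L792677 q27434, e3 q26203 (flp_b L787452) q26958, e3 q26204 (flp_b L780423) q25022, e3 q26205 (flp_b L792705) q27437, e3 q26206 (flp_b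 L791550) q27319, e3 q26207 L780447 q25025, e3 q26208 (flp_b L792731) q27440, e3 q26209 L780471 q25107, e3 q26210 L780477 q25564, e3 q26211 (flp_b L780486) q25029, e3 q26212 (flp_b L792762) q27443, e3 q26213 (flp_b L787528) q26964, e3 q26214 L780517 q25032, e3 q26215 (flp_b L792783) q27445, e3 q26216 L780540 q25109, e3 q26217 L780553 q25120, e3 q26218 L780565 q25037, e3 q26219 (flp_b L792839) q27450, e3 q26220 L792857 q27452, e3 q26221 L792869 q27453, e3 q26222 L780608 q25256, e3 q26223 L792906 q27456, e3 q26224 (flp_b L787344) q26949, e3 q26225 (flp_b L780631) q25042, e3 q26226 (flp_b L792947) q27460, e3 q26227 L780659 q25054, e3 q26228 L792977 q27462, e3 q26229 (flp_b L787595) q26969, e3 q26230 (flp_b L780682) q25046, e3 q26231 (flp_b L792997) q27465, e3 q26232 (flp_b L791677) q27331, e3 q26233 L793006 q27467, e3 q26234 L793018 q27468, e3 q26235 L780722 q25060, e3 q26236 (flp_b L780728) q25051, e3 q26237 L780736 q25300, e3 q26238 L780750 q25299, e3 q26239 L793075 q27474, trivial⟩ (by decide +kernel)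

theorem ce_b_410 : ∀ r, r < 64 → sm gb (Qf (26240 + r)) = Qf (tab Gen.b (26240 + r)) :=
  edges_tab (sm gb) Qf (tab Gen.b) 26240 [(26240, 27458), (26241, 27476), (26242, 25056), (26243, 25470), (26244, 27480), (26245, 27288), (26246, 25059), (26247, 27484), (26248, 27339), (26249, 25062), (26250, 27487), (26251, 26983), (26252, 25064), (26253, 27490), (26254, 26986), (26255, 27343), (26256, 25067), (26257, 27494), (26258, 25069), (26259, 25080), (26260, 27498), (26261, 25083), (26262, 25072), (26263, 27501), (26264, 25074), (26265, 27503), (26266, 27496), (26267, 25077), (26268, 27137), (26269, 27127), (26270, 27509), (26271, 26966), (26272, 27512), (26273, 27327), (26274, 25082), (26275, 27515), (26276, 25511), (26277, 25084), (26278, 27519), (26279, 27354), (26280, 25087), (26281, 27522), (26282, 27523), (26283, 27525), (26284, 26965), (26285, 25090), (26286, 27529), (26287, 26813), (26288, 27355), (26289, 25093), (26290, 27532), (26291, 27533), (26292, 25504), (26293, 25097), (26294, 25098), (26295, 27537), (26296, 26846),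 (26297, 25101), (26298, 27540), (26299, 27358), (26300, 25104), (26301, 27544), (26302, 25563), (26303, 27442)]
    ⟨e3 q26240 (flp_b L792924) q27458, e3 q26241 L793091 q27476, e3 q26242 (flp_b L780789) q25056, e3 q26243 L780797 q25470, e3 q26244 L793131 q27480, e3 q26245 (flp_b L791194) q27288, e3 q26246 (flp_b L780817) q25059, e3 q26247 (flp_b L793163) q27484, e3 q26248 (flp_b L791776) q27339, e3 q26249 L780839 q25062, e3 q26250 L793191 q27487, e3 q26251 (flp_b L787764) q26983, e3 q26252 (flp_b L780863) q25064, e3 q26253 (flp_b L793213) q27490, e3 q26254 (flp_b L787804) q26986, e3 q26255 (flp_b L791806) q27343, e3 q26256 L780885 q25067, e3 q26257 (flp_b L793235) q27494, e3 q26258 (flp_b L780897) q25069, e3 q26259 L780905 q25080, e3 q26260 L793265 q27498, e3 q26261 L780921 q25083, e3 q26262 (flp_b L780928) q25072, e3 q26263 L793291 q27501, e3 q26264 (flp_b L780950) q25074, e3 q26265 (flp_b L793311) q27503, e3 q26266 (flp_b L793253) q27496, e3 q26267 L780968 q25077, e3 q26268 (flp_b L789677) q27137, e3 q26269 (flp_b L789565)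 q27127, e3 q26270 L793363 q27509, e3 q26271 (flp_b L787556) q26966, e3 q26272 L793386 q27512, e3 q26273 (flp_b L791632) q27327, e3 q26274 (flp_b L781022) q25082, e3 q26275 (flp_b L793406) q27515, e3 q26276 L781038 q25511, e3 q26277 (flp_b L781045) q25084, e3 q26278 (flp_b L793431) q27519, e3 q26279 (flp_b L791929) q27354, e3 q26280 L781071 q25087, e3 q26281 (flp_b L793465) q27522, e3 q26282 (flp_b L793475) q27523, e3 q26283 L793493 q27525, e3 q26284 (flp_b L787542) q26965, e3 q26285 (flp_b L781111) q25090, e3 q26286 (flp_b L793527) q27529, e3 q26287 (flp_b L785537) q26813, e3 q26288 (flp_b L791939) q27355, e3 q26289 L781139 q25093, e3 q26290 (flp_b L793545) q27532, e3 q26291 (flp_b L793555) q27533, e3 q26292 L781167 q25504, e3 q26293 L781177 q25097, e3 q26294 (flp_b L781183) q25098, e3 q26295 (flp_b L793589) q27537, e3 q26296 (flp_b L785964) q26846, e3 q26297 L781207 q25101, e3 q26298 (flp_b L793613) q27540, e3 q26299 (flp_b L791965) q27358, e3 q26300 L781225 q25104, e3 q26301 (flp_b L793641) q27544, e3 q26302 L781233 q25563,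 e3 q26303 (flp_b L792749) q27442, trivial⟩ (by decide +kernel)

theorem ce_b_411 : ∀ r, r < 64 → sm gb (Qf (26304 + r)) = Qf (tab Gen.b (26304 + r)) :=
  edges_tab (sm gb) Qf (tab Gen.b) 26304 [(26304, 25140), (26305, 27447), (26306, 25285), (26307, 25227), (26308, 25113), (26309, 27552), (26310, 25560), (26311, 25117), (26312, 27556), (26313, 26812), (26314, 27448), (26315, 25284), (26316, 25307), (26317, 25552), (26318, 27543), (26319, 25125), (26320, 27482), (26321, 25229), (26322, 25130), (26323, 25131), (26324, 27387), (26325, 25222), (26326, 25134), (26327, 27546), (26328, 25327), (26329, 27563), (26330, 25566), (26331, 27241), (26332, 25240), (26333, 25265), (26334, 25226), (26335, 25225), (26336, 25148), (26337, 25407), (26338, 25150), (26339, 25151), (26340, 25167), (26341, 26768), (26342, 25154), (26343, 25155), (26344, 27570), (26345, 27575), (26346, 25163), (26347, 25158), (26348, 27578), (26349, 25421), (26350, 25160), (26351, 27581), (26352, 27029), (26353, 25162), (26354, 27584), (26355, 26766), (26356, 25165),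 (26357, 27572), (26358, 27586), (26359, 26816), (26360, 25172), (26361, 25173), (26362, 25507), (26363, 25531), (26364, 27590), (26365, 25177), (26366, 27592), (26367, 25553)]
    ⟨e3 q26304 L781253 q25140, e3 q26305 (flp_b L792804) q27447, e3 q26306 L781273 q25285, e3 q26307 L781294 q25227, e3 q26308 L781298 q25113, e3 q26309 (flp_b L793708) q27552, e3 q26310 L781316 q25560, e3 q26311 L781328 q25117, e3 q26312 (flp_b L793738) q27556, e3 q26313 (flp_b L785522) q26812, e3 q26314 (flp_b L792816) q27448, e3 q26315 L781362 q25284, e3 q26316 L781370 q25307, e3 q26317 L781382 q25552, e3 q26318 (flp_b L793637) q27543, e3 q26319 L781394 q25125, e3 q26320 (flp_b L793145) q27482, e3 q26321 L781408 q25229, e3 q26322 L781419 q25130, e3 q26323 L781433 q25131, e3 q26324 (flp_b L792227) q27387, e3 q26325 L781454 q25222, e3 q26326 L781464 q25134, e3 q26327 (flp_b L793649) q27546, e3 q26328 L781481 q25327, e3 q26329 (flp_b L793805) q27563, e3 q26330 L781505 q25566, e3 q26331 (flp_b L790655) q27241, e3 q26332 L781525 q25240, e3 q26333 L781535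 q25265, e3 q26334 L781547 q25226, e3 q26335 L781560 q25225, e3 q26336 (flp_b L781568) q25148, e3 q26337 L781592 q25407, e3 q26338 (flp_b L781594) q25150, e3 q26339 (flp_b L781608) q25151, e3 q26340 L781628 q25167, e3 q26341 (flp_b L784912) q26768, e3 q26342 (flp_b L781642) q25154, e3 q26343 (flp_b L781654) q25155, e3 q26344 (flp_b L793892) q27570, e3 q26345 L793948 q27575, e3 q26346 L781690 q25163, e3 q26347 (flp_b L781702) q25158, e3 q26348 L793986 q27578, e3 q26349 L781732 q25421, e3 q26350 (flp_b L781743) q25160, e3 q26351 L794028 q27581, e3 q26352 (flp_b L788362) q27029, e3 q26353 (flp_b L781781) q25162, e3 q26354 (flp_b L794066) q27584, e3 q26355 (flp_b L784878) q26766, e3 q26356 (flp_b L781803) q25165, e3 q26357 (flp_b L793924) q27572, e3 q26358 L794082 q27586, e3 q26359 (flp_b L785581) q26816, e3 q26360 (flp_b L781847) q25172, e3 q26361 (flp_b L781861) q25173, e3 q26362 L781885 q25507, e3 q26363 L781897 q25531, e3 q26364 L794136 q27590, e3 q26365 (flp_b L781911) q25177, e3 q26366 (flp_b L794158) q27592, e3 q26367 L781929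 q25553, trivial⟩ (by decide +kernel)

theorem ce_b_412 : ∀ r, r < 64 → sm gb (Qf (26368 + r)) = Qf (tab Gen.b (26368 + r)) :=
  edges_tab (sm gb) Qf (tab Gen.b) 26368 [(26368, 25180), (26369, 25182), (26370, 25444), (26371, 27595), (26372, 26833), (26373, 25185), (26374, 27598), (26375, 25264), (26376, 25190), (26377, 25191), (26378, 27601), (26379, 27600), (26380, 27566), (26381, 27604), (26382, 27044), (26383, 25193), (26384, 27607), (26385, 25200), (26386, 25201), (26387, 26792), (26388, 27612), (26389, 27377), (26390, 27615), (26391, 26794), (26392, 25199), (26393, 27618), (26394, 27609), (26395, 27378), (26396, 25202), (26397, 25287), (26398, 27622), (26399, 25210), (26400, 25205), (26401, 27626), (26402, 25215), (26403, 27628), (26404, 26802), (26405, 25209), (26406, 27631), (26407, 27624), (26408, 25211), (26409, 27634), (26410, 25313), (26411, 25214), (26412, 27636), (26413, 25318), (26414, 27379), (26415, 27564), (26416, 27551), (26417, 25231), (26418, 27639), (26419, 25237), (26420, 26849), (26421, 27642), (26422,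 27350), (26423, 25236), (26424, 27645), (26425, 27589), (26426, 26902), (26427, 27648), (26428, 27243), (26429, 27244), (26430, 25242), (26431, 25247)]
    ⟨e3 q26368 L781933 q25180, e3 q26369 (flp_b L781937) q25182, e3 q26370 L781959 q25444, e3 q26371 L794186 q27595, e3 q26372 (flp_b L785811) q26833, e3 q26373 (flp_b L781974) q25185, e3 q26374 (flp_b L794208) q27598, e3 q26375 L781996 q25264, e3 q26376 L782002 q25190, e3 q26377 L782014 q25191, e3 q26378 L794238 q27601, e3 q26379 (flp_b L794228) q27600, e3 q26380 (flp_b L793843) q27566, e3 q26381 L794272 q27604, e3 q26382 (flp_b L788566) q27044, e3 q26383 (flp_b L782070) q25193, e3 q26384 L794292 q27607, e3 q26385 L782082 q25200, e3 q26386 L782092 q25201, e3 q26387 (flp_b L785255) q26792, e3 q26388 L794335 q27612, e3 q26389 (flp_b L792133) q27377, e3 q26390 L794369 q27615, e3 q26391 (flp_b L785285) q26794, e3 q26392 (flp_b L782158) q25199, e3 q26393 (flp_b L794401) q27618, e3 q26394 (flp_b L794308) q27609, e3 q26395 (flp_b L792147) q27378, e3 q26396 (flp_b L782192) q25202,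 e3 q26397 L782212 q25287, e3 q26398 L794439 q27622, e3 q26399 L782222 q25210, e3 q26400 (flp_b L782230) q25205, e3 q26401 (flp_b L794473) q27626, e3 q26402 L782244 q25215, e3 q26403 L794487 q27628, e3 q26404 (flp_b L785392) q26802, e3 q26405 (flp_b L782271) q25209, e3 q26406 (flp_b L794519) q27631, e3 q26407 (flp_b L794457) q27624, e3 q26408 (flp_b L782297) q25211, e3 q26409 (flp_b L794543) q27634, e3 q26410 L782315 q25313, e3 q26411 L782319 q25214, e3 q26412 (flp_b L794557) q27636, e3 q26413 L782339 q25318, e3 q26414 (flp_b L792161) q27379, e3 q26415 (flp_b L793821) q27564, e3 q26416 (flp_b L793696) q27551, e3 q26417 L782374 q25231, e3 q26418 L794576 q27639, e3 q26419 L782393 q25237, e3 q26420 (flp_b L785990) q26849, e3 q26421 L794608 q27642, e3 q26422 (flp_b L791880) q27350, e3 q26423 (flp_b L782431) q25236, e3 q26424 (flp_b L794638) q27645, e3 q26425 (flp_b L794134) q27589, e3 q26426 (flp_b L786768) q26902, e3 q26427 L794659 q27648, e3 q26428 (flp_b L790682) q27243, e3 q26429 (flp_b L790694) q27244, e3 q26430 (flp_b L782491)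 q25242, e3 q26431 L782503 q25247, trivial⟩ (by decide +kernel)

theorem ce_b_413 : ∀ r, r < 64 → sm gb (Qf (26432 + r)) = Qf (tab Gen.b (26432 + r)) :=
  edges_tab (sm gb) Qf (tab Gen.b) 26432 [(26432, 27654), (26433, 25249), (26434, 27084), (26435, 27658), (26436, 27653), (26437, 25248), (26438, 27661), (26439, 27588), (26440, 27662), (26441, 25258), (26442, 27664), (26443, 25253), (26444, 27666), (26445, 27667), (26446, 27668), (26447, 27455), (26448, 25257), (26449, 27671), (26450, 25259), (26451, 27597), (26452, 25261), (26453, 25262), (26454, 27278), (26455, 27676), (26456, 27569), (26457, 25266), (26458, 27680), (26459, 27245), (26460, 25269), (26461, 27683), (26462, 27606), (26463, 27685), (26464, 25281), (26465, 25273), (26466, 27688), (26467, 27085), (26468, 27691), (26469, 27303), (26470, 27693), (26471, 27087), (26472, 25278), (26473, 27697), (26474, 27306), (26475, 25280), (26476, 27701), (26477, 27617), (26478, 25283), (26479, 27703), (26480, 27550), (26481, 27621), (26482, 27705), (26483, 25501), (26484, 25289),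 (26485, 27708), (26486, 25302), (26487, 27710), (26488, 25304), (26489, 25292), (26490, 27713), (26491, 27714), (26492, 25295), (26493, 27716), (26494, 27707), (26495, 25298)]
    ⟨e3 q26432 L794710 q27654, e3 q26433 L782523 q25249, e3 q26434 (flp_b L789067) q27084, e3 q26435 L794753 q27658, e3 q26436 (flp_b L794703) q27653, e3 q26437 (flp_b L782558) q25248, e3 q26438 (flp_b L794783) q27661, e3 q26439 (flp_b L794118) q27588, e3 q26440 L794789 q27662, e3 q26441 L782594 q25258, e3 q26442 L794801 q27664, e3 q26443 (flp_b L782613) q25253, e3 q26444 (flp_b L794825) q27666, e3 q26445 L794831 q27667, e3 q26446 L794841 q27668, e3 q26447 (flp_b L792897) q27455, e3 q26448 (flp_b L782650) q25257, e3 q26449 (flp_b L794861) q27671, e3 q26450 (flp_b L782660) q25259, e3 q26451 (flp_b L794204) q27597, e3 q26452 L782678 q25261, e3 q26453 (flp_b L782682) q25262, e3 q26454 (flp_b L791090) q27278, e3 q26455 L794896 q27676, e3 q26456 (flp_b L793871) q27569, e3 q26457 (flp_b L782713) q25266, e3 q26458 (flp_b L794919) q27680, e3 q26459 (flp_b L790708)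 q27245, e3 q26460 (flp_b L782731) q25269, e3 q26461 (flp_b L794939) q27683, e3 q26462 (flp_b L794290) q27606, e3 q26463 L794946 q27685, e3 q26464 L782759 q25281, e3 q26465 (flp_b L782767) q25273, e3 q26466 (flp_b L794976) q27688, e3 q26467 (flp_b L789083) q27085, e3 q26468 L795005 q27691, e3 q26469 (flp_b L791357) q27303, e3 q26470 L795023 q27693, e3 q26471 (flp_b L789111) q27087, e3 q26472 (flp_b L782824) q25278, e3 q26473 (flp_b L795053) q27697, e3 q26474 (flp_b L791394) q27306, e3 q26475 (flp_b L782846) q25280, e3 q26476 (flp_b L795085) q27701, e3 q26477 (flp_b L794397) q27617, e3 q26478 L782872 q25283, e3 q26479 (flp_b L795099) q27703, e3 q26480 (flp_b L793686) q27550, e3 q26481 (flp_b L794437) q27621, e3 q26482 L795107 q27705, e3 q26483 L782914 q25501, e3 q26484 (flp_b L782922) q25289, e3 q26485 L795135 q27708, e3 q26486 L782934 q25302, e3 q26487 L795149 q27710, e3 q26488 L782945 q25304, e3 q26489 (flp_b L782951) q25292, e3 q26490 (flp_b L795169) q27713, e3 q26491 L795175 q27714, e3 q26492 (flp_b L782975) q25295, e3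 q26493 (flp_b L795197) q27716, e3 q26494 (flp_b L795133) q27707, e3 q26495 L782995 q25298, trivial⟩ (by decide +kernel)

theorem ce_b_414 : ∀ r, r < 64 → sm gb (Qf (26496 + r)) = Qf (tab Gen.b (26496 + r)) :=
  edges_tab (sm gb) Qf (tab Gen.b) 26496 [(26496, 27718), (26497, 26952), (26498, 27720), (26499, 27472), (26500, 25301), (26501, 27723), (26502, 25303), (26503, 27726), (26504, 27559), (26505, 27630), (26506, 25306), (26507, 27729), (26508, 27730), (26509, 26937), (26510, 25309), (26511, 27733), (26512, 27633), (26513, 25312), (26514, 27635), (26515, 25315), (26516, 25316), (26517, 27249), (26518, 25509), (26519, 27088), (26520, 27307), (26521, 25328), (26522, 25329), (26523, 25330), (26524, 27741), (26525, 27114), (26526, 25353), (26527, 27150), (26528, 27745), (26529, 27152), (26530, 25336), (26531, 27749), (26532, 27105), (26533, 27738), (26534, 27739), (26535, 27182), (26536, 27753), (26537, 27184), (26538, 27756), (26539, 27186), (26540, 25344), (26541, 27760), (26542, 27125), (26543, 25346), (26544, 27763), (26545,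 27124), (26546, 27740), (26547, 25349), (26548, 27766), (26549, 26759), (26550, 27571), (26551, 27126), (26552, 27768), (26553, 27131), (26554, 25358), (26555, 27771), (26556, 25376), (26557, 25361), (26558, 25386), (26559, 25402)]
    ⟨e3 q26496 L795207 q27718, e3 q26497 (flp_b L787375) q26952, e3 q26498 L795227 q27720, e3 q26499 (flp_b L793052) q27472, e3 q26500 (flp_b L783031) q25301, e3 q26501 (flp_b L795247) q27723, e3 q26502 (flp_b L783043) q25303, e3 q26503 (flp_b L795260) q27726, e3 q26504 (flp_b L793765) q27559, e3 q26505 (flp_b L794515) q27630, e3 q26506 L783065 q25306, e3 q26507 (flp_b L795278) q27729, e3 q26508 L795282 q27730, e3 q26509 (flp_b L787181) q26937, e3 q26510 (flp_b L783087) q25309, e3 q26511 (flp_b L795302) q27733, e3 q26512 (flp_b L794539) q27633, e3 q26513 L783107 q25312, e3 q26514 (flp_b L794551) q27635, e3 q26515 L783115 q25315, e3 q26516 (flp_b L783117) q25316, e3 q26517 (flp_b L790766) q27249, e3 q26518 L783133 q25509, e3 q26519 (flp_b L789125) q27088, e3 q26520 (flp_b L791406) q27307, e3 q26521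 (flp_b L783153) q25328, e3 q26522 (flp_b L783167) q25329, e3 q26523 (flp_b L783181) q25330, e3 q26524 (flp_b L795366) q27741, e3 q26525 (flp_b L789427) q27114, e3 q26526 L783205 q25353, e3 q26527 (flp_b L789803) q27150, e3 q26528 L795395 q27745, e3 q26529 (flp_b L789831) q27152, e3 q26530 (flp_b L783224) q25336, e3 q26531 (flp_b L795418) q27749, e3 q26532 (flp_b L789327) q27105, e3 q26533 (flp_b L795340) q27738, e3 q26534 (flp_b L795356) q27739, e3 q26535 (flp_b L790114) q27182, e3 q26536 L795449 q27753, e3 q26537 (flp_b L790138) q27184, e3 q26538 L795470 q27756, e3 q26539 (flp_b L790161) q27186, e3 q26540 (flp_b L783295) q25344, e3 q26541 (flp_b L795500) q27760, e3 q26542 (flp_b L789539) q27125, e3 q26543 (flp_b L783313) q25346, e3 q26544 (flp_b L795518) q27763, e3 q26545 (flp_b L789523) q27124, e3 q26546 (flp_b L795362) q27740, e3 q26547 L783335 q25349, e3 q26548 (flp_b L795534) q27766, e3 q26549 (flp_b L784753) q26759, e3 q26550 (flp_b L793908) q27571, e3 q26551 (flp_b L789551) q27126, e3 q26552 L795544 q27768, e3 q26553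 (flp_b L789617) q27131, e3 q26554 (flp_b L783382) q25358, e3 q26555 (flp_b L795572) q27771, e3 q26556 L783400 q25376, e3 q26557 (flp_b L783402) q25361, e3 q26558 L783414 q25386, e3 q26559 L783420 q25402, trivial⟩ (by decide +kernel)

theorem ce_b_415 : ∀ r, r < 64 → sm gb (Qf (26560 + r)) = Qf (tab Gen.b (26560 + r)) :=
  edges_tab (sm gb) Qf (tab Gen.b) 26560 [(26560, 25364), (26561, 27774), (26562, 25367), (26563, 27776), (26564, 27777), (26565, 27264), (26566, 25371), (26567, 27780), (26568, 27770), (26569, 25374), (26570, 27783), (26571, 25377), (26572, 27785), (26573, 25379), (26574, 27787), (26575, 27772), (26576, 25382), (26577, 27789), (26578, 26772), (26579, 25385), (26580, 25387), (26581, 27792), (26582, 25389), (26583, 27794), (26584, 25391), (26585, 27791), (26586, 25393), (26587, 27797), (26588, 25395), (26589, 27799), (26590, 26987), (26591, 25398), (26592, 25399), (26593, 26767), (26594, 25401), (26595, 27773), (26596, 25404), (26597, 27804), (26598, 26758), (26599, 27805), (26600, 27090), (26601, 25409), (26602,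 25432), (26603, 27279), (26604, 25413), (26605, 27275), (26606, 27280), (26607, 27809), (26608, 27300), (26609, 25418), (26610, 27812), (26611, 25453), (26612, 25420), (26613, 27815), (26614, 27807), (26615, 27817), (26616, 25428), (26617, 25424), (26618, 27820), (26619, 27312), (26620, 25426), (26621, 25427), (26622, 27824), (26623, 27268)]
    ⟨e3 q26560 L783424 q25364, e3 q26561 (flp_b L795592) q27774, e3 q26562 (flp_b L783432) q25367, e3 q26563 (flp_b L795602) q27776, e3 q26564 L795608 q27777, e3 q26565 (flp_b L790915) q27264, e3 q26566 (flp_b L783457) q25371, e3 q26567 (flp_b L795628) q27780, e3 q26568 (flp_b L795568) q27770, e3 q26569 L783475 q25374, e3 q26570 (flp_b L795643) q27783, e3 q26571 (flp_b L783485) q25377, e3 q26572 (flp_b L795655) q27785, e3 q26573 (flp_b L783499) q25379, e3 q26574 (flp_b L795669) q27787, e3 q26575 (flp_b L795582) q27772, e3 q26576 (flp_b L783517) q25382, e3 q26577 (flp_b L795681) q27789, e3 q26578 (flp_b L784976) q26772, e3 q26579 L783537 q25385, e3 q26580 (flp_b L783541) q25387, e3 q26581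 (flp_b L795699) q27792, e3 q26582 (flp_b L783549) q25389, e3 q26583 (flp_b L795709) q27794, e3 q26584 (flp_b L783561) q25391, e3 q26585 (flp_b L795695) q27791, e3 q26586 L783573 q25393, e3 q26587 (flp_b L795729) q27797, e3 q26588 (flp_b L783581) q25395, e3 q26589 (flp_b L795741) q27799, e3 q26590 (flp_b L787824) q26987, e3 q26591 L783601 q25398, e3 q26592 (flp_b L783605) q25399, e3 q26593 (flp_b L784892) q26767, e3 q26594 L783619 q25401, e3 q26595 (flp_b L795588) q27773, e3 q26596 L783631 q25404, e3 q26597 (flp_b L795771) q27804, e3 q26598 (flp_b L784747) q26758, e3 q26599 L795773 q27805, e3 q26600 (flp_b L789151) q27090, e3 q26601 (flp_b L783656) q25409, e3 q26602 L783668 q25432, e3 q26603 (flp_b L791108) q27279, e3 q26604 (flp_b L783676) q25413, e3 q26605 (flp_b L791054) q27275, e3 q26606 (flp_b L791126) q27280, e3 q26607 L795801 q27809, e3 q26608 (flp_b L791318) q27300, e3 q26609 (flp_b L783709) q25418, e3 q26610 L795817 q27812, e3 q26611 L783725 q25453, e3 q26612 (flp_b L783732) q25420, e3 q26613 (flp_b L795841) q27815,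 e3 q26614 (flp_b L795791) q27807, e3 q26615 L795850 q27817, e3 q26616 L783758 q25428, e3 q26617 (flp_b L783764) q25424, e3 q26618 L795872 q27820, e3 q26619 (flp_b L791461) q27312, e3 q26620 (flp_b L783785) q25426, e3 q26621 (flp_b L783791) q25427, e3 q26622 (flp_b L795904) q27824, e3 q26623 (flp_b L790972) q27268, trivial⟩ (by decide +kernel)

theorem ce_b_416 : ∀ r, r < 64 → sm gb (Qf (26624 + r)) = Qf (tab Gen.b (26624 + r)) :=
  edges_tab (sm gb) Qf (tab Gen.b) 26624 [(26624, 25430), (26625, 27594), (26626, 27826), (26627, 25439), (26628, 25434), (26629, 25435), (26630, 27830), (26631, 27675), (26632, 25438), (26633, 27832), (26634, 27262), (26635, 27269), (26636, 25442), (26637, 25446), (26638, 27836), (26639, 25475), (26640, 25484), (26641, 25451), (26642, 25452), (26643, 27839), (26644, 25517), (26645, 25455), (26646, 25525), (26647, 25458), (26648, 25459), (26649, 27842), (26650, 25461), (26651, 25547), (26652, 27845), (26653, 25549), (26654, 27847), (26655, 25472), (26656, 25467), (26657, 27850), (26658, 26854), (26659,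 27852), (26660, 27479), (26661, 25471), (26662, 27855), (26663, 27835), (26664, 25474), (26665, 27857), (26666, 26934), (26667, 25477), (26668, 25478), (26669, 27861), (26670, 27828), (26671, 25481), (26672, 25482), (26673, 27486), (26674, 25485), (26675, 27866), (26676, 27418), (26677, 27868), (26678, 25496), (26679, 25488), (26680, 25489), (26681, 27872), (26682, 27865), (26683, 27128), (26684, 27876), (26685, 27369), (26686, 27879), (26687, 27333)]
    ⟨e3 q26624 (flp_b L783811) q25430, e3 q26625 (flp_b L794184) q27594, e3 q26626 L795916 q27826, e3 q26627 L783841 q25439, e3 q26628 (flp_b L783848) q25434, e3 q26629 (flp_b L783858) q25435, e3 q26630 (flp_b L795958) q27830, e3 q26631 (flp_b L794894) q27675, e3 q26632 (flp_b L783874) q25438, e3 q26633 (flp_b L795970) q27832, e3 q26634 (flp_b L790895) q27262, e3 q26635 (flp_b L790982) q27269, e3 q26636 L783898 q25442, e3 q26637 (flp_b L783900) q25446, e3 q26638 (flp_b L795989) q27836, e3 q26639 L783914 q25475, e3 q26640 L783922 q25484, e3 q26641 (flp_b L783924) q25451, e3 q26642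 (flp_b L783930) q25452, e3 q26643 (flp_b L796007) q27839, e3 q26644 L783944 q25517, e3 q26645 (flp_b L783946) q25455, e3 q26646 L783958 q25525, e3 q26647 (flp_b L783960) q25458, e3 q26648 (flp_b L783964) q25459, e3 q26649 (flp_b L796024) q27842, e3 q26650 (flp_b L783974) q25461, e3 q26651 L783982 q25547, e3 q26652 L796038 q27845, e3 q26653 L783994 q25549, e3 q26654 L796052 q27847, e3 q26655 L784006 q25472, e3 q26656 (flp_b L784012) q25467, e3 q26657 (flp_b L796070) q27850, e3 q26658 (flp_b L786067) q26854, e3 q26659 L796078 q27852, e3 q26660 (flp_b L793121) q27479, e3 q26661 (flp_b L784034) q25471, e3 q26662 (flp_b L796098) q27855, e3 q26663 (flp_b L795985) q27835, e3 q26664 L784052 q25474, e3 q26665 L796106 q27857, e3 q26666 (flp_b L787146) q26934, e3 q26667 (flp_b L784067) q25477, e3 q26668 (flp_b L784075) q25478, e3 q26669 (flp_b L796136) q27861, e3 q26670 (flp_b L795946) q27828, e3 q26671 (flp_b L784093) q25481, e3 q26672 (flp_b L784103) q25482, e3 q26673 (flp_b L793183) q27486, e3 q26674 (flp_b L784117) q25485, e3 q26675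 L796167 q27866, e3 q26676 (flp_b L792519) q27418, e3 q26677 L796175 q27868, e3 q26678 L784137 q25496, e3 q26679 (flp_b L784142) q25488, e3 q26680 (flp_b L784148) q25489, e3 q26681 (flp_b L796205) q27872, e3 q26682 (flp_b L796165) q27865, e3 q26683 (flp_b L789581) q27128, e3 q26684 L796236 q27876, e3 q26685 (flp_b L792063) q27369, e3 q26686 L796255 q27879, e3 q26687 (flp_b L791695) q27333, trivial⟩ (by decide +kernel)

theorem ce_b_417 : ∀ r, r < 64 → sm gb (Qf (26688 + r)) = Qf (tab Gen.b (26688 + r)) :=
  edges_tab (sm gb) Qf (tab Gen.b) 26688 [(26688, 25495), (26689, 27882), (26690, 25497), (26691, 27521), (26692, 27885), (26693, 27390), (26694, 25500), (26695, 27888), (26696, 26855), (26697, 27535), (26698, 25503), (26699, 25505), (26700, 26808), (26701, 25510), (26702, 27892), (26703, 27837), (26704, 25513), (26705, 27895), (26706, 27838), (26707, 25516), (26708, 27898), (26709, 25518), (26710, 27901), (26711, 27430), (26712, 27009), (26713, 27003), (26714, 25523), (26715, 27904), (26716, 25541), (26717, 27416), (26718,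 25527), (26719, 27907), (26720, 25529), (26721, 27580), (26722, 25532), (26723, 25538), (26724, 25534), (26725, 27911), (26726, 27909), (26727, 25537), (26728, 27913), (26729, 27915), (26730, 27336), (26731, 25540), (26732, 27919), (26733, 27561), (26734, 25542), (26735, 27921), (26736, 26978), (26737, 25545), (26738, 27923), (26739, 27844), (26740, 25548), (26741, 27554), (26742, 26842), (26743, 25551), (26744, 27593), (26745, 25555), (26746, 27432), (26747, 26825), (26748, 26923), (26749, 27927), (26750, 25853), (26751, 25568)]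
    ⟨e3 q26688 (flp_b L784204) q25495, e3 q26689 (flp_b L796279) q27882, e3 q26690 (flp_b L784216) q25497, e3 q26691 (flp_b L793455) q27521, e3 q26692 L796292 q27885, e3 q26693 (flp_b L792269) q27390, e3 q26694 (flp_b L784242) q25500, e3 q26695 (flp_b L796320) q27888, e3 q26696 (flp_b L786079) q26855, e3 q26697 (flp_b L793575) q27535, e3 q26698 L784274 q25503, e3 q26699 (flp_b L784278) q25505, e3 q26700 (flp_b L785471) q26808, e3 q26701 (flp_b L784290) q25510, e3 q26702 (flp_b L796346) q27892, e3 q26703 (flp_b L795997) q27837, e3 q26704 (flp_b L784306) q25513, e3 q26705 (flp_b L796361) q27895, e3 q26706 (flp_b L796003) q27838, e3 q26707 L784324 q25516, e3 q26708 (flp_b L796376) q27898, e3 q26709 (flp_b L784329) q25518, e3 q26710 (flp_b L796393) q27901, e3 q26711 (flp_b L792643) q27430, e3 q26712 (flp_b L788134) q27009, e3 q26713 (flp_b L788040) q27003, e3 q26714 L784379 q25523, e3 q26715 (flp_b L796419) q27904, e3 q26716 L784395 q25541, e3 q26717 (flp_b L792505) q27416, e3 q26718 L784415 q25527, e3 q26719 (flp_b L796449)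 q27907, e3 q26720 (flp_b L784429) q25529, e3 q26721 (flp_b L794026) q27580, e3 q26722 (flp_b L784439) q25532, e3 q26723 L784445 q25538, e3 q26724 (flp_b L784447) q25534, e3 q26725 (flp_b L796475) q27911, e3 q26726 (flp_b L796465) q27909, e3 q26727 L784467 q25537, e3 q26728 (flp_b L796489) q27913, e3 q26729 L796499 q27915, e3 q26730 (flp_b L791732) q27336, e3 q26731 (flp_b L784491) q25540, e3 q26732 (flp_b L796527) q27919, e3 q26733 (flp_b L793787) q27561, e3 q26734 (flp_b L784511) q25542, e3 q26735 (flp_b L796541) q27921, e3 q26736 (flp_b L787710) q26978, e3 q26737 L784531 q25545, e3 q26738 (flp_b L796553) q27923, e3 q26739 (flp_b L796036) q27844, e3 q26740 (flp_b L784547) q25548, e3 q26741 (flp_b L793724) q27554, e3 q26742 (flp_b L785922) q26842, e3 q26743 L784567 q25551, e3 q26744 (flp_b L794166) q27593, e3 q26745 L784577 q25555, e3 q26746 (flp_b L792665) q27432, e3 q26747 (flp_b L785699) q26825, e3 q26748 (flp_b L787009) q26923, e3 q26749 L796577 q27927, e3 q26750 L784615 q25853, e3 q26751 (flp_b L784629) q25568, trivial⟩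 (by decide +kernel)

theorem ce_b_418 : ∀ r, r < 64 → sm gb (Qf (26752 + r)) = Qf (tab Gen.b (26752 + r)) :=
  edges_tab (sm gb) Qf (tab Gen.b) 26752 [(26752, 27930), (26753, 25571), (26754, 27932), (26755, 25573), (26756, 25574), (26757, 27935), (26758, 26598), (26759, 26549), (26760, 26139), (26761, 25579), (26762, 25593), (26763, 25581), (26764, 25582), (26765, 27942), (26766, 26355), (26767, 26593), (26768, 26341), (26769, 27943), (26770, 25589), (26771, 27945), (26772, 26578), (26773, 25592), (26774, 27947), (26775, 25595), (26776, 26117), (26777, 26102), (26778, 26035), (26779, 27953), (26780, 25603), (26781, 25721), (26782, 25604), (26783, 25931), (26784, 25930), (26785, 27962), (26786, 27955), (26787, 27957), (26788, 27966), (26789, 26041), (26790, 25606), (26791, 27969), (26792, 26387), (26793, 27972), (26794, 26391), (26795, 26103), (26796, 25840), (26797, 27978), (26798, 26046), (26799, 25613), (26800, 25724), (26801, 27983), (26802, 26404), (26803, 25616), (26804, 27987), (26805, 26104), (26806, 25619), (26807,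 27990), (26808, 26700), (26809, 26101), (26810, 25927), (26811, 25841), (26812, 26313), (26813, 26287), (26814, 25627), (26815, 27997)]
    ⟨e3 q26752 L796629 q27930, e3 q26753 (flp_b L784663) q25571, e3 q26754 L796665 q27932, e3 q26755 (flp_b L784697) q25573, e3 q26756 (flp_b L784713) q25574, e3 q26757 (flp_b L796715) q27935, e3 q26758 L784747 q26598, e3 q26759 L784753 q26549, e3 q26760 L784769 q26139, e3 q26761 (flp_b L784780) q25579, e3 q26762 L784814 q25593, e3 q26763 (flp_b L784816) q25581, e3 q26764 (flp_b L784834) q25582, e3 q26765 (flp_b L796835) q27942, e3 q26766 L784878 q26355, e3 q26767 L784892 q26593, e3 q26768 L784912 q26341, e3 q26769 L796849 q27943, e3 q26770 (flp_b L784932) q25589, e3 q26771 (flp_b L796885) q27945, e3 q26772 L784976 q26578, e3 q26773 L784980 q25592, e3 q26774 (flp_b L796915) q27947, e3 q26775 L785006 q25595, e3 q26776 L785024 q26117, e3 q26777 L785038 q26102, e3 q26778 L785053 q26035, e3 q26779 L797006 q27953, e3 q26780 L785085 q25603, e3 q26781 L785109 q25721, e3 q26782 L785117 q25604, e3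 q26783 L785130 q25931, e3 q26784 L785146 q25930, e3 q26785 L797143 q27962, e3 q26786 (flp_b L797042) q27955, e3 q26787 (flp_b L797073) q27957, e3 q26788 L797189 q27966, e3 q26789 L785210 q26041, e3 q26790 (flp_b L785221) q25606, e3 q26791 L797229 q27969, e3 q26792 L785255 q26387, e3 q26793 L797278 q27972, e3 q26794 L785285 q26391, e3 q26795 L785299 q26103, e3 q26796 L785314 q25840, e3 q26797 L797369 q27978, e3 q26798 L785342 q26046, e3 q26799 (flp_b L785352) q25613, e3 q26800 L785366 q25724, e3 q26801 L797436 q27983, e3 q26802 L785392 q26404, e3 q26803 (flp_b L785399) q25616, e3 q26804 (flp_b L797485) q27987, e3 q26805 L785427 q26104, e3 q26806 (flp_b L785437) q25619, e3 q26807 (flp_b L797525) q27990, e3 q26808 L785471 q26700, e3 q26809 L785477 q26101, e3 q26810 L785501 q25927, e3 q26811 L785509 q25841, e3 q26812 L785522 q26313, e3 q26813 L785537 q26287, e3 q26814 (flp_b L785547) q25627, e3 q26815 L797627 q27997, trivial⟩ (by decide +kernel)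

theorem ce_b_419 : ∀ r, r < 64 → sm gb (Qf (26816 + r)) = Qf (tab Gen.b (26816 + r)) :=
  edges_tab (sm gb) Qf (tab Gen.b) 26816 [(26816, 26359), (26817, 25629), (26818, 28001), (26819, 26140), (26820, 26138), (26821, 28004), (26822, 26038), (26823, 25633), (26824, 28008), (26825, 26747), (26826, 25642), (26827, 28012), (26828, 25644), (26829, 25638), (26830, 28015), (26831, 25723), (26832, 28018), (26833, 26372), (26834, 28021), (26835, 28011), (26836, 25643), (26837, 28025), (26838, 26142), (26839, 25645), (26840, 28029), (26841, 26141), (26842, 26742), (26843, 25648), (26844, 28033), (26845, 25663), (26846, 26296), (26847, 25652), (26848, 28036), (26849, 26420), (26850, 26137), (26851, 26135), (26852, 26160), (26853, 26039), (26854, 26658), (26855, 26696), (26856, 28027), (26857, 25667), (26858, 28043), (26859, 25671), (26860, 26144), (26861, 28044), (26862, 25674), (26863, 26094), (26864, 25697), (26865, 28049), (26866, 28050), (26867, 26096), (26868, 25681), (26869, 28053), (26870, 26090), (26871, 25683), (26872, 28056),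 (26873, 25685), (26874, 28058), (26875, 26082), (26876, 28059), (26877, 26079), (26878, 25689), (26879, 25690)]
    ⟨e3 q26816 L785581 q26359, e3 q26817 (flp_b L785591) q25629, e3 q26818 (flp_b L797685) q28001, e3 q26819 L785621 q26140, e3 q26820 L785633 q26138, e3 q26821 L797723 q28004, e3 q26822 L785661 q26038, e3 q26823 (flp_b L785671) q25633, e3 q26824 (flp_b L797775) q28008, e3 q26825 L785699 q26747, e3 q26826 L785705 q25642, e3 q26827 L797831 q28012, e3 q26828 L785735 q25644, e3 q26829 (flp_b L785747) q25638, e3 q26830 (flp_b L797879) q28015, e3 q26831 L785781 q25723, e3 q26832 L797924 q28018, e3 q26833 L785811 q26372, e3 q26834 L797965 q28021, e3 q26835 (flp_b L797817) q28011, e3 q26836 (flp_b L785844) q25643, e3 q26837 (flp_b L798015) q28025, e3 q26838 L785872 q26142, e3 q26839 (flp_b L785880) q25645, e3 q26840 (flp_b L798069) q28029, e3 q26841 L785906 q26141, e3 q26842 L785922 q26742, e3 q26843 L785926 q25648, e3 q26844 (flp_b L798117) q28033, e3 q26845 L785944 q25663, e3 q26846 L785964 q26296, e3 q26847 L785968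 q25652, e3 q26848 (flp_b L798153) q28036, e3 q26849 L785990 q26420, e3 q26850 L786005 q26137, e3 q26851 L786020 q26135, e3 q26852 L786036 q26160, e3 q26853 L786052 q26039, e3 q26854 L786067 q26658, e3 q26855 L786079 q26696, e3 q26856 (flp_b L798041) q28027, e3 q26857 L786105 q25667, e3 q26858 (flp_b L798247) q28043, e3 q26859 L786132 q25671, e3 q26860 L786149 q26144, e3 q26861 L798259 q28044, e3 q26862 (flp_b L786177) q25674, e3 q26863 L786197 q26094, e3 q26864 L786213 q25697, e3 q26865 L798344 q28049, e3 q26866 L798358 q28050, e3 q26867 L786257 q26096, e3 q26868 (flp_b L786269) q25681, e3 q26869 L798402 q28053, e3 q26870 L786301 q26090, e3 q26871 (flp_b L786314) q25683, e3 q26872 (flp_b L798450) q28056, e3 q26873 (flp_b L786340) q25685, e3 q26874 (flp_b L798482) q28058, e3 q26875 L786382 q26082, e3 q26876 L798498 q28059, e3 q26877 L786404 q26079, e3 q26878 (flp_b L786417) q25689, e3 q26879 (flp_b L786431) q25690, trivial⟩ (by decide +kernel)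

theorem ce_b_420 : ∀ r, r < 64 → sm gb (Qf (26880 + r)) = Qf (tab Gen.b (26880 + r)) :=
  edges_tab (sm gb) Qf (tab Gen.b) 26880 [(26880, 28063), (26881, 26126), (26882, 25692), (26883, 28066), (26884, 25694), (26885, 28068), (26886, 25760), (26887, 28069), (26888, 28048), (26889, 25698), (26890, 25784), (26891, 25803), (26892, 25701), (26893, 28073), (26894, 25862), (26895, 25703), (26896, 28076), (26897, 25811), (26898, 25706), (26899, 25713), (26900, 25714), (26901, 26165), (26902, 26426), (26903, 28085), (26904, 28079), (26905, 28080), (26906, 26149), (26907, 28091), (26908, 26151), (26909, 25717), (26910, 25923), (26911, 25820), (26912, 28096), (26913, 25726), (26914, 27956), (26915, 25727), (26916, 28100), (26917, 28017), (26918, 28103), (26919, 27982), (26920, 25725), (26921, 28107), (26922, 28098), (26923, 26748), (26924, 25728), (26925, 28111), (26926, 28061), (26927, 26178), (26928, 28115), (26929, 26180), (26930, 25733), (26931, 28118), (26932, 25738), (26933, 28120), (26934, 26666), (26935, 25737), (26936, 28123),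 (26937, 26509), (26938, 28125), (26939, 26188), (26940, 25741), (26941, 28129), (26942, 28062), (26943, 28131)]
    ⟨e3 q26880 L798560 q28063, e3 q26881 L786463 q26126, e3 q26882 (flp_b L786476) q25692, e3 q26883 (flp_b L798610) q28066, e3 q26884 (flp_b L786506) q25694, e3 q26885 (flp_b L798642) q28068, e3 q26886 L786544 q25760, e3 q26887 L798656 q28069, e3 q26888 (flp_b L798331) q28048, e3 q26889 (flp_b L786573) q25698, e3 q26890 L786597 q25784, e3 q26891 L786613 q25803, e3 q26892 L786617 q25701, e3 q26893 L798714 q28073, e3 q26894 L786651 q25862, e3 q26895 (flp_b L786665) q25703, e3 q26896 (flp_b L798766) q28076, e3 q26897 L786705 q25811, e3 q26898 L786709 q25706, e3 q26899 L786723 q25713, e3 q26900 L786739 q25714, e3 q26901 L786752 q26165, e3 q26902 L786768 q26426, e3 q26903 L798900 q28085, e3 q26904 (flp_b L798814) q28079, e3 q26905 (flp_b L798830) q28080, e3 q26906 L786820 q26149, e3 q26907 L798977 q28091, e3 q26908 L786848 q26151, e3 q26909 (flp_b L786857) q25717, e3 q26910 L786873 q25923, e3 q26911 L786889 q25820,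 e3 q26912 L799045 q28096, e3 q26913 L786908 q25726, e3 q26914 (flp_b L797058) q27956, e3 q26915 L786927 q25727, e3 q26916 L799081 q28100, e3 q26917 (flp_b L797913) q28017, e3 q26918 L799114 q28103, e3 q26919 (flp_b L797425) q27982, e3 q26920 (flp_b L786979) q25725, e3 q26921 (flp_b L799157) q28107, e3 q26922 (flp_b L799065) q28098, e3 q26923 L787009 q26748, e3 q26924 (flp_b L787017) q25728, e3 q26925 (flp_b L799197) q28111, e3 q26926 (flp_b L798544) q28061, e3 q26927 L787053 q26178, e3 q26928 L799245 q28115, e3 q26929 L787077 q26180, e3 q26930 (flp_b L787088) q25733, e3 q26931 L799281 q28118, e3 q26932 L787118 q25738, e3 q26933 L799311 q28120, e3 q26934 L787146 q26666, e3 q26935 (flp_b L787157) q25737, e3 q26936 (flp_b L799351) q28123, e3 q26937 L787181 q26509, e3 q26938 L799371 q28125, e3 q26939 L787209 q26188, e3 q26940 (flp_b L787219) q25741, e3 q26941 (flp_b L799425) q28129, e3 q26942 (flp_b L798558) q28062, e3 q26943 L799447 q28131, trivial⟩ (by decide +kernel)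

theorem ce_b_421 : ∀ r, r < 64 → sm gb (Qf (26944 + r)) = Qf (tab Gen.b (26944 + r)) :=
  edges_tab (sm gb) Qf (tab Gen.b) 26944 [(26944, 25750), (26945, 25745), (26946, 28134), (26947, 28135), (26948, 28136), (26949, 26224), (26950, 25749), (26951, 28139), (26952, 26497), (26953, 25751), (26954, 28065), (26955, 25753), (26956, 28144), (26957, 28145), (26958, 26203), (26959, 25756), (26960, 28148), (26961, 28067), (26962, 25759), (26963, 28150), (26964, 26213), (26965, 26284), (26966, 26271), (26967, 25891), (26968, 28156), (26969, 26229), (26970, 25767), (26971, 28160), (26972, 28071), (26973, 28162), (26974, 25799), (26975, 25772), (26976, 28165), (26977, 25777), (26978, 26736), (26979, 25776), (26980, 28168), (26981, 25819), (26982, 28170), (26983, 26251), (26984, 25780), (26985, 28173), (26986, 26254), (26987, 26590), (26988, 25783), (26989, 28176), (26990, 28177), (26991, 25786), (26992, 28179), (26993, 28180), (26994, 25796), (26995, 25789), (26996, 28183), (26997, 25791), (26998, 28178), (26999, 25793), (27000, 28186),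 (27001, 25795), (27002, 28188), (27003, 26713), (27004, 25798), (27005, 28190), (27006, 26070), (27007, 28192)]
    ⟨e3 q26944 L787269 q25750, e3 q26945 (flp_b L787282) q25745, e3 q26946 (flp_b L799495) q28134, e3 q26947 L799507 q28135, e3 q26948 L799523 q28136, e3 q26949 L787344 q26224, e3 q26950 (flp_b L787357) q25749, e3 q26951 (flp_b L799563) q28139, e3 q26952 L787375 q26497, e3 q26953 (flp_b L787388) q25751, e3 q26954 (flp_b L798606) q28065, e3 q26955 L787414 q25753, e3 q26956 (flp_b L799618) q28144, e3 q26957 L799628 q28145, e3 q26958 L787452 q26203, e3 q26959 (flp_b L787466) q25756, e3 q26960 (flp_b L799680) q28148, e3 q26961 (flp_b L798638) q28067, e3 q26962 L787506 q25759, e3 q26963 (flp_b L799704) q28150, e3 q26964 L787528 q26213, e3 q26965 L787542 q26284, e3 q26966 L787556 q26271, e3 q26967 L787567 q25891, e3 q26968 L799787 q28156, e3 q26969 L787595 q26229, e3 q26970 (flp_b L787602) q25767, e3 q26971 (flp_b L799834) q28160, e3 q26972 (flp_b L798694) q28071, e3 q26973 L799851 q28162, e3 q26974 L787648 q25799, e3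 q26975 (flp_b L787662) q25772, e3 q26976 (flp_b L799899) q28165, e3 q26977 L787686 q25777, e3 q26978 L787710 q26736, e3 q26979 L787714 q25776, e3 q26980 (flp_b L799937) q28168, e3 q26981 L787736 q25819, e3 q26982 L799957 q28170, e3 q26983 L787764 q26251, e3 q26984 (flp_b L787778) q25780, e3 q26985 (flp_b L800003) q28173, e3 q26986 L787804 q26254, e3 q26987 L787824 q26590, e3 q26988 L787828 q25783, e3 q26989 (flp_b L800039) q28176, e3 q26990 L800049 q28177, e3 q26991 (flp_b L787866) q25786, e3 q26992 (flp_b L800081) q28179, e3 q26993 L800093 q28180, e3 q26994 L787912 q25796, e3 q26995 (flp_b L787926) q25789, e3 q26996 (flp_b L800143) q28183, e3 q26997 (flp_b L787952) q25791, e3 q26998 (flp_b L800077) q28178, e3 q26999 L787980 q25793, e3 q27000 (flp_b L800185) q28186, e3 q27001 (flp_b L788000) q25795, e3 q27002 (flp_b L800213) q28188, e3 q27003 L788040 q26713, e3 q27004 L788044 q25798, e3 q27005 (flp_b L800241) q28190, e3 q27006 L788074 q26070, e3 q27007 L800271 q28192, trivial⟩ (by decide +kernel)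

theorem ce_b_422 : ∀ r, r < 64 → sm gb (Qf (27008 + r)) = Qf (tab Gen.b (27008 + r)) :=
  edges_tab (sm gb) Qf (tab Gen.b) 27008 [(27008, 25801), (27009, 26712), (27010, 28072), (27011, 25805), (27012, 28195), (27013, 25807), (27014, 28197), (27015, 28075), (27016, 25810), (27017, 28077), (27018, 25813), (27019, 28201), (27020, 25817), (27021, 28200), (27022, 28095), (27023, 28204), (27024, 25824), (27025, 28206), (27026, 28207), (27027, 25999), (27028, 28209), (27029, 26352), (27030, 25829), (27031, 28212), (27032, 25832), (27033, 25833), (27034, 28215), (27035, 25835), (27036, 28217), (27037, 25870), (27038, 25990), (27039, 25950), (27040, 28222), (27041, 27977), (27042, 27993), (27043, 28225), (27044, 26382), (27045, 25843), (27046, 25844), (27047, 28229), (27048, 25849), (27049, 28231), (27050, 26108), (27051, 25848), (27052, 28235), (27053, 25878), (27054, 28237), (27055, 25897), (27056, 25852), (27057, 28240), (27058, 28211), (27059, 25910), (27060, 25857), (27061, 28213), (27062, 25859), (27063, 28244), (27064, 25861),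 (27065, 28246), (27066, 28214), (27067, 25864), (27068, 28248), (27069, 25866), (27070, 28250), (27071, 28216)]
    ⟨e3 q27008 (flp_b L788106) q25801, e3 q27009 L788134 q26712, e3 q27010 (flp_b L798700) q28072, e3 q27011 L788144 q25805, e3 q27012 (flp_b L800317) q28195, e3 q27013 (flp_b L788162) q25807, e3 q27014 (flp_b L800339) q28197, e3 q27015 (flp_b L798762) q28075, e3 q27016 L788190 q25810, e3 q27017 (flp_b L798784) q28077, e3 q27018 L788204 q25813, e3 q27019 (flp_b L800379) q28201, e3 q27020 L788222 q25817, e3 q27021 (flp_b L800373) q28200, e3 q27022 (flp_b L799033) q28095, e3 q27023 L800415 q28204, e3 q27024 (flp_b L788278) q25824, e3 q27025 L800451 q28206, e3 q27026 L800469 q28207, e3 q27027 L788330 q25999, e3 q27028 L800499 q28209, e3 q27029 L788362 q26352, e3 q27030 (flp_b L788376) q25829, e3 q27031 L800547 q28212, e3 q27032 (flp_b L788406) q25832, e3 q27033 (flp_b L788418) q25833, e3 q27034 (flp_b L800595) q28215, e3 q27035 (flp_b L788446) q25835, e3 q27036 (flp_b L800627) q28217, e3 q27037 L788484 q25870, e3 q27038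 L788490 q25990, e3 q27039 L788506 q25950, e3 q27040 L800703 q28222, e3 q27041 (flp_b L797357) q27977, e3 q27042 (flp_b L797570) q27993, e3 q27043 L800733 q28225, e3 q27044 L788566 q26382, e3 q27045 (flp_b L788577) q25843, e3 q27046 (flp_b L788589) q25844, e3 q27047 L800785 q28229, e3 q27048 L788621 q25849, e3 q27049 L800819 q28231, e3 q27050 L788649 q26108, e3 q27051 (flp_b L788660) q25848, e3 q27052 (flp_b L800872) q28235, e3 q27053 L788682 q25878, e3 q27054 L800896 q28237, e3 q27055 L788714 q25897, e3 q27056 (flp_b L788728) q25852, e3 q27057 (flp_b L800938) q28240, e3 q27058 (flp_b L800545) q28211, e3 q27059 L788754 q25910, e3 q27060 (flp_b L788768) q25857, e3 q27061 (flp_b L800577) q28213, e3 q27062 (flp_b L788794) q25859, e3 q27063 (flp_b L800992) q28244, e3 q27064 (flp_b L788818) q25861, e3 q27065 (flp_b L801022) q28246, e3 q27066 (flp_b L800591) q28214, e3 q27067 L788858 q25864, e3 q27068 (flp_b L801046) q28248, e3 q27069 (flp_b L788878) q25866, e3 q27070 (flp_b L801074) q28250, e3 q27071 (flp_b L800623) q28216, trivial⟩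 (by decide +kernel)

theorem ce_b_423 : ∀ r, r < 64 → sm gb (Qf (27072 + r)) = Qf (tab Gen.b (27072 + r)) :=
  edges_tab (sm gb) Qf (tab Gen.b) 27072 [(27072, 25869), (27073, 28252), (27074, 25872), (27075, 25873), (27076, 25876), (27077, 28256), (27078, 28257), (27079, 28233), (27080, 25877), (27081, 28260), (27082, 27939), (27083, 28261), (27084, 26434), (27085, 26467), (27086, 28266), (27087, 26471), (27088, 26519), (27089, 28270), (27090, 26600), (27091, 25886), (27092, 28273), (27093, 25888), (27094, 28275), (27095, 25894), (27096, 28277), (27097, 28155), (27098, 28280), (27099, 25893), (27100, 28282), (27101, 26014), (27102, 25896), (27103, 28285), (27104, 25962), (27105, 26532), (27106, 25900), (27107, 25901), (27108, 28290), (27109, 25903), (27110, 25978), (27111, 25905), (27112, 28293), (27113, 25913), (27114, 26525), (27115, 25909), (27116, 28297), (27117, 25963), (27118, 26003), (27119, 25912), (27120, 28301), (27121, 26010), (27122, 25915), (27123, 28303), (27124, 26545), (27125, 26542), (27126, 26551), (27127,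 26269), (27128, 26683), (27129, 28310), (27130, 28311), (27131, 26553), (27132, 25925), (27133, 28314), (27134, 25933), (27135, 27992)]
    ⟨e3 q27072 L788914 q25869, e3 q27073 (flp_b L801098) q28252, e3 q27074 (flp_b L788934) q25872, e3 q27075 (flp_b L788948) q25873, e3 q27076 L788962 q25876, e3 q27077 L801154 q28256, e3 q27078 L801168 q28257, e3 q27079 (flp_b L800849) q28233, e3 q27080 (flp_b L789019) q25877, e3 q27081 (flp_b L801212) q28260, e3 q27082 (flp_b L796793) q27939, e3 q27083 L801220 q28261, e3 q27084 L789067 q26434, e3 q27085 L789083 q26467, e3 q27086 L801298 q28266, e3 q27087 L789111 q26471, e3 q27088 L789125 q26519, e3 q27089 L801352 q28270, e3 q27090 L789151 q26600, e3 q27091 (flp_b L789162) q25886, e3 q27092 L801392 q28273, e3 q27093 (flp_b L789190) q25888, e3 q27094 L801416 q28275, e3 q27095 L789214 q25894, e3 q27096 L801446 q28277, e3 q27097 (flp_b L799774) q28155, e3 q27098 L801483 q28280, e3 q27099 (flp_b L789267) q25893, e3 q27100 (flp_b L801513) q28282, e3 q27101 L789289 q26014, e3 q27102 (flp_b L789301)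 q25896, e3 q27103 (flp_b L801545) q28285, e3 q27104 L789321 q25962, e3 q27105 L789327 q26532, e3 q27106 (flp_b L789339) q25900, e3 q27107 (flp_b L789347) q25901, e3 q27108 L801598 q28290, e3 q27109 (flp_b L789369) q25903, e3 q27110 L789385 q25978, e3 q27111 (flp_b L789387) q25905, e3 q27112 (flp_b L801636) q28293, e3 q27113 L789409 q25913, e3 q27114 L789427 q26525, e3 q27115 (flp_b L789439) q25909, e3 q27116 (flp_b L801690) q28297, e3 q27117 L789459 q25963, e3 q27118 L789477 q26003, e3 q27119 L789481 q25912, e3 q27120 (flp_b L801738) q28301, e3 q27121 L789501 q26010, e3 q27122 L789505 q25915, e3 q27123 (flp_b L801754) q28303, e3 q27124 L789523 q26545, e3 q27125 L789539 q26542, e3 q27126 L789551 q26551, e3 q27127 L789565 q26269, e3 q27128 L789581 q26683, e3 q27129 L801848 q28310, e3 q27130 L801858 q28311, e3 q27131 L789617 q26553, e3 q27132 (flp_b L789626) q25925, e3 q27133 L801892 q28314, e3 q27134 L789648 q25933, e3 q27135 (flp_b L797553) q27992, trivial⟩ (by decide +kernel)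

theorem ce_b_424 : ∀ r, r < 64 → sm gb (Qf (27136 + r)) = Qf (tab Gen.b (27136 + r)) :=
  edges_tab (sm gb) Qf (tab Gen.b) 27136 [(27136, 25934), (27137, 26268), (27138, 28321), (27139, 27961), (27140, 28324), (27141, 27959), (27142, 25932), (27143, 28328), (27144, 28316), (27145, 28319), (27146, 25935), (27147, 28333), (27148, 28272), (27149, 25938), (27150, 26527), (27151, 28338), (27152, 26529), (27153, 25941), (27154, 28341), (27155, 25943), (27156, 28343), (27157, 28274), (27158, 28344), (27159, 25952), (27160, 25947), (27161, 28348), (27162, 25957), (27163, 28350), (27164, 28221), (27165, 25951), (27166, 28354), (27167, 28346), (27168, 25953), (27169, 28358), (27170, 28281), (27171, 25956), (27172, 28360), (27173, 25958), (27174, 28362), (27175, 28284), (27176, 25961), (27177, 28364), (27178, 28158), (27179, 25964), (27180, 28368), (27181, 28288), (27182, 26535), (27183, 28371), (27184, 26537), (27185, 28373), (27186, 26539), (27187, 25970), (27188, 28376), (27189, 25972), (27190, 28378), (27191, 28289), (27192, 25975),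 (27193, 28291), (27194, 25977), (27195, 28381), (27196, 25980), (27197, 28383), (27198, 25992), (27199, 28386)]
    ⟨e3 q27136 L789667 q25934, e3 q27137 L789677 q26268, e3 q27138 L801970 q28321, e3 q27139 (flp_b L797132) q27961, e3 q27140 L801991 q28324, e3 q27141 (flp_b L797101) q27959, e3 q27142 (flp_b L789721) q25932, e3 q27143 (flp_b L802026) q28328, e3 q27144 (flp_b L801912) q28316, e3 q27145 (flp_b L801942) q28319, e3 q27146 (flp_b L789753) q25935, e3 q27147 (flp_b L802076) q28333, e3 q27148 (flp_b L801390) q28272, e3 q27149 (flp_b L789785) q25938, e3 q27150 L789803 q26527, e3 q27151 L802138 q28338, e3 q27152 L789831 q26529, e3 q27153 (flp_b L789840) q25941, e3 q27154 (flp_b L802174) q28341, e3 q27155 (flp_b L789858) q25943, e3 q27156 (flp_b L802194) q28343, e3 q27157 (flp_b L801414) q28274, e3 q27158 L802202 q28344, e3 q27159 L789900 q25952, e3 q27160 (flp_b L789909) q25947, e3 q27161 (flp_b L802261) q28348, e3 q27162 L789941 q25957, e3 q27163 L802289 q28350, e3 q27164 (flp_b L800692) q28221, e3 q27165 (flp_b L789970)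 q25951, e3 q27166 (flp_b L802322) q28354, e3 q27167 (flp_b L802232) q28346, e3 q27168 (flp_b L789989) q25953, e3 q27169 (flp_b L802351) q28358, e3 q27170 (flp_b L801509) q28281, e3 q27171 L790019 q25956, e3 q27172 (flp_b L802369) q28360, e3 q27173 (flp_b L790031) q25958, e3 q27174 (flp_b L802387) q28362, e3 q27175 (flp_b L801541) q28284, e3 q27176 L790065 q25961, e3 q27177 (flp_b L802409) q28364, e3 q27178 (flp_b L799813) q28158, e3 q27179 (flp_b L790082) q25964, e3 q27180 (flp_b L802440) q28368, e3 q27181 (flp_b L801588) q28288, e3 q27182 L790114 q26535, e3 q27183 L802483 q28371, e3 q27184 L790138 q26537, e3 q27185 L802503 q28373, e3 q27186 L790161 q26539, e3 q27187 (flp_b L790171) q25970, e3 q27188 (flp_b L802539) q28376, e3 q27189 (flp_b L790189) q25972, e3 q27190 (flp_b L802559) q28378, e3 q27191 (flp_b L801596) q28289, e3 q27192 L790215 q25975, e3 q27193 (flp_b L801624) q28291, e3 q27194 L790233 q25977, e3 q27195 L802583 q28381, e3 q27196 (flp_b L790255) q25980, e3 q27197 L802611 q28383, e3 q27198 L790283 q25992, e3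 q27199 L802648 q28386, trivial⟩ (by decide +kernel)

theorem ce_b_425 : ∀ r, r < 64 → sm gb (Qf (27200 + r)) = Qf (tab Gen.b (27200 + r)) :=
  edges_tab (sm gb) Qf (tab Gen.b) 27200 [(27200, 25994), (27201, 25983), (27202, 28390), (27203, 25997), (27204, 25985), (27205, 28393), (27206, 26002), (27207, 28382), (27208, 25988), (27209, 28396), (27210, 28397), (27211, 28219), (27212, 25991), (27213, 28401), (27214, 28385), (27215, 25993), (27216, 28405), (27217, 28388), (27218, 28172), (27219, 25996), (27220, 28410), (27221, 28411), (27222, 26015), (27223, 25998), (27224, 28415), (27225, 28296), (27226, 26001), (27227, 28417), (27228, 28418), (27229, 28300), (27230, 26005), (27231, 28421), (27232, 26007), (27233, 27934), (27234, 26009), (27235, 28302), (27236, 26012), (27237, 28425), (27238, 28279), (27239, 28408), (27240, 26023), (27241, 26331), (27242, 26019), (27243, 26428), (27244, 26429), (27245, 26459), (27246, 26026), (27247, 26027), (27248, 28433), (27249, 26517), (27250, 26030), (27251, 26058), (27252, 26067), (27253,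 26033), (27254, 28436), (27255, 27952), (27256, 26036), (27257, 26037), (27258, 28440), (27259, 28006), (27260, 26040), (27261, 28443), (27262, 26634), (27263, 28445)]
    ⟨e3 q27200 L790302 q25994, e3 q27201 (flp_b L790312) q25983, e3 q27202 (flp_b L802698) q28390, e3 q27203 L790338 q25997, e3 q27204 (flp_b L790348) q25985, e3 q27205 (flp_b L802738) q28393, e3 q27206 L790376 q26002, e3 q27207 (flp_b L802609) q28382, e3 q27208 L790400 q25988, e3 q27209 (flp_b L802778) q28396, e3 q27210 L802788 q28397, e3 q27211 (flp_b L800661) q28219, e3 q27212 (flp_b L790433) q25991, e3 q27213 (flp_b L802819) q28401, e3 q27214 (flp_b L802637) q28385, e3 q27215 (flp_b L790454) q25993, e3 q27216 (flp_b L802846) q28405, e3 q27217 (flp_b L802674) q28388, e3 q27218 (flp_b L799999) q28172, e3 q27219 L790486 q25996, e3 q27220 (flp_b L802892) q28410, e3 q27221 (flp_b L802904) q28411, e3 q27222 L790512 q26015, e3 q27223 (flp_b L790522) q25998, e3 q27224 (flp_b L802940) q28415, e3 q27225 (flp_b L801686) q28296, e3 q27226 L790550 q26001, e3 q27227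 (flp_b L802954) q28417, e3 q27228 (flp_b L802960) q28418, e3 q27229 (flp_b L801732) q28300, e3 q27230 L790572 q26005, e3 q27231 (flp_b L802976) q28421, e3 q27232 (flp_b L790580) q26007, e3 q27233 (flp_b L796711) q27934, e3 q27234 L790600 q26009, e3 q27235 (flp_b L801748) q28302, e3 q27236 L790618 q26012, e3 q27237 (flp_b L803010) q28425, e3 q27238 (flp_b L801472) q28279, e3 q27239 (flp_b L802872) q28408, e3 q27240 L790639 q26023, e3 q27241 L790655 q26331, e3 q27242 L790668 q26019, e3 q27243 L790682 q26428, e3 q27244 L790694 q26429, e3 q27245 L790708 q26459, e3 q27246 (flp_b L790716) q26026, e3 q27247 (flp_b L790726) q26027, e3 q27248 (flp_b L803100) q28433, e3 q27249 L790766 q26517, e3 q27250 (flp_b L790768) q26030, e3 q27251 L790790 q26058, e3 q27252 L790800 q26067, e3 q27253 L790804 q26033, e3 q27254 L803138 q28436, e3 q27255 (flp_b L796993) q27952, e3 q27256 (flp_b L790833) q26036, e3 q27257 (flp_b L790841) q26037, e3 q27258 (flp_b L803182) q28440, e3 q27259 (flp_b L797751) q28006, e3 q27260 (flp_b L790871) q26040, e3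 q27261 (flp_b L803212) q28443, e3 q27262 L790895 q26634, e3 q27263 L803227 q28445, trivial⟩ (by decide +kernel)

theorem ce_b_426 : ∀ r, r < 64 → sm gb (Qf (27264 + r)) = Qf (tab Gen.b (27264 + r)) :=
  edges_tab (sm gb) Qf (tab Gen.b) 27264 [(27264, 26565), (27265, 26044), (27266, 26045), (27267, 28449), (27268, 26623), (27269, 26635), (27270, 26049), (27271, 26051), (27272, 26052), (27273, 28453), (27274, 28434), (27275, 26605), (27276, 28245), (27277, 26057), (27278, 26454), (27279, 26603), (27280, 26606), (27281, 26063), (27282, 28457), (27283, 28057), (27284, 26066), (27285, 28435), (27286, 26069), (27287, 28460), (27288, 26245), (27289, 26072), (27290, 28045), (27291, 26074), (27292, 26075), (27293, 28465), (27294, 28052), (27295, 26078), (27296, 28467), (27297, 28055), (27298, 26081), (27299, 28470), (27300, 26608), (27301, 26084), (27302, 28473), (27303, 26469), (27304, 26086), (27305, 28477), (27306, 26474), (27307, 26520), (27308, 26089), (27309, 28481), (27310, 26176), (27311, 28483), (27312, 26619), (27313, 26093),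 (27314, 28486), (27315, 27950), (27316, 26095), (27317, 28490), (27318, 26191), (27319, 26206), (27320, 26099), (27321, 28493), (27322, 27975), (27323, 27938), (27324, 27974), (27325, 27985), (27326, 28497), (27327, 26273)]
    ⟨e3 q27264 L790915 q26565, e3 q27265 (flp_b L790926) q26044, e3 q27266 (flp_b L790938) q26045, e3 q27267 (flp_b L803283) q28449, e3 q27268 L790972 q26623, e3 q27269 L790982 q26635, e3 q27270 L790986 q26049, e3 q27271 (flp_b L790994) q26051, e3 q27272 (flp_b L791010) q26052, e3 q27273 (flp_b L803335) q28453, e3 q27274 (flp_b L803126) q28434, e3 q27275 L791054 q26605, e3 q27276 (flp_b L801018) q28245, e3 q27277 L791066 q26057, e3 q27278 L791090 q26454, e3 q27279 L791108 q26603, e3 q27280 L791126 q26606, e3 q27281 (flp_b L791128) q26063, e3 q27282 (flp_b L803380) q28457, e3 q27283 (flp_b L798478) q28057, e3 q27284 L791158 q26066, e3 q27285 (flp_b L803132) q28435, e3 q27286 L791172 q26069, e3 q27287 (flp_b L803410) q28460, e3 q27288 L791194 q26245, e3 q27289 (flp_b L791208) q26072, e3 q27290 (flp_b L798293)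 q28045, e3 q27291 (flp_b L791234) q26074, e3 q27292 (flp_b L791244) q26075, e3 q27293 (flp_b L803472) q28465, e3 q27294 (flp_b L798400) q28052, e3 q27295 (flp_b L791268) q26078, e3 q27296 (flp_b L803492) q28467, e3 q27297 (flp_b L798446) q28055, e3 q27298 L791298 q26081, e3 q27299 L803521 q28470, e3 q27300 L791318 q26608, e3 q27301 (flp_b L791327) q26084, e3 q27302 L803561 q28473, e3 q27303 L791357 q26469, e3 q27304 (flp_b L791364) q26086, e3 q27305 (flp_b L803612) q28477, e3 q27306 L791394 q26474, e3 q27307 L791406 q26520, e3 q27308 (flp_b L791417) q26089, e3 q27309 (flp_b L803660) q28481, e3 q27310 L791441 q26176, e3 q27311 L803673 q28483, e3 q27312 L791461 q26619, e3 q27313 (flp_b L791472) q26093, e3 q27314 L803719 q28486, e3 q27315 (flp_b L796961) q27950, e3 q27316 (flp_b L791508) q26095, e3 q27317 (flp_b L803761) q28490, e3 q27318 L791540 q26191, e3 q27319 L791550 q26206, e3 q27320 L791554 q26099, e3 q27321 (flp_b L803795) q28493, e3 q27322 (flp_b L797324) q27975, e3 q27323 (flp_b L796763) q27938, e3 q27324 (flp_b L797310)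 q27974, e3 q27325 (flp_b L797460) q27985, e3 q27326 L803834 q28497, e3 q27327 L791632 q26273, trivial⟩ (by decide +kernel)

theorem ce_b_427 : ∀ r, r < 64 → sm gb (Qf (27328 + r)) = Qf (tab Gen.b (27328 + r)) :=
  edges_tab (sm gb) Qf (tab Gen.b) 27328 [(27328, 26106), (27329, 26107), (27330, 28501), (27331, 26232), (27332, 28503), (27333, 26687), (27334, 26111), (27335, 28506), (27336, 26730), (27337, 26113), (27338, 28509), (27339, 26248), (27340, 26116), (27341, 28512), (27342, 27937), (27343, 26255), (27344, 26119), (27345, 28516), (27346, 28517), (27347, 26122), (27348, 28142), (27349, 28519), (27350, 26422), (27351, 26125), (27352, 28522), (27353, 26127), (27354, 26279), (27355, 26288), (27356, 26130), (27357, 28526), (27358, 26299), (27359, 26134), (27360, 28529), (27361, 28039), (27362, 27999), (27363, 28003), (27364, 28020), (27365, 28023), (27366, 26145), (27367, 28533), (27368, 28534), (27369, 26685), (27370, 26148), (27371, 28537), (27372, 28090), (27373, 26150), (27374, 28540), (27375, 28472), (27376, 28542),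 (27377, 26389), (27378, 26395), (27379, 26414), (27380, 28548), (27381, 28549), (27382, 26167), (27383, 26158), (27384, 28553), (27385, 26170), (27386, 28040), (27387, 26324), (27388, 26171), (27389, 28558), (27390, 26693), (27391, 28560)]
    ⟨e3 q27328 (flp_b L791643) q26106, e3 q27329 (flp_b L791657) q26107, e3 q27330 (flp_b L803888) q28501, e3 q27331 L791677 q26232, e3 q27332 L803903 q28503, e3 q27333 L791695 q26687, e3 q27334 (flp_b L791706) q26111, e3 q27335 L803943 q28506, e3 q27336 L791732 q26730, e3 q27337 (flp_b L791740) q26113, e3 q27338 (flp_b L803979) q28509, e3 q27339 L791776 q26248, e3 q27340 (flp_b L791778) q26116, e3 q27341 (flp_b L804011) q28512, e3 q27342 (flp_b L796747) q27937, e3 q27343 L791806 q26255, e3 q27344 L791810 q26119, e3 q27345 (flp_b L804043) q28516, e3 q27346 L804049 q28517, e3 q27347 (flp_b L791838) q26122, e3 q27348 (flp_b L799606) q28142, e3 q27349 L804079 q28519, e3 q27350 L791880 q26422, e3 q27351 (flp_b L791891) q26125, e3 q27352 (flp_b L804115) q28522, e3 q27353 (flp_b L791907) q26127,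 e3 q27354 L791929 q26279, e3 q27355 L791939 q26288, e3 q27356 L791943 q26130, e3 q27357 (flp_b L804156) q28526, e3 q27358 L791965 q26299, e3 q27359 L791969 q26134, e3 q27360 (flp_b L804182) q28529, e3 q27361 (flp_b L798191) q28039, e3 q27362 (flp_b L797657) q27999, e3 q27363 (flp_b L797713) q28003, e3 q27364 (flp_b L797954) q28020, e3 q27365 (flp_b L797993) q28023, e3 q27366 (flp_b L792021) q26145, e3 q27367 L804214 q28533, e3 q27368 L804226 q28534, e3 q27369 L792063 q26685, e3 q27370 (flp_b L792072) q26148, e3 q27371 L804262 q28537, e3 q27372 (flp_b L798966) q28090, e3 q27373 (flp_b L792097) q26150, e3 q27374 (flp_b L804290) q28540, e3 q27375 (flp_b L803559) q28472, e3 q27376 L804301 q28542, e3 q27377 L792133 q26389, e3 q27378 L792147 q26395, e3 q27379 L792161 q26414, e3 q27380 L804375 q28548, e3 q27381 L804391 q28549, e3 q27382 L792194 q26167, e3 q27383 (flp_b L792201) q26158, e3 q27384 (flp_b L804428) q28553, e3 q27385 L792215 q26170, e3 q27386 (flp_b L798206) q28040, e3 q27387 L792227 q26324, e3 q27388 L792240 q26171,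 e3 q27389 L804470 q28558, e3 q27390 L792269 q26693, e3 q27391 L804496 q28560, trivial⟩ (by decide +kernel)

theorem ce_b_428 : ∀ r, r < 64 → sm gb (Qf (27392 + r)) = Qf (tab Gen.b (27392 + r)) :=
  edges_tab (sm gb) Qf (tab Gen.b) 27392 [(27392, 26164), (27393, 28562), (27394, 28082), (27395, 26166), (27396, 28566), (27397, 28551), (27398, 28476), (27399, 26169), (27400, 28571), (27401, 28556), (27402, 26172), (27403, 28574), (27404, 28480), (27405, 26175), (27406, 28577), (27407, 26177), (27408, 28580), (27409, 28114), (27410, 26179), (27411, 28583), (27412, 28485), (27413, 26182), (27414, 28586), (27415, 26184), (27416, 26717), (27417, 28588), (27418, 26676), (27419, 26187), (27420, 28591), (27421, 28127), (27422, 28489), (27423, 26190), (27424, 28595), (27425, 26192), (27426, 28184), (27427, 28598), (27428, 26195), (27429, 26196), (27430, 26711), (27431, 26198), (27432, 26746), (27433, 26200), (27434, 26202), (27435, 28604), (27436, 27989), (27437, 26205), (27438, 28607), (27439, 28492), (27440, 26208), (27441, 28611),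 (27442, 26303), (27443, 26212), (27444, 28614), (27445, 26215), (27446, 28475), (27447, 26305), (27448, 26314), (27449, 28610), (27450, 26219), (27451, 28621), (27452, 26220), (27453, 26221), (27454, 28624), (27455, 26447)]
    ⟨e3 q27392 (flp_b L792293) q26164, e3 q27393 L804522 q28562, e3 q27394 (flp_b L798858) q28082, e3 q27395 (flp_b L792320) q26166, e3 q27396 (flp_b L804555) q28566, e3 q27397 (flp_b L804411) q28551, e3 q27398 (flp_b L803608) q28476, e3 q27399 L792343 q26169, e3 q27400 (flp_b L804581) q28571, e3 q27401 (flp_b L804448) q28556, e3 q27402 (flp_b L792357) q26172, e3 q27403 (flp_b L804605) q28574, e3 q27404 (flp_b L803656) q28480, e3 q27405 L792387 q26175, e3 q27406 (flp_b L804630) q28577, e3 q27407 (flp_b L792394) q26177, e3 q27408 L804655 q28580, e3 q27409 (flp_b L799234) q28114, e3 q27410 (flp_b L792429) q26179, e3 q27411 (flp_b L804687) q28583, e3 q27412 (flp_b L803717) q28485, e3 q27413 (flp_b L792453) q26182, e3 q27414 L804714 q28586, e3 q27415 (flp_b L792481) q26184, e3 q27416 L792505 q26717, e3 q27417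 L804744 q28588, e3 q27418 L792519 q26676, e3 q27419 (flp_b L792529) q26187, e3 q27420 (flp_b L804774) q28591, e3 q27421 (flp_b L799401) q28127, e3 q27422 (flp_b L803757) q28489, e3 q27423 L792559 q26190, e3 q27424 (flp_b L804806) q28595, e3 q27425 (flp_b L792577) q26192, e3 q27426 (flp_b L800173) q28184, e3 q27427 L804840 q28598, e3 q27428 (flp_b L792613) q26195, e3 q27429 (flp_b L792621) q26196, e3 q27430 L792643 q26711, e3 q27431 (flp_b L792645) q26198, e3 q27432 L792665 q26746, e3 q27433 L792669 q26200, e3 q27434 (flp_b L792677) q26202, e3 q27435 (flp_b L804914) q28604, e3 q27436 (flp_b L797521) q27989, e3 q27437 L792705 q26205, e3 q27438 (flp_b L804944) q28607, e3 q27439 (flp_b L803787) q28492, e3 q27440 L792731 q26208, e3 q27441 (flp_b L804992) q28611, e3 q27442 L792749 q26303, e3 q27443 L792762 q26212, e3 q27444 (flp_b L805022) q28614, e3 q27445 L792783 q26215, e3 q27446 (flp_b L803587) q28475, e3 q27447 L792804 q26305, e3 q27448 L792816 q26314, e3 q27449 (flp_b L804986) q28610, e3 q27450 L792839 q26219, e3 q27451 (flp_b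 L805098) q28621, e3 q27452 (flp_b L792857) q26220, e3 q27453 (flp_b L792869) q26221, e3 q27454 L805137 q28624, e3 q27455 L792897 q26447, trivial⟩ (by decide +kernel)

theorem ce_b_429 : ∀ r, r < 64 → sm gb (Qf (27456 + r)) = Qf (tab Gen.b (27456 + r)) :=
  edges_tab (sm gb) Qf (tab Gen.b) 27456 [(27456, 26223), (27457, 28627), (27458, 26240), (27459, 28499), (27460, 26226), (27461, 28631), (27462, 26228), (27463, 28633), (27464, 28500), (27465, 26231), (27466, 28636), (27467, 26233), (27468, 26234), (27469, 28640), (27470, 28638), (27471, 28641), (27472, 26499), (27473, 28643), (27474, 26239), (27475, 28645), (27476, 26241), (27477, 28505), (27478, 28648), (27479, 26660), (27480, 26244), (27481, 28652), (27482, 26320), (27483, 28508), (27484, 26247), (27485, 28656), (27486, 26673), (27487, 26250), (27488, 28659), (27489, 28511), (27490, 26253), (27491, 28662), (27492, 28663), (27493, 28515), (27494, 26257), (27495, 28667), (27496, 26266), (27497, 28669), (27498, 26260), (27499, 28671), (27500, 28579), (27501, 26263), (27502,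 28133), (27503, 26265), (27504, 28193), (27505, 28675), (27506, 28152), (27507, 28678), (27508, 28153), (27509, 26270), (27510, 28682), (27511, 27995), (27512, 26272), (27513, 28686), (27514, 28521), (27515, 26275), (27516, 28689), (27517, 28690), (27518, 28524), (27519, 26278)]
    ⟨e3 q27456 (flp_b L792906) q26223, e3 q27457 (flp_b L805171) q28627, e3 q27458 L792924 q26240, e3 q27459 (flp_b L803876) q28499, e3 q27460 L792947 q26226, e3 q27461 (flp_b L805218) q28631, e3 q27462 (flp_b L792977) q26228, e3 q27463 (flp_b L805240) q28633, e3 q27464 (flp_b L803884) q28500, e3 q27465 L792997 q26231, e3 q27466 (flp_b L805257) q28636, e3 q27467 (flp_b L793006) q26233, e3 q27468 (flp_b L793018) q26234, e3 q27469 (flp_b L805298) q28640, e3 q27470 (flp_b L805284) q28638, e3 q27471 L805304 q28641, e3 q27472 L793052 q26499, e3 q27473 L805326 q28643, e3 q27474 (flp_b L793075) q26239, e3 q27475 (flp_b L805350) q28645, e3 q27476 (flp_b L793091) q26241, e3 q27477 (flp_b L803941) q28505, e3 q27478 L805375 q28648, e3 q27479 L793121 q26660,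 e3 q27480 (flp_b L793131) q26244, e3 q27481 (flp_b L805415) q28652, e3 q27482 L793145 q26320, e3 q27483 (flp_b L803975) q28508, e3 q27484 L793163 q26247, e3 q27485 (flp_b L805445) q28656, e3 q27486 L793183 q26673, e3 q27487 (flp_b L793191) q26250, e3 q27488 (flp_b L805473) q28659, e3 q27489 (flp_b L804007) q28511, e3 q27490 L793213 q26253, e3 q27491 (flp_b L805497) q28662, e3 q27492 (flp_b L805503) q28663, e3 q27493 (flp_b L804037) q28515, e3 q27494 L793235 q26257, e3 q27495 (flp_b L805529) q28667, e3 q27496 L793253 q26266, e3 q27497 L805543 q28669, e3 q27498 (flp_b L793265) q26260, e3 q27499 (flp_b L805563) q28671, e3 q27500 (flp_b L804653) q28579, e3 q27501 (flp_b L793291) q26263, e3 q27502 (flp_b L799491) q28133, e3 q27503 L793311 q26265, e3 q27504 (flp_b L800305) q28193, e3 q27505 L805598 q28675, e3 q27506 (flp_b L799728) q28152, e3 q27507 L805629 q28678, e3 q27508 (flp_b L799743) q28153, e3 q27509 (flp_b L793363) q26270, e3 q27510 (flp_b L805662) q28682, e3 q27511 (flp_b L797600) q27995, e3 q27512 (flp_b L793386) q26272,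 e3 q27513 (flp_b L805689) q28686, e3 q27514 (flp_b L804111) q28521, e3 q27515 L793406 q26275, e3 q27516 (flp_b L805706) q28689, e3 q27517 (flp_b L805710) q28690, e3 q27518 (flp_b L804142) q28524, e3 q27519 L793431 q26278, trivial⟩ (by decide +kernel)

theorem ce_b_430 : ∀ r, r < 64 → sm gb (Qf (27520 + r)) = Qf (tab Gen.b (27520 + r)) :=
  edges_tab (sm gb) Qf (tab Gen.b) 27520 [(27520, 28694), (27521, 26691), (27522, 26281), (27523, 26282), (27524, 28697), (27525, 26283), (27526, 28700), (27527, 27994), (27528, 28028), (27529, 26286), (27530, 28703), (27531, 28525), (27532, 26290), (27533, 26291), (27534, 28706), (27535, 26697), (27536, 28007), (27537, 26295), (27538, 28709), (27539, 28035), (27540, 26298), (27541, 28711), (27542, 28528), (27543, 26318), (27544, 26301), (27545, 28716), (27546, 26327), (27547, 28613), (27548, 28331), (27549, 28618), (27550, 26480), (27551, 26416), (27552, 26309), (27553, 28557), (27554, 26741), (27555, 28666), (27556, 26312), (27557, 28650), (27558, 28619), (27559, 26504), (27560, 28726),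 (27561, 26733), (27562, 28715), (27563, 26329), (27564, 26415), (27565, 28318), (27566, 26380), (27567, 28546), (27568, 28428), (27569, 26456), (27570, 26344), (27571, 26550), (27572, 26357), (27573, 27929), (27574, 27940), (27575, 26345), (27576, 28732), (27577, 28253), (27578, 26348), (27579, 28734), (27580, 26721), (27581, 26351), (27582, 28737), (27583, 27941)]
    ⟨e3 q27520 (flp_b L805750) q28694, e3 q27521 L793455 q26691, e3 q27522 L793465 q26281, e3 q27523 L793475 q26282, e3 q27524 (flp_b L805782) q28697, e3 q27525 (flp_b L793493) q26283, e3 q27526 (flp_b L805812) q28700, e3 q27527 (flp_b L797586) q27994, e3 q27528 (flp_b L798065) q28028, e3 q27529 L793527 q26286, e3 q27530 (flp_b L805836) q28703, e3 q27531 (flp_b L804148) q28525, e3 q27532 L793545 q26290, e3 q27533 L793555 q26291, e3 q27534 (flp_b L805866) q28706, e3 q27535 L793575 q26697, e3 q27536 (flp_b L797771) q28007, e3 q27537 L793589 q26295, e3 q27538 (flp_b L805894) q28709, e3 q27539 (flp_b L798143) q28035, e3 q27540 L793613 q26298, e3 q27541 (flp_b L805914)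 q28711, e3 q27542 (flp_b L804178) q28528, e3 q27543 L793637 q26318, e3 q27544 L793641 q26301, e3 q27545 (flp_b L805950) q28716, e3 q27546 L793649 q26327, e3 q27547 (flp_b L805010) q28613, e3 q27548 (flp_b L802050) q28331, e3 q27549 (flp_b L805064) q28618, e3 q27550 L793686 q26480, e3 q27551 L793696 q26416, e3 q27552 L793708 q26309, e3 q27553 (flp_b L804460) q28557, e3 q27554 L793724 q26741, e3 q27555 (flp_b L805525) q28666, e3 q27556 L793738 q26312, e3 q27557 (flp_b L805399) q28650, e3 q27558 (flp_b L805075) q28619, e3 q27559 L793765 q26504, e3 q27560 L806032 q28726, e3 q27561 L793787 q26733, e3 q27562 (flp_b L805942) q28715, e3 q27563 L793805 q26329, e3 q27564 L793821 q26415, e3 q27565 (flp_b L801928) q28318, e3 q27566 L793843 q26380, e3 q27567 (flp_b L804349) q28546, e3 q27568 (flp_b L803035) q28428, e3 q27569 L793871 q26456, e3 q27570 L793892 q26344, e3 q27571 L793908 q26550, e3 q27572 L793924 q26357, e3 q27573 (flp_b L796627) q27929, e3 q27574 (flp_b L796813) q27940, e3 q27575 (flp_b L793948) q26345, e3 q27576 (flp_b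 L806091) q28732, e3 q27577 (flp_b L801124) q28253, e3 q27578 (flp_b L793986) q26348, e3 q27579 (flp_b L806121) q28734, e3 q27580 L794026 q26721, e3 q27581 (flp_b L794028) q26351, e3 q27582 (flp_b L806162) q28737, e3 q27583 (flp_b L796831) q27941, trivial⟩ (by decide +kernel)

theorem ce_b_431 : ∀ r, r < 64 → sm gb (Qf (27584 + r)) = Qf (tab Gen.b (27584 + r)) :=
  edges_tab (sm gb) Qf (tab Gen.b) 27584 [(27584, 26354), (27585, 28205), (27586, 26358), (27587, 28740), (27588, 26439), (27589, 26425), (27590, 26364), (27591, 28741), (27592, 26366), (27593, 26744), (27594, 26625), (27595, 26371), (27596, 28744), (27597, 26451), (27598, 26374), (27599, 28747), (27600, 26379), (27601, 26378), (27602, 28750), (27603, 28724), (27604, 26381), (27605, 28753), (27606, 26462), (27607, 26384), (27608, 28756), (27609, 26394), (27610, 28758), (27611, 27971), (27612, 26388), (27613, 28761), (27614, 28544), (27615, 26390), (27616, 28765), (27617, 26477), (27618, 26393), (27619, 28767), (27620, 28545), (27621, 26481), (27622, 26398), (27623,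 28770), (27624, 26407), (27625, 28601), (27626, 26401), (27627, 28774), (27628, 26403), (27629, 28776), (27630, 26505), (27631, 26406), (27632, 28779), (27633, 26512), (27634, 26409), (27635, 26514), (27636, 26412), (27637, 28547), (27638, 28720), (27639, 26418), (27640, 28783), (27641, 28038), (27642, 26421), (27643, 28786), (27644, 28187), (27645, 26424), (27646, 28789), (27647, 28084)]
    ⟨e3 q27584 L794066 q26354, e3 q27585 (flp_b L800449) q28205, e3 q27586 (flp_b L794082) q26358, e3 q27587 (flp_b L806194) q28740, e3 q27588 L794118 q26439, e3 q27589 L794134 q26425, e3 q27590 (flp_b L794136) q26364, e3 q27591 (flp_b L806214) q28741, e3 q27592 L794158 q26366, e3 q27593 L794166 q26744, e3 q27594 L794184 q26625, e3 q27595 (flp_b L794186) q26371, e3 q27596 (flp_b L806230) q28744, e3 q27597 L794204 q26451, e3 q27598 L794208 q26374, e3 q27599 L806251 q28747, e3 q27600 L794228 q26379, e3 q27601 (flp_b L794238) q26378, e3 q27602 (flp_b L806287) q28750, e3 q27603 (flp_b L806016) q28724, e3 q27604 (flp_b L794272) q26381, e3 q27605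 (flp_b L806317) q28753, e3 q27606 L794290 q26462, e3 q27607 (flp_b L794292) q26384, e3 q27608 (flp_b L806336) q28756, e3 q27609 L794308 q26394, e3 q27610 L806352 q28758, e3 q27611 (flp_b L797267) q27971, e3 q27612 (flp_b L794335) q26388, e3 q27613 (flp_b L806386) q28761, e3 q27614 (flp_b L804327) q28544, e3 q27615 (flp_b L794369) q26390, e3 q27616 (flp_b L806432) q28765, e3 q27617 L794397 q26477, e3 q27618 L794401 q26393, e3 q27619 (flp_b L806452) q28767, e3 q27620 (flp_b L804339) q28545, e3 q27621 L794437 q26481, e3 q27622 (flp_b L794439) q26398, e3 q27623 (flp_b L806476) q28770, e3 q27624 L794457 q26407, e3 q27625 (flp_b L804890) q28601, e3 q27626 L794473 q26401, e3 q27627 (flp_b L806508) q28774, e3 q27628 (flp_b L794487) q26403, e3 q27629 (flp_b L806530) q28776, e3 q27630 L794515 q26505, e3 q27631 L794519 q26406, e3 q27632 (flp_b L806559) q28779, e3 q27633 L794539 q26512, e3 q27634 L794543 q26409, e3 q27635 L794551 q26514, e3 q27636 L794557 q26412, e3 q27637 (flp_b L804364) q28547, e3 q27638 (flp_b L805982) q28720, e3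 q27639 (flp_b L794576) q26418, e3 q27640 (flp_b L806593) q28783, e3 q27641 (flp_b L798175) q28038, e3 q27642 (flp_b L794608) q26421, e3 q27643 (flp_b L806627) q28786, e3 q27644 (flp_b L800209) q28187, e3 q27645 L794638 q26424, e3 q27646 L806648 q28789, e3 q27647 (flp_b L798889) q28084, trivial⟩ (by decide +kernel)

theorem ce_b_432 : ∀ r, r < 64 → sm gb (Qf (27648 + r)) = Qf (tab Gen.b (27648 + r)) :=
  edges_tab (sm gb) Qf (tab Gen.b) 27648 [(27648, 26427), (27649, 28793), (27650, 28429), (27651, 27968), (27652, 28795), (27653, 26436), (27654, 26432), (27655, 28798), (27656, 28799), (27657, 28263), (27658, 26435), (27659, 28802), (27660, 28739), (27661, 26438), (27662, 26440), (27663, 28806), (27664, 26442), (27665, 28673), (27666, 26444), (27667, 26445), (27668, 26446), (27669, 28812), (27670, 28743), (27671, 26449), (27672, 28815), (27673, 28014), (27674, 28746), (27675, 26631), (27676, 26455), (27677, 28817), (27678, 28430), (27679, 28749), (27680, 26458), (27681, 28821), (27682, 28752), (27683, 26461), (27684, 28823),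 (27685, 26463), (27686, 28826), (27687, 28561), (27688, 26466), (27689, 28828), (27690, 28265), (27691, 26468), (27692, 28831), (27693, 26470), (27694, 28834), (27695, 28268), (27696, 28760), (27697, 26473), (27698, 28838), (27699, 28479), (27700, 28764), (27701, 26476), (27702, 28766), (27703, 26479), (27704, 28842), (27705, 26482), (27706, 28844), (27707, 26494), (27708, 26485), (27709, 28846), (27710, 26487), (27711, 28849)]
    ⟨e3 q27648 (flp_b L794659) q26427, e3 q27649 (flp_b L806679) q28793, e3 q27650 (flp_b L803049) q28429, e3 q27651 (flp_b L797227) q27968, e3 q27652 L806695 q28795, e3 q27653 L794703 q26436, e3 q27654 (flp_b L794710) q26432, e3 q27655 (flp_b L806727) q28798, e3 q27656 L806737 q28799, e3 q27657 (flp_b L801256) q28263, e3 q27658 (flp_b L794753) q26435, e3 q27659 (flp_b L806771) q28802, e3 q27660 (flp_b L806190) q28739, e3 q27661 L794783 q26438, e3 q27662 (flp_b L794789) q26440, e3 q27663 (flp_b L806800) q28806, e3 q27664 (flp_b L794801) q26442, e3 q27665 (flp_b L805590) q28673, e3 q27666 L794825 q26444,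 e3 q27667 (flp_b L794831) q26445, e3 q27668 (flp_b L794841) q26446, e3 q27669 (flp_b L806851) q28812, e3 q27670 (flp_b L806226) q28743, e3 q27671 L794861 q26449, e3 q27672 (flp_b L806870) q28815, e3 q27673 (flp_b L797875) q28014, e3 q27674 (flp_b L806245) q28746, e3 q27675 L794894 q26631, e3 q27676 (flp_b L794896) q26455, e3 q27677 (flp_b L806880) q28817, e3 q27678 (flp_b L803061) q28430, e3 q27679 (flp_b L806283) q28749, e3 q27680 L794919 q26458, e3 q27681 (flp_b L806903) q28821, e3 q27682 (flp_b L806313) q28752, e3 q27683 L794939 q26461, e3 q27684 (flp_b L806915) q28823, e3 q27685 (flp_b L794946) q26463, e3 q27686 (flp_b L806934) q28826, e3 q27687 (flp_b L804520) q28561, e3 q27688 L794976 q26466, e3 q27689 L806952 q28828, e3 q27690 (flp_b L801287) q28265, e3 q27691 (flp_b L795005) q26468, e3 q27692 (flp_b L806986) q28831, e3 q27693 (flp_b L795023) q26470, e3 q27694 (flp_b L807007) q28834, e3 q27695 (flp_b L801328) q28268, e3 q27696 (flp_b L806382) q28760, e3 q27697 L795053 q26473, e3 q27698 (flp_b L807037) q28838, e3 q27699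 (flp_b L803640) q28479, e3 q27700 (flp_b L806428) q28764, e3 q27701 L795085 q26476, e3 q27702 (flp_b L806444) q28766, e3 q27703 L795099 q26479, e3 q27704 (flp_b L807065) q28842, e3 q27705 (flp_b L795107) q26482, e3 q27706 (flp_b L807083) q28844, e3 q27707 L795133 q26494, e3 q27708 (flp_b L795135) q26485, e3 q27709 (flp_b L807101) q28846, e3 q27710 (flp_b L795149) q26487, e3 q27711 (flp_b L807118) q28849, trivial⟩ (by decide +kernel)

theorem ce_b_433 : ∀ r, r < 64 → sm gb (Qf (27712 + r)) = Qf (tab Gen.b (27712 + r)) :=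
  edges_tab (sm gb) Qf (tab Gen.b) 27712 [(27712, 28536), (27713, 26490), (27714, 26491), (27715, 28843), (27716, 26493), (27717, 28199), (27718, 26496), (27719, 28854), (27720, 26498), (27721, 28857), (27722, 28775), (27723, 26501), (27724, 28860), (27725, 28106), (27726, 26503), (27727, 28862), (27728, 28778), (27729, 26507), (27730, 26508), (27731, 28865), (27732, 28432), (27733, 26511), (27734, 28780), (27735, 28781), (27736, 28431), (27737, 28269), (27738, 26533), (27739, 26534), (27740, 26546), (27741, 26524), (27742, 28868), (27743, 28869), (27744, 28337), (27745, 26528), (27746, 28873), (27747, 28287), (27748, 28392), (27749, 26531), (27750, 28877), (27751, 28878), (27752, 28370), (27753, 26536), (27754, 28882), (27755, 28305), (27756, 26538), (27757, 28886), (27758, 28306), (27759, 28439), (27760, 26541), (27761, 28889), (27762, 28347), (27763, 26544), (27764, 28891), (27765, 28867), (27766, 26548), (27767, 28893), (27768, 26552), (27769, 28895), (27770, 26568), (27771, 26555), (27772, 26575), (27773, 26595), (27774,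 26561), (27775, 28259)]
    ⟨e3 q27712 (flp_b L804260) q28536, e3 q27713 L795169 q26490, e3 q27714 (flp_b L795175) q26491, e3 q27715 (flp_b L807079) q28843, e3 q27716 L795197 q26493, e3 q27717 (flp_b L800361) q28199, e3 q27718 (flp_b L795207) q26496, e3 q27719 (flp_b L807166) q28854, e3 q27720 (flp_b L795227) q26498, e3 q27721 (flp_b L807189) q28857, e3 q27722 (flp_b L806526) q28775, e3 q27723 L795247 q26501, e3 q27724 (flp_b L807206) q28860, e3 q27725 (flp_b L799153) q28106, e3 q27726 L795260 q26503, e3 q27727 (flp_b L807216) q28862, e3 q27728 (flp_b L806551) q28778, e3 q27729 L795278 q26507, e3 q27730 (flp_b L795282) q26508, e3 q27731 (flp_b L807234) q28865, e3 q27732 (flp_b L803096) q28432, e3 q27733 L795302 q26511, e3 q27734 (flp_b L806567) q28780, e3 q27735 (flp_b L806575) q28781, e3 q27736 (flp_b L803080) q28431, e3 q27737 (flp_b L801340) q28269, e3 q27738 L795340 q26533, e3 q27739 L795356 q26534, e3 q27740 L795362 q26546, e3 q27741 L795366 q26524, e3 q27742 (flp_b L807254) q28868, e3 q27743 L807258 q28869, e3 q27744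 (flp_b L802127) q28337, e3 q27745 (flp_b L795395) q26528, e3 q27746 (flp_b L807289) q28873, e3 q27747 (flp_b L801569) q28287, e3 q27748 (flp_b L802734) q28392, e3 q27749 L795418 q26531, e3 q27750 (flp_b L807314) q28877, e3 q27751 L807320 q28878, e3 q27752 (flp_b L802472) q28370, e3 q27753 (flp_b L795449) q26536, e3 q27754 (flp_b L807355) q28882, e3 q27755 (flp_b L801778) q28305, e3 q27756 (flp_b L795470) q26538, e3 q27757 (flp_b L807386) q28886, e3 q27758 (flp_b L801793) q28306, e3 q27759 (flp_b L803178) q28439, e3 q27760 L795500 q26541, e3 q27761 (flp_b L807406) q28889, e3 q27762 (flp_b L802257) q28347, e3 q27763 L795518 q26544, e3 q27764 (flp_b L807416) q28891, e3 q27765 (flp_b L807248) q28867, e3 q27766 L795534 q26548, e3 q27767 (flp_b L807428) q28893, e3 q27768 (flp_b L795544) q26552, e3 q27769 (flp_b L807444) q28895, e3 q27770 L795568 q26568, e3 q27771 L795572 q26555, e3 q27772 L795582 q26575, e3 q27773 L795588 q26595, e3 q27774 L795592 q26561, e3 q27775 (flp_b L801208) q28259, trivial⟩ (by decide +kernel)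

theorem ce_b_434 : ∀ r, r < 64 → sm gb (Qf (27776 + r)) = Qf (tab Gen.b (27776 + r)) :=
  edges_tab (sm gb) Qf (tab Gen.b) 27776 [(27776, 26563), (27777, 26564), (27778, 28901), (27779, 28894), (27780, 26567), (27781, 28904), (27782, 28897), (27783, 26570), (27784, 27944), (27785, 26572), (27786, 28736), (27787, 26574), (27788, 28249), (27789, 26577), (27790, 27946), (27791, 26585), (27792, 26581), (27793, 28456), (27794, 26583), (27795, 28254), (27796, 28909), (27797, 26587), (27798, 28128), (27799, 26589), (27800, 28175), (27801, 27933), (27802, 27931), (27803, 28898), (27804, 26597), (27805, 26599), (27806, 28915), (27807, 26614), (27808, 28451), (27809, 26607), (27810, 28917), (27811, 28447), (27812, 26610), (27813, 28920), (27814, 28914), (27815, 26613), (27816, 28923), (27817, 26615), (27818, 28925), (27819, 28532), (27820, 26618), (27821, 28927), (27822, 28438), (27823, 28448), (27824, 26622), (27825, 28227), (27826, 26626), (27827, 28931), (27828, 26670), (27829, 28147), (27830, 26630), (27831, 28442), (27832, 26633),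 (27833, 28935), (27834, 28450), (27835, 26663), (27836, 26638), (27837, 26703), (27838, 26706), (27839, 26643)]
    ⟨e3 q27776 L795602 q26563, e3 q27777 (flp_b L795608) q26564, e3 q27778 (flp_b L807487) q28901, e3 q27779 (flp_b L807440) q28894, e3 q27780 L795628 q26567, e3 q27781 (flp_b L807506) q28904, e3 q27782 (flp_b L807461) q28897, e3 q27783 L795643 q26570, e3 q27784 (flp_b L796881) q27944, e3 q27785 L795655 q26572, e3 q27786 (flp_b L806158) q28736, e3 q27787 L795669 q26574, e3 q27788 (flp_b L801070) q28249, e3 q27789 L795681 q26577, e3 q27790 (flp_b L796905) q27946, e3 q27791 L795695 q26585, e3 q27792 L795699 q26581, e3 q27793 (flp_b L803376) q28456, e3 q27794 L795709 q26583, e3 q27795 (flp_b L801136) q28254, e3 q27796 (flp_b L807540) q28909, e3 q27797 L795729 q26587, e3 q27798 (flp_b L799421) q28128, e3 q27799 L795741 q26589, e3 q27800 (flp_b L800029) q28175, e3 q27801 (flp_b L796699) q27933, e3 q27802 (flp_b L796663) q27931, e3 q27803 (flp_b L807469) q28898, e3 q27804 L795771 q26597, e3 q27805 (flp_b L795773) q26599,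 e3 q27806 (flp_b L807574) q28915, e3 q27807 L795791 q26614, e3 q27808 (flp_b L803321) q28451, e3 q27809 (flp_b L795801) q26607, e3 q27810 (flp_b L807586) q28917, e3 q27811 (flp_b L803267) q28447, e3 q27812 (flp_b L795817) q26610, e3 q27813 (flp_b L807607) q28920, e3 q27814 (flp_b L807570) q28914, e3 q27815 L795841 q26613, e3 q27816 (flp_b L807630) q28923, e3 q27817 (flp_b L795850) q26615, e3 q27818 (flp_b L807646) q28925, e3 q27819 (flp_b L804212) q28532, e3 q27820 (flp_b L795872) q26618, e3 q27821 (flp_b L807662) q28927, e3 q27822 (flp_b L803168) q28438, e3 q27823 (flp_b L803279) q28448, e3 q27824 L795904 q26622, e3 q27825 (flp_b L800771) q28227, e3 q27826 (flp_b L795916) q26626, e3 q27827 (flp_b L807693) q28931, e3 q27828 L795946 q26670, e3 q27829 (flp_b L799676) q28147, e3 q27830 L795958 q26630, e3 q27831 (flp_b L803208) q28442, e3 q27832 L795970 q26633, e3 q27833 (flp_b L807722) q28935, e3 q27834 (flp_b L803297) q28450, e3 q27835 L795985 q26663, e3 q27836 L795989 q26638, e3 q27837 L795997 q26703, e3 q27838 L796003 q26706,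 e3 q27839 L796007 q26643, trivial⟩ (by decide +kernel)

theorem ce_b_435 : ∀ r, r < 64 → sm gb (Qf (27840 + r)) = Qf (tab Gen.b (27840 + r)) :=
  edges_tab (sm gb) Qf (tab Gen.b) 27840 [(27840, 28938), (27841, 28597), (27842, 26649), (27843, 28585), (27844, 26739), (27845, 26652), (27846, 28940), (27847, 26654), (27848, 28942), (27849, 28939), (27850, 26657), (27851, 28944), (27852, 26659), (27853, 28946), (27854, 28695), (27855, 26662), (27856, 28936), (27857, 26665), (27858, 28949), (27859, 28630), (27860, 28930), (27861, 26669), (27862, 28952), (27863, 28600), (27864, 28622), (27865, 26682), (27866, 26675), (27867, 28954), (27868, 26677), (27869, 28956), (27870, 28647), (27871, 28851), (27872, 26681), (27873, 28959), (27874, 28961), (27875, 28309), (27876, 26684), (27877, 28965), (27878, 28041), (27879, 26686), (27880, 28968), (27881, 28696), (27882, 26689), (27883, 28971), (27884, 28693), (27885, 26692), (27886, 28973), (27887, 27986), (27888, 26695), (27889, 28705), (27890, 27980), (27891, 28853), (27892, 26702), (27893,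 28976), (27894, 28733), (27895, 26705), (27896, 28978), (27897, 28937), (27898, 26708), (27899, 28981), (27900, 28599), (27901, 26710), (27902, 28983), (27903, 28189)]
    ⟨e3 q27840 (flp_b L807738) q28938, e3 q27841 (flp_b L804838) q28597, e3 q27842 L796024 q26649, e3 q27843 (flp_b L804712) q28585, e3 q27844 L796036 q26739, e3 q27845 (flp_b L796038) q26652, e3 q27846 (flp_b L807750) q28940, e3 q27847 (flp_b L796052) q26654, e3 q27848 (flp_b L807764) q28942, e3 q27849 (flp_b L807746) q28939, e3 q27850 L796070 q26657, e3 q27851 (flp_b L807778) q28944, e3 q27852 (flp_b L796078) q26659, e3 q27853 (flp_b L807788) q28946, e3 q27854 (flp_b L805762) q28695, e3 q27855 L796098 q26662, e3 q27856 (flp_b L807728) q28936, e3 q27857 (flp_b L796106) q26665, e3 q27858 (flp_b L807808) q28949, e3 q27859 (flp_b L805202) q28630, e3 q27860 (flp_b L807689) q28930, e3 q27861 L796136 q26669, e3 q27862 (flp_b L807827) q28952, e3 q27863 (flp_b L804876) q28600, e3 q27864 (flp_b L805121) q28622, e3 q27865 L796165 q26682, e3 q27866 (flp_b L796167) q26675,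 e3 q27867 (flp_b L807837) q28954, e3 q27868 (flp_b L796175) q26677, e3 q27869 (flp_b L807849) q28956, e3 q27870 (flp_b L805373) q28647, e3 q27871 (flp_b L807144) q28851, e3 q27872 L796205 q26681, e3 q27873 (flp_b L807868) q28959, e3 q27874 L807880 q28961, e3 q27875 (flp_b L801837) q28309, e3 q27876 (flp_b L796236) q26684, e3 q27877 (flp_b L807913) q28965, e3 q27878 (flp_b L798220) q28041, e3 q27879 (flp_b L796255) q26686, e3 q27880 (flp_b L807934) q28968, e3 q27881 (flp_b L805774) q28696, e3 q27882 L796279 q26689, e3 q27883 (flp_b L807953) q28971, e3 q27884 (flp_b L805738) q28693, e3 q27885 (flp_b L796292) q26692, e3 q27886 (flp_b L807965) q28973, e3 q27887 (flp_b L797481) q27986, e3 q27888 L796320 q26695, e3 q27889 (flp_b L805856) q28705, e3 q27890 (flp_b L797403) q27980, e3 q27891 (flp_b L807162) q28853, e3 q27892 L796346 q26702, e3 q27893 (flp_b L807987) q28976, e3 q27894 (flp_b L806117) q28733, e3 q27895 L796361 q26705, e3 q27896 (flp_b L807999) q28978, e3 q27897 (flp_b L807734) q28937, e3 q27898 L796376 q26708, e3 q27899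 (flp_b L808012) q28981, e3 q27900 (flp_b L804862) q28599, e3 q27901 L796393 q26710, e3 q27902 (flp_b L808028) q28983, e3 q27903 (flp_b L800229) q28189, trivial⟩ (by decide +kernel)

theorem ce_b_436 : ∀ r, r < 64 → sm gb (Qf (27904 + r)) = Qf (tab Gen.b (27904 + r)) :=
  edges_tab (sm gb) Qf (tab Gen.b) 27904 [(27904, 26715), (27905, 28985), (27906, 28587), (27907, 26719), (27908, 27996), (27909, 26726), (27910, 28808), (27911, 26725), (27912, 28194), (27913, 26728), (27914, 28989), (27915, 26729), (27916, 28992), (27917, 28109), (27918, 28024), (27919, 26732), (27920, 28122), (27921, 26735), (27922, 28167), (27923, 26738), (27924, 28000), (27925, 28032), (27926, 28602), (27927, 26749), (27928, 28997), (27929, 27573), (27930, 26752), (27931, 27802), (27932, 26754), (27933, 27801), (27934, 27233), (27935, 26757), (27936, 29001), (27937, 27342), (27938, 27323), (27939, 27082), (27940, 27574), (27941, 27583), (27942, 26765), (27943, 26769), (27944, 27784), (27945, 26771), (27946, 27790), (27947, 26774), (27948, 29009), (27949,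 29008), (27950, 27315), (27951, 29011), (27952, 27255), (27953, 26779), (27954, 29014), (27955, 26786), (27956, 26914), (27957, 26787), (27958, 29020), (27959, 27141), (27960, 29023), (27961, 27139), (27962, 26785), (27963, 29027), (27964, 29016), (27965, 29019), (27966, 26788), (27967, 29031)]
    ⟨e3 q27904 L796419 q26715, e3 q27905 (flp_b L808048) q28985, e3 q27906 (flp_b L804742) q28587, e3 q27907 L796449 q26719, e3 q27908 (flp_b L797625) q27996, e3 q27909 L796465 q26726, e3 q27910 (flp_b L806823) q28808, e3 q27911 L796475 q26725, e3 q27912 (flp_b L800311) q28194, e3 q27913 L796489 q26728, e3 q27914 (flp_b L808080) q28989, e3 q27915 (flp_b L796499) q26729, e3 q27916 (flp_b L808098) q28992, e3 q27917 (flp_b L799175) q28109, e3 q27918 (flp_b L798011) q28024, e3 q27919 L796527 q26732, e3 q27920 (flp_b L799347) q28122, e3 q27921 L796541 q26735, e3 q27922 (flp_b L799929) q28167, e3 q27923 L796553 q26738, e3 q27924 (flp_b L797681) q28000, e3 q27925 (flp_b L798109) q28032, e3 q27926 (flp_b L804896) q28602, e3 q27927 (flp_b L796577)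 q26749, e3 q27928 (flp_b L808146) q28997, e3 q27929 L796627 q27573, e3 q27930 (flp_b L796629) q26752, e3 q27931 L796663 q27802, e3 q27932 (flp_b L796665) q26754, e3 q27933 L796699 q27801, e3 q27934 L796711 q27233, e3 q27935 L796715 q26757, e3 q27936 (flp_b L808220) q29001, e3 q27937 L796747 q27342, e3 q27938 L796763 q27323, e3 q27939 L796793 q27082, e3 q27940 L796813 q27574, e3 q27941 L796831 q27583, e3 q27942 L796835 q26765, e3 q27943 (flp_b L796849) q26769, e3 q27944 L796881 q27784, e3 q27945 L796885 q26771, e3 q27946 L796905 q27790, e3 q27947 L796915 q26774, e3 q27948 (flp_b L808360) q29009, e3 q27949 (flp_b L808352) q29008, e3 q27950 L796961 q27315, e3 q27951 L808388 q29011, e3 q27952 L796993 q27255, e3 q27953 (flp_b L797006) q26779, e3 q27954 L808438 q29014, e3 q27955 L797042 q26786, e3 q27956 L797058 q26914, e3 q27957 L797073 q26787, e3 q27958 L808532 q29020, e3 q27959 L797101 q27141, e3 q27960 L808577 q29023, e3 q27961 L797132 q27139, e3 q27962 (flp_b L797143) q26785, e3 q27963 (flp_b L808636) q29027, e3 q27964 (flp_b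 L808472) q29016, e3 q27965 (flp_b L808520) q29019, e3 q27966 (flp_b L797189) q26788, e3 q27967 (flp_b L808684) q29031, trivial⟩ (by decide +kernel)

theorem ce_b_437 : ∀ r, r < 64 → sm gb (Qf (27968 + r)) = Qf (tab Gen.b (27968 + r)) :=
  edges_tab (sm gb) Qf (tab Gen.b) 27968 [(27968, 27651), (27969, 26791), (27970, 29034), (27971, 27611), (27972, 26793), (27973, 29038), (27974, 27324), (27975, 27322), (27976, 29041), (27977, 27041), (27978, 26797), (27979, 29045), (27980, 27890), (27981, 29047), (27982, 26919), (27983, 26801), (27984, 29051), (27985, 27325), (27986, 27887), (27987, 26804), (27988, 29055), (27989, 27436), (27990, 26807), (27991, 29057), (27992, 27135), (27993, 27042), (27994, 27527), (27995, 27511), (27996, 27908), (27997, 26815), (27998, 29063), (27999, 27362), (28000, 27924), (28001, 26818), (28002, 29068), (28003, 27363), (28004, 26821), (28005, 29071), (28006, 27259), (28007, 27536), (28008, 26824), (28009, 29075), (28010, 29076), (28011, 26835), (28012, 26827), (28013, 29079), (28014, 27673), (28015,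 26830), (28016, 29081), (28017, 26917), (28018, 26832), (28019, 29085), (28020, 27364), (28021, 26834), (28022, 29089), (28023, 27365), (28024, 27918), (28025, 26837), (28026, 29093), (28027, 26856), (28028, 27528), (28029, 26840), (28030, 29096), (28031, 29097)]
    ⟨e3 q27968 L797227 q27651, e3 q27969 (flp_b L797229) q26791, e3 q27970 L808727 q29034, e3 q27971 L797267 q27611, e3 q27972 (flp_b L797278) q26793, e3 q27973 (flp_b L808790) q29038, e3 q27974 L797310 q27324, e3 q27975 L797324 q27322, e3 q27976 L808832 q29041, e3 q27977 L797357 q27041, e3 q27978 (flp_b L797369) q26797, e3 q27979 (flp_b L808896) q29045, e3 q27980 L797403 q27890, e3 q27981 L808920 q29047, e3 q27982 L797425 q26919, e3 q27983 (flp_b L797436) q26801, e3 q27984 (flp_b L808981) q29051, e3 q27985 L797460 q27325, e3 q27986 L797481 q27887, e3 q27987 L797485 q26804, e3 q27988 (flp_b L809026) q29055, e3 q27989 L797521 q27436, e3 q27990 L797525 q26807, e3 q27991 (flp_b L809054) q29057, e3 q27992 L797553 q27135, e3 q27993 L797570 q27042, e3 q27994 L797586 q27527,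 e3 q27995 L797600 q27511, e3 q27996 L797625 q27908, e3 q27997 (flp_b L797627) q26815, e3 q27998 (flp_b L809144) q29063, e3 q27999 L797657 q27362, e3 q28000 L797681 q27924, e3 q28001 L797685 q26818, e3 q28002 (flp_b L809220) q29068, e3 q28003 L797713 q27363, e3 q28004 (flp_b L797723) q26821, e3 q28005 (flp_b L809260) q29071, e3 q28006 L797751 q27259, e3 q28007 L797771 q27536, e3 q28008 L797775 q26824, e3 q28009 (flp_b L809316) q29075, e3 q28010 L809326 q29076, e3 q28011 L797817 q26835, e3 q28012 (flp_b L797831) q26827, e3 q28013 (flp_b L809378) q29079, e3 q28014 L797875 q27673, e3 q28015 L797879 q26830, e3 q28016 L809410 q29081, e3 q28017 L797913 q26917, e3 q28018 (flp_b L797924) q26832, e3 q28019 (flp_b L809475) q29085, e3 q28020 L797954 q27364, e3 q28021 (flp_b L797965) q26834, e3 q28022 (flp_b L809524) q29089, e3 q28023 L797993 q27365, e3 q28024 L798011 q27918, e3 q28025 L798015 q26837, e3 q28026 (flp_b L809580) q29093, e3 q28027 L798041 q26856, e3 q28028 L798065 q27528, e3 q28029 L798069 q26840, e3 q28030 (flp_b L809620)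 q29096, e3 q28031 (flp_b L809634) q29097, trivial⟩ (by decide +kernel)

theorem ce_b_438 : ∀ r, r < 64 → sm gb (Qf (28032 + r)) = Qf (tab Gen.b (28032 + r)) :=
  edges_tab (sm gb) Qf (tab Gen.b) 28032 [(28032, 27925), (28033, 26844), (28034, 29100), (28035, 27539), (28036, 26848), (28037, 29102), (28038, 27641), (28039, 27361), (28040, 27386), (28041, 27878), (28042, 29091), (28043, 26858), (28044, 26861), (28045, 27290), (28046, 29106), (28047, 29107), (28048, 26888), (28049, 26865), (28050, 26866), (28051, 29111), (28052, 27294), (28053, 26869), (28054, 29113), (28055, 27297), (28056, 26872), (28057, 27283), (28058, 26874), (28059, 26876), (28060, 29118), (28061, 26926), (28062, 26942), (28063, 26880), (28064, 29121), (28065, 26954), (28066, 26883), (28067, 26961), (28068, 26885), (28069, 26887), (28070, 29126), (28071, 26972), (28072, 27010), (28073, 26893), (28074, 29129), (28075, 27015), (28076, 26896), (28077, 27017), (28078, 29131), (28079, 26904), (28080, 26905), (28081, 29134), (28082, 27394), (28083, 29137), (28084,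 27647), (28085, 26903), (28086, 29141), (28087, 29133), (28088, 29018), (28089, 29144), (28090, 27372), (28091, 26907), (28092, 29148), (28093, 29033), (28094, 29150), (28095, 27022)]
    ⟨e3 q28032 L798109 q27925, e3 q28033 L798117 q26844, e3 q28034 (flp_b L809672) q29100, e3 q28035 L798143 q27539, e3 q28036 L798153 q26848, e3 q28037 (flp_b L809698) q29102, e3 q28038 L798175 q27641, e3 q28039 L798191 q27361, e3 q28040 L798206 q27386, e3 q28041 L798220 q27878, e3 q28042 (flp_b L809550) q29091, e3 q28043 L798247 q26858, e3 q28044 (flp_b L798259) q26861, e3 q28045 L798293 q27290, e3 q28046 L809755 q29106, e3 q28047 L809771 q29107, e3 q28048 L798331 q26888, e3 q28049 (flp_b L798344) q26865, e3 q28050 (flp_b L798358) q26866, e3 q28051 (flp_b L809837) q29111, e3 q28052 L798400 q27294, e3 q28053 (flp_b L798402) q26869, e3 q28054 (flp_b L809871) q29113, e3 q28055 L798446 q27297, e3 q28056 L798450 q26872, e3 q28057 L798478 q27283, e3 q28058 L798482 q26874, e3 q28059 (flp_b L798498) q26876, e3 q28060 (flp_b L809958) q29118, e3 q28061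 L798544 q26926, e3 q28062 L798558 q26942, e3 q28063 (flp_b L798560) q26880, e3 q28064 (flp_b L810009) q29121, e3 q28065 L798606 q26954, e3 q28066 L798610 q26883, e3 q28067 L798638 q26961, e3 q28068 L798642 q26885, e3 q28069 (flp_b L798656) q26887, e3 q28070 (flp_b L810092) q29126, e3 q28071 L798694 q26972, e3 q28072 L798700 q27010, e3 q28073 (flp_b L798714) q26893, e3 q28074 (flp_b L810135) q29129, e3 q28075 L798762 q27015, e3 q28076 L798766 q26896, e3 q28077 L798784 q27017, e3 q28078 L810169 q29131, e3 q28079 L798814 q26904, e3 q28080 L798830 q26905, e3 q28081 L810215 q29134, e3 q28082 L798858 q27394, e3 q28083 L810260 q29137, e3 q28084 L798889 q27647, e3 q28085 (flp_b L798900) q26903, e3 q28086 (flp_b L810319) q29141, e3 q28087 (flp_b L810203) q29133, e3 q28088 (flp_b L808504) q29018, e3 q28089 L810351 q29144, e3 q28090 L798966 q27372, e3 q28091 (flp_b L798977) q26907, e3 q28092 (flp_b L810414) q29148, e3 q28093 (flp_b L808725) q29033, e3 q28094 L810433 q29150, e3 q28095 L799033 q27022, trivial⟩ (by decide +kernel)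

theorem ce_b_439 : ∀ r, r < 64 → sm gb (Qf (28096 + r)) = Qf (tab Gen.b (28096 + r)) :=
  edges_tab (sm gb) Qf (tab Gen.b) 28096 [(28096, 26912), (28097, 29153), (28098, 26922), (28099, 29017), (28100, 26916), (28101, 29158), (28102, 29083), (28103, 26918), (28104, 29162), (28105, 29049), (28106, 27725), (28107, 26921), (28108, 29166), (28109, 27917), (28110, 29117), (28111, 26925), (28112, 29169), (28113, 29171), (28114, 27409), (28115, 26928), (28116, 29175), (28117, 29013), (28118, 26931), (28119, 29178), (28120, 26933), (28121, 29180), (28122, 27920), (28123, 26936), (28124, 29183), (28125, 26938), (28126, 29185), (28127, 27421), (28128, 27798), (28129, 26941), (28130, 29188), (28131, 26943), (28132, 29191), (28133, 27502), (28134, 26946), (28135, 26947), (28136, 26948), (28137, 29196), (28138, 29120), (28139, 26951), (28140, 29199), (28141, 29200), (28142, 27348), (28143, 29123), (28144, 26956), (28145, 26957), (28146, 29204), (28147, 27829), (28148, 26960), (28149, 29124), (28150, 26963), (28151, 29207), (28152, 27506),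 (28153, 27508), (28154, 29209), (28155, 27097), (28156, 26968), (28157, 29212), (28158, 27178), (28159, 29125)]
    ⟨e3 q28096 (flp_b L799045) q26912, e3 q28097 (flp_b L810475) q29153, e3 q28098 L799065 q26922, e3 q28099 (flp_b L808488) q29017, e3 q28100 (flp_b L799081) q26916, e3 q28101 (flp_b L810526) q29158, e3 q28102 (flp_b L809444) q29083, e3 q28103 (flp_b L799114) q26918, e3 q28104 (flp_b L810571) q29162, e3 q28105 (flp_b L808954) q29049, e3 q28106 L799153 q27725, e3 q28107 L799157 q26921, e3 q28108 (flp_b L810612) q29166, e3 q28109 L799175 q27917, e3 q28110 (flp_b L809954) q29117, e3 q28111 L799197 q26925, e3 q28112 (flp_b L810640) q29169, e3 q28113 L810655 q29171, e3 q28114 L799234 q27409, e3 q28115 (flp_b L799245) q26928, e3 q28116 (flp_b L810716) q29175, e3 q28117 (flp_b L808436) q29013, e3 q28118 (flp_b L799281) q26931, e3 q28119 (flp_b L810755) q29178, e3 q28120 (flp_b L799311) q26933, e3 q28121 (flp_b L810785) q29180, e3 q28122 L799347 q27920, e3 q28123 L799351 q26936, e3 q28124 (flp_b L810820) q29183, e3 q28125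 (flp_b L799371) q26938, e3 q28126 (flp_b L810848) q29185, e3 q28127 L799401 q27421, e3 q28128 L799421 q27798, e3 q28129 L799425 q26941, e3 q28130 (flp_b L810886) q29188, e3 q28131 (flp_b L799447) q26943, e3 q28132 (flp_b L810932) q29191, e3 q28133 L799491 q27502, e3 q28134 L799495 q26946, e3 q28135 (flp_b L799507) q26947, e3 q28136 (flp_b L799523) q26948, e3 q28137 (flp_b L811017) q29196, e3 q28138 (flp_b L810005) q29120, e3 q28139 L799563 q26951, e3 q28140 (flp_b L811058) q29199, e3 q28141 (flp_b L811064) q29200, e3 q28142 L799606 q27348, e3 q28143 (flp_b L810044) q29123, e3 q28144 L799618 q26956, e3 q28145 (flp_b L799628) q26957, e3 q28146 (flp_b L811125) q29204, e3 q28147 L799676 q27829, e3 q28148 L799680 q26960, e3 q28149 (flp_b L810062) q29124, e3 q28150 L799704 q26963, e3 q28151 (flp_b L811175) q29207, e3 q28152 L799728 q27506, e3 q28153 L799743 q27508, e3 q28154 L811197 q29209, e3 q28155 L799774 q27097, e3 q28156 (flp_b L799787) q26968, e3 q28157 (flp_b L811245) q29212, e3 q28158 L799813 q27178, e3 q28159 (flp_b L810088)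 q29125, trivial⟩ (by decide +kernel)

theorem ce_b_440 : ∀ r, r < 64 → sm gb (Qf (28160 + r)) = Qf (tab Gen.b (28160 + r)) :=
  edges_tab (sm gb) Qf (tab Gen.b) 28160 [(28160, 26971), (28161, 29216), (28162, 26973), (28163, 29219), (28164, 29218), (28165, 26976), (28166, 29221), (28167, 27922), (28168, 26980), (28169, 29223), (28170, 26982), (28171, 29225), (28172, 27218), (28173, 26985), (28174, 29227), (28175, 27800), (28176, 26989), (28177, 26990), (28178, 26998), (28179, 26992), (28180, 26993), (28181, 29233), (28182, 29230), (28183, 26996), (28184, 27426), (28185, 29231), (28186, 27000), (28187, 27644), (28188, 27002), (28189, 27903), (28190, 27005), (28191, 29238), (28192, 27007), (28193, 27504), (28194, 27912), (28195, 27012), (28196, 29128), (28197, 27014), (28198, 29130), (28199, 27717), (28200, 27021), (28201, 27019), (28202, 29244), (28203, 29229), (28204, 27023), (28205, 27585), (28206, 27025), (28207, 27026), (28208, 29248), (28209, 27028), (28210, 29250), (28211, 27058), (28212, 27031), (28213, 27061), (28214,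 27066), (28215, 27034), (28216, 27071), (28217, 27036), (28218, 29254), (28219, 27211), (28220, 29257), (28221, 27164), (28222, 27040), (28223, 29261)]
    ⟨e3 q28160 L799834 q26971, e3 q28161 (flp_b L811290) q29216, e3 q28162 (flp_b L799851) q26973, e3 q28163 (flp_b L811325) q29219, e3 q28164 (flp_b L811321) q29218, e3 q28165 L799899 q26976, e3 q28166 (flp_b L811353) q29221, e3 q28167 L799929 q27922, e3 q28168 L799937 q26980, e3 q28169 (flp_b L811383) q29223, e3 q28170 (flp_b L799957) q26982, e3 q28171 (flp_b L811411) q29225, e3 q28172 L799999 q27218, e3 q28173 L800003 q26985, e3 q28174 (flp_b L811443) q29227, e3 q28175 L800029 q27800, e3 q28176 L800039 q26989, e3 q28177 (flp_b L800049) q26990, e3 q28178 L800077 q26998, e3 q28179 L800081 q26992, e3 q28180 (flp_b L800093) q26993, e3 q28181 (flp_b L811539) q29233, e3 q28182 (flp_b L811501) q29230, e3 q28183 L800143 q26996, e3 q28184 L800173 q27426, e3 q28185 (flp_b L811507) q29231, e3 q28186 L800185 q27000, e3 q28187 L800209 q27644, e3 q28188 L800213 q27002, e3 q28189 L800229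 q27903, e3 q28190 L800241 q27005, e3 q28191 (flp_b L811619) q29238, e3 q28192 (flp_b L800271) q27007, e3 q28193 L800305 q27504, e3 q28194 L800311 q27912, e3 q28195 L800317 q27012, e3 q28196 (flp_b L810131) q29128, e3 q28197 L800339 q27014, e3 q28198 (flp_b L810155) q29130, e3 q28199 L800361 q27717, e3 q28200 L800373 q27021, e3 q28201 L800379 q27019, e3 q28202 (flp_b L811709) q29244, e3 q28203 (flp_b L811481) q29229, e3 q28204 (flp_b L800415) q27023, e3 q28205 L800449 q27585, e3 q28206 (flp_b L800451) q27025, e3 q28207 (flp_b L800469) q27026, e3 q28208 (flp_b L811775) q29248, e3 q28209 (flp_b L800499) q27028, e3 q28210 (flp_b L811809) q29250, e3 q28211 L800545 q27058, e3 q28212 (flp_b L800547) q27031, e3 q28213 L800577 q27061, e3 q28214 L800591 q27066, e3 q28215 L800595 q27034, e3 q28216 L800623 q27071, e3 q28217 L800627 q27036, e3 q28218 L811881 q29254, e3 q28219 L800661 q27211, e3 q28220 L811928 q29257, e3 q28221 L800692 q27164, e3 q28222 (flp_b L800703) q27040, e3 q28223 (flp_b L811987) q29261, trivial⟩ (by decide +kernel)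

theorem ce_b_441 : ∀ r, r < 64 → sm gb (Qf (28224 + r)) = Qf (tab Gen.b (28224 + r)) :=
  edges_tab (sm gb) Qf (tab Gen.b) 28224 [(28224, 29043), (28225, 27043), (28226, 29264), (28227, 27825), (28228, 29246), (28229, 27047), (28230, 29267), (28231, 27049), (28232, 29269), (28233, 27079), (28234, 29247), (28235, 27052), (28236, 29273), (28237, 27054), (28238, 29275), (28239, 29249), (28240, 27057), (28241, 29277), (28242, 29251), (28243, 29005), (28244, 27063), (28245, 27276), (28246, 27065), (28247, 29252), (28248, 27068), (28249, 27788), (28250, 27070), (28251, 29253), (28252, 27073), (28253, 27577), (28254, 27795), (28255, 29283), (28256, 27077), (28257, 27078), (28258, 29286), (28259, 27775), (28260, 27081), (28261, 27083), (28262, 29289), (28263, 27657), (28264, 29292), (28265, 27690), (28266, 27086), (28267, 29296), (28268, 27695), (28269, 27737), (28270, 27089), (28271, 29300), (28272, 27148), (28273, 27092), (28274, 27157), (28275, 27094), (28276, 29304), (28277, 27096), (28278, 29306), (28279, 27238), (28280, 27098),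 (28281, 27170), (28282, 27100), (28283, 29311), (28284, 27175), (28285, 27103), (28286, 29313), (28287, 27747)]
    ⟨e3 q28224 (flp_b L808866) q29043, e3 q28225 (flp_b L800733) q27043, e3 q28226 (flp_b L812023) q29264, e3 q28227 L800771 q27825, e3 q28228 (flp_b L811755) q29246, e3 q28229 (flp_b L800785) q27047, e3 q28230 (flp_b L812068) q29267, e3 q28231 (flp_b L800819) q27049, e3 q28232 (flp_b L812100) q29269, e3 q28233 L800849 q27079, e3 q28234 (flp_b L811771) q29247, e3 q28235 L800872 q27052, e3 q28236 (flp_b L812151) q29273, e3 q28237 (flp_b L800896) q27054, e3 q28238 (flp_b L812185) q29275, e3 q28239 (flp_b L811805) q29249, e3 q28240 L800938 q27057, e3 q28241 (flp_b L812211) q29277, e3 q28242 (flp_b L811843) q29251, e3 q28243 (flp_b L808304) q29005, e3 q28244 L800992 q27063, e3 q28245 L801018 q27276, e3 q28246 L801022 q27065, e3 q28247 (flp_b L811849) q29252, e3 q28248 L801046 q27068, e3 q28249 L801070 q27788, e3 q28250 L801074 q27070, e3 q28251 (flp_b L811867) q29253, e3 q28252 L801098 q27073, e3 q28253 L801124 q27577,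 e3 q28254 L801136 q27795, e3 q28255 L812311 q29283, e3 q28256 (flp_b L801154) q27077, e3 q28257 (flp_b L801168) q27078, e3 q28258 (flp_b L812361) q29286, e3 q28259 L801208 q27775, e3 q28260 L801212 q27081, e3 q28261 (flp_b L801220) q27083, e3 q28262 L812405 q29289, e3 q28263 L801256 q27657, e3 q28264 L812450 q29292, e3 q28265 L801287 q27690, e3 q28266 (flp_b L801298) q27086, e3 q28267 (flp_b L812511) q29296, e3 q28268 L801328 q27695, e3 q28269 L801340 q27737, e3 q28270 (flp_b L801352) q27089, e3 q28271 (flp_b L812565) q29300, e3 q28272 L801390 q27148, e3 q28273 (flp_b L801392) q27092, e3 q28274 L801414 q27157, e3 q28275 (flp_b L801416) q27094, e3 q28276 (flp_b L812624) q29304, e3 q28277 (flp_b L801446) q27096, e3 q28278 (flp_b L812652) q29306, e3 q28279 L801472 q27238, e3 q28280 (flp_b L801483) q27098, e3 q28281 L801509 q27170, e3 q28282 L801513 q27100, e3 q28283 (flp_b L812715) q29311, e3 q28284 L801541 q27175, e3 q28285 L801545 q27103, e3 q28286 (flp_b L812739) q29313, e3 q28287 L801569 q27747, trivial⟩ (by decide +kernel)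

theorem ce_b_442 : ∀ r, r < 64 → sm gb (Qf (28288 + r)) = Qf (tab Gen.b (28288 + r)) :=
  edges_tab (sm gb) Qf (tab Gen.b) 28288 [(28288, 27181), (28289, 27191), (28290, 27108), (28291, 27193), (28292, 29316), (28293, 27112), (28294, 29318), (28295, 29319), (28296, 27225), (28297, 27116), (28298, 29321), (28299, 29322), (28300, 27229), (28301, 27120), (28302, 27235), (28303, 27123), (28304, 29326), (28305, 27755), (28306, 27758), (28307, 29329), (28308, 29330), (28309, 27875), (28310, 27129), (28311, 27130), (28312, 29334), (28313, 29288), (28314, 27133), (28315, 29337), (28316, 27144), (28317, 29059), (28318, 27565), (28319, 27145), (28320, 29343), (28321, 27138), (28322, 29345), (28323, 29025), (28324, 27140), (28325, 29350), (28326, 29022), (28327, 29295), (28328, 27143), (28329, 29355), (28330, 29340), (28331, 27548), (28332, 29299), (28333, 27147), (28334, 29359), (28335, 29245), (28336, 29361), (28337, 27744), (28338, 27151), (28339, 29364), (28340, 29302), (28341, 27154), (28342, 29284), (28343, 27156), (28344, 27158),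 (28345, 29369), (28346, 27167), (28347, 27762), (28348, 27161), (28349, 29373), (28350, 27163), (28351, 29375)]
    ⟨e3 q28288 L801588 q27181, e3 q28289 L801596 q27191, e3 q28290 (flp_b L801598) q27108, e3 q28291 L801624 q27193, e3 q28292 (flp_b L812800) q29316, e3 q28293 L801636 q27112, e3 q28294 (flp_b L812816) q29318, e3 q28295 (flp_b L812832) q29319, e3 q28296 L801686 q27225, e3 q28297 L801690 q27116, e3 q28298 (flp_b L812860) q29321, e3 q28299 (flp_b L812876) q29322, e3 q28300 L801732 q27229, e3 q28301 L801738 q27120, e3 q28302 L801748 q27235, e3 q28303 L801754 q27123, e3 q28304 (flp_b L812928) q29326, e3 q28305 L801778 q27755, e3 q28306 L801793 q27758, e3 q28307 L812967 q29329, e3 q28308 L812983 q29330, e3 q28309 L801837 q27875, e3 q28310 (flp_b L801848) q27129, e3 q28311 (flp_b L801858) q27130, e3 q28312 (flp_b L813039) q29334, e3 q28313 (flp_b L812403) q29288, e3 q28314 (flp_b L801892) q27133, e3 q28315 (flp_b L813068) q29337, e3 q28316 L801912 q27144, e3 q28317 (flp_b L809082) q29059, e3 q28318 L801928 q27565, e3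 q28319 L801942 q27145, e3 q28320 L813125 q29343, e3 q28321 (flp_b L801970) q27138, e3 q28322 (flp_b L813151) q29345, e3 q28323 (flp_b L808611) q29025, e3 q28324 (flp_b L801991) q27140, e3 q28325 (flp_b L813189) q29350, e3 q28326 (flp_b L808566) q29022, e3 q28327 (flp_b L812507) q29295, e3 q28328 L802026 q27143, e3 q28329 (flp_b L813231) q29355, e3 q28330 (flp_b L813094) q29340, e3 q28331 L802050 q27548, e3 q28332 (flp_b L812561) q29299, e3 q28333 L802076 q27147, e3 q28334 (flp_b L813273) q29359, e3 q28335 (flp_b L811735) q29245, e3 q28336 L813288 q29361, e3 q28337 L802127 q27744, e3 q28338 (flp_b L802138) q27151, e3 q28339 (flp_b L813334) q29364, e3 q28340 (flp_b L812604) q29302, e3 q28341 L802174 q27154, e3 q28342 (flp_b L812341) q29284, e3 q28343 L802194 q27156, e3 q28344 (flp_b L802202) q27158, e3 q28345 (flp_b L813393) q29369, e3 q28346 L802232 q27167, e3 q28347 L802257 q27762, e3 q28348 L802261 q27161, e3 q28349 (flp_b L813452) q29373, e3 q28350 (flp_b L802289) q27163, e3 q28351 (flp_b L813476) q29375, trivial⟩ (by decide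 +kernel)

theorem ce_b_443 : ∀ r, r < 64 → sm gb (Qf (28352 + r)) = Qf (tab Gen.b (28352 + r)) :=
  edges_tab (sm gb) Qf (tab Gen.b) 28352 [(28352, 29259), (28353, 29305), (28354, 27166), (28355, 29379), (28356, 29380), (28357, 29309), (28358, 27169), (28359, 29310), (28360, 27172), (28361, 28996), (28362, 27174), (28363, 29312), (28364, 27177), (28365, 29386), (28366, 29173), (28367, 29266), (28368, 27180), (28369, 29389), (28370, 27752), (28371, 27183), (28372, 29392), (28373, 27185), (28374, 29395), (28375, 29224), (28376, 27188), (28377, 29303), (28378, 27190), (28379, 29282), (28380, 29280), (28381, 27195), (28382, 27207), (28383, 27197), (28384, 29400), (28385, 27214), (28386, 27199), (28387, 29404), (28388, 27217), (28389, 29398), (28390, 27202), (28391, 29407), (28392, 27748), (28393, 27205), (28394, 29409), (28395, 29007), (28396, 27209), (28397, 27210), (28398, 29412), (28399, 29256), (28400, 29211), (28401, 27213), (28402, 29416), (28403, 29417), (28404, 29184), (28405, 27216), (28406, 29421), (28407, 29422), (28408,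 27239), (28409, 29226), (28410, 27220), (28411, 27221), (28412, 29427), (28413, 29428), (28414, 28999), (28415, 27224)]
    ⟨e3 q28352 (flp_b L811962) q29259, e3 q28353 (flp_b L812648) q29305, e3 q28354 L802322 q27166, e3 q28355 (flp_b L813509) q29379, e3 q28356 (flp_b L813515) q29380, e3 q28357 (flp_b L812701) q29309, e3 q28358 L802351 q27169, e3 q28359 (flp_b L812707) q29310, e3 q28360 L802369 q27172, e3 q28361 (flp_b L808142) q28996, e3 q28362 L802387 q27174, e3 q28363 (flp_b L812733) q29312, e3 q28364 L802409 q27177, e3 q28365 (flp_b L813566) q29386, e3 q28366 (flp_b L810689) q29173, e3 q28367 (flp_b L812064) q29266, e3 q28368 L802440 q27180, e3 q28369 L813596 q29389, e3 q28370 L802472 q27752, e3 q28371 (flp_b L802483) q27183, e3 q28372 (flp_b L813640) q29392, e3 q28373 (flp_b L802503) q27185, e3 q28374 (flp_b L813671) q29395, e3 q28375 (flp_b L811407) q29224, e3 q28376 L802539 q27188, e3 q28377 (flp_b L812620) q29303, e3 q28378 L802559 q27190, e3 q28379 (flp_b L812299) q29282, e3 q28380 (flp_b L812265) q29280, e3 q28381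 (flp_b L802583) q27195, e3 q28382 L802609 q27207, e3 q28383 (flp_b L802611) q27197, e3 q28384 (flp_b L813731) q29400, e3 q28385 L802637 q27214, e3 q28386 (flp_b L802648) q27199, e3 q28387 (flp_b L813778) q29404, e3 q28388 L802674 q27217, e3 q28389 (flp_b L813713) q29398, e3 q28390 L802698 q27202, e3 q28391 (flp_b L813818) q29407, e3 q28392 L802734 q27748, e3 q28393 L802738 q27205, e3 q28394 (flp_b L813846) q29409, e3 q28395 (flp_b L808330) q29007, e3 q28396 L802778 q27209, e3 q28397 (flp_b L802788) q27210, e3 q28398 (flp_b L813882) q29412, e3 q28399 (flp_b L811915) q29256, e3 q28400 (flp_b L811241) q29211, e3 q28401 L802819 q27213, e3 q28402 (flp_b L813909) q29416, e3 q28403 (flp_b L813915) q29417, e3 q28404 (flp_b L810844) q29184, e3 q28405 L802846 q27216, e3 q28406 (flp_b L813943) q29421, e3 q28407 (flp_b L813955) q29422, e3 q28408 L802872 q27239, e3 q28409 (flp_b L811431) q29226, e3 q28410 L802892 q27220, e3 q28411 L802904 q27221, e3 q28412 (flp_b L814003) q29427, e3 q28413 (flp_b L814015) q29428, e3 q28414 (flp_b L808200)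 q28999, e3 q28415 L802940 q27224, trivial⟩ (by decide +kernel)

theorem ce_b_444 : ∀ r, r < 64 → sm gb (Qf (28416 + r)) = Qf (tab Gen.b (28416 + r)) :=
  edges_tab (sm gb) Qf (tab Gen.b) 28416 [(28416, 29320), (28417, 27227), (28418, 27228), (28419, 29434), (28420, 29324), (28421, 27231), (28422, 28998), (28423, 29000), (28424, 29325), (28425, 27237), (28426, 29438), (28427, 29146), (28428, 27568), (28429, 27650), (28430, 27678), (28431, 27736), (28432, 27732), (28433, 27248), (28434, 27274), (28435, 27285), (28436, 27254), (28437, 29442), (28438, 27822), (28439, 27759), (28440, 27258), (28441, 29445), (28442, 27831), (28443, 27261), (28444, 29447), (28445, 27263), (28446, 29449), (28447, 27811), (28448, 27823), (28449, 27267), (28450, 27834), (28451, 27808), (28452, 29285), (28453, 27273), (28454, 29453), (28455, 29279), (28456, 27793), (28457, 27282), (28458, 29116), (28459, 29080), (28460, 27287), (28461, 29456), (28462, 29105), (28463, 29109), (28464, 29110), (28465, 27293), (28466, 29112), (28467, 27296), (28468, 29459),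 (28469, 29115), (28470, 27299), (28471, 29461), (28472, 27375), (28473, 27302), (28474, 29464), (28475, 27446), (28476, 27398), (28477, 27305), (28478, 29469), (28479, 27699)]
    ⟨e3 q28416 (flp_b L812852) q29320, e3 q28417 L802954 q27227, e3 q28418 L802960 q27228, e3 q28419 (flp_b L814077) q29434, e3 q28420 (flp_b L812908) q29324, e3 q28421 L802976 q27231, e3 q28422 (flp_b L808180) q28998, e3 q28423 (flp_b L808206) q29000, e3 q28424 (flp_b L812918) q29325, e3 q28425 L803010 q27237, e3 q28426 (flp_b L814107) q29438, e3 q28427 (flp_b L810385) q29146, e3 q28428 L803035 q27568, e3 q28429 L803049 q27650, e3 q28430 L803061 q27678, e3 q28431 L803080 q27736, e3 q28432 L803096 q27732, e3 q28433 L803100 q27248, e3 q28434 L803126 q27274, e3 q28435 L803132 q27285, e3 q28436 (flp_b L803138) q27254, e3 q28437 (flp_b L814158) q29442, e3 q28438 L803168 q27822, e3 q28439 L803178 q27759, e3 q28440 L803182 q27258, e3 q28441 (flp_b L814193) q29445, e3 q28442 L803208 q27831, e3 q28443 L803212 q27261, e3 q28444 (flp_b L814213) q29447, e3 q28445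 (flp_b L803227) q27263, e3 q28446 (flp_b L814237) q29449, e3 q28447 L803267 q27811, e3 q28448 L803279 q27823, e3 q28449 L803283 q27267, e3 q28450 L803297 q27834, e3 q28451 L803321 q27808, e3 q28452 (flp_b L812357) q29285, e3 q28453 L803335 q27273, e3 q28454 (flp_b L814292) q29453, e3 q28455 (flp_b L812247) q29279, e3 q28456 L803376 q27793, e3 q28457 L803380 q27282, e3 q28458 (flp_b L809922) q29116, e3 q28459 (flp_b L809396) q29080, e3 q28460 L803410 q27287, e3 q28461 (flp_b L814324) q29456, e3 q28462 (flp_b L809753) q29105, e3 q28463 (flp_b L809817) q29109, e3 q28464 (flp_b L809833) q29110, e3 q28465 L803472 q27293, e3 q28466 (flp_b L809867) q29112, e3 q28467 L803492 q27296, e3 q28468 (flp_b L814364) q29459, e3 q28469 (flp_b L809906) q29115, e3 q28470 (flp_b L803521) q27299, e3 q28471 (flp_b L814392) q29461, e3 q28472 L803559 q27375, e3 q28473 (flp_b L803561) q27302, e3 q28474 (flp_b L814429) q29464, e3 q28475 L803587 q27446, e3 q28476 L803608 q27398, e3 q28477 L803612 q27305, e3 q28478 (flp_b L814489) q29469, e3 q28479 L803640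 q27699, trivial⟩ (by decide +kernel)

theorem ce_b_445 : ∀ r, r < 64 → sm gb (Qf (28480 + r)) = Qf (tab Gen.b (28480 + r)) :=
  edges_tab (sm gb) Qf (tab Gen.b) 28480 [(28480, 27404), (28481, 27309), (28482, 29472), (28483, 27311), (28484, 29475), (28485, 27412), (28486, 27314), (28487, 29478), (28488, 29003), (28489, 27422), (28490, 27317), (28491, 29482), (28492, 27439), (28493, 27321), (28494, 29485), (28495, 29040), (28496, 29036), (28497, 27326), (28498, 29488), (28499, 27459), (28500, 27464), (28501, 27330), (28502, 29491), (28503, 27332), (28504, 29493), (28505, 27477), (28506, 27335), (28507, 29496), (28508, 27483), (28509, 27338), (28510, 29499), (28511, 27489), (28512, 27341), (28513, 29501), (28514, 29502), (28515, 27493), (28516, 27345), (28517, 27346), (28518, 29194), (28519, 27349), (28520, 29506), (28521, 27514), (28522, 27352), (28523, 29509), (28524, 27518), (28525, 27531), (28526, 27357), (28527, 29512), (28528, 27542), (28529, 27360), (28530, 29514), (28531, 29066), (28532, 27819), (28533, 27367), (28534,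 27368), (28535, 29517), (28536, 27712), (28537, 27371), (28538, 29520), (28539, 29460), (28540, 27374), (28541, 29523), (28542, 27376), (28543, 29526)]
    ⟨e3 q28480 L803656 q27404, e3 q28481 L803660 q27309, e3 q28482 (flp_b L814525) q29472, e3 q28483 (flp_b L803673) q27311, e3 q28484 (flp_b L814556) q29475, e3 q28485 L803717 q27412, e3 q28486 (flp_b L803719) q27314, e3 q28487 (flp_b L814595) q29478, e3 q28488 (flp_b L808254) q29003, e3 q28489 L803757 q27422, e3 q28490 L803761 q27317, e3 q28491 (flp_b L814637) q29482, e3 q28492 L803787 q27439, e3 q28493 L803795 q27321, e3 q28494 (flp_b L814673) q29485, e3 q28495 (flp_b L808820) q29040, e3 q28496 (flp_b L808761) q29036, e3 q28497 (flp_b L803834) q27326, e3 q28498 (flp_b L814706) q29488, e3 q28499 L803876 q27459, e3 q28500 L803884 q27464, e3 q28501 L803888 q27330, e3 q28502 (flp_b L814743) q29491, e3 q28503 (flp_b L803903) q27332, e3 q28504 (flp_b L814767) q29493, e3 q28505 L803941 q27477, e3 q28506 (flp_b L803943) q27335, e3 q28507 (flp_b L814804) q29496, e3 q28508 L803975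 q27483, e3 q28509 L803979 q27338, e3 q28510 (flp_b L814840) q29499, e3 q28511 L804007 q27489, e3 q28512 L804011 q27341, e3 q28513 (flp_b L814860) q29501, e3 q28514 (flp_b L814866) q29502, e3 q28515 L804037 q27493, e3 q28516 L804043 q27345, e3 q28517 (flp_b L804049) q27346, e3 q28518 (flp_b L810995) q29194, e3 q28519 (flp_b L804079) q27349, e3 q28520 (flp_b L814914) q29506, e3 q28521 L804111 q27514, e3 q28522 L804115 q27352, e3 q28523 (flp_b L814949) q29509, e3 q28524 L804142 q27518, e3 q28525 L804148 q27531, e3 q28526 L804156 q27357, e3 q28527 (flp_b L814976) q29512, e3 q28528 L804178 q27542, e3 q28529 L804182 q27360, e3 q28530 (flp_b L814990) q29514, e3 q28531 (flp_b L809190) q29066, e3 q28532 L804212 q27819, e3 q28533 (flp_b L804214) q27367, e3 q28534 (flp_b L804226) q27368, e3 q28535 (flp_b L815024) q29517, e3 q28536 L804260 q27712, e3 q28537 (flp_b L804262) q27371, e3 q28538 (flp_b L815057) q29520, e3 q28539 (flp_b L814388) q29460, e3 q28540 L804290 q27374, e3 q28541 (flp_b L815080) q29523, e3 q28542 (flp_b L804301) q27376,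 e3 q28543 (flp_b L815107) q29526, trivial⟩ (by decide +kernel)

theorem ce_b_446 : ∀ r, r < 64 → sm gb (Qf (28544 + r)) = Qf (tab Gen.b (28544 + r)) :=
  edges_tab (sm gb) Qf (tab Gen.b) 28544 [(28544, 27614), (28545, 27620), (28546, 27567), (28547, 27637), (28548, 27380), (28549, 27381), (28550, 29533), (28551, 27397), (28552, 29525), (28553, 27384), (28554, 29537), (28555, 29538), (28556, 27401), (28557, 27553), (28558, 27389), (28559, 29543), (28560, 27391), (28561, 27687), (28562, 27393), (28563, 29546), (28564, 29136), (28565, 29463), (28566, 27396), (28567, 29551), (28568, 29552), (28569, 29156), (28570, 29468), (28571, 27400), (28572, 29557), (28573, 29030), (28574, 27403), (28575, 29559), (28576, 29471), (28577, 27406), (28578, 29563), (28579, 27500), (28580, 27408), (28581, 29566), (28582, 29474), (28583, 27411), (28584, 29569), (28585, 27843), (28586, 27414), (28587, 27906), (28588, 27417), (28589, 29573), (28590, 29477), (28591, 27420), (28592, 29576), (28593, 29577), (28594, 29481), (28595, 27424), (28596, 29581),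 (28597, 27841), (28598, 27427), (28599, 27900), (28600, 27863), (28601, 27625), (28602, 27926), (28603, 29044), (28604, 27435), (28605, 29585), (28606, 29056), (28607, 27438)]
    ⟨e3 q28544 L804327 q27614, e3 q28545 L804339 q27620, e3 q28546 L804349 q27567, e3 q28547 L804364 q27637, e3 q28548 (flp_b L804375) q27380, e3 q28549 (flp_b L804391) q27381, e3 q28550 (flp_b L815195) q29533, e3 q28551 L804411 q27397, e3 q28552 (flp_b L815103) q29525, e3 q28553 L804428 q27384, e3 q28554 (flp_b L815230) q29537, e3 q28555 (flp_b L815236) q29538, e3 q28556 L804448 q27401, e3 q28557 L804460 q27553, e3 q28558 (flp_b L804470) q27389, e3 q28559 (flp_b L815295) q29543, e3 q28560 (flp_b L804496) q27391, e3 q28561 L804520 q27687, e3 q28562 (flp_b L804522) q27393, e3 q28563 (flp_b L815333) q29546, e3 q28564 (flp_b L810249) q29136, e3 q28565 (flp_b L814425) q29463, e3 q28566 L804555 q27396, e3 q28567 (flp_b L815371) q29551, e3 q28568 (flp_b L815377) q29552, e3 q28569 (flp_b L810503) q29156, e3 q28570 (flp_b L814475) q29468, e3 q28571 L804581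 q27400, e3 q28572 (flp_b L815411) q29557, e3 q28573 (flp_b L808680) q29030, e3 q28574 L804605 q27403, e3 q28575 (flp_b L815431) q29559, e3 q28576 (flp_b L814517) q29471, e3 q28577 L804630 q27406, e3 q28578 (flp_b L815455) q29563, e3 q28579 L804653 q27500, e3 q28580 (flp_b L804655) q27408, e3 q28581 (flp_b L815482) q29566, e3 q28582 (flp_b L814552) q29474, e3 q28583 L804687 q27411, e3 q28584 (flp_b L815511) q29569, e3 q28585 L804712 q27843, e3 q28586 (flp_b L804714) q27414, e3 q28587 L804742 q27906, e3 q28588 (flp_b L804744) q27417, e3 q28589 (flp_b L815566) q29573, e3 q28590 (flp_b L814591) q29477, e3 q28591 L804774 q27420, e3 q28592 (flp_b L815598) q29576, e3 q28593 (flp_b L815608) q29577, e3 q28594 (flp_b L814627) q29481, e3 q28595 L804806 q27424, e3 q28596 (flp_b L815648) q29581, e3 q28597 L804838 q27841, e3 q28598 (flp_b L804840) q27427, e3 q28599 L804862 q27900, e3 q28600 L804876 q27863, e3 q28601 L804890 q27625, e3 q28602 L804896 q27926, e3 q28603 (flp_b L808892) q29044, e3 q28604 L804914 q27435, e3 q28605 (flp_b L815696)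 q29585, e3 q28606 (flp_b L809042) q29056, e3 q28607 L804944 q27438, trivial⟩ (by decide +kernel)

theorem ce_b_447 : ∀ r, r < 64 → sm gb (Qf (28608 + r)) = Qf (tab Gen.b (28608 + r)) :=
  edges_tab (sm gb) Qf (tab Gen.b) 28608 [(28608, 29588), (28609, 29484), (28610, 27449), (28611, 27441), (28612, 29593), (28613, 27547), (28614, 27444), (28615, 29467), (28616, 29580), (28617, 29294), (28618, 27549), (28619, 27558), (28620, 29592), (28621, 27451), (28622, 27864), (28623, 29239), (28624, 27454), (28625, 29599), (28626, 29487), (28627, 27457), (28628, 29602), (28629, 29603), (28630, 27859), (28631, 27461), (28632, 29363), (28633, 27463), (28634, 29606), (28635, 29490), (28636, 27466), (28637, 29609), (28638, 27470), (28639, 29177), (28640, 27469), (28641, 27471), (28642, 29612), (28643, 27473), (28644, 29492), (28645, 27475), (28646, 29616), (28647, 27870), (28648, 27478), (28649, 29619), (28650, 27557), (28651, 29495), (28652, 27481), (28653, 29622), (28654, 29623), (28655, 29498), (28656, 27485), (28657, 29627), (28658, 29070),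 (28659, 27488), (28660, 29630), (28661, 29500), (28662, 27491), (28663, 27492), (28664, 29634), (28665, 29503), (28666, 27555), (28667, 27495), (28668, 29639), (28669, 27497), (28670, 29190), (28671, 27499)]
    ⟨e3 q28608 (flp_b L815734) q29588, e3 q28609 (flp_b L814663) q29484, e3 q28610 L804986 q27449, e3 q28611 L804992 q27441, e3 q28612 (flp_b L815792) q29593, e3 q28613 L805010 q27547, e3 q28614 L805022 q27444, e3 q28615 (flp_b L814462) q29467, e3 q28616 (flp_b L815642) q29580, e3 q28617 (flp_b L812484) q29294, e3 q28618 L805064 q27549, e3 q28619 L805075 q27558, e3 q28620 (flp_b L815780) q29592, e3 q28621 L805098 q27451, e3 q28622 L805121 q27864, e3 q28623 (flp_b L811653) q29239, e3 q28624 (flp_b L805137) q27454, e3 q28625 (flp_b L815858) q29599, e3 q28626 (flp_b L814702) q29487, e3 q28627 L805171 q27457, e3 q28628 (flp_b L815885) q29602, e3 q28629 (flp_b L815893) q29603, e3 q28630 L805202 q27859, e3 q28631 L805218 q27461, e3 q28632 (flp_b L813330) q29363, e3 q28633 L805240 q27463, e3 q28634 (flp_b L815933) q29606, e3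 q28635 (flp_b L814737) q29490, e3 q28636 L805257 q27466, e3 q28637 (flp_b L815950) q29609, e3 q28638 L805284 q27470, e3 q28639 (flp_b L810751) q29177, e3 q28640 L805298 q27469, e3 q28641 (flp_b L805304) q27471, e3 q28642 (flp_b L815980) q29612, e3 q28643 (flp_b L805326) q27473, e3 q28644 (flp_b L814763) q29492, e3 q28645 L805350 q27475, e3 q28646 (flp_b L816023) q29616, e3 q28647 L805373 q27870, e3 q28648 (flp_b L805375) q27478, e3 q28649 (flp_b L816050) q29619, e3 q28650 L805399 q27557, e3 q28651 (flp_b L814800) q29495, e3 q28652 L805415 q27481, e3 q28653 (flp_b L816076) q29622, e3 q28654 (flp_b L816086) q29623, e3 q28655 (flp_b L814828) q29498, e3 q28656 L805445 q27485, e3 q28657 (flp_b L816126) q29627, e3 q28658 (flp_b L809256) q29070, e3 q28659 L805473 q27488, e3 q28660 (flp_b L816158) q29630, e3 q28661 (flp_b L814854) q29500, e3 q28662 L805497 q27491, e3 q28663 L805503 q27492, e3 q28664 (flp_b L816188) q29634, e3 q28665 (flp_b L814876) q29503, e3 q28666 L805525 q27555, e3 q28667 L805529 q27495, e3 q28668 (flp_b L816226)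 q29639, e3 q28669 (flp_b L805543) q27497, e3 q28670 (flp_b L810928) q29190, e3 q28671 L805563 q27499, trivial⟩ (by decide +kernel)

theorem ce_b_448 : ∀ r, r < 64 → sm gb (Qf (28672 + r)) = Qf (tab Gen.b (28672 + r)) :=
  edges_tab (sm gb) Qf (tab Gen.b) 28672 [(28672, 29642), (28673, 27665), (28674, 29193), (28675, 27505), (28676, 29644), (28677, 29060), (28678, 27507), (28679, 29648), (28680, 29061), (28681, 29084), (28682, 27510), (28683, 29652), (28684, 29653), (28685, 29505), (28686, 27513), (28687, 29656), (28688, 29508), (28689, 27516), (28690, 27517), (28691, 29661), (28692, 29662), (28693, 27884), (28694, 27520), (28695, 27854), (28696, 27881), (28697, 27524), (28698, 29667), (28699, 29062), (28700, 27526), (28701, 29669), (28702, 29095), (28703, 27530), (28704, 29511), (28705, 27889), (28706, 27534), (28707, 29672), (28708, 29074), (28709, 27538), (28710, 29101), (28711, 27541), (28712, 29675), (28713, 29676), (28714, 29513), (28715, 27562), (28716, 27545), (28717, 29357), (28718, 29541), (28719, 29291), (28720,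 27638), (28721, 29633), (28722, 29341), (28723, 29683), (28724, 27603), (28725, 29638), (28726, 27560), (28727, 29685), (28728, 29679), (28729, 29530), (28730, 29439), (28731, 29274), (28732, 27576), (28733, 27894), (28734, 27579), (28735, 29690)]
    ⟨e3 q28672 (flp_b L816256) q29642, e3 q28673 L805590 q27665, e3 q28674 (flp_b L810967) q29193, e3 q28675 (flp_b L805598) q27505, e3 q28676 (flp_b L816276) q29644, e3 q28677 (flp_b L809098) q29060, e3 q28678 (flp_b L805629) q27507, e3 q28679 (flp_b L816313) q29648, e3 q28680 (flp_b L809113) q29061, e3 q28681 (flp_b L809471) q29084, e3 q28682 L805662 q27510, e3 q28683 (flp_b L816344) q29652, e3 q28684 (flp_b L816350) q29653, e3 q28685 (flp_b L814910) q29505, e3 q28686 L805689 q27513, e3 q28687 (flp_b L816371) q29656, e3 q28688 (flp_b L814941) q29508, e3 q28689 L805706 q27516, e3 q28690 L805710 q27517, e3 q28691 (flp_b L816399) q29661, e3 q28692 (flp_b L816407) q29662, e3 q28693 L805738 q27884, e3 q28694 L805750 q27520, e3 q28695 L805762 q27854, e3 q28696 L805774 q27881, e3 q28697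 L805782 q27524, e3 q28698 (flp_b L816459) q29667, e3 q28699 (flp_b L809140) q29062, e3 q28700 L805812 q27526, e3 q28701 (flp_b L816475) q29669, e3 q28702 (flp_b L809610) q29095, e3 q28703 L805836 q27530, e3 q28704 (flp_b L814966) q29511, e3 q28705 L805856 q27889, e3 q28706 L805866 q27534, e3 q28707 (flp_b L816503) q29672, e3 q28708 (flp_b L809304) q29074, e3 q28709 L805894 q27538, e3 q28710 (flp_b L809690) q29101, e3 q28711 L805914 q27541, e3 q28712 (flp_b L816533) q29675, e3 q28713 L816541 q29676, e3 q28714 (flp_b L814986) q29513, e3 q28715 L805942 q27562, e3 q28716 L805950 q27545, e3 q28717 (flp_b L813249) q29357, e3 q28718 (flp_b L815268) q29541, e3 q28719 (flp_b L812439) q29291, e3 q28720 L805982 q27638, e3 q28721 (flp_b L816182) q29633, e3 q28722 (flp_b L813106) q29341, e3 q28723 L816599 q29683, e3 q28724 L806016 q27603, e3 q28725 (flp_b L816216) q29638, e3 q28726 (flp_b L806032) q27560, e3 q28727 (flp_b L816621) q29685, e3 q28728 (flp_b L816567) q29679, e3 q28729 (flp_b L815155) q29530, e3 q28730 (flp_b L814117) q29439,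 e3 q28731 (flp_b L812181) q29274, e3 q28732 L806091 q27576, e3 q28733 L806117 q27894, e3 q28734 L806121 q27579, e3 q28735 (flp_b L816679) q29690, trivial⟩ (by decide +kernel)

theorem ce_b_449 : ∀ r, r < 64 → sm gb (Qf (28736 + r)) = Qf (tab Gen.b (28736 + r)) :=
  edges_tab (sm gb) Qf (tab Gen.b) 28736 [(28736, 27786), (28737, 27582), (28738, 29004), (28739, 27660), (28740, 27587), (28741, 27591), (28742, 29235), (28743, 27670), (28744, 27596), (28745, 29694), (28746, 27674), (28747, 27599), (28748, 29696), (28749, 27679), (28750, 27602), (28751, 29698), (28752, 27682), (28753, 27605), (28754, 29700), (28755, 29531), (28756, 27608), (28757, 29703), (28758, 27610), (28759, 29705), (28760, 27696), (28761, 27613), (28762, 29708), (28763, 29529), (28764, 27700), (28765, 27616), (28766, 27702), (28767, 27619), (28768, 29712), (28769, 29515), (28770, 27623), (28771, 29714), (28772, 29715), (28773, 29242), (28774, 27627), (28775, 27722), (28776, 27629), (28777, 29718), (28778, 27728), (28779, 27632), (28780, 27734), (28781, 27735),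 (28782, 29583), (28783, 27640), (28784, 29721), (28785, 29195), (28786, 27643), (28787, 29723), (28788, 29236), (28789, 27646), (28790, 29725), (28791, 29139), (28792, 29026), (28793, 27649), (28794, 29729), (28795, 27652), (28796, 29731), (28797, 29544), (28798, 27655), (28799, 27656)]
    ⟨e3 q28736 L806158 q27786, e3 q28737 L806162 q27582, e3 q28738 (flp_b L808272) q29004, e3 q28739 L806190 q27660, e3 q28740 L806194 q27587, e3 q28741 L806214 q27591, e3 q28742 (flp_b L811573) q29235, e3 q28743 L806226 q27670, e3 q28744 L806230 q27596, e3 q28745 (flp_b L816725) q29694, e3 q28746 L806245 q27674, e3 q28747 (flp_b L806251) q27599, e3 q28748 (flp_b L816743) q29696, e3 q28749 L806283 q27679, e3 q28750 L806287 q27602, e3 q28751 (flp_b L816769) q29698, e3 q28752 L806313 q27682, e3 q28753 L806317 q27605, e3 q28754 (flp_b L816787) q29700, e3 q28755 (flp_b L815181) q29531, e3 q28756 L806336 q27608, e3 q28757 (flp_b L816810) q29703, e3 q28758 (flp_b L806352) q27610, e3 q28759 (flp_b L816832) q29705, e3 q28760 L806382 q27696, e3 q28761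 L806386 q27613, e3 q28762 (flp_b L816865) q29708, e3 q28763 (flp_b L815141) q29529, e3 q28764 L806428 q27700, e3 q28765 L806432 q27616, e3 q28766 L806444 q27702, e3 q28767 L806452 q27619, e3 q28768 (flp_b L816909) q29712, e3 q28769 (flp_b L815004) q29515, e3 q28770 L806476 q27623, e3 q28771 (flp_b L816925) q29714, e3 q28772 (flp_b L816931) q29715, e3 q28773 (flp_b L811693) q29242, e3 q28774 L806508 q27627, e3 q28775 L806526 q27722, e3 q28776 L806530 q27629, e3 q28777 (flp_b L816961) q29718, e3 q28778 L806551 q27728, e3 q28779 L806559 q27632, e3 q28780 L806567 q27734, e3 q28781 L806575 q27735, e3 q28782 (flp_b L815682) q29583, e3 q28783 L806593 q27640, e3 q28784 (flp_b L816991) q29721, e3 q28785 (flp_b L811013) q29195, e3 q28786 L806627 q27643, e3 q28787 (flp_b L817011) q29723, e3 q28788 (flp_b L811589) q29236, e3 q28789 (flp_b L806648) q27646, e3 q28790 (flp_b L817027) q29725, e3 q28791 (flp_b L810294) q29139, e3 q28792 (flp_b L808632) q29026, e3 q28793 L806679 q27649, e3 q28794 (flp_b L817060) q29729, e3 q28795 (flp_b L806695)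 q27652, e3 q28796 (flp_b L817078) q29731, e3 q28797 (flp_b L815319) q29544, e3 q28798 L806727 q27655, e3 q28799 (flp_b L806737) q27656, trivial⟩ (by decide +kernel)

theorem ce_b_450 : ∀ r, r < 64 → sm gb (Qf (28800 + r)) = Qf (tab Gen.b (28800 + r)) :=
  edges_tab (sm gb) Qf (tab Gen.b) 28800 [(28800, 29735), (28801, 29666), (28802, 27659), (28803, 29738), (28804, 29692), (28805, 29640), (28806, 27663), (28807, 29740), (28808, 27910), (28809, 29206), (28810, 29078), (28811, 29157), (28812, 27669), (28813, 29742), (28814, 29693), (28815, 27672), (28816, 29643), (28817, 27677), (28818, 29746), (28819, 29747), (28820, 29697), (28821, 27681), (28822, 29699), (28823, 27684), (28824, 29751), (28825, 29542), (28826, 27686), (28827, 29228), (28828, 27689), (28829, 29755), (28830, 29704), (28831, 27692), (28832, 29758), (28833, 29140), (28834, 27694), (28835, 29760), (28836, 29298), (28837, 29707), (28838, 27698), (28839, 29763), (28840, 29710), (28841, 29711), (28842, 27704), (28843, 27715), (28844, 27706), (28845, 29516), (28846,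 27709), (28847, 29767), (28848, 29332), (28849, 27711), (28850, 29243), (28851, 27871), (28852, 29765), (28853, 27891), (28854, 27719), (28855, 29770), (28856, 29161), (28857, 27721), (28858, 29772), (28859, 29717), (28860, 27724), (28861, 29165), (28862, 27727), (28863, 29719)]
    ⟨e3 q28800 (flp_b L817119) q29735, e3 q28801 (flp_b L816447) q29666, e3 q28802 L806771 q27659, e3 q28803 (flp_b L817146) q29738, e3 q28804 (flp_b L816707) q29692, e3 q28805 (flp_b L816242) q29640, e3 q28806 L806800 q27663, e3 q28807 (flp_b L817162) q29740, e3 q28808 L806823 q27910, e3 q28809 (flp_b L811163) q29206, e3 q28810 (flp_b L809374) q29078, e3 q28811 (flp_b L810522) q29157, e3 q28812 L806851 q27669, e3 q28813 (flp_b L817174) q29742, e3 q28814 (flp_b L816719) q29693, e3 q28815 L806870 q27672, e3 q28816 (flp_b L816272) q29643, e3 q28817 L806880 q27677, e3 q28818 (flp_b L817191) q29746, e3 q28819 (flp_b L817197) q29747, e3 q28820 (flp_b L816757) q29697, e3 q28821 L806903 q27681, e3 q28822 (flp_b L816781) q29699, e3 q28823 L806915 q27684,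 e3 q28824 (flp_b L817218) q29751, e3 q28825 (flp_b L815291) q29542, e3 q28826 L806934 q27686, e3 q28827 (flp_b L811457) q29228, e3 q28828 (flp_b L806952) q27689, e3 q28829 (flp_b L817247) q29755, e3 q28830 (flp_b L816828) q29704, e3 q28831 L806986 q27692, e3 q28832 (flp_b L817274) q29758, e3 q28833 (flp_b L810315) q29140, e3 q28834 L807007 q27694, e3 q28835 (flp_b L817290) q29760, e3 q28836 (flp_b L812539) q29298, e3 q28837 (flp_b L816853) q29707, e3 q28838 L807037 q27698, e3 q28839 (flp_b L817312) q29763, e3 q28840 (flp_b L816889) q29710, e3 q28841 (flp_b L816901) q29711, e3 q28842 L807065 q27704, e3 q28843 L807079 q27715, e3 q28844 L807083 q27706, e3 q28845 (flp_b L815020) q29516, e3 q28846 L807101 q27709, e3 q28847 (flp_b L817342) q29767, e3 q28848 (flp_b L813023) q29332, e3 q28849 L807118 q27711, e3 q28850 (flp_b L811701) q29243, e3 q28851 L807144 q27871, e3 q28852 (flp_b L817324) q29765, e3 q28853 L807162 q27891, e3 q28854 L807166 q27719, e3 q28855 (flp_b L817364) q29770, e3 q28856 (flp_b L810567) q29161, e3 q28857 L807189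 q27721, e3 q28858 (flp_b L817378) q29772, e3 q28859 (flp_b L816953) q29717, e3 q28860 L807206 q27724, e3 q28861 (flp_b L810604) q29165, e3 q28862 L807216 q27727, e3 q28863 (flp_b L816973) q29719, trivial⟩ (by decide +kernel)

theorem ce_b_451 : ∀ r, r < 64 → sm gb (Qf (28864 + r)) = Qf (tab Gen.b (28864 + r)) :=
  edges_tab (sm gb) Qf (tab Gen.b) 28864 [(28864, 29232), (28865, 27731), (28866, 29440), (28867, 27765), (28868, 27742), (28869, 27743), (28870, 29779), (28871, 29315), (28872, 29399), (28873, 27746), (28874, 29783), (28875, 29784), (28876, 29408), (28877, 27750), (28878, 27751), (28879, 29787), (28880, 29328), (28881, 29368), (28882, 27754), (28883, 29791), (28884, 29792), (28885, 29260), (28886, 27757), (28887, 29794), (28888, 29444), (28889, 27761), (28890, 29372), (28891, 27764), (28892, 29777), (28893, 27767), (28894, 27779), (28895, 27769), (28896, 29799), (28897, 27782), (28898, 27803), (28899, 29287), (28900, 29147), (28901, 27778), (28902, 29801), (28903, 29798), (28904, 27781), (28905, 29431), (28906, 29006),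 (28907, 29691), (28908, 29281), (28909, 27796), (28910, 29454), (28911, 29278), (28912, 29187), (28913, 29382), (28914, 27814), (28915, 27806), (28916, 29448), (28917, 27810), (28918, 29806), (28919, 29263), (28920, 27813), (28921, 29808), (28922, 29804), (28923, 27816), (28924, 29203), (28925, 27818), (28926, 29441), (28927, 27821)]
    ⟨e3 q28864 (flp_b L811535) q29232, e3 q28865 L807234 q27731, e3 q28866 (flp_b L814130) q29440, e3 q28867 L807248 q27765, e3 q28868 L807254 q27742, e3 q28869 (flp_b L807258) q27743, e3 q28870 (flp_b L817419) q29779, e3 q28871 (flp_b L812771) q29315, e3 q28872 (flp_b L813727) q29399, e3 q28873 L807289 q27746, e3 q28874 (flp_b L817450) q29783, e3 q28875 (flp_b L817456) q29784, e3 q28876 (flp_b L813834) q29408, e3 q28877 L807314 q27750, e3 q28878 (flp_b L807320) q27751, e3 q28879 (flp_b L817480) q29787, e3 q28880 (flp_b L812954) q29328, e3 q28881 (flp_b L813389) q29368, e3 q28882 L807355 q27754, e3 q28883 (flp_b L817511) q29791, e3 q28884 (flp_b L817521) q29792, e3 q28885 (flp_b L811983) q29260,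 e3 q28886 L807386 q27757, e3 q28887 (flp_b L817537) q29794, e3 q28888 (flp_b L814183) q29444, e3 q28889 L807406 q27761, e3 q28890 (flp_b L813438) q29372, e3 q28891 L807416 q27764, e3 q28892 (flp_b L817405) q29777, e3 q28893 L807428 q27767, e3 q28894 L807440 q27779, e3 q28895 L807444 q27769, e3 q28896 (flp_b L817571) q29799, e3 q28897 L807461 q27782, e3 q28898 L807469 q27803, e3 q28899 (flp_b L812379) q29287, e3 q28900 (flp_b L810410) q29147, e3 q28901 L807487 q27778, e3 q28902 (flp_b L817585) q29801, e3 q28903 (flp_b L817563) q29798, e3 q28904 L807506 q27781, e3 q28905 (flp_b L814055) q29431, e3 q28906 (flp_b L808310) q29006, e3 q28907 (flp_b L816693) q29691, e3 q28908 (flp_b L812281) q29281, e3 q28909 L807540 q27796, e3 q28910 (flp_b L814304) q29454, e3 q28911 (flp_b L812231) q29278, e3 q28912 (flp_b L810876) q29187, e3 q28913 (flp_b L813528) q29382, e3 q28914 L807570 q27814, e3 q28915 L807574 q27806, e3 q28916 (flp_b L814233) q29448, e3 q28917 L807586 q27810, e3 q28918 (flp_b L817610) q29806, e3 q28919 (flp_b L812019) q29263,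 e3 q28920 L807607 q27813, e3 q28921 (flp_b L817628) q29808, e3 q28922 (flp_b L817600) q29804, e3 q28923 L807630 q27816, e3 q28924 (flp_b L811121) q29203, e3 q28925 L807646 q27818, e3 q28926 (flp_b L814154) q29441, e3 q28927 L807662 q27821, trivial⟩ (by decide +kernel)

theorem ce_b_452 : ∀ r, r < 64 → sm gb (Qf (28928 + r)) = Qf (tab Gen.b (28928 + r)) :=
  edges_tab (sm gb) Qf (tab Gen.b) 28928 [(28928, 29813), (28929, 29451), (28930, 27860), (28931, 27827), (28932, 29815), (28933, 29205), (28934, 29446), (28935, 27833), (28936, 27856), (28937, 27897), (28938, 27840), (28939, 27849), (28940, 27846), (28941, 29695), (28942, 27848), (28943, 29820), (28944, 27851), (28945, 29665), (28946, 27853), (28947, 29425), (28948, 29604), (28949, 27858), (28950, 29825), (28951, 29814), (28952, 27862), (28953, 29394), (28954, 27867), (28955, 29614), (28956, 27869), (28957, 29830), (28958, 29202), (28959, 27873), (28960, 29833), (28961, 27874), (28962, 29836), (28963, 29104), (28964, 29050), (28965, 27877), (28966, 29839), (28967, 29179),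 (28968, 27880), (28969, 29841), (28970, 29659), (28971, 27883), (28972, 29037), (28973, 27886), (28974, 29054), (28975, 29769), (28976, 27893), (28977, 29689), (28978, 27896), (28979, 29818), (28980, 28980), (28981, 27899), (28982, 29222), (28983, 27902), (28984, 29237), (28985, 27905), (28986, 29571), (28987, 29240), (28988, 29099), (28989, 27914), (28990, 29855), (28991, 29088)]
    ⟨e3 q28928 (flp_b L817663) q29813, e3 q28929 (flp_b L814268) q29451, e3 q28930 L807689 q27860, e3 q28931 L807693 q27827, e3 q28932 (flp_b L817681) q29815, e3 q28933 (flp_b L811145) q29205, e3 q28934 (flp_b L814205) q29446, e3 q28935 L807722 q27833, e3 q28936 L807728 q27856, e3 q28937 L807734 q27897, e3 q28938 L807738 q27840, e3 q28939 L807746 q27849, e3 q28940 L807750 q27846, e3 q28941 (flp_b L816739) q29695, e3 q28942 L807764 q27848, e3 q28943 (flp_b L817705) q29820, e3 q28944 L807778 q27851, e3 q28945 (flp_b L816435) q29665, e3 q28946 L807788 q27853, e3 q28947 (flp_b L813985) q29425, e3 q28948 (flp_b L815911) q29604, e3 q28949 L807808 q27858,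 e3 q28950 (flp_b L817737) q29825, e3 q28951 (flp_b L817671) q29814, e3 q28952 L807827 q27862, e3 q28953 (flp_b L813667) q29394, e3 q28954 L807837 q27867, e3 q28955 (flp_b L816011) q29614, e3 q28956 L807849 q27869, e3 q28957 (flp_b L817768) q29830, e3 q28958 (flp_b L811095) q29202, e3 q28959 L807868 q27873, e3 q28960 (flp_b L817787) q29833, e3 q28961 (flp_b L807880) q27874, e3 q28962 (flp_b L817809) q29836, e3 q28963 (flp_b L809722) q29104, e3 q28964 (flp_b L808977) q29050, e3 q28965 L807913 q27877, e3 q28966 (flp_b L817834) q29839, e3 q28967 (flp_b L810781) q29179, e3 q28968 L807934 q27880, e3 q28969 (flp_b L817848) q29841, e3 q28970 (flp_b L816386) q29659, e3 q28971 L807953 q27883, e3 q28972 (flp_b L808786) q29037, e3 q28973 L807965 q27886, e3 q28974 (flp_b L809014) q29054, e3 q28975 (flp_b L817356) q29769, e3 q28976 L807987 q27893, e3 q28977 (flp_b L816665) q29689, e3 q28978 L807999 q27896, e3 q28979 (flp_b L817696) q29818, e3 q28980 L808009 q28980, e3 q28981 L808012 q27899, e3 q28982 (flp_b L811373) q29222, e3 q28983 L808028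 q27902, e3 q28984 (flp_b L811605) q29237, e3 q28985 L808048 q27905, e3 q28986 (flp_b L815550) q29571, e3 q28987 (flp_b L811659) q29240, e3 q28988 (flp_b L809664) q29099, e3 q28989 L808080 q27914, e3 q28990 (flp_b L817930) q29855, e3 q28991 (flp_b L809520) q29088, trivial⟩ (by decide +kernel)

theorem ce_b_453 : ∀ r, r < 64 → sm gb (Qf (28992 + r)) = Qf (tab Gen.b (28992 + r)) :=
  edges_tab (sm gb) Qf (tab Gen.b) 28992 [(28992, 27916), (28993, 29092), (28994, 29182), (28995, 29067), (28996, 28361), (28997, 27928), (28998, 28422), (28999, 28414), (29000, 28423), (29001, 27936), (29002, 29859), (29003, 28488), (29004, 28738), (29005, 28243), (29006, 28906), (29007, 28395), (29008, 27949), (29009, 27948), (29010, 29863), (29011, 27951), (29012, 29865), (29013, 28117), (29014, 27954), (29015, 29868), (29016, 27964), (29017, 28099), (29018, 28088), (29019, 27965), (29020, 27958), (29021, 29874), (29022, 28326), (29023, 27960), (29024, 29879), (29025, 28323), (29026, 28792), (29027, 27963), (29028, 29884), (29029, 29871), (29030,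 28573), (29031, 27967), (29032, 29887), (29033, 28093), (29034, 27970), (29035, 29890), (29036, 28496), (29037, 28972), (29038, 27973), (29039, 29895), (29040, 28495), (29041, 27976), (29042, 29898), (29043, 28224), (29044, 28603), (29045, 27979), (29046, 29902), (29047, 27981), (29048, 29905), (29049, 28105), (29050, 28964), (29051, 27984), (29052, 29909), (29053, 29910), (29054, 28974), (29055, 27988)]
    ⟨e3 q28992 L808098 q27916, e3 q28993 (flp_b L809568) q29092, e3 q28994 (flp_b L810812) q29182, e3 q28995 (flp_b L809206) q29067, e3 q28996 L808142 q28361, e3 q28997 L808146 q27928, e3 q28998 L808180 q28422, e3 q28999 L808200 q28414, e3 q29000 L808206 q28423, e3 q29001 L808220 q27936, e3 q29002 (flp_b L817982) q29859, e3 q29003 L808254 q28488, e3 q29004 L808272 q28738, e3 q29005 L808304 q28243, e3 q29006 L808310 q28906, e3 q29007 L808330 q28395, e3 q29008 L808352 q27949, e3 q29009 L808360 q27948, e3 q29010 (flp_b L818052) q29863, e3 q29011 (flp_b L808388) q27951, e3 q29012 (flp_b L818086) q29865, e3 q29013 L808436 q28117,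 e3 q29014 (flp_b L808438) q27954, e3 q29015 (flp_b L818135) q29868, e3 q29016 L808472 q27964, e3 q29017 L808488 q28099, e3 q29018 L808504 q28088, e3 q29019 L808520 q27965, e3 q29020 (flp_b L808532) q27958, e3 q29021 (flp_b L818233) q29874, e3 q29022 L808566 q28326, e3 q29023 (flp_b L808577) q27960, e3 q29024 (flp_b L818311) q29879, e3 q29025 L808611 q28323, e3 q29026 L808632 q28792, e3 q29027 L808636 q27963, e3 q29028 (flp_b L818383) q29884, e3 q29029 (flp_b L818181) q29871, e3 q29030 L808680 q28573, e3 q29031 L808684 q27967, e3 q29032 (flp_b L818421) q29887, e3 q29033 L808725 q28093, e3 q29034 (flp_b L808727) q27970, e3 q29035 (flp_b L818460) q29890, e3 q29036 L808761 q28496, e3 q29037 L808786 q28972, e3 q29038 L808790 q27973, e3 q29039 (flp_b L818540) q29895, e3 q29040 L808820 q28495, e3 q29041 (flp_b L808832) q27976, e3 q29042 (flp_b L818588) q29898, e3 q29043 L808866 q28224, e3 q29044 L808892 q28603, e3 q29045 L808896 q27979, e3 q29046 (flp_b L818650) q29902, e3 q29047 (flp_b L808920) q27981, e3 q29048 (flp_b L818696)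 q29905, e3 q29049 L808954 q28105, e3 q29050 L808977 q28964, e3 q29051 L808981 q27984, e3 q29052 (flp_b L818753) q29909, e3 q29053 (flp_b L818761) q29910, e3 q29054 L809014 q28974, e3 q29055 L809026 q27988, trivial⟩ (by decide +kernel)

theorem ce_b_454 : ∀ r, r < 64 → sm gb (Qf (29056 + r)) = Qf (tab Gen.b (29056 + r)) :=
  edges_tab (sm gb) Qf (tab Gen.b) 29056 [(29056, 28606), (29057, 27991), (29058, 29914), (29059, 28317), (29060, 28677), (29061, 28680), (29062, 28699), (29063, 27998), (29064, 29918), (29065, 29919), (29066, 28531), (29067, 28995), (29068, 28002), (29069, 29922), (29070, 28658), (29071, 28005), (29072, 29924), (29073, 29925), (29074, 28708), (29075, 28009), (29076, 28010), (29077, 29928), (29078, 28810), (29079, 28013), (29080, 28459), (29081, 28016), (29082, 29931), (29083, 28102), (29084, 28681), (29085, 28019), (29086, 29935), (29087, 29936), (29088, 28991), (29089, 28022), (29090, 29940), (29091, 28042), (29092, 28993), (29093, 28026), (29094, 29943), (29095, 28702), (29096, 28030), (29097, 28031),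 (29098, 29946), (29099, 28988), (29100, 28034), (29101, 28710), (29102, 28037), (29103, 29950), (29104, 28963), (29105, 28462), (29106, 28046), (29107, 28047), (29108, 29953), (29109, 28463), (29110, 28464), (29111, 28051), (29112, 28466), (29113, 28054), (29114, 29957), (29115, 28469), (29116, 28458), (29117, 28110), (29118, 28060), (29119, 29959)]
    ⟨e3 q29056 L809042 q28606, e3 q29057 L809054 q27991, e3 q29058 (flp_b L818818) q29914, e3 q29059 L809082 q28317, e3 q29060 L809098 q28677, e3 q29061 L809113 q28680, e3 q29062 L809140 q28699, e3 q29063 L809144 q27998, e3 q29064 (flp_b L818877) q29918, e3 q29065 (flp_b L818893) q29919, e3 q29066 L809190 q28531, e3 q29067 L809206 q28995, e3 q29068 L809220 q28002, e3 q29069 (flp_b L818939) q29922, e3 q29070 L809256 q28658, e3 q29071 L809260 q28005, e3 q29072 (flp_b L818967) q29924, e3 q29073 (flp_b L818981) q29925, e3 q29074 L809304 q28708, e3 q29075 L809316 q28009, e3 q29076 (flp_b L809326) q28010, e3 q29077 (flp_b L819029) q29928, e3 q29078 L809374 q28810, e3 q29079 L809378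 q28013, e3 q29080 L809396 q28459, e3 q29081 (flp_b L809410) q28016, e3 q29082 (flp_b L819083) q29931, e3 q29083 L809444 q28102, e3 q29084 L809471 q28681, e3 q29085 L809475 q28019, e3 q29086 (flp_b L819140) q29935, e3 q29087 (flp_b L819150) q29936, e3 q29088 L809520 q28991, e3 q29089 L809524 q28022, e3 q29090 (flp_b L819208) q29940, e3 q29091 L809550 q28042, e3 q29092 L809568 q28993, e3 q29093 L809580 q28026, e3 q29094 (flp_b L819252) q29943, e3 q29095 L809610 q28702, e3 q29096 L809620 q28030, e3 q29097 L809634 q28031, e3 q29098 (flp_b L819300) q29946, e3 q29099 L809664 q28988, e3 q29100 L809672 q28034, e3 q29101 L809690 q28710, e3 q29102 L809698 q28037, e3 q29103 (flp_b L819360) q29950, e3 q29104 L809722 q28963, e3 q29105 L809753 q28462, e3 q29106 (flp_b L809755) q28046, e3 q29107 (flp_b L809771) q28047, e3 q29108 (flp_b L819406) q29953, e3 q29109 L809817 q28463, e3 q29110 L809833 q28464, e3 q29111 L809837 q28051, e3 q29112 L809867 q28466, e3 q29113 L809871 q28054, e3 q29114 (flp_b L819475) q29957, e3 q29115 L809906 q28469,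 e3 q29116 L809922 q28458, e3 q29117 L809954 q28110, e3 q29118 L809958 q28060, e3 q29119 (flp_b L819509) q29959, trivial⟩ (by decide +kernel)

theorem ce_b_455 : ∀ r, r < 64 → sm gb (Qf (29120 + r)) = Qf (tab Gen.b (29120 + r)) :=
  edges_tab (sm gb) Qf (tab Gen.b) 29120 [(29120, 28138), (29121, 28064), (29122, 29961), (29123, 28143), (29124, 28149), (29125, 28159), (29126, 28070), (29127, 29963), (29128, 28196), (29129, 28074), (29130, 28198), (29131, 28078), (29132, 29967), (29133, 28087), (29134, 28081), (29135, 29970), (29136, 28564), (29137, 28083), (29138, 29975), (29139, 28791), (29140, 28833), (29141, 28086), (29142, 29980), (29143, 29872), (29144, 28089), (29145, 29983), (29146, 28427), (29147, 28900), (29148, 28092), (29149, 29987), (29150, 28094), (29151, 29990), (29152, 29989), (29153, 28097), (29154, 29992), (29155, 29993), (29156, 28569), (29157, 28811), (29158, 28101), (29159, 29996), (29160, 29997), (29161, 28856), (29162, 28104), (29163, 30000), (29164, 30001), (29165, 28861), (29166, 28108), (29167, 30005),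 (29168, 29958), (29169, 28112), (29170, 30008), (29171, 28113), (29172, 30011), (29173, 28366), (29174, 29864), (29175, 28116), (29176, 30015), (29177, 28639), (29178, 28119), (29179, 28967), (29180, 28121), (29181, 30019), (29182, 28994), (29183, 28124)]
    ⟨e3 q29120 L810005 q28138, e3 q29121 L810009 q28064, e3 q29122 (flp_b L819543) q29961, e3 q29123 L810044 q28143, e3 q29124 L810062 q28149, e3 q29125 L810088 q28159, e3 q29126 L810092 q28070, e3 q29127 (flp_b L819573) q29963, e3 q29128 L810131 q28196, e3 q29129 L810135 q28074, e3 q29130 L810155 q28198, e3 q29131 (flp_b L810169) q28078, e3 q29132 (flp_b L819638) q29967, e3 q29133 L810203 q28087, e3 q29134 (flp_b L810215) q28081, e3 q29135 (flp_b L819684) q29970, e3 q29136 L810249 q28564, e3 q29137 (flp_b L810260) q28083, e3 q29138 (flp_b L819762) q29975, e3 q29139 L810294 q28791, e3 q29140 L810315 q28833, e3 q29141 L810319 q28086, e3 q29142 (flp_b L819836) q29980, e3 q29143 (flp_b L818199) q29872, e3 q29144 (flp_b L810351) q28089, e3 q29145 (flp_b L819876) q29983, e3 q29146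 L810385 q28427, e3 q29147 L810410 q28900, e3 q29148 L810414 q28092, e3 q29149 (flp_b L819935) q29987, e3 q29150 (flp_b L810433) q28094, e3 q29151 (flp_b L819976) q29990, e3 q29152 (flp_b L819972) q29989, e3 q29153 L810475 q28097, e3 q29154 (flp_b L820000) q29992, e3 q29155 (flp_b L820010) q29993, e3 q29156 L810503 q28569, e3 q29157 L810522 q28811, e3 q29158 L810526 q28101, e3 q29159 (flp_b L820042) q29996, e3 q29160 (flp_b L820052) q29997, e3 q29161 L810567 q28856, e3 q29162 L810571 q28104, e3 q29163 (flp_b L820081) q30000, e3 q29164 (flp_b L820091) q30001, e3 q29165 L810604 q28861, e3 q29166 L810612 q28108, e3 q29167 (flp_b L820133) q30005, e3 q29168 (flp_b L819493) q29958, e3 q29169 L810640 q28112, e3 q29170 (flp_b L820160) q30008, e3 q29171 (flp_b L810655) q28113, e3 q29172 (flp_b L820201) q30011, e3 q29173 L810689 q28366, e3 q29174 (flp_b L818082) q29864, e3 q29175 L810716 q28116, e3 q29176 (flp_b L820258) q30015, e3 q29177 L810751 q28639, e3 q29178 L810755 q28119, e3 q29179 L810781 q28967, e3 q29180 L810785 q28121, e3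 q29181 (flp_b L820311) q30019, e3 q29182 L810812 q28994, e3 q29183 L810820 q28124, trivial⟩ (by decide +kernel)

theorem ce_b_456 : ∀ r, r < 64 → sm gb (Qf (29184 + r)) = Qf (tab Gen.b (29184 + r)) :=
  edges_tab (sm gb) Qf (tab Gen.b) 29184 [(29184, 28404), (29185, 28126), (29186, 30022), (29187, 28912), (29188, 28130), (29189, 30024), (29190, 28670), (29191, 28132), (29192, 30026), (29193, 28674), (29194, 28518), (29195, 28785), (29196, 28137), (29197, 30028), (29198, 29960), (29199, 28140), (29200, 28141), (29201, 30032), (29202, 28958), (29203, 28924), (29204, 28146), (29205, 28933), (29206, 28809), (29207, 28151), (29208, 30036), (29209, 28154), (29210, 30038), (29211, 28400), (29212, 28157), (29213, 30041), (29214, 30042), (29215, 29962), (29216, 28161), (29217, 30047), (29218, 28164), (29219, 28163), (29220, 30049), (29221, 28166), (29222, 28982), (29223, 28169), (29224, 28375), (29225, 28171), (29226, 28409), (29227, 28174), (29228, 28827), (29229, 28203), (29230, 28182), (29231, 28185), (29232, 28864), (29233, 28181),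 (29234, 30050), (29235, 28742), (29236, 28788), (29237, 28984), (29238, 28191), (29239, 28623), (29240, 28987), (29241, 29965), (29242, 28773), (29243, 28850), (29244, 28202), (29245, 28335), (29246, 28228), (29247, 28234)]
    ⟨e3 q29184 L810844 q28404, e3 q29185 L810848 q28126, e3 q29186 (flp_b L820353) q30022, e3 q29187 L810876 q28912, e3 q29188 L810886 q28130, e3 q29189 (flp_b L820381) q30024, e3 q29190 L810928 q28670, e3 q29191 L810932 q28132, e3 q29192 (flp_b L820413) q30026, e3 q29193 L810967 q28674, e3 q29194 L810995 q28518, e3 q29195 L811013 q28785, e3 q29196 L811017 q28137, e3 q29197 (flp_b L820447) q30028, e3 q29198 (flp_b L819527) q29960, e3 q29199 L811058 q28140, e3 q29200 L811064 q28141, e3 q29201 (flp_b L820492) q30032, e3 q29202 L811095 q28958, e3 q29203 L811121 q28924, e3 q29204 L811125 q28146, e3 q29205 L811145 q28933, e3 q29206 L811163 q28809, e3 q29207 L811175 q28151, e3 q29208 (flp_b L820549) q30036, e3 q29209 (flp_b L811197) q28154, e3 q29210 (flp_b L820581) q30038, e3 q29211 L811241 q28400, e3 q29212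 L811245 q28157, e3 q29213 (flp_b L820626) q30041, e3 q29214 (flp_b L820634) q30042, e3 q29215 (flp_b L819561) q29962, e3 q29216 L811290 q28161, e3 q29217 (flp_b L820695) q30047, e3 q29218 L811321 q28164, e3 q29219 L811325 q28163, e3 q29220 (flp_b L820716) q30049, e3 q29221 L811353 q28166, e3 q29222 L811373 q28982, e3 q29223 L811383 q28169, e3 q29224 L811407 q28375, e3 q29225 L811411 q28171, e3 q29226 L811431 q28409, e3 q29227 L811443 q28174, e3 q29228 L811457 q28827, e3 q29229 L811481 q28203, e3 q29230 L811501 q28182, e3 q29231 L811507 q28185, e3 q29232 L811535 q28864, e3 q29233 L811539 q28181, e3 q29234 (flp_b L820736) q30050, e3 q29235 L811573 q28742, e3 q29236 L811589 q28788, e3 q29237 L811605 q28984, e3 q29238 L811619 q28191, e3 q29239 L811653 q28623, e3 q29240 L811659 q28987, e3 q29241 (flp_b L819602) q29965, e3 q29242 L811693 q28773, e3 q29243 L811701 q28850, e3 q29244 L811709 q28202, e3 q29245 L811735 q28335, e3 q29246 L811755 q28228, e3 q29247 L811771 q28234, trivial⟩ (by decide +kernel)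

theorem ce_b_457 : ∀ r, r < 64 → sm gb (Qf (29248 + r)) = Qf (tab Gen.b (29248 + r)) :=
  edges_tab (sm gb) Qf (tab Gen.b) 29248 [(29248, 28208), (29249, 28239), (29250, 28210), (29251, 28242), (29252, 28247), (29253, 28251), (29254, 28218), (29255, 30061), (29256, 28399), (29257, 28220), (29258, 30065), (29259, 28352), (29260, 28885), (29261, 28223), (29262, 30069), (29263, 28919), (29264, 28226), (29265, 30071), (29266, 28367), (29267, 28230), (29268, 29952), (29269, 28232), (29270, 30074), (29271, 30075), (29272, 30058), (29273, 28236), (29274, 28731), (29275, 28238), (29276, 30059), (29277, 28241), (29278, 28911), (29279, 28455), (29280, 28380), (29281, 28908), (29282, 28379), (29283, 28255), (29284, 28342), (29285, 28452), (29286, 28258), (29287, 28899), (29288, 28313), (29289, 28262), (29290, 30083), (29291, 28719), (29292, 28264), (29293, 30088), (29294, 28617), (29295, 28327), (29296, 28267), (29297, 30093), (29298, 28836), (29299, 28332), (29300, 28271), (29301, 30096), (29302, 28340), (29303, 28377), (29304, 28276),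 (29305, 28353), (29306, 28278), (29307, 30100), (29308, 30101), (29309, 28357), (29310, 28359), (29311, 28283)]
    ⟨e3 q29248 L811775 q28208, e3 q29249 L811805 q28239, e3 q29250 L811809 q28210, e3 q29251 L811843 q28242, e3 q29252 L811849 q28247, e3 q29253 L811867 q28251, e3 q29254 (flp_b L811881) q28218, e3 q29255 (flp_b L820930) q30061, e3 q29256 L811915 q28399, e3 q29257 (flp_b L811928) q28220, e3 q29258 (flp_b L820993) q30065, e3 q29259 L811962 q28352, e3 q29260 L811983 q28885, e3 q29261 L811987 q28223, e3 q29262 (flp_b L821054) q30069, e3 q29263 L812019 q28919, e3 q29264 L812023 q28226, e3 q29265 (flp_b L821080) q30071, e3 q29266 L812064 q28367, e3 q29267 L812068 q28230, e3 q29268 (flp_b L819402) q29952, e3 q29269 L812100 q28232, e3 q29270 (flp_b L821126) q30074, e3 q29271 (flp_b L821138) q30075, e3 q29272 (flp_b L820876) q30058, e3 q29273 L812151 q28236, e3 q29274 L812181 q28731, e3 q29275 L812185 q28238, e3 q29276 (flp_b L820894) q30059, e3 q29277 L812211 q28241, e3 q29278 L812231 q28911, e3 q29279 L812247 q28455,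 e3 q29280 L812265 q28380, e3 q29281 L812281 q28908, e3 q29282 L812299 q28379, e3 q29283 (flp_b L812311) q28255, e3 q29284 L812341 q28342, e3 q29285 L812357 q28452, e3 q29286 L812361 q28258, e3 q29287 L812379 q28899, e3 q29288 L812403 q28313, e3 q29289 (flp_b L812405) q28262, e3 q29290 (flp_b L821283) q30083, e3 q29291 L812439 q28719, e3 q29292 (flp_b L812450) q28264, e3 q29293 (flp_b L821361) q30088, e3 q29294 L812484 q28617, e3 q29295 L812507 q28327, e3 q29296 L812511 q28267, e3 q29297 (flp_b L821435) q30093, e3 q29298 L812539 q28836, e3 q29299 L812561 q28332, e3 q29300 L812565 q28271, e3 q29301 (flp_b L821477) q30096, e3 q29302 L812604 q28340, e3 q29303 L812620 q28377, e3 q29304 L812624 q28276, e3 q29305 L812648 q28353, e3 q29306 L812652 q28278, e3 q29307 (flp_b L821530) q30100, e3 q29308 (flp_b L821538) q30101, e3 q29309 L812701 q28357, e3 q29310 L812707 q28359, e3 q29311 L812715 q28283, trivial⟩ (by decide +kernel)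

theorem ce_b_458 : ∀ r, r < 64 → sm gb (Qf (29312 + r)) = Qf (tab Gen.b (29312 + r)) :=
  edges_tab (sm gb) Qf (tab Gen.b) 29312 [(29312, 28363), (29313, 28286), (29314, 30105), (29315, 28871), (29316, 28292), (29317, 29861), (29318, 28294), (29319, 28295), (29320, 28416), (29321, 28298), (29322, 28299), (29323, 30111), (29324, 28420), (29325, 28424), (29326, 28304), (29327, 30114), (29328, 28880), (29329, 28307), (29330, 28308), (29331, 30117), (29332, 28848), (29333, 30080), (29334, 28312), (29335, 30120), (29336, 29966), (29337, 28315), (29338, 30122), (29339, 30123), (29340, 28330), (29341, 28722), (29342, 29916), (29343, 28320), (29344, 30082), (29345, 28322), (29346, 30129), (29347, 30130), (29348, 29882), (29349, 30087), (29350, 28325), (29351, 30134), (29352, 30135), (29353, 29877), (29354, 30092), (29355, 28329), (29356, 30140), (29357, 28717), (29358, 30095), (29359, 28334), (29360, 30144), (29361, 28336), (29362, 30147), (29363, 28632), (29364, 28339), (29365, 30149), (29366, 30079), (29367, 30077), (29368, 28881),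 (29369, 28345), (29370, 30151), (29371, 30152), (29372, 28890), (29373, 28349), (29374, 29982), (29375, 28351)]
    ⟨e3 q29312 L812733 q28363, e3 q29313 L812739 q28286, e3 q29314 (flp_b L821601) q30105, e3 q29315 L812771 q28871, e3 q29316 L812800 q28292, e3 q29317 (flp_b L818028) q29861, e3 q29318 L812816 q28294, e3 q29319 L812832 q28295, e3 q29320 L812852 q28416, e3 q29321 L812860 q28298, e3 q29322 L812876 q28299, e3 q29323 (flp_b L821705) q30111, e3 q29324 L812908 q28420, e3 q29325 L812918 q28424, e3 q29326 L812928 q28304, e3 q29327 (flp_b L821749) q30114, e3 q29328 L812954 q28880, e3 q29329 (flp_b L812967) q28307, e3 q29330 (flp_b L812983) q28308, e3 q29331 (flp_b L821797) q30117, e3 q29332 L813023 q28848, e3 q29333 (flp_b L821243) q30080, e3 q29334 L813039 q28312, e3 q29335 (flp_b L821836) q30120, e3 q29336 (flp_b L819634) q29966, e3 q29337 L813068 q28315, e3 q29338 (flp_b L821854) q30122, e3 q29339 (flp_b L821864) q30123, e3 q29340 L813094 q28330, e3 q29341 L813106 q28722, e3 q29342 (flp_b L818848) q29916, e3 q29343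 (flp_b L813125) q28320, e3 q29344 (flp_b L821279) q30082, e3 q29345 L813151 q28322, e3 q29346 (flp_b L821932) q30129, e3 q29347 (flp_b L821940) q30130, e3 q29348 (flp_b L818354) q29882, e3 q29349 (flp_b L821357) q30087, e3 q29350 L813189 q28325, e3 q29351 (flp_b L821967) q30134, e3 q29352 (flp_b L821977) q30135, e3 q29353 (flp_b L818278) q29877, e3 q29354 (flp_b L821421) q30092, e3 q29355 L813231 q28329, e3 q29356 (flp_b L822019) q30140, e3 q29357 L813249 q28717, e3 q29358 (flp_b L821463) q30095, e3 q29359 L813273 q28334, e3 q29360 (flp_b L822060) q30144, e3 q29361 (flp_b L813288) q28336, e3 q29362 (flp_b L822099) q30147, e3 q29363 L813330 q28632, e3 q29364 L813334 q28339, e3 q29365 (flp_b L822127) q30149, e3 q29366 (flp_b L821211) q30079, e3 q29367 (flp_b L821173) q30077, e3 q29368 L813389 q28881, e3 q29369 L813393 q28345, e3 q29370 (flp_b L822151) q30151, e3 q29371 (flp_b L822165) q30152, e3 q29372 L813438 q28890, e3 q29373 L813452 q28349, e3 q29374 (flp_b L819872) q29982, e3 q29375 L813476 q28351, trivial⟩ (by decide +kernel)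

theorem ce_b_459 : ∀ r, r < 64 → sm gb (Qf (29376 + r)) = Qf (tab Gen.b (29376 + r)) :=
  edges_tab (sm gb) Qf (tab Gen.b) 29376 [(29376, 30155), (29377, 30156), (29378, 30099), (29379, 28355), (29380, 28356), (29381, 30161), (29382, 28913), (29383, 30103), (29384, 29857), (29385, 30104), (29386, 28365), (29387, 30164), (29388, 30072), (29389, 28369), (29390, 30166), (29391, 30037), (29392, 28372), (29393, 30168), (29394, 28953), (29395, 28374), (29396, 30052), (29397, 30098), (29398, 28389), (29399, 28872), (29400, 28384), (29401, 30171), (29402, 30172), (29403, 29951), (29404, 28387), (29405, 30174), (29406, 29862), (29407, 28391), (29408, 28876), (29409, 28394), (29410, 29858), (29411, 30010), (29412, 28398), (29413, 30178), (29414, 30179), (29415, 30040), (29416, 28402), (29417, 28403), (29418, 30185), (29419, 30186), (29420, 30021), (29421, 28406), (29422, 28407), (29423, 30191), (29424, 30192), (29425, 28947), (29426, 30053), (29427, 28412), (29428, 28413), (29429, 30195), (29430, 30196), (29431, 28905), (29432, 30109),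 (29433, 30110), (29434, 28419), (29435, 30199), (29436, 30107), (29437, 30113), (29438, 28426), (29439, 28730)]
    ⟨e3 q29376 (flp_b L822209) q30155, e3 q29377 (flp_b L822217) q30156, e3 q29378 (flp_b L821520) q30099, e3 q29379 L813509 q28355, e3 q29380 L813515 q28356, e3 q29381 (flp_b L822249) q30161, e3 q29382 L813528 q28913, e3 q29383 (flp_b L821567) q30103, e3 q29384 (flp_b L817946) q29857, e3 q29385 (flp_b L821585) q30104, e3 q29386 L813566 q28365, e3 q29387 (flp_b L822272) q30164, e3 q29388 (flp_b L821094) q30072, e3 q29389 (flp_b L813596) q28369, e3 q29390 (flp_b L822300) q30166, e3 q29391 (flp_b L820577) q30037, e3 q29392 L813640 q28372, e3 q29393 (flp_b L822324) q30168, e3 q29394 L813667 q28953, e3 q29395 L813671 q28374, e3 q29396 (flp_b L820770) q30052, e3 q29397 (flp_b L821502) q30098, e3 q29398 L813713 q28389, e3 q29399 L813727 q28872, e3 q29400 L813731 q28384, e3 q29401 (flp_b L822358) q30171, e3 q29402 (flp_b L822368) q30172, e3 q29403 (flp_b L819384) q29951, e3 q29404 L813778 q28387, e3 q29405 (flp_b L822396)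 q30174, e3 q29406 (flp_b L818038) q29862, e3 q29407 L813818 q28391, e3 q29408 L813834 q28876, e3 q29409 L813846 q28394, e3 q29410 (flp_b L817966) q29858, e3 q29411 (flp_b L820197) q30010, e3 q29412 L813882 q28398, e3 q29413 (flp_b L822448) q30178, e3 q29414 (flp_b L822456) q30179, e3 q29415 (flp_b L820616) q30040, e3 q29416 L813909 q28402, e3 q29417 L813915 q28403, e3 q29418 (flp_b L822495) q30185, e3 q29419 (flp_b L822501) q30186, e3 q29420 (flp_b L820339) q30021, e3 q29421 L813943 q28406, e3 q29422 L813955 q28407, e3 q29423 (flp_b L822551) q30191, e3 q29424 (flp_b L822563) q30192, e3 q29425 L813985 q28947, e3 q29426 (flp_b L820790) q30053, e3 q29427 L814003 q28412, e3 q29428 L814015 q28413, e3 q29429 (flp_b L822601) q30195, e3 q29430 (flp_b L822613) q30196, e3 q29431 L814055 q28905, e3 q29432 (flp_b L821671) q30109, e3 q29433 (flp_b L821689) q30110, e3 q29434 L814077 q28419, e3 q29435 (flp_b L822645) q30199, e3 q29436 (flp_b L821633) q30107, e3 q29437 (flp_b L821737) q30113, e3 q29438 L814107 q28426, e3 q29439 L814117 q28730,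 trivial⟩ (by decide +kernel)

theorem ce_b_460 : ∀ r, r < 64 → sm gb (Qf (29440 + r)) = Qf (tab Gen.b (29440 + r)) :=
  edges_tab (sm gb) Qf (tab Gen.b) 29440 [(29440, 28866), (29441, 28926), (29442, 28437), (29443, 30202), (29444, 28888), (29445, 28441), (29446, 28934), (29447, 28444), (29448, 28916), (29449, 28446), (29450, 30207), (29451, 28929), (29452, 30081), (29453, 28454), (29454, 28910), (29455, 29929), (29456, 28461), (29457, 29955), (29458, 29956), (29459, 28468), (29460, 28539), (29461, 28471), (29462, 30214), (29463, 28565), (29464, 28474), (29465, 30217), (29466, 30218), (29467, 28615), (29468, 28570), (29469, 28478), (29470, 30223), (29471, 28576), (29472, 28482), (29473, 30226), (29474, 28582), (29475, 28484), (29476, 30228), (29477, 28590), (29478, 28487), (29479, 30230), (29480, 30231), (29481, 28594), (29482, 28491), (29483, 30234), (29484, 28609), (29485, 28494), (29486, 29893), (29487, 28626), (29488, 28498), (29489, 30237), (29490, 28635), (29491, 28502), (29492, 28644), (29493, 28504), (29494, 30241),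 (29495, 28651), (29496, 28507), (29497, 30243), (29498, 28655), (29499, 28510), (29500, 28661), (29501, 28513), (29502, 28514), (29503, 28665)]
    ⟨e3 q29440 L814130 q28866, e3 q29441 L814154 q28926, e3 q29442 L814158 q28437, e3 q29443 (flp_b L822675) q30202, e3 q29444 L814183 q28888, e3 q29445 L814193 q28441, e3 q29446 L814205 q28934, e3 q29447 L814213 q28444, e3 q29448 L814233 q28916, e3 q29449 L814237 q28446, e3 q29450 (flp_b L822732) q30207, e3 q29451 L814268 q28929, e3 q29452 (flp_b L821249) q30081, e3 q29453 L814292 q28454, e3 q29454 L814304 q28910, e3 q29455 (flp_b L819049) q29929, e3 q29456 L814324 q28461, e3 q29457 (flp_b L819441) q29955, e3 q29458 (flp_b L819459) q29956, e3 q29459 L814364 q28468, e3 q29460 L814388 q28539, e3 q29461 L814392 q28471, e3 q29462 (flp_b L822828) q30214, e3 q29463 L814425 q28565, e3 q29464 L814429 q28474, e3 q29465 (flp_b L822863) q30217, e3 q29466 (flp_b L822871) q30218, e3 q29467 L814462 q28615, e3 q29468 L814475 q28570, e3 q29469 L814489 q28478, e3 q29470 (flp_b L822935) q30223, e3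 q29471 L814517 q28576, e3 q29472 L814525 q28482, e3 q29473 (flp_b L822962) q30226, e3 q29474 L814552 q28582, e3 q29475 L814556 q28484, e3 q29476 (flp_b L822986) q30228, e3 q29477 L814591 q28590, e3 q29478 L814595 q28487, e3 q29479 (flp_b L823010) q30230, e3 q29480 (flp_b L823020) q30231, e3 q29481 L814627 q28594, e3 q29482 L814637 q28491, e3 q29483 (flp_b L823052) q30234, e3 q29484 L814663 q28609, e3 q29485 L814673 q28494, e3 q29486 (flp_b L818509) q29893, e3 q29487 L814702 q28626, e3 q29488 L814706 q28498, e3 q29489 (flp_b L823088) q30237, e3 q29490 L814737 q28635, e3 q29491 L814743 q28502, e3 q29492 L814763 q28644, e3 q29493 L814767 q28504, e3 q29494 (flp_b L823139) q30241, e3 q29495 L814800 q28651, e3 q29496 L814804 q28507, e3 q29497 (flp_b L823161) q30243, e3 q29498 L814828 q28655, e3 q29499 L814840 q28510, e3 q29500 L814854 q28661, e3 q29501 L814860 q28513, e3 q29502 L814866 q28514, e3 q29503 L814876 q28665, trivial⟩ (by decide +kernel)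

theorem ce_b_461 : ∀ r, r < 64 → sm gb (Qf (29504 + r)) = Qf (tab Gen.b (29504 + r)) :=
  edges_tab (sm gb) Qf (tab Gen.b) 29504 [(29504, 29927), (29505, 28685), (29506, 28520), (29507, 30248), (29508, 28688), (29509, 28523), (29510, 30252), (29511, 28704), (29512, 28527), (29513, 28714), (29514, 28530), (29515, 28769), (29516, 28845), (29517, 28535), (29518, 30256), (29519, 30165), (29520, 28538), (29521, 30258), (29522, 30213), (29523, 28541), (29524, 30262), (29525, 28552), (29526, 28543), (29527, 30265), (29528, 30266), (29529, 28763), (29530, 28729), (29531, 28755), (29532, 29889), (29533, 28550), (29534, 30270), (29535, 30271), (29536, 30264), (29537, 28554), (29538, 28555), (29539, 30274), (29540, 30275), (29541, 28718), (29542, 28825), (29543, 28559), (29544, 28797), (29545, 29878), (29546, 28563), (29547, 30279), (29548, 30280), (29549, 29973), (29550, 30216), (29551, 28567), (29552, 28568), (29553, 30287), (29554, 30288), (29555, 30289), (29556, 30222), (29557, 28572), (29558, 29886), (29559, 28575), (29560, 30293),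 (29561, 30224), (29562, 29562), (29563, 28578), (29564, 30298), (29565, 30146), (29566, 28581), (29567, 30300)]
    ⟨e3 q29504 (flp_b L819025) q29927, e3 q29505 L814910 q28685, e3 q29506 L814914 q28520, e3 q29507 (flp_b L823219) q30248, e3 q29508 L814941 q28688, e3 q29509 L814949 q28523, e3 q29510 (flp_b L823253) q30252, e3 q29511 L814966 q28704, e3 q29512 L814976 q28527, e3 q29513 L814986 q28714, e3 q29514 L814990 q28530, e3 q29515 L815004 q28769, e3 q29516 L815020 q28845, e3 q29517 L815024 q28535, e3 q29518 (flp_b L823291) q30256, e3 q29519 (flp_b L822296) q30165, e3 q29520 L815057 q28538, e3 q29521 (flp_b L823309) q30258, e3 q29522 (flp_b L822816) q30213, e3 q29523 L815080 q28541, e3 q29524 (flp_b L823337) q30262, e3 q29525 L815103 q28552, e3 q29526 L815107 q28543, e3 q29527 (flp_b L823370) q30265, e3 q29528 (flp_b L823380) q30266, e3 q29529 L815141 q28763, e3 q29530 L815155 q28729, e3 q29531 L815181 q28755, e3 q29532 (flp_b L818456) q29889, e3 q29533 L815195 q28550, e3 q29534 (flp_b L823428) q30270, e3 q29535 (flp_b L823436)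 q30271, e3 q29536 (flp_b L823358) q30264, e3 q29537 L815230 q28554, e3 q29538 L815236 q28555, e3 q29539 (flp_b L823462) q30274, e3 q29540 (flp_b L823476) q30275, e3 q29541 L815268 q28718, e3 q29542 L815291 q28825, e3 q29543 L815295 q28559, e3 q29544 L815319 q28797, e3 q29545 (flp_b L818307) q29878, e3 q29546 L815333 q28563, e3 q29547 (flp_b L823522) q30279, e3 q29548 (flp_b L823532) q30280, e3 q29549 (flp_b L819729) q29973, e3 q29550 (flp_b L822853) q30216, e3 q29551 L815371 q28567, e3 q29552 L815377 q28568, e3 q29553 (flp_b L823585) q30287, e3 q29554 (flp_b L823595) q30288, e3 q29555 (flp_b L823605) q30289, e3 q29556 (flp_b L822923) q30222, e3 q29557 L815411 q28572, e3 q29558 (flp_b L818407) q29886, e3 q29559 L815431 q28575, e3 q29560 (flp_b L823636) q30293, e3 q29561 (flp_b L822951) q30224, e3 q29562 L815452 q29562, e3 q29563 L815455 q28578, e3 q29564 (flp_b L823676) q30298, e3 q29565 (flp_b L822095) q30146, e3 q29566 L815482 q28581, e3 q29567 (flp_b L823694) q30300, trivial⟩ (by decide +kernel)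

theorem ce_b_462 : ∀ r, r < 64 → sm gb (Qf (29568 + r)) = Qf (tab Gen.b (29568 + r)) :=
  edges_tab (sm gb) Qf (tab Gen.b) 29568 [(29568, 30227), (29569, 28584), (29570, 30303), (29571, 28986), (29572, 29897), (29573, 28589), (29574, 30305), (29575, 30229), (29576, 28592), (29577, 28593), (29578, 30309), (29579, 30233), (29580, 28616), (29581, 28596), (29582, 30313), (29583, 28782), (29584, 29901), (29585, 28605), (29586, 30315), (29587, 29913), (29588, 28608), (29589, 30317), (29590, 29944), (29591, 30235), (29592, 28620), (29593, 28612), (29594, 30308), (29595, 30091), (29596, 30320), (29597, 30321), (29598, 30115), (29599, 28625), (29600, 30324), (29601, 30236), (29602, 28628), (29603, 28629), (29604, 28948), (29605, 30148), (29606, 28634), (29607, 30238), (29608, 29608), (29609, 28637), (29610, 30017), (29611, 30116), (29612, 28642), (29613, 30334), (29614, 28955), (29615, 30240), (29616, 28646), (29617, 30337), (29618, 29867), (29619, 28649), (29620, 30340), (29621, 30242), (29622, 28653), (29623, 28654), (29624, 30343),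 (29625, 30344), (29626, 30244), (29627, 28657), (29628, 30348), (29629, 29923), (29630, 28660), (29631, 30245)]
    ⟨e3 q29568 (flp_b L822972) q30227, e3 q29569 L815511 q28584, e3 q29570 (flp_b L823721) q30303, e3 q29571 L815550 q28986, e3 q29572 (flp_b L818584) q29897, e3 q29573 L815566 q28589, e3 q29574 (flp_b L823749) q30305, e3 q29575 (flp_b L823002) q30229, e3 q29576 L815598 q28592, e3 q29577 L815608 q28593, e3 q29578 (flp_b L823793) q30309, e3 q29579 (flp_b L823040) q30233, e3 q29580 L815642 q28616, e3 q29581 L815648 q28596, e3 q29582 (flp_b L823835) q30313, e3 q29583 L815682 q28782, e3 q29584 (flp_b L818638) q29901, e3 q29585 L815696 q28605, e3 q29586 (flp_b L823861) q30315, e3 q29587 (flp_b L818804) q29913, e3 q29588 L815734 q28608, e3 q29589 (flp_b L823885) q30317, e3 q29590 (flp_b L819270) q29944, e3 q29591 (flp_b L823064) q30235, e3 q29592 L815780 q28620, e3 q29593 L815792 q28612, e3 q29594 (flp_b L823787) q30308, e3 q29595 (flp_b L821404) q30091, e3 q29596 (flp_b L823921) q30320, e3 q29597 (flp_b L823931) q30321,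 e3 q29598 (flp_b L821775) q30115, e3 q29599 L815858 q28625, e3 q29600 (flp_b L823966) q30324, e3 q29601 (flp_b L823074) q30236, e3 q29602 L815885 q28628, e3 q29603 L815893 q28629, e3 q29604 L815911 q28948, e3 q29605 (flp_b L822115) q30148, e3 q29606 L815933 q28634, e3 q29607 (flp_b L823104) q30238, e3 q29608 L815947 q29608, e3 q29609 L815950 q28637, e3 q29610 (flp_b L820279) q30017, e3 q29611 (flp_b L821793) q30116, e3 q29612 L815980 q28642, e3 q29613 (flp_b L824059) q30334, e3 q29614 L816011 q28955, e3 q29615 (flp_b L823125) q30240, e3 q29616 L816023 q28646, e3 q29617 (flp_b L824078) q30337, e3 q29618 (flp_b L818131) q29867, e3 q29619 L816050 q28649, e3 q29620 (flp_b L824109) q30340, e3 q29621 (flp_b L823151) q30242, e3 q29622 L816076 q28653, e3 q29623 L816086 q28654, e3 q29624 (flp_b L824139) q30343, e3 q29625 (flp_b L824149) q30344, e3 q29626 (flp_b L823173) q30244, e3 q29627 L816126 q28657, e3 q29628 (flp_b L824185) q30348, e3 q29629 (flp_b L818955) q29923, e3 q29630 L816158 q28660, e3 q29631 (flp_b L823187) q30245, trivial⟩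 (by decide +kernel)

theorem ce_b_463 : ∀ r, r < 64 → sm gb (Qf (29632 + r)) = Qf (tab Gen.b (29632 + r)) :=
  edges_tab (sm gb) Qf (tab Gen.b) 29632 [(29632, 30246), (29633, 28721), (29634, 28664), (29635, 30352), (29636, 30353), (29637, 30193), (29638, 28725), (29639, 28668), (29640, 28805), (29641, 30025), (29642, 28672), (29643, 28816), (29644, 28676), (29645, 30359), (29646, 30360), (29647, 29930), (29648, 28679), (29649, 30362), (29650, 30363), (29651, 29934), (29652, 28683), (29653, 28684), (29654, 30369), (29655, 30247), (29656, 28687), (29657, 30372), (29658, 30250), (29659, 28970), (29660, 29660), (29661, 28691), (29662, 28692), (29663, 30379), (29664, 30380), (29665, 28945), (29666, 28801), (29667, 28698), (29668, 29917), (29669, 28701), (29670, 29945), (29671, 30253), (29672, 28707), (29673, 29926), (29674, 29949), (29675, 28712), (29676, 28713), (29677, 30385), (29678, 30254), (29679, 28728), (29680, 29978), (29681, 30086), (29682, 30388), (29683, 28723), (29684, 30389), (29685, 28727), (29686, 30390), (29687,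 30387), (29688, 30078), (29689, 28977), (29690, 28735), (29691, 28907), (29692, 28804), (29693, 28814), (29694, 28745), (29695, 28941)]
    ⟨e3 q29632 (flp_b L823195) q30246, e3 q29633 L816182 q28721, e3 q29634 L816188 q28664, e3 q29635 (flp_b L824223) q30352, e3 q29636 L824227 q30353, e3 q29637 (flp_b L822577) q30193, e3 q29638 L816216 q28725, e3 q29639 L816226 q28668, e3 q29640 L816242 q28805, e3 q29641 (flp_b L820397) q30025, e3 q29642 L816256 q28672, e3 q29643 L816272 q28816, e3 q29644 L816276 q28676, e3 q29645 (flp_b L824286) q30359, e3 q29646 (flp_b L824294) q30360, e3 q29647 (flp_b L819079) q29930, e3 q29648 L816313 q28679, e3 q29649 (flp_b L824312) q30362, e3 q29650 (flp_b L824320) q30363, e3 q29651 (flp_b L819128) q29934, e3 q29652 L816344 q28683, e3 q29653 L816350 q28684, e3 q29654 (flp_b L824359) q30369, e3 q29655 (flp_b L823205) q30247, e3 q29656 L816371 q28687, e3 q29657 (flp_b L824378) q30372, e3 q29658 (flp_b L823242) q30250, e3 q29659 L816386 q28970, e3 q29660 L816396 q29660, e3 q29661 L816399 q28691, e3 q29662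 L816407 q28692, e3 q29663 (flp_b L824429) q30379, e3 q29664 (flp_b L824439) q30380, e3 q29665 L816435 q28945, e3 q29666 L816447 q28801, e3 q29667 L816459 q28698, e3 q29668 (flp_b L818865) q29917, e3 q29669 L816475 q28701, e3 q29670 (flp_b L819286) q29945, e3 q29671 (flp_b L823263) q30253, e3 q29672 L816503 q28707, e3 q29673 (flp_b L818999) q29926, e3 q29674 (flp_b L819350) q29949, e3 q29675 L816533 q28712, e3 q29676 (flp_b L816541) q28713, e3 q29677 (flp_b L824493) q30385, e3 q29678 (flp_b L823273) q30254, e3 q29679 L816567 q28728, e3 q29680 (flp_b L819807) q29978, e3 q29681 (flp_b L821328) q30086, e3 q29682 L824515 q30388, e3 q29683 (flp_b L816599) q28723, e3 q29684 (flp_b L824527) q30389, e3 q29685 L816621 q28727, e3 q29686 (flp_b L824537) q30390, e3 q29687 (flp_b L824511) q30387, e3 q29688 (flp_b L821191) q30078, e3 q29689 L816665 q28977, e3 q29690 L816679 q28735, e3 q29691 L816693 q28907, e3 q29692 L816707 q28804, e3 q29693 L816719 q28814, e3 q29694 L816725 q28745, e3 q29695 L816739 q28941, trivial⟩ (by decide +kernel)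

theorem ce_b_464 : ∀ r, r < 64 → sm gb (Qf (29696 + r)) = Qf (tab Gen.b (29696 + r)) :=
  edges_tab (sm gb) Qf (tab Gen.b) 29696 [(29696, 28748), (29697, 28820), (29698, 28751), (29699, 28822), (29700, 28754), (29701, 30399), (29702, 30054), (29703, 28757), (29704, 28830), (29705, 28759), (29706, 30403), (29707, 28837), (29708, 28762), (29709, 30405), (29710, 28840), (29711, 28841), (29712, 28768), (29713, 30051), (29714, 28771), (29715, 28772), (29716, 29948), (29717, 28859), (29718, 28777), (29719, 28863), (29720, 30020), (29721, 28784), (29722, 30027), (29723, 28787), (29724, 29873), (29725, 28790), (29726, 30415), (29727, 30416), (29728, 29883), (29729, 28794), (29730, 30127), (29731, 28796), (29732, 30419), (29733, 30023), (29734, 29969), (29735, 28800), (29736, 30421), (29737, 30381), (29738, 28803), (29739, 30035), (29740, 28807), (29741, 29995), (29742, 28813), (29743, 30393), (29744, 29744), (29745, 30358), (29746, 28818), (29747, 28819), (29748, 30396), (29749, 30397), (29750, 29750), (29751, 28824), (29752, 30435),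 (29753, 30277), (29754, 29974), (29755, 28829), (29756, 30437), (29757, 30402), (29758, 28832), (29759, 29979)]
    ⟨e3 q29696 L816743 q28748, e3 q29697 L816757 q28820, e3 q29698 L816769 q28751, e3 q29699 L816781 q28822, e3 q29700 L816787 q28754, e3 q29701 (flp_b L824626) q30399, e3 q29702 (flp_b L820816) q30054, e3 q29703 L816810 q28757, e3 q29704 L816828 q28830, e3 q29705 L816832 q28759, e3 q29706 (flp_b L824665) q30403, e3 q29707 L816853 q28837, e3 q29708 L816865 q28762, e3 q29709 (flp_b L824687) q30405, e3 q29710 L816889 q28840, e3 q29711 L816901 q28841, e3 q29712 L816909 q28768, e3 q29713 (flp_b L820756) q30051, e3 q29714 L816925 q28771, e3 q29715 L816931 q28772, e3 q29716 (flp_b L819332) q29948, e3 q29717 L816953 q28859, e3 q29718 L816961 q28777, e3 q29719 L816973 q28863, e3 q29720 (flp_b L820323) q30020, e3 q29721 L816991 q28784, e3 q29722 (flp_b L820431) q30027, e3 q29723 L817011 q28787, e3 q29724 (flp_b L818229) q29873, e3 q29725 L817027 q28790, e3 q29726 (flp_b L824777) q30415, e3 q29727 (flp_b L824787) q30416,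 e3 q29728 (flp_b L818371) q29883, e3 q29729 L817060 q28794, e3 q29730 (flp_b L821920) q30127, e3 q29731 L817078 q28796, e3 q29732 (flp_b L824811) q30419, e3 q29733 (flp_b L820367) q30023, e3 q29734 (flp_b L819680) q29969, e3 q29735 L817119 q28800, e3 q29736 (flp_b L824829) q30421, e3 q29737 (flp_b L824449) q30381, e3 q29738 L817146 q28803, e3 q29739 (flp_b L820539) q30035, e3 q29740 L817162 q28807, e3 q29741 (flp_b L820032) q29995, e3 q29742 L817174 q28813, e3 q29743 (flp_b L824576) q30393, e3 q29744 L817184 q29744, e3 q29745 (flp_b L824278) q30358, e3 q29746 L817191 q28818, e3 q29747 L817197 q28819, e3 q29748 (flp_b L824603) q30396, e3 q29749 (flp_b L824615) q30397, e3 q29750 L817213 q29750, e3 q29751 L817218 q28824, e3 q29752 (flp_b L824910) q30435, e3 q29753 (flp_b L823502) q30277, e3 q29754 (flp_b L819758) q29974, e3 q29755 L817247 q28829, e3 q29756 (flp_b L824924) q30437, e3 q29757 (flp_b L824657) q30402, e3 q29758 L817274 q28832, e3 q29759 (flp_b L819824) q29979, trivial⟩ (by decide +kernel)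

theorem ce_b_465 : ∀ r, r < 64 → sm gb (Qf (29760 + r)) = Qf (tab Gen.b (29760 + r)) :=
  edges_tab (sm gb) Qf (tab Gen.b) 29760 [(29760, 28835), (29761, 30441), (29762, 30404), (29763, 28839), (29764, 30406), (29765, 28852), (29766, 30255), (29767, 28847), (29768, 30057), (29769, 28975), (29770, 28855), (29771, 29999), (29772, 28858), (29773, 30409), (29774, 29774), (29775, 30004), (29776, 30055), (29777, 28892), (29778, 30060), (29779, 28870), (29780, 30451), (29781, 30452), (29782, 30170), (29783, 28874), (29784, 28875), (29785, 30176), (29786, 30064), (29787, 28879), (29788, 30457), (29789, 30458), (29790, 30150), (29791, 28883), (29792, 28884), (29793, 30068), (29794, 28887), (29795, 30203), (29796, 30153), (29797, 30108), (29798, 28903), (29799, 28896), (29800, 29986), (29801, 28902), (29802, 30463), (29803, 29803), (29804, 28922), (29805, 30206), (29806, 28918), (29807, 30070), (29808, 28921), (29809, 30331), (29810, 29810), (29811, 30034), (29812, 30201), (29813, 28928), (29814, 28951), (29815, 28932), (29816, 30204),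 (29817, 29817), (29818, 28979), (29819, 29819), (29820, 28943), (29821, 30395), (29822, 30401), (29823, 30189)]
    ⟨e3 q29760 L817290 q28835, e3 q29761 (flp_b L824957) q30441, e3 q29762 (flp_b L824677) q30404, e3 q29763 L817312 q28839, e3 q29764 (flp_b L824699) q30406, e3 q29765 L817324 q28852, e3 q29766 (flp_b L823279) q30255, e3 q29767 L817342 q28847, e3 q29768 (flp_b L820864) q30057, e3 q29769 L817356 q28975, e3 q29770 L817364 q28855, e3 q29771 (flp_b L820073) q29999, e3 q29772 L817378 q28858, e3 q29773 (flp_b L824723) q30409, e3 q29774 L817388 q29774, e3 q29775 (flp_b L820127) q30004, e3 q29776 (flp_b L820824) q30055, e3 q29777 L817405 q28892, e3 q29778 (flp_b L820926) q30060, e3 q29779 L817419 q28870, e3 q29780 (flp_b L825020) q30451, e3 q29781 (flp_b L825028) q30452, e3 q29782 (flp_b L822348) q30170, e3 q29783 L817450 q28874, e3 q29784 L817456 q28875, e3 q29785 (flp_b L822426) q30176, e3 q29786 (flp_b L820989) q30064, e3 q29787 L817480 q28879, e3 q29788 (flp_b L825061) q30457, e3 q29789 (flp_b L825071) q30458, e3 q29790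 (flp_b L822139) q30150, e3 q29791 L817511 q28883, e3 q29792 L817521 q28884, e3 q29793 (flp_b L821044) q30068, e3 q29794 L817537 q28887, e3 q29795 (flp_b L822689) q30203, e3 q29796 (flp_b L822183) q30153, e3 q29797 (flp_b L821651) q30108, e3 q29798 L817563 q28903, e3 q29799 L817571 q28896, e3 q29800 (flp_b L819923) q29986, e3 q29801 L817585 q28902, e3 q29802 (flp_b L825114) q30463, e3 q29803 L817595 q29803, e3 q29804 L817600 q28922, e3 q29805 (flp_b L822718) q30206, e3 q29806 L817610 q28918, e3 q29807 (flp_b L821066) q30070, e3 q29808 L817628 q28921, e3 q29809 (flp_b L824028) q30331, e3 q29810 L817644 q29810, e3 q29811 (flp_b L820519) q30034, e3 q29812 (flp_b L822665) q30201, e3 q29813 L817663 q28928, e3 q29814 L817671 q28951, e3 q29815 L817681 q28932, e3 q29816 (flp_b L822701) q30204, e3 q29817 L817691 q29817, e3 q29818 L817696 q28979, e3 q29819 L817700 q29819, e3 q29820 L817705 q28943, e3 q29821 (flp_b L824589) q30395, e3 q29822 (flp_b L824645) q30401, e3 q29823 (flp_b L822533) q30189, trivial⟩ (by decide +kernel)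

theorem ce_b_466 : ∀ r, r < 64 → sm gb (Qf (29824 + r)) = Qf (tab Gen.b (29824 + r)) :=
  edges_tab (sm gb) Qf (tab Gen.b) 29824 [(29824, 30326), (29825, 28950), (29826, 30475), (29827, 29827), (29828, 30169), (29829, 30030), (29830, 28957), (29831, 30484), (29832, 29912), (29833, 28960), (29834, 30487), (29835, 29904), (29836, 28962), (29837, 30489), (29838, 29908), (29839, 28966), (29840, 30018), (29841, 28969), (29842, 30375), (29843, 29843), (29844, 29894), (29845, 30445), (29846, 29846), (29847, 30391), (29848, 29848), (29849, 30497), (29850, 30208), (29851, 29851), (29852, 29921), (29853, 30056), (29854, 29942), (29855, 28990), (29856, 29939), (29857, 29384), (29858, 29410), (29859, 29002), (29860, 30502), (29861, 29317), (29862, 29406), (29863, 29010), (29864, 29174), (29865, 29012), (29866, 30505), (29867, 29618), (29868, 29015), (29869, 30508), (29870, 30509), (29871, 29029), (29872, 29143), (29873, 29724), (29874, 29021), (29875, 30513), (29876, 30514), (29877, 29353), (29878, 29545), (29879, 29024), (29880, 30518),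 (29881, 30519), (29882, 29348), (29883, 29728), (29884, 29028), (29885, 30524), (29886, 29558), (29887, 29032)]
    ⟨e3 q29824 (flp_b L823986) q30326, e3 q29825 L817737 q28950, e3 q29826 (flp_b L825191) q30475, e3 q29827 L817753 q29827, e3 q29828 (flp_b L822334) q30169, e3 q29829 (flp_b L820471) q30030, e3 q29830 L817768 q28957, e3 q29831 (flp_b L825242) q30484, e3 q29832 (flp_b L818788) q29912, e3 q29833 L817787 q28960, e3 q29834 (flp_b L825263) q30487, e3 q29835 (flp_b L818692) q29904, e3 q29836 L817809 q28962, e3 q29837 (flp_b L825281) q30489, e3 q29838 (flp_b L818743) q29908, e3 q29839 L817834 q28966, e3 q29840 (flp_b L820297) q30018, e3 q29841 L817848 q28969, e3 q29842 (flp_b L824397) q30375, e3 q29843 L817858 q29843, e3 q29844 (flp_b L818526) q29894, e3 q29845 (flp_b L824980) q30445, e3 q29846 L817879 q29846, e3 q29847 (flp_b L824549) q30391, e3 q29848 L817890 q29848, e3 q29849 L825325 q30497, e3 q29850 (flp_b L822748) q30208, e3 q29851 L817901 q29851, e3 q29852 (flp_b L818927) q29921, e3 q29853 (flp_b L820844) q30056,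 e3 q29854 (flp_b L819240) q29942, e3 q29855 L817930 q28990, e3 q29856 (flp_b L819196) q29939, e3 q29857 L817946 q29384, e3 q29858 L817966 q29410, e3 q29859 L817982 q29002, e3 q29860 (flp_b L825363) q30502, e3 q29861 L818028 q29317, e3 q29862 L818038 q29406, e3 q29863 L818052 q29010, e3 q29864 L818082 q29174, e3 q29865 L818086 q29012, e3 q29866 (flp_b L825417) q30505, e3 q29867 L818131 q29618, e3 q29868 L818135 q29015, e3 q29869 (flp_b L825464) q30508, e3 q29870 (flp_b L825480) q30509, e3 q29871 L818181 q29029, e3 q29872 L818199 q29143, e3 q29873 L818229 q29724, e3 q29874 L818233 q29021, e3 q29875 (flp_b L825546) q30513, e3 q29876 (flp_b L825560) q30514, e3 q29877 L818278 q29353, e3 q29878 L818307 q29545, e3 q29879 L818311 q29024, e3 q29880 (flp_b L825619) q30518, e3 q29881 (flp_b L825631) q30519, e3 q29882 L818354 q29348, e3 q29883 L818371 q29728, e3 q29884 L818383 q29028, e3 q29885 (flp_b L825699) q30524, e3 q29886 L818407 q29558, e3 q29887 L818421 q29032, trivial⟩ (by decide +kernel)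

theorem ce_b_467 : ∀ r, r < 64 → sm gb (Qf (29888 + r)) = Qf (tab Gen.b (29888 + r)) :=
  edges_tab (sm gb) Qf (tab Gen.b) 29888 [(29888, 30527), (29889, 29532), (29890, 29035), (29891, 30530), (29892, 30531), (29893, 29486), (29894, 29844), (29895, 29039), (29896, 30534), (29897, 29572), (29898, 29042), (29899, 30536), (29900, 30537), (29901, 29584), (29902, 29046), (29903, 30540), (29904, 29835), (29905, 29048), (29906, 30542), (29907, 30543), (29908, 29838), (29909, 29052), (29910, 29053), (29911, 30548), (29912, 29832), (29913, 29587), (29914, 29058), (29915, 30551), (29916, 29342), (29917, 29668), (29918, 29064), (29919, 29065), (29920, 30554), (29921, 29852), (29922, 29069), (29923, 29629), (29924, 29072), (29925, 29073), (29926, 29673), (29927, 29504), (29928, 29077), (29929, 29455), (29930, 29647), (29931, 29082), (29932, 30560), (29933, 30561), (29934, 29651), (29935, 29086), (29936, 29087), (29937, 30567), (29938, 30568), (29939, 29856), (29940, 29090), (29941, 30571), (29942, 29854), (29943, 29094), (29944, 29590),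 (29945, 29670), (29946, 29098), (29947, 30574), (29948, 29716), (29949, 29674), (29950, 29103), (29951, 29403)]
    ⟨e3 q29888 (flp_b L825732) q30527, e3 q29889 L818456 q29532, e3 q29890 L818460 q29035, e3 q29891 (flp_b L825773) q30530, e3 q29892 (flp_b L825789) q30531, e3 q29893 L818509 q29486, e3 q29894 L818526 q29844, e3 q29895 L818540 q29039, e3 q29896 (flp_b L825839) q30534, e3 q29897 L818584 q29572, e3 q29898 L818588 q29042, e3 q29899 (flp_b L825871) q30536, e3 q29900 (flp_b L825887) q30537, e3 q29901 L818638 q29584, e3 q29902 L818650 q29046, e3 q29903 (flp_b L825939) q30540, e3 q29904 L818692 q29835, e3 q29905 L818696 q29048, e3 q29906 (flp_b L825969) q30542, e3 q29907 (flp_b L825983) q30543, e3 q29908 L818743 q29838, e3 q29909 L818753 q29052, e3 q29910 L818761 q29053, e3 q29911 (flp_b L826047) q30548, e3 q29912 L818788 q29832, e3 q29913 L818804 q29587, e3 q29914 L818818 q29058, e3 q29915 (flp_b L826086) q30551, e3 q29916 L818848 q29342, e3 q29917 L818865 q29668, e3 q29918 L818877 q29064, e3 q29919 L818893 q29065,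 e3 q29920 (flp_b L826138) q30554, e3 q29921 L818927 q29852, e3 q29922 L818939 q29069, e3 q29923 L818955 q29629, e3 q29924 L818967 q29072, e3 q29925 L818981 q29073, e3 q29926 L818999 q29673, e3 q29927 L819025 q29504, e3 q29928 L819029 q29077, e3 q29929 L819049 q29455, e3 q29930 L819079 q29647, e3 q29931 L819083 q29082, e3 q29932 (flp_b L826240) q30560, e3 q29933 (flp_b L826252) q30561, e3 q29934 L819128 q29651, e3 q29935 L819140 q29086, e3 q29936 L819150 q29087, e3 q29937 (flp_b L826335) q30567, e3 q29938 (flp_b L826349) q30568, e3 q29939 L819196 q29856, e3 q29940 L819208 q29090, e3 q29941 (flp_b L826392) q30571, e3 q29942 L819240 q29854, e3 q29943 L819252 q29094, e3 q29944 L819270 q29590, e3 q29945 L819286 q29670, e3 q29946 L819300 q29098, e3 q29947 (flp_b L826444) q30574, e3 q29948 L819332 q29716, e3 q29949 L819350 q29674, e3 q29950 L819360 q29103, e3 q29951 L819384 q29403, trivial⟩ (by decide +kernel)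

theorem ce_b_468 : ∀ r, r < 64 → sm gb (Qf (29952 + r)) = Qf (tab Gen.b (29952 + r)) :=
  edges_tab (sm gb) Qf (tab Gen.b) 29952 [(29952, 29268), (29953, 29108), (29954, 30577), (29955, 29457), (29956, 29458), (29957, 29114), (29958, 29168), (29959, 29119), (29960, 29198), (29961, 29122), (29962, 29215), (29963, 29127), (29964, 30586), (29965, 29241), (29966, 29336), (29967, 29132), (29968, 30589), (29969, 29734), (29970, 29135), (29971, 30591), (29972, 30592), (29973, 29549), (29974, 29754), (29975, 29138), (29976, 30596), (29977, 30597), (29978, 29680), (29979, 29759), (29980, 29142), (29981, 30601), (29982, 29374), (29983, 29145), (29984, 30603), (29985, 30604), (29986, 29800), (29987, 29149), (29988, 30608), (29989, 29152), (29990, 29151), (29991, 30609), (29992, 29154), (29993, 29155), (29994, 30612), (29995, 29741), (29996, 29159), (29997, 29160), (29998, 30616), (29999, 29771), (30000, 29163), (30001, 29164), (30002, 30621), (30003, 30622), (30004, 29775), (30005, 29167), (30006, 30580), (30007, 30007), (30008, 29170),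 (30009, 30628), (30010, 29411), (30011, 29172), (30012, 30630), (30013, 30631), (30014, 30504), (30015, 29176)]
    ⟨e3 q29952 L819402 q29268, e3 q29953 L819406 q29108, e3 q29954 (flp_b L826490) q30577, e3 q29955 L819441 q29457, e3 q29956 L819459 q29458, e3 q29957 L819475 q29114, e3 q29958 L819493 q29168, e3 q29959 L819509 q29119, e3 q29960 L819527 q29198, e3 q29961 L819543 q29122, e3 q29962 L819561 q29215, e3 q29963 L819573 q29127, e3 q29964 (flp_b L826636) q30586, e3 q29965 L819602 q29241, e3 q29966 L819634 q29336, e3 q29967 L819638 q29132, e3 q29968 (flp_b L826683) q30589, e3 q29969 L819680 q29734, e3 q29970 L819684 q29135, e3 q29971 (flp_b L826713) q30591, e3 q29972 (flp_b L826727) q30592, e3 q29973 L819729 q29549, e3 q29974 L819758 q29754, e3 q29975 L819762 q29138, e3 q29976 (flp_b L826788) q30596, e3 q29977 (flp_b L826802) q30597, e3 q29978 L819807 q29680, e3 q29979 L819824 q29759, e3 q29980 L819836 q29142, e3 q29981 (flp_b L826859) q30601, e3 q29982 L819872 q29374, e3 q29983 L819876 q29145, e3 q29984 (flp_b L826885)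 q30603, e3 q29985 (flp_b L826899) q30604, e3 q29986 L819923 q29800, e3 q29987 L819935 q29149, e3 q29988 (flp_b L826949) q30608, e3 q29989 L819972 q29152, e3 q29990 L819976 q29151, e3 q29991 (flp_b L826965) q30609, e3 q29992 L820000 q29154, e3 q29993 L820010 q29155, e3 q29994 (flp_b L826999) q30612, e3 q29995 L820032 q29741, e3 q29996 L820042 q29159, e3 q29997 L820052 q29160, e3 q29998 (flp_b L827044) q30616, e3 q29999 L820073 q29771, e3 q30000 L820081 q29163, e3 q30001 L820091 q29164, e3 q30002 (flp_b L827100) q30621, e3 q30003 (flp_b L827108) q30622, e3 q30004 L820127 q29775, e3 q30005 L820133 q29167, e3 q30006 (flp_b L826543) q30580, e3 q30007 L820155 q30007, e3 q30008 L820160 q29170, e3 q30009 (flp_b L827178) q30628, e3 q30010 L820197 q29411, e3 q30011 L820201 q29172, e3 q30012 (flp_b L827208) q30630, e3 q30013 (flp_b L827220) q30631, e3 q30014 (flp_b L825401) q30504, e3 q30015 L820258 q29176, trivial⟩ (by decide +kernel)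

theorem ce_b_469 : ∀ r, r < 64 → sm gb (Qf (30016 + r)) = Qf (tab Gen.b (30016 + r)) :=
  edges_tab (sm gb) Qf (tab Gen.b) 30016 [(30016, 30636), (30017, 29610), (30018, 29840), (30019, 29181), (30020, 29720), (30021, 29420), (30022, 29186), (30023, 29733), (30024, 29189), (30025, 29641), (30026, 29192), (30027, 29722), (30028, 29197), (30029, 30582), (30030, 29829), (30031, 30031), (30032, 29201), (30033, 30649), (30034, 29811), (30035, 29739), (30036, 29208), (30037, 29391), (30038, 29210), (30039, 30652), (30040, 29415), (30041, 29213), (30042, 29214), (30043, 30656), (30044, 30657), (30045, 30584), (30046, 30046), (30047, 29217), (30048, 30661), (30049, 29220), (30050, 29234), (30051, 29713), (30052, 29396), (30053, 29426), (30054, 29702), (30055, 29776), (30056, 29853), (30057, 29768), (30058, 29272), (30059, 29276), (30060, 29778), (30061, 29255), (30062, 30663), (30063, 30664), (30064, 29786), (30065, 29258), (30066, 30666), (30067, 30667), (30068, 29793), (30069, 29262), (30070, 29807), (30071, 29265), (30072, 29388),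 (30073, 30576), (30074, 29270), (30075, 29271), (30076, 30674), (30077, 29367), (30078, 29688), (30079, 29366)]
    ⟨e3 q30016 (flp_b L827285) q30636, e3 q30017 L820279 q29610, e3 q30018 L820297 q29840, e3 q30019 L820311 q29181, e3 q30020 L820323 q29720, e3 q30021 L820339 q29420, e3 q30022 L820353 q29186, e3 q30023 L820367 q29733, e3 q30024 L820381 q29189, e3 q30025 L820397 q29641, e3 q30026 L820413 q29192, e3 q30027 L820431 q29722, e3 q30028 L820447 q29197, e3 q30029 (flp_b L826578) q30582, e3 q30030 L820471 q29829, e3 q30031 L820489 q30031, e3 q30032 L820492 q29201, e3 q30033 (flp_b L827464) q30649, e3 q30034 L820519 q29811, e3 q30035 L820539 q29739, e3 q30036 L820549 q29208, e3 q30037 L820577 q29391, e3 q30038 L820581 q29210, e3 q30039 (flp_b L827510) q30652, e3 q30040 L820616 q29415, e3 q30041 L820626 q29213, e3 q30042 L820634 q29214, e3 q30043 (flp_b L827561) q30656, e3 q30044 (flp_b L827575) q30657, e3 q30045 (flp_b L826613) q30584, e3 q30046 L820690 q30046, e3 q30047 L820695 q29217, e3 q30048 (flp_b L827618) q30661,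 e3 q30049 L820716 q29220, e3 q30050 L820736 q29234, e3 q30051 L820756 q29713, e3 q30052 L820770 q29396, e3 q30053 L820790 q29426, e3 q30054 L820816 q29702, e3 q30055 L820824 q29776, e3 q30056 L820844 q29853, e3 q30057 L820864 q29768, e3 q30058 L820876 q29272, e3 q30059 L820894 q29276, e3 q30060 L820926 q29778, e3 q30061 L820930 q29255, e3 q30062 (flp_b L827644) q30663, e3 q30063 (flp_b L827658) q30664, e3 q30064 L820989 q29786, e3 q30065 L820993 q29258, e3 q30066 (flp_b L827690) q30666, e3 q30067 (flp_b L827706) q30667, e3 q30068 L821044 q29793, e3 q30069 L821054 q29262, e3 q30070 L821066 q29807, e3 q30071 L821080 q29265, e3 q30072 L821094 q29388, e3 q30073 (flp_b L826474) q30576, e3 q30074 L821126 q29270, e3 q30075 L821138 q29271, e3 q30076 (flp_b L827808) q30674, e3 q30077 L821173 q29367, e3 q30078 L821191 q29688, e3 q30079 L821211 q29366, trivial⟩ (by decide +kernel)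

theorem ce_b_470 : ∀ r, r < 64 → sm gb (Qf (30080 + r)) = Qf (tab Gen.b (30080 + r)) :=
  edges_tab (sm gb) Qf (tab Gen.b) 30080 [(30080, 29333), (30081, 29452), (30082, 29344), (30083, 29290), (30084, 30676), (30085, 30677), (30086, 29681), (30087, 29349), (30088, 29293), (30089, 30680), (30090, 30681), (30091, 29595), (30092, 29354), (30093, 29297), (30094, 30686), (30095, 29358), (30096, 29301), (30097, 30689), (30098, 29397), (30099, 29378), (30100, 29307), (30101, 29308), (30102, 30693), (30103, 29383), (30104, 29385), (30105, 29314), (30106, 30696), (30107, 29436), (30108, 29797), (30109, 29432), (30110, 29433), (30111, 29323), (30112, 30698), (30113, 29437), (30114, 29327), (30115, 29598), (30116, 29611), (30117, 29331), (30118, 30701), (30119, 30672), (30120, 29335), (30121, 30588), (30122, 29338), (30123, 29339), (30124, 30706), (30125, 30707), (30126, 30708), (30127, 29730), (30128, 30675), (30129, 29346), (30130, 29347), (30131, 30712), (30132, 30713), (30133, 30679), (30134, 29351), (30135, 29352), (30136, 30719),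 (30137, 30720), (30138, 30721), (30139, 30685), (30140, 29356), (30141, 30725), (30142, 30687), (30143, 30143)]
    ⟨e3 q30080 L821243 q29333, e3 q30081 L821249 q29452, e3 q30082 L821279 q29344, e3 q30083 L821283 q29290, e3 q30084 (flp_b L827842) q30676, e3 q30085 (flp_b L827856) q30677, e3 q30086 L821328 q29681, e3 q30087 L821357 q29349, e3 q30088 L821361 q29293, e3 q30089 (flp_b L827902) q30680, e3 q30090 (flp_b L827914) q30681, e3 q30091 L821404 q29595, e3 q30092 L821421 q29354, e3 q30093 L821435 q29297, e3 q30094 (flp_b L827984) q30686, e3 q30095 L821463 q29358, e3 q30096 L821477 q29301, e3 q30097 (flp_b L828023) q30689, e3 q30098 L821502 q29397, e3 q30099 L821520 q29378, e3 q30100 L821530 q29307, e3 q30101 L821538 q29308, e3 q30102 (flp_b L828068) q30693, e3 q30103 L821567 q29383, e3 q30104 L821585 q29385, e3 q30105 L821601 q29314, e3 q30106 (flp_b L828109) q30696, e3 q30107 L821633 q29436, e3 q30108 L821651 q29797, e3 q30109 L821671 q29432, e3 q30110 L821689 q29433, e3 q30111 L821705 q29323, e3 q30112 (flp_b L828141)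 q30698, e3 q30113 L821737 q29437, e3 q30114 L821749 q29327, e3 q30115 L821775 q29598, e3 q30116 L821793 q29611, e3 q30117 L821797 q29331, e3 q30118 (flp_b L828187) q30701, e3 q30119 (flp_b L827777) q30672, e3 q30120 L821836 q29335, e3 q30121 (flp_b L826669) q30588, e3 q30122 L821854 q29338, e3 q30123 L821864 q29339, e3 q30124 (flp_b L828234) q30706, e3 q30125 (flp_b L828248) q30707, e3 q30126 (flp_b L828256) q30708, e3 q30127 L821920 q29730, e3 q30128 (flp_b L827828) q30675, e3 q30129 L821932 q29346, e3 q30130 L821940 q29347, e3 q30131 (flp_b L828291) q30712, e3 q30132 (flp_b L828297) q30713, e3 q30133 (flp_b L827888) q30679, e3 q30134 L821967 q29351, e3 q30135 L821977 q29352, e3 q30136 (flp_b L828358) q30719, e3 q30137 (flp_b L828368) q30720, e3 q30138 (flp_b L828378) q30721, e3 q30139 (flp_b L827972) q30685, e3 q30140 L822019 q29356, e3 q30141 (flp_b L828424) q30725, e3 q30142 (flp_b L828000) q30687, e3 q30143 L822055 q30143, trivial⟩ (by decide +kernel)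

theorem ce_b_471 : ∀ r, r < 64 → sm gb (Qf (30144 + r)) = Qf (tab Gen.b (30144 + r)) :=
  edges_tab (sm gb) Qf (tab Gen.b) 30144 [(30144, 29360), (30145, 30729), (30146, 29565), (30147, 29362), (30148, 29605), (30149, 29365), (30150, 29790), (30151, 29370), (30152, 29371), (30153, 29796), (30154, 30602), (30155, 29376), (30156, 29377), (30157, 30739), (30158, 30690), (30159, 30691), (30160, 30160), (30161, 29381), (30162, 30744), (30163, 30695), (30164, 29387), (30165, 29519), (30166, 29390), (30167, 30651), (30168, 29393), (30169, 29828), (30170, 29782), (30171, 29401), (30172, 29402), (30173, 30503), (30174, 29405), (30175, 30501), (30176, 29785), (30177, 30629), (30178, 29413), (30179, 29414), (30180, 30756), (30181, 30757), (30182, 30653), (30183, 30654), (30184, 30184), (30185, 29418), (30186, 29419), (30187, 30764), (30188, 30765), (30189, 29823), (30190, 30640), (30191, 29423), (30192, 29424), (30193, 29637), (30194, 30557), (30195, 29429), (30196, 29430), (30197, 30770), (30198, 30697), (30199, 29435), (30200, 30699),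 (30201, 29812), (30202, 29443), (30203, 29795), (30204, 29816), (30205, 30205), (30206, 29805), (30207, 29450)]
    ⟨e3 q30144 L822060 q29360, e3 q30145 (flp_b L828467) q30729, e3 q30146 L822095 q29565, e3 q30147 L822099 q29362, e3 q30148 L822115 q29605, e3 q30149 L822127 q29365, e3 q30150 L822139 q29790, e3 q30151 L822151 q29370, e3 q30152 L822165 q29371, e3 q30153 L822183 q29796, e3 q30154 (flp_b L826871) q30602, e3 q30155 L822209 q29376, e3 q30156 L822217 q29377, e3 q30157 (flp_b L828590) q30739, e3 q30158 (flp_b L828037) q30690, e3 q30159 (flp_b L828047) q30691, e3 q30160 L822246 q30160, e3 q30161 L822249 q29381, e3 q30162 (flp_b L828632) q30744, e3 q30163 (flp_b L828095) q30695, e3 q30164 L822272 q29387, e3 q30165 L822296 q29519, e3 q30166 L822300 q29390, e3 q30167 (flp_b L827494) q30651, e3 q30168 L822324 q29393, e3 q30169 L822334 q29828, e3 q30170 L822348 q29782, e3 q30171 L822358 q29401, e3 q30172 L822368 q29402, e3 q30173 (flp_b L825383) q30503, e3 q30174 L822396 q29405, e3 q30175 (flp_b L825347) q30501, e3 q30176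 L822426 q29785, e3 q30177 (flp_b L827194) q30629, e3 q30178 L822448 q29413, e3 q30179 L822456 q29414, e3 q30180 (flp_b L828763) q30756, e3 q30181 (flp_b L828771) q30757, e3 q30182 (flp_b L827528) q30653, e3 q30183 (flp_b L827538) q30654, e3 q30184 L822492 q30184, e3 q30185 L822495 q29418, e3 q30186 L822501 q29419, e3 q30187 (flp_b L828822) q30764, e3 q30188 (flp_b L828834) q30765, e3 q30189 L822533 q29823, e3 q30190 (flp_b L827333) q30640, e3 q30191 L822551 q29423, e3 q30192 L822563 q29424, e3 q30193 L822577 q29637, e3 q30194 (flp_b L826188) q30557, e3 q30195 L822601 q29429, e3 q30196 L822613 q29430, e3 q30197 (flp_b L828900) q30770, e3 q30198 (flp_b L828127) q30697, e3 q30199 L822645 q29435, e3 q30200 (flp_b L828159) q30699, e3 q30201 L822665 q29812, e3 q30202 L822675 q29443, e3 q30203 L822689 q29795, e3 q30204 L822701 q29816, e3 q30205 L822713 q30205, e3 q30206 L822718 q29805, e3 q30207 L822732 q29450, trivial⟩ (by decide +kernel)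

theorem ce_b_472 : ∀ r, r < 64 → sm gb (Qf (30208 + r)) = Qf (tab Gen.b (30208 + r)) :=
  edges_tab (sm gb) Qf (tab Gen.b) 30208 [(30208, 29850), (30209, 30209), (30210, 30558), (30211, 30578), (30212, 30212), (30213, 29522), (30214, 29462), (30215, 30781), (30216, 29550), (30217, 29465), (30218, 29466), (30219, 30785), (30220, 30786), (30221, 30787), (30222, 29556), (30223, 29470), (30224, 29561), (30225, 30225), (30226, 29473), (30227, 29568), (30228, 29476), (30229, 29575), (30230, 29479), (30231, 29480), (30232, 30796), (30233, 29579), (30234, 29483), (30235, 29591), (30236, 29601), (30237, 29489), (30238, 29607), (30239, 30239), (30240, 29615), (30241, 29494), (30242, 29621), (30243, 29497), (30244, 29626), (30245, 29631), (30246, 29632), (30247, 29655), (30248, 29507), (30249, 30806), (30250, 29658), (30251, 30251), (30252, 29510), (30253, 29671), (30254, 29678), (30255, 29766), (30256, 29518), (30257, 30746), (30258, 29521), (30259, 30814), (30260, 30779), (30261, 30261), (30262, 29524), (30263, 30818), (30264, 29536),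 (30265, 29527), (30266, 29528), (30267, 30821), (30268, 30822), (30269, 30529), (30270, 29534), (30271, 29535)]
    ⟨e3 q30208 L822748 q29850, e3 q30209 L822764 q30209, e3 q30210 (flp_b L826206) q30558, e3 q30211 (flp_b L826508) q30578, e3 q30212 L822811 q30212, e3 q30213 L822816 q29522, e3 q30214 L822828 q29462, e3 q30215 (flp_b L829037) q30781, e3 q30216 L822853 q29550, e3 q30217 L822863 q29465, e3 q30218 L822871 q29466, e3 q30219 (flp_b L829082) q30785, e3 q30220 (flp_b L829094) q30786, e3 q30221 (flp_b L829106) q30787, e3 q30222 L822923 q29556, e3 q30223 L822935 q29470, e3 q30224 L822951 q29561, e3 q30225 L822959 q30225, e3 q30226 L822962 q29473, e3 q30227 L822972 q29568, e3 q30228 L822986 q29476, e3 q30229 L823002 q29575, e3 q30230 L823010 q29479, e3 q30231 L823020 q29480, e3 q30232 (flp_b L829210) q30796, e3 q30233 L823040 q29579, e3 q30234 L823052 q29483, e3 q30235 L823064 q29591, e3 q30236 L823074 q29601, e3 q30237 L823088 q29489, e3 q30238 L823104 q29607, e3 q30239 L823120 q30239, e3 q30240 L823125 q29615, e3 q30241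 L823139 q29494, e3 q30242 L823151 q29621, e3 q30243 L823161 q29497, e3 q30244 L823173 q29626, e3 q30245 L823187 q29631, e3 q30246 L823195 q29632, e3 q30247 L823205 q29655, e3 q30248 L823219 q29507, e3 q30249 (flp_b L829329) q30806, e3 q30250 L823242 q29658, e3 q30251 L823250 q30251, e3 q30252 L823253 q29510, e3 q30253 L823263 q29671, e3 q30254 L823273 q29678, e3 q30255 L823279 q29766, e3 q30256 L823291 q29518, e3 q30257 (flp_b L828654) q30746, e3 q30258 L823309 q29521, e3 q30259 (flp_b L829400) q30814, e3 q30260 (flp_b L829014) q30779, e3 q30261 L823334 q30261, e3 q30262 L823337 q29524, e3 q30263 (flp_b L829435) q30818, e3 q30264 L823358 q29536, e3 q30265 L823370 q29527, e3 q30266 L823380 q29528, e3 q30267 (flp_b L829469) q30821, e3 q30268 (flp_b L829483) q30822, e3 q30269 (flp_b L825759) q30529, e3 q30270 L823428 q29534, e3 q30271 L823436 q29535, trivial⟩ (by decide +kernel)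

theorem ce_b_473 : ∀ r, r < 64 → sm gb (Qf (30272 + r)) = Qf (tab Gen.b (30272 + r)) :=
  edges_tab (sm gb) Qf (tab Gen.b) 30272 [(30272, 30819), (30273, 30820), (30274, 29539), (30275, 29540), (30276, 30828), (30277, 29753), (30278, 30517), (30279, 29547), (30280, 29548), (30281, 30832), (30282, 30833), (30283, 30834), (30284, 30782), (30285, 30783), (30286, 30286), (30287, 29553), (30288, 29554), (30289, 29555), (30290, 30788), (30291, 30525), (30292, 30292), (30293, 29560), (30294, 30844), (30295, 30845), (30296, 30790), (30297, 30297), (30298, 29564), (30299, 30730), (30300, 29567), (30301, 30792), (30302, 30302), (30303, 29570), (30304, 30535), (30305, 29574), (30306, 30794), (30307, 30795), (30308, 29594), (30309, 29578), (30310, 30858), (30311, 30552), (30312, 30797), (30313, 29582), (30314, 30539), (30315, 29586), (30316, 30550), (30317, 29589), (30318, 30573), (30319, 30619), (30320, 29596), (30321, 29597), (30322, 30864), (30323, 30650), (30324, 29600), (30325, 30798), (30326, 29824), (30327, 30327), (30328, 30731),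 (30329, 30329), (30330, 30869), (30331, 29809), (30332, 30332), (30333, 30700), (30334, 29613), (30335, 30801)]
    ⟨e3 q30272 (flp_b L829447) q30819, e3 q30273 (flp_b L829459) q30820, e3 q30274 L823462 q29539, e3 q30275 L823476 q29540, e3 q30276 (flp_b L829554) q30828, e3 q30277 L823502 q29753, e3 q30278 (flp_b L825605) q30517, e3 q30279 L823522 q29547, e3 q30280 L823532 q29548, e3 q30281 (flp_b L829593) q30832, e3 q30282 (flp_b L829603) q30833, e3 q30283 (flp_b L829613) q30834, e3 q30284 (flp_b L829051) q30782, e3 q30285 (flp_b L829061) q30783, e3 q30286 L823582 q30286, e3 q30287 L823585 q29553, e3 q30288 L823595 q29554, e3 q30289 L823605 q29555, e3 q30290 (flp_b L829120) q30788, e3 q30291 (flp_b L825711) q30525, e3 q30292 L823631 q30292, e3 q30293 L823636 q29560, e3 q30294 (flp_b L829704) q30844, e3 q30295 L829714 q30845, e3 q30296 (flp_b L829142) q30790, e3 q30297 L823669 q30297, e3 q30298 L823676 q29564, e3 q30299 (flp_b L828481) q30730, e3 q30300 L823694 q29567, e3 q30301 (flp_b L829159) q30792, e3 q30302 L823718 q30302,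 e3 q30303 L823721 q29570, e3 q30304 (flp_b L825857) q30535, e3 q30305 L823749 q29574, e3 q30306 (flp_b L829190) q30794, e3 q30307 (flp_b L829202) q30795, e3 q30308 L823787 q29594, e3 q30309 L823793 q29578, e3 q30310 (flp_b L829855) q30858, e3 q30311 (flp_b L826104) q30552, e3 q30312 (flp_b L829220) q30797, e3 q30313 L823835 q29582, e3 q30314 (flp_b L825925) q30539, e3 q30315 L823861 q29586, e3 q30316 (flp_b L826074) q30550, e3 q30317 L823885 q29589, e3 q30318 (flp_b L826430) q30573, e3 q30319 (flp_b L827081) q30619, e3 q30320 L823921 q29596, e3 q30321 L823931 q29597, e3 q30322 (flp_b L829927) q30864, e3 q30323 (flp_b L827478) q30650, e3 q30324 L823966 q29600, e3 q30325 (flp_b L829232) q30798, e3 q30326 L823986 q29824, e3 q30327 L824006 q30327, e3 q30328 (flp_b L828497) q30731, e3 q30329 L824017 q30329, e3 q30330 L829970 q30869, e3 q30331 L824028 q29809, e3 q30332 L824038 q30332, e3 q30333 (flp_b L828173) q30700, e3 q30334 L824059 q29613, e3 q30335 (flp_b L829273) q30801, trivial⟩ (by decide +kernel)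

theorem ce_b_474 : ∀ r, r < 64 → sm gb (Qf (30336 + r)) = Qf (tab Gen.b (30336 + r)) :=
  edges_tab (sm gb) Qf (tab Gen.b) 30336 [(30336, 30336), (30337, 29617), (30338, 30876), (30339, 30507), (30340, 29620), (30341, 30803), (30342, 30624), (30343, 29624), (30344, 29625), (30345, 30880), (30346, 30881), (30347, 30768), (30348, 29628), (30349, 30556), (30350, 30883), (30351, 30769), (30352, 29635), (30353, 29636), (30354, 30885), (30355, 30766), (30356, 30642), (30357, 30357), (30358, 29745), (30359, 29645), (30360, 29646), (30361, 30559), (30362, 29649), (30363, 29650), (30364, 30893), (30365, 30894), (30366, 30564), (30367, 30565), (30368, 30368), (30369, 29654), (30370, 30804), (30371, 30371), (30372, 29657), (30373, 30901), (30374, 30902), (30375, 29842), (30376, 30808), (30377, 30377), (30378, 30378), (30379, 29663), (30380, 29664), (30381, 29737), (30382, 30553), (30383, 30614), (30384, 30575), (30385, 29677), (30386, 30909), (30387, 29687), (30388, 29682), (30389, 29684), (30390, 29686), (30391, 29847), (30392, 30392),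 (30393, 29743), (30394, 30394), (30395, 29821), (30396, 29748), (30397, 29749), (30398, 30398), (30399, 29701)]
    ⟨e3 q30336 L824075 q30336, e3 q30337 L824078 q29617, e3 q30338 (flp_b L830031) q30876, e3 q30339 (flp_b L825450) q30507, e3 q30340 L824109 q29620, e3 q30341 (flp_b L829296) q30803, e3 q30342 (flp_b L827139) q30624, e3 q30343 L824139 q29624, e3 q30344 L824149 q29625, e3 q30345 (flp_b L830069) q30880, e3 q30346 (flp_b L830077) q30881, e3 q30347 (flp_b L828872) q30768, e3 q30348 L824185 q29628, e3 q30349 (flp_b L826172) q30556, e3 q30350 L830097 q30883, e3 q30351 (flp_b L828886) q30769, e3 q30352 L824223 q29635, e3 q30353 (flp_b L824227) q29636, e3 q30354 (flp_b L830119) q30885, e3 q30355 (flp_b L828846) q30766, e3 q30356 (flp_b L827363) q30642, e3 q30357 L824271 q30357, e3 q30358 L824278 q29745, e3 q30359 L824286 q29645, e3 q30360 L824294 q29646, e3 q30361 (flp_b L826226) q30559, e3 q30362 L824312 q29649, e3 q30363 L824320 q29650, e3 q30364 (flp_b L830191) q30893, e3 q30365 (flp_b L830199) q30894, e3 q30366 (flp_b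 L826298) q30564, e3 q30367 (flp_b L826310) q30565, e3 q30368 L824356 q30368, e3 q30369 L824359 q29654, e3 q30370 (flp_b L829308) q30804, e3 q30371 L824375 q30371, e3 q30372 L824378 q29657, e3 q30373 (flp_b L830241) q30901, e3 q30374 L830249 q30902, e3 q30375 L824397 q29842, e3 q30376 (flp_b L829347) q30808, e3 q30377 L824413 q30377, e3 q30378 L824422 q30378, e3 q30379 L824429 q29663, e3 q30380 L824439 q29664, e3 q30381 L824449 q29737, e3 q30382 (flp_b L826122) q30553, e3 q30383 (flp_b L827025) q30614, e3 q30384 (flp_b L826462) q30575, e3 q30385 L824493 q29677, e3 q30386 (flp_b L830312) q30909, e3 q30387 L824511 q29687, e3 q30388 (flp_b L824515) q29682, e3 q30389 L824527 q29684, e3 q30390 L824537 q29686, e3 q30391 L824549 q29847, e3 q30392 L824569 q30392, e3 q30393 L824576 q29743, e3 q30394 L824584 q30394, e3 q30395 L824589 q29821, e3 q30396 L824603 q29748, e3 q30397 L824615 q29749, e3 q30398 L824623 q30398, e3 q30399 L824626 q29701, trivial⟩ (by decide +kernel)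

theorem ce_b_475 : ∀ r, r < 64 → sm gb (Qf (30400 + r)) = Qf (tab Gen.b (30400 + r)) :=
  edges_tab (sm gb) Qf (tab Gen.b) 30400 [(30400, 30916), (30401, 29822), (30402, 29757), (30403, 29706), (30404, 29762), (30405, 29709), (30406, 29764), (30407, 30555), (30408, 30572), (30409, 29773), (30410, 30410), (30411, 30533), (30412, 30644), (30413, 30413), (30414, 30512), (30415, 29726), (30416, 29727), (30417, 30523), (30418, 30641), (30419, 29732), (30420, 30590), (30421, 29736), (30422, 30905), (30423, 30423), (30424, 30626), (30425, 30425), (30426, 30613), (30427, 30427), (30428, 30932), (30429, 30887), (30430, 30888), (30431, 30431), (30432, 30934), (30433, 30914), (30434, 30434), (30435, 29752), (30436, 30595), (30437, 29756), (30438, 30917), (30439, 30439), (30440, 30600), (30441, 29761), (30442, 30919), (30443, 30810), (30444, 30444), (30445, 29845), (30446, 30446), (30447, 30618), (30448, 30448), (30449, 30945), (30450, 30662), (30451, 29780), (30452, 29781), (30453, 30749), (30454, 30750), (30455, 30455), (30456, 30665),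 (30457, 29788), (30458, 29789), (30459, 30733), (30460, 30734), (30461, 30461), (30462, 30668), (30463, 29802)]
    ⟨e3 q30400 (flp_b L830371) q30916, e3 q30401 L824645 q29822, e3 q30402 L824657 q29757, e3 q30403 L824665 q29706, e3 q30404 L824677 q29762, e3 q30405 L824687 q29709, e3 q30406 L824699 q29764, e3 q30407 (flp_b L826156) q30555, e3 q30408 (flp_b L826412) q30572, e3 q30409 L824723 q29773, e3 q30410 L824739 q30410, e3 q30411 (flp_b L825825) q30533, e3 q30412 (flp_b L827398) q30644, e3 q30413 L824766 q30413, e3 q30414 (flp_b L825532) q30512, e3 q30415 L824777 q29726, e3 q30416 L824787 q29727, e3 q30417 (flp_b L825689) q30523, e3 q30418 (flp_b L827347) q30641, e3 q30419 L824811 q29732, e3 q30420 (flp_b L826699) q30590, e3 q30421 L824829 q29736, e3 q30422 (flp_b L830274) q30905, e3 q30423 L824851 q30423, e3 q30424 (flp_b L827161) q30626, e3 q30425 L824858 q30425, e3 q30426 (flp_b L827013) q30613, e3 q30427 L824871 q30427, e3 q30428 L830509 q30932, e3 q30429 (flp_b L830141) q30887, e3 q30430 (flp_b L830151) q30888, e3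 q30431 L824892 q30431, e3 q30432 L830518 q30934, e3 q30433 (flp_b L830356) q30914, e3 q30434 L824905 q30434, e3 q30435 L824910 q29752, e3 q30436 (flp_b L826774) q30595, e3 q30437 L824924 q29756, e3 q30438 (flp_b L830381) q30917, e3 q30439 L824946 q30439, e3 q30440 (flp_b L826849) q30600, e3 q30441 L824957 q29761, e3 q30442 (flp_b L830402) q30919, e3 q30443 (flp_b L829364) q30810, e3 q30444 L824973 q30444, e3 q30445 L824980 q29845, e3 q30446 L824992 q30446, e3 q30447 (flp_b L827069) q30618, e3 q30448 L825003 q30448, e3 q30449 L830591 q30945, e3 q30450 (flp_b L827630) q30662, e3 q30451 L825020 q29780, e3 q30452 L825028 q29781, e3 q30453 (flp_b L828689) q30749, e3 q30454 (flp_b L828701) q30750, e3 q30455 L825050 q30455, e3 q30456 (flp_b L827676) q30665, e3 q30457 L825061 q29788, e3 q30458 L825071 q29789, e3 q30459 (flp_b L828520) q30733, e3 q30460 (flp_b L828536) q30734, e3 q30461 L825103 q30461, e3 q30462 (flp_b L827726) q30668, e3 q30463 L825114 q29802, trivial⟩ (by decide +kernel)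

theorem ce_b_476 : ∀ r, r < 64 → sm gb (Qf (30464 + r)) = Qf (tab Gen.b (30464 + r)) :=
  edges_tab (sm gb) Qf (tab Gen.b) 30464 [(30464, 30464), (30465, 30606), (30466, 30466), (30467, 30956), (30468, 30775), (30469, 30469), (30470, 30669), (30471, 30471), (30472, 30959), (30473, 30772), (30474, 30474), (30475, 29826), (30476, 30476), (30477, 30962), (30478, 30963), (30479, 30853), (30480, 30480), (30481, 30965), (30482, 30647), (30483, 30483), (30484, 29831), (30485, 30969), (30486, 30546), (30487, 29834), (30488, 30541), (30489, 29837), (30490, 30545), (30491, 30491), (30492, 30638), (30493, 30493), (30494, 30975), (30495, 30976), (30496, 30977), (30497, 29849), (30498, 30978), (30499, 30499), (30500, 30570), (30501, 30175), (30502, 29860), (30503, 30173), (30504, 30014), (30505, 29866), (30506, 30983), (30507, 30339), (30508, 29869), (30509, 29870), (30510, 30986), (30511, 30987), (30512, 30414), (30513, 29875), (30514, 29876), (30515, 30991), (30516, 30992), (30517, 30278), (30518, 29880), (30519, 29881), (30520, 30998),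 (30521, 30999), (30522, 31000), (30523, 30417), (30524, 29885), (30525, 30291), (30526, 30526), (30527, 29888)]
    ⟨e3 q30464 L825122 q30464, e3 q30465 (flp_b L826932) q30606, e3 q30466 L825133 q30466, e3 q30467 L830672 q30956, e3 q30468 (flp_b L828957) q30775, e3 q30469 L825152 q30469, e3 q30470 (flp_b L827738) q30669, e3 q30471 L825167 q30471, e3 q30472 L830693 q30959, e3 q30473 (flp_b L828924) q30772, e3 q30474 L825186 q30474, e3 q30475 L825191 q29826, e3 q30476 L825199 q30476, e3 q30477 L830712 q30962, e3 q30478 L830715 q30963, e3 q30479 (flp_b L829786) q30853, e3 q30480 L825224 q30480, e3 q30481 L830728 q30965, e3 q30482 (flp_b L827439) q30647, e3 q30483 L825237 q30483, e3 q30484 L825242 q29831, e3 q30485 (flp_b L830756) q30969, e3 q30486 (flp_b L826026) q30546, e3 q30487 L825263 q29834, e3 q30488 (flp_b L825955) q30541, e3 q30489 L825281 q29837, e3 q30490 (flp_b L826016) q30545, e3 q30491 L825297 q30491, e3 q30492 (flp_b L827310) q30638, e3 q30493 L825308 q30493, e3 q30494 L830797 q30975, e3 q30495 L830800 q30976,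 e3 q30496 L830805 q30977, e3 q30497 (flp_b L825325) q29849, e3 q30498 (flp_b L830813) q30978, e3 q30499 L825336 q30499, e3 q30500 (flp_b L826380) q30570, e3 q30501 L825347 q30175, e3 q30502 L825363 q29860, e3 q30503 L825383 q30173, e3 q30504 L825401 q30014, e3 q30505 L825417 q29866, e3 q30506 (flp_b L830872) q30983, e3 q30507 L825450 q30339, e3 q30508 L825464 q29869, e3 q30509 L825480 q29870, e3 q30510 (flp_b L830922) q30986, e3 q30511 (flp_b L830940) q30987, e3 q30512 L825532 q30414, e3 q30513 L825546 q29875, e3 q30514 L825560 q29876, e3 q30515 (flp_b L831005) q30991, e3 q30516 (flp_b L831017) q30992, e3 q30517 L825605 q30278, e3 q30518 L825619 q29880, e3 q30519 L825631 q29881, e3 q30520 (flp_b L831110) q30998, e3 q30521 (flp_b L831122) q30999, e3 q30522 (flp_b L831134) q31000, e3 q30523 L825689 q30417, e3 q30524 L825699 q29885, e3 q30525 L825711 q30291, e3 q30526 L825727 q30526, e3 q30527 L825732 q29888, trivial⟩ (by decide +kernel)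

theorem ce_b_477 : ∀ r, r < 64 → sm gb (Qf (30528 + r)) = Qf (tab Gen.b (30528 + r)) :=
  edges_tab (sm gb) Qf (tab Gen.b) 30528 [(30528, 31007), (30529, 30269), (30530, 29891), (30531, 29892), (30532, 31011), (30533, 30411), (30534, 29896), (30535, 30304), (30536, 29899), (30537, 29900), (30538, 31015), (30539, 30314), (30540, 29903), (30541, 30488), (30542, 29906), (30543, 29907), (30544, 31020), (30545, 30490), (30546, 30486), (30547, 30547), (30548, 29911), (30549, 31025), (30550, 30316), (30551, 29915), (30552, 30311), (30553, 30382), (30554, 29920), (30555, 30407), (30556, 30349), (30557, 30194), (30558, 30210), (30559, 30361), (30560, 29932), (30561, 29933), (30562, 31031), (30563, 31032), (30564, 30366), (30565, 30367), (30566, 30566), (30567, 29937), (30568, 29938), (30569, 31039), (30570, 30500), (30571, 29941), (30572, 30408), (30573, 30318), (30574, 29947), (30575, 30384), (30576, 30073), (30577, 29954), (30578, 30211), (30579, 30579), (30580, 30006), (30581, 30581), (30582, 30029), (30583, 30583), (30584, 30045),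 (30585, 30585), (30586, 29964), (30587, 31050), (30588, 30121), (30589, 29968), (30590, 30420), (30591, 29971)]
    ⟨e3 q30528 (flp_b L831231) q31007, e3 q30529 L825759 q30269, e3 q30530 L825773 q29891, e3 q30531 L825789 q29892, e3 q30532 (flp_b L831298) q31011, e3 q30533 L825825 q30411, e3 q30534 L825839 q29896, e3 q30535 L825857 q30304, e3 q30536 L825871 q29899, e3 q30537 L825887 q29900, e3 q30538 (flp_b L831372) q31015, e3 q30539 L825925 q30314, e3 q30540 L825939 q29903, e3 q30541 L825955 q30488, e3 q30542 L825969 q29906, e3 q30543 L825983 q29907, e3 q30544 (flp_b L831455) q31020, e3 q30545 L826016 q30490, e3 q30546 L826026 q30486, e3 q30547 L826042 q30547, e3 q30548 L826047 q29911, e3 q30549 (flp_b L831523) q31025, e3 q30550 L826074 q30316, e3 q30551 L826086 q29915, e3 q30552 L826104 q30311, e3 q30553 L826122 q30382, e3 q30554 L826138 q29920, e3 q30555 L826156 q30407, e3 q30556 L826172 q30349, e3 q30557 L826188 q30194, e3 q30558 L826206 q30210, e3 q30559 L826226 q30361, e3 q30560 L826240 q29932, e3 q30561 L826252 q29933,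 e3 q30562 (flp_b L831616) q31031, e3 q30563 (flp_b L831630) q31032, e3 q30564 L826298 q30366, e3 q30565 L826310 q30367, e3 q30566 L826330 q30566, e3 q30567 L826335 q29937, e3 q30568 L826349 q29938, e3 q30569 (flp_b L831733) q31039, e3 q30570 L826380 q30500, e3 q30571 L826392 q29941, e3 q30572 L826412 q30408, e3 q30573 L826430 q30318, e3 q30574 L826444 q29947, e3 q30575 L826462 q30384, e3 q30576 L826474 q30073, e3 q30577 L826490 q29954, e3 q30578 L826508 q30211, e3 q30579 L826536 q30579, e3 q30580 L826543 q30006, e3 q30581 L826571 q30581, e3 q30582 L826578 q30029, e3 q30583 L826606 q30583, e3 q30584 L826613 q30045, e3 q30585 L826633 q30585, e3 q30586 L826636 q29964, e3 q30587 (flp_b L831917) q31050, e3 q30588 L826669 q30121, e3 q30589 L826683 q29968, e3 q30590 L826699 q30420, e3 q30591 L826713 q29971, trivial⟩ (by decide +kernel)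

theorem ce_b_478 : ∀ r, r < 64 → sm gb (Qf (30592 + r)) = Qf (tab Gen.b (30592 + r)) :=
  edges_tab (sm gb) Qf (tab Gen.b) 30592 [(30592, 29972), (30593, 31055), (30594, 31056), (30595, 30436), (30596, 29976), (30597, 29977), (30598, 31060), (30599, 31061), (30600, 30440), (30601, 29981), (30602, 30154), (30603, 29984), (30604, 29985), (30605, 31066), (30606, 30465), (30607, 30607), (30608, 29988), (30609, 29991), (30610, 31012), (30611, 31040), (30612, 29994), (30613, 30426), (30614, 30383), (30615, 30615), (30616, 29998), (30617, 31074), (30618, 30447), (30619, 30319), (30620, 30620), (30621, 30002), (30622, 30003), (30623, 31080), (30624, 30342), (30625, 31081), (30626, 30424), (30627, 30627), (30628, 30009), (30629, 30177), (30630, 30012), (30631, 30013), (30632, 31088), (30633, 31089), (30634, 30981), (30635, 30635), (30636, 30016), (30637, 31093), (30638, 30492), (30639, 30639), (30640, 30190), (30641, 30418), (30642, 30356), (30643, 30643), (30644, 30412), (30645, 30645), (30646, 31097), (30647, 30482), (30648, 30648),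 (30649, 30033), (30650, 30323), (30651, 30167), (30652, 30039), (30653, 30182), (30654, 30183), (30655, 30655)]
    ⟨e3 q30592 L826727 q29972, e3 q30593 (flp_b L831996) q31055, e3 q30594 (flp_b L832010) q31056, e3 q30595 L826774 q30436, e3 q30596 L826788 q29976, e3 q30597 L826802 q29977, e3 q30598 (flp_b L832073) q31060, e3 q30599 (flp_b L832087) q31061, e3 q30600 L826849 q30440, e3 q30601 L826859 q29981, e3 q30602 L826871 q30154, e3 q30603 L826885 q29984, e3 q30604 L826899 q29985, e3 q30605 (flp_b L832164) q31066, e3 q30606 L826932 q30465, e3 q30607 L826944 q30607, e3 q30608 L826949 q29988, e3 q30609 L826965 q29991, e3 q30610 (flp_b L831318) q31012, e3 q30611 (flp_b L831749) q31040, e3 q30612 L826999 q29994, e3 q30613 L827013 q30426, e3 q30614 L827025 q30383, e3 q30615 L827041 q30615, e3 q30616 L827044 q29998, e3 q30617 (flp_b L832258) q31074, e3 q30618 L827069 q30447, e3 q30619 L827081 q30319, e3 q30620 L827097 q30620, e3 q30621 L827100 q30002, e3 q30622 L827108 q30003, e3 q30623 (flp_b L832330) q31080, e3 q30624 L827139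 q30342, e3 q30625 L832342 q31081, e3 q30626 L827161 q30424, e3 q30627 L827169 q30627, e3 q30628 L827178 q30009, e3 q30629 L827194 q30177, e3 q30630 L827208 q30012, e3 q30631 L827220 q30013, e3 q30632 (flp_b L832439) q31088, e3 q30633 (flp_b L832453) q31089, e3 q30634 (flp_b L830843) q30981, e3 q30635 L827280 q30635, e3 q30636 L827285 q30016, e3 q30637 (flp_b L832498) q31093, e3 q30638 L827310 q30492, e3 q30639 L827326 q30639, e3 q30640 L827333 q30190, e3 q30641 L827347 q30418, e3 q30642 L827363 q30356, e3 q30643 L827391 q30643, e3 q30644 L827398 q30412, e3 q30645 L827426 q30645, e3 q30646 L832556 q31097, e3 q30647 L827439 q30482, e3 q30648 L827451 q30648, e3 q30649 L827464 q30033, e3 q30650 L827478 q30323, e3 q30651 L827494 q30167, e3 q30652 L827510 q30039, e3 q30653 L827528 q30182, e3 q30654 L827538 q30183, e3 q30655 L827556 q30655, trivial⟩ (by decide +kernel)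

theorem ce_b_479 : ∀ r, r < 64 → sm gb (Qf (30656 + r)) = Qf (tab Gen.b (30656 + r)) :=
  edges_tab (sm gb) Qf (tab Gen.b) 30656 [(30656, 30043), (30657, 30044), (30658, 31108), (30659, 31048), (30660, 30660), (30661, 30048), (30662, 30450), (30663, 30062), (30664, 30063), (30665, 30456), (30666, 30066), (30667, 30067), (30668, 30462), (30669, 30470), (30670, 30670), (30671, 31042), (30672, 30119), (30673, 30673), (30674, 30076), (30675, 30128), (30676, 30084), (30677, 30085), (30678, 31125), (30679, 30133), (30680, 30089), (30681, 30090), (30682, 31129), (30683, 31130), (30684, 31131), (30685, 30139), (30686, 30094), (30687, 30142), (30688, 30688), (30689, 30097), (30690, 30158), (30691, 30159), (30692, 30692), (30693, 30102), (30694, 31138), (30695, 30163), (30696, 30106), (30697, 30198), (30698, 30112), (30699, 30200), (30700, 30333), (30701, 30118), (30702, 31121), (30703, 30703), (30704, 31027), (30705, 31051), (30706, 30124), (30707, 30125), (30708, 30126), (30709, 31122), (30710, 31123), (30711, 30711), (30712, 30131),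 (30713, 30132), (30714, 31151), (30715, 31152), (30716, 31126), (30717, 31127), (30718, 30718), (30719, 30136)]
    ⟨e3 q30656 L827561 q30043, e3 q30657 L827575 q30044, e3 q30658 L832709 q31108, e3 q30659 (flp_b L831888) q31048, e3 q30660 L827609 q30660, e3 q30661 L827618 q30048, e3 q30662 L827630 q30450, e3 q30663 L827644 q30062, e3 q30664 L827658 q30063, e3 q30665 L827676 q30456, e3 q30666 L827690 q30066, e3 q30667 L827706 q30067, e3 q30668 L827726 q30462, e3 q30669 L827738 q30470, e3 q30670 L827758 q30670, e3 q30671 (flp_b L831787) q31042, e3 q30672 L827777 q30119, e3 q30673 L827801 q30673, e3 q30674 L827808 q30076, e3 q30675 L827828 q30128, e3 q30676 L827842 q30084, e3 q30677 L827856 q30085, e3 q30678 (flp_b L832963) q31125, e3 q30679 L827888 q30133, e3 q30680 L827902 q30089, e3 q30681 L827914 q30090, e3 q30682 (flp_b L833022) q31129, e3 q30683 (flp_b L833034) q31130, e3 q30684 (flp_b L833046) q31131, e3 q30685 L827972 q30139, e3 q30686 L827984 q30094, e3 q30687 L828000 q30142, e3 q30688 L828018 q30688, e3 q30689 L828023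 q30097, e3 q30690 L828037 q30158, e3 q30691 L828047 q30159, e3 q30692 L828065 q30692, e3 q30693 L828068 q30102, e3 q30694 (flp_b L833141) q31138, e3 q30695 L828095 q30163, e3 q30696 L828109 q30106, e3 q30697 L828127 q30198, e3 q30698 L828141 q30112, e3 q30699 L828159 q30200, e3 q30700 L828173 q30333, e3 q30701 L828187 q30118, e3 q30702 (flp_b L832898) q31121, e3 q30703 L828211 q30703, e3 q30704 (flp_b L831555) q31027, e3 q30705 (flp_b L831935) q31051, e3 q30706 L828234 q30124, e3 q30707 L828248 q30125, e3 q30708 L828256 q30126, e3 q30709 (flp_b L832918) q31122, e3 q30710 (flp_b L832934) q31123, e3 q30711 L828288 q30711, e3 q30712 L828291 q30131, e3 q30713 L828297 q30132, e3 q30714 (flp_b L833291) q31151, e3 q30715 (flp_b L833305) q31152, e3 q30716 (flp_b L832981) q31126, e3 q30717 (flp_b L832995) q31127, e3 q30718 L828355 q30718, e3 q30719 L828358 q30136, trivial⟩ (by decide +kernel)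

theorem ce_b_480 : ∀ r, r < 64 → sm gb (Qf (30720 + r)) = Qf (tab Gen.b (30720 + r)) :=
  edges_tab (sm gb) Qf (tab Gen.b) 30720 [(30720, 30137), (30721, 30138), (30722, 31159), (30723, 31160), (30724, 31132), (30725, 30141), (30726, 31162), (30727, 31134), (30728, 30728), (30729, 30145), (30730, 30299), (30731, 30328), (30732, 30732), (30733, 30459), (30734, 30460), (30735, 30735), (30736, 31063), (30737, 31064), (30738, 30738), (30739, 30157), (30740, 31171), (30741, 31172), (30742, 31136), (30743, 30743), (30744, 30162), (30745, 31139), (30746, 30257), (30747, 31101), (30748, 30748), (30749, 30453), (30750, 30454), (30751, 30751), (30752, 30980), (30753, 31085), (30754, 31086), (30755, 30755), (30756, 30180), (30757, 30181), (30758, 31183), (30759, 31184), (30760, 31104), (30761, 31105), (30762, 30762), (30763, 30763), (30764, 30187), (30765, 30188), (30766, 30355), (30767, 31014), (30768, 30347), (30769, 30351), (30770, 30197), (30771, 31140), (30772, 30473), (30773, 30773), (30774, 31193), (30775, 30468), (30776, 30776),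 (30777, 31195), (30778, 31196), (30779, 30260), (30780, 30780), (30781, 30215), (30782, 30284), (30783, 30285)]
    ⟨e3 q30720 L828368 q30137, e3 q30721 L828378 q30138, e3 q30722 (flp_b L833377) q31159, e3 q30723 (flp_b L833391) q31160, e3 q30724 (flp_b L833064) q31132, e3 q30725 L828424 q30141, e3 q30726 L833419 q31162, e3 q30727 (flp_b L833094) q31134, e3 q30728 L828458 q30728, e3 q30729 L828467 q30145, e3 q30730 L828481 q30299, e3 q30731 L828497 q30328, e3 q30732 L828513 q30732, e3 q30733 L828520 q30459, e3 q30734 L828536 q30460, e3 q30735 L828562 q30735, e3 q30736 (flp_b L832117) q31063, e3 q30737 (flp_b L832133) q31064, e3 q30738 L828587 q30738, e3 q30739 L828590 q30157, e3 q30740 (flp_b L833516) q31171, e3 q30741 L833528 q31172, e3 q30742 (flp_b L833116) q31136, e3 q30743 L828623 q30743, e3 q30744 L828632 q30162, e3 q30745 (flp_b L833155) q31139, e3 q30746 L828654 q30257, e3 q30747 (flp_b L832606) q31101, e3 q30748 L828682 q30748, e3 q30749 L828689 q30453, e3 q30750 L828701 q30454, e3 q30751 L828721 q30751, e3 q30752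 (flp_b L830823) q30980, e3 q30753 (flp_b L832396) q31085, e3 q30754 (flp_b L832410) q31086, e3 q30755 L828760 q30755, e3 q30756 L828763 q30180, e3 q30757 L828771 q30181, e3 q30758 (flp_b L833624) q31183, e3 q30759 L833636 q31184, e3 q30760 (flp_b L832651) q31104, e3 q30761 (flp_b L832667) q31105, e3 q30762 L828810 q30762, e3 q30763 L828815 q30763, e3 q30764 L828822 q30187, e3 q30765 L828834 q30188, e3 q30766 L828846 q30355, e3 q30767 (flp_b L831354) q31014, e3 q30768 L828872 q30347, e3 q30769 L828886 q30351, e3 q30770 L828900 q30197, e3 q30771 (flp_b L833173) q31140, e3 q30772 L828924 q30473, e3 q30773 L828944 q30773, e3 q30774 L833727 q31193, e3 q30775 L828957 q30468, e3 q30776 L828981 q30776, e3 q30777 L833752 q31195, e3 q30778 L833765 q31196, e3 q30779 L829014 q30260, e3 q30780 L829032 q30780, e3 q30781 L829037 q30215, e3 q30782 L829051 q30284, e3 q30783 L829061 q30285, trivial⟩ (by decide +kernel)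

theorem ce_b_481 : ∀ r, r < 64 → sm gb (Qf (30784 + r)) = Qf (tab Gen.b (30784 + r)) :=
  edges_tab (sm gb) Qf (tab Gen.b) 30784 [(30784, 30784), (30785, 30219), (30786, 30220), (30787, 30221), (30788, 30290), (30789, 31206), (30790, 30296), (30791, 30791), (30792, 30301), (30793, 30793), (30794, 30306), (30795, 30307), (30796, 30232), (30797, 30312), (30798, 30325), (30799, 30799), (30800, 31211), (30801, 30335), (30802, 30802), (30803, 30341), (30804, 30370), (30805, 30805), (30806, 30249), (30807, 31216), (30808, 30376), (30809, 30809), (30810, 30443), (30811, 30811), (30812, 31099), (30813, 30813), (30814, 30259), (30815, 31222), (30816, 31198), (30817, 30817), (30818, 30263), (30819, 30272), (30820, 30273), (30821, 30267), (30822, 30268), (30823, 31008), (30824, 31009), (30825, 30825), (30826, 31226), (30827, 31227), (30828, 30276), (30829, 30995), (30830, 30996), (30831, 30831), (30832, 30281), (30833, 30282), (30834, 30283), (30835, 31236), (30836, 31201), (30837, 31202), (30838, 31203), (30839, 30839), (30840, 30840),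 (30841, 31239), (30842, 31005), (30843, 30843), (30844, 30294), (30845, 30295), (30846, 31243), (30847, 31076)]
    ⟨e3 q30784 L829077 q30784, e3 q30785 L829082 q30219, e3 q30786 L829094 q30220, e3 q30787 L829106 q30221, e3 q30788 L829120 q30290, e3 q30789 L833895 q31206, e3 q30790 L829142 q30296, e3 q30791 L829150 q30791, e3 q30792 L829159 q30301, e3 q30793 L829183 q30793, e3 q30794 L829190 q30306, e3 q30795 L829202 q30307, e3 q30796 L829210 q30232, e3 q30797 L829220 q30312, e3 q30798 L829232 q30325, e3 q30799 L829256 q30799, e3 q30800 L833952 q31211, e3 q30801 L829273 q30335, e3 q30802 L829289 q30802, e3 q30803 L829296 q30341, e3 q30804 L829308 q30370, e3 q30805 L829324 q30805, e3 q30806 L829329 q30249, e3 q30807 L834010 q31216, e3 q30808 L829347 q30376, e3 q30809 L829355 q30809, e3 q30810 L829364 q30443, e3 q30811 L829380 q30811, e3 q30812 (flp_b L832579) q31099, e3 q30813 L829397 q30813, e3 q30814 L829400 q30259, e3 q30815 L834064 q31222, e3 q30816 (flp_b L833796) q31198, e3 q30817 L829426 q30817, e3 q30818 L829435 q30263,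 e3 q30819 L829447 q30272, e3 q30820 L829459 q30273, e3 q30821 L829469 q30267, e3 q30822 L829483 q30268, e3 q30823 (flp_b L831247) q31008, e3 q30824 (flp_b L831265) q31009, e3 q30825 L829521 q30825, e3 q30826 (flp_b L834102) q31226, e3 q30827 (flp_b L834118) q31227, e3 q30828 L829554 q30276, e3 q30829 (flp_b L831069) q30995, e3 q30830 (flp_b L831083) q30996, e3 q30831 L829590 q30831, e3 q30832 L829593 q30281, e3 q30833 L829603 q30282, e3 q30834 L829613 q30283, e3 q30835 L834210 q31236, e3 q30836 (flp_b L833833) q31201, e3 q30837 (flp_b L833847) q31202, e3 q30838 (flp_b L833861) q31203, e3 q30839 L829655 q30839, e3 q30840 L829664 q30840, e3 q30841 L834235 q31239, e3 q30842 (flp_b L831210) q31005, e3 q30843 L829693 q30843, e3 q30844 L829704 q30294, e3 q30845 (flp_b L829714) q30295, e3 q30846 (flp_b L834284) q31243, e3 q30847 (flp_b L832284) q31076, trivial⟩ (by decide +kernel)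

theorem ce_b_482 : ∀ r, r < 64 → sm gb (Qf (30848 + r)) = Qf (tab Gen.b (30848 + r)) :=
  edges_tab (sm gb) Qf (tab Gen.b) 30848 [(30848, 30848), (30849, 30849), (30850, 31077), (30851, 30851), (30852, 31248), (30853, 30479), (30854, 30854), (30855, 31013), (30856, 30984), (30857, 31209), (30858, 30310), (30859, 31058), (30860, 31016), (30861, 31026), (30862, 31036), (30863, 31041), (30864, 30322), (30865, 31083), (30866, 30866), (30867, 31253), (30868, 31254), (30869, 30330), (30870, 31255), (30871, 31141), (30872, 30872), (30873, 31257), (30874, 31187), (30875, 30875), (30876, 30338), (30877, 30985), (30878, 31003), (30879, 31191), (30880, 30345), (30881, 30346), (30882, 31053), (30883, 30350), (30884, 31161), (30885, 30354), (30886, 31263), (30887, 30429), (30888, 30430), (30889, 30889), (30890, 31028), (30891, 31029), (30892, 30892), (30893, 30364), (30894, 30365), (30895, 31270), (30896, 31035), (30897, 30897), (30898, 31272), (30899, 31214), (30900, 30900), (30901, 30373), (30902, 30374), (30903, 31276), (30904, 31277),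 (30905, 30422), (30906, 31072), (30907, 30907), (30908, 30908), (30909, 30386), (30910, 31145), (30911, 31280)]
    ⟨e3 q30848 L829735 q30848, e3 q30849 L829746 q30849, e3 q30850 (flp_b L832294) q31077, e3 q30851 L829773 q30851, e3 q30852 L834331 q31248, e3 q30853 L829786 q30479, e3 q30854 L829802 q30854, e3 q30855 (flp_b L831336) q31013, e3 q30856 (flp_b L830890) q30984, e3 q30857 (flp_b L833930) q31209, e3 q30858 L829855 q30310, e3 q30859 (flp_b L832044) q31058, e3 q30860 (flp_b L831392) q31016, e3 q30861 (flp_b L831537) q31026, e3 q30862 (flp_b L831689) q31036, e3 q30863 (flp_b L831769) q31041, e3 q30864 L829927 q30322, e3 q30865 (flp_b L832365) q31083, e3 q30866 L829953 q30866, e3 q30867 L834388 q31253, e3 q30868 L834395 q31254, e3 q30869 (flp_b L829970) q30330, e3 q30870 (flp_b L834403) q31255, e3 q30871 (flp_b L833191) q31141, e3 q30872 L830001 q30872, e3 q30873 L834423 q31257, e3 q30874 (flp_b L833659) q31187, e3 q30875 L830022 q30875, e3 q30876 L830031 q30338, e3 q30877 (flp_b L830908) q30985, e3 q30878 (flp_b L831186)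 q31003, e3 q30879 (flp_b L833705) q31191, e3 q30880 L830069 q30345, e3 q30881 L830077 q30346, e3 q30882 (flp_b L831967) q31053, e3 q30883 (flp_b L830097) q30350, e3 q30884 (flp_b L833407) q31161, e3 q30885 L830119 q30354, e3 q30886 L834475 q31263, e3 q30887 L830141 q30429, e3 q30888 L830151 q30430, e3 q30889 L830165 q30889, e3 q30890 (flp_b L831573) q31028, e3 q30891 (flp_b L831587) q31029, e3 q30892 L830188 q30892, e3 q30893 L830191 q30364, e3 q30894 L830199 q30365, e3 q30895 L834528 q31270, e3 q30896 (flp_b L831673) q31035, e3 q30897 L830219 q30897, e3 q30898 L834541 q31272, e3 q30899 (flp_b L833991) q31214, e3 q30900 L830236 q30900, e3 q30901 L830241 q30373, e3 q30902 (flp_b L830249) q30374, e3 q30903 (flp_b L834574) q31276, e3 q30904 (flp_b L834585) q31277, e3 q30905 L830274 q30422, e3 q30906 (flp_b L832243) q31072, e3 q30907 L830292 q30907, e3 q30908 L830303 q30908, e3 q30909 L830312 q30386, e3 q30910 (flp_b L833242) q31145, e3 q30911 L834609 q31280, trivial⟩ (by decide +kernel)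

theorem ce_b_483 : ∀ r, r < 64 → sm gb (Qf (30912 + r)) = Qf (tab Gen.b (30912 + r)) :=
  edges_tab (sm gb) Qf (tab Gen.b) 30912 [(30912, 31281), (30913, 31282), (30914, 30433), (30915, 30915), (30916, 30400), (30917, 30438), (30918, 30918), (30919, 30442), (30920, 31287), (30921, 31288), (30922, 30988), (30923, 30989), (30924, 30924), (30925, 31068), (30926, 30926), (30927, 31052), (30928, 30928), (30929, 31292), (30930, 31293), (30931, 31294), (30932, 30428), (30933, 31295), (30934, 30432), (30935, 31296), (30936, 31284), (30937, 30937), (30938, 31057), (30939, 30939), (30940, 31299), (30941, 31062), (30942, 31300), (30943, 31301), (30944, 31302), (30945, 30449), (30946, 31113), (30947, 31114), (30948, 30948), (30949, 31304), (30950, 31116), (30951, 31117), (30952, 30952), (30953, 31306), (30954, 31307), (30955, 31308), (30956, 30467), (30957, 31309), (30958, 31310), (30959, 30472), (30960, 31311), (30961, 31312), (30962, 30477), (30963, 30478), (30964, 31313), (30965, 30481), (30966, 31314), (30967, 31023), (30968, 30968),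 (30969, 30485), (30970, 31018), (30971, 31017), (30972, 30972), (30973, 31319), (30974, 31320), (30975, 30494)]
    ⟨e3 q30912 L834624 q31281, e3 q30913 L834631 q31282, e3 q30914 L830356 q30433, e3 q30915 L830364 q30915, e3 q30916 L830371 q30400, e3 q30917 L830381 q30438, e3 q30918 L830397 q30918, e3 q30919 L830402 q30442, e3 q30920 L834673 q31287, e3 q30921 L834684 q31288, e3 q30922 (flp_b L830960) q30988, e3 q30923 (flp_b L830976) q30989, e3 q30924 L830452 q30924, e3 q30925 (flp_b L832190) q31068, e3 q30926 L830467 q30926, e3 q30927 (flp_b L831951) q31052, e3 q30928 L830488 q30928, e3 q30929 L834721 q31292, e3 q30930 L834728 q31293, e3 q30931 L834733 q31294, e3 q30932 (flp_b L830509) q30428, e3 q30933 L834738 q31295, e3 q30934 (flp_b L830518) q30432, e3 q30935 (flp_b L834746) q31296, e3 q30936 (flp_b L834650) q31284, e3 q30937 L830535 q30937, e3 q30938 (flp_b L832028) q31057, e3 q30939 L830556 q30939, e3 q30940 L834764 q31299, e3 q30941 (flp_b L832105) q31062, e3 q30942 L834771 q31300, e3 q30943 L834776 q31301, e3 q30944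 L834785 q31302, e3 q30945 (flp_b L830591) q30449, e3 q30946 (flp_b L832764) q31113, e3 q30947 (flp_b L832780) q31114, e3 q30948 L830616 q30948, e3 q30949 L834798 q31304, e3 q30950 (flp_b L832813) q31116, e3 q30951 (flp_b L832831) q31117, e3 q30952 L830649 q30952, e3 q30953 L834813 q31306, e3 q30954 L834822 q31307, e3 q30955 L834829 q31308, e3 q30956 (flp_b L830672) q30467, e3 q30957 L834834 q31309, e3 q30958 L834841 q31310, e3 q30959 (flp_b L830693) q30472, e3 q30960 L834850 q31311, e3 q30961 L834855 q31312, e3 q30962 (flp_b L830712) q30477, e3 q30963 (flp_b L830715) q30478, e3 q30964 L834864 q31313, e3 q30965 (flp_b L830728) q30481, e3 q30966 L834871 q31314, e3 q30967 (flp_b L831498) q31023, e3 q30968 L830749 q30968, e3 q30969 L830756 q30485, e3 q30970 (flp_b L831424) q31018, e3 q30971 (flp_b L831408) q31017, e3 q30972 L830784 q30972, e3 q30973 L834907 q31319, e3 q30974 L834912 q31320, e3 q30975 (flp_b L830797) q30494, trivial⟩ (by decide +kernel)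

theorem ce_b_484 : ∀ r, r < 64 → sm gb (Qf (30976 + r)) = Qf (tab Gen.b (30976 + r)) :=
  edges_tab (sm gb) Qf (tab Gen.b) 30976 [(30976, 30495), (30977, 30496), (30978, 30498), (30979, 31321), (30980, 30752), (30981, 30634), (30982, 30982), (30983, 30506), (30984, 30856), (30985, 30877), (30986, 30510), (30987, 30511), (30988, 30922), (30989, 30923), (30990, 30990), (30991, 30515), (30992, 30516), (30993, 31331), (30994, 31332), (30995, 30829), (30996, 30830), (30997, 30997), (30998, 30520), (30999, 30521), (31000, 30522), (31001, 31339), (31002, 31340), (31003, 30878), (31004, 31341), (31005, 30842), (31006, 31006), (31007, 30528), (31008, 30823), (31009, 30824), (31010, 31010), (31011, 30532), (31012, 30610), (31013, 30855), (31014, 30767), (31015, 30538), (31016, 30860), (31017, 30971), (31018, 30970), (31019, 31019), (31020, 30544), (31021, 31351), (31022, 31352), (31023, 30967), (31024, 31024), (31025, 30549), (31026, 30861), (31027, 30704), (31028, 30890), (31029, 30891), (31030, 31030), (31031, 30562), (31032, 30563),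 (31033, 31361), (31034, 31362), (31035, 30896), (31036, 30862), (31037, 31037), (31038, 31038), (31039, 30569)]
    ⟨e3 q30976 (flp_b L830800) q30495, e3 q30977 (flp_b L830805) q30496, e3 q30978 L830813 q30498, e3 q30979 (flp_b L834920) q31321, e3 q30980 L830823 q30752, e3 q30981 L830843 q30634, e3 q30982 L830867 q30982, e3 q30983 L830872 q30506, e3 q30984 L830890 q30856, e3 q30985 L830908 q30877, e3 q30986 L830922 q30510, e3 q30987 L830940 q30511, e3 q30988 L830960 q30922, e3 q30989 L830976 q30923, e3 q30990 L831000 q30990, e3 q30991 L831005 q30515, e3 q30992 L831017 q30516, e3 q30993 (flp_b L835076) q31331, e3 q30994 (flp_b L835092) q31332, e3 q30995 L831069 q30829, e3 q30996 L831083 q30830, e3 q30997 L831105 q30997, e3 q30998 L831110 q30520, e3 q30999 L831122 q30521, e3 q31000 L831134 q30522, e3 q31001 (flp_b L835194) q31339, e3 q31002 (flp_b L835210) q31340, e3 q31003 L831186 q30878, e3 q31004 L835224 q31341, e3 q31005 L831210 q30842, e3 q31006 L831220 q31006, e3 q31007 L831231 q30528, e3 q31008 L831247 q30823, e3 q31009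 L831265 q30824, e3 q31010 L831293 q31010, e3 q31011 L831298 q30532, e3 q31012 L831318 q30610, e3 q31013 L831336 q30855, e3 q31014 L831354 q30767, e3 q31015 L831372 q30538, e3 q31016 L831392 q30860, e3 q31017 L831408 q30971, e3 q31018 L831424 q30970, e3 q31019 L831450 q31019, e3 q31020 L831455 q30544, e3 q31021 (flp_b L835387) q31351, e3 q31022 L835401 q31352, e3 q31023 L831498 q30967, e3 q31024 L831510 q31024, e3 q31025 L831523 q30549, e3 q31026 L831537 q30861, e3 q31027 L831555 q30704, e3 q31028 L831573 q30890, e3 q31029 L831587 q30891, e3 q31030 L831611 q31030, e3 q31031 L831616 q30562, e3 q31032 L831630 q30563, e3 q31033 (flp_b L835527) q31361, e3 q31034 L835541 q31362, e3 q31035 L831673 q30896, e3 q31036 L831689 q30862, e3 q31037 L831703 q31037, e3 q31038 L831718 q31038, e3 q31039 L831733 q30569, trivial⟩ (by decide +kernel)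

theorem ce_b_485 : ∀ r, r < 64 → sm gb (Qf (31040 + r)) = Qf (tab Gen.b (31040 + r)) :=
  edges_tab (sm gb) Qf (tab Gen.b) 31040 [(31040, 30611), (31041, 30863), (31042, 30671), (31043, 31043), (31044, 31368), (31045, 31369), (31046, 31370), (31047, 31371), (31048, 30659), (31049, 31049), (31050, 30587), (31051, 30705), (31052, 30927), (31053, 30882), (31054, 31054), (31055, 30593), (31056, 30594), (31057, 30938), (31058, 30859), (31059, 31059), (31060, 30598), (31061, 30599), (31062, 30941), (31063, 30736), (31064, 30737), (31065, 31065), (31066, 30605), (31067, 31386), (31068, 30925), (31069, 31069), (31070, 31346), (31071, 31388), (31072, 30906), (31073, 31073), (31074, 30617), (31075, 31392), (31076, 30847), (31077, 30850), (31078, 31078), (31079, 31079), (31080, 30623), (31081, 30625), (31082, 31397), (31083, 30865), (31084, 31084), (31085, 30753), (31086, 30754), (31087, 31087), (31088, 30632), (31089, 30633), (31090, 31404), (31091, 31323), (31092, 31092), (31093, 30637), (31094, 31408), (31095, 31409), (31096, 31410),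 (31097, 30646), (31098, 31411), (31099, 30812), (31100, 31100), (31101, 30747), (31102, 31102), (31103, 31414)]
    ⟨e3 q31040 L831749 q30611, e3 q31041 L831769 q30863, e3 q31042 L831787 q30671, e3 q31043 L831815 q31043, e3 q31044 L835635 q31368, e3 q31045 L835654 q31369, e3 q31046 L835673 q31370, e3 q31047 L835692 q31371, e3 q31048 L831888 q30659, e3 q31049 L831902 q31049, e3 q31050 L831917 q30587, e3 q31051 L831935 q30705, e3 q31052 L831951 q30927, e3 q31053 L831967 q30882, e3 q31054 L831991 q31054, e3 q31055 L831996 q30593, e3 q31056 L832010 q30594, e3 q31057 L832028 q30938, e3 q31058 L832044 q30859, e3 q31059 L832068 q31059, e3 q31060 L832073 q30598, e3 q31061 L832087 q30599, e3 q31062 L832105 q30941, e3 q31063 L832117 q30736, e3 q31064 L832133 q30737, e3 q31065 L832159 q31065, e3 q31066 L832164 q30605, e3 q31067 L835933 q31386, e3 q31068 L832190 q30925, e3 q31069 L832204 q31069, e3 q31070 (flp_b L835302) q31346, e3 q31071 L835960 q31388, e3 q31072 L832243 q30906, e3 q31073 L832251 q31073, e3 q31074 L832258 q30617, e3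 q31075 L836010 q31392, e3 q31076 L832284 q30847, e3 q31077 L832294 q30850, e3 q31078 L832308 q31078, e3 q31079 L832315 q31079, e3 q31080 L832330 q30623, e3 q31081 (flp_b L832342) q30625, e3 q31082 (flp_b L836079) q31397, e3 q31083 L832365 q30865, e3 q31084 L832379 q31084, e3 q31085 L832396 q30753, e3 q31086 L832410 q30754, e3 q31087 L832434 q31087, e3 q31088 L832439 q30632, e3 q31089 L832453 q30633, e3 q31090 L836175 q31404, e3 q31091 (flp_b L834942) q31323, e3 q31092 L832487 q31092, e3 q31093 L832498 q30637, e3 q31094 L836225 q31408, e3 q31095 L836238 q31409, e3 q31096 L836257 q31410, e3 q31097 (flp_b L832556) q30646, e3 q31098 (flp_b L836279) q31411, e3 q31099 L832579 q30812, e3 q31100 L832591 q31100, e3 q31101 L832606 q30747, e3 q31102 L832634 q31102, e3 q31103 L836323 q31414, trivial⟩ (by decide +kernel)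

theorem ce_b_486 : ∀ r, r < 64 → sm gb (Qf (31104 + r)) = Qf (tab Gen.b (31104 + r)) :=
  edges_tab (sm gb) Qf (tab Gen.b) 31104 [(31104, 30760), (31105, 30761), (31106, 31106), (31107, 31107), (31108, 30658), (31109, 31417), (31110, 31373), (31111, 31111), (31112, 31112), (31113, 30946), (31114, 30947), (31115, 31115), (31116, 30950), (31117, 30951), (31118, 31118), (31119, 31423), (31120, 31424), (31121, 30702), (31122, 30709), (31123, 30710), (31124, 31124), (31125, 30678), (31126, 30716), (31127, 30717), (31128, 31128), (31129, 30682), (31130, 30683), (31131, 30684), (31132, 30724), (31133, 31432), (31134, 30727), (31135, 31433), (31136, 30742), (31137, 31137), (31138, 30694), (31139, 30745), (31140, 30771), (31141, 30871), (31142, 31142), (31143, 31438), (31144, 31326), (31145, 30910), (31146, 31325), (31147, 31439), (31148, 31406), (31149, 31426), (31150, 31150), (31151, 30714), (31152, 30715), (31153, 31445), (31154, 31428), (31155, 31429), (31156, 31430), (31157, 31157), (31158, 31158), (31159, 30722), (31160, 30723),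 (31161, 30884), (31162, 30726), (31163, 31452), (31164, 31395), (31165, 31165), (31166, 31454), (31167, 31455)]
    ⟨e3 q31104 L832651 q30760, e3 q31105 L832667 q30761, e3 q31106 L832681 q31106, e3 q31107 L832696 q31107, e3 q31108 (flp_b L832709) q30658, e3 q31109 (flp_b L836369) q31417, e3 q31110 (flp_b L835725) q31373, e3 q31111 L832740 q31111, e3 q31112 L832753 q31112, e3 q31113 L832764 q30946, e3 q31114 L832780 q30947, e3 q31115 L832806 q31115, e3 q31116 L832813 q30950, e3 q31117 L832831 q30951, e3 q31118 L832861 q31118, e3 q31119 L836446 q31423, e3 q31120 L836461 q31424, e3 q31121 L832898 q30702, e3 q31122 L832918 q30709, e3 q31123 L832934 q30710, e3 q31124 L832958 q31124, e3 q31125 L832963 q30678, e3 q31126 L832981 q30716, e3 q31127 L832995 q30717, e3 q31128 L833017 q31128, e3 q31129 L833022 q30682, e3 q31130 L833034 q30683, e3 q31131 L833046 q30684, e3 q31132 L833064 q30724, e3 q31133 L836583 q31432, e3 q31134 L833094 q30727, e3 q31135 L836598 q31433, e3 q31136 L833116 q30742, e3 q31137 L833128 q31137, e3 q31138 L833141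 q30694, e3 q31139 L833155 q30745, e3 q31140 L833173 q30771, e3 q31141 L833191 q30871, e3 q31142 L833211 q31142, e3 q31143 L836662 q31438, e3 q31144 (flp_b L834997) q31326, e3 q31145 L833242 q30910, e3 q31146 (flp_b L834977) q31325, e3 q31147 L836673 q31439, e3 q31148 (flp_b L836202) q31406, e3 q31149 (flp_b L836496) q31426, e3 q31150 L833286 q31150, e3 q31151 L833291 q30714, e3 q31152 L833305 q30715, e3 q31153 L836740 q31445, e3 q31154 (flp_b L836528) q31428, e3 q31155 (flp_b L836542) q31429, e3 q31156 (flp_b L836556) q31430, e3 q31157 L833359 q31157, e3 q31158 L833368 q31158, e3 q31159 L833377 q30722, e3 q31160 L833391 q30723, e3 q31161 L833407 q30884, e3 q31162 (flp_b L833419) q30726, e3 q31163 (flp_b L836826) q31452, e3 q31164 (flp_b L836049) q31395, e3 q31165 L833452 q31165, e3 q31166 L836844 q31454, e3 q31167 L836857 q31455, trivial⟩ (by decide +kernel)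

theorem ce_b_487 : ∀ r, r < 64 → sm gb (Qf (31168 + r)) = Qf (tab Gen.b (31168 + r)) :=
  edges_tab (sm gb) Qf (tab Gen.b) 31168 [(31168, 31456), (31169, 31384), (31170, 31170), (31171, 30740), (31172, 30741), (31173, 31460), (31174, 31435), (31175, 31175), (31176, 31462), (31177, 31463), (31178, 31464), (31179, 31400), (31180, 31401), (31181, 31181), (31182, 31182), (31183, 30758), (31184, 30759), (31185, 31469), (31186, 31470), (31187, 30874), (31188, 31390), (31189, 31189), (31190, 31190), (31191, 30879), (31192, 31473), (31193, 30774), (31194, 31474), (31195, 30777), (31196, 30778), (31197, 31475), (31198, 30816), (31199, 31199), (31200, 31477), (31201, 30836), (31202, 30837), (31203, 30838), (31204, 31204), (31205, 31205), (31206, 30789), (31207, 31480), (31208, 31481), (31209, 30857), (31210, 31482), (31211, 30800), (31212, 31483), (31213, 31484), (31214, 30899), (31215, 31215), (31216, 30807), (31217, 31486), (31218, 31487), (31219, 31488), (31220, 31354), (31221, 31221), (31222, 30815), (31223, 31490), (31224, 31380),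 (31225, 31225), (31226, 30826), (31227, 30827), (31228, 31492), (31229, 31347), (31230, 31493), (31231, 31334)]
    ⟨e3 q31168 L836874 q31456, e3 q31169 (flp_b L835906) q31384, e3 q31170 L833507 q31170, e3 q31171 L833516 q30740, e3 q31172 (flp_b L833528) q30741, e3 q31173 (flp_b L836921) q31460, e3 q31174 (flp_b L836625) q31435, e3 q31175 L833555 q31175, e3 q31176 L836937 q31462, e3 q31177 L836948 q31463, e3 q31178 L836961 q31464, e3 q31179 (flp_b L836121) q31400, e3 q31180 (flp_b L836137) q31401, e3 q31181 L833610 q31181, e3 q31182 L833617 q31182, e3 q31183 L833624 q30758, e3 q31184 (flp_b L833636) q30759, e3 q31185 (flp_b L837014) q31469, e3 q31186 (flp_b L837019) q31470, e3 q31187 L833659 q30874, e3 q31188 (flp_b L835983) q31390, e3 q31189 L833681 q31189, e3 q31190 L833694 q31190, e3 q31191 L833705 q30879, e3 q31192 L837047 q31473, e3 q31193 (flp_b L833727) q30774, e3 q31194 L837060 q31474, e3 q31195 (flp_b L833752) q30777, e3 q31196 (flp_b L833765) q30778, e3 q31197 L837077 q31475, e3 q31198 L833796 q30816, e3 q31199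 L833808 q31199, e3 q31200 L837106 q31477, e3 q31201 L833833 q30836, e3 q31202 L833847 q30837, e3 q31203 L833861 q30838, e3 q31204 L833873 q31204, e3 q31205 L833886 q31205, e3 q31206 (flp_b L833895) q30789, e3 q31207 (flp_b L837146) q31480, e3 q31208 L837152 q31481, e3 q31209 L833930 q30857, e3 q31210 L837169 q31482, e3 q31211 (flp_b L833952) q30800, e3 q31212 L837186 q31483, e3 q31213 L837199 q31484, e3 q31214 L833991 q30899, e3 q31215 L834001 q31215, e3 q31216 (flp_b L834010) q30807, e3 q31217 (flp_b L837227) q31486, e3 q31218 L837233 q31487, e3 q31219 L837246 q31488, e3 q31220 (flp_b L835430) q31354, e3 q31221 L834057 q31221, e3 q31222 (flp_b L834064) q30815, e3 q31223 (flp_b L837266) q31490, e3 q31224 (flp_b L835841) q31380, e3 q31225 L834091 q31225, e3 q31226 L834102 q30826, e3 q31227 L834118 q30827, e3 q31228 L837282 q31492, e3 q31229 (flp_b L835322) q31347, e3 q31230 L837291 q31493, e3 q31231 (flp_b L835124) q31334, trivial⟩ (by decide +kernel)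

theorem ce_b_488 : ∀ r, r < 64 → sm gb (Qf (31232 + r)) = Qf (tab Gen.b (31232 + r)) :=
  edges_tab (sm gb) Qf (tab Gen.b) 31232 [(31232, 31335), (31233, 31336), (31234, 31234), (31235, 31235), (31236, 30835), (31237, 31496), (31238, 31497), (31239, 30841), (31240, 31498), (31241, 31343), (31242, 31242), (31243, 30846), (31244, 31500), (31245, 31501), (31246, 31246), (31247, 31503), (31248, 30852), (31249, 31504), (31250, 31381), (31251, 31365), (31252, 31505), (31253, 30867), (31254, 30868), (31255, 30870), (31256, 31506), (31257, 30873), (31258, 31507), (31259, 31376), (31260, 31260), (31261, 31329), (31262, 31377), (31263, 30886), (31264, 31509), (31265, 31510), (31266, 31357), (31267, 31358), (31268, 31268), (31269, 31269), (31270, 30895), (31271, 31513), (31272, 30898), (31273, 31514), (31274, 31328), (31275, 31275), (31276, 30903), (31277, 30904), (31278, 31516), (31279, 31517), (31280, 30911), (31281, 30912), (31282, 30913), (31283, 31518), (31284, 30936), (31285, 31285), (31286, 31520), (31287, 30920), (31288, 30921),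 (31289, 31521), (31290, 31522), (31291, 31523), (31292, 30929), (31293, 30930), (31294, 30931), (31295, 30933)]
    ⟨e3 q31232 (flp_b L835138) q31335, e3 q31233 (flp_b L835152) q31336, e3 q31234 L834194 q31234, e3 q31235 L834203 q31235, e3 q31236 (flp_b L834210) q30835, e3 q31237 (flp_b L837323) q31496, e3 q31238 (flp_b L837332) q31497, e3 q31239 (flp_b L834235) q30841, e3 q31240 (flp_b L837341) q31498, e3 q31241 (flp_b L835253) q31343, e3 q31242 L834270 q31242, e3 q31243 L834284 q30846, e3 q31244 (flp_b L837366) q31500, e3 q31245 (flp_b L837377) q31501, e3 q31246 L834310 q31246, e3 q31247 L837393 q31503, e3 q31248 (flp_b L834331) q30852, e3 q31249 (flp_b L837407) q31504, e3 q31250 (flp_b L835857) q31381, e3 q31251 (flp_b L835590) q31365, e3 q31252 L837423 q31505, e3 q31253 (flp_b L834388) q30867, e3 q31254 (flp_b L834395) q30868, e3 q31255 L834403 q30870, e3 q31256 L837434 q31506, e3 q31257 (flp_b L834423) q30873, e3 q31258 (flp_b L837448) q31507, e3 q31259 (flp_b L835776) q31376, e3 q31260 L834450 q31260, e3 q31261 (flp_b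 L835047) q31329, e3 q31262 (flp_b L835792) q31377, e3 q31263 (flp_b L834475) q30886, e3 q31264 L837464 q31509, e3 q31265 L837473 q31510, e3 q31266 (flp_b L835471) q31357, e3 q31267 (flp_b L835487) q31358, e3 q31268 L834516 q31268, e3 q31269 L834523 q31269, e3 q31270 (flp_b L834528) q30895, e3 q31271 (flp_b L837499) q31513, e3 q31272 (flp_b L834541) q30898, e3 q31273 (flp_b L837506) q31514, e3 q31274 (flp_b L835033) q31328, e3 q31275 L834564 q31275, e3 q31276 L834574 q30903, e3 q31277 L834585 q30904, e3 q31278 (flp_b L837521) q31516, e3 q31279 (flp_b L837534) q31517, e3 q31280 (flp_b L834609) q30911, e3 q31281 (flp_b L834624) q30912, e3 q31282 (flp_b L834631) q30913, e3 q31283 (flp_b L837541) q31518, e3 q31284 L834650 q30936, e3 q31285 L834658 q31285, e3 q31286 L837555 q31520, e3 q31287 (flp_b L834673) q30920, e3 q31288 (flp_b L834684) q30921, e3 q31289 L837566 q31521, e3 q31290 L837575 q31522, e3 q31291 L837584 q31523, e3 q31292 (flp_b L834721) q30929, e3 q31293 (flp_b L834728) q30930, e3 q31294 (flp_b L834733) q30931, e3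 q31295 (flp_b L834738) q30933, trivial⟩ (by decide +kernel)

theorem ce_b_489 : ∀ r, r < 64 → sm gb (Qf (31296 + r)) = Qf (tab Gen.b (31296 + r)) :=
  edges_tab (sm gb) Qf (tab Gen.b) 31296 [(31296, 30935), (31297, 31524), (31298, 31525), (31299, 30940), (31300, 30942), (31301, 30943), (31302, 30944), (31303, 31526), (31304, 30949), (31305, 31527), (31306, 30953), (31307, 30954), (31308, 30955), (31309, 30957), (31310, 30958), (31311, 30960), (31312, 30961), (31313, 30964), (31314, 30966), (31315, 31528), (31316, 31349), (31317, 31317), (31318, 31530), (31319, 30973), (31320, 30974), (31321, 30979), (31322, 31531), (31323, 31091), (31324, 31324), (31325, 31146), (31326, 31144), (31327, 31533), (31328, 31274), (31329, 31261), (31330, 31330), (31331, 30993), (31332, 30994), (31333, 31539), (31334, 31231), (31335, 31232), (31336, 31233), (31337, 31337), (31338, 31338), (31339, 31001), (31340, 31002), (31341, 31004), (31342, 31546), (31343, 31241), (31344, 31344), (31345, 31548), (31346, 31070), (31347, 31229), (31348, 31549),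 (31349, 31316), (31350, 31350), (31351, 31021), (31352, 31022), (31353, 31553), (31354, 31220), (31355, 31355), (31356, 31555), (31357, 31266), (31358, 31267), (31359, 31359)]
    ⟨e3 q31296 L834746 q30935, e3 q31297 (flp_b L837596) q31524, e3 q31298 L837598 q31525, e3 q31299 (flp_b L834764) q30940, e3 q31300 (flp_b L834771) q30942, e3 q31301 (flp_b L834776) q30943, e3 q31302 (flp_b L834785) q30944, e3 q31303 L837607 q31526, e3 q31304 (flp_b L834798) q30949, e3 q31305 L837614 q31527, e3 q31306 (flp_b L834813) q30953, e3 q31307 (flp_b L834822) q30954, e3 q31308 (flp_b L834829) q30955, e3 q31309 (flp_b L834834) q30957, e3 q31310 (flp_b L834841) q30958, e3 q31311 (flp_b L834850) q30960, e3 q31312 (flp_b L834855) q30961, e3 q31313 (flp_b L834864) q30964, e3 q31314 (flp_b L834871) q30966, e3 q31315 (flp_b L837626) q31528, e3 q31316 (flp_b L835358) q31349, e3 q31317 L834894 q31317, e3 q31318 L837638 q31530, e3 q31319 (flp_b L834907) q30973, e3 q31320 (flp_b L834912) q30974, e3 q31321 L834920 q30979, e3 q31322 L837645 q31531, e3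 q31323 L834942 q31091, e3 q31324 L834958 q31324, e3 q31325 L834977 q31146, e3 q31326 L834997 q31144, e3 q31327 L837680 q31533, e3 q31328 L835033 q31274, e3 q31329 L835047 q31261, e3 q31330 L835063 q31330, e3 q31331 L835076 q30993, e3 q31332 L835092 q30994, e3 q31333 L837781 q31539, e3 q31334 L835124 q31231, e3 q31335 L835138 q31232, e3 q31336 L835152 q31233, e3 q31337 L835168 q31337, e3 q31338 L835181 q31338, e3 q31339 L835194 q31001, e3 q31340 L835210 q31002, e3 q31341 (flp_b L835224) q31004, e3 q31342 (flp_b L837897) q31546, e3 q31343 L835253 q31241, e3 q31344 L835267 q31344, e3 q31345 L837923 q31548, e3 q31346 L835302 q31070, e3 q31347 L835322 q31229, e3 q31348 L837942 q31549, e3 q31349 L835358 q31316, e3 q31350 L835372 q31350, e3 q31351 L835387 q31021, e3 q31352 (flp_b L835401) q31022, e3 q31353 (flp_b L838013) q31553, e3 q31354 L835430 q31220, e3 q31355 L835442 q31355, e3 q31356 L838039 q31555, e3 q31357 L835471 q31266, e3 q31358 L835487 q31267, e3 q31359 L835499 q31359, trivial⟩ (by decide +kernel)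

theorem ce_b_490 : ∀ r, r < 64 → sm gb (Qf (31360 + r)) = Qf (tab Gen.b (31360 + r)) :=
  edges_tab (sm gb) Qf (tab Gen.b) 31360 [(31360, 31360), (31361, 31033), (31362, 31034), (31363, 31560), (31364, 31561), (31365, 31251), (31366, 31366), (31367, 31563), (31368, 31044), (31369, 31045), (31370, 31046), (31371, 31047), (31372, 31564), (31373, 31110), (31374, 31374), (31375, 31566), (31376, 31259), (31377, 31262), (31378, 31378), (31379, 31568), (31380, 31224), (31381, 31250), (31382, 31382), (31383, 31570), (31384, 31169), (31385, 31385), (31386, 31067), (31387, 31572), (31388, 31071), (31389, 31573), (31390, 31188), (31391, 31391), (31392, 31075), (31393, 31575), (31394, 31576), (31395, 31164), (31396, 31396), (31397, 31082), (31398, 31578), (31399, 31579), (31400, 31179), (31401, 31180), (31402, 31402), (31403, 31403), (31404, 31090), (31405, 31582), (31406, 31148), (31407, 31407), (31408, 31094), (31409, 31095), (31410, 31096), (31411, 31098), (31412, 31584), (31413, 31585), (31414, 31103), (31415, 31586), (31416, 31587),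 (31417, 31109), (31418, 31588), (31419, 31589), (31420, 31420), (31421, 31591), (31422, 31592), (31423, 31119)]
    ⟨e3 q31360 L835514 q31360, e3 q31361 L835527 q31033, e3 q31362 (flp_b L835541) q31034, e3 q31363 (flp_b L838122) q31560, e3 q31364 (flp_b L838139) q31561, e3 q31365 L835590 q31251, e3 q31366 L835604 q31366, e3 q31367 L838169 q31563, e3 q31368 (flp_b L835635) q31044, e3 q31369 (flp_b L835654) q31045, e3 q31370 (flp_b L835673) q31046, e3 q31371 (flp_b L835692) q31047, e3 q31372 (flp_b L838191) q31564, e3 q31373 L835725 q31110, e3 q31374 L835741 q31374, e3 q31375 L838223 q31566, e3 q31376 L835776 q31259, e3 q31377 L835792 q31262, e3 q31378 L835808 q31378, e3 q31379 L838256 q31568, e3 q31380 L835841 q31224, e3 q31381 L835857 q31250, e3 q31382 L835873 q31382, e3 q31383 L838289 q31570, e3 q31384 L835906 q31169, e3 q31385 L835920 q31385, e3 q31386 (flp_b L835933) q31067, e3 q31387 (flp_b L838325) q31572, e3 q31388 (flp_b L835960) q31071, e3 q31389 (flp_b L838342) q31573, e3 q31390 L835983 q31188, e3 q31391 L835997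 q31391, e3 q31392 (flp_b L836010) q31075, e3 q31393 (flp_b L838367) q31575, e3 q31394 (flp_b L838376) q31576, e3 q31395 L836049 q31164, e3 q31396 L836063 q31396, e3 q31397 L836079 q31082, e3 q31398 (flp_b L838409) q31578, e3 q31399 L838423 q31579, e3 q31400 L836121 q31179, e3 q31401 L836137 q31180, e3 q31402 L836149 q31402, e3 q31403 L836164 q31403, e3 q31404 (flp_b L836175) q31090, e3 q31405 (flp_b L838471) q31582, e3 q31406 L836202 q31148, e3 q31407 L836214 q31407, e3 q31408 (flp_b L836225) q31094, e3 q31409 (flp_b L836238) q31095, e3 q31410 (flp_b L836257) q31096, e3 q31411 L836279 q31098, e3 q31412 (flp_b L838496) q31584, e3 q31413 L838508 q31585, e3 q31414 (flp_b L836323) q31103, e3 q31415 (flp_b L838530) q31586, e3 q31416 (flp_b L838547) q31587, e3 q31417 L836369 q31109, e3 q31418 (flp_b L838564) q31588, e3 q31419 (flp_b L838579) q31589, e3 q31420 L836401 q31420, e3 q31421 L838599 q31591, e3 q31422 L838616 q31592, e3 q31423 (flp_b L836446) q31119, trivial⟩ (by decide +kernel)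

theorem ce_b_491 : ∀ r, r < 64 → sm gb (Qf (31424 + r)) = Qf (tab Gen.b (31424 + r)) :=
  edges_tab (sm gb) Qf (tab Gen.b) 31424 [(31424, 31120), (31425, 31593), (31426, 31149), (31427, 31594), (31428, 31154), (31429, 31155), (31430, 31156), (31431, 31431), (31432, 31133), (31433, 31135), (31434, 31596), (31435, 31174), (31436, 31436), (31437, 31598), (31438, 31143), (31439, 31147), (31440, 31599), (31441, 31536), (31442, 31535), (31443, 31443), (31444, 31444), (31445, 31153), (31446, 31602), (31447, 31603), (31448, 31543), (31449, 31542), (31450, 31450), (31451, 31451), (31452, 31163), (31453, 31606), (31454, 31166), (31455, 31167), (31456, 31168), (31457, 31607), (31458, 31558), (31459, 31459), (31460, 31173), (31461, 31609), (31462, 31176), (31463, 31177), (31464, 31178), (31465, 31610), (31466, 31611), (31467, 31551), (31468, 31468), (31469, 31185), (31470, 31186), (31471, 31613), (31472, 31614), (31473, 31192), (31474, 31194), (31475, 31197), (31476, 31615), (31477, 31200), (31478, 31616), (31479, 31617), (31480, 31207),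 (31481, 31208), (31482, 31210), (31483, 31212), (31484, 31213), (31485, 31618), (31486, 31217), (31487, 31218)]
    ⟨e3 q31424 (flp_b L836461) q31120, e3 q31425 L838635 q31593, e3 q31426 L836496 q31149, e3 q31427 L838652 q31594, e3 q31428 L836528 q31154, e3 q31429 L836542 q31155, e3 q31430 L836556 q31156, e3 q31431 L836572 q31431, e3 q31432 (flp_b L836583) q31133, e3 q31433 (flp_b L836598) q31135, e3 q31434 (flp_b L838684) q31596, e3 q31435 L836625 q31174, e3 q31436 L836637 q31436, e3 q31437 L838710 q31598, e3 q31438 (flp_b L836662) q31143, e3 q31439 (flp_b L836673) q31147, e3 q31440 (flp_b L838728) q31599, e3 q31441 (flp_b L837733) q31536, e3 q31442 (flp_b L837715) q31535, e3 q31443 L836716 q31443, e3 q31444 L836729 q31444, e3 q31445 (flp_b L836740) q31153, e3 q31446 (flp_b L838761) q31602, e3 q31447 (flp_b L838770) q31603, e3 q31448 (flp_b L837846) q31543, e3 q31449 (flp_b L837828) q31542, e3 q31450 L836799 q31450, e3 q31451 L836812 q31451, e3 q31452 L836826 q31163, e3 q31453 (flp_b L838807) q31606, e3 q31454 (flp_b L836844)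 q31166, e3 q31455 (flp_b L836857) q31167, e3 q31456 (flp_b L836874) q31168, e3 q31457 (flp_b L838818) q31607, e3 q31458 (flp_b L838088) q31558, e3 q31459 L836907 q31459, e3 q31460 L836921 q31173, e3 q31461 (flp_b L838841) q31609, e3 q31462 (flp_b L836937) q31176, e3 q31463 (flp_b L836948) q31177, e3 q31464 (flp_b L836961) q31178, e3 q31465 (flp_b L838850) q31610, e3 q31466 (flp_b L838857) q31611, e3 q31467 (flp_b L837979) q31551, e3 q31468 L837000 q31468, e3 q31469 L837014 q31185, e3 q31470 L837019 q31186, e3 q31471 (flp_b L838878) q31613, e3 q31472 (flp_b L838893) q31614, e3 q31473 (flp_b L837047) q31192, e3 q31474 (flp_b L837060) q31194, e3 q31475 (flp_b L837077) q31197, e3 q31476 (flp_b L838902) q31615, e3 q31477 (flp_b L837106) q31200, e3 q31478 (flp_b L838917) q31616, e3 q31479 (flp_b L838932) q31617, e3 q31480 L837146 q31207, e3 q31481 (flp_b L837152) q31208, e3 q31482 (flp_b L837169) q31210, e3 q31483 (flp_b L837186) q31212, e3 q31484 (flp_b L837199) q31213, e3 q31485 (flp_b L838945) q31618, e3 q31486 L837227 q31217,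 e3 q31487 (flp_b L837233) q31218, trivial⟩ (by decide +kernel)

theorem ce_b_492 : ∀ r, r < 64 → sm gb (Qf (31488 + r)) = Qf (tab Gen.b (31488 + r)) :=
  edges_tab (sm gb) Qf (tab Gen.b) 31488 [(31488, 31219), (31489, 31619), (31490, 31223), (31491, 31620), (31492, 31228), (31493, 31230), (31494, 31621), (31495, 31622), (31496, 31237), (31497, 31238), (31498, 31240), (31499, 31623), (31500, 31244), (31501, 31245), (31502, 31624), (31503, 31247), (31504, 31249), (31505, 31252), (31506, 31256), (31507, 31258), (31508, 31625), (31509, 31264), (31510, 31265), (31511, 31626), (31512, 31627), (31513, 31271), (31514, 31273), (31515, 31628), (31516, 31278), (31517, 31279), (31518, 31283), (31519, 31629), (31520, 31286), (31521, 31289), (31522, 31290), (31523, 31291), (31524, 31297), (31525, 31298), (31526, 31303), (31527, 31305), (31528, 31315), (31529, 31630), (31530, 31318), (31531, 31322), (31532, 31631), (31533, 31327), (31534, 31632), (31535, 31442), (31536, 31441), (31537, 31537), (31538, 31538), (31539, 31333), (31540, 31635),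 (31541, 31636), (31542, 31449), (31543, 31448), (31544, 31544), (31545, 31545), (31546, 31342), (31547, 31639), (31548, 31345), (31549, 31348), (31550, 31640), (31551, 31467)]
    ⟨e3 q31488 (flp_b L837246) q31219, e3 q31489 (flp_b L838958) q31619, e3 q31490 L837266 q31223, e3 q31491 (flp_b L838967) q31620, e3 q31492 (flp_b L837282) q31228, e3 q31493 (flp_b L837291) q31230, e3 q31494 (flp_b L838976) q31621, e3 q31495 (flp_b L838985) q31622, e3 q31496 L837323 q31237, e3 q31497 L837332 q31238, e3 q31498 L837341 q31240, e3 q31499 (flp_b L838994) q31623, e3 q31500 L837366 q31244, e3 q31501 L837377 q31245, e3 q31502 (flp_b L839007) q31624, e3 q31503 (flp_b L837393) q31247, e3 q31504 L837407 q31249, e3 q31505 (flp_b L837423) q31252, e3 q31506 (flp_b L837434) q31256, e3 q31507 L837448 q31258, e3 q31508 (flp_b L839018) q31625, e3 q31509 (flp_b L837464) q31264, e3 q31510 (flp_b L837473) q31265, e3 q31511 (flp_b L839027) q31626, e3 q31512 (flp_b L839034) q31627, e3 q31513 L837499 q31271, e3 q31514 L837506 q31273, e3 q31515 (flp_b L839041)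 q31628, e3 q31516 L837521 q31278, e3 q31517 L837534 q31279, e3 q31518 L837541 q31283, e3 q31519 (flp_b L839050) q31629, e3 q31520 (flp_b L837555) q31286, e3 q31521 (flp_b L837566) q31289, e3 q31522 (flp_b L837575) q31290, e3 q31523 (flp_b L837584) q31291, e3 q31524 L837596 q31297, e3 q31525 (flp_b L837598) q31298, e3 q31526 (flp_b L837607) q31303, e3 q31527 (flp_b L837614) q31305, e3 q31528 L837626 q31315, e3 q31529 (flp_b L839059) q31630, e3 q31530 (flp_b L837638) q31318, e3 q31531 (flp_b L837645) q31322, e3 q31532 (flp_b L839066) q31631, e3 q31533 (flp_b L837680) q31327, e3 q31534 (flp_b L839085) q31632, e3 q31535 L837715 q31442, e3 q31536 L837733 q31441, e3 q31537 L837749 q31537, e3 q31538 L837766 q31538, e3 q31539 (flp_b L837781) q31333, e3 q31540 (flp_b L839136) q31635, e3 q31541 (flp_b L839151) q31636, e3 q31542 L837828 q31449, e3 q31543 L837846 q31448, e3 q31544 L837862 q31544, e3 q31545 L837879 q31545, e3 q31546 L837897 q31342, e3 q31547 (flp_b L839202) q31639, e3 q31548 (flp_b L837923) q31345, e3 q31549 (flp_b L837942)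 q31348, e3 q31550 (flp_b L839219) q31640, e3 q31551 L837979 q31467, trivial⟩ (by decide +kernel)

theorem ce_b_493 : ∀ r, r < 64 → sm gb (Qf (31552 + r)) = Qf (tab Gen.b (31552 + r)) :=
  edges_tab (sm gb) Qf (tab Gen.b) 31552 [(31552, 31552), (31553, 31353), (31554, 31642), (31555, 31356), (31556, 31643), (31557, 31644), (31558, 31458), (31559, 31559), (31560, 31363), (31561, 31364), (31562, 31646), (31563, 31367), (31564, 31372), (31565, 31647), (31566, 31375), (31567, 31648), (31568, 31379), (31569, 31649), (31570, 31383), (31571, 31650), (31572, 31387), (31573, 31389), (31574, 31651), (31575, 31393), (31576, 31394), (31577, 31652), (31578, 31398), (31579, 31399), (31580, 31653), (31581, 31654), (31582, 31405), (31583, 31655), (31584, 31412), (31585, 31413), (31586, 31415), (31587, 31416), (31588, 31418), (31589, 31419), (31590, 31656), (31591, 31421), (31592, 31422), (31593, 31425), (31594, 31427), (31595, 31657), (31596, 31434), (31597, 31658), (31598, 31437), (31599, 31440), (31600, 31659), (31601, 31660), (31602, 31446),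 (31603, 31447), (31604, 31661), (31605, 31662), (31606, 31453), (31607, 31457), (31608, 31663), (31609, 31461), (31610, 31465), (31611, 31466), (31612, 31664), (31613, 31471), (31614, 31472), (31615, 31476)]
    ⟨e3 q31552 L837995 q31552, e3 q31553 L838013 q31353, e3 q31554 (flp_b L839254) q31642, e3 q31555 (flp_b L838039) q31356, e3 q31556 (flp_b L839269) q31643, e3 q31557 (flp_b L839286) q31644, e3 q31558 L838088 q31458, e3 q31559 L838104 q31559, e3 q31560 L838122 q31363, e3 q31561 L838139 q31364, e3 q31562 (flp_b L839319) q31646, e3 q31563 (flp_b L838169) q31367, e3 q31564 L838191 q31372, e3 q31565 (flp_b L839336) q31647, e3 q31566 (flp_b L838223) q31375, e3 q31567 (flp_b L839355) q31648, e3 q31568 (flp_b L838256) q31379, e3 q31569 (flp_b L839372) q31649, e3 q31570 (flp_b L838289) q31383, e3 q31571 (flp_b L839389) q31650, e3 q31572 L838325 q31387, e3 q31573 L838342 q31389, e3 q31574 (flp_b L839406) q31651, e3 q31575 L838367 q31393, e3 q31576 L838376 q31394, e3 q31577 (flp_b L839423) q31652, e3 q31578 L838409 q31398, e3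 q31579 (flp_b L838423) q31399, e3 q31580 (flp_b L839440) q31653, e3 q31581 (flp_b L839457) q31654, e3 q31582 L838471 q31405, e3 q31583 (flp_b L839472) q31655, e3 q31584 L838496 q31412, e3 q31585 (flp_b L838508) q31413, e3 q31586 L838530 q31415, e3 q31587 L838547 q31416, e3 q31588 L838564 q31418, e3 q31589 L838579 q31419, e3 q31590 (flp_b L839487) q31656, e3 q31591 (flp_b L838599) q31421, e3 q31592 (flp_b L838616) q31422, e3 q31593 (flp_b L838635) q31425, e3 q31594 (flp_b L838652) q31427, e3 q31595 (flp_b L839502) q31657, e3 q31596 L838684 q31434, e3 q31597 (flp_b L839517) q31658, e3 q31598 (flp_b L838710) q31437, e3 q31599 L838728 q31440, e3 q31600 (flp_b L839532) q31659, e3 q31601 (flp_b L839545) q31660, e3 q31602 L838761 q31446, e3 q31603 L838770 q31447, e3 q31604 (flp_b L839558) q31661, e3 q31605 (flp_b L839571) q31662, e3 q31606 L838807 q31453, e3 q31607 L838818 q31457, e3 q31608 (flp_b L839584) q31663, e3 q31609 L838841 q31461, e3 q31610 L838850 q31465, e3 q31611 L838857 q31466, e3 q31612 (flp_b L839597) q31664, e3 q31613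 L838878 q31471, e3 q31614 L838893 q31472, e3 q31615 L838902 q31476, trivial⟩ (by decide +kernel)

theorem ce_b_494 : ∀ r, r < 55 → sm gb (Qf (31616 + r)) = Qf (tab Gen.b (31616 + r)) :=
  edges_tab (sm gb) Qf (tab Gen.b) 31616 [(31616, 31478), (31617, 31479), (31618, 31485), (31619, 31489), (31620, 31491), (31621, 31494), (31622, 31495), (31623, 31499), (31624, 31502), (31625, 31508), (31626, 31511), (31627, 31512), (31628, 31515), (31629, 31519), (31630, 31529), (31631, 31532), (31632, 31534), (31633, 31665), (31634, 31666), (31635, 31540), (31636, 31541), (31637, 31667), (31638, 31668), (31639, 31547), (31640, 31550), (31641, 31669), (31642, 31554), (31643, 31556), (31644, 31557), (31645, 31670), (31646, 31562), (31647, 31565), (31648, 31567), (31649, 31569), (31650, 31571), (31651, 31574), (31652, 31577), (31653, 31580), (31654, 31581), (31655, 31583), (31656, 31590), (31657, 31595), (31658, 31597), (31659, 31600), (31660, 31601), (31661, 31604), (31662, 31605), (31663, 31608), (31664, 31612), (31665, 31633), (31666, 31634),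 (31667, 31637), (31668, 31638), (31669, 31641), (31670, 31645)]
    ⟨e3 q31616 L838917 q31478, e3 q31617 L838932 q31479, e3 q31618 L838945 q31485, e3 q31619 L838958 q31489, e3 q31620 L838967 q31491, e3 q31621 L838976 q31494, e3 q31622 L838985 q31495, e3 q31623 L838994 q31499, e3 q31624 L839007 q31502, e3 q31625 L839018 q31508, e3 q31626 L839027 q31511, e3 q31627 L839034 q31512, e3 q31628 L839041 q31515, e3 q31629 L839050 q31519, e3 q31630 L839059 q31529, e3 q31631 L839066 q31532, e3 q31632 L839085 q31534, e3 q31633 (flp_b L839610) q31665, e3 q31634 (flp_b L839629) q31666, e3 q31635 L839136 q31540, e3 q31636 L839151 q31541, e3 q31637 (flp_b L839648) q31667, e3 q31638 (flp_b L839667) q31668, e3 q31639 L839202 q31547, e3 q31640 L839219 q31550, e3 q31641 (flp_b L839686) q31669, e3 q31642 L839254 q31554, e3 q31643 L839269 q31556, e3 q31644 L839286 q31557, e3 q31645 (flp_b L839705) q31670, e3 q31646 L839319 q31562, e3 q31647 L839336 q31565, e3 q31648 L839355 q31567, e3 q31649 L839372 q31569, e3 q31650 L839389 q31571, e3 q31651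 L839406 q31574, e3 q31652 L839423 q31577, e3 q31653 L839440 q31580, e3 q31654 L839457 q31581, e3 q31655 L839472 q31583, e3 q31656 L839487 q31590, e3 q31657 L839502 q31595, e3 q31658 L839517 q31597, e3 q31659 L839532 q31600, e3 q31660 L839545 q31601, e3 q31661 L839558 q31604, e3 q31662 L839571 q31605, e3 q31663 L839584 q31608, e3 q31664 L839597 q31612, e3 q31665 L839610 q31633, e3 q31666 L839629 q31634, e3 q31667 L839648 q31637, e3 q31668 L839667 q31638, e3 q31669 L839686 q31641, e3 q31670 L839705 q31645, trivial⟩ (by decide +kernel)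

theorem cl_b : ∀ i, i < 31671 → sm gb (Qf i) = Qf (tab Gen.b i) :=
  all_of_chunks (fun i => sm gb (Qf i) = Qf (tab Gen.b i)) 494 55
    ⟨ce_b_0, ce_b_1, ce_b_2, ce_b_3, ce_b_4, ce_b_5, ce_b_6, ce_b_7, ce_b_8, ce_b_9, ce_b_10, ce_b_11, ce_b_12, ce_b_13, ce_b_14, ce_b_15, ce_b_16, ce_b_17, ce_b_18, ce_b_19, ce_b_20, ce_b_21, ce_b_22, ce_b_23, ce_b_24, ce_b_25, ce_b_26, ce_b_27, ce_b_28, ce_b_29, ce_b_30, ce_b_31, ce_b_32, ce_b_33, ce_b_34, ce_b_35, ce_b_36, ce_b_37, ce_b_38, ce_b_39, ce_b_40, ce_b_41, ce_b_42, ce_b_43, ce_b_44, ce_b_45, ce_b_46, ce_b_47, ce_b_48, ce_b_49, ce_b_50, ce_b_51, ce_b_52, ce_b_53, ce_b_54, ce_b_55, ce_b_56, ce_b_57, ce_b_58, ce_b_59, ce_b_60, ce_b_61, ce_b_62, ce_b_63, ce_b_64, ce_b_65, ce_b_66, ce_b_67, ce_b_68, ce_b_69, ce_b_70, ce_b_71, ce_b_72, ce_b_73, ce_b_74, ce_b_75, ce_b_76, ce_b_77, ce_b_78, ce_b_79, ce_b_80, ce_b_81, ce_b_82, ce_b_83, ce_b_84, ce_b_85, ce_b_86, ce_b_87, ce_b_88, ce_b_89, ce_b_90, ce_b_91, ce_b_92, ce_b_93, ce_b_94, ce_b_95, ce_b_96, ce_b_97, ce_b_98, ce_b_99, ce_b_100,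 ce_b_101, ce_b_102, ce_b_103, ce_b_104, ce_b_105, ce_b_106, ce_b_107, ce_b_108, ce_b_109, ce_b_110, ce_b_111, ce_b_112, ce_b_113, ce_b_114, ce_b_115, ce_b_116, ce_b_117, ce_b_118, ce_b_119, ce_b_120, ce_b_121, ce_b_122, ce_b_123, ce_b_124, ce_b_125, ce_b_126, ce_b_127, ce_b_128, ce_b_129, ce_b_130, ce_b_131, ce_b_132, ce_b_133, ce_b_134, ce_b_135, ce_b_136, ce_b_137, ce_b_138, ce_b_139, ce_b_140, ce_b_141, ce_b_142, ce_b_143, ce_b_144, ce_b_145, ce_b_146, ce_b_147, ce_b_148, ce_b_149, ce_b_150, ce_b_151, ce_b_152, ce_b_153, ce_b_154, ce_b_155, ce_b_156, ce_b_157, ce_b_158, ce_b_159, ce_b_160, ce_b_161, ce_b_162, ce_b_163, ce_b_164, ce_b_165, ce_b_166, ce_b_167, ce_b_168, ce_b_169, ce_b_170, ce_b_171, ce_b_172, ce_b_173, ce_b_174, ce_b_175, ce_b_176, ce_b_177, ce_b_178, ce_b_179, ce_b_180, ce_b_181, ce_b_182, ce_b_183, ce_b_184, ce_b_185, ce_b_186, ce_b_187, ce_b_188, ce_b_189, ce_b_190, ce_b_191, ce_b_192, ce_b_193, ce_b_194, ce_b_195, ce_b_196, ce_b_197, ce_b_198, ce_b_199, ce_b_200, ce_b_201, ce_b_202, ce_b_203, ce_b_204,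 ce_b_205, ce_b_206, ce_b_207, ce_b_208, ce_b_209, ce_b_210, ce_b_211, ce_b_212, ce_b_213, ce_b_214, ce_b_215, ce_b_216, ce_b_217, ce_b_218, ce_b_219, ce_b_220, ce_b_221, ce_b_222, ce_b_223, ce_b_224, ce_b_225, ce_b_226, ce_b_227, ce_b_228, ce_b_229, ce_b_230, ce_b_231, ce_b_232, ce_b_233, ce_b_234, ce_b_235, ce_b_236, ce_b_237, ce_b_238, ce_b_239, ce_b_240, ce_b_241, ce_b_242, ce_b_243, ce_b_244, ce_b_245, ce_b_246, ce_b_247, ce_b_248, ce_b_249, ce_b_250, ce_b_251, ce_b_252, ce_b_253, ce_b_254, ce_b_255, ce_b_256, ce_b_257, ce_b_258, ce_b_259, ce_b_260, ce_b_261, ce_b_262, ce_b_263, ce_b_264, ce_b_265, ce_b_266, ce_b_267, ce_b_268, ce_b_269, ce_b_270, ce_b_271, ce_b_272, ce_b_273, ce_b_274, ce_b_275, ce_b_276, ce_b_277, ce_b_278, ce_b_279, ce_b_280, ce_b_281, ce_b_282, ce_b_283, ce_b_284, ce_b_285, ce_b_286, ce_b_287, ce_b_288, ce_b_289, ce_b_290, ce_b_291, ce_b_292, ce_b_293, ce_b_294, ce_b_295, ce_b_296, ce_b_297, ce_b_298, ce_b_299, ce_b_300, ce_b_301, ce_b_302, ce_b_303, ce_b_304, ce_b_305, ce_b_306, ce_b_307, ce_b_308,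 ce_b_309, ce_b_310, ce_b_311, ce_b_312, ce_b_313, ce_b_314, ce_b_315, ce_b_316, ce_b_317, ce_b_318, ce_b_319, ce_b_320, ce_b_321, ce_b_322, ce_b_323, ce_b_324, ce_b_325, ce_b_326, ce_b_327, ce_b_328, ce_b_329, ce_b_330, ce_b_331, ce_b_332, ce_b_333, ce_b_334, ce_b_335, ce_b_336, ce_b_337, ce_b_338, ce_b_339, ce_b_340, ce_b_341, ce_b_342, ce_b_343, ce_b_344, ce_b_345, ce_b_346, ce_b_347, ce_b_348, ce_b_349, ce_b_350, ce_b_351, ce_b_352, ce_b_353, ce_b_354, ce_b_355, ce_b_356, ce_b_357, ce_b_358, ce_b_359, ce_b_360, ce_b_361, ce_b_362, ce_b_363, ce_b_364, ce_b_365, ce_b_366, ce_b_367, ce_b_368, ce_b_369, ce_b_370, ce_b_371, ce_b_372, ce_b_373, ce_b_374, ce_b_375, ce_b_376, ce_b_377, ce_b_378, ce_b_379, ce_b_380, ce_b_381, ce_b_382, ce_b_383, ce_b_384, ce_b_385, ce_b_386, ce_b_387, ce_b_388, ce_b_389, ce_b_390, ce_b_391, ce_b_392, ce_b_393, ce_b_394, ce_b_395, ce_b_396, ce_b_397, ce_b_398, ce_b_399, ce_b_400, ce_b_401, ce_b_402, ce_b_403, ce_b_404, ce_b_405, ce_b_406, ce_b_407, ce_b_408, ce_b_409, ce_b_410, ce_b_411, ce_b_412,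 ce_b_413, ce_b_414, ce_b_415, ce_b_416, ce_b_417, ce_b_418, ce_b_419, ce_b_420, ce_b_421, ce_b_422, ce_b_423, ce_b_424, ce_b_425, ce_b_426, ce_b_427, ce_b_428, ce_b_429, ce_b_430, ce_b_431, ce_b_432, ce_b_433, ce_b_434, ce_b_435, ce_b_436, ce_b_437, ce_b_438, ce_b_439, ce_b_440, ce_b_441, ce_b_442, ce_b_443, ce_b_444, ce_b_445, ce_b_446, ce_b_447, ce_b_448, ce_b_449, ce_b_450, ce_b_451, ce_b_452, ce_b_453, ce_b_454, ce_b_455, ce_b_456, ce_b_457, ce_b_458, ce_b_459, ce_b_460, ce_b_461, ce_b_462, ce_b_463, ce_b_464, ce_b_465, ce_b_466, ce_b_467, ce_b_468, ce_b_469, ce_b_470, ce_b_471, ce_b_472, ce_b_473, ce_b_474, ce_b_475, ce_b_476, ce_b_477, ce_b_478, ce_b_479, ce_b_480, ce_b_481, ce_b_482, ce_b_483, ce_b_484, ce_b_485, ce_b_486, ce_b_487, ce_b_488, ce_b_489, ce_b_490, ce_b_491, ce_b_492, ce_b_493, trivial⟩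
    ce_b_494


end Cfsg.Agent.Helper28.FicA
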