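import Cfsg.Agent.Helper28.FicC0

/-!
# The Fi₂₃ presentation, cosets of the subgroup generated by a, …, i: the action of the generator c (helper28; generated)
-/

set_option autoImplicit false
set_option maxRecDepth 100000
set_option linter.unusedSimpArgs false
set_option linter.constructorNameAsVariable false

noncomputable section

namespace Cfsg.Agent.Helper28.FicA

open Cfsg.Spor Cfsg.Spor.Fi23 Cfsg.Agent.Helper28.CosetTable

theorem ce_c_0 : ∀ r, r < 64 → sm gc (Qf (0 + r)) = Qf (tab Gen.c (0 + r)) :=
  edges_tab (sm gc) Qf (tab Gen.c) 0 [(0, 0), (1, 1), (2, 2), (3, 3), (4, 4), (5, 6), (6, 5), (7, 9), (8, 8), (9, 7), (10, 14), (11, 11), (12, 12), (13, 13), (14, 10), (15, 15), (16, 22), (17, 17), (18, 18), (19, 19), (20, 28), (21, 21), (22, 16), (23, 31), (24, 32), (25, 25), (26, 26), (27, 27), (28, 20), (29, 40), (30, 41), (31, 23), (32, 24), (33, 46), (34, 47), (35, 48), (36, 36), (37, 37), (38, 38), (39, 39), (40, 29), (41, 30), (42, 59), (43, 60), (44, 61), (45, 45), (46, 33), (47, 34), (48, 35), (49, 68), (50, 69),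 (51, 70), (52, 52), (53, 53), (54, 54), (55, 79), (56, 56), (57, 57), (58, 58), (59, 42), (60, 43), (61, 44), (62, 87), (63, 88)]
    ⟨e3 q0 L2 q0, e3 q1 L13 q1, e3 q2 L23 q2, e3 q3 L33 q3, e3 q4 L43 q4, e3 q5 L58 q6, e3 q6 (flp_c L58) q5, e3 q7 (flp_c L88) q9, e3 q8 L84 q8, e3 q9 L88 q7, e3 q10 (flp_c L134) q14, e3 q11 L106 q11, e3 q12 L118 q12, e3 q13 L129 q13, e3 q14 L134 q10, e3 q15 L146 q15, e3 q16 L206 q22, e3 q17 L163 q17, e3 q18 L172 q18, e3 q19 L180 q19, e3 q20 L257 q28, e3 q21 L200 q21, e3 q22 (flp_c L206) q16, e3 q23 (flp_c L288) q31, e3 q24 (flp_c L296) q32, e3 q25 L234 q25, e3 q26 L242 q26, e3 q27 L251 q27, e3 q28 (flp_c L257) q20, e3 q29 (flp_c L367) q40, e3 q30 (flp_c L376) q41, e3 q31 L288 q23, e3 q32 L296 q24, e3 q33 (flp_c L421) q46, e3 q34 (flp_c L429) q47, e3 q35 (flp_c L438) q48, e3 q36 L331 q36, e3 q37 L339 q37, e3 q38 L348 q38, e3 q39 L362 q39, e3 q40 L367 q29, e3 q41 L376 q30, e3 q42 (flp_c L536) q59, e3 q43 (flp_c L545) q60, e3 q44 (flp_c L555) q61, e3 q45 L416 q45, e3 q46 L421 q33, e3 q47 L429 q34,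 e3 q48 L438 q35, e3 q49 (flp_c L617) q68, e3 q50 (flp_c L625) q69, e3 q51 (flp_c L634) q70, e3 q52 L473 q52, e3 q53 L482 q53, e3 q54 L491 q54, e3 q55 L713 q79, e3 q56 L510 q56, e3 q57 L519 q57, e3 q58 L530 q58, e3 q59 L536 q42, e3 q60 L545 q43, e3 q61 L555 q44, e3 q62 (flp_c L790) q87, e3 q63 (flp_c L799) q88, trivial⟩ (by decide +kernel)

theorem ce_c_1 : ∀ r, r < 64 → sm gc (Qf (64 + r)) = Qf (tab Gen.c (64 + r)) :=
  edges_tab (sm gc) Qf (tab Gen.c) 64 [(64, 89), (65, 65), (66, 66), (67, 67), (68, 49), (69, 50), (70, 51), (71, 71), (72, 101), (73, 102), (74, 103), (75, 109), (76, 76), (77, 77), (78, 112), (79, 55), (80, 115), (81, 81), (82, 82), (83, 83), (84, 84), (85, 85), (86, 86), (87, 62), (88, 63), (89, 64), (90, 90), (91, 129), (92, 130), (93, 131), (94, 137), (95, 95), (96, 96), (97, 97), (98, 98), (99, 99), (100, 100), (101, 72), (102, 73), (103, 74), (104, 151), (105, 105), (106, 148), (107, 149), (108, 156), (109, 75), (110, 110), (111, 160), (112, 78), (113, 163), (114, 158), (115, 80), (116, 165), (117, 166),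 (118, 167), (119, 119), (120, 120), (121, 121), (122, 178), (123, 123), (124, 124), (125, 125), (126, 126), (127, 127)]
    ⟨e3 q64 (flp_c L809) q89, e3 q65 L593 q65, e3 q66 L600 q66, e3 q67 L608 q67, e3 q68 L617 q49, e3 q69 L625 q50, e3 q70 L634 q51, e3 q71 L648 q71, e3 q72 (flp_c L915) q101, e3 q73 (flp_c L924) q102, e3 q74 (flp_c L933) q103, e3 q75 L982 q109, e3 q76 L689 q76, e3 q77 L699 q77, e3 q78 L1007 q112, e3 q79 (flp_c L713) q55, e3 q80 L1032 q115, e3 q81 L735 q81, e3 q82 L744 q82, e3 q83 L754 q83, e3 q84 L763 q84, e3 q85 L771 q85, e3 q86 L780 q86, e3 q87 L790 q62, e3 q88 L799 q63, e3 q89 L809 q64, e3 q90 L824 q90, e3 q91 (flp_c L1163) q129, e3 q92 (flp_c L1173) q130, e3 q93 (flp_c L1183) q131, e3 q94 L1237 q137, e3 q95 L869 q95, e3 q96 L876 q96, e3 q97 L883 q97, e3 q98 L891 q98, e3 q99 L900 q99, e3 q100 L908 q100, e3 q101 L915 q72, e3 q102 L924 q73, e3 q103 L933 q74, e3 q104 L1353 q151, e3 q105 L949 q105, e3 q106 (flp_c L1329) q148, e3 q107 (flp_c L1339) q149, e3 q108 L1395 q156, e3 q109 (flp_c L982) q75, e3 q110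 L992 q110, e3 q111 L1429 q160, e3 q112 (flp_c L1007) q78, e3 q113 (flp_c L1457) q163, e3 q114 (flp_c L1418) q158, e3 q115 (flp_c L1032) q80, e3 q116 (flp_c L1476) q165, e3 q117 (flp_c L1484) q166, e3 q118 (flp_c L1493) q167, e3 q119 L1072 q119, e3 q120 L1081 q120, e3 q121 L1091 q121, e3 q122 L1590 q178, e3 q123 L1111 q123, e3 q124 L1119 q124, e3 q125 L1127 q125, e3 q126 L1136 q126, e3 q127 L1146 q127, trivial⟩ (by decide +kernel)

theorem ce_c_2 : ∀ r, r < 64 → sm gc (Qf (128 + r)) = Qf (tab Gen.c (128 + r)) :=
  edges_tab (sm gc) Qf (tab Gen.c) 128 [(128, 128), (129, 91), (130, 92), (131, 93), (132, 193), (133, 133), (134, 190), (135, 191), (136, 198), (137, 94), (138, 138), (139, 139), (140, 140), (141, 141), (142, 142), (143, 143), (144, 144), (145, 145), (146, 146), (147, 215), (148, 106), (149, 107), (150, 219), (151, 104), (152, 222), (153, 153), (154, 217), (155, 226), (156, 108), (157, 229), (158, 114), (159, 231), (160, 111), (161, 234), (162, 228), (163, 113), (164, 230), (165, 116), (166, 117), (167, 118), (168,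 239), (169, 240), (170, 241), (171, 242), (172, 244), (173, 245), (174, 174), (175, 175), (176, 176), (177, 259), (178, 122), (179, 261), (180, 180), (181, 181), (182, 182), (183, 183), (184, 184), (185, 185), (186, 186), (187, 187), (188, 188), (189, 277), (190, 134), (191, 135)]
    ⟨e3 q128 L1155 q128, e3 q129 L1163 q91, e3 q130 L1173 q92, e3 q131 L1183 q93, e3 q132 L1729 q193, e3 q133 L1201 q133, e3 q134 (flp_c L1703) q190, e3 q135 (flp_c L1714) q191, e3 q136 L1777 q198, e3 q137 (flp_c L1237) q94, e3 q138 L1249 q138, e3 q139 L1256 q139, e3 q140 L1264 q140, e3 q141 L1273 q141, e3 q142 L1281 q142, e3 q143 L1289 q143, e3 q144 L1298 q144, e3 q145 L1306 q145, e3 q146 L1313 q146, e3 q147 L1918 q215, e3 q148 L1329 q106, e3 q149 L1339 q107, e3 q150 L1951 q219, e3 q151 (flp_c L1353) q104, e3 q152 (flp_c L1975) q222, e3 q153 L1371 q153, e3 q154 (flp_c L1936) q217, e3 q155 L2006 q226, e3 q156 (flp_c L1395) q108, e3 q157 (flp_c L2033) q229, e3 q158 L1418 q114, e3 q159 L2048 q231, e3 q160 (flp_c L1429) q111, e3 q161 (flp_c L2078)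 q234, e3 q162 (flp_c L2029) q228, e3 q163 L1457 q113, e3 q164 (flp_c L2041) q230, e3 q165 L1476 q116, e3 q166 L1484 q117, e3 q167 L1493 q118, e3 q168 (flp_c L2121) q239, e3 q169 (flp_c L2129) q240, e3 q170 (flp_c L2137) q241, e3 q171 (flp_c L2146) q242, e3 q172 (flp_c L2164) q244, e3 q173 (flp_c L2173) q245, e3 q174 L1556 q174, e3 q175 L1566 q175, e3 q176 L1576 q176, e3 q177 L2300 q259, e3 q178 (flp_c L1590) q122, e3 q179 (flp_c L2321) q261, e3 q180 L1613 q180, e3 q181 L1621 q181, e3 q182 L1630 q182, e3 q183 L1640 q183, e3 q184 L1649 q184, e3 q185 L1658 q185, e3 q186 L1668 q186, e3 q187 L1677 q187, e3 q188 L1685 q188, e3 q189 L2464 q277, e3 q190 L1703 q134, e3 q191 L1714 q135, trivial⟩ (by decide +kernel)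

theorem ce_c_3 : ∀ r, r < 64 → sm gc (Qf (192 + r)) = Qf (tab Gen.c (192 + r)) :=
  edges_tab (sm gc) Qf (tab Gen.c) 192 [(192, 281), (193, 132), (194, 284), (195, 195), (196, 279), (197, 288), (198, 136), (199, 291), (200, 200), (201, 201), (202, 202), (203, 203), (204, 204), (205, 301), (206, 206), (207, 207), (208, 208), (209, 209), (210, 210), (211, 211), (212, 212), (213, 310), (214, 312), (215, 147), (216, 315), (217, 154), (218, 318), (219, 150), (220, 321), (221, 221), (222, 152), (223, 325), (224, 224), (225, 328), (226, 155), (227, 331), (228, 162), (229, 157), (230, 164), (231, 159), (232, 337), (233, 330), (234, 161), (235, 342), (236, 333), (237, 334), (238, 238), (239, 168), (240, 169), (241, 170), (242, 171), (243, 243), (244, 172), (245, 173), (246, 347), (247, 348), (248, 349), (249, 350), (250, 351), (251, 352), (252, 354), (253, 355), (254, 358), (255, 374)]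
    ⟨e3 q192 L2502 q281, e3 q193 (flp_c L1729) q132, e3 q194 (flp_c L2530) q284, e3 q195 L1751 q195, e3 q196 (flp_c L2486) q279, e3 q197 L2564 q288, e3 q198 (flp_c L1777) q136, e3 q199 (flp_c L2595) q291, e3 q200 L1803 q200, e3 q201 L1807 q201, e3 q202 L1814 q202, e3 q203 L1822 q203, e3 q204 L1830 q204, e3 q205 L2678 q301, e3 q206 L1846 q206, e3 q207 L1854 q207, e3 q208 L1862 q208, e3 q209 L1871 q209, e3 q210 L1881 q210, e3 q211 L1889 q211, e3 q212 L1896 q212, e3 q213 L2752 q310, e3 q214 L2766 q312, e3 q215 (flp_c L1918) q147, e3 q216 (flp_c L2793) q315, e3 q217 L1936 q154, e3 q218 L2814 q318, e3 q219 (flp_c L1951) q150, e3 q220 (flp_c L2840) q321, e3 q221 L1972 q221, e3 q222 L1975 q152, e3 q223 (flp_c L2871) q325, e3 q224 L1991 q224, e3 q225 L2892 q328, e3 q226 (flp_c L2006) q155, e3 q227 (flp_c L2921) q331, e3 q228 L2029 q162, e3 q229 L2033 q157, e3 q230 L2041 q164, e3 q231 (flp_c L2048) q159, e3 q232 (flp_c L2973) q337, e3 q233 (flp_c L2917) q330, e3 q234 L2078 q161, e3 q235 (flp_c L3017) q342, e3 q236 (flp_c L2938) q333,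 e3 q237 (flp_c L2949) q334, e3 q238 L2115 q238, e3 q239 L2121 q168, e3 q240 L2129 q169, e3 q241 L2137 q170, e3 q242 L2146 q171, e3 q243 L2158 q243, e3 q244 L2164 q172, e3 q245 L2173 q173, e3 q246 (flp_c L3061) q347, e3 q247 (flp_c L3069) q348, e3 q248 (flp_c L3080) q349, e3 q249 (flp_c L3090) q350, e3 q250 (flp_c L3099) q351, e3 q251 (flp_c L3108) q352, e3 q252 (flp_c L3128) q354, e3 q253 (flp_c L3137) q355, e3 q254 (flp_c L3165) q358, e3 q255 L3311 q374, trivial⟩ (by decide +kernel)

theorem ce_c_4 : ∀ r, r < 64 → sm gc (Qf (256 + r)) = Qf (tab Gen.c (256 + r)) :=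
  edges_tab (sm gc) Qf (tab Gen.c) 256 [(256, 256), (257, 257), (258, 378), (259, 177), (260, 381), (261, 179), (262, 384), (263, 263), (264, 264), (265, 265), (266, 266), (267, 394), (268, 268), (269, 269), (270, 270), (271, 271), (272, 272), (273, 273), (274, 274), (275, 403), (276, 405), (277, 189), (278, 408), (279, 196), (280, 411), (281, 192), (282, 414), (283, 380), (284, 194), (285, 418), (286, 286), (287, 421), (288, 197), (289, 424), (290, 290), (291, 199), (292, 292), (293, 293), (294, 294), (295, 295), (296, 296), (297, 297), (298, 438), (299, 299), (300, 300), (301, 205), (302, 443), (303, 303), (304, 446), (305, 305), (306, 306), (307, 307), (308, 451), (309, 453), (310, 213), (311, 456), (312, 214), (313, 459), (314, 314), (315, 216), (316, 464), (317, 466), (318, 218), (319, 469)]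
    ⟨e3 q256 L2274 q256, e3 q257 L2285 q257, e3 q258 L3349 q378, e3 q259 (flp_c L2300) q177, e3 q260 (flp_c L3376) q381, e3 q261 L2321 q179, e3 q262 (flp_c L3402) q384, e3 q263 L2340 q263, e3 q264 L2348 q264, e3 q265 L2357 q265, e3 q266 L2366 q266, e3 q267 L3492 q394, e3 q268 L2384 q268, e3 q269 L2393 q269, e3 q270 L2402 q270, e3 q271 L2412 q271, e3 q272 L2423 q272, e3 q273 L2432 q273, e3 q274 L2440 q274, e3 q275 L3577 q403, e3 q276 L3594 q405, e3 q277 (flp_c L2464) q189, e3 q278 (flp_c L3625) q408, e3 q279 L2486 q196, e3 q280 L3648 q411, e3 q281 (flp_c L2502) q192, e3 q282 (flp_c L3678) q414, e3 q283 (flp_c L3371) q380, e3 q284 L2530 q194, e3 q285 (flp_c L3712) q418, e3 q286 L2548 q286, e3 q287 L3735 q421, e3 q288 (flp_c L2564) q197, e3 q289 (flp_c L3768) q424, e3 q290 L2590 q290, e3 q291 L2595 q199, e3 q292 L2603 q292, e3 q293 L2614 q293, e3 q294 L2622 q294, e3 q295 L2630 q295, e3 q296 L2639 q296, e3 q297 L2648 q297, e3 q298 L3887 q438, e3 q299 L2665 q299, e3 q300 L2673 q300, e3 q301 (flp_c L2678) q205, e3 q302 (flp_c L3929)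 q443, e3 q303 L2696 q303, e3 q304 L3949 q446, e3 q305 L2712 q305, e3 q306 L2721 q306, e3 q307 L2729 q307, e3 q308 L3990 q451, e3 q309 L4005 q453, e3 q310 (flp_c L2752) q213, e3 q311 (flp_c L4032) q456, e3 q312 (flp_c L2766) q214, e3 q313 (flp_c L4056) q459, e3 q314 L2790 q314, e3 q315 L2793 q216, e3 q316 (flp_c L4097) q464, e3 q317 L4109 q466, e3 q318 (flp_c L2814) q218, e3 q319 (flp_c L4137) q469, trivial⟩ (by decide +kernel)

theorem ce_c_5 : ∀ r, r < 64 → sm gc (Qf (320 + r)) = Qf (tab Gen.c (320 + r)) :=
  edges_tab (sm gc) Qf (tab Gen.c) 320 [(320, 320), (321, 220), (322, 474), (323, 323), (324, 324), (325, 223), (326, 478), (327, 327), (328, 225), (329, 481), (330, 233), (331, 227), (332, 486), (333, 236), (334, 237), (335, 335), (336, 480), (337, 232), (338, 493), (339, 483), (340, 484), (341, 341), (342, 235), (343, 487), (344, 444), (345, 345), (346, 346), (347, 246), (348, 247), (349, 248), (350, 249), (351, 250), (352, 251), (353, 353), (354, 252), (355, 253), (356, 356), (357, 357), (358, 254), (359, 520), (360,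 503), (361, 504), (362, 505), (363, 506), (364, 364), (365, 507), (366, 508), (367, 509), (368, 510), (369, 512), (370, 513), (371, 515), (372, 538), (373, 540), (374, 255), (375, 543), (376, 376), (377, 546), (378, 258), (379, 549), (380, 283), (381, 260), (382, 554), (383, 553)]
    ⟨e3 q320 L2837 q320, e3 q321 L2840 q220, e3 q322 (flp_c L4173) q474, e3 q323 L2854 q323, e3 q324 L2864 q324, e3 q325 L2871 q223, e3 q326 (flp_c L4205) q478, e3 q327 L2886 q327, e3 q328 (flp_c L2892) q225, e3 q329 (flp_c L4230) q481, e3 q330 L2917 q233, e3 q331 L2921 q227, e3 q332 (flp_c L4274) q486, e3 q333 L2938 q236, e3 q334 L2949 q237, e3 q335 L2960 q335, e3 q336 (flp_c L4226) q480, e3 q337 L2973 q232, e3 q338 (flp_c L4334) q493, e3 q339 (flp_c L4249) q483, e3 q340 (flp_c L4260) q484, e3 q341 L3012 q341, e3 q342 L3017 q235, e3 q343 (flp_c L4284) q487, e3 q344 (flp_c L571881) q444, e3 q345 L3043 q345, e3 q346 L3054 q346, e3 q347 L3061 q246, e3 q348 L3069 q247, e3 q349 L3080 q248, e3 q350 L3090 q249, e3 q351 L3099 q250, e3 q352 L3108 q251,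 e3 q353 L3121 q353, e3 q354 L3128 q252, e3 q355 L3137 q253, e3 q356 L3146 q356, e3 q357 L3156 q357, e3 q358 L3165 q254, e3 q359 L4608 q520, e3 q360 (flp_c L4447) q503, e3 q361 (flp_c L4455) q504, e3 q362 (flp_c L4464) q505, e3 q363 (flp_c L4475) q506, e3 q364 L3222 q364, e3 q365 (flp_c L4485) q507, e3 q366 (flp_c L4496) q508, e3 q367 (flp_c L4506) q509, e3 q368 (flp_c L4516) q510, e3 q369 (flp_c L4537) q512, e3 q370 (flp_c L4546) q513, e3 q371 (flp_c L4566) q515, e3 q372 L4781 q538, e3 q373 L4797 q540, e3 q374 (flp_c L3311) q255, e3 q375 (flp_c L4827) q543, e3 q376 L3333 q376, e3 q377 L4852 q546, e3 q378 (flp_c L3349) q258, e3 q379 (flp_c L4881) q549, e3 q380 L3371 q283, e3 q381 L3376 q260, e3 q382 (flp_c L4925) q554, e3 q383 (flp_c L4919) q553, trivial⟩ (by decide +kernel)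

theorem ce_c_6 : ∀ r, r < 64 → sm gc (Qf (384 + r)) = Qf (tab Gen.c (384 + r)) :=
  edges_tab (sm gc) Qf (tab Gen.c) 384 [(384, 262), (385, 558), (386, 386), (387, 387), (388, 388), (389, 389), (390, 390), (391, 569), (392, 392), (393, 393), (394, 267), (395, 573), (396, 396), (397, 576), (398, 398), (399, 399), (400, 400), (401, 581), (402, 583), (403, 275), (404, 586), (405, 276), (406, 589), (407, 542), (408, 278), (409, 594), (410, 596), (411, 280), (412, 599), (413, 548), (414, 282), (415, 604), (416, 551), (417, 552), (418, 285), (419, 608), (420, 420), (421, 287), (422, 611), (423, 423), (424, 289), (425, 616), (426, 426), (427, 427), (428, 428), (429, 429), (430, 430), (431, 431), (432, 625), (433, 433), (434, 434), (435, 630), (436, 436), (437, 437), (438, 298), (439, 635), (440, 440), (441, 638), (442, 442), (443, 302), (444, 344), (445, 641), (446, 304), (447, 644)]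
    ⟨e3 q384 L3402 q262, e3 q385 (flp_c L4958) q558, e3 q386 L3421 q386, e3 q387 L3430 q387, e3 q388 L3439 q388, e3 q389 L3449 q389, e3 q390 L3459 q390, e3 q391 L5059 q569, e3 q392 L3478 q392, e3 q393 L3487 q393, e3 q394 (flp_c L3492) q267, e3 q395 (flp_c L5101) q573, e3 q396 L3515 q396, e3 q397 L5123 q576, e3 q398 L3533 q398, e3 q399 L3543 q399, e3 q400 L3552 q400, e3 q401 L5170 q581, e3 q402 L5188 q583, e3 q403 (flp_c L3577) q275, e3 q404 (flp_c L5219) q586, e3 q405 (flp_c L3594) q276, e3 q406 (flp_c L5245) q589, e3 q407 (flp_c L4822) q542, e3 q408 L3625 q278, e3 q409 (flp_c L5291) q594, e3 q410 L5304 q596, e3 q411 (flp_c L3648) q280, e3 q412 (flp_c L5336) q599, e3 q413 (flp_c L4876) q548, e3 q414 L3678 q282, e3 q415 (flp_c L5377) q604, e3 q416 (flp_c L4897) q551, e3 q417 (flp_c L4908) q552, e3 q418 L3712 q285, e3 q419 (flp_c L5412) q608, e3 q420 L3729 q420, e3 q421 (flp_c L3735) q287, e3 q422 (flp_c L5439) q611, e3 q423 L3763 q423, e3 q424 L3768 q289, e3 q425 (flp_c L5488) q616, e3 q426 L3786 q426, e3 q427 L3798 q427,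 e3 q428 L3810 q428, e3 q429 L3814 q429, e3 q430 L3822 q430, e3 q431 L3831 q431, e3 q432 L5565 q625, e3 q433 L3848 q433, e3 q434 L3856 q434, e3 q435 L5604 q630, e3 q436 L3872 q436, e3 q437 L3881 q437, e3 q438 (flp_c L3887) q298, e3 q439 (flp_c L5650) q635, e3 q440 L3905 q440, e3 q441 L5670 q638, e3 q442 L3926 q442, e3 q443 L3929 q302, e3 q444 L571881 q344, e3 q445 L5710 q641, e3 q446 (flp_c L3949) q304, e3 q447 (flp_c L5734) q644, trivial⟩ (by decide +kernel)

theorem ce_c_7 : ∀ r, r < 64 → sm gc (Qf (448 + r)) = Qf (tab Gen.c (448 + r)) :=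
  edges_tab (sm gc) Qf (tab Gen.c) 448 [(448, 448), (449, 647), (450, 649), (451, 308), (452, 652), (453, 309), (454, 655), (455, 455), (456, 311), (457, 660), (458, 458), (459, 313), (460, 665), (461, 461), (462, 462), (463, 463), (464, 316), (465, 671), (466, 317), (467, 674), (468, 468), (469, 319), (470, 679), (471, 471), (472, 472), (473, 473), (474, 322), (475, 686), (476, 476), (477, 477), (478, 326), (479, 690), (480, 336), (481, 329), (482, 694), (483, 339), (484, 340), (485, 485), (486, 332), (487, 343), (488, 640), (489, 489), (490, 691), (491, 692), (492, 492), (493, 338), (494, 707), (495, 696), (496, 636), (497, 698), (498, 498), (499, 499), (500, 574), (501, 501), (502, 502), (503, 360), (504, 361), (505, 362), (506, 363), (507, 365), (508, 366), (509, 367), (510, 368), (511, 511)]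
    ⟨e3 q448 L3965 q448, e3 q449 L5756 q647, e3 q450 L5773 q649, e3 q451 (flp_c L3990) q308, e3 q452 (flp_c L5801) q652, e3 q453 (flp_c L4005) q309, e3 q454 (flp_c L5825) q655, e3 q455 L4029 q455, e3 q456 L4032 q311, e3 q457 (flp_c L5863) q660, e3 q458 L4053 q458, e3 q459 L4056 q313, e3 q460 (flp_c L5906) q665, e3 q461 L4073 q461, e3 q462 L4083 q462, e3 q463 L4092 q463, e3 q464 L4097 q316, e3 q465 (flp_c L5954) q671, e3 q466 (flp_c L4109) q317, e3 q467 (flp_c L5979) q674, e3 q468 L4134 q468, e3 q469 L4137 q319, e3 q470 (flp_c L6020) q679, e3 q471 L4150 q471, e3 q472 L4161 q472, e3 q473 L4168 q473, e3 q474 L4173 q322, e3 q475 (flp_c L6072) q686, e3 q476 L4190 q476, e3 q477 L4199 q477, e3 q478 L4205 q326, e3 q479 (flp_c L6103) q690, e3 q480 L4226 q336, e3 q481 L4230 q329, e3 q482 (flp_c L6139) q694, e3 q483 L4249 q339, e3 q484 L4260 q340, e3 q485 L4271 q485, e3 q486 L4274 q332, e3 q487 L4284 q343, e3 q488 (flp_c L583176) q640, e3 q489 L4299 q489, e3 q490 (flp_c L6111) q691, e3 q491 (flp_c L6123) q692, e3 q492 L4329 q492, e3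 q493 L4334 q338, e3 q494 (flp_c L6274) q707, e3 q495 (flp_c L6160) q696, e3 q496 (flp_c L583144) q636, e3 q497 (flp_c L6177) q698, e3 q498 L4378 q498, e3 q499 L4386 q499, e3 q500 L572362 q574, e3 q501 L4428 q501, e3 q502 L4437 q502, e3 q503 L4447 q360, e3 q504 L4455 q361, e3 q505 L4464 q362, e3 q506 L4475 q363, e3 q507 L4485 q365, e3 q508 L4496 q366, e3 q509 L4506 q367, e3 q510 L4516 q368, e3 q511 L4530 q511, trivial⟩ (by decide +kernel)

theorem ce_c_8 : ∀ r, r < 64 → sm gc (Qf (512 + r)) = Qf (tab Gen.c (512 + r)) :=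
  edges_tab (sm gc) Qf (tab Gen.c) 512 [(512, 369), (513, 370), (514, 514), (515, 371), (516, 734), (517, 517), (518, 518), (519, 738), (520, 359), (521, 741), (522, 717), (523, 718), (524, 719), (525, 720), (526, 721), (527, 527), (528, 722), (529, 723), (530, 530), (531, 724), (532, 757), (533, 727), (534, 728), (535, 730), (536, 762), (537, 764), (538, 372), (539, 767), (540, 373), (541, 770), (542, 407), (543, 375), (544, 775), (545, 777), (546, 377), (547, 780), (548, 413), (549, 379), (550, 785), (551, 416), (552, 417), (553, 383), (554, 382), (555, 792), (556, 790), (557, 791), (558, 385), (559, 798), (560, 560), (561, 561), (562, 562), (563, 804), (564, 564), (565, 565), (566, 809), (567, 567), (568, 568), (569, 391), (570, 813), (571, 571), (572, 816), (573, 395), (574, 500), (575, 819)]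
    ⟨e3 q512 L4537 q369, e3 q513 L4546 q370, e3 q514 L4555 q514, e3 q515 L4566 q371, e3 q516 L6591 q734, e3 q517 L4585 q517, e3 q518 L4596 q518, e3 q519 L6626 q738, e3 q520 (flp_c L4608) q359, e3 q521 (flp_c L6655) q741, e3 q522 (flp_c L6423) q717, e3 q523 (flp_c L6432) q718, e3 q524 (flp_c L6443) q719, e3 q525 (flp_c L6453) q720, e3 q526 (flp_c L6465) q721, e3 q527 L4680 q527, e3 q528 (flp_c L6476) q722, e3 q529 (flp_c L6487) q723, e3 q530 L4706 q530, e3 q531 (flp_c L6497) q724, e3 q532 L6805 q757, e3 q533 (flp_c L6526) q727, e3 q534 (flp_c L6536) q728, e3 q535 (flp_c L6557) q730, e3 q536 L6853 q762, e3 q537 L6870 q764, e3 q538 (flp_c L4781) q372, e3 q539 (flp_c L6900) q767, e3 q540 (flp_c L4797) q373, e3 q541 (flp_c L6927) q770, e3 q542 L4822 q407, e3 q543 L4827 q375, e3 q544 (flp_c L6972) q775, e3 q545 L6986 q777, e3 q546 (flp_c L4852) q377, e3 q547 (flp_c L7017) q780, e3 q548 L4876 q413, e3 q549 L4881 q379, e3 q550 (flp_c L7058) q785, e3 q551 L4897 q416, e3 q552 L4908 q417, e3 q553 L4919 q383, e3 q554 L4925 q382, e3 q555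 (flp_c L7120) q792, e3 q556 (flp_c L7103) q790, e3 q557 (flp_c L7112) q791, e3 q558 L4958 q385, e3 q559 (flp_c L7171) q798, e3 q560 L4978 q560, e3 q561 L4987 q561, e3 q562 L4997 q562, e3 q563 L7228 q804, e3 q564 L5016 q564, e3 q565 L5025 q565, e3 q566 L7274 q809, e3 q567 L5043 q567, e3 q568 L5053 q568, e3 q569 (flp_c L5059) q391, e3 q570 (flp_c L7320) q813, e3 q571 L5082 q571, e3 q572 L7342 q816, e3 q573 L5101 q395, e3 q574 (flp_c L572362) q500, e3 q575 L7379 q819, trivial⟩ (by decide +kernel)

theorem ce_c_9 : ∀ r, r < 64 → sm gc (Qf (576 + r)) = Qf (tab Gen.c (576 + r)) :=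
  edges_tab (sm gc) Qf (tab Gen.c) 576 [(576, 397), (577, 822), (578, 578), (579, 825), (580, 827), (581, 401), (582, 830), (583, 402), (584, 833), (585, 766), (586, 404), (587, 838), (588, 769), (589, 406), (590, 843), (591, 772), (592, 773), (593, 593), (594, 409), (595, 849), (596, 410), (597, 852), (598, 779), (599, 412), (600, 857), (601, 782), (602, 783), (603, 603), (604, 415), (605, 864), (606, 787), (607, 789), (608, 419), (609, 868), (610, 610), (611, 422), (612, 872), (613, 613), (614, 614), (615, 615), (616, 425), (617, 617), (618, 880), (619, 619), (620, 620), (621, 621), (622, 886), (623, 623), (624, 624), (625, 432), (626, 892), (627, 893), (628, 628), (629, 897), (630, 435), (631, 900), (632, 632), (633, 903), (634, 634), (635, 439), (636, 496), (637, 906), (638, 441), (639, 909)]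
    ⟨e3 q576 (flp_c L5123) q397, e3 q577 (flp_c L7407) q822, e3 q578 L5143 q578, e3 q579 L7431 q825, e3 q580 L7451 q827, e3 q581 (flp_c L5170) q401, e3 q582 (flp_c L7483) q830, e3 q583 (flp_c L5188) q402, e3 q584 (flp_c L7509) q833, e3 q585 (flp_c L6895) q766, e3 q586 L5219 q404, e3 q587 (flp_c L7552) q838, e3 q588 (flp_c L6922) q769, e3 q589 L5245 q406, e3 q590 (flp_c L7600) q843, e3 q591 (flp_c L6946) q772, e3 q592 (flp_c L6957) q773, e3 q593 L5284 q593, e3 q594 L5291 q409, e3 q595 (flp_c L7653) q849, e3 q596 (flp_c L5304) q410, e3 q597 (flp_c L7680) q852, e3 q598 (flp_c L7012) q779, e3 q599 L5336 q412, e3 q600 (flp_c L7726) q857, e3 q601 (flp_c L7032) q782, e3 q602 (flp_c L7044) q783, e3 q603 L5370 q603, e3 q604 L5377 q415, e3 q605 (flp_c L7785) q864, e3 q606 (flp_c L7078) q787, e3 q607 (flp_c L7096) q789, e3 q608 L5412 q419, e3 q609 (flp_c L7819) q868, e3 q610 L5434 q610, e3 q611 L5439 q422, e3 q612 (flp_c L7859) q872, e3 q613 L5459 q613, e3 q614 L5471 q614, e3 q615 L5483 q615, e3 q616 L5488 q425, e3 q617 L5500 q617,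 e3 q618 L7930 q880, e3 q619 L5516 q619, e3 q620 L5523 q620, e3 q621 L5532 q621, e3 q622 L7979 q886, e3 q623 L5550 q623, e3 q624 L5559 q624, e3 q625 (flp_c L5565) q432, e3 q626 (flp_c L8034) q892, e3 q627 (flp_c L8041) q893, e3 q628 L5590 q628, e3 q629 L8070 q897, e3 q630 (flp_c L5604) q435, e3 q631 (flp_c L8095) q900, e3 q632 L5624 q632, e3 q633 L8118 q903, e3 q634 L5647 q634, e3 q635 L5650 q439, e3 q636 L583144 q496, e3 q637 L8160 q906, e3 q638 (flp_c L5670) q441, e3 q639 (flp_c L8185) q909, trivial⟩ (by decide +kernel)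

theorem ce_c_10 : ∀ r, r < 64 → sm gc (Qf (640 + r)) = Qf (tab Gen.c (640 + r)) :=
  edges_tab (sm gc) Qf (tab Gen.c) 640 [(640, 488), (641, 445), (642, 912), (643, 643), (644, 447), (645, 916), (646, 918), (647, 449), (648, 921), (649, 450), (650, 924), (651, 651), (652, 452), (653, 929), (654, 654), (655, 454), (656, 934), (657, 657), (658, 658), (659, 915), (660, 457), (661, 941), (662, 662), (663, 663), (664, 664), (665, 460), (666, 948), (667, 667), (668, 952), (669, 669), (670, 670), (671, 465), (672, 957), (673, 673), (674, 467), (675, 961), (676, 676), (677, 677), (678, 678), (679, 470), (680, 968), (681, 681), (682, 911), (683, 683), (684, 684), (685, 685), (686, 475), (687, 976), (688, 688), (689, 689), (690, 479), (691, 490), (692, 491), (693, 693), (694, 482), (695, 984), (696, 495), (697, 905), (698, 497), (699, 699), (700, 700), (701, 818), (702, 979), (703, 901)]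
    ⟨e3 q640 L583176 q488, e3 q641 (flp_c L5710) q445, e3 q642 (flp_c L8237) q912, e3 q643 L5731 q643, e3 q644 L5734 q447, e3 q645 (flp_c L8273) q916, e3 q646 L8285 q918, e3 q647 (flp_c L5756) q449, e3 q648 (flp_c L8316) q921, e3 q649 (flp_c L5773) q450, e3 q650 (flp_c L8343) q924, e3 q651 L5798 q651, e3 q652 L5801 q452, e3 q653 (flp_c L8382) q929, e3 q654 L5822 q654, e3 q655 L5825 q454, e3 q656 (flp_c L8422) q934, e3 q657 L5842 q657, e3 q658 L5853 q658, e3 q659 (flp_c L8268) q915, e3 q660 L5863 q457, e3 q661 (flp_c L8475) q941, e3 q662 L5879 q662, e3 q663 L5890 q663, e3 q664 L5902 q664, e3 q665 L5906 q460, e3 q666 (flp_c L8535) q948, e3 q667 L5924 q667, e3 q668 L8566 q952, e3 q669 L5941 q669, e3 q670 L5947 q670, e3 q671 L5954 q465, e3 q672 (flp_c L8605) q957, e3 q673 L5976 q673, e3 q674 L5979 q467, e3 q675 (flp_c L8641) q961, e3 q676 L5995 q676, e3 q677 L6006 q677, e3 q678 L6015 q678, e3 q679 L6020 q470, e3 q680 (flp_c L8693) q968, e3 q681 L6036 q681, e3 q682 L583183 q911, e3 q683 L6051 q683, e3 q684 L6058 q684, e3 q685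 L6066 q685, e3 q686 L6072 q475, e3 q687 (flp_c L8779) q976, e3 q688 L6089 q688, e3 q689 L6097 q689, e3 q690 L6103 q479, e3 q691 L6111 q490, e3 q692 L6123 q491, e3 q693 L6136 q693, e3 q694 L6139 q482, e3 q695 (flp_c L8849) q984, e3 q696 L6160 q495, e3 q697 L583149 q905, e3 q698 L6177 q497, e3 q699 L6185 q699, e3 q700 L6192 q700, e3 q701 L571889 q818, e3 q702 (flp_c L8806) q979, e3 q703 L572418 q901, trivial⟩ (by decide +kernel)

theorem ce_c_11 : ∀ r, r < 64 → sm gc (Qf (704 + r)) = Qf (tab Gen.c (704 + r)) :=
  edges_tab (sm gc) Qf (tab Gen.c) 704 [(704, 981), (705, 705), (706, 706), (707, 494), (708, 814), (709, 986), (710, 895), (711, 711), (712, 712), (713, 713), (714, 714), (715, 715), (716, 716), (717, 522), (718, 523), (719, 524), (720, 525), (721, 526), (722, 528), (723, 529), (724, 531), (725, 1016), (726, 726), (727, 533), (728, 534), (729, 729), (730, 535), (731, 1023), (732, 732), (733, 1026), (734, 516), (735, 1029), (736, 736), (737, 1032), (738, 519), (739, 1035), (740, 740), (741, 521), (742, 1040), (743, 1006),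 (744, 1007), (745, 1008), (746, 746), (747, 1009), (748, 1010), (749, 749), (750, 1011), (751, 1012), (752, 752), (753, 1013), (754, 1056), (755, 755), (756, 1059), (757, 532), (758, 1062), (759, 1019), (760, 1065), (761, 1067), (762, 536), (763, 1070), (764, 537), (765, 1073), (766, 585), (767, 539)]
    ⟨e3 q704 (flp_c L8825) q981, e3 q705 L6256 q705, e3 q706 L6265 q706, e3 q707 L6274 q494, e3 q708 L572479 q814, e3 q709 (flp_c L8867) q986, e3 q710 L572495 q895, e3 q711 L6325 q711, e3 q712 L6333 q712, e3 q713 L6385 q713, e3 q714 L6394 q714, e3 q715 L6404 q715, e3 q716 L6414 q716, e3 q717 L6423 q522, e3 q718 L6432 q523, e3 q719 L6443 q524, e3 q720 L6453 q525, e3 q721 L6465 q526, e3 q722 L6476 q528, e3 q723 L6487 q529, e3 q724 L6497 q531, e3 q725 L9325 q1016, e3 q726 L6519 q726, e3 q727 L6526 q533, e3 q728 L6536 q534, e3 q729 L6546 q729, e3 q730 L6557 q535, e3 q731 L9391 q1023, e3 q732 L6576 q732, e3 q733 L9417 q1026, e3 q734 (flp_c L6591) q516, e3 q735 (flp_c L9446) q1029, e3 q736 L6610 q736, e3 q737 L9467 q1032, e3 q738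 (flp_c L6626) q519, e3 q739 (flp_c L9497) q1035, e3 q740 L6651 q740, e3 q741 L6655 q521, e3 q742 (flp_c L9539) q1040, e3 q743 (flp_c L9226) q1006, e3 q744 (flp_c L9235) q1007, e3 q745 (flp_c L9247) q1008, e3 q746 L6705 q746, e3 q747 (flp_c L9258) q1009, e3 q748 (flp_c L9269) q1010, e3 q749 L6733 q749, e3 q750 (flp_c L9279) q1011, e3 q751 (flp_c L9291) q1012, e3 q752 L6761 q752, e3 q753 (flp_c L9302) q1013, e3 q754 L9695 q1056, e3 q755 L6791 q755, e3 q756 L9721 q1059, e3 q757 (flp_c L6805) q532, e3 q758 (flp_c L9748) q1062, e3 q759 (flp_c L9355) q1019, e3 q760 L9774 q1065, e3 q761 L9793 q1067, e3 q762 (flp_c L6853) q536, e3 q763 (flp_c L9824) q1070, e3 q764 (flp_c L6870) q537, e3 q765 (flp_c L9851) q1073, e3 q766 L6895 q585, e3 q767 L6900 q539, trivial⟩ (by decide +kernel)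

theorem ce_c_12 : ∀ r, r < 64 → sm gc (Qf (768 + r)) = Qf (tab Gen.c (768 + r)) :=
  edges_tab (sm gc) Qf (tab Gen.c) 768 [(768, 1078), (769, 588), (770, 541), (771, 1083), (772, 591), (773, 592), (774, 774), (775, 544), (776, 1090), (777, 545), (778, 1093), (779, 598), (780, 547), (781, 1098), (782, 601), (783, 602), (784, 784), (785, 550), (786, 1105), (787, 606), (788, 788), (789, 607), (790, 556), (791, 557), (792, 555), (793, 1116), (794, 1112), (795, 1113), (796, 1114), (797, 1115), (798, 559), (799, 799), (800, 800), (801, 1125), (802, 802), (803, 803), (804, 563), (805, 1130), (806, 1131), (807, 807), (808, 1135), (809, 566), (810, 1137), (811, 811), (812, 1140), (813, 570), (814, 708), (815, 1143), (816, 572), (817, 1146), (818, 701), (819, 575), (820, 1150), (821, 1061), (822, 577), (823, 1155), (824, 1157), (825, 579), (826, 1160), (827, 580), (828, 1163), (829, 1069), (830, 582), (831, 1168)]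
    ⟨e3 q768 (flp_c L9894) q1078, e3 q769 L6922 q588, e3 q770 L6927 q541, e3 q771 (flp_c L9942) q1083, e3 q772 L6946 q591, e3 q773 L6957 q592, e3 q774 L6968 q774, e3 q775 L6972 q544, e3 q776 (flp_c L10002) q1090, e3 q777 (flp_c L6986) q545, e3 q778 (flp_c L10030) q1093, e3 q779 L7012 q598, e3 q780 L7017 q547, e3 q781 (flp_c L10076) q1098, e3 q782 L7032 q601, e3 q783 L7044 q602, e3 q784 L7053 q784, e3 q785 L7058 q550, e3 q786 (flp_c L10133) q1105, e3 q787 L7078 q606, e3 q788 L7090 q788, e3 q789 L7096 q607, e3 q790 L7103 q556, e3 q791 L7112 q557, e3 q792 L7120 q555, e3 q793 (flp_c L10229) q1116, e3 q794 (flp_c L10195) q1112, e3 q795 (flp_c L10203) q1113, e3 q796 (flp_c L10212) q1114, e3 q797 (flp_c L10220) q1115, e3 q798 L7171 q559, e3 q799 L7182 q799, e3 q800 L7192 q800, e3 q801 L10305 q1125, e3 q802 L7212 q802, e3 q803 L7222 q803, e3 q804 (flp_c L7228) q563, e3 q805 (flp_c L10361) q1130, e3 q806 (flp_c L10371) q1131, e3 q807 L7259 q807, e3 q808 L10403 q1135, e3 q809 (flp_c L7274) q566, e3 q810 (flp_c L10424) q1137, e3 q811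 L7299 q811, e3 q812 L10449 q1140, e3 q813 L7320 q570, e3 q814 (flp_c L572479) q708, e3 q815 L10488 q1143, e3 q816 (flp_c L7342) q572, e3 q817 (flp_c L10517) q1146, e3 q818 (flp_c L571889) q701, e3 q819 (flp_c L7379) q575, e3 q820 (flp_c L10567) q1150, e3 q821 (flp_c L9743) q1061, e3 q822 L7407 q577, e3 q823 (flp_c L10608) q1155, e3 q824 L10621 q1157, e3 q825 (flp_c L7431) q579, e3 q826 (flp_c L10656) q1160, e3 q827 (flp_c L7451) q580, e3 q828 (flp_c L10685) q1163, e3 q829 (flp_c L9819) q1069, e3 q830 L7483 q582, e3 q831 (flp_c L10729) q1168, trivial⟩ (by decide +kernel)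

theorem ce_c_13 : ∀ r, r < 64 → sm gc (Qf (832 + r)) = Qf (tab Gen.c (832 + r)) :=
  edges_tab (sm gc) Qf (tab Gen.c) 832 [(832, 1072), (833, 584), (834, 1173), (835, 1075), (836, 1076), (837, 1154), (838, 587), (839, 1180), (840, 1080), (841, 1081), (842, 842), (843, 590), (844, 1187), (845, 1085), (846, 1191), (847, 1087), (848, 848), (849, 595), (850, 1196), (851, 1092), (852, 597), (853, 1200), (854, 1095), (855, 1096), (856, 856), (857, 600), (858, 1207), (859, 1100), (860, 1211), (861, 1102), (862, 862), (863, 863), (864, 605), (865, 1218), (866, 1108), (867, 1111), (868, 609), (869, 869), (870, 870), (871, 871), (872, 612), (873, 1226), (874, 874), (875, 1229), (876, 876), (877, 877), (878, 878), (879, 1235), (880, 618), (881, 1236), (882, 882), (883, 1237), (884, 884), (885, 885), (886, 622), (887, 1243), (888, 1244), (889, 889), (890, 1248), (891, 891), (892, 626), (893, 627), (894, 1252), (895, 710)]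
    ⟨e3 q832 (flp_c L9846) q1072, e3 q833 L7509 q584, e3 q834 (flp_c L10774) q1173, e3 q835 (flp_c L9870) q1075, e3 q836 (flp_c L9882) q1076, e3 q837 (flp_c L10601) q1154, e3 q838 L7552 q587, e3 q839 (flp_c L10834) q1180, e3 q840 (flp_c L9912) q1080, e3 q841 (flp_c L9924) q1081, e3 q842 L7594 q842, e3 q843 L7600 q590, e3 q844 (flp_c L10901) q1187, e3 q845 (flp_c L9963) q1085, e3 q846 L10936 q1191, e3 q847 (flp_c L9979) q1087, e3 q848 L7644 q848, e3 q849 L7653 q595, e3 q850 (flp_c L10979) q1196, e3 q851 (flp_c L10025) q1092, e3 q852 L7680 q597, e3 q853 (flp_c L11019) q1200, e3 q854 (flp_c L10048) q1095, e3 q855 (flp_c L10060) q1096, e3 q856 L7719 q856, e3 q857 L7726 q600, e3 q858 (flp_c L11078) q1207, e3 q859 (flp_c L10095) q1100, e3 q860 L11113 q1211, e3 q861 (flp_c L10110) q1102, e3 q862 L7767 q862, e3 q863 L7777 q863, e3 q864 L7785 q605, e3 q865 (flp_c L11174) q1218, e3 q866 (flp_c L10163) q1108, e3 q867 (flp_c L10188) q1111, e3 q868 L7819 q609, e3 q869 L7827 q869, e3 q870 L7840 q870, e3 q871 L7854 q871, e3 q872 L7859 q612,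 e3 q873 (flp_c L11250) q1226, e3 q874 L7883 q874, e3 q875 L11277 q1229, e3 q876 L7899 q876, e3 q877 L7908 q877, e3 q878 L7917 q878, e3 q879 L11325 q1235, e3 q880 (flp_c L7930) q618, e3 q881 (flp_c L11345) q1236, e3 q882 L7948 q882, e3 q883 L11357 q1237, e3 q884 L7964 q884, e3 q885 L7973 q885, e3 q886 (flp_c L7979) q622, e3 q887 (flp_c L11413) q1243, e3 q888 (flp_c L11421) q1244, e3 q889 L8007 q889, e3 q890 L11454 q1248, e3 q891 L8031 q891, e3 q892 L8034 q626, e3 q893 L8041 q627, e3 q894 (flp_c L11496) q1252, e3 q895 (flp_c L572495) q710, trivial⟩ (by decide +kernel)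

theorem ce_c_14 : ∀ r, r < 64 → sm gc (Qf (896 + r)) = Qf (tab Gen.c (896 + r)) :=
  edges_tab (sm gc) Qf (tab Gen.c) 896 [(896, 1255), (897, 629), (898, 1258), (899, 899), (900, 631), (901, 703), (902, 1261), (903, 633), (904, 1264), (905, 697), (906, 637), (907, 1267), (908, 908), (909, 639), (910, 1271), (911, 682), (912, 642), (913, 1275), (914, 914), (915, 659), (916, 645), (917, 1281), (918, 646), (919, 1284), (920, 920), (921, 648), (922, 1289), (923, 923), (924, 650), (925, 1294), (926, 926), (927, 927), (928, 1270), (929, 653), (930, 1301), (931, 931), (932, 932), (933, 1274), (934, 656), (935, 1308), (936, 936), (937, 1307), (938, 938), (939, 1279), (940, 1280), (941, 661), (942, 1317), (943, 943), (944, 1320), (945, 945), (946, 946), (947, 947), (948, 666), (949, 1327), (950, 1328), (951, 951), (952, 668), (953, 1331), (954, 954), (955, 955), (956, 956), (957, 672), (958, 958), (959, 959)]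
    ⟨e3 q896 L11527 q1255, e3 q897 (flp_c L8070) q629, e3 q898 (flp_c L11552) q1258, e3 q899 L8092 q899, e3 q900 L8095 q631, e3 q901 (flp_c L572418) q703, e3 q902 L11592 q1261, e3 q903 (flp_c L8118) q633, e3 q904 (flp_c L11620) q1264, e3 q905 (flp_c L583149) q697, e3 q906 (flp_c L8160) q637, e3 q907 (flp_c L11676) q1267, e3 q908 L8182 q908, e3 q909 L8185 q639, e3 q910 (flp_c L11713) q1271, e3 q911 (flp_c L583183) q682, e3 q912 L8237 q642, e3 q913 (flp_c L11798) q1275, e3 q914 L8262 q914, e3 q915 L8268 q659, e3 q916 L8273 q645, e3 q917 (flp_c L11849) q1281, e3 q918 (flp_c L8285) q646, e3 q919 (flp_c L11874) q1284, e3 q920 L8313 q920, e3 q921 L8316 q648, e3 q922 (flp_c L11919) q1289, e3 q923 L8340 q923, e3 q924 L8343 q650, e3 q925 (flp_c L11962) q1294, e3 q926 L8359 q926, e3 q927 L8370 q927, e3 q928 (flp_c L11708) q1270, e3 q929 L8382 q653, e3 q930 (flp_c L12014) q1301, e3 q931 L8397 q931, e3 q932 L8409 q932, e3 q933 (flp_c L11793) q1274, e3 q934 L8422 q656, e3 q935 (flp_c L12071) q1308, e3 q936 L8442 q936, e3 q937 L579165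 q1307, e3 q938 L8456 q938, e3 q939 (flp_c L11835) q1279, e3 q940 (flp_c L11842) q1280, e3 q941 L8475 q661, e3 q942 (flp_c L12157) q1317, e3 q943 L8493 q943, e3 q944 L12182 q1320, e3 q945 L8512 q945, e3 q946 L8519 q946, e3 q947 L8527 q947, e3 q948 L8535 q666, e3 q949 (flp_c L12243) q1327, e3 q950 L12250 q1328, e3 q951 L8562 q951, e3 q952 (flp_c L8566) q668, e3 q953 (flp_c L12278) q1331, e3 q954 L8586 q954, e3 q955 L8592 q955, e3 q956 L8598 q956, e3 q957 L8605 q672, e3 q958 L8613 q958, e3 q959 L8625 q959, trivial⟩ (by decide +kernel)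

theorem ce_c_15 : ∀ r, r < 64 → sm gc (Qf (960 + r)) = Qf (tab Gen.c (960 + r)) :=
  edges_tab (sm gc) Qf (tab Gen.c) 960 [(960, 960), (961, 675), (962, 1342), (963, 963), (964, 1266), (965, 965), (966, 966), (967, 967), (968, 680), (969, 1351), (970, 1148), (971, 971), (972, 1273), (973, 973), (974, 974), (975, 975), (976, 687), (977, 977), (978, 978), (979, 702), (980, 1260), (981, 704), (982, 982), (983, 983), (984, 695), (985, 1142), (986, 709), (987, 1254), (988, 988), (989, 989), (990, 1138), (991, 1360), (992, 1246), (993, 1362), (994, 994), (995, 995), (996, 996), (997, 1133), (998, 1253), (999, 999), (1000, 1000), (1001, 1001), (1002, 1002), (1003, 1003), (1004, 1004), (1005, 1385), (1006, 743), (1007, 744), (1008, 745), (1009, 747), (1010, 748), (1011, 750), (1012, 751), (1013, 753), (1014, 1396), (1015, 1398), (1016, 725), (1017, 1401), (1018, 1018), (1019, 759), (1020, 1405), (1021, 1021), (1022, 1408), (1023, 731)]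
    ⟨e3 q960 L8636 q960, e3 q961 L8641 q675, e3 q962 (flp_c L12367) q1342, e3 q963 L8658 q963, e3 q964 L583160 q1266, e3 q965 L8675 q965, e3 q966 L8680 q966, e3 q967 L8686 q967, e3 q968 L8693 q680, e3 q969 (flp_c L12460) q1351, e3 q970 (flp_c L583190) q1148, e3 q971 L8719 q971, e3 q972 (flp_c L583168) q1273, e3 q973 L8752 q973, e3 q974 L8758 q974, e3 q975 L8765 q975, e3 q976 L8779 q687, e3 q977 L8789 q977, e3 q978 L8797 q978, e3 q979 L8806 q702, e3 q980 (flp_c L583132) q1260, e3 q981 L8825 q704, e3 q982 L8834 q982, e3 q983 L8842 q983, e3 q984 L8849 q695, e3 q985 (flp_c L583155) q1142, e3 q986 L8867 q709, e3 q987 (flp_c L583139) q1254, e3 q988 L8898 q988, e3 q989 L8904 q989, e3 q990 (flp_c L572412) q1138, e3 q991 (flp_c L12592) q1360, e3 q992 (flp_c L571989) q1246, e3 q993 (flp_c L12629) q1362, e3 q994 L9005 q994, e3 q995 L9014 q995, e3 q996 L9023 q996, e3 q997 (flp_c L572490) q1133, e3 q998 L572502 q1253, e3 q999 L9108 q999, e3 q1000 L9168 q1000, e3 q1001 L9177 q1001, e3 q1002 L9187 q1002, e3 q1003 L9197 q1003, e3 q1004 L9208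 q1004, e3 q1005 L13140 q1385, e3 q1006 L9226 q743, e3 q1007 L9235 q744, e3 q1008 L9247 q745, e3 q1009 L9258 q747, e3 q1010 L9269 q748, e3 q1011 L9279 q750, e3 q1012 L9291 q751, e3 q1013 L9302 q753, e3 q1014 L13252 q1396, e3 q1015 L13267 q1398, e3 q1016 (flp_c L9325) q725, e3 q1017 (flp_c L13297) q1401, e3 q1018 L9343 q1018, e3 q1019 L9355 q759, e3 q1020 L13329 q1405, e3 q1021 L9376 q1021, e3 q1022 L13357 q1408, e3 q1023 (flp_c L9391) q731, trivial⟩ (by decide +kernel)

theorem ce_c_16 : ∀ r, r < 64 → sm gc (Qf (1024 + r)) = Qf (tab Gen.c (1024 + r)) :=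
  edges_tab (sm gc) Qf (tab Gen.c) 1024 [(1024, 1411), (1025, 1413), (1026, 733), (1027, 1416), (1028, 1028), (1029, 735), (1030, 1421), (1031, 1423), (1032, 737), (1033, 1426), (1034, 1034), (1035, 739), (1036, 1431), (1037, 1037), (1038, 1038), (1039, 1039), (1040, 742), (1041, 1438), (1042, 1387), (1043, 1388), (1044, 1044), (1045, 1389), (1046, 1390), (1047, 1047), (1048, 1048), (1049, 1391), (1050, 1450), (1051, 1051), (1052, 1393), (1053, 1454), (1054, 1054), (1055, 1457), (1056, 754), (1057, 1460), (1058, 1462), (1059, 756), (1060, 1465), (1061, 821), (1062, 758), (1063, 1470), (1064, 1472), (1065, 760), (1066, 1475), (1067, 761), (1068, 1478), (1069, 829), (1070, 763), (1071, 1483), (1072, 832), (1073, 765), (1074, 1488), (1075, 835), (1076, 836), (1077, 1469), (1078, 768), (1079, 1495), (1080, 840), (1081, 841), (1082, 1082), (1083, 771), (1084, 1502), (1085, 845), (1086, 1506), (1087, 847)]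
    ⟨e3 q1024 (flp_c L13387) q1411, e3 q1025 L13398 q1413, e3 q1026 (flp_c L9417) q733, e3 q1027 (flp_c L13430) q1416, e3 q1028 L9442 q1028, e3 q1029 L9446 q735, e3 q1030 (flp_c L13470) q1421, e3 q1031 L13483 q1423, e3 q1032 (flp_c L9467) q737, e3 q1033 (flp_c L13514) q1426, e3 q1034 L9493 q1034, e3 q1035 L9497 q739, e3 q1036 (flp_c L13561) q1431, e3 q1037 L9513 q1037, e3 q1038 L9524 q1038, e3 q1039 L9533 q1039, e3 q1040 L9539 q742, e3 q1041 (flp_c L13617) q1438, e3 q1042 (flp_c L13162) q1387, e3 q1043 (flp_c L13174) q1388, e3 q1044 L9580 q1044, e3 q1045 (flp_c L13185) q1389, e3 q1046 (flp_c L13197) q1390, e3 q1047 L9607 q1047, e3 q1048 L9617 q1048, e3 q1049 (flp_c L13208) q1391, e3 q1050 L13736 q1450, e3 q1051 L9648 q1051, e3 q1052 (flp_c L13227) q1393, e3 q1053 L13772 q1454, e3 q1054 L9681 q1054, e3 q1055 L13800 q1457, e3 q1056 (flp_c L9695) q754, e3 q1057 (flp_c L13828) q1460, e3 q1058 L13841 q1462, e3 q1059 (flp_c L9721) q756, e3 q1060 (flp_c L13871) q1465, e3 q1061 L9743 q821, e3 q1062 L9748 q758, e3 q1063 (flp_c L13912)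 q1470, e3 q1064 L13926 q1472, e3 q1065 (flp_c L9774) q760, e3 q1066 (flp_c L13960) q1475, e3 q1067 (flp_c L9793) q761, e3 q1068 (flp_c L13990) q1478, e3 q1069 L9819 q829, e3 q1070 L9824 q763, e3 q1071 (flp_c L14034) q1483, e3 q1072 L9846 q832, e3 q1073 L9851 q765, e3 q1074 (flp_c L14079) q1488, e3 q1075 L9870 q835, e3 q1076 L9882 q836, e3 q1077 (flp_c L13907) q1469, e3 q1078 L9894 q768, e3 q1079 (flp_c L14138) q1495, e3 q1080 L9912 q840, e3 q1081 L9924 q841, e3 q1082 L9938 q1082, e3 q1083 L9942 q771, e3 q1084 (flp_c L14203) q1502, e3 q1085 L9963 q845, e3 q1086 L14237 q1506, e3 q1087 L9979 q847, trivial⟩ (by decide +kernel)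

theorem ce_c_17 : ∀ r, r < 64 → sm gc (Qf (1088 + r)) = Qf (tab Gen.c (1088 + r)) :=
  edges_tab (sm gc) Qf (tab Gen.c) 1088 [(1088, 1088), (1089, 1089), (1090, 776), (1091, 1514), (1092, 851), (1093, 778), (1094, 1518), (1095, 854), (1096, 855), (1097, 1097), (1098, 781), (1099, 1525), (1100, 859), (1101, 1529), (1102, 861), (1103, 1103), (1104, 1104), (1105, 786), (1106, 1537), (1107, 1107), (1108, 866), (1109, 1109), (1110, 1110), (1111, 867), (1112, 794), (1113, 795), (1114, 796), (1115, 797), (1116, 793), (1117, 1546), (1118, 1547), (1119, 1548), (1120, 1549), (1121, 1550), (1122, 1558), (1123, 1123), (1124, 1124), (1125, 801), (1126, 1563), (1127, 1564), (1128, 1128), (1129, 1568), (1130, 805), (1131, 806), (1132, 1571), (1133, 997), (1134, 1574), (1135, 808), (1136, 1577), (1137, 810), (1138, 990), (1139, 1580), (1140, 812), (1141, 1583), (1142, 985), (1143, 815), (1144, 1587), (1145, 1459), (1146, 817), (1147, 1592), (1148, 970), (1149, 1464), (1150, 820), (1151, 1597)]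
    ⟨e3 q1088 L9987 q1088, e3 q1089 L9994 q1089, e3 q1090 L10002 q776, e3 q1091 (flp_c L14300) q1514, e3 q1092 L10025 q851, e3 q1093 L10030 q778, e3 q1094 (flp_c L14339) q1518, e3 q1095 L10048 q854, e3 q1096 L10060 q855, e3 q1097 L10071 q1097, e3 q1098 L10076 q781, e3 q1099 (flp_c L14397) q1525, e3 q1100 L10095 q859, e3 q1101 L14432 q1529, e3 q1102 L10110 q861, e3 q1103 L10119 q1103, e3 q1104 L10127 q1104, e3 q1105 L10133 q786, e3 q1106 (flp_c L14496) q1537, e3 q1107 L10156 q1107, e3 q1108 L10163 q866, e3 q1109 L10171 q1109, e3 q1110 L10180 q1110, e3 q1111 L10188 q867, e3 q1112 L10195 q794, e3 q1113 L10203 q795, e3 q1114 L10212 q796, e3 q1115 L10220 q797, e3 q1116 L10229 q793, e3 q1117 (flp_c L14576) q1546, e3 q1118 (flp_c L14584) q1547, e3 q1119 (flp_c L14593) q1548, e3 q1120 (flp_c L14603) q1549, e3 q1121 (flp_c L14611) q1550, e3 q1122 L14677 q1558, e3 q1123 L10289 q1123, e3 q1124 L10299 q1124, e3 q1125 (flp_c L10305) q801, e3 q1126 (flp_c L14733) q1563, e3 q1127 (flp_c L14744) q1564, e3 q1128 L10339 q1128, e3 q1129 L14780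 q1568, e3 q1130 L10361 q805, e3 q1131 L10371 q806, e3 q1132 (flp_c L14812) q1571, e3 q1133 L572490 q997, e3 q1134 L14848 q1574, e3 q1135 (flp_c L10403) q808, e3 q1136 (flp_c L14877) q1577, e3 q1137 L10424 q810, e3 q1138 L572412 q990, e3 q1139 L14911 q1580, e3 q1140 (flp_c L10449) q812, e3 q1141 (flp_c L14943) q1583, e3 q1142 L583155 q985, e3 q1143 (flp_c L10488) q815, e3 q1144 (flp_c L14997) q1587, e3 q1145 (flp_c L13823) q1459, e3 q1146 L10517 q817, e3 q1147 (flp_c L15039) q1592, e3 q1148 L583190 q970, e3 q1149 (flp_c L13866) q1464, e3 q1150 L10567 q820, e3 q1151 (flp_c L15127) q1597, trivial⟩ (by decide +kernel)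

theorem ce_c_18 : ∀ r, r < 64 → sm gc (Qf (1152 + r)) = Qf (tab Gen.c (1152 + r)) :=
  edges_tab (sm gc) Qf (tab Gen.c) 1152 [(1152, 1467), (1153, 1468), (1154, 837), (1155, 823), (1156, 1604), (1157, 824), (1158, 1607), (1159, 1474), (1160, 826), (1161, 1612), (1162, 1477), (1163, 828), (1164, 1617), (1165, 1480), (1166, 1481), (1167, 1591), (1168, 831), (1169, 1624), (1170, 1485), (1171, 1486), (1172, 1596), (1173, 834), (1174, 1631), (1175, 1490), (1176, 1635), (1177, 1492), (1178, 1602), (1179, 1603), (1180, 839), (1181, 1643), (1182, 1497), (1183, 1646), (1184, 1499), (1185, 1185), (1186, 1186), (1187, 844), (1188, 1653), (1189, 1654), (1190, 1505), (1191, 846), (1192, 1657), (1193, 1509), (1194, 1194), (1195, 1195), (1196, 850), (1197, 1515), (1198, 1516), (1199, 1199), (1200, 853), (1201, 1668), (1202, 1520), (1203, 1672), (1204, 1522), (1205, 1205), (1206, 1206), (1207, 858), (1208, 1680), (1209, 1681), (1210, 1528), (1211, 860), (1212, 1684), (1213, 1685), (1214, 1532), (1215, 1215)]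
    ⟨e3 q1152 (flp_c L13889) q1467, e3 q1153 (flp_c L13899) q1468, e3 q1154 L10601 q837, e3 q1155 L10608 q823, e3 q1156 (flp_c L15185) q1604, e3 q1157 (flp_c L10621) q824, e3 q1158 (flp_c L15212) q1607, e3 q1159 (flp_c L13955) q1474, e3 q1160 L10656 q826, e3 q1161 (flp_c L15262) q1612, e3 q1162 (flp_c L13985) q1477, e3 q1163 L10685 q828, e3 q1164 (flp_c L15310) q1617, e3 q1165 (flp_c L14008) q1480, e3 q1166 (flp_c L14020) q1481, e3 q1167 (flp_c L15032) q1591, e3 q1168 L10729 q831, e3 q1169 (flp_c L15369) q1624, e3 q1170 (flp_c L14051) q1485, e3 q1171 (flp_c L14064) q1486, e3 q1172 (flp_c L15120) q1596, e3 q1173 L10774 q834, e3 q1174 (flp_c L15433) q1631, e3 q1175 (flp_c L14102) q1490, e3 q1176 L15469 q1635, e3 q1177 (flp_c L14116) q1492, e3 q1178 (flp_c L15167) q1602, e3 q1179 (flp_c L15176) q1603, e3 q1180 L10834 q839, e3 q1181 (flp_c L15531) q1643, e3 q1182 (flp_c L14159) q1497, e3 q1183 L15559 q1646, e3 q1184 (flp_c L14178) q1499, e3 q1185 L10881 q1185, e3 q1186 L10891 q1186, e3 q1187 L10901 q844, e3 q1188 (flp_c L15626)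 q1653, e3 q1189 L15633 q1654, e3 q1190 (flp_c L14232) q1505, e3 q1191 (flp_c L10936) q846, e3 q1192 (flp_c L15663) q1657, e3 q1193 (flp_c L14263) q1509, e3 q1194 L10962 q1194, e3 q1195 L10970 q1195, e3 q1196 L10979 q850, e3 q1197 (flp_c L14308) q1515, e3 q1198 (flp_c L14321) q1516, e3 q1199 L11012 q1199, e3 q1200 L11019 q853, e3 q1201 (flp_c L15760) q1668, e3 q1202 (flp_c L14359) q1520, e3 q1203 L15794 q1672, e3 q1204 (flp_c L14376) q1522, e3 q1205 L11061 q1205, e3 q1206 L11069 q1206, e3 q1207 L11078 q858, e3 q1208 (flp_c L15865) q1680, e3 q1209 L15871 q1681, e3 q1210 (flp_c L14426) q1528, e3 q1211 (flp_c L11113) q860, e3 q1212 (flp_c L15911) q1684, e3 q1213 (flp_c L15919) q1685, e3 q1214 (flp_c L14458) q1532, e3 q1215 L11147 q1215, trivial⟩ (by decide +kernel)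

theorem ce_c_19 : ∀ r, r < 64 → sm gc (Qf (1216 + r)) = Qf (tab Gen.c (1216 + r)) :=
  edges_tab (sm gc) Qf (tab Gen.c) 1216 [(1216, 1216), (1217, 1217), (1218, 865), (1219, 1540), (1220, 1545), (1221, 1221), (1222, 1695), (1223, 1223), (1224, 1224), (1225, 1225), (1226, 873), (1227, 1703), (1228, 1228), (1229, 875), (1230, 1705), (1231, 1706), (1232, 1232), (1233, 1233), (1234, 1234), (1235, 879), (1236, 881), (1237, 883), (1238, 1713), (1239, 1714), (1240, 1240), (1241, 1719), (1242, 1242), (1243, 887), (1244, 888), (1245, 1723), (1246, 992), (1247, 1726), (1248, 890), (1249, 1729), (1250, 1250), (1251, 1251), (1252, 894), (1253, 998), (1254, 987), (1255, 896), (1256, 1736), (1257, 1257), (1258, 898), (1259, 1740), (1260, 980), (1261, 902), (1262, 1743), (1263, 1263), (1264, 904), (1265, 1747), (1266, 964), (1267, 907), (1268, 1751), (1269, 1269), (1270, 928), (1271, 910), (1272, 1757), (1273, 972), (1274, 933), (1275, 913), (1276, 1761), (1277, 1763), (1278, 1278), (1279, 939)]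
    ⟨e3 q1216 L11156 q1216, e3 q1217 L11165 q1217, e3 q1218 L11174 q865, e3 q1219 (flp_c L14526) q1540, e3 q1220 (flp_c L14568) q1545, e3 q1221 L11203 q1221, e3 q1222 L16016 q1695, e3 q1223 L11221 q1223, e3 q1224 L11231 q1224, e3 q1225 L11241 q1225, e3 q1226 L11250 q873, e3 q1227 L16090 q1703, e3 q1228 L11272 q1228, e3 q1229 (flp_c L11277) q875, e3 q1230 (flp_c L16120) q1705, e3 q1231 (flp_c L16128) q1706, e3 q1232 L11303 q1232, e3 q1233 L11311 q1233, e3 q1234 L11320 q1234, e3 q1235 (flp_c L11325) q879, e3 q1236 L11345 q881, e3 q1237 (flp_c L11357) q883, e3 q1238 (flp_c L16227) q1713, e3 q1239 (flp_c L16235) q1714, e3 q1240 L11385 q1240, e3 q1241 L16276 q1719, e3 q1242 L11410 q1242, e3 q1243 L11413 q887, e3 q1244 L11421 q888, e3 q1245 (flp_c L16322) q1723, e3 q1246 L571989 q992, e3 q1247 L16357 q1726, e3 q1248 (flp_c L11454) q890, e3 q1249 (flp_c L16385) q1729, e3 q1250 L11474 q1250, e3 q1251 L11492 q1251, e3 q1252 L11496 q894, e3 q1253 (flp_c L572502) q998, e3 q1254 L583139 q987, e3 q1255 (flp_c L11527) q896, e3 q1256 (flp_c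 L16491) q1736, e3 q1257 L11549 q1257, e3 q1258 L11552 q898, e3 q1259 (flp_c L16526) q1740, e3 q1260 L583132 q980, e3 q1261 (flp_c L11592) q902, e3 q1262 (flp_c L16586) q1743, e3 q1263 L11617 q1263, e3 q1264 L11620 q904, e3 q1265 (flp_c L16629) q1747, e3 q1266 (flp_c L583160) q964, e3 q1267 L11676 q907, e3 q1268 (flp_c L16717) q1751, e3 q1269 L11700 q1269, e3 q1270 L11708 q928, e3 q1271 L11713 q910, e3 q1272 (flp_c L16767) q1757, e3 q1273 L583168 q972, e3 q1274 L11793 q933, e3 q1275 L11798 q913, e3 q1276 (flp_c L16900) q1761, e3 q1277 L16928 q1763, e3 q1278 L11829 q1278, e3 q1279 L11835 q939, trivial⟩ (by decide +kernel)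

theorem ce_c_20 : ∀ r, r < 64 → sm gc (Qf (1280 + r)) = Qf (tab Gen.c (1280 + r)) :=
  edges_tab (sm gc) Qf (tab Gen.c) 1280 [(1280, 940), (1281, 917), (1282, 1770), (1283, 1283), (1284, 919), (1285, 1774), (1286, 1286), (1287, 1287), (1288, 1746), (1289, 922), (1290, 1781), (1291, 1291), (1292, 1292), (1293, 1750), (1294, 925), (1295, 1788), (1296, 1296), (1297, 1787), (1298, 1298), (1299, 1755), (1300, 1756), (1301, 930), (1302, 1797), (1303, 1303), (1304, 1765), (1305, 1305), (1306, 1760), (1307, 937), (1308, 935), (1309, 1805), (1310, 1630), (1311, 1311), (1312, 1804), (1313, 1313), (1314, 1767), (1315, 1768), (1316, 1769), (1317, 942), (1318, 1815), (1319, 1319), (1320, 944), (1321, 1819), (1322, 1820), (1323, 1323), (1324, 1324), (1325, 1325), (1326, 1326), (1327, 949), (1328, 950), (1329, 1830), (1330, 1330), (1331, 953), (1332, 1834), (1333, 1835), (1334, 1334), (1335, 1335), (1336, 1336), (1337, 1337), (1338, 1742), (1339, 1339), (1340, 1340), (1341, 1341), (1342, 962), (1343, 1847)]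
    ⟨e3 q1280 L11842 q940, e3 q1281 L11849 q917, e3 q1282 (flp_c L16986) q1770, e3 q1283 L11871 q1283, e3 q1284 L11874 q919, e3 q1285 (flp_c L17023) q1774, e3 q1286 L11893 q1286, e3 q1287 L11905 q1287, e3 q1288 (flp_c L16624) q1746, e3 q1289 L11919 q922, e3 q1290 (flp_c L17083) q1781, e3 q1291 L11935 q1291, e3 q1292 L11947 q1292, e3 q1293 (flp_c L16712) q1750, e3 q1294 L11962 q925, e3 q1295 (flp_c L17140) q1788, e3 q1296 L11981 q1296, e3 q1297 (flp_c L598591) q1787, e3 q1298 L11997 q1298, e3 q1299 (flp_c L16753) q1755, e3 q1300 (flp_c L16759) q1756, e3 q1301 L12014 q930, e3 q1302 (flp_c L17228) q1797, e3 q1303 L12033 q1303, e3 q1304 L579185 q1765, e3 q1305 L12050 q1305, e3 q1306 (flp_c L16885) q1760, e3 q1307 (flp_c L579165) q937, e3 q1308 L12071 q935, e3 q1309 (flp_c L17316) q1805, e3 q1310 L589647 q1630, e3 q1311 L12097 q1311, e3 q1312 L598363 q1804, e3 q1313 L12127 q1313, e3 q1314 (flp_c L16958) q1767, e3 q1315 (flp_c L16965) q1768, e3 q1316 (flp_c L16971) q1769, e3 q1317 L12157 q942, e3 q1318 L17439 q1815, e3 q1319 L12177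 q1319, e3 q1320 (flp_c L12182) q944, e3 q1321 (flp_c L17479) q1819, e3 q1322 (flp_c L17488) q1820, e3 q1323 L12213 q1323, e3 q1324 L12220 q1324, e3 q1325 L12227 q1325, e3 q1326 L12235 q1326, e3 q1327 L12243 q949, e3 q1328 (flp_c L12250) q950, e3 q1329 (flp_c L17574) q1830, e3 q1330 L12271 q1330, e3 q1331 L12278 q953, e3 q1332 (flp_c L17606) q1834, e3 q1333 (flp_c L17614) q1835, e3 q1334 L12302 q1334, e3 q1335 L12309 q1335, e3 q1336 L12315 q1336, e3 q1337 L12325 q1337, e3 q1338 (flp_c L583282) q1742, e3 q1339 L12344 q1339, e3 q1340 L12351 q1340, e3 q1341 L12359 q1341, e3 q1342 L12367 q962, e3 q1343 (flp_c L17737) q1847, trivial⟩ (by decide +kernel)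

theorem ce_c_21 : ∀ r, r < 64 → sm gc (Qf (1344 + r)) = Qf (tab Gen.c (1344 + r)) :=
  edges_tab (sm gc) Qf (tab Gen.c) 1344 [(1344, 1585), (1345, 1345), (1346, 1749), (1347, 1347), (1348, 1348), (1349, 1349), (1350, 1350), (1351, 969), (1352, 1594), (1353, 1353), (1354, 1759), (1355, 1355), (1356, 1356), (1357, 1357), (1358, 1358), (1359, 1579), (1360, 991), (1361, 1725), (1362, 993), (1363, 1363), (1364, 1364), (1365, 1365), (1366, 1573), (1367, 1735), (1368, 1368), (1369, 1566), (1370, 1862), (1371, 1724), (1372, 1717), (1373, 1373), (1374, 1374), (1375, 1375), (1376, 1572), (1377, 1876), (1378, 1378), (1379, 1379), (1380, 1380), (1381, 1381), (1382, 1382), (1383, 1383), (1384, 1884), (1385, 1005), (1386, 1887), (1387, 1042), (1388, 1043), (1389, 1045), (1390, 1046), (1391, 1049), (1392, 1894), (1393, 1052), (1394, 1897), (1395, 1899), (1396, 1014), (1397, 1902), (1398, 1015), (1399, 1905), (1400, 1400), (1401, 1017), (1402, 1910), (1403, 1403), (1404, 1913), (1405, 1020), (1406, 1916), (1407, 1918)]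
    ⟨e3 q1344 (flp_c L585853) q1585, e3 q1345 L12394 q1345, e3 q1346 (flp_c L585877) q1749, e3 q1347 L12425 q1347, e3 q1348 L12432 q1348, e3 q1349 L12439 q1349, e3 q1350 L12447 q1350, e3 q1351 L12460 q969, e3 q1352 (flp_c L559453) q1594, e3 q1353 L12495 q1353, e3 q1354 L583466 q1759, e3 q1355 L12544 q1355, e3 q1356 L12551 q1356, e3 q1357 L12559 q1357, e3 q1358 L12575 q1358, e3 q1359 (flp_c L571971) q1579, e3 q1360 L12592 q991, e3 q1361 L597630 q1725, e3 q1362 L12629 q993, e3 q1363 L12638 q1363, e3 q1364 L12645 q1364, e3 q1365 L12653 q1365, e3 q1366 (flp_c L572205) q1573, e3 q1367 L582948 q1735, e3 q1368 L12732 q1368, e3 q1369 L572520 q1566, e3 q1370 (flp_c L18032) q1862, e3 q1371 L572525 q1724, e3 q1372 L572057 q1717, e3 q1373 L12880 q1373, e3 q1374 L12889 q1374, e3 q1375 L12898 q1375, e3 q1376 (flp_c L585505) q1572, e3 q1377 L18602 q1876, e3 q1378 L13075 q1378, e3 q1379 L13085 q1379, e3 q1380 L13095 q1380, e3 q1381 L13105 q1381, e3 q1382 L13116 q1382, e3 q1383 L13125 q1383, e3 q1384 L18745 q1884, e3 q1385 (flp_c L13140)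 q1005, e3 q1386 (flp_c L18776) q1887, e3 q1387 L13162 q1042, e3 q1388 L13174 q1043, e3 q1389 L13185 q1045, e3 q1390 L13197 q1046, e3 q1391 L13208 q1049, e3 q1392 L18846 q1894, e3 q1393 L13227 q1052, e3 q1394 L18870 q1897, e3 q1395 L18887 q1899, e3 q1396 (flp_c L13252) q1014, e3 q1397 (flp_c L18918) q1902, e3 q1398 (flp_c L13267) q1015, e3 q1399 (flp_c L18941) q1905, e3 q1400 L13293 q1400, e3 q1401 L13297 q1017, e3 q1402 (flp_c L18983) q1910, e3 q1403 L13312 q1403, e3 q1404 L19005 q1913, e3 q1405 (flp_c L13329) q1020, e3 q1406 (flp_c L19038) q1916, e3 q1407 L19052 q1918, trivial⟩ (by decide +kernel)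

theorem ce_c_22 : ∀ r, r < 64 → sm gc (Qf (1408 + r)) = Qf (tab Gen.c (1408 + r)) :=
  edges_tab (sm gc) Qf (tab Gen.c) 1408 [(1408, 1022), (1409, 1921), (1410, 1410), (1411, 1024), (1412, 1926), (1413, 1025), (1414, 1929), (1415, 1415), (1416, 1027), (1417, 1934), (1418, 1418), (1419, 1419), (1420, 1909), (1421, 1030), (1422, 1941), (1423, 1031), (1424, 1944), (1425, 1425), (1426, 1033), (1427, 1949), (1428, 1428), (1429, 1429), (1430, 1430), (1431, 1036), (1432, 1956), (1433, 1433), (1434, 1960), (1435, 1435), (1436, 1436), (1437, 1437), (1438, 1041), (1439, 1968), (1440, 1440), (1441, 1889), (1442, 1890), (1443, 1443), (1444, 1444), (1445, 1891), (1446, 1976), (1447, 1447), (1448, 1448), (1449, 1980), (1450, 1050), (1451, 1983), (1452, 1452), (1453, 1986), (1454, 1053), (1455, 1989), (1456, 1991), (1457, 1055), (1458, 1994), (1459, 1145), (1460, 1057), (1461, 1999), (1462, 1058), (1463, 2001), (1464, 1149), (1465, 1060), (1466, 2005), (1467, 1152), (1468, 1153), (1469, 1077), (1470, 1063), (1471, 2012)]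
    ⟨e3 q1408 (flp_c L13357) q1022, e3 q1409 (flp_c L19085) q1921, e3 q1410 L13383 q1410, e3 q1411 L13387 q1024, e3 q1412 (flp_c L19126) q1926, e3 q1413 (flp_c L13398) q1025, e3 q1414 (flp_c L19151) q1929, e3 q1415 L13426 q1415, e3 q1416 L13430 q1027, e3 q1417 (flp_c L19198) q1934, e3 q1418 L13446 q1418, e3 q1419 L13458 q1419, e3 q1420 (flp_c L18976) q1909, e3 q1421 L13470 q1030, e3 q1422 (flp_c L19253) q1941, e3 q1423 (flp_c L13483) q1031, e3 q1424 (flp_c L19278) q1944, e3 q1425 L13510 q1425, e3 q1426 L13514 q1033, e3 q1427 (flp_c L19324) q1949, e3 q1428 L13531 q1428, e3 q1429 L13543 q1429, e3 q1430 L13555 q1430, e3 q1431 L13561 q1036, e3 q1432 (flp_c L19386) q1956, e3 q1433 L13579 q1433, e3 q1434 L19417 q1960, e3 q1435 L13595 q1435, e3 q1436 L13601 q1436, e3 q1437 L13608 q1437, e3 q1438 L13617 q1041, e3 q1439 (flp_c L19482) q1968, e3 q1440 L13638 q1440, e3 q1441 (flp_c L18796) q1889, e3 q1442 (flp_c L18808) q1890, e3 q1443 L13665 q1443, e3 q1444 L13676 q1444, e3 q1445 (flp_c L18819) q1891, e3 q1446 L19566 q1976, e3 q1447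 L13710 q1447, e3 q1448 L13721 q1448, e3 q1449 L19605 q1980, e3 q1450 (flp_c L13736) q1050, e3 q1451 (flp_c L19633) q1983, e3 q1452 L13756 q1452, e3 q1453 L19657 q1986, e3 q1454 (flp_c L13772) q1053, e3 q1455 (flp_c L19688) q1989, e3 q1456 L19704 q1991, e3 q1457 (flp_c L13800) q1055, e3 q1458 (flp_c L19735) q1994, e3 q1459 L13823 q1145, e3 q1460 L13828 q1057, e3 q1461 (flp_c L19777) q1999, e3 q1462 (flp_c L13841) q1058, e3 q1463 (flp_c L19803) q2001, e3 q1464 L13866 q1149, e3 q1465 L13871 q1060, e3 q1466 (flp_c L19849) q2005, e3 q1467 L13889 q1152, e3 q1468 L13899 q1153, e3 q1469 L13907 q1077, e3 q1470 L13912 q1063, e3 q1471 (flp_c L19906) q2012, trivial⟩ (by decide +kernel)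

theorem ce_c_23 : ∀ r, r < 64 → sm gc (Qf (1472 + r)) = Qf (tab Gen.c (1472 + r)) :=
  edges_tab (sm gc) Qf (tab Gen.c) 1472 [(1472, 1064), (1473, 2015), (1474, 1159), (1475, 1066), (1476, 2020), (1477, 1162), (1478, 1068), (1479, 2025), (1480, 1165), (1481, 1166), (1482, 1998), (1483, 1071), (1484, 2032), (1485, 1170), (1486, 1171), (1487, 2004), (1488, 1074), (1489, 2039), (1490, 1175), (1491, 2043), (1492, 1177), (1493, 2010), (1494, 2011), (1495, 1079), (1496, 2051), (1497, 1182), (1498, 2054), (1499, 1184), (1500, 1500), (1501, 1501), (1502, 1084), (1503, 2062), (1504, 2063), (1505, 1190), (1506, 1086), (1507, 2067), (1508, 2068), (1509, 1193), (1510, 1510), (1511, 1511), (1512, 1512), (1513, 1513), (1514, 1091), (1515, 1197), (1516, 1198), (1517, 1517), (1518, 1094), (1519, 2084), (1520, 1202), (1521, 2088), (1522, 1204), (1523, 1523), (1524, 1524), (1525, 1099), (1526, 2096), (1527, 2097), (1528, 1210), (1529, 1101), (1530, 2101), (1531, 2102), (1532, 1214), (1533, 1533), (1534, 1534), (1535, 1535)]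
    ⟨e3 q1472 (flp_c L13926) q1064, e3 q1473 (flp_c L19934) q2015, e3 q1474 L13955 q1159, e3 q1475 L13960 q1066, e3 q1476 (flp_c L19984) q2020, e3 q1477 L13985 q1162, e3 q1478 L13990 q1068, e3 q1479 (flp_c L20032) q2025, e3 q1480 L14008 q1165, e3 q1481 L14020 q1166, e3 q1482 (flp_c L19772) q1998, e3 q1483 L14034 q1071, e3 q1484 (flp_c L20090) q2032, e3 q1485 L14051 q1170, e3 q1486 L14064 q1171, e3 q1487 (flp_c L19844) q2004, e3 q1488 L14079 q1074, e3 q1489 (flp_c L20153) q2039, e3 q1490 L14102 q1175, e3 q1491 L20189 q2043, e3 q1492 L14116 q1177, e3 q1493 (flp_c L19891) q2010, e3 q1494 (flp_c L19899) q2011, e3 q1495 L14138 q1079, e3 q1496 (flp_c L20246) q2051, e3 q1497 L14159 q1182, e3 q1498 L20273 q2054, e3 q1499 L14178 q1184, e3 q1500 L14187 q1500, e3 q1501 L14196 q1501, e3 q1502 L14203 q1084, e3 q1503 (flp_c L20344) q2062, e3 q1504 L20351 q2063, e3 q1505 L14232 q1190, e3 q1506 (flp_c L14237) q1086, e3 q1507 (flp_c L20389) q2067, e3 q1508 (flp_c L20397) q2068, e3 q1509 L14263 q1193, e3 q1510 L14271 q1510, e3 q1511 L14276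 q1511, e3 q1512 L14283 q1512, e3 q1513 L14292 q1513, e3 q1514 L14300 q1091, e3 q1515 L14308 q1197, e3 q1516 L14321 q1198, e3 q1517 L14334 q1517, e3 q1518 L14339 q1094, e3 q1519 (flp_c L20530) q2084, e3 q1520 L14359 q1202, e3 q1521 L20564 q2088, e3 q1522 L14376 q1204, e3 q1523 L14383 q1523, e3 q1524 L14390 q1524, e3 q1525 L14397 q1099, e3 q1526 (flp_c L20630) q2096, e3 q1527 L20636 q2097, e3 q1528 L14426 q1210, e3 q1529 (flp_c L14432) q1101, e3 q1530 (flp_c L20674) q2101, e3 q1531 (flp_c L20683) q2102, e3 q1532 L14458 q1214, e3 q1533 L14466 q1533, e3 q1534 L14475 q1534, e3 q1535 L14482 q1535, trivial⟩ (by decide +kernel)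

theorem ce_c_24 : ∀ r, r < 64 → sm gc (Qf (1536 + r)) = Qf (tab Gen.c (1536 + r)) :=
  edges_tab (sm gc) Qf (tab Gen.c) 1536 [(1536, 1536), (1537, 1106), (1538, 1538), (1539, 1539), (1540, 1219), (1541, 1541), (1542, 1542), (1543, 1543), (1544, 1544), (1545, 1220), (1546, 1117), (1547, 1118), (1548, 1119), (1549, 1120), (1550, 1121), (1551, 2123), (1552, 2124), (1553, 2125), (1554, 2135), (1555, 2127), (1556, 2128), (1557, 2129), (1558, 1122), (1559, 2138), (1560, 2139), (1561, 1561), (1562, 2144), (1563, 1126), (1564, 1127), (1565, 2147), (1566, 1369), (1567, 2150), (1568, 1129), (1569, 2153), (1570, 1570), (1571, 1132), (1572, 1376), (1573, 1366), (1574, 1134), (1575, 2160), (1576, 1982), (1577, 1136), (1578, 2165), (1579, 1359), (1580, 1139), (1581, 2169), (1582, 1988), (1583, 1141), (1584, 2174), (1585, 1344), (1586, 1993), (1587, 1144), (1588, 2179), (1589, 1996), (1590, 1997), (1591, 1167), (1592, 1147), (1593, 2186), (1594, 1352), (1595, 2003), (1596, 1172), (1597, 1151), (1598, 2192), (1599, 2007)]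
    ⟨e3 q1536 L14489 q1536, e3 q1537 L14496 q1106, e3 q1538 L14507 q1538, e3 q1539 L14517 q1539, e3 q1540 L14526 q1219, e3 q1541 L14534 q1541, e3 q1542 L14542 q1542, e3 q1543 L14551 q1543, e3 q1544 L14559 q1544, e3 q1545 L14568 q1220, e3 q1546 L14576 q1117, e3 q1547 L14584 q1118, e3 q1548 L14593 q1119, e3 q1549 L14603 q1120, e3 q1550 L14611 q1121, e3 q1551 (flp_c L20861) q2123, e3 q1552 (flp_c L20869) q2124, e3 q1553 (flp_c L20878) q2125, e3 q1554 L20960 q2135, e3 q1555 (flp_c L20892) q2127, e3 q1556 (flp_c L20902) q2128, e3 q1557 (flp_c L20911) q2129, e3 q1558 (flp_c L14677) q1122, e3 q1559 (flp_c L20991) q2138, e3 q1560 (flp_c L21002) q2139, e3 q1561 L14711 q1561, e3 q1562 L21047 q2144, e3 q1563 L14733 q1126, e3 q1564 L14744 q1127, e3 q1565 (flp_c L21081) q2147, e3 q1566 (flp_c L572520) q1369, e3 q1567 L21121 q2150, e3 q1568 (flp_c L14780) q1129, e3 q1569 (flp_c L21153) q2153, e3 q1570 L14805 q1570, e3 q1571 L14812 q1132, e3 q1572 L585505 q1376, e3 q1573 L572205 q1366, e3 q1574 (flp_c L14848) q1134, e3 q1575 (flp_c L21249)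 q2160, e3 q1576 (flp_c L19628) q1982, e3 q1577 L14877 q1136, e3 q1578 (flp_c L21289) q2165, e3 q1579 L571971 q1359, e3 q1580 (flp_c L14911) q1139, e3 q1581 (flp_c L21346) q2169, e3 q1582 (flp_c L19683) q1988, e3 q1583 L14943 q1141, e3 q1584 (flp_c L21394) q2174, e3 q1585 L585853 q1344, e3 q1586 (flp_c L19730) q1993, e3 q1587 L14997 q1144, e3 q1588 (flp_c L21485) q2179, e3 q1589 (flp_c L19752) q1996, e3 q1590 (flp_c L19762) q1997, e3 q1591 L15032 q1167, e3 q1592 L15039 q1147, e3 q1593 (flp_c L21542) q2186, e3 q1594 L559453 q1352, e3 q1595 (flp_c L19833) q2003, e3 q1596 L15120 q1172, e3 q1597 L15127 q1151, e3 q1598 (flp_c L21676) q2192, e3 q1599 (flp_c L19870) q2007, trivial⟩ (by decide +kernel)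

theorem ce_c_25 : ∀ r, r < 64 → sm gc (Qf (1600 + r)) = Qf (tab Gen.c (1600 + r)) :=
  edges_tab (sm gc) Qf (tab Gen.c) 1600 [(1600, 2196), (1601, 2009), (1602, 1178), (1603, 1179), (1604, 1156), (1605, 2204), (1606, 2014), (1607, 1158), (1608, 2208), (1609, 2017), (1610, 2018), (1611, 2173), (1612, 1161), (1613, 2215), (1614, 2022), (1615, 2023), (1616, 2178), (1617, 1164), (1618, 2222), (1619, 2027), (1620, 2226), (1621, 2029), (1622, 2184), (1623, 2185), (1624, 1169), (1625, 2234), (1626, 2034), (1627, 2237), (1628, 2036), (1629, 2191), (1630, 1310), (1631, 1174), (1632, 2245), (1633, 2246), (1634, 2042), (1635, 1176), (1636, 2249), (1637, 2250), (1638, 2046), (1639, 2200), (1640, 2201), (1641, 2202), (1642, 2203), (1643, 1181), (1644, 2260), (1645, 2053), (1646, 1183), (1647, 2264), (1648, 2265), (1649, 2057), (1650, 1650), (1651, 1651), (1652, 1652), (1653, 1188), (1654, 1189), (1655, 2275), (1656, 2066), (1657, 1192), (1658, 2279), (1659, 2280), (1660, 2073), (1661, 1661), (1662, 1662), (1663, 2079)]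
    ⟨e3 q1600 L21708 q2196, e3 q1601 (flp_c L19883) q2009, e3 q1602 L15167 q1178, e3 q1603 L15176 q1179, e3 q1604 L15185 q1156, e3 q1605 (flp_c L21774) q2204, e3 q1606 (flp_c L19929) q2014, e3 q1607 L15212 q1158, e3 q1608 (flp_c L21815) q2208, e3 q1609 (flp_c L19955) q2017, e3 q1610 (flp_c L19968) q2018, e3 q1611 (flp_c L21387) q2173, e3 q1612 L15262 q1161, e3 q1613 (flp_c L21882) q2215, e3 q1614 (flp_c L20002) q2022, e3 q1615 (flp_c L20015) q2023, e3 q1616 (flp_c L21478) q2178, e3 q1617 L15310 q1164, e3 q1618 (flp_c L21946) q2222, e3 q1619 (flp_c L20054) q2027, e3 q1620 L21982 q2226, e3 q1621 (flp_c L20070) q2029, e3 q1622 (flp_c L21524) q2184, e3 q1623 (flp_c L21532) q2185, e3 q1624 L15369 q1169, e3 q1625 (flp_c L22046) q2234, e3 q1626 (flp_c L20112) q2034, e3 q1627 L22075 q2237, e3 q1628 (flp_c L20129) q2036, e3 q1629 (flp_c L21657) q2191, e3 q1630 (flp_c L589647) q1310, e3 q1631 L15433 q1174, e3 q1632 (flp_c L22145) q2245, e3 q1633 L22153 q2246, e3 q1634 (flp_c L20182) q2042, e3 q1635 (flp_c L15469) q1176, e3 q1636 (flp_c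 L22190) q2249, e3 q1637 (flp_c L22195) q2250, e3 q1638 (flp_c L20212) q2046, e3 q1639 (flp_c L21738) q2200, e3 q1640 (flp_c L21747) q2201, e3 q1641 (flp_c L21755) q2202, e3 q1642 (flp_c L21765) q2203, e3 q1643 L15531 q1181, e3 q1644 L22280 q2260, e3 q1645 (flp_c L20267) q2053, e3 q1646 (flp_c L15559) q1183, e3 q1647 (flp_c L22324) q2264, e3 q1648 (flp_c L22332) q2265, e3 q1649 (flp_c L20302) q2057, e3 q1650 L15597 q1650, e3 q1651 L15606 q1651, e3 q1652 L15616 q1652, e3 q1653 L15626 q1188, e3 q1654 (flp_c L15633) q1189, e3 q1655 (flp_c L22426) q2275, e3 q1656 (flp_c L20381) q2066, e3 q1657 L15663 q1192, e3 q1658 (flp_c L22462) q2279, e3 q1659 (flp_c L22470) q2280, e3 q1660 (flp_c L20435) q2073, e3 q1661 L15694 q1661, e3 q1662 L15702 q1662, e3 q1663 (flp_c L20485) q2079, trivial⟩ (by decide +kernel)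

theorem ce_c_26 : ∀ r, r < 64 → sm gc (Qf (1664 + r)) = Qf (tab Gen.c (1664 + r)) :=
  edges_tab (sm gc) Qf (tab Gen.c) 1664 [(1664, 2287), (1665, 2081), (1666, 1666), (1667, 1667), (1668, 1201), (1669, 2295), (1670, 2296), (1671, 2087), (1672, 1203), (1673, 2299), (1674, 2300), (1675, 2091), (1676, 1676), (1677, 1677), (1678, 1678), (1679, 1679), (1680, 1208), (1681, 1209), (1682, 2310), (1683, 2100), (1684, 1212), (1685, 1213), (1686, 2313), (1687, 2314), (1688, 2107), (1689, 1689), (1690, 1690), (1691, 1691), (1692, 2117), (1693, 2320), (1694, 1694), (1695, 1222), (1696, 2323), (1697, 2324), (1698, 1698), (1699, 1699), (1700, 1700), (1701, 1701), (1702, 1702), (1703, 1227), (1704, 2332), (1705, 1230), (1706, 1231), (1707, 2334), (1708, 2335), (1709, 1709), (1710, 1710), (1711, 1711), (1712, 1712), (1713, 1238), (1714, 1239), (1715, 2343), (1716, 2344), (1717, 1372), (1718, 2348), (1719, 1241), (1720, 2351), (1721, 1721), (1722, 1722), (1723, 1245), (1724, 1371), (1725, 1361), (1726, 1247), (1727, 2358)]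
    ⟨e3 q1664 L22529 q2287, e3 q1665 (flp_c L20504) q2081, e3 q1666 L15740 q1666, e3 q1667 L15750 q1667, e3 q1668 L15760 q1201, e3 q1669 (flp_c L22607) q2295, e3 q1670 L22614 q2296, e3 q1671 (flp_c L20560) q2087, e3 q1672 (flp_c L15794) q1203, e3 q1673 (flp_c L22655) q2299, e3 q1674 (flp_c L22661) q2300, e3 q1675 (flp_c L20591) q2091, e3 q1676 L15829 q1676, e3 q1677 L15838 q1677, e3 q1678 L15848 q1678, e3 q1679 L15855 q1679, e3 q1680 L15865 q1208, e3 q1681 (flp_c L15871) q1209, e3 q1682 (flp_c L22766) q2310, e3 q1683 (flp_c L20666) q2100, e3 q1684 L15911 q1212, e3 q1685 L15919 q1213, e3 q1686 (flp_c L22823) q2313, e3 q1687 (flp_c L22830) q2314, e3 q1688 (flp_c L20721) q2107, e3 q1689 L15960 q1689, e3 q1690 L15970 q1690, e3 q1691 L15978 q1691, e3 q1692 (flp_c L20809) q2117, e3 q1693 L22892 q2320, e3 q1694 L16010 q1694, e3 q1695 (flp_c L16016) q1222, e3 q1696 (flp_c L22937) q2323, e3 q1697 (flp_c L22946) q2324, e3 q1698 L16045 q1698, e3 q1699 L16055 q1699, e3 q1700 L16064 q1700, e3 q1701 L16074 q1701, e3 q1702 L16084 q1702,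 e3 q1703 (flp_c L16090) q1227, e3 q1704 (flp_c L23039) q2332, e3 q1705 L16120 q1230, e3 q1706 L16128 q1231, e3 q1707 (flp_c L23084) q2334, e3 q1708 (flp_c L23091) q2335, e3 q1709 L16159 q1709, e3 q1710 L16167 q1710, e3 q1711 L16205 q1711, e3 q1712 L16224 q1712, e3 q1713 L16227 q1238, e3 q1714 L16235 q1239, e3 q1715 (flp_c L23213) q2343, e3 q1716 (flp_c L23221) q2344, e3 q1717 (flp_c L572057) q1372, e3 q1718 L23265 q2348, e3 q1719 (flp_c L16276) q1241, e3 q1720 (flp_c L23294) q2351, e3 q1721 L16297 q1721, e3 q1722 L16318 q1722, e3 q1723 L16322 q1245, e3 q1724 (flp_c L572525) q1371, e3 q1725 (flp_c L597630) q1361, e3 q1726 (flp_c L16357) q1247, e3 q1727 (flp_c L23410) q2358, trivial⟩ (by decide +kernel)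

theorem ce_c_27 : ∀ r, r < 64 → sm gc (Qf (1728 + r)) = Qf (tab Gen.c (1728 + r)) :=
  edges_tab (sm gc) Qf (tab Gen.c) 1728 [(1728, 1728), (1729, 1249), (1730, 2362), (1731, 2364), (1732, 1732), (1733, 1733), (1734, 1734), (1735, 1367), (1736, 1256), (1737, 2369), (1738, 1738), (1739, 1739), (1740, 1259), (1741, 2375), (1742, 1338), (1743, 1262), (1744, 2379), (1745, 1745), (1746, 1288), (1747, 1265), (1748, 2385), (1749, 1346), (1750, 1293), (1751, 1268), (1752, 2389), (1753, 2391), (1754, 1754), (1755, 1299), (1756, 1300), (1757, 1272), (1758, 2398), (1759, 1354), (1760, 1306), (1761, 1276), (1762, 2402), (1763, 1277), (1764, 2403), (1765, 1304), (1766, 1766), (1767, 1314), (1768, 1315), (1769, 1316), (1770, 1282), (1771, 1771), (1772, 1772), (1773, 2378), (1774, 1285), (1775, 2417), (1776, 1776), (1777, 2416), (1778, 1778), (1779, 2383), (1780, 2384), (1781, 1290), (1782, 2426), (1783, 1783), (1784, 2393), (1785, 1785), (1786, 2388), (1787, 1297), (1788, 1295), (1789, 2434), (1790, 2221), (1791, 1791)]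
    ⟨e3 q1728 L16382 q1728, e3 q1729 L16385 q1249, e3 q1730 (flp_c L23451) q2362, e3 q1731 L23465 q2364, e3 q1732 L16429 q1732, e3 q1733 L16436 q1733, e3 q1734 L432388 q1734, e3 q1735 (flp_c L582948) q1367, e3 q1736 L16491 q1256, e3 q1737 (flp_c L23610) q2369, e3 q1738 L16516 q1738, e3 q1739 L16522 q1739, e3 q1740 L16526 q1259, e3 q1741 (flp_c L23659) q2375, e3 q1742 L583282 q1338, e3 q1743 L16586 q1262, e3 q1744 (flp_c L23759) q2379, e3 q1745 L16614 q1745, e3 q1746 L16624 q1288, e3 q1747 L16629 q1265, e3 q1748 (flp_c L23817) q2385, e3 q1749 L585877 q1346, e3 q1750 L16712 q1293, e3 q1751 L16717 q1268, e3 q1752 (flp_c L23951) q2389, e3 q1753 L23979 q2391, e3 q1754 L16749 q1754, e3 q1755 L16753 q1299, e3 q1756 L16759 q1300, e3 q1757 L16767 q1272, e3 q1758 (flp_c L24039) q2398, e3 q1759 (flp_c L583466) q1354, e3 q1760 L16885 q1306, e3 q1761 L16900 q1276, e3 q1762 (flp_c L24245) q2402, e3 q1763 (flp_c L16928) q1277, e3 q1764 (flp_c L24283) q2403, e3 q1765 (flp_c L579185) q1304, e3 q1766 L16953 q1766, e3 q1767 L16958 q1314, e3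 q1768 L16965 q1315, e3 q1769 L16971 q1316, e3 q1770 L16986 q1282, e3 q1771 L16993 q1771, e3 q1772 L17006 q1772, e3 q1773 (flp_c L23754) q2378, e3 q1774 L17023 q1285, e3 q1775 (flp_c L24417) q2417, e3 q1776 L17043 q1776, e3 q1777 L589468 q2416, e3 q1778 L17061 q1778, e3 q1779 (flp_c L23800) q2383, e3 q1780 (flp_c L23808) q2384, e3 q1781 L17083 q1290, e3 q1782 (flp_c L24515) q2426, e3 q1783 L17102 q1783, e3 q1784 (flp_c L600527) q2393, e3 q1785 L17121 q1785, e3 q1786 (flp_c L23936) q2388, e3 q1787 L598591 q1297, e3 q1788 L17140 q1295, e3 q1789 (flp_c L24605) q2434, e3 q1790 (flp_c L589485) q2221, e3 q1791 L17168 q1791, trivial⟩ (by decide +kernel)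

theorem ce_c_28 : ∀ r, r < 64 → sm gc (Qf (1792 + r)) = Qf (tab Gen.c (1792 + r)) :=
  edges_tab (sm gc) Qf (tab Gen.c) 1792 [(1792, 2433), (1793, 1793), (1794, 2395), (1795, 2396), (1796, 2397), (1797, 1302), (1798, 2244), (1799, 1799), (1800, 2406), (1801, 1801), (1802, 2400), (1803, 2401), (1804, 1312), (1805, 1309), (1806, 2243), (1807, 1807), (1808, 2450), (1809, 2452), (1810, 1810), (1811, 2408), (1812, 2409), (1813, 2410), (1814, 2411), (1815, 1318), (1816, 2463), (1817, 2464), (1818, 1818), (1819, 1321), (1820, 1322), (1821, 2469), (1822, 2470), (1823, 2471), (1824, 1824), (1825, 1825), (1826, 1826), (1827, 1827), (1828, 1828), (1829, 2274), (1830, 1329), (1831, 2483), (1832, 2484), (1833, 1833), (1834, 1332), (1835, 1333), (1836, 2488), (1837, 2489), (1838, 1838), (1839, 1839), (1840, 2167), (1841, 1841), (1842, 2377), (1843, 1843), (1844, 1844), (1845, 1845), (1846, 1846), (1847, 1343), (1848, 2176), (1849, 1849), (1850, 2367), (1851, 2387), (1852, 1852), (1853, 1853), (1854, 1854), (1855, 1855)]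
    ⟨e3 q1792 L598636 q2433, e3 q1793 L17197 q1793, e3 q1794 (flp_c L24011) q2395, e3 q1795 (flp_c L24016) q2396, e3 q1796 (flp_c L24024) q2397, e3 q1797 L17228 q1302, e3 q1798 (flp_c L589604) q2244, e3 q1799 L17247 q1799, e3 q1800 L598282 q2406, e3 q1801 L17281 q1801, e3 q1802 (flp_c L24213) q2400, e3 q1803 (flp_c L24222) q2401, e3 q1804 (flp_c L598363) q1312, e3 q1805 L17316 q1309, e3 q1806 (flp_c L589655) q2243, e3 q1807 L17350 q1807, e3 q1808 L589678 q2450, e3 q1809 (flp_c L598578) q2452, e3 q1810 L17402 q1810, e3 q1811 (flp_c L24333) q2408, e3 q1812 (flp_c L24340) q2409, e3 q1813 (flp_c L24348) q2410, e3 q1814 (flp_c L24355) q2411, e3 q1815 (flp_c L17439) q1318, e3 q1816 (flp_c L25043) q2463, e3 q1817 (flp_c L25053) q2464, e3 q1818 L17471 q1818, e3 q1819 L17479 q1321, e3 q1820 L17488 q1322, e3 q1821 (flp_c L25098) q2469, e3 q1822 (flp_c L25107) q2470, e3 q1823 (flp_c L25116) q2471, e3 q1824 L17524 q1824, e3 q1825 L17532 q1825, e3 q1826 L17539 q1826, e3 q1827 L17547 q1827, e3 q1828 L17556 q1828, e3 q1829 (flp_c L22420)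 q2274, e3 q1830 L17574 q1329, e3 q1831 (flp_c L25216) q2483, e3 q1832 (flp_c L25225) q2484, e3 q1833 L17598 q1833, e3 q1834 L17606 q1332, e3 q1835 L17614 q1333, e3 q1836 (flp_c L25255) q2488, e3 q1837 (flp_c L25263) q2489, e3 q1838 L17637 q1838, e3 q1839 L17643 q1839, e3 q1840 (flp_c L585882) q2167, e3 q1841 L17662 q1841, e3 q1842 (flp_c L585903) q2377, e3 q1843 L17699 q1843, e3 q1844 L17705 q1844, e3 q1845 L17714 q1845, e3 q1846 L17721 q1846, e3 q1847 L17737 q1343, e3 q1848 L585864 q2176, e3 q1849 L17773 q1849, e3 q1850 L597978 q2367, e3 q1851 (flp_c L583482) q2387, e3 q1852 L17830 q1852, e3 q1853 L17837 q1853, e3 q1854 L17845 q1854, e3 q1855 L17852 q1855, trivial⟩ (by decide +kernel)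

theorem ce_c_29 : ∀ r, r < 64 → sm gc (Qf (1856 + r)) = Qf (tab Gen.c (1856 + r)) :=
  edges_tab (sm gc) Qf (tab Gen.c) 1856 [(1856, 1856), (1857, 2188), (1858, 1858), (1859, 2399), (1860, 1860), (1861, 2149), (1862, 1370), (1863, 2357), (1864, 2347), (1865, 1865), (1866, 1866), (1867, 1867), (1868, 2158), (1869, 2518), (1870, 2148), (1871, 2142), (1872, 2346), (1873, 1873), (1874, 1874), (1875, 2523), (1876, 1377), (1877, 1877), (1878, 1878), (1879, 1879), (1880, 1880), (1881, 1881), (1882, 2530), (1883, 2532), (1884, 1384), (1885, 2535), (1886, 1886), (1887, 1386), (1888, 2540), (1889, 1441), (1890, 1442), (1891, 1445), (1892, 2545), (1893, 2547), (1894, 1392), (1895, 2550), (1896, 2552), (1897, 1394), (1898, 2555), (1899, 1395), (1900, 2558), (1901, 1901), (1902, 1397), (1903, 2563), (1904, 1904), (1905, 1399), (1906, 2567), (1907, 1907), (1908, 1908), (1909, 1420), (1910, 1402), (1911, 2574), (1912, 2576), (1913, 1404), (1914, 2579), (1915, 1915), (1916, 1406), (1917, 2584), (1918, 1407), (1919, 2587)]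
    ⟨e3 q1856 L17860 q1856, e3 q1857 (flp_c L570086) q2188, e3 q1858 L17926 q1858, e3 q1859 L583404 q2399, e3 q1860 L17989 q1860, e3 q1861 L572165 q2149, e3 q1862 L18032 q1370, e3 q1863 L582982 q2357, e3 q1864 L597644 q2347, e3 q1865 L18094 q1865, e3 q1866 L18102 q1866, e3 q1867 L18109 q1867, e3 q1868 (flp_c L585522) q2158, e3 q1869 L26088 q2518, e3 q1870 (flp_c L585491) q2148, e3 q1871 (flp_c L572051) q2142, e3 q1872 L558245 q2346, e3 q1873 L18424 q1873, e3 q1874 L18433 q1874, e3 q1875 L26411 q2523, e3 q1876 (flp_c L18602) q1377, e3 q1877 L18677 q1877, e3 q1878 L18687 q1878, e3 q1879 L18698 q1879, e3 q1880 L18708 q1880, e3 q1881 L18719 q1881, e3 q1882 L26762 q2530, e3 q1883 L26780 q2532, e3 q1884 (flp_c L18745) q1384, e3 q1885 (flp_c L26813) q2535, e3 q1886 L18772 q1886, e3 q1887 L18776 q1386, e3 q1888 (flp_c L26857) q2540, e3 q1889 L18796 q1441, e3 q1890 L18808 q1442, e3 q1891 L18819 q1445, e3 q1892 L26905 q2545, e3 q1893 L26921 q2547, e3 q1894 (flp_c L18846) q1392, e3 q1895 (flp_c L26952) q2550, e3 q1896 L26962 q2552,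 e3 q1897 (flp_c L18870) q1394, e3 q1898 (flp_c L26996) q2555, e3 q1899 (flp_c L18887) q1395, e3 q1900 (flp_c L27022) q2558, e3 q1901 L18914 q1901, e3 q1902 L18918 q1397, e3 q1903 (flp_c L27065) q2563, e3 q1904 L18937 q1904, e3 q1905 L18941 q1399, e3 q1906 (flp_c L27108) q2567, e3 q1907 L18960 q1907, e3 q1908 L18970 q1908, e3 q1909 L18976 q1420, e3 q1910 L18983 q1402, e3 q1911 (flp_c L27165) q2574, e3 q1912 L27176 q2576, e3 q1913 (flp_c L19005) q1404, e3 q1914 (flp_c L27212) q2579, e3 q1915 L19034 q1915, e3 q1916 L19038 q1406, e3 q1917 (flp_c L27259) q2584, e3 q1918 (flp_c L19052) q1407, e3 q1919 (flp_c L27285) q2587, trivial⟩ (by decide +kernel)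

theorem ce_c_30 : ∀ r, r < 64 → sm gc (Qf (1920 + r)) = Qf (tab Gen.c (1920 + r)) :=
  edges_tab (sm gc) Qf (tab Gen.c) 1920 [(1920, 1920), (1921, 1409), (1922, 2592), (1923, 1923), (1924, 1924), (1925, 2562), (1926, 1412), (1927, 2599), (1928, 1928), (1929, 1414), (1930, 2604), (1931, 1931), (1932, 1932), (1933, 2566), (1934, 1417), (1935, 2611), (1936, 1936), (1937, 2615), (1938, 1938), (1939, 2572), (1940, 2573), (1941, 1422), (1942, 2623), (1943, 1943), (1944, 1424), (1945, 2627), (1946, 1946), (1947, 1947), (1948, 2626), (1949, 1427), (1950, 2634), (1951, 1951), (1952, 2638), (1953, 1953), (1954, 1954), (1955, 1955), (1956, 1432), (1957, 2646), (1958, 2647), (1959, 1959), (1960, 1434), (1961, 2651), (1962, 2652), (1963, 1963), (1964, 1964), (1965, 1965), (1966, 1966), (1967, 1967), (1968, 1439), (1969, 1969), (1970, 1970), (1971, 2542), (1972, 2667), (1973, 1973), (1974, 1974), (1975, 2671), (1976, 1446), (1977, 2674), (1978, 1978), (1979, 2677), (1980, 1449), (1981, 2680), (1982, 1576), (1983, 1451)]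
    ⟨e3 q1920 L19081 q1920, e3 q1921 L19085 q1409, e3 q1922 (flp_c L27333) q2592, e3 q1923 L19100 q1923, e3 q1924 L19112 q1924, e3 q1925 (flp_c L27058) q2562, e3 q1926 L19126 q1412, e3 q1927 (flp_c L27387) q2599, e3 q1928 L19147 q1928, e3 q1929 L19151 q1414, e3 q1930 (flp_c L27431) q2604, e3 q1931 L19170 q1931, e3 q1932 L19183 q1932, e3 q1933 (flp_c L27101) q2566, e3 q1934 L19198 q1417, e3 q1935 (flp_c L27494) q2611, e3 q1936 L19218 q1936, e3 q1937 L27527 q2615, e3 q1938 L19232 q1938, e3 q1939 (flp_c L27149) q2572, e3 q1940 (flp_c L27157) q2573, e3 q1941 L19253 q1422, e3 q1942 (flp_c L27586) q2623, e3 q1943 L19274 q1943, e3 q1944 L19278 q1424, e3 q1945 (flp_c L27623) q2627, e3 q1946 L19296 q1946, e3 q1947 L19308 q1947, e3 q1948 (flp_c L27617) q2626, e3 q1949 L19324 q1427, e3 q1950 (flp_c L27685) q2634, e3 q1951 L19343 q1951, e3 q1952 L27720 q2638, e3 q1953 L19362 q1953, e3 q1954 L19369 q1954, e3 q1955 L19378 q1955, e3 q1956 L19386 q1432, e3 q1957 (flp_c L27793) q2646, e3 q1958 L27799 q2647, e3 q1959 L19414 q1959, e3 q1960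 (flp_c L19417) q1434, e3 q1961 (flp_c L27837) q2651, e3 q1962 (flp_c L27844) q2652, e3 q1963 L19445 q1963, e3 q1964 L19451 q1964, e3 q1965 L19458 q1965, e3 q1966 L19465 q1966, e3 q1967 L19473 q1967, e3 q1968 L19482 q1439, e3 q1969 L19492 q1969, e3 q1970 L19503 q1970, e3 q1971 (flp_c L26877) q2542, e3 q1972 L27973 q2667, e3 q1973 L19537 q1973, e3 q1974 L19549 q1974, e3 q1975 L28015 q2671, e3 q1976 (flp_c L19566) q1446, e3 q1977 (flp_c L28046) q2674, e3 q1978 L19588 q1978, e3 q1979 L28071 q2677, e3 q1980 (flp_c L19605) q1449, e3 q1981 (flp_c L28102) q2680, e3 q1982 L19628 q1576, e3 q1983 L19633 q1451, trivial⟩ (by decide +kernel)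

theorem ce_c_31 : ∀ r, r < 64 → sm gc (Qf (1984 + r)) = Qf (tab Gen.c (1984 + r)) :=
  edges_tab (sm gc) Qf (tab Gen.c) 1984 [(1984, 2685), (1985, 2687), (1986, 1453), (1987, 2690), (1988, 1582), (1989, 1455), (1990, 2695), (1991, 1456), (1992, 2697), (1993, 1586), (1994, 1458), (1995, 2701), (1996, 1589), (1997, 1590), (1998, 1482), (1999, 1461), (2000, 2708), (2001, 1463), (2002, 2711), (2003, 1595), (2004, 1487), (2005, 1466), (2006, 2717), (2007, 1599), (2008, 2721), (2009, 1601), (2010, 1493), (2011, 1494), (2012, 1471), (2013, 2729), (2014, 1606), (2015, 1473), (2016, 2733), (2017, 1609), (2018, 1610), (2019, 2694), (2020, 1476), (2021, 2740), (2022, 1614), (2023, 1615), (2024, 2700), (2025, 1479), (2026, 2747), (2027, 1619), (2028, 2751), (2029, 1621), (2030, 2706), (2031, 2707), (2032, 1484), (2033, 2759), (2034, 1626), (2035, 2762), (2036, 1628), (2037, 2715), (2038, 2716), (2039, 1489), (2040, 2770), (2041, 2771), (2042, 1634), (2043, 1491), (2044, 2775), (2045, 2776), (2046, 1638), (2047, 2725)]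
    ⟨e3 q1984 (flp_c L28142) q2685, e3 q1985 L28157 q2687, e3 q1986 (flp_c L19657) q1453, e3 q1987 (flp_c L28191) q2690, e3 q1988 L19683 q1582, e3 q1989 L19688 q1455, e3 q1990 (flp_c L28239) q2695, e3 q1991 (flp_c L19704) q1456, e3 q1992 (flp_c L28266) q2697, e3 q1993 L19730 q1586, e3 q1994 L19735 q1458, e3 q1995 (flp_c L28313) q2701, e3 q1996 L19752 q1589, e3 q1997 L19762 q1590, e3 q1998 L19772 q1482, e3 q1999 L19777 q1461, e3 q2000 (flp_c L28369) q2708, e3 q2001 L19803 q1463, e3 q2002 (flp_c L28415) q2711, e3 q2003 L19833 q1595, e3 q2004 L19844 q1487, e3 q2005 L19849 q1466, e3 q2006 (flp_c L28478) q2717, e3 q2007 L19870 q1599, e3 q2008 L28510 q2721, e3 q2009 L19883 q1601, e3 q2010 L19891 q1493, e3 q2011 L19899 q1494, e3 q2012 L19906 q1471, e3 q2013 (flp_c L28571) q2729, e3 q2014 L19929 q1606, e3 q2015 L19934 q1473, e3 q2016 (flp_c L28611) q2733, e3 q2017 L19955 q1609, e3 q2018 L19968 q1610, e3 q2019 (flp_c L28234) q2694, e3 q2020 L19984 q1476, e3 q2021 (flp_c L28677) q2740, e3 q2022 L20002 q1614, e3 q2023 L20015 q1615,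 e3 q2024 (flp_c L28308) q2700, e3 q2025 L20032 q1479, e3 q2026 (flp_c L28740) q2747, e3 q2027 L20054 q1619, e3 q2028 L28776 q2751, e3 q2029 L20070 q1621, e3 q2030 (flp_c L28354) q2706, e3 q2031 (flp_c L28361) q2707, e3 q2032 L20090 q1484, e3 q2033 (flp_c L28835) q2759, e3 q2034 L20112 q1626, e3 q2035 L28863 q2762, e3 q2036 L20129 q1628, e3 q2037 (flp_c L28462) q2715, e3 q2038 (flp_c L28472) q2716, e3 q2039 L20153 q1489, e3 q2040 (flp_c L28928) q2770, e3 q2041 L28936 q2771, e3 q2042 L20182 q1634, e3 q2043 (flp_c L20189) q1491, e3 q2044 (flp_c L28972) q2775, e3 q2045 (flp_c L28979) q2776, e3 q2046 L20212 q1638, e3 q2047 (flp_c L28541) q2725, trivial⟩ (by decide +kernel)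

theorem ce_c_32 : ∀ r, r < 64 → sm gc (Qf (2048 + r)) = Qf (tab Gen.c (2048 + r)) :=
  edges_tab (sm gc) Qf (tab Gen.c) 2048 [(2048, 2726), (2049, 2727), (2050, 2728), (2051, 1496), (2052, 2640), (2053, 1645), (2054, 1498), (2055, 2789), (2056, 2636), (2057, 1649), (2058, 2058), (2059, 2059), (2060, 2060), (2061, 2061), (2062, 1503), (2063, 1504), (2064, 2799), (2065, 2656), (2066, 1656), (2067, 1507), (2068, 1508), (2069, 2804), (2070, 2805), (2071, 2806), (2072, 2649), (2073, 1660), (2074, 2074), (2075, 2075), (2076, 2076), (2077, 2077), (2078, 2078), (2079, 1663), (2080, 2821), (2081, 1665), (2082, 2082), (2083, 2083), (2084, 1519), (2085, 2829), (2086, 2830), (2087, 1671), (2088, 1521), (2089, 2834), (2090, 2835), (2091, 1675), (2092, 2092), (2093, 2093), (2094, 2094), (2095, 2095), (2096, 1526), (2097, 1527), (2098, 2846), (2099, 2847), (2100, 1683), (2101, 1530), (2102, 1531), (2103, 2853), (2104, 2854), (2105, 2855), (2106, 2857), (2107, 1688), (2108, 2108), (2109, 2109), (2110, 2110), (2111, 2111)]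
    ⟨e3 q2048 (flp_c L28548) q2726, e3 q2049 (flp_c L28555) q2727, e3 q2050 (flp_c L28564) q2728, e3 q2051 L20246 q1496, e3 q2052 (flp_c L563392) q2640, e3 q2053 L20267 q1645, e3 q2054 (flp_c L20273) q1498, e3 q2055 (flp_c L29098) q2789, e3 q2056 (flp_c L536708) q2636, e3 q2057 L20302 q1649, e3 q2058 L20311 q2058, e3 q2059 L20318 q2059, e3 q2060 L20327 q2060, e3 q2061 L20335 q2061, e3 q2062 L20344 q1503, e3 q2063 (flp_c L20351) q1504, e3 q2064 (flp_c L29211) q2799, e3 q2065 (flp_c L563431) q2656, e3 q2066 L20381 q1656, e3 q2067 L20389 q1507, e3 q2068 L20397 q1508, e3 q2069 (flp_c L29272) q2804, e3 q2070 (flp_c L29278) q2805, e3 q2071 (flp_c L29286) q2806, e3 q2072 L563441 q2649, e3 q2073 L20435 q1660, e3 q2074 L20444 q2074, e3 q2075 L20450 q2075, e3 q2076 L20457 q2076, e3 q2077 L20465 q2077, e3 q2078 L20474 q2078, e3 q2079 L20485 q1663, e3 q2080 L29412 q2821, e3 q2081 L20504 q1665, e3 q2082 L20513 q2082, e3 q2083 L20522 q2083, e3 q2084 L20530 q1519, e3 q2085 (flp_c L29485) q2829, e3 q2086 L29492 q2830, e3 q2087 L20560 q1671,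 e3 q2088 (flp_c L20564) q1521, e3 q2089 (flp_c L29532) q2834, e3 q2090 (flp_c L29540) q2835, e3 q2091 L20591 q1675, e3 q2092 L20600 q2092, e3 q2093 L20607 q2093, e3 q2094 L20616 q2094, e3 q2095 L20622 q2095, e3 q2096 L20630 q1526, e3 q2097 (flp_c L20636) q1527, e3 q2098 (flp_c L29637) q2846, e3 q2099 (flp_c L29647) q2847, e3 q2100 L20666 q1683, e3 q2101 L20674 q1530, e3 q2102 L20683 q1531, e3 q2103 (flp_c L29699) q2853, e3 q2104 (flp_c L29708) q2854, e3 q2105 (flp_c L29716) q2855, e3 q2106 (flp_c L29730) q2857, e3 q2107 L20721 q1688, e3 q2108 L20730 q2108, e3 q2109 L20739 q2109, e3 q2110 L20747 q2110, e3 q2111 L20755 q2111, trivial⟩ (by decide +kernel)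

theorem ce_c_33 : ∀ r, r < 64 → sm gc (Qf (2112 + r)) = Qf (tab Gen.c (2112 + r)) :=
  edges_tab (sm gc) Qf (tab Gen.c) 2112 [(2112, 2112), (2113, 2113), (2114, 2114), (2115, 2115), (2116, 2116), (2117, 1692), (2118, 2118), (2119, 2119), (2120, 2120), (2121, 2121), (2122, 2122), (2123, 1551), (2124, 1552), (2125, 1553), (2126, 2887), (2127, 1555), (2128, 1556), (2129, 1557), (2130, 2882), (2131, 2883), (2132, 2884), (2133, 2894), (2134, 2886), (2135, 1554), (2136, 2896), (2137, 2889), (2138, 1559), (2139, 1560), (2140, 2898), (2141, 2899), (2142, 1871), (2143, 2903), (2144, 1562), (2145, 2906), (2146, 2146), (2147, 1565), (2148, 1870), (2149, 1861), (2150, 1567), (2151, 2913), (2152, 2673), (2153, 1569), (2154, 2918), (2155, 2155), (2156, 2156), (2157, 2157), (2158, 1868), (2159, 2679), (2160, 1575), (2161, 2924), (2162, 2682), (2163, 2683), (2164, 2164), (2165, 1578), (2166, 2931), (2167, 1840), (2168, 2689), (2169, 1581), (2170, 2936), (2171, 2692), (2172, 2693), (2173, 1611), (2174, 1584), (2175, 2943)]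
    ⟨e3 q2112 L20761 q2112, e3 q2113 L20771 q2113, e3 q2114 L20780 q2114, e3 q2115 L20790 q2115, e3 q2116 L20799 q2116, e3 q2117 L20809 q1692, e3 q2118 L20818 q2118, e3 q2119 L20826 q2119, e3 q2120 L20835 q2120, e3 q2121 L20845 q2121, e3 q2122 L20853 q2122, e3 q2123 L20861 q1551, e3 q2124 L20869 q1552, e3 q2125 L20878 q1553, e3 q2126 L29982 q2887, e3 q2127 L20892 q1555, e3 q2128 L20902 q1556, e3 q2129 L20911 q1557, e3 q2130 (flp_c L29942) q2882, e3 q2131 (flp_c L29951) q2883, e3 q2132 (flp_c L29960) q2884, e3 q2133 L30060 q2894, e3 q2134 (flp_c L29975) q2886, e3 q2135 (flp_c L20960) q1554, e3 q2136 (flp_c L30086) q2896, e3 q2137 (flp_c L29999) q2889, e3 q2138 L20991 q1559, e3 q2139 L21002 q1560, e3 q2140 (flp_c L30115) q2898, e3 q2141 (flp_c L30126) q2899, e3 q2142 L572051 q1871, e3 q2143 L30176 q2903, e3 q2144 (flp_c L21047) q1562, e3 q2145 (flp_c L30209) q2906, e3 q2146 L21074 q2146, e3 q2147 L21081 q1565, e3 q2148 L585491 q1870, e3 q2149 (flp_c L572165) q1861, e3 q2150 (flp_c L21121) q1567, e3 q2151 (flp_c L30312) q2913,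 e3 q2152 (flp_c L28041) q2673, e3 q2153 L21153 q1569, e3 q2154 (flp_c L30358) q2918, e3 q2155 L21173 q2155, e3 q2156 L21183 q2156, e3 q2157 L435899 q2157, e3 q2158 L585522 q1868, e3 q2159 (flp_c L28097) q2679, e3 q2160 L21249 q1575, e3 q2161 (flp_c L30493) q2924, e3 q2162 (flp_c L28119) q2682, e3 q2163 (flp_c L28130) q2683, e3 q2164 L21283 q2164, e3 q2165 L21289 q1578, e3 q2166 (flp_c L30549) q2931, e3 q2167 L585882 q1840, e3 q2168 (flp_c L28186) q2689, e3 q2169 L21346 q1581, e3 q2170 (flp_c L30651) q2936, e3 q2171 (flp_c L28211) q2692, e3 q2172 (flp_c L28222) q2693, e3 q2173 L21387 q1611, e3 q2174 L21394 q1584, e3 q2175 (flp_c L30716) q2943, trivial⟩ (by decide +kernel)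

theorem ce_c_34 : ∀ r, r < 64 → sm gc (Qf (2176 + r)) = Qf (tab Gen.c (2176 + r)) :=
  edges_tab (sm gc) Qf (tab Gen.c) 2176 [(2176, 1848), (2177, 2699), (2178, 1616), (2179, 1588), (2180, 2949), (2181, 2703), (2182, 2953), (2183, 2705), (2184, 1622), (2185, 1623), (2186, 1593), (2187, 2961), (2188, 1857), (2189, 2963), (2190, 2714), (2191, 1629), (2192, 1598), (2193, 2968), (2194, 2969), (2195, 2720), (2196, 1600), (2197, 2973), (2198, 2974), (2199, 2724), (2200, 1639), (2201, 1640), (2202, 1641), (2203, 1642), (2204, 1605), (2205, 2730), (2206, 2731), (2207, 2935), (2208, 1608), (2209, 2990), (2210, 2735), (2211, 2994), (2212, 2737), (2213, 2941), (2214, 2942), (2215, 1613), (2216, 3002), (2217, 2742), (2218, 3005), (2219, 2744), (2220, 2948), (2221, 1790), (2222, 1618), (2223, 3013), (2224, 3014), (2225, 2750), (2226, 1620), (2227, 3017), (2228, 3018), (2229, 2754), (2230, 2957), (2231, 2958), (2232, 2959), (2233, 2960), (2234, 1625), (2235, 3028), (2236, 2761), (2237, 1627), (2238, 3031), (2239, 3032)]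
    ⟨e3 q2176 (flp_c L585864) q1848, e3 q2177 (flp_c L28295) q2699, e3 q2178 L21478 q1616, e3 q2179 L21485 q1588, e3 q2180 (flp_c L30850) q2949, e3 q2181 (flp_c L28333) q2703, e3 q2182 L30882 q2953, e3 q2183 (flp_c L28348) q2705, e3 q2184 L21524 q1622, e3 q2185 L21532 q1623, e3 q2186 L21542 q1593, e3 q2187 (flp_c L30950) q2961, e3 q2188 L570086 q1857, e3 q2189 L31084 q2963, e3 q2190 (flp_c L28453) q2714, e3 q2191 L21657 q1629, e3 q2192 L21676 q1598, e3 q2193 (flp_c L31158) q2968, e3 q2194 L31164 q2969, e3 q2195 (flp_c L28505) q2720, e3 q2196 (flp_c L21708) q1600, e3 q2197 (flp_c L31200) q2973, e3 q2198 (flp_c L31207) q2974, e3 q2199 (flp_c L28534) q2724, e3 q2200 L21738 q1639, e3 q2201 L21747 q1640, e3 q2202 L21755 q1641, e3 q2203 L21765 q1642, e3 q2204 L21774 q1605, e3 q2205 (flp_c L28578) q2730, e3 q2206 (flp_c L28592) q2731, e3 q2207 (flp_c L30644) q2935, e3 q2208 L21815 q1608, e3 q2209 (flp_c L31348) q2990, e3 q2210 (flp_c L28634) q2735, e3 q2211 L31387 q2994, e3 q2212 (flp_c L28652) q2737, e3 q2213 (flp_c L30695) q2941,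 e3 q2214 (flp_c L30705) q2942, e3 q2215 L21882 q1613, e3 q2216 (flp_c L31458) q3002, e3 q2217 (flp_c L28699) q2742, e3 q2218 L31487 q3005, e3 q2219 (flp_c L28718) q2744, e3 q2220 (flp_c L30831) q2948, e3 q2221 L589485 q1790, e3 q2222 L21946 q1618, e3 q2223 (flp_c L31559) q3013, e3 q2224 L31567 q3014, e3 q2225 (flp_c L28771) q2750, e3 q2226 (flp_c L21982) q1620, e3 q2227 (flp_c L31606) q3017, e3 q2228 (flp_c L31610) q3018, e3 q2229 (flp_c L28800) q2754, e3 q2230 (flp_c L30914) q2957, e3 q2231 (flp_c L30921) q2958, e3 q2232 (flp_c L30931) q2959, e3 q2233 (flp_c L30940) q2960, e3 q2234 L22046 q1625, e3 q2235 L31695 q3028, e3 q2236 (flp_c L28855) q2761, e3 q2237 (flp_c L22075) q1627, e3 q2238 (flp_c L31736) q3031, e3 q2239 (flp_c L31743) q3032, trivial⟩ (by decide +kernel)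

theorem ce_c_35 : ∀ r, r < 64 → sm gc (Qf (2240 + r)) = Qf (tab Gen.c (2240 + r)) :=
  edges_tab (sm gc) Qf (tab Gen.c) 2240 [(2240, 2765), (2241, 2966), (2242, 2967), (2243, 1806), (2244, 1798), (2245, 1632), (2246, 1633), (2247, 3042), (2248, 2774), (2249, 1636), (2250, 1637), (2251, 3046), (2252, 3047), (2253, 3048), (2254, 2781), (2255, 2980), (2256, 2981), (2257, 2982), (2258, 2983), (2259, 2984), (2260, 1644), (2261, 3060), (2262, 2630), (2263, 2788), (2264, 1647), (2265, 1648), (2266, 3065), (2267, 3066), (2268, 3067), (2269, 2793), (2270, 2270), (2271, 2271), (2272, 2272), (2273, 2273), (2274, 1829), (2275, 1655), (2276, 3078), (2277, 3079), (2278, 2803), (2279, 1658), (2280, 1659), (2281, 3083), (2282, 3084), (2283, 2283), (2284, 2284), (2285, 3088), (2286, 2820), (2287, 1664), (2288, 3091), (2289, 3092), (2290, 2824), (2291, 2291), (2292, 2292), (2293, 2293), (2294, 2294), (2295, 1669), (2296, 1670), (2297, 3102), (2298, 2833), (2299, 1673), (2300, 1674), (2301, 3106), (2302, 3107), (2303, 3108)]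
    ⟨e3 q2240 (flp_c L28889) q2765, e3 q2241 (flp_c L31118) q2966, e3 q2242 (flp_c L31129) q2967, e3 q2243 L589655 q1806, e3 q2244 L589604 q1798, e3 q2245 L22145 q1632, e3 q2246 (flp_c L22153) q1633, e3 q2247 (flp_c L31846) q3042, e3 q2248 (flp_c L28964) q2774, e3 q2249 L22190 q1636, e3 q2250 L22195 q1637, e3 q2251 (flp_c L31909) q3046, e3 q2252 (flp_c L31915) q3047, e3 q2253 (flp_c L31919) q3048, e3 q2254 (flp_c L29015) q2781, e3 q2255 (flp_c L31250) q2980, e3 q2256 (flp_c L31259) q2981, e3 q2257 (flp_c L31269) q2982, e3 q2258 (flp_c L31278) q2983, e3 q2259 (flp_c L31287) q2984, e3 q2260 (flp_c L22280) q1644, e3 q2261 (flp_c L32041) q3060, e3 q2262 L579551 q2630, e3 q2263 (flp_c L29089) q2788, e3 q2264 L22324 q1647, e3 q2265 L22332 q1648, e3 q2266 (flp_c L32102) q3065, e3 q2267 (flp_c L32111) q3066, e3 q2268 (flp_c L32119) q3067, e3 q2269 (flp_c L29149) q2793, e3 q2270 L22377 q2270, e3 q2271 L22386 q2271, e3 q2272 L22396 q2272, e3 q2273 L22407 q2273, e3 q2274 L22420 q1829, e3 q2275 L22426 q1655, e3 q2276 (flp_c L32229) q3078,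 e3 q2277 (flp_c L32238) q3079, e3 q2278 (flp_c L29263) q2803, e3 q2279 L22462 q1658, e3 q2280 L22470 q1659, e3 q2281 (flp_c L32270) q3083, e3 q2282 (flp_c L32278) q3084, e3 q2283 L22494 q2283, e3 q2284 L22502 q2284, e3 q2285 L32307 q3088, e3 q2286 (flp_c L29406) q2820, e3 q2287 (flp_c L22529) q1664, e3 q2288 (flp_c L32351) q3091, e3 q2289 (flp_c L32359) q3092, e3 q2290 (flp_c L29443) q2824, e3 q2291 L22567 q2291, e3 q2292 L22578 q2292, e3 q2293 L22587 q2293, e3 q2294 L22596 q2294, e3 q2295 L22607 q1669, e3 q2296 (flp_c L22614) q1670, e3 q2297 (flp_c L32474) q3102, e3 q2298 (flp_c L29523) q2833, e3 q2299 L22655 q1673, e3 q2300 L22661 q1674, e3 q2301 (flp_c L32540) q3106, e3 q2302 (flp_c L32548) q3107, e3 q2303 (flp_c L32556) q3108, trivial⟩ (by decide +kernel)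

theorem ce_c_36 : ∀ r, r < 64 → sm gc (Qf (2304 + r)) = Qf (tab Gen.c (2304 + r)) :=
  edges_tab (sm gc) Qf (tab Gen.c) 2304 [(2304, 2840), (2305, 2305), (2306, 2306), (2307, 2307), (2308, 2308), (2309, 2309), (2310, 1682), (2311, 3120), (2312, 2852), (2313, 1686), (2314, 1687), (2315, 3049), (2316, 3122), (2317, 3123), (2318, 2318), (2319, 2319), (2320, 1693), (2321, 3128), (2322, 2322), (2323, 1696), (2324, 1697), (2325, 3131), (2326, 3132), (2327, 3133), (2328, 2328), (2329, 2329), (2330, 2330), (2331, 2331), (2332, 1704), (2333, 3143), (2334, 1707), (2335, 1708), (2336, 2336), (2337, 3145), (2338, 3149), (2339, 2339), (2340, 2340), (2341, 2341), (2342, 2342), (2343, 1715), (2344, 1716), (2345, 3157), (2346, 1872), (2347, 1864), (2348, 1718), (2349, 3161), (2350, 2350), (2351, 1720), (2352, 3165), (2353, 3167), (2354, 2354), (2355, 2355), (2356, 2356), (2357, 1863), (2358, 1727), (2359, 3172), (2360, 2360), (2361, 2361), (2362, 1730), (2363, 3178), (2364, 1731), (2365, 3180), (2366, 2366), (2367, 1850)]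
    ⟨e3 q2304 (flp_c L29579) q2840, e3 q2305 L22711 q2305, e3 q2306 L22721 q2306, e3 q2307 L22730 q2307, e3 q2308 L22740 q2308, e3 q2309 L22749 q2309, e3 q2310 L22766 q1682, e3 q2311 (flp_c L32696) q3120, e3 q2312 (flp_c L29690) q2852, e3 q2313 L22823 q1686, e3 q2314 L22830 q1687, e3 q2315 (flp_c L31927) q3049, e3 q2316 (flp_c L32759) q3122, e3 q2317 (flp_c L32767) q3123, e3 q2318 L22878 q2318, e3 q2319 L22887 q2319, e3 q2320 (flp_c L22892) q1693, e3 q2321 (flp_c L32840) q3128, e3 q2322 L22928 q2322, e3 q2323 L22937 q1696, e3 q2324 L22946 q1697, e3 q2325 (flp_c L32901) q3131, e3 q2326 (flp_c L32909) q3132, e3 q2327 (flp_c L32918) q3133, e3 q2328 L22990 q2328, e3 q2329 L23000 q2329, e3 q2330 L23009 q2330, e3 q2331 L23019 q2331, e3 q2332 L23039 q1704, e3 q2333 (flp_c L33048) q3143, e3 q2334 L23084 q1707, e3 q2335 L23091 q1708, e3 q2336 L23101 q2336, e3 q2337 (flp_c L33108) q3145, e3 q2338 L33160 q3149, e3 q2339 L23138 q2339, e3 q2340 L23172 q2340, e3 q2341 L23188 q2341, e3 q2342 L23209 q2342, e3 q2343 L23213 q1715, e3 q2344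 L23221 q1716, e3 q2345 (flp_c L33299) q3157, e3 q2346 (flp_c L558245) q1872, e3 q2347 (flp_c L597644) q1864, e3 q2348 (flp_c L23265) q1718, e3 q2349 (flp_c L33371) q3161, e3 q2350 L23291 q2350, e3 q2351 L23294 q1720, e3 q2352 (flp_c L33413) q3165, e3 q2353 L33426 q3167, e3 q2354 L23340 q2354, e3 q2355 L23348 q2355, e3 q2356 L432378 q2356, e3 q2357 (flp_c L582982) q1863, e3 q2358 L23410 q1727, e3 q2359 (flp_c L33590) q3172, e3 q2360 L23439 q2360, e3 q2361 L23447 q2361, e3 q2362 L23451 q1730, e3 q2363 (flp_c L33647) q3178, e3 q2364 (flp_c L23465) q1731, e3 q2365 (flp_c L33665) q3180, e3 q2366 L437601 q2366, e3 q2367 (flp_c L597978) q1850, trivial⟩ (by decide +kernel)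

theorem ce_c_37 : ∀ r, r < 64 → sm gc (Qf (2368 + r)) = Qf (tab Gen.c (2368 + r)) :=
  edges_tab (sm gc) Qf (tab Gen.c) 2368 [(2368, 2368), (2369, 1737), (2370, 3184), (2371, 3186), (2372, 2372), (2373, 2373), (2374, 2374), (2375, 1741), (2376, 3193), (2377, 1842), (2378, 1773), (2379, 1744), (2380, 3196), (2381, 3198), (2382, 2382), (2383, 1779), (2384, 1780), (2385, 1748), (2386, 3205), (2387, 1851), (2388, 1786), (2389, 1752), (2390, 3209), (2391, 1753), (2392, 3210), (2393, 1784), (2394, 2394), (2395, 1794), (2396, 1795), (2397, 1796), (2398, 1758), (2399, 1859), (2400, 1802), (2401, 1803), (2402, 1762), (2403, 1764), (2404, 3221), (2405, 3222), (2406, 1800), (2407, 2407), (2408, 1811), (2409, 1812), (2410, 1813), (2411, 1814), (2412, 2412), (2413, 3200), (2414, 2414), (2415, 3195), (2416, 1777), (2417, 1775), (2418, 3239), (2419, 2989), (2420, 2420), (2421, 3238), (2422, 2422), (2423, 3202), (2424, 3203), (2425, 3204), (2426, 1782), (2427, 3012), (2428, 2428), (2429, 3213), (2430, 2430), (2431, 3207)]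
    ⟨e3 q2368 L23606 q2368, e3 q2369 L23610 q1737, e3 q2370 (flp_c L33872) q3184, e3 q2371 L33902 q3186, e3 q2372 L23642 q2372, e3 q2373 L23648 q2373, e3 q2374 L23653 q2374, e3 q2375 L23659 q1741, e3 q2376 (flp_c L33956) q3193, e3 q2377 L585903 q1842, e3 q2378 L23754 q1773, e3 q2379 L23759 q1744, e3 q2380 (flp_c L34100) q3196, e3 q2381 L34131 q3198, e3 q2382 L23794 q2382, e3 q2383 L23800 q1779, e3 q2384 L23808 q1780, e3 q2385 L23817 q1748, e3 q2386 (flp_c L34198) q3205, e3 q2387 L583482 q1851, e3 q2388 L23936 q1786, e3 q2389 L23951 q1752, e3 q2390 (flp_c L34407) q3209, e3 q2391 (flp_c L23979) q1753, e3 q2392 (flp_c L34447) q3210, e3 q2393 L600527 q1784, e3 q2394 L24005 q2394, e3 q2395 L24011 q1794, e3 q2396 L24016 q1795, e3 q2397 L24024 q1796, e3 q2398 L24039 q1758, e3 q2399 (flp_c L583404) q1859, e3 q2400 L24213 q1802, e3 q2401 L24222 q1803, e3 q2402 L24245 q1762, e3 q2403 L24283 q1764, e3 q2404 (flp_c L34904) q3221, e3 q2405 (flp_c L34912) q3222, e3 q2406 (flp_c L598282) q1800, e3 q2407 L24327 q2407, e3 q2408 L24333 q1811,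 e3 q2409 L24340 q1812, e3 q2410 L24348 q1813, e3 q2411 L24355 q1814, e3 q2412 L24372 q2412, e3 q2413 L587231 q3200, e3 q2414 L24393 q2414, e3 q2415 (flp_c L34082) q3195, e3 q2416 (flp_c L589468) q1777, e3 q2417 L24417 q1775, e3 q2418 (flp_c L35120) q3239, e3 q2419 (flp_c L589456) q2989, e3 q2420 L24446 q2420, e3 q2421 L600603 q3238, e3 q2422 L24481 q2422, e3 q2423 (flp_c L34166) q3202, e3 q2424 (flp_c L34173) q3203, e3 q2425 (flp_c L34180) q3204, e3 q2426 L24515 q1782, e3 q2427 L589594 q3012, e3 q2428 L24536 q2428, e3 q2429 L600532 q3213, e3 q2430 L24569 q2430, e3 q2431 (flp_c L34375) q3207, trivial⟩ (by decide +kernel)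

theorem ce_c_38 : ∀ r, r < 64 → sm gc (Qf (2432 + r)) = Qf (tab Gen.c (2432 + r)) :=
  edges_tab (sm gc) Qf (tab Gen.c) 2432 [(2432, 3208), (2433, 1792), (2434, 1789), (2435, 3011), (2436, 2436), (2437, 3251), (2438, 3253), (2439, 2439), (2440, 3215), (2441, 3216), (2442, 3217), (2443, 3218), (2444, 3041), (2445, 2445), (2446, 3224), (2447, 3226), (2448, 2448), (2449, 3219), (2450, 1808), (2451, 3220), (2452, 1809), (2453, 3038), (2454, 3040), (2455, 2455), (2456, 3266), (2457, 3268), (2458, 3227), (2459, 3228), (2460, 3229), (2461, 3231), (2462, 2633), (2463, 1816), (2464, 1817), (2465, 3274), (2466, 3275), (2467, 3276), (2468, 2468), (2469, 1821), (2470, 1822), (2471, 1823), (2472, 2472), (2473, 3282), (2474, 3283), (2475, 3284), (2476, 3285), (2477, 2477), (2478, 2478), (2479, 2479), (2480, 3296), (2481, 2481), (2482, 3077), (2483, 1831), (2484, 1832), (2485, 3300), (2486, 3301), (2487, 3267), (2488, 1836), (2489, 1837), (2490, 3305), (2491, 3306), (2492, 2492), (2493, 2933), (2494, 2494), (2495, 3170)]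
    ⟨e3 q2432 (flp_c L34382) q3208, e3 q2433 (flp_c L598636) q1792, e3 q2434 L24605 q1789, e3 q2435 (flp_c L598608) q3011, e3 q2436 L24640 q2436, e3 q2437 L599267 q3251, e3 q2438 L600474 q3253, e3 q2439 L24693 q2439, e3 q2440 (flp_c L34497) q3215, e3 q2441 (flp_c L34503) q3216, e3 q2442 (flp_c L34510) q3217, e3 q2443 (flp_c L34518) q3218, e3 q2444 (flp_c L589631) q3041, e3 q2445 L24758 q2445, e3 q2446 L587607 q3224, e3 q2447 (flp_c L600502) q3226, e3 q2448 L24817 q2448, e3 q2449 (flp_c L34802) q3219, e3 q2450 (flp_c L589678) q1808, e3 q2451 (flp_c L34819) q3220, e3 q2452 L598578 q1809, e3 q2453 (flp_c L589668) q3038, e3 q2454 L589641 q3040, e3 q2455 L24914 q2455, e3 q2456 (flp_c L541989) q3266, e3 q2457 L600350 q3268, e3 q2458 (flp_c L34978) q3227, e3 q2459 (flp_c L34984) q3228, e3 q2460 (flp_c L34992) q3229, e3 q2461 (flp_c L35015) q3231, e3 q2462 (flp_c L563383) q2633, e3 q2463 L25043 q1816, e3 q2464 L25053 q1817, e3 q2465 (flp_c L36032) q3274, e3 q2466 (flp_c L36042) q3275, e3 q2467 (flp_c L36052) q3276, e3 q2468 L25089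 q2468, e3 q2469 L25098 q1821, e3 q2470 L25107 q1822, e3 q2471 L25116 q1823, e3 q2472 L25128 q2472, e3 q2473 (flp_c L36114) q3282, e3 q2474 (flp_c L36123) q3283, e3 q2475 (flp_c L36133) q3284, e3 q2476 (flp_c L36143) q3285, e3 q2477 L25168 q2477, e3 q2478 L25175 q2478, e3 q2479 L25183 q2479, e3 q2480 L36242 q3296, e3 q2481 L25197 q2481, e3 q2482 (flp_c L32221) q3077, e3 q2483 L25216 q1831, e3 q2484 L25225 q1832, e3 q2485 (flp_c L36276) q3300, e3 q2486 (flp_c L36285) q3301, e3 q2487 (flp_c L560713) q3267, e3 q2488 L25255 q1836, e3 q2489 L25263 q1837, e3 q2490 (flp_c L36322) q3305, e3 q2491 (flp_c L36330) q3306, e3 q2492 L25286 q2492, e3 q2493 L585892 q2933, e3 q2494 L25324 q2494, e3 q2495 L598000 q3170, trivial⟩ (by decide +kernel)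

theorem ce_c_39 : ∀ r, r < 64 → sm gc (Qf (2496 + r)) = Qf (tab Gen.c (2496 + r)) :=
  edges_tab (sm gc) Qf (tab Gen.c) 2496 [(2496, 3194), (2497, 2497), (2498, 2498), (2499, 2499), (2500, 2500), (2501, 2501), (2502, 2921), (2503, 2945), (2504, 2504), (2505, 3182), (2506, 3206), (2507, 2507), (2508, 2508), (2509, 3179), (2510, 2510), (2511, 2962), (2512, 2911), (2513, 2902), (2514, 3160), (2515, 2515), (2516, 2516), (2517, 3166), (2518, 1869), (2519, 2901), (2520, 3158), (2521, 2521), (2522, 3320), (2523, 1875), (2524, 2524), (2525, 2525), (2526, 2526), (2527, 3324), (2528, 2528), (2529, 3327), (2530, 1882), (2531, 3330), (2532, 1883), (2533, 3333), (2534, 2534), (2535, 1885), (2536, 3338), (2537, 2537), (2538, 2538), (2539, 2539), (2540, 1888), (2541, 3345), (2542, 1971), (2543, 3348), (2544, 3350), (2545, 1892), (2546, 3353), (2547, 1893), (2548, 3356), (2549, 2549), (2550, 1895), (2551, 3361), (2552, 1896), (2553, 3364), (2554, 2554), (2555, 1898), (2556, 3369), (2557, 2557), (2558, 1900), (2559, 3373)]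
    ⟨e3 q2496 (flp_c L585928) q3194, e3 q2497 L25387 q2497, e3 q2498 L25395 q2498, e3 q2499 L25402 q2499, e3 q2500 L25411 q2500, e3 q2501 L25420 q2501, e3 q2502 (flp_c L585860) q2921, e3 q2503 (flp_c L585848) q2945, e3 q2504 L25495 q2504, e3 q2505 L597955 q3182, e3 q2506 (flp_c L583432) q3206, e3 q2507 L25583 q2507, e3 q2508 L25591 q2508, e3 q2509 L627179 q3179, e3 q2510 L25612 q2510, e3 q2511 (flp_c L570064) q2962, e3 q2512 (flp_c L582992) q2911, e3 q2513 (flp_c L572073) q2902, e3 q2514 L597657 q3160, e3 q2515 L25920 q2515, e3 q2516 L25927 q2516, e3 q2517 L627147 q3166, e3 q2518 (flp_c L26088) q1869, e3 q2519 L572512 q2901, e3 q2520 (flp_c L557432) q3158, e3 q2521 L26387 q2521, e3 q2522 L37893 q3320, e3 q2523 (flp_c L26411) q1875, e3 q2524 L26705 q2524, e3 q2525 L26715 q2525, e3 q2526 L26726 q2526, e3 q2527 L38331 q3324, e3 q2528 L26745 q2528, e3 q2529 L38359 q3327, e3 q2530 (flp_c L26762) q1882, e3 q2531 (flp_c L38392) q3330, e3 q2532 (flp_c L26780) q1883, e3 q2533 (flp_c L38420) q3333, e3 q2534 L26809 q2534, e3 q2535 L26813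 q1885, e3 q2536 (flp_c L38469) q3338, e3 q2537 L26830 q2537, e3 q2538 L26842 q2538, e3 q2539 L26852 q2539, e3 q2540 L26857 q1888, e3 q2541 (flp_c L38530) q3345, e3 q2542 L26877 q1971, e3 q2543 L38557 q3348, e3 q2544 L38574 q3350, e3 q2545 (flp_c L26905) q1892, e3 q2546 (flp_c L38608) q3353, e3 q2547 (flp_c L26921) q1893, e3 q2548 (flp_c L38635) q3356, e3 q2549 L26948 q2549, e3 q2550 L26952 q1895, e3 q2551 (flp_c L38676) q3361, e3 q2552 (flp_c L26962) q1896, e3 q2553 (flp_c L38702) q3364, e3 q2554 L26992 q2554, e3 q2555 L26996 q1898, e3 q2556 (flp_c L38751) q3369, e3 q2557 L27018 q2557, e3 q2558 L27022 q1900, e3 q2559 (flp_c L38797) q3373, trivial⟩ (by decide +kernel)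

theorem ce_c_40 : ∀ r, r < 64 → sm gc (Qf (2560 + r)) = Qf (tab Gen.c (2560 + r)) :=
  edges_tab (sm gc) Qf (tab Gen.c) 2560 [(2560, 2560), (2561, 2561), (2562, 1925), (2563, 1903), (2564, 3380), (2565, 2565), (2566, 1933), (2567, 1906), (2568, 3386), (2569, 2569), (2570, 3390), (2571, 2571), (2572, 1939), (2573, 1940), (2574, 1911), (2575, 3398), (2576, 1912), (2577, 3400), (2578, 2578), (2579, 1914), (2580, 3405), (2581, 2581), (2582, 2582), (2583, 3368), (2584, 1917), (2585, 3412), (2586, 2586), (2587, 1919), (2588, 3417), (2589, 2589), (2590, 2590), (2591, 3372), (2592, 1922), (2593, 3424), (2594, 2594), (2595, 3428), (2596, 2596), (2597, 3378), (2598, 3379), (2599, 1927), (2600, 3436), (2601, 2601), (2602, 2602), (2603, 2603), (2604, 1930), (2605, 3442), (2606, 2606), (2607, 3446), (2608, 2608), (2609, 3384), (2610, 3385), (2611, 1935), (2612, 3454), (2613, 3455), (2614, 2614), (2615, 1937), (2616, 3459), (2617, 3460), (2618, 2618), (2619, 3394), (2620, 3395), (2621, 3396), (2622, 3397), (2623, 1942)]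
    ⟨e3 q2560 L27040 q2560, e3 q2561 L27050 q2561, e3 q2562 L27058 q1925, e3 q2563 L27065 q1903, e3 q2564 (flp_c L38853) q3380, e3 q2565 L27090 q2565, e3 q2566 L27101 q1933, e3 q2567 L27108 q1906, e3 q2568 (flp_c L38916) q3386, e3 q2569 L27130 q2569, e3 q2570 L38949 q3390, e3 q2571 L27143 q2571, e3 q2572 L27149 q1939, e3 q2573 L27157 q1940, e3 q2574 L27165 q1911, e3 q2575 (flp_c L39012) q3398, e3 q2576 (flp_c L27176) q1912, e3 q2577 (flp_c L39030) q3400, e3 q2578 L27208 q2578, e3 q2579 L27212 q1914, e3 q2580 (flp_c L39084) q3405, e3 q2581 L27230 q2581, e3 q2582 L27243 q2582, e3 q2583 (flp_c L38744) q3368, e3 q2584 L27259 q1917, e3 q2585 (flp_c L39146) q3412, e3 q2586 L27281 q2586, e3 q2587 L27285 q1919, e3 q2588 (flp_c L39192) q3417, e3 q2589 L27303 q2589, e3 q2590 L27316 q2590, e3 q2591 (flp_c L38790) q3372, e3 q2592 L27333 q1922, e3 q2593 (flp_c L39254) q3424, e3 q2594 L27352 q2594, e3 q2595 L39287 q3428, e3 q2596 L27368 q2596, e3 q2597 (flp_c L38837) q3378, e3 q2598 (flp_c L38844) q3379, e3 q2599 L27387 q1927, e3 q2600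 (flp_c L39348) q3436, e3 q2601 L27403 q2601, e3 q2602 L27416 q2602, e3 q2603 L27426 q2603, e3 q2604 L27431 q1930, e3 q2605 (flp_c L39401) q3442, e3 q2606 L27454 q2606, e3 q2607 L39440 q3446, e3 q2608 L27471 q2608, e3 q2609 (flp_c L38897) q3384, e3 q2610 (flp_c L38907) q3385, e3 q2611 L27494 q1935, e3 q2612 (flp_c L39507) q3454, e3 q2613 L39514 q3455, e3 q2614 L27522 q2614, e3 q2615 (flp_c L27527) q1937, e3 q2616 (flp_c L39550) q3459, e3 q2617 (flp_c L39556) q3460, e3 q2618 L27552 q2618, e3 q2619 (flp_c L38980) q3394, e3 q2620 (flp_c L38989) q3395, e3 q2621 (flp_c L38996) q3396, e3 q2622 (flp_c L39004) q3397, e3 q2623 L27586 q1942, trivial⟩ (by decide +kernel)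

theorem ce_c_41 : ∀ r, r < 64 → sm gc (Qf (2624 + r)) = Qf (tab Gen.c (2624 + r)) :=
  edges_tab (sm gc) Qf (tab Gen.c) 2624 [(2624, 2624), (2625, 2625), (2626, 1948), (2627, 1945), (2628, 3473), (2629, 2629), (2630, 2262), (2631, 2631), (2632, 3472), (2633, 2462), (2634, 1950), (2635, 3481), (2636, 2056), (2637, 2637), (2638, 1952), (2639, 3484), (2640, 2052), (2641, 2641), (2642, 2642), (2643, 2643), (2644, 2644), (2645, 2645), (2646, 1957), (2647, 1958), (2648, 3494), (2649, 2072), (2650, 2650), (2651, 1961), (2652, 1962), (2653, 3499), (2654, 3500), (2655, 3501), (2656, 2065), (2657, 2657), (2658, 2658), (2659, 2659), (2660, 2660), (2661, 2661), (2662, 2662), (2663, 2663), (2664, 2664), (2665, 2665), (2666, 3517), (2667, 1972), (2668, 3520), (2669, 2669), (2670, 3523), (2671, 1975), (2672, 3526), (2673, 2152), (2674, 1977), (2675, 3531), (2676, 3533), (2677, 1979), (2678, 3535), (2679, 2159), (2680, 1981), (2681, 3539), (2682, 2162), (2683, 2163), (2684, 2684), (2685, 1984), (2686, 3546), (2687, 1985)]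
    ⟨e3 q2624 L27594 q2624, e3 q2625 L27606 q2625, e3 q2626 L27617 q1948, e3 q2627 L27623 q1945, e3 q2628 (flp_c L39683) q3473, e3 q2629 L27644 q2629, e3 q2630 (flp_c L579551) q2262, e3 q2631 L27662 q2631, e3 q2632 (flp_c L39665) q3472, e3 q2633 L563383 q2462, e3 q2634 L27685 q1950, e3 q2635 (flp_c L39785) q3481, e3 q2636 L536708 q2056, e3 q2637 L27716 q2637, e3 q2638 (flp_c L27720) q1952, e3 q2639 (flp_c L39834) q3484, e3 q2640 L563392 q2052, e3 q2641 L27751 q2641, e3 q2642 L27758 q2642, e3 q2643 L27767 q2643, e3 q2644 L27776 q2644, e3 q2645 L27783 q2645, e3 q2646 L27793 q1957, e3 q2647 (flp_c L27799) q1958, e3 q2648 (flp_c L39949) q3494, e3 q2649 (flp_c L563441) q2072, e3 q2650 L27831 q2650, e3 q2651 L27837 q1961, e3 q2652 L27844 q1962, e3 q2653 (flp_c L40010) q3499, e3 q2654 (flp_c L40018) q3500, e3 q2655 (flp_c L40025) q3501, e3 q2656 L563431 q2065, e3 q2657 L27885 q2657, e3 q2658 L27892 q2658, e3 q2659 L27898 q2659, e3 q2660 L27907 q2660, e3 q2661 L27915 q2661, e3 q2662 L27923 q2662, e3 q2663 L27933 q2663, e3 q2664 L27944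 q2664, e3 q2665 L27956 q2665, e3 q2666 L40177 q3517, e3 q2667 (flp_c L27973) q1972, e3 q2668 (flp_c L40209) q3520, e3 q2669 L27996 q2669, e3 q2670 L40234 q3523, e3 q2671 (flp_c L28015) q1975, e3 q2672 (flp_c L40268) q3526, e3 q2673 L28041 q2152, e3 q2674 L28046 q1977, e3 q2675 (flp_c L40314) q3531, e3 q2676 L40330 q3533, e3 q2677 (flp_c L28071) q1979, e3 q2678 (flp_c L40362) q3535, e3 q2679 L28097 q2159, e3 q2680 L28102 q1981, e3 q2681 (flp_c L40407) q3539, e3 q2682 L28119 q2162, e3 q2683 L28130 q2163, e3 q2684 L28138 q2684, e3 q2685 L28142 q1984, e3 q2686 (flp_c L40462) q3546, e3 q2687 (flp_c L28157) q1985, trivial⟩ (by decide +kernel)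

theorem ce_c_42 : ∀ r, r < 64 → sm gc (Qf (2688 + r)) = Qf (tab Gen.c (2688 + r)) :=
  edges_tab (sm gc) Qf (tab Gen.c) 2688 [(2688, 3548), (2689, 2168), (2690, 1987), (2691, 3552), (2692, 2171), (2693, 2172), (2694, 2019), (2695, 1990), (2696, 3559), (2697, 1992), (2698, 3562), (2699, 2177), (2700, 2024), (2701, 1995), (2702, 3568), (2703, 2181), (2704, 3572), (2705, 2183), (2706, 2030), (2707, 2031), (2708, 2000), (2709, 3580), (2710, 2710), (2711, 2002), (2712, 3583), (2713, 3585), (2714, 2190), (2715, 2037), (2716, 2038), (2717, 2006), (2718, 3593), (2719, 3594), (2720, 2195), (2721, 2008), (2722, 3598), (2723, 3599), (2724, 2199), (2725, 2047), (2726, 2048), (2727, 2049), (2728, 2050), (2729, 2013), (2730, 2205), (2731, 2206), (2732, 3551), (2733, 2016), (2734, 3615), (2735, 2210), (2736, 3619), (2737, 2212), (2738, 3557), (2739, 3558), (2740, 2021), (2741, 3627), (2742, 2217), (2743, 3630), (2744, 2219), (2745, 3566), (2746, 3567), (2747, 2026), (2748, 3638), (2749, 3639), (2750, 2225), (2751, 2028)]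
    ⟨e3 q2688 (flp_c L40492) q3548, e3 q2689 L28186 q2168, e3 q2690 L28191 q1987, e3 q2691 (flp_c L40545) q3552, e3 q2692 L28211 q2171, e3 q2693 L28222 q2172, e3 q2694 L28234 q2019, e3 q2695 L28239 q1990, e3 q2696 (flp_c L40609) q3559, e3 q2697 L28266 q1992, e3 q2698 (flp_c L40657) q3562, e3 q2699 L28295 q2177, e3 q2700 L28308 q2024, e3 q2701 L28313 q1995, e3 q2702 (flp_c L40719) q3568, e3 q2703 L28333 q2181, e3 q2704 L40751 q3572, e3 q2705 L28348 q2183, e3 q2706 L28354 q2030, e3 q2707 L28361 q2031, e3 q2708 L28369 q2000, e3 q2709 (flp_c L40814) q3580, e3 q2710 L28410 q2710, e3 q2711 L28415 q2002, e3 q2712 (flp_c L40867) q3583, e3 q2713 L40903 q3585, e3 q2714 L28453 q2190, e3 q2715 L28462 q2037, e3 q2716 L28472 q2038, e3 q2717 L28478 q2006, e3 q2718 (flp_c L40972) q3593, e3 q2719 L40978 q3594, e3 q2720 L28505 q2195, e3 q2721 (flp_c L28510) q2008, e3 q2722 (flp_c L41013) q3598, e3 q2723 (flp_c L41022) q3599, e3 q2724 L28534 q2199, e3 q2725 L28541 q2047, e3 q2726 L28548 q2048, e3 q2727 L28555 q2049, e3 q2728 L28564 q2050, e3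 q2729 L28571 q2013, e3 q2730 L28578 q2205, e3 q2731 L28592 q2206, e3 q2732 (flp_c L40540) q3551, e3 q2733 L28611 q2016, e3 q2734 (flp_c L41154) q3615, e3 q2735 L28634 q2210, e3 q2736 L41193 q3619, e3 q2737 L28652 q2212, e3 q2738 (flp_c L40591) q3557, e3 q2739 (flp_c L40600) q3558, e3 q2740 L28677 q2021, e3 q2741 (flp_c L41259) q3627, e3 q2742 L28699 q2217, e3 q2743 L41287 q3630, e3 q2744 L28718 q2219, e3 q2745 (flp_c L40703) q3566, e3 q2746 (flp_c L40712) q3567, e3 q2747 L28740 q2026, e3 q2748 (flp_c L41354) q3638, e3 q2749 L41362 q3639, e3 q2750 L28771 q2225, e3 q2751 (flp_c L28776) q2028, trivial⟩ (by decide +kernel)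

theorem ce_c_43 : ∀ r, r < 64 → sm gc (Qf (2752 + r)) = Qf (tab Gen.c (2752 + r)) :=
  edges_tab (sm gc) Qf (tab Gen.c) 2752 [(2752, 3643), (2753, 3644), (2754, 2229), (2755, 3576), (2756, 3577), (2757, 3578), (2758, 3579), (2759, 2033), (2760, 3655), (2761, 2236), (2762, 2035), (2763, 3659), (2764, 3660), (2765, 2240), (2766, 3589), (2767, 3590), (2768, 3591), (2769, 3592), (2770, 2040), (2771, 2041), (2772, 3672), (2773, 3673), (2774, 2248), (2775, 2044), (2776, 2045), (2777, 3679), (2778, 3680), (2779, 3681), (2780, 3683), (2781, 2254), (2782, 3605), (2783, 3606), (2784, 3607), (2785, 3608), (2786, 3609), (2787, 3487), (2788, 2263), (2789, 2055), (2790, 3699), (2791, 3700), (2792, 3482), (2793, 2269), (2794, 2794), (2795, 2795), (2796, 2796), (2797, 2797), (2798, 2798), (2799, 2064), (2800, 3712), (2801, 3713), (2802, 3506), (2803, 2278), (2804, 2069), (2805, 2070), (2806, 2071), (2807, 3719), (2808, 3720), (2809, 3721), (2810, 3722), (2811, 3497), (2812, 2812), (2813, 2813), (2814, 2814), (2815, 3735)]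
    ⟨e3 q2752 (flp_c L41400) q3643, e3 q2753 (flp_c L41406) q3644, e3 q2754 L28800 q2229, e3 q2755 (flp_c L40784) q3576, e3 q2756 (flp_c L40789) q3577, e3 q2757 (flp_c L40798) q3578, e3 q2758 (flp_c L40806) q3579, e3 q2759 L28835 q2033, e3 q2760 L41484 q3655, e3 q2761 L28855 q2236, e3 q2762 (flp_c L28863) q2035, e3 q2763 (flp_c L41524) q3659, e3 q2764 (flp_c L41533) q3660, e3 q2765 L28889 q2240, e3 q2766 (flp_c L40938) q3589, e3 q2767 (flp_c L40947) q3590, e3 q2768 (flp_c L40956) q3591, e3 q2769 (flp_c L40964) q3592, e3 q2770 L28928 q2040, e3 q2771 (flp_c L28936) q2041, e3 q2772 (flp_c L41629) q3672, e3 q2773 (flp_c L41638) q3673, e3 q2774 L28964 q2248, e3 q2775 L28972 q2044, e3 q2776 L28979 q2045, e3 q2777 (flp_c L41688) q3679, e3 q2778 (flp_c L41693) q3680, e3 q2779 (flp_c L41699) q3681, e3 q2780 (flp_c L41713) q3683, e3 q2781 L29015 q2254, e3 q2782 (flp_c L41063) q3605, e3 q2783 (flp_c L41071) q3606, e3 q2784 (flp_c L41079) q3607, e3 q2785 (flp_c L41087) q3608, e3 q2786 (flp_c L41095) q3609, e3 q2787 (flp_c L563372) q3487,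 e3 q2788 L29089 q2263, e3 q2789 L29098 q2055, e3 q2790 (flp_c L41885) q3699, e3 q2791 (flp_c L41893) q3700, e3 q2792 L563491 q3482, e3 q2793 L29149 q2269, e3 q2794 L29159 q2794, e3 q2795 L29167 q2795, e3 q2796 L29174 q2796, e3 q2797 L29184 q2797, e3 q2798 L29192 q2798, e3 q2799 L29211 q2064, e3 q2800 (flp_c L42047) q3712, e3 q2801 (flp_c L42054) q3713, e3 q2802 L545956 q3506, e3 q2803 L29263 q2278, e3 q2804 L29272 q2069, e3 q2805 L29278 q2070, e3 q2806 L29286 q2071, e3 q2807 (flp_c L42131) q3719, e3 q2808 (flp_c L42138) q3720, e3 q2809 (flp_c L42146) q3721, e3 q2810 (flp_c L42155) q3722, e3 q2811 L562730 q3497, e3 q2812 L29342 q2812, e3 q2813 L29347 q2813, e3 q2814 L29354 q2814, e3 q2815 L42261 q3735, trivial⟩ (by decide +kernel)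

theorem ce_c_44 : ∀ r, r < 64 → sm gc (Qf (2816 + r)) = Qf (tab Gen.c (2816 + r)) :=
  edges_tab (sm gc) Qf (tab Gen.c) 2816 [(2816, 2816), (2817, 2817), (2818, 2818), (2819, 3738), (2820, 2286), (2821, 2080), (2822, 3742), (2823, 3743), (2824, 2290), (2825, 2825), (2826, 2826), (2827, 2827), (2828, 2828), (2829, 2085), (2830, 2086), (2831, 3754), (2832, 3755), (2833, 2298), (2834, 2089), (2835, 2090), (2836, 3761), (2837, 3762), (2838, 3763), (2839, 3765), (2840, 2304), (2841, 2841), (2842, 2842), (2843, 2843), (2844, 2844), (2845, 2845), (2846, 2098), (2847, 2099), (2848, 3778), (2849, 3779), (2850, 3780), (2851, 3781), (2852, 2312), (2853, 2103), (2854, 2104), (2855, 2105), (2856, 3682), (2857, 2106), (2858, 3787), (2859, 3788), (2860, 3789), (2861, 3790), (2862, 3792), (2863, 2863), (2864, 2864), (2865, 2865), (2866, 3807), (2867, 2867), (2868, 2868), (2869, 2869), (2870, 2870), (2871, 2871), (2872, 2872), (2873, 2873), (2874, 2874), (2875, 2875), (2876, 2876), (2877, 2877), (2878, 3822), (2879, 2879)]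
    ⟨e3 q2816 L29368 q2816, e3 q2817 L29375 q2817, e3 q2818 L29385 q2818, e3 q2819 L42286 q3738, e3 q2820 L29406 q2286, e3 q2821 (flp_c L29412) q2080, e3 q2822 (flp_c L42329) q3742, e3 q2823 (flp_c L42339) q3743, e3 q2824 L29443 q2290, e3 q2825 L29451 q2825, e3 q2826 L29460 q2826, e3 q2827 L29468 q2827, e3 q2828 L29476 q2828, e3 q2829 L29485 q2085, e3 q2830 (flp_c L29492) q2086, e3 q2831 (flp_c L42447) q3754, e3 q2832 (flp_c L42456) q3755, e3 q2833 L29523 q2298, e3 q2834 L29532 q2089, e3 q2835 L29540 q2090, e3 q2836 (flp_c L42509) q3761, e3 q2837 (flp_c L42516) q3762, e3 q2838 (flp_c L42526) q3763, e3 q2839 (flp_c L42540) q3765, e3 q2840 L29579 q2304, e3 q2841 L29588 q2841, e3 q2842 L29596 q2842, e3 q2843 L29603 q2843, e3 q2844 L29612 q2844, e3 q2845 L29620 q2845, e3 q2846 L29637 q2098, e3 q2847 L29647 q2099, e3 q2848 (flp_c L42662) q3778, e3 q2849 (flp_c L42672) q3779, e3 q2850 (flp_c L42681) q3780, e3 q2851 (flp_c L42697) q3781, e3 q2852 L29690 q2312, e3 q2853 L29699 q2103, e3 q2854 L29708 q2104, e3 q2855 L29716 q2105,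 e3 q2856 (flp_c L41707) q3682, e3 q2857 L29730 q2106, e3 q2858 (flp_c L42749) q3787, e3 q2859 (flp_c L42758) q3788, e3 q2860 (flp_c L42767) q3789, e3 q2861 (flp_c L42776) q3790, e3 q2862 (flp_c L42791) q3792, e3 q2863 L29777 q2863, e3 q2864 L29785 q2864, e3 q2865 L29795 q2865, e3 q2866 L42908 q3807, e3 q2867 L29810 q2867, e3 q2868 L29819 q2868, e3 q2869 L29826 q2869, e3 q2870 L29835 q2870, e3 q2871 L29844 q2871, e3 q2872 L29854 q2872, e3 q2873 L29865 q2873, e3 q2874 L29874 q2874, e3 q2875 L29883 q2875, e3 q2876 L29891 q2876, e3 q2877 L29900 q2877, e3 q2878 L43042 q3822, e3 q2879 L29915 q2879, trivial⟩ (by decide +kernel)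

theorem ce_c_45 : ∀ r, r < 64 → sm gc (Qf (2880 + r)) = Qf (tab Gen.c (2880 + r)) :=
  edges_tab (sm gc) Qf (tab Gen.c) 2880 [(2880, 2880), (2881, 2881), (2882, 2130), (2883, 2131), (2884, 2132), (2885, 3831), (2886, 2134), (2887, 2126), (2888, 3834), (2889, 2137), (2890, 3825), (2891, 3826), (2892, 3830), (2893, 3828), (2894, 2133), (2895, 2895), (2896, 2136), (2897, 2897), (2898, 2140), (2899, 2141), (2900, 3842), (2901, 2519), (2902, 2513), (2903, 2143), (2904, 3847), (2905, 3519), (2906, 2145), (2907, 3852), (2908, 2908), (2909, 2909), (2910, 2910), (2911, 2512), (2912, 3525), (2913, 2151), (2914, 3858), (2915, 3528), (2916, 3529), (2917, 2917), (2918, 2154), (2919, 3865), (2920, 2920), (2921, 2502), (2922, 3537), (2923, 2923), (2924, 2161), (2925, 3872), (2926, 3541), (2927, 3876), (2928, 3543), (2929, 2929), (2930, 2930), (2931, 2166), (2932, 3883), (2933, 2493), (2934, 3550), (2935, 2207), (2936, 2170), (2937, 3888), (2938, 3554), (2939, 3892), (2940, 3556), (2941, 2213), (2942, 2214), (2943, 2175)]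
    ⟨e3 q2880 L29925 q2880, e3 q2881 L29934 q2881, e3 q2882 L29942 q2130, e3 q2883 L29951 q2131, e3 q2884 L29960 q2132, e3 q2885 L43117 q3831, e3 q2886 L29975 q2134, e3 q2887 (flp_c L29982) q2126, e3 q2888 (flp_c L43140) q3834, e3 q2889 L29999 q2137, e3 q2890 (flp_c L43068) q3825, e3 q2891 (flp_c L43077) q3826, e3 q2892 (flp_c L647577) q3830, e3 q2893 (flp_c L43093) q3828, e3 q2894 (flp_c L30060) q2133, e3 q2895 L30082 q2895, e3 q2896 L30086 q2136, e3 q2897 L30108 q2897, e3 q2898 L30115 q2140, e3 q2899 L30126 q2141, e3 q2900 (flp_c L43309) q3842, e3 q2901 (flp_c L572512) q2519, e3 q2902 L572073 q2513, e3 q2903 (flp_c L30176) q2143, e3 q2904 (flp_c L43393) q3847, e3 q2905 (flp_c L40204) q3519, e3 q2906 L30209 q2145, e3 q2907 (flp_c L43440) q3852, e3 q2908 L30228 q2908, e3 q2909 L30239 q2909, e3 q2910 L432417 q2910, e3 q2911 L582992 q2512, e3 q2912 (flp_c L40263) q3525, e3 q2913 L30312 q2151, e3 q2914 (flp_c L43588) q3858, e3 q2915 (flp_c L40288) q3528, e3 q2916 (flp_c L40300) q3529, e3 q2917 L30352 q2917, e3 q2918 L30358 q2154,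 e3 q2919 (flp_c L43652) q3865, e3 q2920 L435882 q2920, e3 q2921 L585860 q2502, e3 q2922 (flp_c L40392) q3537, e3 q2923 L30487 q2923, e3 q2924 L30493 q2161, e3 q2925 (flp_c L43847) q3872, e3 q2926 (flp_c L40429) q3541, e3 q2927 L43881 q3876, e3 q2928 (flp_c L40442) q3543, e3 q2929 L30534 q2929, e3 q2930 L30541 q2930, e3 q2931 L30549 q2166, e3 q2932 (flp_c L43943) q3883, e3 q2933 (flp_c L585892) q2493, e3 q2934 (flp_c L40525) q3550, e3 q2935 L30644 q2207, e3 q2936 L30651 q2170, e3 q2937 (flp_c L44084) q3888, e3 q2938 (flp_c L40566) q3554, e3 q2939 L44119 q3892, e3 q2940 (flp_c L40583) q3556, e3 q2941 L30695 q2213, e3 q2942 L30705 q2214, e3 q2943 L30716 q2175, trivial⟩ (by decide +kernel)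

theorem ce_c_46 : ∀ r, r < 64 → sm gc (Qf (2944 + r)) = Qf (tab Gen.c (2944 + r)) :=
  edges_tab (sm gc) Qf (tab Gen.c) 2944 [(2944, 3900), (2945, 2503), (2946, 3902), (2947, 3565), (2948, 2220), (2949, 2180), (2950, 3907), (2951, 3908), (2952, 3571), (2953, 2182), (2954, 3912), (2955, 3913), (2956, 3575), (2957, 2230), (2958, 2231), (2959, 2232), (2960, 2233), (2961, 2187), (2962, 2511), (2963, 2189), (2964, 3924), (2965, 3588), (2966, 2241), (2967, 2242), (2968, 2193), (2969, 2194), (2970, 3931), (2971, 3932), (2972, 3597), (2973, 2197), (2974, 2198), (2975, 3937), (2976, 3938), (2977, 3939), (2978, 3930), (2979, 3604), (2980, 2255), (2981, 2256), (2982, 2257), (2983, 2258), (2984, 2259), (2985, 3610), (2986, 3955), (2987, 3612), (2988, 3887), (2989, 2419), (2990, 2209), (2991, 3963), (2992, 3964), (2993, 3618), (2994, 2211), (2995, 3967), (2996, 3968), (2997, 3622), (2998, 3896), (2999, 3897), (3000, 3898), (3001, 3899), (3002, 2216), (3003, 3974), (3004, 3629), (3005, 2218), (3006, 3977), (3007, 3978)]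
    ⟨e3 q2944 (flp_c L44194) q3900, e3 q2945 L585848 q2503, e3 q2946 L44330 q3902, e3 q2947 (flp_c L40696) q3565, e3 q2948 L30831 q2220, e3 q2949 L30850 q2180, e3 q2950 (flp_c L44406) q3907, e3 q2951 L44412 q3908, e3 q2952 (flp_c L40748) q3571, e3 q2953 (flp_c L30882) q2182, e3 q2954 (flp_c L44450) q3912, e3 q2955 (flp_c L44456) q3913, e3 q2956 (flp_c L40776) q3575, e3 q2957 L30914 q2230, e3 q2958 L30921 q2231, e3 q2959 L30931 q2232, e3 q2960 L30940 q2233, e3 q2961 L30950 q2187, e3 q2962 L570064 q2511, e3 q2963 (flp_c L31084) q2189, e3 q2964 (flp_c L44740) q3924, e3 q2965 (flp_c L40930) q3588, e3 q2966 L31118 q2241, e3 q2967 L31129 q2242, e3 q2968 L31158 q2193, e3 q2969 (flp_c L31164) q2194, e3 q2970 (flp_c L44856) q3931, e3 q2971 (flp_c L44863) q3932, e3 q2972 (flp_c L41005) q3597, e3 q2973 L31200 q2197, e3 q2974 L31207 q2198, e3 q2975 (flp_c L44916) q3937, e3 q2976 (flp_c L44924) q3938, e3 q2977 (flp_c L44930) q3939, e3 q2978 (flp_c L591064) q3930, e3 q2979 (flp_c L41055) q3604, e3 q2980 L31250 q2255, e3 q2981 L31259 q2256,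 e3 q2982 L31269 q2257, e3 q2983 L31278 q2258, e3 q2984 L31287 q2259, e3 q2985 (flp_c L41106) q3610, e3 q2986 L45076 q3955, e3 q2987 (flp_c L41127) q3612, e3 q2988 (flp_c L44062) q3887, e3 q2989 L589456 q2419, e3 q2990 L31348 q2209, e3 q2991 (flp_c L45155) q3963, e3 q2992 L45164 q3964, e3 q2993 (flp_c L41186) q3618, e3 q2994 (flp_c L31387) q2211, e3 q2995 (flp_c L45206) q3967, e3 q2996 (flp_c L45212) q3968, e3 q2997 (flp_c L41221) q3622, e3 q2998 (flp_c L44154) q3896, e3 q2999 (flp_c L44163) q3897, e3 q3000 (flp_c L44172) q3898, e3 q3001 (flp_c L44183) q3899, e3 q3002 L31458 q2216, e3 q3003 L45307 q3974, e3 q3004 (flp_c L41281) q3629, e3 q3005 (flp_c L31487) q2218, e3 q3006 (flp_c L45350) q3977, e3 q3007 (flp_c L45356) q3978, trivial⟩ (by decide +kernel)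

theorem ce_c_47 : ∀ r, r < 64 → sm gc (Qf (3008 + r)) = Qf (tab Gen.c (3008 + r)) :=
  edges_tab (sm gc) Qf (tab Gen.c) 3008 [(3008, 3633), (3009, 3905), (3010, 3906), (3011, 2435), (3012, 2427), (3013, 2223), (3014, 2224), (3015, 3988), (3016, 3642), (3017, 2227), (3018, 2228), (3019, 3992), (3020, 3993), (3021, 3994), (3022, 3649), (3023, 3919), (3024, 3920), (3025, 3921), (3026, 3922), (3027, 3923), (3028, 2235), (3029, 4002), (3030, 3658), (3031, 2238), (3032, 2239), (3033, 4006), (3034, 4007), (3035, 4008), (3036, 3665), (3037, 3928), (3038, 2453), (3039, 3929), (3040, 2454), (3041, 2444), (3042, 2247), (3043, 4020), (3044, 4021), (3045, 3678), (3046, 2251), (3047, 2252), (3048, 2253), (3049, 2315), (3050, 4025), (3051, 4026), (3052, 4027), (3053, 4028), (3054, 3946), (3055, 3947), (3056, 3948), (3057, 3950), (3058, 3951), (3059, 3952), (3060, 2261), (3061, 4037), (3062, 4038), (3063, 3476), (3064, 3698), (3065, 2266), (3066, 2267), (3067, 2268), (3068, 4044), (3069, 4045), (3070, 4046), (3071, 4047)]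
    ⟨e3 q3008 (flp_c L41314) q3633, e3 q3009 (flp_c L44366) q3905, e3 q3010 (flp_c L44375) q3906, e3 q3011 L598608 q2435, e3 q3012 (flp_c L589594) q2427, e3 q3013 L31559 q2223, e3 q3014 (flp_c L31567) q2224, e3 q3015 (flp_c L45461) q3988, e3 q3016 (flp_c L41391) q3642, e3 q3017 L31606 q2227, e3 q3018 L31610 q2228, e3 q3019 (flp_c L45524) q3992, e3 q3020 (flp_c L45529) q3993, e3 q3021 (flp_c L45535) q3994, e3 q3022 (flp_c L41443) q3649, e3 q3023 (flp_c L44500) q3919, e3 q3024 (flp_c L44508) q3920, e3 q3025 (flp_c L44517) q3921, e3 q3026 (flp_c L44527) q3922, e3 q3027 (flp_c L44538) q3923, e3 q3028 (flp_c L31695) q2235, e3 q3029 (flp_c L45662) q4002, e3 q3030 (flp_c L41515) q3658, e3 q3031 L31736 q2238, e3 q3032 L31743 q2239, e3 q3033 (flp_c L45732) q4006, e3 q3034 (flp_c L45740) q4007, e3 q3035 (flp_c L45746) q4008, e3 q3036 (flp_c L41573) q3665, e3 q3037 (flp_c L44797) q3928, e3 q3038 L589668 q2453, e3 q3039 (flp_c L44818) q3929, e3 q3040 (flp_c L589641) q2454, e3 q3041 L589631 q2444, e3 q3042 L31846 q2247, e3 q3043 (flp_c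 L45890) q4020, e3 q3044 (flp_c L45898) q4021, e3 q3045 (flp_c L41679) q3678, e3 q3046 L31909 q2251, e3 q3047 L31915 q2252, e3 q3048 L31919 q2253, e3 q3049 L31927 q2315, e3 q3050 (flp_c L45983) q4025, e3 q3051 (flp_c L45989) q4026, e3 q3052 (flp_c L45997) q4027, e3 q3053 (flp_c L46002) q4028, e3 q3054 (flp_c L44990) q3946, e3 q3055 (flp_c L44998) q3947, e3 q3056 (flp_c L45008) q3948, e3 q3057 (flp_c L45027) q3950, e3 q3058 (flp_c L45037) q3951, e3 q3059 (flp_c L45047) q3952, e3 q3060 L32041 q2261, e3 q3061 (flp_c L46153) q4037, e3 q3062 (flp_c L46163) q4038, e3 q3063 L579577 q3476, e3 q3064 (flp_c L41875) q3698, e3 q3065 L32102 q2266, e3 q3066 L32111 q2267, e3 q3067 L32119 q2268, e3 q3068 (flp_c L46240) q4044, e3 q3069 (flp_c L46249) q4045, e3 q3070 (flp_c L46259) q4046, e3 q3071 (flp_c L46268) q4047, trivial⟩ (by decide +kernel)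

theorem ce_c_48 : ∀ r, r < 64 → sm gc (Qf (3072 + r)) = Qf (tab Gen.c (3072 + r)) :=
  edges_tab (sm gc) Qf (tab Gen.c) 3072 [(3072, 3072), (3073, 3073), (3074, 3074), (3075, 4057), (3076, 3076), (3077, 2482), (3078, 2276), (3079, 2277), (3080, 4061), (3081, 4062), (3082, 4024), (3083, 2281), (3084, 2282), (3085, 4067), (3086, 4068), (3087, 3087), (3088, 2285), (3089, 4070), (3090, 3741), (3091, 2288), (3092, 2289), (3093, 4074), (3094, 4075), (3095, 4076), (3096, 3748), (3097, 3097), (3098, 3098), (3099, 3099), (3100, 3100), (3101, 3101), (3102, 2297), (3103, 4084), (3104, 4085), (3105, 3760), (3106, 2301), (3107, 2302), (3108, 2303), (3109, 3995), (3110, 4089), (3111, 4090), (3112, 4091), (3113, 4092), (3114, 3114), (3115, 3115), (3116, 3866), (3117, 3117), (3118, 3118), (3119, 3119), (3120, 2311), (3121, 4102), (3122, 2316), (3123, 2317), (3124, 4029), (3125, 4030), (3126, 4103), (3127, 3127), (3128, 2321), (3129, 4107), (3130, 4108), (3131, 2325), (3132, 2326), (3133, 2327), (3134, 3134), (3135, 4111)]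
    ⟨e3 q3072 L32172 q3072, e3 q3073 L32181 q3073, e3 q3074 L32191 q3074, e3 q3075 L46373 q4057, e3 q3076 L32209 q3076, e3 q3077 L32221 q2482, e3 q3078 L32229 q2276, e3 q3079 L32238 q2277, e3 q3080 (flp_c L46411) q4061, e3 q3081 (flp_c L46420) q4062, e3 q3082 (flp_c L45979) q4024, e3 q3083 L32270 q2281, e3 q3084 L32278 q2282, e3 q3085 (flp_c L46458) q4067, e3 q3086 (flp_c L46466) q4068, e3 q3087 L32302 q3087, e3 q3088 (flp_c L32307) q2285, e3 q3089 (flp_c L46504) q4070, e3 q3090 (flp_c L42321) q3741, e3 q3091 L32351 q2288, e3 q3092 L32359 q2289, e3 q3093 (flp_c L46578) q4074, e3 q3094 (flp_c L46588) q4075, e3 q3095 (flp_c L46595) q4076, e3 q3096 (flp_c L42383) q3748, e3 q3097 L32415 q3097, e3 q3098 L32424 q3098, e3 q3099 L32435 q3099, e3 q3100 L32446 q3100, e3 q3101 L32454 q3101, e3 q3102 L32474 q2297, e3 q3103 (flp_c L46755) q4084, e3 q3104 (flp_c L46764) q4085, e3 q3105 (flp_c L42500) q3760, e3 q3106 L32540 q2301, e3 q3107 L32548 q2302, e3 q3108 L32556 q2303, e3 q3109 (flp_c L45543) q3995, e3 q3110 (flp_c L46855) q4089,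 e3 q3111 (flp_c L46864) q4090, e3 q3112 (flp_c L46873) q4091, e3 q3113 (flp_c L46881) q4092, e3 q3114 L32620 q3114, e3 q3115 L32630 q3115, e3 q3116 (flp_c L627189) q3866, e3 q3117 L32647 q3117, e3 q3118 L32657 q3118, e3 q3119 L32666 q3119, e3 q3120 L32696 q2311, e3 q3121 (flp_c L47061) q4102, e3 q3122 L32759 q2316, e3 q3123 L32767 q2317, e3 q3124 (flp_c L46011) q4029, e3 q3125 (flp_c L46022) q4030, e3 q3126 (flp_c L47130) q4103, e3 q3127 L32820 q3127, e3 q3128 L32840 q2321, e3 q3129 (flp_c L47216) q4107, e3 q3130 (flp_c L47225) q4108, e3 q3131 L32901 q2325, e3 q3132 L32909 q2326, e3 q3133 L32918 q2327, e3 q3134 L32930 q3134, e3 q3135 (flp_c L47315) q4111, trivial⟩ (by decide +kernel)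

theorem ce_c_49 : ∀ r, r < 64 → sm gc (Qf (3136 + r)) = Qf (tab Gen.c (3136 + r)) :=
  edges_tab (sm gc) Qf (tab Gen.c) 3136 [(3136, 4112), (3137, 4113), (3138, 3138), (3139, 3139), (3140, 3853), (3141, 3141), (3142, 3142), (3143, 2333), (3144, 3144), (3145, 2337), (3146, 3146), (3147, 3147), (3148, 4126), (3149, 2338), (3150, 4128), (3151, 3151), (3152, 4131), (3153, 3153), (3154, 3154), (3155, 3155), (3156, 3156), (3157, 2345), (3158, 2520), (3159, 3159), (3160, 2514), (3161, 2349), (3162, 4141), (3163, 3163), (3164, 3164), (3165, 2352), (3166, 2517), (3167, 2353), (3168, 4143), (3169, 3169), (3170, 2495), (3171, 3171), (3172, 2359), (3173, 4147), (3174, 4142), (3175, 3175), (3176, 3176), (3177, 3177), (3178, 2363), (3179, 2509), (3180, 2365), (3181, 3181), (3182, 2505), (3183, 3183), (3184, 2370), (3185, 4155), (3186, 2371), (3187, 4148), (3188, 4156), (3189, 3189), (3190, 3190), (3191, 3191), (3192, 3192), (3193, 2376), (3194, 2496), (3195, 2415), (3196, 2380), (3197, 4157), (3198, 2381), (3199, 4162)]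
    ⟨e3 q3136 (flp_c L47324) q4112, e3 q3137 (flp_c L47333) q4113, e3 q3138 L32981 q3138, e3 q3139 L32990 q3139, e3 q3140 (flp_c L627156) q3853, e3 q3141 L33008 q3141, e3 q3142 L33018 q3142, e3 q3143 L33048 q2333, e3 q3144 L33103 q3144, e3 q3145 L33108 q2337, e3 q3146 L33119 q3146, e3 q3147 L33133 q3147, e3 q3148 L47630 q4126, e3 q3149 (flp_c L33160) q2338, e3 q3150 (flp_c L47653) q4128, e3 q3151 L33213 q3151, e3 q3152 L47738 q4131, e3 q3153 L33246 q3153, e3 q3154 L33275 q3154, e3 q3155 L33282 q3155, e3 q3156 L33290 q3156, e3 q3157 L33299 q2345, e3 q3158 L557432 q2520, e3 q3159 L432332 q3159, e3 q3160 (flp_c L597657) q2514, e3 q3161 L33371 q2349, e3 q3162 (flp_c L47968) q4141, e3 q3163 L33399 q3163, e3 q3164 L33409 q3164, e3 q3165 L33413 q2352, e3 q3166 (flp_c L627147) q2517, e3 q3167 (flp_c L33426) q2353, e3 q3168 (flp_c L48043) q4143, e3 q3169 L437615 q3169, e3 q3170 (flp_c L598000) q2495, e3 q3171 L33586 q3171, e3 q3172 L33590 q2359, e3 q3173 (flp_c L48280) q4147, e3 q3174 L627126 q4142, e3 q3175 L33625 q3175, e3 q3176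 L33633 q3176, e3 q3177 L33640 q3177, e3 q3178 L33647 q2363, e3 q3179 (flp_c L627179) q2509, e3 q3180 L33665 q2365, e3 q3181 L402663 q3181, e3 q3182 (flp_c L597955) q2505, e3 q3183 L33860 q3183, e3 q3184 L33872 q2370, e3 q3185 (flp_c L48715) q4155, e3 q3186 (flp_c L33902) q2371, e3 q3187 L627210 q4148, e3 q3188 (flp_c L48760) q4156, e3 q3189 L33925 q3189, e3 q3190 L33932 q3190, e3 q3191 L33938 q3191, e3 q3192 L33944 q3192, e3 q3193 L33956 q2376, e3 q3194 L585928 q2496, e3 q3195 L34082 q2415, e3 q3196 L34100 q2380, e3 q3197 L627206 q4157, e3 q3198 (flp_c L34131) q2381, e3 q3199 (flp_c L49105) q4162, trivial⟩ (by decide +kernel)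

theorem ce_c_50 : ∀ r, r < 64 → sm gc (Qf (3200 + r)) = Qf (tab Gen.c (3200 + r)) :=
  edges_tab (sm gc) Qf (tab Gen.c) 3200 [(3200, 2413), (3201, 3201), (3202, 2423), (3203, 2424), (3204, 2425), (3205, 2386), (3206, 2506), (3207, 2431), (3208, 2432), (3209, 2390), (3210, 2392), (3211, 4166), (3212, 4167), (3213, 2429), (3214, 3214), (3215, 2440), (3216, 2441), (3217, 2442), (3218, 2443), (3219, 2449), (3220, 2451), (3221, 2404), (3222, 2405), (3223, 4173), (3224, 2446), (3225, 4174), (3226, 2447), (3227, 2458), (3228, 2459), (3229, 2460), (3230, 3230), (3231, 2461), (3232, 3962), (3233, 3233), (3234, 4163), (3235, 3235), (3236, 4160), (3237, 4161), (3238, 2421), (3239, 2418), (3240, 3961), (3241, 3241), (3242, 4181), (3243, 4180), (3244, 3244), (3245, 3987), (3246, 3246), (3247, 4168), (3248, 4169), (3249, 3249), (3250, 4164), (3251, 2437), (3252, 4165), (3253, 2438), (3254, 3984), (3255, 3986), (3256, 3256), (3257, 4190), (3258, 4189), (3259, 4017), (3260, 4019), (3261, 3261), (3262, 4175), (3263, 4177)]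
    ⟨e3 q3200 (flp_c L587231) q2413, e3 q3201 L34161 q3201, e3 q3202 L34166 q2423, e3 q3203 L34173 q2424, e3 q3204 L34180 q2425, e3 q3205 L34198 q2386, e3 q3206 L583432 q2506, e3 q3207 L34375 q2431, e3 q3208 L34382 q2432, e3 q3209 L34407 q2390, e3 q3210 L34447 q2392, e3 q3211 (flp_c L49580) q4166, e3 q3212 (flp_c L49587) q4167, e3 q3213 (flp_c L600532) q2429, e3 q3214 L34491 q3214, e3 q3215 L34497 q2440, e3 q3216 L34503 q2441, e3 q3217 L34510 q2442, e3 q3218 L34518 q2443, e3 q3219 L34802 q2449, e3 q3220 L34819 q2451, e3 q3221 L34904 q2404, e3 q3222 L34912 q2405, e3 q3223 (flp_c L50282) q4173, e3 q3224 (flp_c L587607) q2446, e3 q3225 (flp_c L50300) q4174, e3 q3226 L600502 q2447, e3 q3227 L34978 q2458, e3 q3228 L34984 q2459, e3 q3229 L34992 q2460, e3 q3230 L35002 q3230, e3 q3231 L35015 q2461, e3 q3232 (flp_c L589426) q3962, e3 q3233 L35042 q3233, e3 q3234 (flp_c L600653) q4163, e3 q3235 L35081 q3235, e3 q3236 (flp_c L49025) q4160, e3 q3237 (flp_c L49034) q4161, e3 q3238 (flp_c L600603) q2421, e3 q3239 L35120 q2418, e3 q3240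 L589446 q3961, e3 q3241 L35160 q3241, e3 q3242 (flp_c L626244) q4181, e3 q3243 (flp_c L626255) q4180, e3 q3244 L35219 q3244, e3 q3245 (flp_c L601142) q3987, e3 q3246 L35290 q3246, e3 q3247 (flp_c L600910) q4168, e3 q3248 L600510 q4169, e3 q3249 L35350 q3249, e3 q3250 (flp_c L49477) q4164, e3 q3251 (flp_c L599267) q2437, e3 q3252 (flp_c L49492) q4165, e3 q3253 (flp_c L600474) q2438, e3 q3254 (flp_c L588911) q3984, e3 q3255 (flp_c L598584) q3986, e3 q3256 L35448 q3256, e3 q3257 (flp_c L626538) q4190, e3 q3258 L626577 q4189, e3 q3259 L589809 q4017, e3 q3260 L589815 q4019, e3 q3261 L35634 q3261, e3 q3262 L587581 q4175, e3 q3263 L600387 q4177, trivial⟩ (by decide +kernel)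

theorem ce_c_51 : ∀ r, r < 64 → sm gc (Qf (3264 + r)) = Qf (tab Gen.c (3264 + r)) :=
  edges_tab (sm gc) Qf (tab Gen.c) 3264 [(3264, 4170), (3265, 4171), (3266, 2456), (3267, 2487), (3268, 2457), (3269, 4015), (3270, 4018), (3271, 4196), (3272, 4195), (3273, 3480), (3274, 2465), (3275, 2466), (3276, 2467), (3277, 4203), (3278, 4204), (3279, 4205), (3280, 4206), (3281, 4176), (3282, 2473), (3283, 2474), (3284, 2475), (3285, 2476), (3286, 3286), (3287, 4213), (3288, 4214), (3289, 4215), (3290, 3290), (3291, 4216), (3292, 3292), (3293, 3293), (3294, 3294), (3295, 4221), (3296, 2480), (3297, 4058), (3298, 4059), (3299, 4016), (3300, 2485), (3301, 2486), (3302, 4226), (3303, 4227), (3304, 4197), (3305, 2490), (3306, 2491), (3307, 4212), (3308, 3855), (3309, 3884), (3310, 3310), (3311, 4145), (3312, 4159), (3313, 3868), (3314, 3901), (3315, 4152), (3316, 3845), (3317, 4139), (3318, 3843), (3319, 4233), (3320, 2522), (3321, 3321), (3322, 3322), (3323, 4237), (3324, 2527), (3325, 4240), (3326, 4242), (3327, 2529)]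
    ⟨e3 q3264 (flp_c L50124) q4170, e3 q3265 (flp_c L50132) q4171, e3 q3266 L541989 q2456, e3 q3267 L560713 q2487, e3 q3268 (flp_c L600350) q2457, e3 q3269 L589866 q4015, e3 q3270 (flp_c L598411) q4018, e3 q3271 (flp_c L626549) q4196, e3 q3272 L626584 q4195, e3 q3273 (flp_c L563364) q3480, e3 q3274 L36032 q2465, e3 q3275 L36042 q2466, e3 q3276 L36052 q2467, e3 q3277 (flp_c L51947) q4203, e3 q3278 (flp_c L51957) q4204, e3 q3279 (flp_c L51968) q4205, e3 q3280 (flp_c L51979) q4206, e3 q3281 (flp_c L545476) q4176, e3 q3282 L36114 q2473, e3 q3283 L36123 q2474, e3 q3284 L36133 q2475, e3 q3285 L36143 q2476, e3 q3286 L36156 q3286, e3 q3287 (flp_c L52066) q4213, e3 q3288 (flp_c L52075) q4214, e3 q3289 (flp_c L52085) q4215, e3 q3290 L416291 q3290, e3 q3291 (flp_c L52101) q4216, e3 q3292 L36213 q3292, e3 q3293 L36221 q3293, e3 q3294 L36229 q3294, e3 q3295 L52204 q4221, e3 q3296 (flp_c L36242) q2480, e3 q3297 (flp_c L46387) q4058, e3 q3298 (flp_c L46397) q4059, e3 q3299 L560718 q4016, e3 q3300 L36276 q2485, e3 q3301 L36285 q2486, e3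 q3302 (flp_c L52262) q4226, e3 q3303 (flp_c L52271) q4227, e3 q3304 L560783 q4197, e3 q3305 L36322 q2490, e3 q3306 L36330 q2491, e3 q3307 L624235 q4212, e3 q3308 (flp_c L585888) q3855, e3 q3309 L585913 q3884, e3 q3310 L36422 q3310, e3 q3311 (flp_c L466060) q4145, e3 q3312 (flp_c L585958) q4159, e3 q3313 L585719 q3868, e3 q3314 (flp_c L585934) q3901, e3 q3315 (flp_c L585752) q4152, e3 q3316 (flp_c L583004) q3845, e3 q3317 (flp_c L583787) q4139, e3 q3318 L495638 q3843, e3 q3319 L54464 q4233, e3 q3320 (flp_c L37893) q2522, e3 q3321 L38304 q3321, e3 q3322 L38315 q3322, e3 q3323 L55058 q4237, e3 q3324 (flp_c L38331) q2527, e3 q3325 (flp_c L55088) q4240, e3 q3326 L55102 q4242, e3 q3327 (flp_c L38359) q2529, trivial⟩ (by decide +kernel)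

theorem ce_c_52 : ∀ r, r < 64 → sm gc (Qf (3328 + r)) = Qf (tab Gen.c (3328 + r)) :=
  edges_tab (sm gc) Qf (tab Gen.c) 3328 [(3328, 4245), (3329, 3329), (3330, 2531), (3331, 4250), (3332, 3332), (3333, 2533), (3334, 4255), (3335, 3335), (3336, 3336), (3337, 3337), (3338, 2536), (3339, 4262), (3340, 3340), (3341, 4266), (3342, 3342), (3343, 3343), (3344, 3344), (3345, 2541), (3346, 4274), (3347, 4275), (3348, 2543), (3349, 4278), (3350, 2544), (3351, 4281), (3352, 3352), (3353, 2546), (3354, 4286), (3355, 3355), (3356, 2548), (3357, 4290), (3358, 3358), (3359, 3359), (3360, 3360), (3361, 2551), (3362, 4297), (3363, 3363), (3364, 2553), (3365, 4301), (3366, 3366), (3367, 3367), (3368, 2583), (3369, 2556), (3370, 4308), (3371, 3371), (3372, 2591), (3373, 2559), (3374, 4314), (3375, 3375), (3376, 4318), (3377, 3377), (3378, 2597), (3379, 2598), (3380, 2564), (3381, 4326), (3382, 4327), (3383, 3383), (3384, 2609), (3385, 2610), (3386, 2568), (3387, 4335), (3388, 4336), (3389, 3389), (3390, 2570), (3391, 4340)]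
    ⟨e3 q3328 (flp_c L55137) q4245, e3 q3329 L38388 q3329, e3 q3330 L38392 q2531, e3 q3331 (flp_c L55184) q4250, e3 q3332 L38416 q3332, e3 q3333 L38420 q2533, e3 q3334 (flp_c L55235) q4255, e3 q3335 L38440 q3335, e3 q3336 L38452 q3336, e3 q3337 L38464 q3337, e3 q3338 L38469 q2536, e3 q3339 (flp_c L55297) q4262, e3 q3340 L38489 q3340, e3 q3341 L55333 q4266, e3 q3342 L38505 q3342, e3 q3343 L38514 q3343, e3 q3344 L38522 q3344, e3 q3345 L38530 q2541, e3 q3346 (flp_c L55401) q4274, e3 q3347 L55408 q4275, e3 q3348 (flp_c L38557) q2543, e3 q3349 (flp_c L55443) q4278, e3 q3350 (flp_c L38574) q2544, e3 q3351 (flp_c L55470) q4281, e3 q3352 L38604 q3352, e3 q3353 L38608 q2546, e3 q3354 (flp_c L55517) q4286, e3 q3355 L38631 q3355, e3 q3356 L38635 q2548, e3 q3357 (flp_c L55563) q4290, e3 q3358 L38653 q3358, e3 q3359 L38664 q3359, e3 q3360 L38670 q3360, e3 q3361 L38676 q2551, e3 q3362 (flp_c L55618) q4297, e3 q3363 L38698 q3363, e3 q3364 L38702 q2553, e3 q3365 (flp_c L55669) q4301, e3 q3366 L38723 q3366, e3 q3367 L38734 q3367, e3 q3368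 L38744 q2583, e3 q3369 L38751 q2556, e3 q3370 (flp_c L55733) q4308, e3 q3371 L38777 q3371, e3 q3372 L38790 q2591, e3 q3373 L38797 q2559, e3 q3374 (flp_c L55796) q4314, e3 q3375 L38818 q3375, e3 q3376 L55829 q4318, e3 q3377 L38833 q3377, e3 q3378 L38837 q2597, e3 q3379 L38844 q2598, e3 q3380 L38853 q2564, e3 q3381 (flp_c L55894) q4326, e3 q3382 L55919 q4327, e3 q3383 L38888 q3383, e3 q3384 L38897 q2609, e3 q3385 L38907 q2610, e3 q3386 L38916 q2568, e3 q3387 (flp_c L55998) q4335, e3 q3388 L56005 q4336, e3 q3389 L38946 q3389, e3 q3390 (flp_c L38949) q2570, e3 q3391 (flp_c L56040) q4340, trivial⟩ (by decide +kernel)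

theorem ce_c_53 : ∀ r, r < 64 → sm gc (Qf (3392 + r)) = Qf (tab Gen.c (3392 + r)) :=
  edges_tab (sm gc) Qf (tab Gen.c) 3392 [(3392, 4341), (3393, 3393), (3394, 2619), (3395, 2620), (3396, 2621), (3397, 2622), (3398, 2575), (3399, 3399), (3400, 2577), (3401, 4355), (3402, 3402), (3403, 3403), (3404, 4300), (3405, 2580), (3406, 4362), (3407, 3407), (3408, 4366), (3409, 3409), (3410, 4306), (3411, 4307), (3412, 2585), (3413, 4374), (3414, 3414), (3415, 3415), (3416, 3416), (3417, 2588), (3418, 4380), (3419, 3419), (3420, 4384), (3421, 3421), (3422, 4312), (3423, 4313), (3424, 2593), (3425, 4392), (3426, 4393), (3427, 3427), (3428, 2595), (3429, 4397), (3430, 4398), (3431, 3431), (3432, 4322), (3433, 4323), (3434, 4324), (3435, 4325), (3436, 2600), (3437, 3437), (3438, 4411), (3439, 3439), (3440, 3440), (3441, 3441), (3442, 2605), (3443, 4419), (3444, 4420), (3445, 3445), (3446, 2607), (3447, 4424), (3448, 4425), (3449, 3449), (3450, 4331), (3451, 4332), (3452, 4333), (3453, 4334), (3454, 2612), (3455, 2613)]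
    ⟨e3 q3392 (flp_c L56048) q4341, e3 q3393 L38975 q3393, e3 q3394 L38980 q2619, e3 q3395 L38989 q2620, e3 q3396 L38996 q2621, e3 q3397 L39004 q2622, e3 q3398 L39012 q2575, e3 q3399 L39026 q3399, e3 q3400 L39030 q2577, e3 q3401 (flp_c L56164) q4355, e3 q3402 L39051 q3402, e3 q3403 L39065 q3403, e3 q3404 (flp_c L55662) q4300, e3 q3405 L39084 q2580, e3 q3406 (flp_c L56234) q4362, e3 q3407 L39104 q3407, e3 q3408 L56270 q4366, e3 q3409 L39122 q3409, e3 q3410 (flp_c L55714) q4306, e3 q3411 (flp_c L55723) q4307, e3 q3412 L39146 q2585, e3 q3413 (flp_c L56338) q4374, e3 q3414 L39162 q3414, e3 q3415 L39175 q3415, e3 q3416 L39187 q3416, e3 q3417 L39192 q2588, e3 q3418 (flp_c L56392) q4380, e3 q3419 L39214 q3419, e3 q3420 L56431 q4384, e3 q3421 L39233 q3421, e3 q3422 (flp_c L55777) q4312, e3 q3423 (flp_c L55786) q4313, e3 q3424 L39254 q2593, e3 q3425 (flp_c L56500) q4392, e3 q3426 L56507 q4393, e3 q3427 L39284 q3427, e3 q3428 (flp_c L39287) q2595, e3 q3429 (flp_c L56545) q4397, e3 q3430 (flp_c L56550) q4398, e3 q3431 L39313 q3431,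 e3 q3432 (flp_c L55862) q4322, e3 q3433 (flp_c L55869) q4323, e3 q3434 (flp_c L55878) q4324, e3 q3435 (flp_c L55885) q4325, e3 q3436 L39348 q2600, e3 q3437 L39359 q3437, e3 q3438 L56650 q4411, e3 q3439 L39375 q3439, e3 q3440 L39385 q3440, e3 q3441 L39393 q3441, e3 q3442 L39401 q2605, e3 q3443 (flp_c L56720) q4419, e3 q3444 L56728 q4420, e3 q3445 L39434 q3445, e3 q3446 (flp_c L39440) q2607, e3 q3447 (flp_c L56768) q4424, e3 q3448 (flp_c L56776) q4425, e3 q3449 L39468 q3449, e3 q3450 (flp_c L55958) q4331, e3 q3451 (flp_c L55969) q4332, e3 q3452 (flp_c L55978) q4333, e3 q3453 (flp_c L55987) q4334, e3 q3454 L39507 q2612, e3 q3455 (flp_c L39514) q2613, trivial⟩ (by decide +kernel)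

theorem ce_c_54 : ∀ r, r < 64 → sm gc (Qf (3456 + r)) = Qf (tab Gen.c (3456 + r)) :=
  edges_tab (sm gc) Qf (tab Gen.c) 3456 [(3456, 4437), (3457, 4438), (3458, 3458), (3459, 2616), (3460, 2617), (3461, 4444), (3462, 4445), (3463, 4446), (3464, 4448), (3465, 3465), (3466, 4347), (3467, 4348), (3468, 4349), (3469, 4350), (3470, 4351), (3471, 3471), (3472, 2632), (3473, 2628), (3474, 4464), (3475, 3475), (3476, 3063), (3477, 3477), (3478, 4462), (3479, 4463), (3480, 3273), (3481, 2635), (3482, 2792), (3483, 3483), (3484, 2639), (3485, 4476), (3486, 4477), (3487, 2787), (3488, 3488), (3489, 3489), (3490, 3490), (3491, 3491), (3492, 3492), (3493, 3493), (3494, 2648), (3495, 4489), (3496, 4490), (3497, 2811), (3498, 3498), (3499, 2653), (3500, 2654), (3501, 2655), (3502, 4496), (3503, 4497), (3504, 4498), (3505, 4499), (3506, 2802), (3507, 3507), (3508, 3508), (3509, 3509), (3510, 4512), (3511, 3511), (3512, 3512), (3513, 3513), (3514, 3514), (3515, 3515), (3516, 4517), (3517, 2666), (3518, 4520), (3519, 2905)]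
    ⟨e3 q3456 (flp_c L56875) q4437, e3 q3457 (flp_c L56883) q4438, e3 q3458 L39544 q3458, e3 q3459 L39550 q2616, e3 q3460 L39556 q2617, e3 q3461 (flp_c L56935) q4444, e3 q3462 (flp_c L56942) q4445, e3 q3463 (flp_c L56947) q4446, e3 q3464 (flp_c L56959) q4448, e3 q3465 L39596 q3465, e3 q3466 (flp_c L56091) q4347, e3 q3467 (flp_c L56099) q4348, e3 q3468 (flp_c L56109) q4349, e3 q3469 (flp_c L56117) q4350, e3 q3470 (flp_c L56124) q4351, e3 q3471 L39657 q3471, e3 q3472 L39665 q2632, e3 q3473 L39683 q2628, e3 q3474 (flp_c L57148) q4464, e3 q3475 L39714 q3475, e3 q3476 (flp_c L579577) q3063, e3 q3477 L39747 q3477, e3 q3478 (flp_c L57111) q4462, e3 q3479 (flp_c L57120) q4463, e3 q3480 L563364 q3273, e3 q3481 L39785 q2635, e3 q3482 (flp_c L563491) q2792, e3 q3483 L39827 q3483, e3 q3484 L39834 q2639, e3 q3485 (flp_c L57372) q4476, e3 q3486 (flp_c L57382) q4477, e3 q3487 L563372 q2787, e3 q3488 L39888 q3488, e3 q3489 L39896 q3489, e3 q3490 L39904 q3490, e3 q3491 L39913 q3491, e3 q3492 L39923 q3492, e3 q3493 L39930 q3493, e3 q3494 L39949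 q2648, e3 q3495 (flp_c L57538) q4489, e3 q3496 (flp_c L57547) q4490, e3 q3497 (flp_c L562730) q2811, e3 q3498 L40003 q3498, e3 q3499 L40010 q2653, e3 q3500 L40018 q2654, e3 q3501 L40025 q2655, e3 q3502 (flp_c L57633) q4496, e3 q3503 (flp_c L57640) q4497, e3 q3504 (flp_c L57650) q4498, e3 q3505 (flp_c L57658) q4499, e3 q3506 (flp_c L545956) q2802, e3 q3507 L40089 q3507, e3 q3508 L40096 q3508, e3 q3509 L40103 q3509, e3 q3510 L57783 q4512, e3 q3511 L40118 q3511, e3 q3512 L40127 q3512, e3 q3513 L40136 q3513, e3 q3514 L40146 q3514, e3 q3515 L40158 q3515, e3 q3516 L57831 q4517, e3 q3517 (flp_c L40177) q2666, e3 q3518 (flp_c L57866) q4520, e3 q3519 L40204 q2905, trivial⟩ (by decide +kernel)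

theorem ce_c_55 : ∀ r, r < 64 → sm gc (Qf (3520 + r)) = Qf (tab Gen.c (3520 + r)) :=
  edges_tab (sm gc) Qf (tab Gen.c) 3520 [(3520, 2668), (3521, 4525), (3522, 4527), (3523, 2670), (3524, 4529), (3525, 2912), (3526, 2672), (3527, 4533), (3528, 2915), (3529, 2916), (3530, 3530), (3531, 2675), (3532, 4540), (3533, 2676), (3534, 4542), (3535, 2678), (3536, 4545), (3537, 2922), (3538, 3538), (3539, 2681), (3540, 4551), (3541, 2926), (3542, 4555), (3543, 2928), (3544, 3544), (3545, 3545), (3546, 2686), (3547, 4563), (3548, 2688), (3549, 4565), (3550, 2934), (3551, 2732), (3552, 2691), (3553, 4571), (3554, 2938), (3555, 4575), (3556, 2940), (3557, 2738), (3558, 2739), (3559, 2696), (3560, 4583), (3561, 3561), (3562, 2698), (3563, 4586), (3564, 4588), (3565, 2947), (3566, 2745), (3567, 2746), (3568, 2702), (3569, 4596), (3570, 4597), (3571, 2952), (3572, 2704), (3573, 4601), (3574, 4602), (3575, 2956), (3576, 2755), (3577, 2756), (3578, 2757), (3579, 2758), (3580, 2709), (3581, 3581), (3582, 3582), (3583, 2712)]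
    ⟨e3 q3520 L40209 q2668, e3 q3521 (flp_c L57913) q4525, e3 q3522 L57928 q4527, e3 q3523 (flp_c L40234) q2670, e3 q3524 (flp_c L57963) q4529, e3 q3525 L40263 q2912, e3 q3526 L40268 q2672, e3 q3527 (flp_c L58014) q4533, e3 q3528 L40288 q2915, e3 q3529 L40300 q2916, e3 q3530 L40310 q3530, e3 q3531 L40314 q2675, e3 q3532 (flp_c L58077) q4540, e3 q3533 (flp_c L40330) q2676, e3 q3534 (flp_c L58105) q4542, e3 q3535 L40362 q2678, e3 q3536 (flp_c L58151) q4545, e3 q3537 L40392 q2922, e3 q3538 L40403 q3538, e3 q3539 L40407 q2681, e3 q3540 (flp_c L58212) q4551, e3 q3541 L40429 q2926, e3 q3542 L58246 q4555, e3 q3543 L40442 q2928, e3 q3544 L40450 q3544, e3 q3545 L40456 q3545, e3 q3546 L40462 q2686, e3 q3547 (flp_c L58303) q4563, e3 q3548 L40492 q2688, e3 q3549 (flp_c L58345) q4565, e3 q3550 L40525 q2934, e3 q3551 L40540 q2732, e3 q3552 L40545 q2691, e3 q3553 (flp_c L58415) q4571, e3 q3554 L40566 q2938, e3 q3555 L58450 q4575, e3 q3556 L40583 q2940, e3 q3557 L40591 q2738, e3 q3558 L40600 q2739, e3 q3559 L40609 q2696, e3 q3560 (flp_c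 L58520) q4583, e3 q3561 L40652 q3561, e3 q3562 L40657 q2698, e3 q3563 (flp_c L58574) q4586, e3 q3564 L58610 q4588, e3 q3565 L40696 q2947, e3 q3566 L40703 q2745, e3 q3567 L40712 q2746, e3 q3568 L40719 q2702, e3 q3569 (flp_c L58681) q4596, e3 q3570 L58687 q4597, e3 q3571 L40748 q2952, e3 q3572 (flp_c L40751) q2704, e3 q3573 (flp_c L58724) q4601, e3 q3574 (flp_c L58732) q4602, e3 q3575 L40776 q2956, e3 q3576 L40784 q2755, e3 q3577 L40789 q2756, e3 q3578 L40798 q2757, e3 q3579 L40806 q2758, e3 q3580 L40814 q2709, e3 q3581 L40851 q3581, e3 q3582 L40859 q3582, e3 q3583 L40867 q2712, trivial⟩ (by decide +kernel)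

theorem ce_c_56 : ∀ r, r < 64 → sm gc (Qf (3584 + r)) = Qf (tab Gen.c (3584 + r)) :=
  edges_tab (sm gc) Qf (tab Gen.c) 3584 [(3584, 4617), (3585, 2713), (3586, 4618), (3587, 4619), (3588, 2965), (3589, 2766), (3590, 2767), (3591, 2768), (3592, 2769), (3593, 2718), (3594, 2719), (3595, 4631), (3596, 4632), (3597, 2972), (3598, 2722), (3599, 2723), (3600, 4638), (3601, 4639), (3602, 4640), (3603, 4642), (3604, 2979), (3605, 2782), (3606, 2783), (3607, 2784), (3608, 2785), (3609, 2786), (3610, 2985), (3611, 4657), (3612, 2987), (3613, 4569), (3614, 4570), (3615, 2734), (3616, 4665), (3617, 4666), (3618, 2993), (3619, 2736), (3620, 4670), (3621, 4671), (3622, 2997), (3623, 4579), (3624, 4580), (3625, 4581), (3626, 4582), (3627, 2741), (3628, 4682), (3629, 3004), (3630, 2743), (3631, 4686), (3632, 4687), (3633, 3008), (3634, 4592), (3635, 4593), (3636, 4594), (3637, 4595), (3638, 2748), (3639, 2749), (3640, 4699), (3641, 4700), (3642, 3016), (3643, 2752), (3644, 2753), (3645, 4706), (3646, 4707), (3647, 4708)]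
    ⟨e3 q3584 (flp_c L58902) q4617, e3 q3585 (flp_c L40903) q2713, e3 q3586 (flp_c L58948) q4618, e3 q3587 (flp_c L58959) q4619, e3 q3588 L40930 q2965, e3 q3589 L40938 q2766, e3 q3590 L40947 q2767, e3 q3591 L40956 q2768, e3 q3592 L40964 q2769, e3 q3593 L40972 q2718, e3 q3594 (flp_c L40978) q2719, e3 q3595 (flp_c L59059) q4631, e3 q3596 (flp_c L59068) q4632, e3 q3597 L41005 q2972, e3 q3598 L41013 q2722, e3 q3599 L41022 q2723, e3 q3600 (flp_c L59115) q4638, e3 q3601 (flp_c L59122) q4639, e3 q3602 (flp_c L59130) q4640, e3 q3603 (flp_c L59147) q4642, e3 q3604 L41055 q2979, e3 q3605 L41063 q2782, e3 q3606 L41071 q2783, e3 q3607 L41079 q2784, e3 q3608 L41087 q2785, e3 q3609 L41095 q2786, e3 q3610 L41106 q2985, e3 q3611 L59264 q4657, e3 q3612 L41127 q2987, e3 q3613 (flp_c L58396) q4569, e3 q3614 (flp_c L58407) q4570, e3 q3615 L41154 q2734, e3 q3616 (flp_c L59338) q4665, e3 q3617 L59347 q4666, e3 q3618 L41186 q2993, e3 q3619 (flp_c L41193) q2736, e3 q3620 (flp_c L59388) q4670, e3 q3621 (flp_c L59396) q4671, e3 q3622 L41221 q2997,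 e3 q3623 (flp_c L58486) q4579, e3 q3624 (flp_c L58493) q4580, e3 q3625 (flp_c L58501) q4581, e3 q3626 (flp_c L58511) q4582, e3 q3627 L41259 q2741, e3 q3628 L59484 q4682, e3 q3629 L41281 q3004, e3 q3630 (flp_c L41287) q2743, e3 q3631 (flp_c L59526) q4686, e3 q3632 (flp_c L59534) q4687, e3 q3633 L41314 q3008, e3 q3634 (flp_c L58647) q4592, e3 q3635 (flp_c L58654) q4593, e3 q3636 (flp_c L58665) q4594, e3 q3637 (flp_c L58672) q4595, e3 q3638 L41354 q2748, e3 q3639 (flp_c L41362) q2749, e3 q3640 (flp_c L59632) q4699, e3 q3641 (flp_c L59640) q4700, e3 q3642 L41391 q3016, e3 q3643 L41400 q2752, e3 q3644 L41406 q2753, e3 q3645 (flp_c L59691) q4706, e3 q3646 (flp_c L59695) q4707, e3 q3647 (flp_c L59703) q4708, trivial⟩ (by decide +kernel)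

theorem ce_c_57 : ∀ r, r < 64 → sm gc (Qf (3648 + r)) = Qf (tab Gen.c (3648 + r)) :=
  edges_tab (sm gc) Qf (tab Gen.c) 3648 [(3648, 4710), (3649, 3022), (3650, 4608), (3651, 4609), (3652, 4610), (3653, 4611), (3654, 4612), (3655, 2760), (3656, 4724), (3657, 4725), (3658, 3030), (3659, 2763), (3660, 2764), (3661, 4731), (3662, 4732), (3663, 4733), (3664, 4735), (3665, 3036), (3666, 4625), (3667, 4626), (3668, 4627), (3669, 4628), (3670, 4629), (3671, 3671), (3672, 2772), (3673, 2773), (3674, 4749), (3675, 4750), (3676, 4751), (3677, 4752), (3678, 3045), (3679, 2777), (3680, 2778), (3681, 2779), (3682, 2856), (3683, 2780), (3684, 4759), (3685, 4760), (3686, 4761), (3687, 4762), (3688, 4764), (3689, 4648), (3690, 4649), (3691, 4650), (3692, 4779), (3693, 4652), (3694, 4653), (3695, 4654), (3696, 4479), (3697, 4481), (3698, 3064), (3699, 2790), (3700, 2791), (3701, 4785), (3702, 4473), (3703, 4786), (3704, 4474), (3705, 3705), (3706, 3706), (3707, 3707), (3708, 4797), (3709, 3709), (3710, 3710), (3711, 3711)]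
    ⟨e3 q3648 (flp_c L59717) q4710, e3 q3649 L41443 q3022, e3 q3650 (flp_c L58774) q4608, e3 q3651 (flp_c L58781) q4609, e3 q3652 (flp_c L58788) q4610, e3 q3653 (flp_c L58797) q4611, e3 q3654 (flp_c L58807) q4612, e3 q3655 (flp_c L41484) q2760, e3 q3656 (flp_c L59820) q4724, e3 q3657 (flp_c L59831) q4725, e3 q3658 L41515 q3030, e3 q3659 L41524 q2763, e3 q3660 L41533 q2764, e3 q3661 (flp_c L59886) q4731, e3 q3662 (flp_c L59893) q4732, e3 q3663 (flp_c L59901) q4733, e3 q3664 (flp_c L59914) q4735, e3 q3665 L41573 q3036, e3 q3666 (flp_c L59005) q4625, e3 q3667 (flp_c L59015) q4626, e3 q3668 (flp_c L59023) q4627, e3 q3669 (flp_c L59033) q4628, e3 q3670 (flp_c L59040) q4629, e3 q3671 L41624 q3671, e3 q3672 L41629 q2772, e3 q3673 L41638 q2773, e3 q3674 (flp_c L60034) q4749, e3 q3675 (flp_c L60041) q4750, e3 q3676 (flp_c L60049) q4751, e3 q3677 (flp_c L60067) q4752, e3 q3678 L41679 q3045, e3 q3679 L41688 q2777, e3 q3680 L41693 q2778, e3 q3681 L41699 q2779, e3 q3682 L41707 q2856, e3 q3683 L41713 q2780, e3 q3684 (flp_c L60123) q4759,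 e3 q3685 (flp_c L60129) q4760, e3 q3686 (flp_c L60136) q4761, e3 q3687 (flp_c L60143) q4762, e3 q3688 (flp_c L60158) q4764, e3 q3689 (flp_c L59189) q4648, e3 q3690 (flp_c L59195) q4649, e3 q3691 (flp_c L59204) q4650, e3 q3692 L60269 q4779, e3 q3693 (flp_c L59219) q4652, e3 q3694 (flp_c L59227) q4653, e3 q3695 (flp_c L59236) q4654, e3 q3696 L562596 q4479, e3 q3697 L545804 q4481, e3 q3698 L41875 q3064, e3 q3699 L41885 q2790, e3 q3700 L41893 q2791, e3 q3701 (flp_c L60419) q4785, e3 q3702 L562805 q4473, e3 q3703 (flp_c L60436) q4786, e3 q3704 L562815 q4474, e3 q3705 L41971 q3705, e3 q3706 L41978 q3706, e3 q3707 L41987 q3707, e3 q3708 L60587 q4797, e3 q3709 L42000 q3709, e3 q3710 L42009 q3710, e3 q3711 L42018 q3711, trivial⟩ (by decide +kernel)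

theorem ce_c_58 : ∀ r, r < 64 → sm gc (Qf (3712 + r)) = Qf (tab Gen.c (3712 + r)) :=
  edges_tab (sm gc) Qf (tab Gen.c) 3712 [(3712, 2800), (3713, 2801), (3714, 4801), (3715, 4504), (3716, 4802), (3717, 4506), (3718, 4758), (3719, 2807), (3720, 2808), (3721, 2809), (3722, 2810), (3723, 4810), (3724, 4811), (3725, 4812), (3726, 4820), (3727, 4492), (3728, 4814), (3729, 4494), (3730, 3730), (3731, 3731), (3732, 3732), (3733, 4829), (3734, 3734), (3735, 2815), (3736, 4832), (3737, 3737), (3738, 2819), (3739, 4834), (3740, 4835), (3741, 3090), (3742, 2822), (3743, 2823), (3744, 4841), (3745, 4842), (3746, 4843), (3747, 4845), (3748, 3096), (3749, 3749), (3750, 3750), (3751, 3751), (3752, 3752), (3753, 3753), (3754, 2831), (3755, 2832), (3756, 4858), (3757, 4859), (3758, 4860), (3759, 4861), (3760, 3105), (3761, 2836), (3762, 2837), (3763, 2838), (3764, 4709), (3765, 2839), (3766, 4868), (3767, 4869), (3768, 4870), (3769, 4871), (3770, 4873), (3771, 3771), (3772, 3772), (3773, 3773), (3774, 4888), (3775, 3775)]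
    ⟨e3 q3712 L42047 q2800, e3 q3713 L42054 q2801, e3 q3714 (flp_c L60657) q4801, e3 q3715 (flp_c L562722) q4504, e3 q3716 (flp_c L60674) q4802, e3 q3717 (flp_c L563302) q4506, e3 q3718 (flp_c L60117) q4758, e3 q3719 L42131 q2807, e3 q3720 L42138 q2808, e3 q3721 L42146 q2809, e3 q3722 L42155 q2810, e3 q3723 (flp_c L60776) q4810, e3 q3724 (flp_c L60782) q4811, e3 q3725 (flp_c L60790) q4812, e3 q3726 L60867 q4820, e3 q3727 (flp_c L562743) q4492, e3 q3728 (flp_c L60812) q4814, e3 q3729 L562765 q4494, e3 q3730 L42226 q3730, e3 q3731 L42233 q3731, e3 q3732 L42240 q3732, e3 q3733 L60935 q4829, e3 q3734 L42256 q3734, e3 q3735 (flp_c L42261) q2815, e3 q3736 (flp_c L60961) q4832, e3 q3737 L42279 q3737, e3 q3738 (flp_c L42286) q2819, e3 q3739 (flp_c L60988) q4834, e3 q3740 (flp_c L60999) q4835, e3 q3741 L42321 q3090, e3 q3742 L42329 q2822, e3 q3743 L42339 q2823, e3 q3744 (flp_c L61058) q4841, e3 q3745 (flp_c L61067) q4842, e3 q3746 (flp_c L61076) q4843, e3 q3747 (flp_c L61093) q4845, e3 q3748 L42383 q3096, e3 q3749 L42393 q3749, e3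 q3750 L42401 q3750, e3 q3751 L42410 q3751, e3 q3752 L42420 q3752, e3 q3753 L42427 q3753, e3 q3754 L42447 q2831, e3 q3755 L42456 q2832, e3 q3756 (flp_c L61225) q4858, e3 q3757 (flp_c L61233) q4859, e3 q3758 (flp_c L61244) q4860, e3 q3759 (flp_c L61260) q4861, e3 q3760 L42500 q3105, e3 q3761 L42509 q2836, e3 q3762 L42516 q2837, e3 q3763 L42526 q2838, e3 q3764 (flp_c L59711) q4709, e3 q3765 L42540 q2839, e3 q3766 (flp_c L61321) q4868, e3 q3767 (flp_c L61329) q4869, e3 q3768 (flp_c L61337) q4870, e3 q3769 (flp_c L61347) q4871, e3 q3770 (flp_c L61363) q4873, e3 q3771 L42588 q3771, e3 q3772 L42597 q3772, e3 q3773 L42605 q3773, e3 q3774 L61481 q4888, e3 q3775 L42618 q3775, trivial⟩ (by decide +kernel)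

theorem ce_c_59 : ∀ r, r < 64 → sm gc (Qf (3776 + r)) = Qf (tab Gen.c (3776 + r)) :=
  edges_tab (sm gc) Qf (tab Gen.c) 3776 [(3776, 3776), (3777, 3777), (3778, 2848), (3779, 2849), (3780, 2850), (3781, 2851), (3782, 4891), (3783, 4892), (3784, 4893), (3785, 4894), (3786, 4895), (3787, 2858), (3788, 2859), (3789, 2860), (3790, 2861), (3791, 4763), (3792, 2862), (3793, 4765), (3794, 4766), (3795, 4903), (3796, 4904), (3797, 4905), (3798, 4920), (3799, 4907), (3800, 4908), (3801, 4910), (3802, 3802), (3803, 3803), (3804, 3804), (3805, 4929), (3806, 3806), (3807, 2866), (3808, 4932), (3809, 3809), (3810, 3810), (3811, 3811), (3812, 3812), (3813, 4939), (3814, 3814), (3815, 3815), (3816, 3816), (3817, 3817), (3818, 3818), (3819, 3819), (3820, 4948), (3821, 3821), (3822, 2878), (3823, 4951), (3824, 3824), (3825, 2890), (3826, 2891), (3827, 4954), (3828, 2893), (3829, 4956), (3830, 2892), (3831, 2885), (3832, 4953), (3833, 4950), (3834, 2888), (3835, 4961), (3836, 3836), (3837, 3837), (3838, 3838), (3839, 3839)]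
    ⟨e3 q3776 L42626 q3776, e3 q3777 L42634 q3777, e3 q3778 L42662 q2848, e3 q3779 L42672 q2849, e3 q3780 L42681 q2850, e3 q3781 L42697 q2851, e3 q3782 (flp_c L61551) q4891, e3 q3783 (flp_c L61561) q4892, e3 q3784 (flp_c L61571) q4893, e3 q3785 (flp_c L61581) q4894, e3 q3786 (flp_c L61598) q4895, e3 q3787 L42749 q2858, e3 q3788 L42758 q2859, e3 q3789 L42767 q2860, e3 q3790 L42776 q2861, e3 q3791 (flp_c L60152) q4763, e3 q3792 L42791 q2862, e3 q3793 (flp_c L60165) q4765, e3 q3794 (flp_c L60172) q4766, e3 q3795 (flp_c L61686) q4903, e3 q3796 (flp_c L61694) q4904, e3 q3797 (flp_c L61704) q4905, e3 q3798 L61826 q4920, e3 q3799 (flp_c L61719) q4907, e3 q3800 (flp_c L61729) q4908, e3 q3801 (flp_c L61744) q4910, e3 q3802 L42870 q3802, e3 q3803 L42879 q3803, e3 q3804 L42886 q3804, e3 q3805 L61899 q4929, e3 q3806 L42902 q3806, e3 q3807 (flp_c L42908) q2866, e3 q3808 (flp_c L61924) q4932, e3 q3809 L42926 q3809, e3 q3810 L42936 q3810, e3 q3811 L42945 q3811, e3 q3812 L42955 q3812, e3 q3813 L61986 q4939, e3 q3814 L42972 q3814, e3 q3815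 L42983 q3815, e3 q3816 L42993 q3816, e3 q3817 L43002 q3817, e3 q3818 L43011 q3818, e3 q3819 L43020 q3819, e3 q3820 L62067 q4948, e3 q3821 L43036 q3821, e3 q3822 (flp_c L43042) q2878, e3 q3823 (flp_c L62089) q4951, e3 q3824 L43059 q3824, e3 q3825 L43068 q2890, e3 q3826 L43077 q2891, e3 q3827 L62129 q4954, e3 q3828 L43093 q2893, e3 q3829 L647415 q4956, e3 q3830 L647577 q2892, e3 q3831 (flp_c L43117) q2885, e3 q3832 L647402 q4953, e3 q3833 (flp_c L62085) q4950, e3 q3834 L43140 q2888, e3 q3835 (flp_c L62205) q4961, e3 q3836 L43228 q3836, e3 q3837 L43248 q3837, e3 q3838 L43258 q3838, e3 q3839 L43276 q3839, trivial⟩ (by decide +kernel)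

theorem ce_c_60 : ∀ r, r < 64 → sm gc (Qf (3840 + r)) = Qf (tab Gen.c (3840 + r)) :=
  edges_tab (sm gc) Qf (tab Gen.c) 3840 [(3840, 3840), (3841, 3841), (3842, 2900), (3843, 3318), (3844, 3844), (3845, 3316), (3846, 4519), (3847, 2904), (3848, 4972), (3849, 4522), (3850, 4523), (3851, 3851), (3852, 2907), (3853, 3140), (3854, 3854), (3855, 3308), (3856, 4531), (3857, 3857), (3858, 2914), (3859, 4982), (3860, 4535), (3861, 4986), (3862, 4537), (3863, 3863), (3864, 3864), (3865, 2919), (3866, 3116), (3867, 3867), (3868, 3313), (3869, 4992), (3870, 4548), (3871, 3871), (3872, 2925), (3873, 4997), (3874, 4998), (3875, 4554), (3876, 2927), (3877, 5002), (3878, 5003), (3879, 4558), (3880, 3880), (3881, 3881), (3882, 3882), (3883, 2932), (3884, 3309), (3885, 5009), (3886, 4568), (3887, 2988), (3888, 2937), (3889, 5014), (3890, 5015), (3891, 4574), (3892, 2939), (3893, 5019), (3894, 5020), (3895, 4578), (3896, 2998), (3897, 2999), (3898, 3000), (3899, 3001), (3900, 2944), (3901, 3314), (3902, 2946), (3903, 5027)]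
    ⟨e3 q3840 L43286 q3840, e3 q3841 L43297 q3841, e3 q3842 L43309 q2900, e3 q3843 (flp_c L495638) q3318, e3 q3844 L434613 q3844, e3 q3845 L583004 q3316, e3 q3846 (flp_c L57861) q4519, e3 q3847 L43393 q2904, e3 q3848 (flp_c L62566) q4972, e3 q3849 (flp_c L57885) q4522, e3 q3850 (flp_c L57897) q4523, e3 q3851 L43434 q3851, e3 q3852 L43440 q2907, e3 q3853 L627156 q3140, e3 q3854 L435861 q3854, e3 q3855 L585888 q3308, e3 q3856 (flp_c L57997) q4531, e3 q3857 L43582 q3857, e3 q3858 L43588 q2914, e3 q3859 (flp_c L62848) q4982, e3 q3860 (flp_c L58037) q4535, e3 q3861 L62885 q4986, e3 q3862 (flp_c L58052) q4537, e3 q3863 L43634 q3863, e3 q3864 L43643 q3864, e3 q3865 L43652 q2919, e3 q3866 L627189 q3116, e3 q3867 L437702 q3867, e3 q3868 (flp_c L585719) q3313, e3 q3869 L63185 q4992, e3 q3870 (flp_c L58190) q4548, e3 q3871 L43831 q3871, e3 q3872 L43847 q2925, e3 q3873 (flp_c L63255) q4997, e3 q3874 L63262 q4998, e3 q3875 (flp_c L58241) q4554, e3 q3876 (flp_c L43881) q2927, e3 q3877 (flp_c L63298) q5002, e3 q3878 (flp_c L63303) q5003,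 e3 q3879 (flp_c L58268) q4558, e3 q3880 L43911 q3880, e3 q3881 L43919 q3881, e3 q3882 L43927 q3882, e3 q3883 L43943 q2932, e3 q3884 (flp_c L585913) q3309, e3 q3885 L63529 q5009, e3 q3886 (flp_c L58387) q4568, e3 q3887 L44062 q2988, e3 q3888 L44084 q2937, e3 q3889 (flp_c L63612) q5014, e3 q3890 L63619 q5015, e3 q3891 (flp_c L58445) q4574, e3 q3892 (flp_c L44119) q2939, e3 q3893 (flp_c L63660) q5019, e3 q3894 (flp_c L63668) q5020, e3 q3895 (flp_c L58479) q4578, e3 q3896 L44154 q2998, e3 q3897 L44163 q2999, e3 q3898 L44172 q3000, e3 q3899 L44183 q3001, e3 q3900 L44194 q2944, e3 q3901 L585934 q3314, e3 q3902 (flp_c L44330) q2946, e3 q3903 (flp_c L63966) q5027, trivial⟩ (by decide +kernel)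

theorem ce_c_61 : ∀ r, r < 64 → sm gc (Qf (3904 + r)) = Qf (tab Gen.c (3904 + r)) :=
  edges_tab (sm gc) Qf (tab Gen.c) 3904 [(3904, 4591), (3905, 3009), (3906, 3010), (3907, 2950), (3908, 2951), (3909, 5034), (3910, 5035), (3911, 4600), (3912, 2954), (3913, 2955), (3914, 5040), (3915, 5041), (3916, 5042), (3917, 5033), (3918, 4607), (3919, 3023), (3920, 3024), (3921, 3025), (3922, 3026), (3923, 3027), (3924, 2964), (3925, 5051), (3926, 5052), (3927, 4624), (3928, 3037), (3929, 3039), (3930, 2978), (3931, 2970), (3932, 2971), (3933, 5058), (3934, 5059), (3935, 5060), (3936, 4637), (3937, 2975), (3938, 2976), (3939, 2977), (3940, 3940), (3941, 5066), (3942, 5067), (3943, 5068), (3944, 5069), (3945, 5057), (3946, 3054), (3947, 3055), (3948, 3056), (3949, 3949), (3950, 3057), (3951, 3058), (3952, 3059), (3953, 5082), (3954, 4656), (3955, 2986), (3956, 5085), (3957, 5086), (3958, 4660), (3959, 5012), (3960, 5013), (3961, 3240), (3962, 3232), (3963, 2991), (3964, 2992), (3965, 5094), (3966, 4669), (3967, 2995)]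
    ⟨e3 q3904 (flp_c L58638) q4591, e3 q3905 L44366 q3009, e3 q3906 L44375 q3010, e3 q3907 L44406 q2950, e3 q3908 (flp_c L44412) q2951, e3 q3909 (flp_c L64083) q5034, e3 q3910 (flp_c L64089) q5035, e3 q3911 (flp_c L58715) q4600, e3 q3912 L44450 q2954, e3 q3913 L44456 q2955, e3 q3914 (flp_c L64143) q5040, e3 q3915 (flp_c L64150) q5041, e3 q3916 (flp_c L64158) q5042, e3 q3917 (flp_c L551689) q5033, e3 q3918 (flp_c L58766) q4607, e3 q3919 L44500 q3023, e3 q3920 L44508 q3024, e3 q3921 L44517 q3025, e3 q3922 L44527 q3026, e3 q3923 L44538 q3027, e3 q3924 L44740 q2964, e3 q3925 (flp_c L64594) q5051, e3 q3926 (flp_c L64604) q5052, e3 q3927 (flp_c L58996) q4624, e3 q3928 L44797 q3037, e3 q3929 L44818 q3039, e3 q3930 L591064 q2978, e3 q3931 L44856 q2970, e3 q3932 L44863 q2971, e3 q3933 (flp_c L64766) q5058, e3 q3934 (flp_c L64774) q5059, e3 q3935 (flp_c L64780) q5060, e3 q3936 (flp_c L59106) q4637, e3 q3937 L44916 q2975, e3 q3938 L44924 q2976, e3 q3939 L44930 q2977, e3 q3940 L44940 q3940, e3 q3941 (flp_c L64857) q5066, e3 q3942 (flp_c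 L64865) q5067, e3 q3943 (flp_c L64875) q5068, e3 q3944 (flp_c L64882) q5069, e3 q3945 (flp_c L590817) q5057, e3 q3946 L44990 q3054, e3 q3947 L44998 q3055, e3 q3948 L45008 q3056, e3 q3949 L45020 q3949, e3 q3950 L45027 q3057, e3 q3951 L45037 q3058, e3 q3952 L45047 q3059, e3 q3953 L65039 q5082, e3 q3954 (flp_c L59256) q4656, e3 q3955 (flp_c L45076) q2986, e3 q3956 (flp_c L65085) q5085, e3 q3957 (flp_c L65093) q5086, e3 q3958 (flp_c L59295) q4660, e3 q3959 (flp_c L63568) q5012, e3 q3960 (flp_c L63579) q5013, e3 q3961 (flp_c L589446) q3240, e3 q3962 L589426 q3232, e3 q3963 L45155 q2991, e3 q3964 (flp_c L45164) q2992, e3 q3965 (flp_c L65209) q5094, e3 q3966 (flp_c L59380) q4669, e3 q3967 L45206 q2995, trivial⟩ (by decide +kernel)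

theorem ce_c_62 : ∀ r, r < 64 → sm gc (Qf (3968 + r)) = Qf (tab Gen.c (3968 + r)) :=
  edges_tab (sm gc) Qf (tab Gen.c) 3968 [(3968, 2996), (3969, 5098), (3970, 5099), (3971, 5100), (3972, 4676), (3973, 5026), (3974, 3003), (3975, 5102), (3976, 4685), (3977, 3006), (3978, 3007), (3979, 5106), (3980, 5107), (3981, 5108), (3982, 4692), (3983, 5031), (3984, 3254), (3985, 5032), (3986, 3255), (3987, 3245), (3988, 3015), (3989, 5118), (3990, 5119), (3991, 4705), (3992, 3019), (3993, 3020), (3994, 3021), (3995, 3109), (3996, 5123), (3997, 5124), (3998, 5125), (3999, 5126), (4000, 5049), (4001, 5050), (4002, 3029), (4003, 5129), (4004, 5130), (4005, 4730), (4006, 3033), (4007, 3034), (4008, 3035), (4009, 5134), (4010, 5135), (4011, 5136), (4012, 5137), (4013, 5055), (4014, 5056), (4015, 3269), (4016, 3299), (4017, 3259), (4018, 3270), (4019, 3260), (4020, 3043), (4021, 3044), (4022, 5150), (4023, 5151), (4024, 3082), (4025, 3050), (4026, 3051), (4027, 3052), (4028, 3053), (4029, 3124), (4030, 3125), (4031, 5156)]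
    ⟨e3 q3968 L45212 q2996, e3 q3969 (flp_c L65280) q5098, e3 q3970 (flp_c L65287) q5099, e3 q3971 (flp_c L65292) q5100, e3 q3972 (flp_c L59438) q4676, e3 q3973 (flp_c L63758) q5026, e3 q3974 (flp_c L45307) q3003, e3 q3975 (flp_c L65433) q5102, e3 q3976 (flp_c L59516) q4685, e3 q3977 L45350 q3006, e3 q3978 L45356 q3007, e3 q3979 (flp_c L65503) q5106, e3 q3980 (flp_c L65510) q5107, e3 q3981 (flp_c L65518) q5108, e3 q3982 (flp_c L59575) q4692, e3 q3983 (flp_c L64023) q5031, e3 q3984 L588911 q3254, e3 q3985 (flp_c L64042) q5032, e3 q3986 L598584 q3255, e3 q3987 L601142 q3245, e3 q3988 L45461 q3015, e3 q3989 (flp_c L65662) q5118, e3 q3990 (flp_c L65669) q5119, e3 q3991 (flp_c L59682) q4705, e3 q3992 L45524 q3019, e3 q3993 L45529 q3020, e3 q3994 L45535 q3021, e3 q3995 L45543 q3109, e3 q3996 (flp_c L65754) q5123, e3 q3997 (flp_c L65760) q5124, e3 q3998 (flp_c L65767) q5125, e3 q3999 (flp_c L65773) q5126, e3 q4000 (flp_c L64252) q5049, e3 q4001 (flp_c L64272) q5050, e3 q4002 L45662 q3029, e3 q4003 (flp_c L65955) q5129, e3 q4004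 (flp_c L65965) q5130, e3 q4005 (flp_c L59876) q4730, e3 q4006 L45732 q3033, e3 q4007 L45740 q3034, e3 q4008 L45746 q3035, e3 q4009 (flp_c L66058) q5134, e3 q4010 (flp_c L66066) q5135, e3 q4011 (flp_c L66074) q5136, e3 q4012 (flp_c L66081) q5137, e3 q4013 (flp_c L64677) q5055, e3 q4014 (flp_c L64687) q5056, e3 q4015 (flp_c L589866) q3269, e3 q4016 (flp_c L560718) q3299, e3 q4017 (flp_c L589809) q3259, e3 q4018 L598411 q3270, e3 q4019 (flp_c L589815) q3260, e3 q4020 L45890 q3043, e3 q4021 L45898 q3044, e3 q4022 (flp_c L66297) q5150, e3 q4023 (flp_c L66315) q5151, e3 q4024 L45979 q3082, e3 q4025 L45983 q3050, e3 q4026 L45989 q3051, e3 q4027 L45997 q3052, e3 q4028 L46002 q3053, e3 q4029 L46011 q3124, e3 q4030 L46022 q3125, e3 q4031 (flp_c L66438) q5156, trivial⟩ (by decide +kernel)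

theorem ce_c_63 : ∀ r, r < 64 → sm gc (Qf (4032 + r)) = Qf (tab Gen.c (4032 + r)) :=
  edges_tab (sm gc) Qf (tab Gen.c) 4032 [(4032, 5157), (4033, 5158), (4034, 5160), (4035, 5079), (4036, 5081), (4037, 3061), (4038, 3062), (4039, 5165), (4040, 4466), (4041, 5166), (4042, 4467), (4043, 5133), (4044, 3068), (4045, 3069), (4046, 3070), (4047, 3071), (4048, 5174), (4049, 5175), (4050, 5176), (4051, 5183), (4052, 5178), (4053, 4053), (4054, 4054), (4055, 4055), (4056, 5187), (4057, 3075), (4058, 3297), (4059, 3298), (4060, 5149), (4061, 3080), (4062, 3081), (4063, 5194), (4064, 5195), (4065, 5154), (4066, 5155), (4067, 3085), (4068, 3086), (4069, 5201), (4070, 3089), (4071, 5202), (4072, 5203), (4073, 4840), (4074, 3093), (4075, 3094), (4076, 3095), (4077, 5101), (4078, 5207), (4079, 5208), (4080, 5209), (4081, 5210), (4082, 4082), (4083, 4083), (4084, 3103), (4085, 3104), (4086, 5214), (4087, 5215), (4088, 4088), (4089, 3110), (4090, 3111), (4091, 3112), (4092, 3113), (4093, 5127), (4094, 5128), (4095, 5219)]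
    ⟨e3 q4032 (flp_c L66443) q5157, e3 q4033 (flp_c L66450) q5158, e3 q4034 (flp_c L66471) q5160, e3 q4035 (flp_c L65013) q5079, e3 q4036 (flp_c L65033) q5081, e3 q4037 L46153 q3061, e3 q4038 L46163 q3062, e3 q4039 (flp_c L66652) q5165, e3 q4040 (flp_c L543938) q4466, e3 q4041 (flp_c L66673) q5166, e3 q4042 L579596 q4467, e3 q4043 (flp_c L66054) q5133, e3 q4044 L46240 q3068, e3 q4045 L46249 q3069, e3 q4046 L46259 q3070, e3 q4047 L46268 q3071, e3 q4048 (flp_c L66776) q5174, e3 q4049 (flp_c L66785) q5175, e3 q4050 (flp_c L66795) q5176, e3 q4051 L66875 q5183, e3 q4052 (flp_c L66811) q5178, e3 q4053 L46338 q4053, e3 q4054 L46348 q4054, e3 q4055 L46358 q4055, e3 q4056 L66919 q5187, e3 q4057 (flp_c L46373) q3075, e3 q4058 L46387 q3297, e3 q4059 L46397 q3298, e3 q4060 (flp_c L66291) q5149, e3 q4061 L46411 q3080, e3 q4062 L46420 q3081, e3 q4063 (flp_c L66979) q5194, e3 q4064 (flp_c L66988) q5195, e3 q4065 (flp_c L66426) q5154, e3 q4066 (flp_c L66432) q5155, e3 q4067 L46458 q3085, e3 q4068 L46466 q3086, e3 q4069 (flp_c L67031) q5201,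 e3 q4070 L46504 q3089, e3 q4071 (flp_c L67071) q5202, e3 q4072 (flp_c L67082) q5203, e3 q4073 (flp_c L61048) q4840, e3 q4074 L46578 q3093, e3 q4075 L46588 q3094, e3 q4076 L46595 q3095, e3 q4077 (flp_c L65303) q5101, e3 q4078 (flp_c L67181) q5207, e3 q4079 (flp_c L67189) q5208, e3 q4080 (flp_c L67200) q5209, e3 q4081 (flp_c L67209) q5210, e3 q4082 L46705 q4082, e3 q4083 L46727 q4083, e3 q4084 L46755 q3103, e3 q4085 L46764 q3104, e3 q4086 (flp_c L67451) q5214, e3 q4087 (flp_c L67471) q5215, e3 q4088 L46851 q4088, e3 q4089 L46855 q3110, e3 q4090 L46864 q3111, e3 q4091 L46873 q3112, e3 q4092 L46881 q3113, e3 q4093 (flp_c L65783) q5127, e3 q4094 (flp_c L65793) q5128, e3 q4095 (flp_c L67597) q5219, trivial⟩ (by decide +kernel)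

theorem ce_c_64 : ∀ r, r < 64 → sm gc (Qf (4096 + r)) = Qf (tab Gen.c (4096 + r)) :=
  edges_tab (sm gc) Qf (tab Gen.c) 4096 [(4096, 5220), (4097, 5226), (4098, 5222), (4099, 4099), (4100, 4983), (4101, 4101), (4102, 3121), (4103, 3126), (4104, 5161), (4105, 5162), (4106, 5163), (4107, 3129), (4108, 3130), (4109, 5233), (4110, 4110), (4111, 3135), (4112, 3136), (4113, 3137), (4114, 4114), (4115, 4115), (4116, 5237), (4117, 5238), (4118, 5243), (4119, 4119), (4120, 4973), (4121, 4121), (4122, 4122), (4123, 5248), (4124, 4124), (4125, 4125), (4126, 3148), (4127, 5252), (4128, 3150), (4129, 5254), (4130, 4130), (4131, 3152), (4132, 5256), (4133, 5257), (4134, 4134), (4135, 4135), (4136, 4136), (4137, 4137), (4138, 4138), (4139, 3317), (4140, 4140), (4141, 3162), (4142, 3174), (4143, 3168), (4144, 4144), (4145, 3311), (4146, 4146), (4147, 3173), (4148, 3187), (4149, 5264), (4150, 4150), (4151, 4151), (4152, 3315), (4153, 4153), (4154, 4154), (4155, 3185), (4156, 3188), (4157, 3197), (4158, 5267), (4159, 3312)]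
    ⟨e3 q4096 (flp_c L67606) q5220, e3 q4097 L67711 q5226, e3 q4098 (flp_c L67631) q5222, e3 q4099 L46987 q4099, e3 q4100 (flp_c L627217) q4983, e3 q4101 L47014 q4101, e3 q4102 L47061 q3121, e3 q4103 L47130 q3126, e3 q4104 (flp_c L66480) q5161, e3 q4105 (flp_c L66490) q5162, e3 q4106 (flp_c L66504) q5163, e3 q4107 L47216 q3129, e3 q4108 L47225 q3130, e3 q4109 (flp_c L68063) q5233, e3 q4110 L47310 q4110, e3 q4111 L47315 q3135, e3 q4112 L47324 q3136, e3 q4113 L47333 q3137, e3 q4114 L47346 q4114, e3 q4115 L47361 q4115, e3 q4116 (flp_c L68202) q5237, e3 q4117 (flp_c L68210) q5238, e3 q4118 L68320 q5243, e3 q4119 L47441 q4119, e3 q4120 (flp_c L627134) q4973, e3 q4121 L47509 q4121, e3 q4122 L47578 q4122, e3 q4123 L68556 q5248, e3 q4124 L47597 q4124, e3 q4125 L47612 q4125, e3 q4126 (flp_c L47630) q3148, e3 q4127 (flp_c L68623) q5252, e3 q4128 L47653 q3150, e3 q4129 (flp_c L68658) q5254, e3 q4130 L47719 q4130, e3 q4131 (flp_c L47738) q3152, e3 q4132 (flp_c L68764) q5256, e3 q4133 (flp_c L68773) q5257, e3 q4134 L47813 q4134, e3 q4135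 L47820 q4135, e3 q4136 L47828 q4136, e3 q4137 L432345 q4137, e3 q4138 L432354 q4138, e3 q4139 L583787 q3317, e3 q4140 L47964 q4140, e3 q4141 L47968 q3162, e3 q4142 (flp_c L627126) q3174, e3 q4143 L48043 q3168, e3 q4144 L402652 q4144, e3 q4145 L466060 q3311, e3 q4146 L48265 q4146, e3 q4147 L48280 q3173, e3 q4148 (flp_c L627210) q3187, e3 q4149 L627103 q5264, e3 q4150 L48387 q4150, e3 q4151 L402678 q4151, e3 q4152 L585752 q3315, e3 q4153 L48687 q4153, e3 q4154 L48695 q4154, e3 q4155 L48715 q3185, e3 q4156 L48760 q3188, e3 q4157 (flp_c L627206) q3197, e3 q4158 L627244 q5267, e3 q4159 L585958 q3312, trivial⟩ (by decide +kernel)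

theorem ce_c_65 : ∀ r, r < 64 → sm gc (Qf (4160 + r)) = Qf (tab Gen.c (4160 + r)) :=
  edges_tab (sm gc) Qf (tab Gen.c) 4160 [(4160, 3236), (4161, 3237), (4162, 3199), (4163, 3234), (4164, 3250), (4165, 3252), (4166, 3211), (4167, 3212), (4168, 3247), (4169, 3248), (4170, 3264), (4171, 3265), (4172, 4172), (4173, 3223), (4174, 3225), (4175, 3262), (4176, 3281), (4177, 3263), (4178, 5093), (4179, 4179), (4180, 3243), (4181, 3242), (4182, 4182), (4183, 5091), (4184, 5092), (4185, 4185), (4186, 5115), (4187, 5117), (4188, 4188), (4189, 3258), (4190, 3257), (4191, 5113), (4192, 5116), (4193, 5146), (4194, 5148), (4195, 3272), (4196, 3271), (4197, 3304), (4198, 5143), (4199, 5144), (4200, 4470), (4201, 4472), (4202, 5147), (4203, 3277), (4204, 3278), (4205, 3279), (4206, 3280), (4207, 5275), (4208, 5276), (4209, 5277), (4210, 4210), (4211, 5278), (4212, 3307), (4213, 3287), (4214, 3288), (4215, 3289), (4216, 3291), (4217, 4217), (4218, 5279), (4219, 5280), (4220, 4220), (4221, 3295), (4222, 5282), (4223, 5190)]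
    ⟨e3 q4160 L49025 q3236, e3 q4161 L49034 q3237, e3 q4162 L49105 q3199, e3 q4163 L600653 q3234, e3 q4164 L49477 q3250, e3 q4165 L49492 q3252, e3 q4166 L49580 q3211, e3 q4167 L49587 q3212, e3 q4168 L600910 q3247, e3 q4169 (flp_c L600510) q3248, e3 q4170 L50124 q3264, e3 q4171 L50132 q3265, e3 q4172 L50276 q4172, e3 q4173 L50282 q3223, e3 q4174 L50300 q3225, e3 q4175 (flp_c L587581) q3262, e3 q4176 L545476 q3281, e3 q4177 (flp_c L600387) q3263, e3 q4178 (flp_c L601162) q5093, e3 q4179 L50487 q4179, e3 q4180 L626255 q3243, e3 q4181 L626244 q3242, e3 q4182 L50553 q4182, e3 q4183 L599296 q5091, e3 q4184 (flp_c L598748) q5092, e3 q4185 L50664 q4185, e3 q4186 L577673 q5115, e3 q4187 (flp_c L600520) q5117, e3 q4188 L50866 q4188, e3 q4189 (flp_c L626577) q3258, e3 q4190 L626538 q3257, e3 q4191 (flp_c L545141) q5113, e3 q4192 (flp_c L589153) q5116, e3 q4193 (flp_c L589820) q5146, e3 q4194 (flp_c L600398) q5148, e3 q4195 (flp_c L626584) q3272, e3 q4196 L626549 q3271, e3 q4197 (flp_c L560783) q3304, e3 q4198 (flp_c L590109) q5143,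 e3 q4199 (flp_c L590119) q5144, e3 q4200 (flp_c L561582) q4470, e3 q4201 L561090 q4472, e3 q4202 L560742 q5147, e3 q4203 L51947 q3277, e3 q4204 L51957 q3278, e3 q4205 L51968 q3279, e3 q4206 L51979 q3280, e3 q4207 (flp_c L75070) q5275, e3 q4208 (flp_c L75080) q5276, e3 q4209 (flp_c L75091) q5277, e3 q4210 L430286 q4210, e3 q4211 (flp_c L75109) q5278, e3 q4212 (flp_c L624235) q3307, e3 q4213 L52066 q3287, e3 q4214 L52075 q3288, e3 q4215 L52085 q3289, e3 q4216 L52101 q3291, e3 q4217 L52115 q4217, e3 q4218 (flp_c L75238) q5279, e3 q4219 (flp_c L75248) q5280, e3 q4220 L416274 q4220, e3 q4221 (flp_c L52204) q3295, e3 q4222 L75412 q5282, e3 q4223 (flp_c L66947) q5190, trivial⟩ (by decide +kernel)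

theorem ce_c_66 : ∀ r, r < 64 → sm gc (Qf (4224 + r)) = Qf (tab Gen.c (4224 + r)) :=
  edges_tab (sm gc) Qf (tab Gen.c) 4224 [(4224, 5191), (4225, 5145), (4226, 3302), (4227, 3303), (4228, 5274), (4229, 4978), (4230, 5008), (4231, 4991), (4232, 4969), (4233, 3319), (4234, 5286), (4235, 4235), (4236, 5288), (4237, 3323), (4238, 5291), (4239, 4239), (4240, 3325), (4241, 5296), (4242, 3326), (4243, 5299), (4244, 4244), (4245, 3328), (4246, 5304), (4247, 4247), (4248, 4248), (4249, 5295), (4250, 3331), (4251, 5311), (4252, 4252), (4253, 4253), (4254, 4254), (4255, 3334), (4256, 5318), (4257, 4257), (4258, 5322), (4259, 4259), (4260, 4260), (4261, 4261), (4262, 3339), (4263, 5330), (4264, 5331), (4265, 4265), (4266, 3341), (4267, 5335), (4268, 5336), (4269, 4269), (4270, 4270), (4271, 4271), (4272, 4272), (4273, 4273), (4274, 3346), (4275, 3347), (4276, 5348), (4277, 4277), (4278, 3349), (4279, 5353), (4280, 4280), (4281, 3351), (4282, 5357), (4283, 4283), (4284, 4284), (4285, 4285), (4286, 3354), (4287, 5364)]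
    ⟨e3 q4224 (flp_c L66957) q5191, e3 q4225 (flp_c L510033) q5145, e3 q4226 L52262 q3302, e3 q4227 L52271 q3303, e3 q4228 (flp_c L624225) q5274, e3 q4229 (flp_c L585909) q4978, e3 q4230 L585944 q5008, e3 q4231 L585744 q4991, e3 q4232 L583792 q4969, e3 q4233 (flp_c L54464) q3319, e3 q4234 (flp_c L78568) q5286, e3 q4235 L55042 q4235, e3 q4236 L79346 q5288, e3 q4237 (flp_c L55058) q3323, e3 q4238 (flp_c L79378) q5291, e3 q4239 L55084 q4239, e3 q4240 L55088 q3325, e3 q4241 (flp_c L79423) q5296, e3 q4242 (flp_c L55102) q3326, e3 q4243 (flp_c L79452) q5299, e3 q4244 L55133 q4244, e3 q4245 L55137 q3328, e3 q4246 (flp_c L79501) q5304, e3 q4247 L55157 q4247, e3 q4248 L55170 q4248, e3 q4249 (flp_c L79417) q5295, e3 q4250 L55184 q3331, e3 q4251 (flp_c L79562) q5311, e3 q4252 L55203 q4252, e3 q4253 L55216 q4253, e3 q4254 L55230 q4254, e3 q4255 L55235 q3334, e3 q4256 (flp_c L79633) q5318, e3 q4257 L55256 q4257, e3 q4258 L79668 q5322, e3 q4259 L55274 q4259, e3 q4260 L55281 q4260, e3 q4261 L55288 q4261, e3 q4262 L55297 q3339, e3 q4263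 (flp_c L79738) q5330, e3 q4264 L79745 q5331, e3 q4265 L55327 q4265, e3 q4266 (flp_c L55333) q3341, e3 q4267 (flp_c L79784) q5335, e3 q4268 (flp_c L79792) q5336, e3 q4269 L55360 q4269, e3 q4270 L55368 q4270, e3 q4271 L55376 q4271, e3 q4272 L55383 q4272, e3 q4273 L55392 q4273, e3 q4274 L55401 q3346, e3 q4275 (flp_c L55408) q3347, e3 q4276 (flp_c L79896) q5348, e3 q4277 L55439 q4277, e3 q4278 L55443 q3349, e3 q4279 (flp_c L79944) q5353, e3 q4280 L55466 q4280, e3 q4281 L55470 q3351, e3 q4282 (flp_c L79992) q5357, e3 q4283 L55491 q4283, e3 q4284 L55503 q4284, e3 q4285 L55511 q4285, e3 q4286 L55517 q3354, e3 q4287 (flp_c L80055) q5364, trivial⟩ (by decide +kernel)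

theorem ce_c_67 : ∀ r, r < 64 → sm gc (Qf (4288 + r)) = Qf (tab Gen.c (4288 + r)) :=
  edges_tab (sm gc) Qf (tab Gen.c) 4288 [(4288, 4288), (4289, 4289), (4290, 3357), (4291, 5370), (4292, 4292), (4293, 5374), (4294, 4294), (4295, 4295), (4296, 4296), (4297, 3362), (4298, 5382), (4299, 4299), (4300, 3404), (4301, 3365), (4302, 5387), (4303, 4303), (4304, 5391), (4305, 4305), (4306, 3410), (4307, 3411), (4308, 3370), (4309, 5399), (4310, 5400), (4311, 4311), (4312, 3422), (4313, 3423), (4314, 3374), (4315, 5408), (4316, 5409), (4317, 4317), (4318, 3376), (4319, 5413), (4320, 5414), (4321, 4321), (4322, 3432), (4323, 3433), (4324, 3434), (4325, 3435), (4326, 3381), (4327, 3382), (4328, 5425), (4329, 5426), (4330, 4330), (4331, 3450), (4332, 3451), (4333, 3452), (4334, 3453), (4335, 3387), (4336, 3388), (4337, 5438), (4338, 5439), (4339, 4339), (4340, 3391), (4341, 3392), (4342, 5445), (4343, 5446), (4344, 5447), (4345, 5449), (4346, 4346), (4347, 3466), (4348, 3467), (4349, 3468), (4350, 3469), (4351, 3470)]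
    ⟨e3 q4288 L55546 q4288, e3 q4289 L55557 q4289, e3 q4290 L55563 q3357, e3 q4291 (flp_c L80116) q5370, e3 q4292 L55586 q4292, e3 q4293 L80151 q5374, e3 q4294 L55599 q4294, e3 q4295 L55605 q4295, e3 q4296 L55611 q4296, e3 q4297 L55618 q3362, e3 q4298 (flp_c L80210) q5382, e3 q4299 L55647 q4299, e3 q4300 L55662 q3404, e3 q4301 L55669 q3365, e3 q4302 (flp_c L80273) q5387, e3 q4303 L55691 q4303, e3 q4304 L80309 q5391, e3 q4305 L55708 q4305, e3 q4306 L55714 q3410, e3 q4307 L55723 q3411, e3 q4308 L55733 q3370, e3 q4309 (flp_c L80381) q5399, e3 q4310 L80406 q5400, e3 q4311 L55770 q4311, e3 q4312 L55777 q3422, e3 q4313 L55786 q3423, e3 q4314 L55796 q3374, e3 q4315 (flp_c L80487) q5408, e3 q4316 L80494 q5409, e3 q4317 L55828 q4317, e3 q4318 (flp_c L55829) q3376, e3 q4319 (flp_c L80531) q5413, e3 q4320 (flp_c L80538) q5414, e3 q4321 L55856 q4321, e3 q4322 L55862 q3432, e3 q4323 L55869 q3433, e3 q4324 L55878 q3434, e3 q4325 L55885 q3435, e3 q4326 L55894 q3381, e3 q4327 (flp_c L55919) q3382, e3 q4328 (flp_c L80663) q5425, e3 q4329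 (flp_c L80673) q5426, e3 q4330 L55950 q4330, e3 q4331 L55958 q3450, e3 q4332 L55969 q3451, e3 q4333 L55978 q3452, e3 q4334 L55987 q3453, e3 q4335 L55998 q3387, e3 q4336 (flp_c L56005) q3388, e3 q4337 (flp_c L80786) q5438, e3 q4338 (flp_c L80794) q5439, e3 q4339 L56034 q4339, e3 q4340 L56040 q3391, e3 q4341 L56048 q3392, e3 q4342 (flp_c L80843) q5445, e3 q4343 (flp_c L80852) q5446, e3 q4344 (flp_c L80859) q5447, e3 q4345 (flp_c L80874) q5449, e3 q4346 L56085 q4346, e3 q4347 L56091 q3466, e3 q4348 L56099 q3467, e3 q4349 L56109 q3468, e3 q4350 L56117 q3469, e3 q4351 L56124 q3470, trivial⟩ (by decide +kernel)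

theorem ce_c_68 : ∀ r, r < 64 → sm gc (Qf (4352 + r)) = Qf (tab Gen.c (4352 + r)) :=
  edges_tab (sm gc) Qf (tab Gen.c) 4352 [(4352, 4352), (4353, 4353), (4354, 4354), (4355, 3401), (4356, 5467), (4357, 4357), (4358, 5471), (4359, 4359), (4360, 5385), (4361, 5386), (4362, 3406), (4363, 5479), (4364, 5480), (4365, 4365), (4366, 3408), (4367, 5484), (4368, 5485), (4369, 4369), (4370, 5395), (4371, 5396), (4372, 5397), (4373, 5398), (4374, 3413), (4375, 4375), (4376, 5498), (4377, 4377), (4378, 4378), (4379, 4379), (4380, 3418), (4381, 5506), (4382, 5507), (4383, 4383), (4384, 3420), (4385, 5511), (4386, 5512), (4387, 4387), (4388, 5404), (4389, 5405), (4390, 5406), (4391, 5407), (4392, 3425), (4393, 3426), (4394, 5524), (4395, 5525), (4396, 4396), (4397, 3429), (4398, 3430), (4399, 5531), (4400, 5532), (4401, 5533), (4402, 5535), (4403, 4403), (4404, 5420), (4405, 5421), (4406, 5422), (4407, 5423), (4408, 5424), (4409, 5548), (4410, 4410), (4411, 3438), (4412, 5552), (4413, 5553), (4414, 4414), (4415, 4415)]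
    ⟨e3 q4352 L56131 q4352, e3 q4353 L56145 q4353, e3 q4354 L56159 q4354, e3 q4355 L56164 q3401, e3 q4356 (flp_c L81027) q5467, e3 q4357 L56187 q4357, e3 q4358 L81069 q5471, e3 q4359 L56208 q4359, e3 q4360 (flp_c L80251) q5385, e3 q4361 (flp_c L80262) q5386, e3 q4362 L56234 q3406, e3 q4363 (flp_c L81145) q5479, e3 q4364 L81153 q5480, e3 q4365 L56265 q4365, e3 q4366 (flp_c L56270) q3408, e3 q4367 (flp_c L81194) q5484, e3 q4368 (flp_c L81201) q5485, e3 q4369 L56300 q4369, e3 q4370 (flp_c L80345) q5395, e3 q4371 (flp_c L80354) q5396, e3 q4372 (flp_c L80362) q5397, e3 q4373 (flp_c L80371) q5398, e3 q4374 L56338 q3413, e3 q4375 L56350 q4375, e3 q4376 L81310 q5498, e3 q4377 L56368 q4377, e3 q4378 L56376 q4378, e3 q4379 L56383 q4379, e3 q4380 L56392 q3418, e3 q4381 (flp_c L81382) q5506, e3 q4382 L81390 q5507, e3 q4383 L56427 q4383, e3 q4384 (flp_c L56431) q3420, e3 q4385 (flp_c L81432) q5511, e3 q4386 (flp_c L81439) q5512, e3 q4387 L56460 q4387, e3 q4388 (flp_c L80447) q5404, e3 q4389 (flp_c L80456) q5405, e3 q4390 (flp_c L80467)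 q5406, e3 q4391 (flp_c L80475) q5407, e3 q4392 L56500 q3425, e3 q4393 (flp_c L56507) q3426, e3 q4394 (flp_c L81540) q5524, e3 q4395 (flp_c L81547) q5525, e3 q4396 L56538 q4396, e3 q4397 L56545 q3429, e3 q4398 L56550 q3430, e3 q4399 (flp_c L81600) q5531, e3 q4400 (flp_c L81606) q5532, e3 q4401 (flp_c L81613) q5533, e3 q4402 (flp_c L81625) q5535, e3 q4403 L56591 q4403, e3 q4404 (flp_c L80582) q5420, e3 q4405 (flp_c L80589) q5421, e3 q4406 (flp_c L80598) q5422, e3 q4407 (flp_c L80607) q5423, e3 q4408 (flp_c L80616) q5424, e3 q4409 L81721 q5548, e3 q4410 L56643 q4410, e3 q4411 (flp_c L56650) q3438, e3 q4412 (flp_c L81761) q5552, e3 q4413 (flp_c L81769) q5553, e3 q4414 L56677 q4414, e3 q4415 L56686 q4415, trivial⟩ (by decide +kernel)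

theorem ce_c_69 : ∀ r, r < 64 → sm gc (Qf (4416 + r)) = Qf (tab Gen.c (4416 + r)) :=
  edges_tab (sm gc) Qf (tab Gen.c) 4416 [(4416, 4416), (4417, 4417), (4418, 4418), (4419, 3443), (4420, 3444), (4421, 5565), (4422, 5566), (4423, 4423), (4424, 3447), (4425, 3448), (4426, 5572), (4427, 5573), (4428, 5574), (4429, 5576), (4430, 4430), (4431, 5432), (4432, 5433), (4433, 5434), (4434, 5435), (4435, 5436), (4436, 4436), (4437, 3456), (4438, 3457), (4439, 5591), (4440, 5592), (4441, 5593), (4442, 5595), (4443, 4443), (4444, 3461), (4445, 3462), (4446, 3463), (4447, 4447), (4448, 3464), (4449, 5602), (4450, 5603), (4451, 5604), (4452, 5605), (4453, 5607), (4454, 5455), (4455, 5456), (4456, 5457), (4457, 5622), (4458, 5459), (4459, 5460), (4460, 5461), (4461, 4461), (4462, 3478), (4463, 3479), (4464, 3474), (4465, 4465), (4466, 4040), (4467, 4042), (4468, 4468), (4469, 5626), (4470, 4200), (4471, 5627), (4472, 4201), (4473, 3702), (4474, 3704), (4475, 4475), (4476, 3485), (4477, 3486), (4478, 5639), (4479, 3696)]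
    ⟨e3 q4416 L56695 q4416, e3 q4417 L56702 q4417, e3 q4418 L56711 q4418, e3 q4419 L56720 q3443, e3 q4420 (flp_c L56728) q3444, e3 q4421 (flp_c L81874) q5565, e3 q4422 (flp_c L81884) q5566, e3 q4423 L56761 q4423, e3 q4424 L56768 q3447, e3 q4425 L56776 q3448, e3 q4426 (flp_c L81941) q5572, e3 q4427 (flp_c L81950) q5573, e3 q4428 (flp_c L81957) q5574, e3 q4429 (flp_c L81968) q5576, e3 q4430 L56820 q4430, e3 q4431 (flp_c L80727) q5432, e3 q4432 (flp_c L80737) q5433, e3 q4433 (flp_c L80747) q5434, e3 q4434 (flp_c L80757) q5435, e3 q4435 (flp_c L80765) q5436, e3 q4436 L56870 q4436, e3 q4437 L56875 q3456, e3 q4438 L56883 q3457, e3 q4439 (flp_c L82094) q5591, e3 q4440 (flp_c L82103) q5592, e3 q4441 (flp_c L82110) q5593, e3 q4442 (flp_c L82126) q5595, e3 q4443 L56928 q4443, e3 q4444 L56935 q3461, e3 q4445 L56942 q3462, e3 q4446 L56947 q3463, e3 q4447 L56955 q4447, e3 q4448 L56959 q3464, e3 q4449 (flp_c L82185) q5602, e3 q4450 (flp_c L82191) q5603, e3 q4451 (flp_c L82200) q5604, e3 q4452 (flp_c L82206) q5605, e3 q4453 (flp_c L82219)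 q5607, e3 q4454 (flp_c L80918) q5455, e3 q4455 (flp_c L80926) q5456, e3 q4456 (flp_c L80935) q5457, e3 q4457 L82333 q5622, e3 q4458 (flp_c L80951) q5459, e3 q4459 (flp_c L80961) q5460, e3 q4460 (flp_c L80969) q5461, e3 q4461 L57103 q4461, e3 q4462 L57111 q3478, e3 q4463 L57120 q3479, e3 q4464 L57148 q3474, e3 q4465 L57188 q4465, e3 q4466 L543938 q4040, e3 q4467 (flp_c L579596) q4042, e3 q4468 L57245 q4468, e3 q4469 (flp_c L82459) q5626, e3 q4470 L561582 q4200, e3 q4471 (flp_c L82477) q5627, e3 q4472 (flp_c L561090) q4201, e3 q4473 (flp_c L562805) q3702, e3 q4474 (flp_c L562815) q3704, e3 q4475 L57364 q4475, e3 q4476 L57372 q3485, e3 q4477 L57382 q3486, e3 q4478 (flp_c L82839) q5639, e3 q4479 (flp_c L562596) q3696, trivial⟩ (by decide +kernel)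

theorem ce_c_70 : ∀ r, r < 64 → sm gc (Qf (4480 + r)) = Qf (tab Gen.c (4480 + r)) :=
  edges_tab (sm gc) Qf (tab Gen.c) 4480 [(4480, 5640), (4481, 3697), (4482, 4482), (4483, 4483), (4484, 4484), (4485, 5651), (4486, 4486), (4487, 4487), (4488, 4488), (4489, 3495), (4490, 3496), (4491, 5655), (4492, 3727), (4493, 5656), (4494, 3729), (4495, 5601), (4496, 3502), (4497, 3503), (4498, 3504), (4499, 3505), (4500, 5664), (4501, 5665), (4502, 5666), (4503, 5674), (4504, 3715), (4505, 5668), (4506, 3717), (4507, 4507), (4508, 4508), (4509, 4509), (4510, 5683), (4511, 4511), (4512, 3510), (4513, 5686), (4514, 4514), (4515, 4515), (4516, 5689), (4517, 3516), (4518, 5691), (4519, 3846), (4520, 3518), (4521, 5695), (4522, 3849), (4523, 3850), (4524, 4524), (4525, 3521), (4526, 5702), (4527, 3522), (4528, 5703), (4529, 3524), (4530, 5706), (4531, 3856), (4532, 4532), (4533, 3527), (4534, 5712), (4535, 3860), (4536, 5716), (4537, 3862), (4538, 4538), (4539, 4539), (4540, 3532), (4541, 5724), (4542, 3534), (4543, 5726)]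
    ⟨e3 q4480 (flp_c L82858) q5640, e3 q4481 (flp_c L545804) q3697, e3 q4482 L57459 q4482, e3 q4483 L57468 q4483, e3 q4484 L57477 q4484, e3 q4485 L83008 q5651, e3 q4486 L57491 q4486, e3 q4487 L57502 q4487, e3 q4488 L57510 q4488, e3 q4489 L57538 q3495, e3 q4490 L57547 q3496, e3 q4491 (flp_c L83090) q5655, e3 q4492 L562743 q3727, e3 q4493 (flp_c L83109) q5656, e3 q4494 (flp_c L562765) q3729, e3 q4495 (flp_c L82180) q5601, e3 q4496 L57633 q3502, e3 q4497 L57640 q3503, e3 q4498 L57650 q3504, e3 q4499 L57658 q3505, e3 q4500 (flp_c L83230) q5664, e3 q4501 (flp_c L83238) q5665, e3 q4502 (flp_c L83246) q5666, e3 q4503 L83357 q5674, e3 q4504 L562722 q3715, e3 q4505 (flp_c L83271) q5668, e3 q4506 L563302 q3717, e3 q4507 L57747 q4507, e3 q4508 L57754 q4508, e3 q4509 L57763 q4509, e3 q4510 L83431 q5683, e3 q4511 L57778 q4511, e3 q4512 (flp_c L57783) q3510, e3 q4513 (flp_c L83456) q5686, e3 q4514 L57803 q4514, e3 q4515 L57814 q4515, e3 q4516 L83481 q5689, e3 q4517 (flp_c L57831) q3516, e3 q4518 (flp_c L83517) q5691, e3 q4519 L57861 q3846,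 e3 q4520 L57866 q3518, e3 q4521 (flp_c L83569) q5695, e3 q4522 L57885 q3849, e3 q4523 L57897 q3850, e3 q4524 L57909 q4524, e3 q4525 L57913 q3521, e3 q4526 (flp_c L83631) q5702, e3 q4527 (flp_c L57928) q3522, e3 q4528 (flp_c L83661) q5703, e3 q4529 L57963 q3524, e3 q4530 (flp_c L83713) q5706, e3 q4531 L57997 q3856, e3 q4532 L58010 q4532, e3 q4533 L58014 q3527, e3 q4534 (flp_c L83782) q5712, e3 q4535 L58037 q3860, e3 q4536 L83819 q5716, e3 q4537 L58052 q3862, e3 q4538 L58062 q4538, e3 q4539 L58070 q4539, e3 q4540 L58077 q3532, e3 q4541 (flp_c L83883) q5724, e3 q4542 L58105 q3534, e3 q4543 (flp_c L83920) q5726, trivial⟩ (by decide +kernel)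

theorem ce_c_71 : ∀ r, r < 64 → sm gc (Qf (4544 + r)) = Qf (tab Gen.c (4544 + r)) :=
  edges_tab (sm gc) Qf (tab Gen.c) 4544 [(4544, 5725), (4545, 3536), (4546, 5730), (4547, 5732), (4548, 3870), (4549, 4549), (4550, 4550), (4551, 3540), (4552, 5740), (4553, 5376), (4554, 3875), (4555, 3542), (4556, 5743), (4557, 5372), (4558, 3879), (4559, 4559), (4560, 4560), (4561, 4561), (4562, 4562), (4563, 3547), (4564, 4564), (4565, 3549), (4566, 5756), (4567, 5758), (4568, 3886), (4569, 3613), (4570, 3614), (4571, 3553), (4572, 5766), (4573, 5767), (4574, 3891), (4575, 3555), (4576, 5771), (4577, 5772), (4578, 3895), (4579, 3623), (4580, 3624), (4581, 3625), (4582, 3626), (4583, 3560), (4584, 4584), (4585, 4585), (4586, 3563), (4587, 5787), (4588, 3564), (4589, 5788), (4590, 5789), (4591, 3904), (4592, 3634), (4593, 3635), (4594, 3636), (4595, 3637), (4596, 3569), (4597, 3570), (4598, 5801), (4599, 5802), (4600, 3911), (4601, 3573), (4602, 3574), (4603, 5808), (4604, 5809), (4605, 5810), (4606, 5812), (4607, 3918)]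
    ⟨e3 q4544 (flp_c L83914) q5725, e3 q4545 L58151 q3536, e3 q4546 (flp_c L83981) q5730, e3 q4547 L84019 q5732, e3 q4548 L58190 q3870, e3 q4549 L58199 q4549, e3 q4550 L58207 q4550, e3 q4551 L58212 q3540, e3 q4552 (flp_c L84084) q5740, e3 q4553 (flp_c L644650) q5376, e3 q4554 L58241 q3875, e3 q4555 (flp_c L58246) q3542, e3 q4556 (flp_c L84126) q5743, e3 q4557 L641714 q5372, e3 q4558 L58268 q3879, e3 q4559 L58277 q4559, e3 q4560 L58283 q4560, e3 q4561 L58290 q4561, e3 q4562 L58297 q4562, e3 q4563 L58303 q3547, e3 q4564 L58340 q4564, e3 q4565 L58345 q3549, e3 q4566 (flp_c L84263) q5756, e3 q4567 L84302 q5758, e3 q4568 L58387 q3886, e3 q4569 L58396 q3613, e3 q4570 L58407 q3614, e3 q4571 L58415 q3553, e3 q4572 (flp_c L84380) q5766, e3 q4573 L84387 q5767, e3 q4574 L58445 q3891, e3 q4575 (flp_c L58450) q3555, e3 q4576 (flp_c L84427) q5771, e3 q4577 (flp_c L84437) q5772, e3 q4578 L58479 q3895, e3 q4579 L58486 q3623, e3 q4580 L58493 q3624, e3 q4581 L58501 q3625, e3 q4582 L58511 q3626, e3 q4583 L58520 q3560, e3 q4584 L58558 q4584,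 e3 q4585 L58565 q4585, e3 q4586 L58574 q3563, e3 q4587 (flp_c L84618) q5787, e3 q4588 (flp_c L58610) q3564, e3 q4589 (flp_c L84666) q5788, e3 q4590 (flp_c L84676) q5789, e3 q4591 L58638 q3904, e3 q4592 L58647 q3634, e3 q4593 L58654 q3635, e3 q4594 L58665 q3636, e3 q4595 L58672 q3637, e3 q4596 L58681 q3569, e3 q4597 (flp_c L58687) q3570, e3 q4598 (flp_c L84778) q5801, e3 q4599 (flp_c L84786) q5802, e3 q4600 L58715 q3911, e3 q4601 L58724 q3573, e3 q4602 L58732 q3574, e3 q4603 (flp_c L84834) q5808, e3 q4604 (flp_c L84840) q5809, e3 q4605 (flp_c L84850) q5810, e3 q4606 (flp_c L84867) q5812, e3 q4607 L58766 q3918, trivial⟩ (by decide +kernel)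

theorem ce_c_72 : ∀ r, r < 64 → sm gc (Qf (4608 + r)) = Qf (tab Gen.c (4608 + r)) :=
  edges_tab (sm gc) Qf (tab Gen.c) 4608 [(4608, 3650), (4609, 3651), (4610, 3652), (4611, 3653), (4612, 3654), (4613, 4613), (4614, 4614), (4615, 4615), (4616, 4616), (4617, 3584), (4618, 3586), (4619, 3587), (4620, 5830), (4621, 5831), (4622, 5832), (4623, 5833), (4624, 3927), (4625, 3666), (4626, 3667), (4627, 3668), (4628, 3669), (4629, 3670), (4630, 4630), (4631, 3595), (4632, 3596), (4633, 5848), (4634, 5849), (4635, 5850), (4636, 5852), (4637, 3936), (4638, 3600), (4639, 3601), (4640, 3602), (4641, 4641), (4642, 3603), (4643, 5859), (4644, 5860), (4645, 5861), (4646, 5862), (4647, 5864), (4648, 3689), (4649, 3690), (4650, 3691), (4651, 5879), (4652, 3693), (4653, 3694), (4654, 3695), (4655, 5882), (4656, 3954), (4657, 3611), (4658, 5886), (4659, 5887), (4660, 3958), (4661, 5762), (4662, 5763), (4663, 5764), (4664, 5765), (4665, 3616), (4666, 3617), (4667, 5899), (4668, 5900), (4669, 3966), (4670, 3620), (4671, 3621)]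
    ⟨e3 q4608 L58774 q3650, e3 q4609 L58781 q3651, e3 q4610 L58788 q3652, e3 q4611 L58797 q3653, e3 q4612 L58807 q3654, e3 q4613 L58869 q4613, e3 q4614 L58877 q4614, e3 q4615 L58884 q4615, e3 q4616 L58893 q4616, e3 q4617 L58902 q3584, e3 q4618 L58948 q3586, e3 q4619 L58959 q3587, e3 q4620 (flp_c L85178) q5830, e3 q4621 (flp_c L85187) q5831, e3 q4622 (flp_c L85197) q5832, e3 q4623 (flp_c L85213) q5833, e3 q4624 L58996 q3927, e3 q4625 L59005 q3666, e3 q4626 L59015 q3667, e3 q4627 L59023 q3668, e3 q4628 L59033 q3669, e3 q4629 L59040 q3670, e3 q4630 L59054 q4630, e3 q4631 L59059 q3595, e3 q4632 L59068 q3596, e3 q4633 (flp_c L85340) q5848, e3 q4634 (flp_c L85347) q5849, e3 q4635 (flp_c L85355) q5850, e3 q4636 (flp_c L85372) q5852, e3 q4637 L59106 q3936, e3 q4638 L59115 q3600, e3 q4639 L59122 q3601, e3 q4640 L59130 q3602, e3 q4641 L59140 q4641, e3 q4642 L59147 q3603, e3 q4643 (flp_c L85428) q5859, e3 q4644 (flp_c L85436) q5860, e3 q4645 (flp_c L85445) q5861, e3 q4646 (flp_c L85454) q5862, e3 q4647 (flp_c L85472) q5864, e3 q4648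 L59189 q3689, e3 q4649 L59195 q3690, e3 q4650 L59204 q3691, e3 q4651 L85584 q5879, e3 q4652 L59219 q3693, e3 q4653 L59227 q3694, e3 q4654 L59236 q3695, e3 q4655 L85608 q5882, e3 q4656 L59256 q3954, e3 q4657 (flp_c L59264) q3611, e3 q4658 (flp_c L85653) q5886, e3 q4659 (flp_c L85663) q5887, e3 q4660 L59295 q3958, e3 q4661 (flp_c L84342) q5762, e3 q4662 (flp_c L84351) q5763, e3 q4663 (flp_c L84361) q5764, e3 q4664 (flp_c L84370) q5765, e3 q4665 L59338 q3616, e3 q4666 (flp_c L59347) q3617, e3 q4667 (flp_c L85772) q5899, e3 q4668 (flp_c L85782) q5900, e3 q4669 L59380 q3966, e3 q4670 L59388 q3620, e3 q4671 L59396 q3621, trivial⟩ (by decide +kernel)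

theorem ce_c_73 : ∀ r, r < 64 → sm gc (Qf (4672 + r)) = Qf (tab Gen.c (4672 + r)) :=
  edges_tab (sm gc) Qf (tab Gen.c) 4672 [(4672, 5906), (4673, 5907), (4674, 5908), (4675, 5910), (4676, 3972), (4677, 5778), (4678, 5779), (4679, 5780), (4680, 5781), (4681, 5782), (4682, 3628), (4683, 5924), (4684, 5925), (4685, 3976), (4686, 3631), (4687, 3632), (4688, 5931), (4689, 5932), (4690, 5933), (4691, 5935), (4692, 3982), (4693, 5795), (4694, 5796), (4695, 5797), (4696, 5798), (4697, 5799), (4698, 4698), (4699, 3640), (4700, 3641), (4701, 5949), (4702, 5950), (4703, 5951), (4704, 5952), (4705, 3991), (4706, 3645), (4707, 3646), (4708, 3647), (4709, 3764), (4710, 3648), (4711, 5959), (4712, 5960), (4713, 5961), (4714, 5962), (4715, 5964), (4716, 5818), (4717, 5819), (4718, 5820), (4719, 5979), (4720, 5822), (4721, 5823), (4722, 5824), (4723, 4723), (4724, 3656), (4725, 3657), (4726, 5983), (4727, 5984), (4728, 5985), (4729, 5986), (4730, 4005), (4731, 3661), (4732, 3662), (4733, 3663), (4734, 4734), (4735, 3664)]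
    ⟨e3 q4672 (flp_c L85839) q5906, e3 q4673 (flp_c L85845) q5907, e3 q4674 (flp_c L85852) q5908, e3 q4675 (flp_c L85869) q5910, e3 q4676 L59438 q3972, e3 q4677 (flp_c L84485) q5778, e3 q4678 (flp_c L84492) q5779, e3 q4679 (flp_c L84501) q5780, e3 q4680 (flp_c L84511) q5781, e3 q4681 (flp_c L84520) q5782, e3 q4682 (flp_c L59484) q3628, e3 q4683 (flp_c L85983) q5924, e3 q4684 (flp_c L85993) q5925, e3 q4685 L59516 q3976, e3 q4686 L59526 q3631, e3 q4687 L59534 q3632, e3 q4688 (flp_c L86049) q5931, e3 q4689 (flp_c L86055) q5932, e3 q4690 (flp_c L86065) q5933, e3 q4691 (flp_c L86078) q5935, e3 q4692 L59575 q3982, e3 q4693 (flp_c L84723) q5795, e3 q4694 (flp_c L84732) q5796, e3 q4695 (flp_c L84739) q5797, e3 q4696 (flp_c L84750) q5798, e3 q4697 (flp_c L84759) q5799, e3 q4698 L59627 q4698, e3 q4699 L59632 q3640, e3 q4700 L59640 q3641, e3 q4701 (flp_c L86198) q5949, e3 q4702 (flp_c L86204) q5950, e3 q4703 (flp_c L86214) q5951, e3 q4704 (flp_c L86232) q5952, e3 q4705 L59682 q3991, e3 q4706 L59691 q3645, e3 q4707 L59695 q3646, e3 q4708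 L59703 q3647, e3 q4709 L59711 q3764, e3 q4710 L59717 q3648, e3 q4711 (flp_c L86287) q5959, e3 q4712 (flp_c L86293) q5960, e3 q4713 (flp_c L86299) q5961, e3 q4714 (flp_c L86307) q5962, e3 q4715 (flp_c L86323) q5964, e3 q4716 (flp_c L84910) q5818, e3 q4717 (flp_c L84917) q5819, e3 q4718 (flp_c L84924) q5820, e3 q4719 L86435 q5979, e3 q4720 (flp_c L84937) q5822, e3 q4721 (flp_c L84944) q5823, e3 q4722 (flp_c L84954) q5824, e3 q4723 L59815 q4723, e3 q4724 L59820 q3656, e3 q4725 L59831 q3657, e3 q4726 (flp_c L86477) q5983, e3 q4727 (flp_c L86486) q5984, e3 q4728 (flp_c L86496) q5985, e3 q4729 (flp_c L86513) q5986, e3 q4730 L59876 q4005, e3 q4731 L59886 q3661, e3 q4732 L59893 q3662, e3 q4733 L59901 q3663, e3 q4734 L59909 q4734, e3 q4735 L59914 q3664, trivial⟩ (by decide +kernel)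

theorem ce_c_74 : ∀ r, r < 64 → sm gc (Qf (4736 + r)) = Qf (tab Gen.c (4736 + r)) :=
  edges_tab (sm gc) Qf (tab Gen.c) 4736 [(4736, 5993), (4737, 5994), (4738, 5995), (4739, 5996), (4740, 5998), (4741, 5839), (4742, 5840), (4743, 5841), (4744, 6012), (4745, 5843), (4746, 5844), (4747, 5845), (4748, 4748), (4749, 3674), (4750, 3675), (4751, 3676), (4752, 3677), (4753, 6018), (4754, 6019), (4755, 6020), (4756, 6021), (4757, 6022), (4758, 3718), (4759, 3684), (4760, 3685), (4761, 3686), (4762, 3687), (4763, 3791), (4764, 3688), (4765, 3793), (4766, 3794), (4767, 6032), (4768, 6033), (4769, 6034), (4770, 6049), (4771, 6036), (4772, 6037), (4773, 6039), (4774, 5874), (4775, 5875), (4776, 5876), (4777, 6058), (4778, 5878), (4779, 3692), (4780, 6061), (4781, 5881), (4782, 5643), (4783, 5645), (4784, 5992), (4785, 3701), (4786, 3703), (4787, 6067), (4788, 6068), (4789, 5636), (4790, 6073), (4791, 5637), (4792, 4792), (4793, 4793), (4794, 4794), (4795, 6080), (4796, 4796), (4797, 3708), (4798, 6083), (4799, 4799)]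
    ⟨e3 q4736 (flp_c L86577) q5993, e3 q4737 (flp_c L86585) q5994, e3 q4738 (flp_c L86592) q5995, e3 q4739 (flp_c L86601) q5996, e3 q4740 (flp_c L86615) q5998, e3 q4741 (flp_c L85261) q5839, e3 q4742 (flp_c L85269) q5840, e3 q4743 (flp_c L85280) q5841, e3 q4744 L86734 q6012, e3 q4745 (flp_c L85294) q5843, e3 q4746 (flp_c L85304) q5844, e3 q4747 (flp_c L85312) q5845, e3 q4748 L60020 q4748, e3 q4749 L60034 q3674, e3 q4750 L60041 q3675, e3 q4751 L60049 q3676, e3 q4752 L60067 q3677, e3 q4753 (flp_c L86804) q6018, e3 q4754 (flp_c L86812) q6019, e3 q4755 (flp_c L86821) q6020, e3 q4756 (flp_c L86830) q6021, e3 q4757 (flp_c L86849) q6022, e3 q4758 L60117 q3718, e3 q4759 L60123 q3684, e3 q4760 L60129 q3685, e3 q4761 L60136 q3686, e3 q4762 L60143 q3687, e3 q4763 L60152 q3791, e3 q4764 L60158 q3688, e3 q4765 L60165 q3793, e3 q4766 L60172 q3794, e3 q4767 (flp_c L86952) q6032, e3 q4768 (flp_c L86956) q6033, e3 q4769 (flp_c L86963) q6034, e3 q4770 L87078 q6049, e3 q4771 (flp_c L86974) q6036, e3 q4772 (flp_c L86981) q6037, e3 q4773 (flp_c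 L86996) q6039, e3 q4774 (flp_c L85546) q5874, e3 q4775 (flp_c L85554) q5875, e3 q4776 (flp_c L85561) q5876, e3 q4777 L87146 q6058, e3 q4778 (flp_c L85578) q5878, e3 q4779 (flp_c L60269) q3692, e3 q4780 (flp_c L87174) q6061, e3 q4781 (flp_c L85602) q5881, e3 q4782 L562871 q5643, e3 q4783 (flp_c L563240) q5645, e3 q4784 (flp_c L86571) q5992, e3 q4785 L60419 q3701, e3 q4786 L60436 q3703, e3 q4787 (flp_c L87407) q6067, e3 q4788 (flp_c L87415) q6068, e3 q4789 (flp_c L562830) q5636, e3 q4790 L87548 q6073, e3 q4791 L563559 q5637, e3 q4792 L60549 q4792, e3 q4793 L60558 q4793, e3 q4794 L60565 q4794, e3 q4795 L87620 q6080, e3 q4796 L60580 q4796, e3 q4797 (flp_c L60587) q3708, e3 q4798 (flp_c L87643) q6083, e3 q4799 L60603 q4799, trivial⟩ (by decide +kernel)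

theorem ce_c_75 : ∀ r, r < 64 → sm gc (Qf (4800 + r)) = Qf (tab Gen.c (4800 + r)) :=
  edges_tab (sm gc) Qf (tab Gen.c) 4800 [(4800, 6017), (4801, 3714), (4802, 3716), (4803, 6087), (4804, 6088), (4805, 5673), (4806, 6093), (4807, 5676), (4808, 6030), (4809, 6031), (4810, 3723), (4811, 3724), (4812, 3725), (4813, 6103), (4814, 3728), (4815, 6099), (4816, 6100), (4817, 6101), (4818, 6110), (4819, 5659), (4820, 3726), (4821, 6113), (4822, 5661), (4823, 4823), (4824, 4824), (4825, 6118), (4826, 4826), (4827, 6121), (4828, 4828), (4829, 3733), (4830, 6124), (4831, 6112), (4832, 3736), (4833, 6128), (4834, 3739), (4835, 3740), (4836, 6129), (4837, 6130), (4838, 6131), (4839, 6132), (4840, 4073), (4841, 3744), (4842, 3745), (4843, 3746), (4844, 5909), (4845, 3747), (4846, 6139), (4847, 6140), (4848, 6141), (4849, 6142), (4850, 6144), (4851, 4851), (4852, 4852), (4853, 4853), (4854, 6159), (4855, 4855), (4856, 4856), (4857, 4857), (4858, 3756), (4859, 3757), (4860, 3758), (4861, 3759), (4862, 6163), (4863, 6164)]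
    ⟨e3 q4800 (flp_c L86796) q6017, e3 q4801 L60657 q3714, e3 q4802 L60674 q3716, e3 q4803 (flp_c L87729) q6087, e3 q4804 (flp_c L87736) q6088, e3 q4805 L562506 q5673, e3 q4806 L87831 q6093, e3 q4807 L546022 q5676, e3 q4808 (flp_c L86937) q6030, e3 q4809 (flp_c L86945) q6031, e3 q4810 L60776 q3723, e3 q4811 L60782 q3724, e3 q4812 L60790 q3725, e3 q4813 L87933 q6103, e3 q4814 L60812 q3728, e3 q4815 (flp_c L87895) q6099, e3 q4816 (flp_c L87903) q6100, e3 q4817 (flp_c L87911) q6101, e3 q4818 L88002 q6110, e3 q4819 (flp_c L562774) q5659, e3 q4820 (flp_c L60867) q3726, e3 q4821 (flp_c L88027) q6113, e3 q4822 L524235 q5661, e3 q4823 L60894 q4823, e3 q4824 L60900 q4824, e3 q4825 L88063 q6118, e3 q4826 L60914 q4826, e3 q4827 L88082 q6121, e3 q4828 L60929 q4828, e3 q4829 (flp_c L60935) q3733, e3 q4830 (flp_c L88111) q6124, e3 q4831 (flp_c L88023) q6112, e3 q4832 L60961 q3736, e3 q4833 (flp_c L88143) q6128, e3 q4834 L60988 q3739, e3 q4835 L60999 q3740, e3 q4836 (flp_c L88173) q6129, e3 q4837 (flp_c L88183) q6130, e3 q4838 (flp_c L88193)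 q6131, e3 q4839 (flp_c L88212) q6132, e3 q4840 L61048 q4073, e3 q4841 L61058 q3744, e3 q4842 L61067 q3745, e3 q4843 L61076 q3746, e3 q4844 (flp_c L85863) q5909, e3 q4845 L61093 q3747, e3 q4846 (flp_c L88280) q6139, e3 q4847 (flp_c L88288) q6140, e3 q4848 (flp_c L88298) q6141, e3 q4849 (flp_c L88309) q6142, e3 q4850 (flp_c L88326) q6144, e3 q4851 L61146 q4851, e3 q4852 L61154 q4852, e3 q4853 L61164 q4853, e3 q4854 L88453 q6159, e3 q4855 L61179 q4855, e3 q4856 L61189 q4856, e3 q4857 L61198 q4857, e3 q4858 L61225 q3756, e3 q4859 L61233 q3757, e3 q4860 L61244 q3758, e3 q4861 L61260 q3759, e3 q4862 (flp_c L88538) q6163, e3 q4863 (flp_c L88547) q6164, trivial⟩ (by decide +kernel)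

theorem ce_c_76 : ∀ r, r < 64 → sm gc (Qf (4864 + r)) = Qf (tab Gen.c (4864 + r)) :=
  edges_tab (sm gc) Qf (tab Gen.c) 4864 [(4864, 6165), (4865, 6166), (4866, 6167), (4867, 4867), (4868, 3766), (4869, 3767), (4870, 3768), (4871, 3769), (4872, 5963), (4873, 3770), (4874, 5965), (4875, 5966), (4876, 6177), (4877, 6178), (4878, 6179), (4879, 6194), (4880, 6181), (4881, 6182), (4882, 6184), (4883, 4883), (4884, 4884), (4885, 4885), (4886, 6203), (4887, 4887), (4888, 3774), (4889, 6206), (4890, 4890), (4891, 3782), (4892, 3783), (4893, 3784), (4894, 3785), (4895, 3786), (4896, 6208), (4897, 6209), (4898, 6210), (4899, 6220), (4900, 6212), (4901, 6213), (4902, 6214), (4903, 3795), (4904, 3796), (4905, 3797), (4906, 6228), (4907, 3799), (4908, 3800), (4909, 6038), (4910, 3801), (4911, 6040), (4912, 6041), (4913, 6042), (4914, 6043), (4915, 6223), (4916, 6224), (4917, 6225), (4918, 6245), (4919, 6227), (4920, 3798), (4921, 6248), (4922, 6232), (4923, 4923), (4924, 4924), (4925, 6253), (4926, 4926), (4927, 6256)]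
    ⟨e3 q4864 (flp_c L88556) q6165, e3 q4865 (flp_c L88567) q6166, e3 q4866 (flp_c L88585) q6167, e3 q4867 L61315 q4867, e3 q4868 L61321 q3766, e3 q4869 L61329 q3767, e3 q4870 L61337 q3768, e3 q4871 L61347 q3769, e3 q4872 (flp_c L86317) q5963, e3 q4873 L61363 q3770, e3 q4874 (flp_c L86329) q5965, e3 q4875 (flp_c L86337) q5966, e3 q4876 (flp_c L88689) q6177, e3 q4877 (flp_c L88698) q6178, e3 q4878 (flp_c L88706) q6179, e3 q4879 L88830 q6194, e3 q4880 (flp_c L88719) q6181, e3 q4881 (flp_c L88728) q6182, e3 q4882 (flp_c L88746) q6184, e3 q4883 L61442 q4883, e3 q4884 L61452 q4884, e3 q4885 L61461 q4885, e3 q4886 L88901 q6203, e3 q4887 L61475 q4887, e3 q4888 (flp_c L61481) q3774, e3 q4889 (flp_c L88923) q6206, e3 q4890 L61496 q4890, e3 q4891 L61551 q3782, e3 q4892 L61561 q3783, e3 q4893 L61571 q3784, e3 q4894 L61581 q3785, e3 q4895 L61598 q3786, e3 q4896 (flp_c L89019) q6208, e3 q4897 (flp_c L89028) q6209, e3 q4898 (flp_c L89039) q6210, e3 q4899 L89176 q6220, e3 q4900 (flp_c L89056) q6212, e3 q4901 (flp_c L89067) q6213, e3 q4902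 (flp_c L89084) q6214, e3 q4903 L61686 q3795, e3 q4904 L61694 q3796, e3 q4905 L61704 q3797, e3 q4906 L89245 q6228, e3 q4907 L61719 q3799, e3 q4908 L61729 q3800, e3 q4909 (flp_c L86990) q6038, e3 q4910 L61744 q3801, e3 q4911 (flp_c L87002) q6040, e3 q4912 (flp_c L87009) q6041, e3 q4913 (flp_c L87018) q6042, e3 q4914 (flp_c L87025) q6043, e3 q4915 (flp_c L89205) q6223, e3 q4916 (flp_c L89214) q6224, e3 q4917 (flp_c L89222) q6225, e3 q4918 L89394 q6245, e3 q4919 (flp_c L89238) q6227, e3 q4920 (flp_c L61826) q3798, e3 q4921 (flp_c L89418) q6248, e3 q4922 (flp_c L89277) q6232, e3 q4923 L61851 q4923, e3 q4924 L61860 q4924, e3 q4925 L89457 q6253, e3 q4926 L61876 q4926, e3 q4927 L89480 q6256, trivial⟩ (by decide +kernel)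

theorem ce_c_77 : ∀ r, r < 64 → sm gc (Qf (4928 + r)) = Qf (tab Gen.c (4928 + r)) :=
  edges_tab (sm gc) Qf (tab Gen.c) 4928 [(4928, 4928), (4929, 3805), (4930, 6259), (4931, 6247), (4932, 3808), (4933, 6263), (4934, 4934), (4935, 4935), (4936, 4936), (4937, 6270), (4938, 4938), (4939, 3813), (4940, 6273), (4941, 4941), (4942, 4942), (4943, 4943), (4944, 6276), (4945, 4945), (4946, 6279), (4947, 4947), (4948, 3820), (4949, 6282), (4950, 3833), (4951, 3823), (4952, 6286), (4953, 3832), (4954, 3827), (4955, 6122), (4956, 3829), (4957, 6281), (4958, 6251), (4959, 6284), (4960, 6285), (4961, 3835), (4962, 4962), (4963, 4963), (4964, 4964), (4965, 4965), (4966, 4966), (4967, 4967), (4968, 4968), (4969, 4232), (4970, 5693), (4971, 4971), (4972, 3848), (4973, 4120), (4974, 5697), (4975, 6297), (4976, 5699), (4977, 4977), (4978, 4229), (4979, 6300), (4980, 5709), (4981, 4981), (4982, 3859), (4983, 4100), (4984, 6303), (4985, 5715), (4986, 3861), (4987, 6305), (4988, 6306), (4989, 5719), (4990, 4990), (4991, 4231)]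
    ⟨e3 q4928 L61892 q4928, e3 q4929 (flp_c L61899) q3805, e3 q4930 (flp_c L89507) q6259, e3 q4931 (flp_c L89414) q6247, e3 q4932 L61924 q3808, e3 q4933 (flp_c L89538) q6263, e3 q4934 L61942 q4934, e3 q4935 L61952 q4935, e3 q4936 L61962 q4936, e3 q4937 L89604 q6270, e3 q4938 L61980 q4938, e3 q4939 (flp_c L61986) q3813, e3 q4940 (flp_c L89630) q6273, e3 q4941 L62007 q4941, e3 q4942 L62017 q4942, e3 q4943 L62026 q4943, e3 q4944 L89672 q6276, e3 q4945 L62043 q4945, e3 q4946 L89693 q6279, e3 q4947 L62060 q4947, e3 q4948 (flp_c L62067) q3820, e3 q4949 (flp_c L89717) q6282, e3 q4950 L62085 q3833, e3 q4951 L62089 q3823, e3 q4952 (flp_c L89747) q6286, e3 q4953 (flp_c L647402) q3832, e3 q4954 (flp_c L62129) q3827, e3 q4955 L645586 q6122, e3 q4956 (flp_c L647415) q3829, e3 q4957 (flp_c L89713) q6281, e3 q4958 L647371 q6251, e3 q4959 (flp_c L89731) q6284, e3 q4960 (flp_c L89740) q6285, e3 q4961 L62205 q3835, e3 q4962 L62325 q4962, e3 q4963 L62353 q4963, e3 q4964 L62378 q4964, e3 q4965 L62388 q4965, e3 q4966 L62399 q4966, e3 q4967 L434596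 q4967, e3 q4968 L434641 q4968, e3 q4969 (flp_c L583792) q4232, e3 q4970 (flp_c L83550) q5693, e3 q4971 L62560 q4971, e3 q4972 L62566 q3848, e3 q4973 L627134 q4120, e3 q4974 (flp_c L83591) q5697, e3 q4975 L90419 q6297, e3 q4976 (flp_c L83608) q5699, e3 q4977 L437151 q4977, e3 q4978 L585909 q4229, e3 q4979 L90746 q6300, e3 q4980 (flp_c L83755) q5709, e3 q4981 L62829 q4981, e3 q4982 L62848 q3859, e3 q4983 L627217 q4100, e3 q4984 L90831 q6303, e3 q4985 (flp_c L83812) q5715, e3 q4986 (flp_c L62885) q3861, e3 q4987 (flp_c L90870) q6305, e3 q4988 (flp_c L90877) q6306, e3 q4989 (flp_c L83845) q5719, e3 q4990 L437144 q4990, e3 q4991 (flp_c L585744) q4231, trivial⟩ (by decide +kernel)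

theorem ce_c_78 : ∀ r, r < 64 → sm gc (Qf (4992 + r)) = Qf (tab Gen.c (4992 + r)) :=
  edges_tab (sm gc) Qf (tab Gen.c) 4992 [(4992, 3869), (4993, 6308), (4994, 5735), (4995, 4995), (4996, 4996), (4997, 3873), (4998, 3874), (4999, 6312), (5000, 5307), (5001, 5742), (5002, 3877), (5003, 3878), (5004, 6315), (5005, 6316), (5006, 6317), (5007, 5748), (5008, 4230), (5009, 3885), (5010, 6318), (5011, 5761), (5012, 3959), (5013, 3960), (5014, 3889), (5015, 3890), (5016, 6322), (5017, 6323), (5018, 5770), (5019, 3893), (5020, 3894), (5021, 6325), (5022, 6326), (5023, 6327), (5024, 6321), (5025, 5777), (5026, 3973), (5027, 3903), (5028, 6330), (5029, 6331), (5030, 5794), (5031, 3983), (5032, 3985), (5033, 3917), (5034, 3909), (5035, 3910), (5036, 6335), (5037, 6336), (5038, 6337), (5039, 5807), (5040, 3914), (5041, 3915), (5042, 3916), (5043, 5043), (5044, 6341), (5045, 6342), (5046, 6343), (5047, 6344), (5048, 6334), (5049, 4000), (5050, 4001), (5051, 3925), (5052, 3926), (5053, 6350), (5054, 6351), (5055, 4013)]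
    ⟨e3 q4992 (flp_c L63185) q3869, e3 q4993 (flp_c L91312) q6308, e3 q4994 (flp_c L84044) q5735, e3 q4995 L63219 q4995, e3 q4996 L63229 q4996, e3 q4997 L63255 q3873, e3 q4998 (flp_c L63262) q3874, e3 q4999 (flp_c L91421) q6312, e3 q5000 (flp_c L639994) q5307, e3 q5001 (flp_c L84117) q5742, e3 q5002 L63298 q3877, e3 q5003 L63303 q3878, e3 q5004 (flp_c L91480) q6315, e3 q5005 (flp_c L91486) q6316, e3 q5006 (flp_c L91492) q6317, e3 q5007 (flp_c L84166) q5748, e3 q5008 (flp_c L585944) q4230, e3 q5009 (flp_c L63529) q3885, e3 q5010 (flp_c L91828) q6318, e3 q5011 (flp_c L84334) q5761, e3 q5012 L63568 q3959, e3 q5013 L63579 q3960, e3 q5014 L63612 q3889, e3 q5015 (flp_c L63619) q3890, e3 q5016 (flp_c L91958) q6322, e3 q5017 (flp_c L91966) q6323, e3 q5018 (flp_c L84419) q5770, e3 q5019 L63660 q3893, e3 q5020 L63668 q3894, e3 q5021 (flp_c L92026) q6325, e3 q5022 (flp_c L92035) q6326, e3 q5023 (flp_c L92042) q6327, e3 q5024 L587185 q6321, e3 q5025 (flp_c L84476) q5777, e3 q5026 L63758 q3973, e3 q5027 L63966 q3903, e3 q5028 (flp_c L92495)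 q6330, e3 q5029 (flp_c L92504) q6331, e3 q5030 (flp_c L84714) q5794, e3 q5031 L64023 q3983, e3 q5032 L64042 q3985, e3 q5033 L551689 q3917, e3 q5034 L64083 q3909, e3 q5035 L64089 q3910, e3 q5036 (flp_c L92668) q6335, e3 q5037 (flp_c L92675) q6336, e3 q5038 (flp_c L92683) q6337, e3 q5039 (flp_c L84825) q5807, e3 q5040 L64143 q3914, e3 q5041 L64150 q3915, e3 q5042 L64158 q3916, e3 q5043 L64168 q5043, e3 q5044 (flp_c L92759) q6341, e3 q5045 (flp_c L92767) q6342, e3 q5046 (flp_c L92776) q6343, e3 q5047 (flp_c L92784) q6344, e3 q5048 L601127 q6334, e3 q5049 L64252 q4000, e3 q5050 L64272 q4001, e3 q5051 L64594 q3925, e3 q5052 L64604 q3926, e3 q5053 (flp_c L93429) q6350, e3 q5054 (flp_c L93449) q6351, e3 q5055 L64677 q4013, trivial⟩ (by decide +kernel)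

theorem ce_c_79 : ∀ r, r < 64 → sm gc (Qf (5056 + r)) = Qf (tab Gen.c (5056 + r)) :=
  edges_tab (sm gc) Qf (tab Gen.c) 5056 [(5056, 4014), (5057, 3945), (5058, 3933), (5059, 3934), (5060, 3935), (5061, 6357), (5062, 6358), (5063, 6359), (5064, 6360), (5065, 5065), (5066, 3941), (5067, 3942), (5068, 3943), (5069, 3944), (5070, 5070), (5071, 5071), (5072, 6366), (5073, 6367), (5074, 6368), (5075, 6375), (5076, 6354), (5077, 6370), (5078, 6355), (5079, 4035), (5080, 5080), (5081, 4036), (5082, 3953), (5083, 6378), (5084, 5885), (5085, 3956), (5086, 3957), (5087, 6382), (5088, 6383), (5089, 6384), (5090, 5892), (5091, 4183), (5092, 4184), (5093, 4178), (5094, 3965), (5095, 6385), (5096, 6386), (5097, 5905), (5098, 3969), (5099, 3970), (5100, 3971), (5101, 4077), (5102, 3975), (5103, 6390), (5104, 6391), (5105, 5930), (5106, 3979), (5107, 3980), (5108, 3981), (5109, 6395), (5110, 6396), (5111, 6397), (5112, 6398), (5113, 4191), (5114, 5114), (5115, 4186), (5116, 4192), (5117, 4187), (5118, 3989), (5119, 3990)]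
    ⟨e3 q5056 L64687 q4014, e3 q5057 L590817 q3945, e3 q5058 L64766 q3933, e3 q5059 L64774 q3934, e3 q5060 L64780 q3935, e3 q5061 (flp_c L93686) q6357, e3 q5062 (flp_c L93694) q6358, e3 q5063 (flp_c L93704) q6359, e3 q5064 (flp_c L93711) q6360, e3 q5065 L64852 q5065, e3 q5066 L64857 q3941, e3 q5067 L64865 q3942, e3 q5068 L64875 q3943, e3 q5069 L64882 q3944, e3 q5070 L64893 q5070, e3 q5071 L64907 q5071, e3 q5072 (flp_c L93832) q6366, e3 q5073 (flp_c L93839) q6367, e3 q5074 (flp_c L93848) q6368, e3 q5075 L93971 q6375, e3 q5076 (flp_c L545326) q6354, e3 q5077 (flp_c L93874) q6370, e3 q5078 L587419 q6355, e3 q5079 L65013 q4035, e3 q5080 L65023 q5080, e3 q5081 L65033 q4036, e3 q5082 (flp_c L65039) q3953, e3 q5083 (flp_c L94086) q6378, e3 q5084 (flp_c L85644) q5885, e3 q5085 L65085 q3956, e3 q5086 L65093 q3957, e3 q5087 (flp_c L94164) q6382, e3 q5088 (flp_c L94173) q6383, e3 q5089 (flp_c L94180) q6384, e3 q5090 (flp_c L85709) q5892, e3 q5091 (flp_c L599296) q4183, e3 q5092 L598748 q4184, e3 q5093 L601162 q4178, e3 q5094 L65209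 q3965, e3 q5095 (flp_c L94340) q6385, e3 q5096 (flp_c L94349) q6386, e3 q5097 (flp_c L85829) q5905, e3 q5098 L65280 q3969, e3 q5099 L65287 q3970, e3 q5100 L65292 q3971, e3 q5101 L65303 q4077, e3 q5102 L65433 q3975, e3 q5103 (flp_c L94662) q6390, e3 q5104 (flp_c L94671) q6391, e3 q5105 (flp_c L86039) q5930, e3 q5106 L65503 q3979, e3 q5107 L65510 q3980, e3 q5108 L65518 q3981, e3 q5109 (flp_c L94765) q6395, e3 q5110 (flp_c L94773) q6396, e3 q5111 (flp_c L94780) q6397, e3 q5112 (flp_c L94788) q6398, e3 q5113 L545141 q4191, e3 q5114 L441892 q5114, e3 q5115 (flp_c L577673) q4186, e3 q5116 L589153 q4192, e3 q5117 L600520 q4187, e3 q5118 L65662 q3989, e3 q5119 L65669 q3990, trivial⟩ (by decide +kernel)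

theorem ce_c_80 : ∀ r, r < 64 → sm gc (Qf (5120 + r)) = Qf (tab Gen.c (5120 + r)) :=
  edges_tab (sm gc) Qf (tab Gen.c) 5120 [(5120, 6400), (5121, 6401), (5122, 5122), (5123, 3996), (5124, 3997), (5125, 3998), (5126, 3999), (5127, 4093), (5128, 4094), (5129, 4003), (5130, 4004), (5131, 6409), (5132, 6410), (5133, 4043), (5134, 4009), (5135, 4010), (5136, 4011), (5137, 4012), (5138, 6415), (5139, 6416), (5140, 6417), (5141, 6421), (5142, 6419), (5143, 4198), (5144, 4199), (5145, 4225), (5146, 4193), (5147, 4202), (5148, 4194), (5149, 4060), (5150, 4022), (5151, 4023), (5152, 6424), (5153, 6425), (5154, 4065), (5155, 4066), (5156, 4031), (5157, 4032), (5158, 4033), (5159, 5159), (5160, 4034), (5161, 4104), (5162, 4105), (5163, 4106), (5164, 6408), (5165, 4039), (5166, 4041), (5167, 6439), (5168, 6440), (5169, 5629), (5170, 6444), (5171, 5630), (5172, 6413), (5173, 6414), (5174, 4048), (5175, 4049), (5176, 4050), (5177, 6454), (5178, 4052), (5179, 6450), (5180, 6451), (5181, 6452), (5182, 6455), (5183, 4051)]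
    ⟨e3 q5120 (flp_c L95003) q6400, e3 q5121 (flp_c L95020) q6401, e3 q5122 L65751 q5122, e3 q5123 L65754 q3996, e3 q5124 L65760 q3997, e3 q5125 L65767 q3998, e3 q5126 L65773 q3999, e3 q5127 L65783 q4093, e3 q5128 L65793 q4094, e3 q5129 L65955 q4003, e3 q5130 L65965 q4004, e3 q5131 (flp_c L95456) q6409, e3 q5132 (flp_c L95476) q6410, e3 q5133 L66054 q4043, e3 q5134 L66058 q4009, e3 q5135 L66066 q4010, e3 q5136 L66074 q4011, e3 q5137 L66081 q4012, e3 q5138 (flp_c L95617) q6415, e3 q5139 (flp_c L95624) q6416, e3 q5140 (flp_c L95633) q6417, e3 q5141 L95748 q6421, e3 q5142 (flp_c L95655) q6419, e3 q5143 L590109 q4198, e3 q5144 L590119 q4199, e3 q5145 L510033 q4225, e3 q5146 L589820 q4193, e3 q5147 (flp_c L560742) q4202, e3 q5148 L600398 q4194, e3 q5149 L66291 q4060, e3 q5150 L66297 q4022, e3 q5151 L66315 q4023, e3 q5152 (flp_c L95963) q6424, e3 q5153 (flp_c L95970) q6425, e3 q5154 L66426 q4065, e3 q5155 L66432 q4066, e3 q5156 L66438 q4031, e3 q5157 L66443 q4032, e3 q5158 L66450 q4033, e3 q5159 L66460 q5159, e3 q5160 L66471 q4034,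 e3 q5161 L66480 q4104, e3 q5162 L66490 q4105, e3 q5163 L66504 q4106, e3 q5164 (flp_c L95450) q6408, e3 q5165 L66652 q4039, e3 q5166 L66673 q4041, e3 q5167 (flp_c L96426) q6439, e3 q5168 (flp_c L96436) q6440, e3 q5169 (flp_c L511975) q5629, e3 q5170 L96540 q6444, e3 q5171 (flp_c L543895) q5630, e3 q5172 (flp_c L95603) q6413, e3 q5173 (flp_c L95611) q6414, e3 q5174 L66776 q4048, e3 q5175 L66785 q4049, e3 q5176 L66795 q4050, e3 q5177 L96620 q6454, e3 q5178 L66811 q4052, e3 q5179 (flp_c L96586) q6450, e3 q5180 (flp_c L96596) q6451, e3 q5181 (flp_c L96606) q6452, e3 q5182 L96701 q6455, e3 q5183 (flp_c L66875) q4051, trivial⟩ (by decide +kernel)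

theorem ce_c_81 : ∀ r, r < 64 → sm gc (Qf (5184 + r)) = Qf (tab Gen.c (5184 + r)) :=
  edges_tab (sm gc) Qf (tab Gen.c) 5184 [(5184, 5184), (5185, 6457), (5186, 6458), (5187, 4056), (5188, 6456), (5189, 6460), (5190, 4223), (5191, 4224), (5192, 6422), (5193, 6423), (5194, 4063), (5195, 4064), (5196, 6469), (5197, 6426), (5198, 6427), (5199, 6428), (5200, 6430), (5201, 4069), (5202, 4071), (5203, 4072), (5204, 6476), (5205, 6477), (5206, 5206), (5207, 4078), (5208, 4079), (5209, 4080), (5210, 4081), (5211, 6388), (5212, 6389), (5213, 5213), (5214, 4086), (5215, 4087), (5216, 6486), (5217, 5217), (5218, 5218), (5219, 4095), (5220, 4096), (5221, 6492), (5222, 4098), (5223, 6405), (5224, 6406), (5225, 6407), (5226, 4097), (5227, 6299), (5228, 6433), (5229, 6434), (5230, 6435), (5231, 6436), (5232, 5232), (5233, 4109), (5234, 6504), (5235, 5235), (5236, 5236), (5237, 4116), (5238, 4117), (5239, 6510), (5240, 5240), (5241, 5241), (5242, 5242), (5243, 4118), (5244, 6294), (5245, 5245), (5246, 6516), (5247, 5247)]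
    ⟨e3 q5184 L66895 q5184, e3 q5185 L96735 q6457, e3 q5186 L96752 q6458, e3 q5187 (flp_c L66919) q4056, e3 q5188 (flp_c L96713) q6456, e3 q5189 L96778 q6460, e3 q5190 L66947 q4223, e3 q5191 L66957 q4224, e3 q5192 (flp_c L95947) q6422, e3 q5193 (flp_c L95955) q6423, e3 q5194 L66979 q4063, e3 q5195 L66988 q4064, e3 q5196 (flp_c L96853) q6469, e3 q5197 (flp_c L96126) q6426, e3 q5198 (flp_c L96133) q6427, e3 q5199 (flp_c L96140) q6428, e3 q5200 (flp_c L96153) q6430, e3 q5201 L67031 q4069, e3 q5202 L67071 q4071, e3 q5203 L67082 q4072, e3 q5204 (flp_c L96977) q6476, e3 q5205 (flp_c L96998) q6477, e3 q5206 L67177 q5206, e3 q5207 L67181 q4078, e3 q5208 L67189 q4079, e3 q5209 L67200 q4080, e3 q5210 L67209 q4081, e3 q5211 (flp_c L94476) q6388, e3 q5212 (flp_c L94488) q6389, e3 q5213 L67446 q5213, e3 q5214 L67451 q4086, e3 q5215 L67471 q4087, e3 q5216 (flp_c L97535) q6486, e3 q5217 L67583 q5217, e3 q5218 L67591 q5218, e3 q5219 L67597 q4095, e3 q5220 L67606 q4096, e3 q5221 L97750 q6492, e3 q5222 L67631 q4098, e3 q5223 (flp_c L95195)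 q6405, e3 q5224 (flp_c L95207) q6406, e3 q5225 (flp_c L95219) q6407, e3 q5226 (flp_c L67711) q4097, e3 q5227 (flp_c L627254) q6299, e3 q5228 (flp_c L96210) q6433, e3 q5229 (flp_c L96221) q6434, e3 q5230 (flp_c L96235) q6435, e3 q5231 (flp_c L96256) q6436, e3 q5232 L68057 q5232, e3 q5233 L68063 q4109, e3 q5234 (flp_c L98325) q6504, e3 q5235 L68186 q5235, e3 q5236 L68195 q5236, e3 q5237 L68202 q4116, e3 q5238 L68210 q4117, e3 q5239 L98535 q6510, e3 q5240 L68239 q5240, e3 q5241 L68254 q5241, e3 q5242 L68271 q5242, e3 q5243 (flp_c L68320) q4118, e3 q5244 (flp_c L627113) q6294, e3 q5245 L68467 q5245, e3 q5246 L98979 q6516, e3 q5247 L68552 q5247, trivial⟩ (by decide +kernel)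

theorem ce_c_82 : ∀ r, r < 64 → sm gc (Qf (5248 + r)) = Qf (tab Gen.c (5248 + r)) :=
  edges_tab (sm gc) Qf (tab Gen.c) 5248 [(5248, 4123), (5249, 5747), (5250, 5250), (5251, 5251), (5252, 4127), (5253, 5310), (5254, 4129), (5255, 5255), (5256, 4132), (5257, 4133), (5258, 6522), (5259, 6523), (5260, 5260), (5261, 5261), (5262, 5262), (5263, 5263), (5264, 4149), (5265, 5265), (5266, 5266), (5267, 4158), (5268, 5268), (5269, 5269), (5270, 5270), (5271, 6532), (5272, 5633), (5273, 5635), (5274, 4228), (5275, 4207), (5276, 4208), (5277, 4209), (5278, 4211), (5279, 4218), (5280, 4219), (5281, 5281), (5282, 4222), (5283, 6536), (5284, 6463), (5285, 6464), (5286, 4234), (5287, 6538), (5288, 4236), (5289, 6541), (5290, 5290), (5291, 4238), (5292, 6546), (5293, 5293), (5294, 5294), (5295, 4249), (5296, 4241), (5297, 6550), (5298, 5298), (5299, 4243), (5300, 6555), (5301, 5301), (5302, 5302), (5303, 6545), (5304, 4246), (5305, 6562), (5306, 5306), (5307, 5000), (5308, 5308), (5309, 6549), (5310, 5253), (5311, 4251)]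
    ⟨e3 q5248 (flp_c L68556) q4123, e3 q5249 (flp_c L641675) q5747, e3 q5250 L68576 q5250, e3 q5251 L68599 q5251, e3 q5252 L68623 q4127, e3 q5253 (flp_c L643291) q5310, e3 q5254 L68658 q4129, e3 q5255 L68734 q5255, e3 q5256 L68764 q4132, e3 q5257 L68773 q4133, e3 q5258 (flp_c L99259) q6522, e3 q5259 (flp_c L99268) q6523, e3 q5260 L68882 q5260, e3 q5261 L68890 q5261, e3 q5262 L434549 q5262, e3 q5263 L432365 q5263, e3 q5264 (flp_c L627103) q4149, e3 q5265 L69218 q5265, e3 q5266 L402639 q5266, e3 q5267 (flp_c L627244) q4158, e3 q5268 L69726 q5268, e3 q5269 L437163 q5269, e3 q5270 L70310 q5270, e3 q5271 L108497 q6532, e3 q5272 (flp_c L561100) q5633, e3 q5273 (flp_c L563232) q5635, e3 q5274 L624225 q4228, e3 q5275 L75070 q4207, e3 q5276 L75080 q4208, e3 q5277 L75091 q4209, e3 q5278 L75109 q4211, e3 q5279 L75238 q4218, e3 q5280 L75248 q4219, e3 q5281 L75284 q5281, e3 q5282 (flp_c L75412) q4222, e3 q5283 (flp_c L109088) q6536, e3 q5284 (flp_c L96805) q6463, e3 q5285 (flp_c L96815) q6464, e3 q5286 L78568 q4234, e3 q5287 L114577 q6538,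 e3 q5288 (flp_c L79346) q4236, e3 q5289 (flp_c L114608) q6541, e3 q5290 L79374 q5290, e3 q5291 L79378 q4238, e3 q5292 (flp_c L114655) q6546, e3 q5293 L79397 q5293, e3 q5294 L79408 q5294, e3 q5295 L79417 q4249, e3 q5296 L79423 q4241, e3 q5297 (flp_c L114714) q6550, e3 q5298 L79448 q5298, e3 q5299 L79452 q4243, e3 q5300 (flp_c L114764) q6555, e3 q5301 L79471 q5301, e3 q5302 L79485 q5302, e3 q5303 (flp_c L114649) q6545, e3 q5304 L79501 q4246, e3 q5305 (flp_c L114831) q6562, e3 q5306 L79524 q5306, e3 q5307 L639994 q5000, e3 q5308 L79540 q5308, e3 q5309 (flp_c L114698) q6549, e3 q5310 L643291 q5253, e3 q5311 L79562 q4251, trivial⟩ (by decide +kernel)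

theorem ce_c_83 : ∀ r, r < 64 → sm gc (Qf (5312 + r)) = Qf (tab Gen.c (5312 + r)) :=
  edges_tab (sm gc) Qf (tab Gen.c) 5312 [(5312, 6570), (5313, 5313), (5314, 6573), (5315, 5315), (5316, 5316), (5317, 5317), (5318, 4256), (5319, 6581), (5320, 6582), (5321, 5321), (5322, 4258), (5323, 6586), (5324, 6587), (5325, 5325), (5326, 5326), (5327, 5327), (5328, 5328), (5329, 5329), (5330, 4263), (5331, 4264), (5332, 6599), (5333, 6600), (5334, 5334), (5335, 4267), (5336, 4268), (5337, 6606), (5338, 6607), (5339, 6608), (5340, 6610), (5341, 5341), (5342, 5342), (5343, 5343), (5344, 5344), (5345, 5345), (5346, 5346), (5347, 5347), (5348, 4276), (5349, 6625), (5350, 5350), (5351, 5351), (5352, 5352), (5353, 4279), (5354, 6632), (5355, 5355), (5356, 5356), (5357, 4282), (5358, 6638), (5359, 5359), (5360, 6642), (5361, 5361), (5362, 5362), (5363, 5363), (5364, 4287), (5365, 6650), (5366, 6651), (5367, 5367), (5368, 5368), (5369, 5369), (5370, 4291), (5371, 6659), (5372, 4557), (5373, 5373), (5374, 4293), (5375, 6662)]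
    ⟨e3 q5312 (flp_c L114932) q6570, e3 q5313 L79585 q5313, e3 q5314 L114961 q6573, e3 q5315 L79605 q5315, e3 q5316 L79614 q5316, e3 q5317 L79623 q5317, e3 q5318 L79633 q4256, e3 q5319 (flp_c L115038) q6581, e3 q5320 L115046 q6582, e3 q5321 L79664 q5321, e3 q5322 (flp_c L79668) q4258, e3 q5323 (flp_c L115087) q6586, e3 q5324 (flp_c L115094) q6587, e3 q5325 L79696 q5325, e3 q5326 L79705 q5326, e3 q5327 L79711 q5327, e3 q5328 L79720 q5328, e3 q5329 L79728 q5329, e3 q5330 L79738 q4263, e3 q5331 (flp_c L79745) q4264, e3 q5332 (flp_c L115196) q6599, e3 q5333 (flp_c L115205) q6600, e3 q5334 L79776 q5334, e3 q5335 L79784 q4267, e3 q5336 L79792 q4268, e3 q5337 (flp_c L115260) q6606, e3 q5338 (flp_c L115268) q6607, e3 q5339 (flp_c L115275) q6608, e3 q5340 (flp_c L115290) q6610, e3 q5341 L79833 q5341, e3 q5342 L79842 q5342, e3 q5343 L79850 q5343, e3 q5344 L79858 q5344, e3 q5345 L79866 q5345, e3 q5346 L79874 q5346, e3 q5347 L79892 q5347, e3 q5348 L79896 q4276, e3 q5349 (flp_c L115434) q6625, e3 q5350 L79916 q5350, e3 q5351 L79928 q5351,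 e3 q5352 L79938 q5352, e3 q5353 L79944 q4279, e3 q5354 (flp_c L115496) q6632, e3 q5355 L79973 q5355, e3 q5356 L79986 q5356, e3 q5357 L79992 q4282, e3 q5358 (flp_c L115565) q6638, e3 q5359 L80016 q5359, e3 q5360 L115603 q6642, e3 q5361 L80031 q5361, e3 q5362 L80039 q5362, e3 q5363 L80047 q5363, e3 q5364 L80055 q4287, e3 q5365 (flp_c L115669) q6650, e3 q5366 L115696 q6651, e3 q5367 L80091 q5367, e3 q5368 L80100 q5368, e3 q5369 L80108 q5369, e3 q5370 L80116 q4291, e3 q5371 (flp_c L115771) q6659, e3 q5372 (flp_c L641714) q4557, e3 q5373 L80148 q5373, e3 q5374 (flp_c L80151) q4293, e3 q5375 (flp_c L115814) q6662, trivial⟩ (by decide +kernel)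

theorem ce_c_84 : ∀ r, r < 64 → sm gc (Qf (5376 + r)) = Qf (tab Gen.c (5376 + r)) :=
  edges_tab (sm gc) Qf (tab Gen.c) 5376 [(5376, 4553), (5377, 5377), (5378, 5378), (5379, 5379), (5380, 5380), (5381, 5381), (5382, 4298), (5383, 6672), (5384, 5384), (5385, 4360), (5386, 4361), (5387, 4302), (5388, 6680), (5389, 6681), (5390, 5390), (5391, 4304), (5392, 6685), (5393, 6686), (5394, 5394), (5395, 4370), (5396, 4371), (5397, 4372), (5398, 4373), (5399, 4309), (5400, 4310), (5401, 6697), (5402, 6698), (5403, 5403), (5404, 4388), (5405, 4389), (5406, 4390), (5407, 4391), (5408, 4315), (5409, 4316), (5410, 6710), (5411, 6711), (5412, 5412), (5413, 4319), (5414, 4320), (5415, 6717), (5416, 6718), (5417, 6719), (5418, 6721), (5419, 5419), (5420, 4404), (5421, 4405), (5422, 4406), (5423, 4407), (5424, 4408), (5425, 4328), (5426, 4329), (5427, 6734), (5428, 6735), (5429, 6736), (5430, 6738), (5431, 5431), (5432, 4431), (5433, 4432), (5434, 4433), (5435, 4434), (5436, 4435), (5437, 5437), (5438, 4337), (5439, 4338)]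
    ⟨e3 q5376 L644650 q4553, e3 q5377 L80175 q5377, e3 q5378 L80182 q5378, e3 q5379 L80190 q5379, e3 q5380 L80197 q5380, e3 q5381 L80203 q5381, e3 q5382 L80210 q4298, e3 q5383 L115920 q6672, e3 q5384 L80242 q5384, e3 q5385 L80251 q4360, e3 q5386 L80262 q4361, e3 q5387 L80273 q4302, e3 q5388 (flp_c L116008) q6680, e3 q5389 L116016 q6681, e3 q5390 L80306 q5390, e3 q5391 (flp_c L80309) q4304, e3 q5392 (flp_c L116056) q6685, e3 q5393 (flp_c L116065) q6686, e3 q5394 L80340 q5394, e3 q5395 L80345 q4370, e3 q5396 L80354 q4371, e3 q5397 L80362 q4372, e3 q5398 L80371 q4373, e3 q5399 L80381 q4309, e3 q5400 (flp_c L80406) q4310, e3 q5401 (flp_c L116202) q6697, e3 q5402 (flp_c L116211) q6698, e3 q5403 L80438 q5403, e3 q5404 L80447 q4388, e3 q5405 L80456 q4389, e3 q5406 L80467 q4390, e3 q5407 L80475 q4391, e3 q5408 L80487 q4315, e3 q5409 (flp_c L80494) q4316, e3 q5410 (flp_c L116326) q6710, e3 q5411 (flp_c L116333) q6711, e3 q5412 L80524 q5412, e3 q5413 L80531 q4319, e3 q5414 L80538 q4320, e3 q5415 (flp_c L116383) q6717, e3 q5416 (flp_c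 L116391) q6718, e3 q5417 (flp_c L116400) q6719, e3 q5418 (flp_c L116415) q6721, e3 q5419 L80576 q5419, e3 q5420 L80582 q4404, e3 q5421 L80589 q4405, e3 q5422 L80598 q4406, e3 q5423 L80607 q4407, e3 q5424 L80616 q4408, e3 q5425 L80663 q4328, e3 q5426 L80673 q4329, e3 q5427 (flp_c L116599) q6734, e3 q5428 (flp_c L116610) q6735, e3 q5429 (flp_c L116619) q6736, e3 q5430 (flp_c L116635) q6738, e3 q5431 L80718 q5431, e3 q5432 L80727 q4431, e3 q5433 L80737 q4432, e3 q5434 L80747 q4433, e3 q5435 L80757 q4434, e3 q5436 L80765 q4435, e3 q5437 L80781 q5437, e3 q5438 L80786 q4337, e3 q5439 L80794 q4338, trivial⟩ (by decide +kernel)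

theorem ce_c_85 : ∀ r, r < 64 → sm gc (Qf (5440 + r)) = Qf (tab Gen.c (5440 + r)) :=
  edges_tab (sm gc) Qf (tab Gen.c) 5440 [(5440, 6753), (5441, 6754), (5442, 6755), (5443, 6757), (5444, 5444), (5445, 4342), (5446, 4343), (5447, 4344), (5448, 6609), (5449, 4345), (5450, 6764), (5451, 6765), (5452, 6766), (5453, 6767), (5454, 6769), (5455, 4454), (5456, 4455), (5457, 4456), (5458, 6784), (5459, 4458), (5460, 4459), (5461, 4460), (5462, 5462), (5463, 6789), (5464, 5464), (5465, 5465), (5466, 5466), (5467, 4356), (5468, 6797), (5469, 6798), (5470, 5470), (5471, 4358), (5472, 6802), (5473, 6803), (5474, 5474), (5475, 6676), (5476, 6677), (5477, 6678), (5478, 6679), (5479, 4363), (5480, 4364), (5481, 6815), (5482, 6816), (5483, 5483), (5484, 4367), (5485, 4368), (5486, 6822), (5487, 6823), (5488, 6824), (5489, 6826), (5490, 5490), (5491, 6692), (5492, 6693), (5493, 6694), (5494, 6695), (5495, 6696), (5496, 6839), (5497, 5497), (5498, 4376), (5499, 6843), (5500, 6844), (5501, 5501), (5502, 5502), (5503, 5503)]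
    ⟨e3 q5440 (flp_c L116778) q6753, e3 q5441 (flp_c L116787) q6754, e3 q5442 (flp_c L116794) q6755, e3 q5443 (flp_c L116809) q6757, e3 q5444 L80836 q5444, e3 q5445 L80843 q4342, e3 q5446 L80852 q4343, e3 q5447 L80859 q4344, e3 q5448 (flp_c L115284) q6609, e3 q5449 L80874 q4345, e3 q5450 (flp_c L116868) q6764, e3 q5451 (flp_c L116876) q6765, e3 q5452 (flp_c L116887) q6766, e3 q5453 (flp_c L116895) q6767, e3 q5454 (flp_c L116911) q6769, e3 q5455 L80918 q4454, e3 q5456 L80926 q4455, e3 q5457 L80935 q4456, e3 q5458 L117026 q6784, e3 q5459 L80951 q4458, e3 q5460 L80961 q4459, e3 q5461 L80969 q4460, e3 q5462 L80978 q5462, e3 q5463 L117073 q6789, e3 q5464 L80998 q5464, e3 q5465 L81008 q5465, e3 q5466 L81017 q5466, e3 q5467 L81027 q4356, e3 q5468 (flp_c L117152) q6797, e3 q5469 L117161 q6798, e3 q5470 L81063 q5470, e3 q5471 (flp_c L81069) q4358, e3 q5472 (flp_c L117206) q6802, e3 q5473 (flp_c L117215) q6803, e3 q5474 L81102 q5474, e3 q5475 (flp_c L115964) q6676, e3 q5476 (flp_c L115975) q6677, e3 q5477 (flp_c L115985) q6678, e3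 q5478 (flp_c L115995) q6679, e3 q5479 L81145 q4363, e3 q5480 (flp_c L81153) q4364, e3 q5481 (flp_c L117327) q6815, e3 q5482 (flp_c L117336) q6816, e3 q5483 L81188 q5483, e3 q5484 L81194 q4367, e3 q5485 L81201 q4368, e3 q5486 (flp_c L117395) q6822, e3 q5487 (flp_c L117403) q6823, e3 q5488 (flp_c L117409) q6824, e3 q5489 (flp_c L117424) q6826, e3 q5490 L81247 q5490, e3 q5491 (flp_c L116115) q6692, e3 q5492 (flp_c L116122) q6693, e3 q5493 (flp_c L116133) q6694, e3 q5494 (flp_c L116143) q6695, e3 q5495 (flp_c L116151) q6696, e3 q5496 L117530 q6839, e3 q5497 L81305 q5497, e3 q5498 (flp_c L81310) q4376, e3 q5499 (flp_c L117572) q6843, e3 q5500 (flp_c L117579) q6844, e3 q5501 L81338 q5501, e3 q5502 L81348 q5502, e3 q5503 L81355 q5503, trivial⟩ (by decide +kernel)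

theorem ce_c_86 : ∀ r, r < 64 → sm gc (Qf (5504 + r)) = Qf (tab Gen.c (5504 + r)) :=
  edges_tab (sm gc) Qf (tab Gen.c) 5504 [(5504, 5504), (5505, 5505), (5506, 4381), (5507, 4382), (5508, 6856), (5509, 6857), (5510, 5510), (5511, 4385), (5512, 4386), (5513, 6863), (5514, 6864), (5515, 6865), (5516, 6867), (5517, 5517), (5518, 6704), (5519, 6705), (5520, 6706), (5521, 6707), (5522, 6708), (5523, 5523), (5524, 4394), (5525, 4395), (5526, 6882), (5527, 6883), (5528, 6884), (5529, 6886), (5530, 5530), (5531, 4399), (5532, 4400), (5533, 4401), (5534, 5534), (5535, 4402), (5536, 6893), (5537, 6894), (5538, 6895), (5539, 6896), (5540, 6898), (5541, 6727), (5542, 6728), (5543, 6729), (5544, 6913), (5545, 6731), (5546, 6732), (5547, 6733), (5548, 4409), (5549, 6917), (5550, 6918), (5551, 5551), (5552, 4412), (5553, 4413), (5554, 6923), (5555, 6924), (5556, 6925), (5557, 6927), (5558, 5558), (5559, 5559), (5560, 5560), (5561, 5561), (5562, 5562), (5563, 5563), (5564, 5564), (5565, 4421), (5566, 4422), (5567, 6942)]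
    ⟨e3 q5504 L81364 q5504, e3 q5505 L81372 q5505, e3 q5506 L81382 q4381, e3 q5507 (flp_c L81390) q4382, e3 q5508 (flp_c L117686) q6856, e3 q5509 (flp_c L117695) q6857, e3 q5510 L81424 q5510, e3 q5511 L81432 q4385, e3 q5512 L81439 q4386, e3 q5513 (flp_c L117753) q6863, e3 q5514 (flp_c L117761) q6864, e3 q5515 (flp_c L117770) q6865, e3 q5516 (flp_c L117781) q6867, e3 q5517 L81484 q5517, e3 q5518 (flp_c L116266) q6704, e3 q5519 (flp_c L116275) q6705, e3 q5520 (flp_c L116284) q6706, e3 q5521 (flp_c L116295) q6707, e3 q5522 (flp_c L116305) q6708, e3 q5523 L81535 q5523, e3 q5524 L81540 q4394, e3 q5525 L81547 q4395, e3 q5526 (flp_c L117907) q6882, e3 q5527 (flp_c L117915) q6883, e3 q5528 (flp_c L117924) q6884, e3 q5529 (flp_c L117940) q6886, e3 q5530 L81593 q5530, e3 q5531 L81600 q4399, e3 q5532 L81606 q4400, e3 q5533 L81613 q4401, e3 q5534 L81621 q5534, e3 q5535 L81625 q4402, e3 q5536 (flp_c L117998) q6893, e3 q5537 (flp_c L118004) q6894, e3 q5538 (flp_c L118012) q6895, e3 q5539 (flp_c L118019) q6896, e3 q5540 (flp_c L118033)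 q6898, e3 q5541 (flp_c L116460) q6727, e3 q5542 (flp_c L116469) q6728, e3 q5543 (flp_c L116476) q6729, e3 q5544 L118148 q6913, e3 q5545 (flp_c L116490) q6731, e3 q5546 (flp_c L116499) q6732, e3 q5547 (flp_c L116508) q6733, e3 q5548 (flp_c L81721) q4409, e3 q5549 (flp_c L118183) q6917, e3 q5550 (flp_c L118192) q6918, e3 q5551 L81752 q5551, e3 q5552 L81761 q4412, e3 q5553 L81769 q4413, e3 q5554 (flp_c L118249) q6923, e3 q5555 (flp_c L118257) q6924, e3 q5556 (flp_c L118264) q6925, e3 q5557 (flp_c L118279) q6927, e3 q5558 L81811 q5558, e3 q5559 L81821 q5559, e3 q5560 L81830 q5560, e3 q5561 L81838 q5561, e3 q5562 L81846 q5562, e3 q5563 L81854 q5563, e3 q5564 L81869 q5564, e3 q5565 L81874 q4421, e3 q5566 L81884 q4422, e3 q5567 (flp_c L118410) q6942, trivial⟩ (by decide +kernel)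

theorem ce_c_87 : ∀ r, r < 64 → sm gc (Qf (5568 + r)) = Qf (tab Gen.c (5568 + r)) :=
  edges_tab (sm gc) Qf (tab Gen.c) 5568 [(5568, 6943), (5569, 6944), (5570, 6946), (5571, 5571), (5572, 4426), (5573, 4427), (5574, 4428), (5575, 6926), (5576, 4429), (5577, 6953), (5578, 6954), (5579, 6955), (5580, 6956), (5581, 6958), (5582, 6744), (5583, 6745), (5584, 6746), (5585, 6973), (5586, 6748), (5587, 6749), (5588, 6750), (5589, 5589), (5590, 5590), (5591, 4439), (5592, 4440), (5593, 4441), (5594, 5594), (5595, 4442), (5596, 6981), (5597, 6982), (5598, 6983), (5599, 6984), (5600, 6986), (5601, 4495), (5602, 4449), (5603, 4450), (5604, 4451), (5605, 4452), (5606, 5606), (5607, 4453), (5608, 5608), (5609, 5609), (5610, 6997), (5611, 6998), (5612, 6999), (5613, 7015), (5614, 7001), (5615, 7002), (5616, 7004), (5617, 6779), (5618, 6780), (5619, 6781), (5620, 7024), (5621, 6783), (5622, 4457), (5623, 7027), (5624, 6786), (5625, 5625), (5626, 4469), (5627, 4471), (5628, 5628), (5629, 5169), (5630, 5171), (5631, 7029)]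
    ⟨e3 q5568 (flp_c L118421) q6943, e3 q5569 (flp_c L118430) q6944, e3 q5570 (flp_c L118445) q6946, e3 q5571 L81933 q5571, e3 q5572 L81941 q4426, e3 q5573 L81950 q4427, e3 q5574 L81957 q4428, e3 q5575 (flp_c L118273) q6926, e3 q5576 L81968 q4429, e3 q5577 (flp_c L118512) q6953, e3 q5578 (flp_c L118520) q6954, e3 q5579 (flp_c L118529) q6955, e3 q5580 (flp_c L118537) q6956, e3 q5581 (flp_c L118549) q6958, e3 q5582 (flp_c L116689) q6744, e3 q5583 (flp_c L116699) q6745, e3 q5584 (flp_c L116710) q6746, e3 q5585 L118671 q6973, e3 q5586 (flp_c L116727) q6748, e3 q5587 (flp_c L116739) q6749, e3 q5588 (flp_c L116748) q6750, e3 q5589 L82079 q5589, e3 q5590 L82086 q5590, e3 q5591 L82094 q4439, e3 q5592 L82103 q4440, e3 q5593 L82110 q4441, e3 q5594 L82120 q5594, e3 q5595 L82126 q4442, e3 q5596 (flp_c L118745) q6981, e3 q5597 (flp_c L118753) q6982, e3 q5598 (flp_c L118764) q6983, e3 q5599 (flp_c L118772) q6984, e3 q5600 (flp_c L118789) q6986, e3 q5601 L82180 q4495, e3 q5602 L82185 q4449, e3 q5603 L82191 q4450, e3 q5604 L82200 q4451,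 e3 q5605 L82206 q4452, e3 q5606 L82215 q5606, e3 q5607 L82219 q4453, e3 q5608 L82226 q5608, e3 q5609 L82233 q5609, e3 q5610 (flp_c L118894) q6997, e3 q5611 (flp_c L118900) q6998, e3 q5612 (flp_c L118907) q6999, e3 q5613 L119021 q7015, e3 q5614 (flp_c L118920) q7001, e3 q5615 (flp_c L118929) q7002, e3 q5616 (flp_c L118942) q7004, e3 q5617 (flp_c L116987) q6779, e3 q5618 (flp_c L116995) q6780, e3 q5619 (flp_c L117004) q6781, e3 q5620 L119095 q7024, e3 q5621 (flp_c L117020) q6783, e3 q5622 (flp_c L82333) q4457, e3 q5623 (flp_c L119122) q7027, e3 q5624 (flp_c L117046) q6786, e3 q5625 L82450 q5625, e3 q5626 L82459 q4469, e3 q5627 L82477 q4471, e3 q5628 L82572 q5628, e3 q5629 L511975 q5169, e3 q5630 L543895 q5171, e3 q5631 (flp_c L119303) q7029, trivial⟩ (by decide +kernel)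

theorem ce_c_88 : ∀ r, r < 64 → sm gc (Qf (5632 + r)) = Qf (tab Gen.c (5632 + r)) :=
  edges_tab (sm gc) Qf (tab Gen.c) 5632 [(5632, 7030), (5633, 5272), (5634, 7037), (5635, 5273), (5636, 4789), (5637, 4791), (5638, 6952), (5639, 4478), (5640, 4480), (5641, 7042), (5642, 7043), (5643, 4782), (5644, 7048), (5645, 4783), (5646, 5646), (5647, 5647), (5648, 5648), (5649, 7055), (5650, 5650), (5651, 4485), (5652, 7058), (5653, 5653), (5654, 6980), (5655, 4491), (5656, 4493), (5657, 7062), (5658, 7063), (5659, 4819), (5660, 7068), (5661, 4822), (5662, 6995), (5663, 6996), (5664, 4500), (5665, 4501), (5666, 4502), (5667, 7078), (5668, 4505), (5669, 7074), (5670, 7075), (5671, 7076), (5672, 7085), (5673, 4805), (5674, 4503), (5675, 7088), (5676, 4807), (5677, 5677), (5678, 5678), (5679, 7093), (5680, 5680), (5681, 7096), (5682, 5682), (5683, 4510), (5684, 7099), (5685, 7087), (5686, 4513), (5687, 7103), (5688, 6539), (5689, 4516), (5690, 6542), (5691, 4518), (5692, 6554), (5693, 4970), (5694, 5694), (5695, 4521)]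
    ⟨e3 q5632 (flp_c L119312) q7030, e3 q5633 L561100 q5272, e3 q5634 L119640 q7037, e3 q5635 L563232 q5273, e3 q5636 L562830 q4789, e3 q5637 (flp_c L563559) q4791, e3 q5638 (flp_c L118507) q6952, e3 q5639 L82839 q4478, e3 q5640 L82858 q4480, e3 q5641 (flp_c L119889) q7042, e3 q5642 (flp_c L119899) q7043, e3 q5643 (flp_c L562871) q4782, e3 q5644 L120039 q7048, e3 q5645 L563240 q4783, e3 q5646 L82969 q5646, e3 q5647 L82978 q5647, e3 q5648 L82987 q5648, e3 q5649 L120117 q7055, e3 q5650 L83001 q5650, e3 q5651 (flp_c L83008) q4485, e3 q5652 (flp_c L120139) q7058, e3 q5653 L83026 q5653, e3 q5654 (flp_c L118738) q6980, e3 q5655 L83090 q4491, e3 q5656 L83109 q4493, e3 q5657 (flp_c L120255) q7062, e3 q5658 (flp_c L120264) q7063, e3 q5659 L562774 q4819, e3 q5660 L120397 q7068, e3 q5661 (flp_c L524235) q4822, e3 q5662 (flp_c L118879) q6995, e3 q5663 (flp_c L118886) q6996, e3 q5664 L83230 q4500, e3 q5665 L83238 q4501, e3 q5666 L83246 q4502, e3 q5667 L120503 q7078, e3 q5668 L83271 q4505, e3 q5669 (flp_c L120464) q7074, e3 q5670 (flp_c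 L120472) q7075, e3 q5671 (flp_c L120482) q7076, e3 q5672 L120626 q7085, e3 q5673 (flp_c L562506) q4805, e3 q5674 (flp_c L83357) q4503, e3 q5675 (flp_c L120650) q7088, e3 q5676 (flp_c L546022) q4807, e3 q5677 L83385 q5677, e3 q5678 L83393 q5678, e3 q5679 L120690 q7093, e3 q5680 L83409 q5680, e3 q5681 L120714 q7096, e3 q5682 L83425 q5682, e3 q5683 (flp_c L83431) q4510, e3 q5684 (flp_c L120740) q7099, e3 q5685 (flp_c L120646) q7087, e3 q5686 L83456 q4513, e3 q5687 (flp_c L120772) q7103, e3 q5688 L639181 q6539, e3 q5689 (flp_c L83481) q4516, e3 q5690 L639413 q6542, e3 q5691 L83517 q4518, e3 q5692 (flp_c L643513) q6554, e3 q5693 L83550 q4970, e3 q5694 L83565 q5694, e3 q5695 L83569 q4521, trivial⟩ (by decide +kernel)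

theorem ce_c_89 : ∀ r, r < 64 → sm gc (Qf (5696 + r)) = Qf (tab Gen.c (5696 + r)) :=
  edges_tab (sm gc) Qf (tab Gen.c) 5696 [(5696, 6561), (5697, 4974), (5698, 7108), (5699, 4976), (5700, 5700), (5701, 5701), (5702, 4526), (5703, 4528), (5704, 6547), (5705, 6556), (5706, 4530), (5707, 6560), (5708, 7113), (5709, 4980), (5710, 5710), (5711, 5711), (5712, 4534), (5713, 6569), (5714, 6644), (5715, 4985), (5716, 4536), (5717, 7121), (5718, 6640), (5719, 4989), (5720, 5720), (5721, 5721), (5722, 5722), (5723, 5723), (5724, 4541), (5725, 4544), (5726, 4543), (5727, 6551), (5728, 6563), (5729, 6633), (5730, 4546), (5731, 6568), (5732, 4547), (5733, 7131), (5734, 7132), (5735, 4994), (5736, 5736), (5737, 5737), (5738, 5738), (5739, 5739), (5740, 4552), (5741, 6665), (5742, 5001), (5743, 4556), (5744, 7144), (5745, 7145), (5746, 6660), (5747, 5249), (5748, 5007), (5749, 5749), (5750, 5750), (5751, 5751), (5752, 5752), (5753, 5753), (5754, 5754), (5755, 5755), (5756, 4566), (5757, 6567), (5758, 4567), (5759, 7160)]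
    ⟨e3 q5696 (flp_c L643171) q6561, e3 q5697 L83591 q4974, e3 q5698 L120969 q7108, e3 q5699 L83608 q4976, e3 q5700 L83616 q5700, e3 q5701 L83623 q5701, e3 q5702 L83631 q4526, e3 q5703 L83661 q4528, e3 q5704 L643687 q6547, e3 q5705 L643751 q6556, e3 q5706 L83713 q4530, e3 q5707 L643138 q6560, e3 q5708 L121185 q7113, e3 q5709 L83755 q4980, e3 q5710 L83766 q5710, e3 q5711 L83776 q5711, e3 q5712 L83782 q4534, e3 q5713 L643234 q6569, e3 q5714 L641937 q6644, e3 q5715 L83812 q4985, e3 q5716 (flp_c L83819) q4536, e3 q5717 (flp_c L121303) q7121, e3 q5718 (flp_c L638199) q6640, e3 q5719 L83845 q4989, e3 q5720 L83853 q5720, e3 q5721 L83861 q5721, e3 q5722 L83867 q5722, e3 q5723 L83876 q5723, e3 q5724 L83883 q4541, e3 q5725 L83914 q4544, e3 q5726 L83920 q4543, e3 q5727 (flp_c L643697) q6551, e3 q5728 L643906 q6563, e3 q5729 (flp_c L643825) q6633, e3 q5730 L83981 q4546, e3 q5731 (flp_c L643615) q6568, e3 q5732 (flp_c L84019) q4547, e3 q5733 (flp_c L121592) q7131, e3 q5734 (flp_c L121601) q7132, e3 q5735 L84044 q4994, e3 q5736 L84054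 q5736, e3 q5737 L84062 q5737, e3 q5738 L84071 q5738, e3 q5739 L84077 q5739, e3 q5740 L84084 q4552, e3 q5741 L644675 q6665, e3 q5742 L84117 q5001, e3 q5743 L84126 q4556, e3 q5744 (flp_c L121751) q7144, e3 q5745 (flp_c L121756) q7145, e3 q5746 (flp_c L645050) q6660, e3 q5747 L641675 q5249, e3 q5748 L84166 q5007, e3 q5749 L84175 q5749, e3 q5750 L84183 q5750, e3 q5751 L84189 q5751, e3 q5752 L84196 q5752, e3 q5753 L84204 q5753, e3 q5754 L84244 q5754, e3 q5755 L84253 q5755, e3 q5756 L84263 q4566, e3 q5757 L638406 q6567, e3 q5758 (flp_c L84302) q4567, e3 q5759 (flp_c L122021) q7160, trivial⟩ (by decide +kernel)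

theorem ce_c_90 : ∀ r, r < 64 → sm gc (Qf (5760 + r)) = Qf (tab Gen.c (5760 + r)) :=
  edges_tab (sm gc) Qf (tab Gen.c) 5760 [(5760, 7161), (5761, 5011), (5762, 4661), (5763, 4662), (5764, 4663), (5765, 4664), (5766, 4572), (5767, 4573), (5768, 7173), (5769, 7174), (5770, 5018), (5771, 4576), (5772, 4577), (5773, 7180), (5774, 7181), (5775, 7182), (5776, 7184), (5777, 5025), (5778, 4677), (5779, 4678), (5780, 4679), (5781, 4680), (5782, 4681), (5783, 5783), (5784, 5784), (5785, 5785), (5786, 5786), (5787, 4587), (5788, 4589), (5789, 4590), (5790, 7200), (5791, 7201), (5792, 7202), (5793, 7203), (5794, 5030), (5795, 4693), (5796, 4694), (5797, 4695), (5798, 4696), (5799, 4697), (5800, 5800), (5801, 4598), (5802, 4599), (5803, 7218), (5804, 7219), (5805, 7220), (5806, 7222), (5807, 5039), (5808, 4603), (5809, 4604), (5810, 4605), (5811, 5811), (5812, 4606), (5813, 7229), (5814, 7230), (5815, 7231), (5816, 7232), (5817, 7234), (5818, 4716), (5819, 4717), (5820, 4718), (5821, 7249), (5822, 4720), (5823, 4721)]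
    ⟨e3 q5760 (flp_c L122033) q7161, e3 q5761 L84334 q5011, e3 q5762 L84342 q4661, e3 q5763 L84351 q4662, e3 q5764 L84361 q4663, e3 q5765 L84370 q4664, e3 q5766 L84380 q4572, e3 q5767 (flp_c L84387) q4573, e3 q5768 (flp_c L122146) q7173, e3 q5769 (flp_c L122156) q7174, e3 q5770 L84419 q5018, e3 q5771 L84427 q4576, e3 q5772 L84437 q4577, e3 q5773 (flp_c L122210) q7180, e3 q5774 (flp_c L122218) q7181, e3 q5775 (flp_c L122227) q7182, e3 q5776 (flp_c L122247) q7184, e3 q5777 L84476 q5025, e3 q5778 L84485 q4677, e3 q5779 L84492 q4678, e3 q5780 L84501 q4679, e3 q5781 L84511 q4680, e3 q5782 L84520 q4681, e3 q5783 L84585 q5783, e3 q5784 L84591 q5784, e3 q5785 L84600 q5785, e3 q5786 L84608 q5786, e3 q5787 L84618 q4587, e3 q5788 L84666 q4589, e3 q5789 L84676 q4590, e3 q5790 (flp_c L122571) q7200, e3 q5791 (flp_c L122579) q7201, e3 q5792 (flp_c L122591) q7202, e3 q5793 (flp_c L122607) q7203, e3 q5794 L84714 q5030, e3 q5795 L84723 q4693, e3 q5796 L84732 q4694, e3 q5797 L84739 q4695, e3 q5798 L84750 q4696, e3 q5799 L84759 q4697, e3 q5800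 L84773 q5800, e3 q5801 L84778 q4598, e3 q5802 L84786 q4599, e3 q5803 (flp_c L122734) q7218, e3 q5804 (flp_c L122740) q7219, e3 q5805 (flp_c L122750) q7220, e3 q5806 (flp_c L122767) q7222, e3 q5807 L84825 q5039, e3 q5808 L84834 q4603, e3 q5809 L84840 q4604, e3 q5810 L84850 q4605, e3 q5811 L84860 q5811, e3 q5812 L84867 q4606, e3 q5813 (flp_c L122822) q7229, e3 q5814 (flp_c L122830) q7230, e3 q5815 (flp_c L122838) q7231, e3 q5816 (flp_c L122848) q7232, e3 q5817 (flp_c L122867) q7234, e3 q5818 L84910 q4716, e3 q5819 L84917 q4717, e3 q5820 L84924 q4718, e3 q5821 L122980 q7249, e3 q5822 L84937 q4720, e3 q5823 L84944 q4721, trivial⟩ (by decide +kernel)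

theorem ce_c_91 : ∀ r, r < 64 → sm gc (Qf (5824 + r)) = Qf (tab Gen.c (5824 + r)) :=
  edges_tab (sm gc) Qf (tab Gen.c) 5824 [(5824, 4722), (5825, 5825), (5826, 5826), (5827, 5827), (5828, 5828), (5829, 5829), (5830, 4620), (5831, 4621), (5832, 4622), (5833, 4623), (5834, 7258), (5835, 7259), (5836, 7260), (5837, 7261), (5838, 7262), (5839, 4741), (5840, 4742), (5841, 4743), (5842, 7275), (5843, 4745), (5844, 4746), (5845, 4747), (5846, 5846), (5847, 5847), (5848, 4633), (5849, 4634), (5850, 4635), (5851, 5851), (5852, 4636), (5853, 7283), (5854, 7284), (5855, 7285), (5856, 7286), (5857, 7288), (5858, 5858), (5859, 4643), (5860, 4644), (5861, 4645), (5862, 4646), (5863, 5863), (5864, 4647), (5865, 5865), (5866, 5866), (5867, 7299), (5868, 7300), (5869, 7301), (5870, 7316), (5871, 7303), (5872, 7304), (5873, 7306), (5874, 4774), (5875, 4775), (5876, 4776), (5877, 7325), (5878, 4778), (5879, 4651), (5880, 7328), (5881, 4781), (5882, 4655), (5883, 7331), (5884, 7332), (5885, 5084), (5886, 4658), (5887, 4659)]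
    ⟨e3 q5824 L84954 q4722, e3 q5825 L85062 q5825, e3 q5826 L85070 q5826, e3 q5827 L85078 q5827, e3 q5828 L85086 q5828, e3 q5829 L85094 q5829, e3 q5830 L85178 q4620, e3 q5831 L85187 q4621, e3 q5832 L85197 q4622, e3 q5833 L85213 q4623, e3 q5834 (flp_c L123342) q7258, e3 q5835 (flp_c L123352) q7259, e3 q5836 (flp_c L123361) q7260, e3 q5837 (flp_c L123372) q7261, e3 q5838 (flp_c L123389) q7262, e3 q5839 L85261 q4741, e3 q5840 L85269 q4742, e3 q5841 L85280 q4743, e3 q5842 L123509 q7275, e3 q5843 L85294 q4745, e3 q5844 L85304 q4746, e3 q5845 L85312 q4747, e3 q5846 L85324 q5846, e3 q5847 L85334 q5847, e3 q5848 L85340 q4633, e3 q5849 L85347 q4634, e3 q5850 L85355 q4635, e3 q5851 L85365 q5851, e3 q5852 L85372 q4636, e3 q5853 (flp_c L123588) q7283, e3 q5854 (flp_c L123596) q7284, e3 q5855 (flp_c L123605) q7285, e3 q5856 (flp_c L123614) q7286, e3 q5857 (flp_c L123632) q7288, e3 q5858 L85421 q5858, e3 q5859 L85428 q4643, e3 q5860 L85436 q4644, e3 q5861 L85445 q4645, e3 q5862 L85454 q4646, e3 q5863 L85465 q5863, e3 q5864 L85472 q4647,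 e3 q5865 L85481 q5865, e3 q5866 L85489 q5866, e3 q5867 (flp_c L123731) q7299, e3 q5868 (flp_c L123737) q7300, e3 q5869 (flp_c L123746) q7301, e3 q5870 L123872 q7316, e3 q5871 (flp_c L123761) q7303, e3 q5872 (flp_c L123770) q7304, e3 q5873 (flp_c L123788) q7306, e3 q5874 L85546 q4774, e3 q5875 L85554 q4775, e3 q5876 L85561 q4776, e3 q5877 L123940 q7325, e3 q5878 L85578 q4778, e3 q5879 (flp_c L85584) q4651, e3 q5880 (flp_c L123967) q7328, e3 q5881 L85602 q4781, e3 q5882 (flp_c L85608) q4655, e3 q5883 (flp_c L123993) q7331, e3 q5884 (flp_c L124005) q7332, e3 q5885 L85644 q5084, e3 q5886 L85653 q4658, e3 q5887 L85663 q4659, trivial⟩ (by decide +kernel)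

theorem ce_c_92 : ∀ r, r < 64 → sm gc (Qf (5888 + r)) = Qf (tab Gen.c (5888 + r)) :=
  edges_tab (sm gc) Qf (tab Gen.c) 5888 [(5888, 7338), (5889, 7339), (5890, 7340), (5891, 7342), (5892, 5090), (5893, 7167), (5894, 7168), (5895, 7169), (5896, 7170), (5897, 7171), (5898, 5898), (5899, 4667), (5900, 4668), (5901, 7356), (5902, 7357), (5903, 7358), (5904, 7359), (5905, 5097), (5906, 4672), (5907, 4673), (5908, 4674), (5909, 4844), (5910, 4675), (5911, 7366), (5912, 7367), (5913, 7368), (5914, 7369), (5915, 7371), (5916, 7190), (5917, 7191), (5918, 7192), (5919, 7386), (5920, 7194), (5921, 7195), (5922, 7196), (5923, 5923), (5924, 4683), (5925, 4684), (5926, 7390), (5927, 7391), (5928, 7392), (5929, 7393), (5930, 5105), (5931, 4688), (5932, 4689), (5933, 4690), (5934, 5934), (5935, 4691), (5936, 7400), (5937, 7401), (5938, 7402), (5939, 7403), (5940, 7405), (5941, 7209), (5942, 7210), (5943, 7211), (5944, 7419), (5945, 7213), (5946, 7214), (5947, 7215), (5948, 5948), (5949, 4701), (5950, 4702), (5951, 4703)]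
    ⟨e3 q5888 (flp_c L124067) q7338, e3 q5889 (flp_c L124075) q7339, e3 q5890 (flp_c L124084) q7340, e3 q5891 (flp_c L124100) q7342, e3 q5892 L85709 q5090, e3 q5893 (flp_c L122086) q7167, e3 q5894 (flp_c L122095) q7168, e3 q5895 (flp_c L122104) q7169, e3 q5896 (flp_c L122116) q7170, e3 q5897 (flp_c L122124) q7171, e3 q5898 L85767 q5898, e3 q5899 L85772 q4667, e3 q5900 L85782 q4668, e3 q5901 (flp_c L124233) q7356, e3 q5902 (flp_c L124241) q7357, e3 q5903 (flp_c L124250) q7358, e3 q5904 (flp_c L124271) q7359, e3 q5905 L85829 q5097, e3 q5906 L85839 q4672, e3 q5907 L85845 q4673, e3 q5908 L85852 q4674, e3 q5909 L85863 q4844, e3 q5910 L85869 q4675, e3 q5911 (flp_c L124333) q7366, e3 q5912 (flp_c L124339) q7367, e3 q5913 (flp_c L124347) q7368, e3 q5914 (flp_c L124356) q7369, e3 q5915 (flp_c L124373) q7371, e3 q5916 (flp_c L122295) q7190, e3 q5917 (flp_c L122301) q7191, e3 q5918 (flp_c L122310) q7192, e3 q5919 L124494 q7386, e3 q5920 (flp_c L122325) q7194, e3 q5921 (flp_c L122334) q7195, e3 q5922 (flp_c L122345) q7196, e3 q5923 L85978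 q5923, e3 q5924 L85983 q4683, e3 q5925 L85993 q4684, e3 q5926 (flp_c L124541) q7390, e3 q5927 (flp_c L124549) q7391, e3 q5928 (flp_c L124561) q7392, e3 q5929 (flp_c L124578) q7393, e3 q5930 L86039 q5105, e3 q5931 L86049 q4688, e3 q5932 L86055 q4689, e3 q5933 L86065 q4690, e3 q5934 L86073 q5934, e3 q5935 L86078 q4691, e3 q5936 (flp_c L124641) q7400, e3 q5937 (flp_c L124649) q7401, e3 q5938 (flp_c L124655) q7402, e3 q5939 (flp_c L124665) q7403, e3 q5940 (flp_c L124680) q7405, e3 q5941 (flp_c L122656) q7209, e3 q5942 (flp_c L122665) q7210, e3 q5943 (flp_c L122674) q7211, e3 q5944 L124800 q7419, e3 q5945 (flp_c L122686) q7213, e3 q5946 (flp_c L122695) q7214, e3 q5947 (flp_c L122704) q7215, e3 q5948 L86184 q5948, e3 q5949 L86198 q4701, e3 q5950 L86204 q4702, e3 q5951 L86214 q4703, trivial⟩ (by decide +kernel)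

theorem ce_c_93 : ∀ r, r < 64 → sm gc (Qf (5952 + r)) = Qf (tab Gen.c (5952 + r)) :=
  edges_tab (sm gc) Qf (tab Gen.c) 5952 [(5952, 4704), (5953, 7425), (5954, 7426), (5955, 7427), (5956, 7428), (5957, 7429), (5958, 5958), (5959, 4711), (5960, 4712), (5961, 4713), (5962, 4714), (5963, 4872), (5964, 4715), (5965, 4874), (5966, 4875), (5967, 7439), (5968, 7440), (5969, 7441), (5970, 7456), (5971, 7443), (5972, 7444), (5973, 7446), (5974, 7244), (5975, 7245), (5976, 7246), (5977, 7465), (5978, 7248), (5979, 4719), (5980, 7468), (5981, 7251), (5982, 5982), (5983, 4726), (5984, 4727), (5985, 4728), (5986, 4729), (5987, 7472), (5988, 7473), (5989, 7474), (5990, 7475), (5991, 7476), (5992, 4784), (5993, 4736), (5994, 4737), (5995, 4738), (5996, 4739), (5997, 5997), (5998, 4740), (5999, 5999), (6000, 7485), (6001, 7486), (6002, 7487), (6003, 7500), (6004, 7489), (6005, 7490), (6006, 7492), (6007, 7270), (6008, 7271), (6009, 7272), (6010, 7509), (6011, 7274), (6012, 4744), (6013, 7512), (6014, 7277), (6015, 6015)]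
    ⟨e3 q5952 L86232 q4704, e3 q5953 (flp_c L124868) q7425, e3 q5954 (flp_c L124876) q7426, e3 q5955 (flp_c L124884) q7427, e3 q5956 (flp_c L124894) q7428, e3 q5957 (flp_c L124914) q7429, e3 q5958 L86282 q5958, e3 q5959 L86287 q4711, e3 q5960 L86293 q4712, e3 q5961 L86299 q4713, e3 q5962 L86307 q4714, e3 q5963 L86317 q4872, e3 q5964 L86323 q4715, e3 q5965 L86329 q4874, e3 q5966 L86337 q4875, e3 q5967 (flp_c L125014) q7439, e3 q5968 (flp_c L125020) q7440, e3 q5969 (flp_c L125026) q7441, e3 q5970 L125144 q7456, e3 q5971 (flp_c L125036) q7443, e3 q5972 (flp_c L125042) q7444, e3 q5973 (flp_c L125060) q7446, e3 q5974 (flp_c L122941) q7244, e3 q5975 (flp_c L122950) q7245, e3 q5976 (flp_c L122959) q7246, e3 q5977 L125210 q7465, e3 q5978 (flp_c L122974) q7248, e3 q5979 (flp_c L86435) q4719, e3 q5980 (flp_c L125235) q7468, e3 q5981 (flp_c L122995) q7251, e3 q5982 L86461 q5982, e3 q5983 L86477 q4726, e3 q5984 L86486 q4727, e3 q5985 L86496 q4728, e3 q5986 L86513 q4729, e3 q5987 (flp_c L125300) q7472, e3 q5988 (flp_c L125310) q7473,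 e3 q5989 (flp_c L125319) q7474, e3 q5990 (flp_c L125330) q7475, e3 q5991 (flp_c L125348) q7476, e3 q5992 L86571 q4784, e3 q5993 L86577 q4736, e3 q5994 L86585 q4737, e3 q5995 L86592 q4738, e3 q5996 L86601 q4739, e3 q5997 L86610 q5997, e3 q5998 L86615 q4740, e3 q5999 L86630 q5999, e3 q6000 (flp_c L125458) q7485, e3 q6001 (flp_c L125464) q7486, e3 q6002 (flp_c L125473) q7487, e3 q6003 L125591 q7500, e3 q6004 (flp_c L125484) q7489, e3 q6005 (flp_c L125493) q7490, e3 q6006 (flp_c L125507) q7492, e3 q6007 (flp_c L123468) q7270, e3 q6008 (flp_c L123478) q7271, e3 q6009 (flp_c L123485) q7272, e3 q6010 L125663 q7509, e3 q6011 (flp_c L123501) q7274, e3 q6012 (flp_c L86734) q4744, e3 q6013 (flp_c L125688) q7512, e3 q6014 (flp_c L123525) q7277, e3 q6015 L86761 q6015, trivial⟩ (by decide +kernel)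

theorem ce_c_94 : ∀ r, r < 64 → sm gc (Qf (6016 + r)) = Qf (tab Gen.c (6016 + r)) :=
  edges_tab (sm gc) Qf (tab Gen.c) 6016 [(6016, 6016), (6017, 4800), (6018, 4753), (6019, 4754), (6020, 4755), (6021, 4756), (6022, 4757), (6023, 7519), (6024, 7520), (6025, 7521), (6026, 7531), (6027, 7523), (6028, 7524), (6029, 7525), (6030, 4808), (6031, 4809), (6032, 4767), (6033, 4768), (6034, 4769), (6035, 7544), (6036, 4771), (6037, 4772), (6038, 4909), (6039, 4773), (6040, 4911), (6041, 4912), (6042, 4913), (6043, 4914), (6044, 7539), (6045, 7540), (6046, 7541), (6047, 7561), (6048, 7543), (6049, 4770), (6050, 7564), (6051, 7548), (6052, 7319), (6053, 7320), (6054, 7569), (6055, 7322), (6056, 7572), (6057, 7324), (6058, 4777), (6059, 7575), (6060, 7563), (6061, 4780), (6062, 7579), (6063, 7045), (6064, 7046), (6065, 7483), (6066, 7484), (6067, 4787), (6068, 4788), (6069, 7585), (6070, 7038), (6071, 7039), (6072, 7590), (6073, 4790), (6074, 6074), (6075, 6075), (6076, 7595), (6077, 6077), (6078, 7598), (6079, 6079)]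
    ⟨e3 q6016 L86767 q6016, e3 q6017 L86796 q4800, e3 q6018 L86804 q4753, e3 q6019 L86812 q4754, e3 q6020 L86821 q4755, e3 q6021 L86830 q4756, e3 q6022 L86849 q4757, e3 q6023 (flp_c L125800) q7519, e3 q6024 (flp_c L125806) q7520, e3 q6025 (flp_c L125815) q7521, e3 q6026 L125955 q7531, e3 q6027 (flp_c L125830) q7523, e3 q6028 (flp_c L125839) q7524, e3 q6029 (flp_c L125858) q7525, e3 q6030 L86937 q4808, e3 q6031 L86945 q4809, e3 q6032 L86952 q4767, e3 q6033 L86956 q4768, e3 q6034 L86963 q4769, e3 q6035 L126052 q7544, e3 q6036 L86974 q4771, e3 q6037 L86981 q4772, e3 q6038 L86990 q4909, e3 q6039 L86996 q4773, e3 q6040 L87002 q4911, e3 q6041 L87009 q4912, e3 q6042 L87018 q4913, e3 q6043 L87025 q4914, e3 q6044 (flp_c L126021) q7539, e3 q6045 (flp_c L126027) q7540, e3 q6046 (flp_c L126033) q7541, e3 q6047 L126195 q7561, e3 q6048 (flp_c L126046) q7543, e3 q6049 (flp_c L87078) q4770, e3 q6050 (flp_c L126224) q7564, e3 q6051 (flp_c L126078) q7548, e3 q6052 (flp_c L123896) q7319, e3 q6053 (flp_c L123903) q7320, e3 q6054 L126260 q7569,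 e3 q6055 (flp_c L123918) q7322, e3 q6056 L126281 q7572, e3 q6057 (flp_c L123933) q7324, e3 q6058 (flp_c L87146) q4777, e3 q6059 (flp_c L126312) q7575, e3 q6060 (flp_c L126220) q7563, e3 q6061 L87174 q4780, e3 q6062 (flp_c L126345) q7579, e3 q6063 L546774 q7045, e3 q6064 L562885 q7046, e3 q6065 (flp_c L125441) q7483, e3 q6066 (flp_c L125451) q7484, e3 q6067 L87407 q4787, e3 q6068 L87415 q4788, e3 q6069 (flp_c L126697) q7585, e3 q6070 L563048 q7038, e3 q6071 L563014 q7039, e3 q6072 L126877 q7590, e3 q6073 (flp_c L87548) q4790, e3 q6074 L87574 q6074, e3 q6075 L87582 q6075, e3 q6076 L126937 q7595, e3 q6077 L87596 q6077, e3 q6078 L126955 q7598, e3 q6079 L87612 q6079, trivial⟩ (by decide +kernel)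

theorem ce_c_95 : ∀ r, r < 64 → sm gc (Qf (6080 + r)) = Qf (tab Gen.c (6080 + r)) :=
  edges_tab (sm gc) Qf (tab Gen.c) 6080 [(6080, 4795), (6081, 7601), (6082, 7591), (6083, 4798), (6084, 7605), (6085, 7517), (6086, 7518), (6087, 4803), (6088, 4804), (6089, 7610), (6090, 7082), (6091, 7084), (6092, 7615), (6093, 4806), (6094, 7534), (6095, 7535), (6096, 7536), (6097, 7623), (6098, 7538), (6099, 4815), (6100, 4816), (6101, 4817), (6102, 7629), (6103, 4813), (6104, 7625), (6105, 7626), (6106, 7634), (6107, 7065), (6108, 7637), (6109, 7066), (6110, 4818), (6111, 7640), (6112, 4831), (6113, 4821), (6114, 7644), (6115, 6115), (6116, 7647), (6117, 6117), (6118, 4825), (6119, 7649), (6120, 7648), (6121, 4827), (6122, 4955), (6123, 7639), (6124, 4830), (6125, 7656), (6126, 7642), (6127, 7643), (6128, 4833), (6129, 4836), (6130, 4837), (6131, 4838), (6132, 4839), (6133, 6574), (6134, 7660), (6135, 6588), (6136, 7661), (6137, 7662), (6138, 6138), (6139, 4846), (6140, 4847), (6141, 4848), (6142, 4849), (6143, 7370)]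
    ⟨e3 q6080 (flp_c L87620) q4795, e3 q6081 (flp_c L126981) q7601, e3 q6082 (flp_c L126895) q7591, e3 q6083 L87643 q4798, e3 q6084 (flp_c L127011) q7605, e3 q6085 (flp_c L125781) q7517, e3 q6086 (flp_c L125791) q7518, e3 q6087 L87729 q4803, e3 q6088 L87736 q4804, e3 q6089 (flp_c L127144) q7610, e3 q6090 (flp_c L562493) q7082, e3 q6091 (flp_c L563186) q7084, e3 q6092 L127265 q7615, e3 q6093 (flp_c L87831) q4806, e3 q6094 (flp_c L125986) q7534, e3 q6095 (flp_c L125992) q7535, e3 q6096 (flp_c L126001) q7536, e3 q6097 L127348 q7623, e3 q6098 (flp_c L126014) q7538, e3 q6099 L87895 q4815, e3 q6100 L87903 q4816, e3 q6101 L87911 q4817, e3 q6102 L127408 q7629, e3 q6103 (flp_c L87933) q4813, e3 q6104 (flp_c L127364) q7625, e3 q6105 (flp_c L127371) q7626, e3 q6106 L127468 q7634, e3 q6107 L563081 q7065, e3 q6108 L127487 q7637, e3 q6109 L562937 q7066, e3 q6110 (flp_c L88002) q4818, e3 q6111 (flp_c L127515) q7640, e3 q6112 L88023 q4831, e3 q6113 L88027 q4821, e3 q6114 (flp_c L127547) q7644, e3 q6115 L88042 q6115, e3 q6116 L127566 q7647,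 e3 q6117 L88057 q6117, e3 q6118 (flp_c L88063) q4825, e3 q6119 (flp_c L647062) q7649, e3 q6120 L647030 q7648, e3 q6121 (flp_c L88082) q4827, e3 q6122 (flp_c L645586) q4955, e3 q6123 (flp_c L127511) q7639, e3 q6124 L88111 q4830, e3 q6125 (flp_c L127671) q7656, e3 q6126 (flp_c L127531) q7642, e3 q6127 (flp_c L127540) q7643, e3 q6128 L88143 q4833, e3 q6129 L88173 q4836, e3 q6130 L88183 q4837, e3 q6131 L88193 q4838, e3 q6132 L88212 q4839, e3 q6133 (flp_c L645293) q6574, e3 q6134 (flp_c L127773) q7660, e3 q6135 (flp_c L645257) q6588, e3 q6136 (flp_c L127796) q7661, e3 q6137 (flp_c L127815) q7662, e3 q6138 L88274 q6138, e3 q6139 L88280 q4846, e3 q6140 L88288 q4847, e3 q6141 L88298 q4848, e3 q6142 L88309 q4849, e3 q6143 (flp_c L124367) q7370, trivial⟩ (by decide +kernel)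

theorem ce_c_96 : ∀ r, r < 64 → sm gc (Qf (6144 + r)) = Qf (tab Gen.c (6144 + r)) :=
  edges_tab (sm gc) Qf (tab Gen.c) 6144 [(6144, 4850), (6145, 7372), (6146, 7373), (6147, 6571), (6148, 6583), (6149, 7668), (6150, 7682), (6151, 7670), (6152, 7671), (6153, 7673), (6154, 6154), (6155, 6155), (6156, 6156), (6157, 7690), (6158, 6158), (6159, 4854), (6160, 7693), (6161, 6161), (6162, 6162), (6163, 4862), (6164, 4863), (6165, 4864), (6166, 4865), (6167, 4866), (6168, 6613), (6169, 6589), (6170, 7695), (6171, 7704), (6172, 7697), (6173, 7698), (6174, 7699), (6175, 6175), (6176, 6176), (6177, 4876), (6178, 4877), (6179, 4878), (6180, 7713), (6181, 4880), (6182, 4881), (6183, 7445), (6184, 4882), (6185, 7447), (6186, 7448), (6187, 7449), (6188, 7450), (6189, 6602), (6190, 7709), (6191, 7710), (6192, 7729), (6193, 7712), (6194, 4879), (6195, 7732), (6196, 7717), (6197, 6197), (6198, 6198), (6199, 7737), (6200, 6200), (6201, 7740), (6202, 6202), (6203, 4886), (6204, 7743), (6205, 7731), (6206, 4889), (6207, 7747)]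
    ⟨e3 q6144 L88326 q4850, e3 q6145 (flp_c L124381) q7372, e3 q6146 (flp_c L124390) q7373, e3 q6147 (flp_c L647926) q6571, e3 q6148 L647888 q6583, e3 q6149 (flp_c L127948) q7668, e3 q6150 L128083 q7682, e3 q6151 (flp_c L127963) q7670, e3 q6152 (flp_c L127974) q7671, e3 q6153 (flp_c L127992) q7673, e3 q6154 L88414 q6154, e3 q6155 L88423 q6155, e3 q6156 L88431 q6156, e3 q6157 L128162 q7690, e3 q6158 L88447 q6158, e3 q6159 (flp_c L88453) q4854, e3 q6160 (flp_c L128186) q7693, e3 q6161 L88472 q6161, e3 q6162 L88531 q6162, e3 q6163 L88538 q4862, e3 q6164 L88547 q4863, e3 q6165 L88556 q4864, e3 q6166 L88567 q4865, e3 q6167 L88585 q4866, e3 q6168 L648047 q6613, e3 q6169 (flp_c L640603) q6589, e3 q6170 (flp_c L128334) q7695, e3 q6171 L128473 q7704, e3 q6172 (flp_c L128349) q7697, e3 q6173 (flp_c L128359) q7698, e3 q6174 (flp_c L128379) q7699, e3 q6175 L88673 q6175, e3 q6176 L88682 q6176, e3 q6177 L88689 q4876, e3 q6178 L88698 q4877, e3 q6179 L88706 q4878, e3 q6180 L128581 q7713, e3 q6181 L88719 q4880, e3 q6182 L88728 q4881, e3 q6183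 (flp_c L125054) q7445, e3 q6184 L88746 q4882, e3 q6185 (flp_c L125068) q7447, e3 q6186 (flp_c L125074) q7448, e3 q6187 (flp_c L125082) q7449, e3 q6188 (flp_c L125088) q7450, e3 q6189 L647700 q6602, e3 q6190 (flp_c L128550) q7709, e3 q6191 (flp_c L128560) q7710, e3 q6192 L128728 q7729, e3 q6193 (flp_c L128574) q7712, e3 q6194 (flp_c L88830) q4879, e3 q6195 (flp_c L128749) q7732, e3 q6196 (flp_c L128609) q7717, e3 q6197 L88853 q6197, e3 q6198 L88862 q6198, e3 q6199 L128787 q7737, e3 q6200 L88879 q6200, e3 q6201 L128810 q7740, e3 q6202 L88895 q6202, e3 q6203 (flp_c L88901) q4886, e3 q6204 (flp_c L128833) q7743, e3 q6205 (flp_c L128745) q7731, e3 q6206 L88923 q4889, e3 q6207 (flp_c L128860) q7747, trivial⟩ (by decide +kernel)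

theorem ce_c_97 : ∀ r, r < 64 → sm gc (Qf (6208 + r)) = Qf (tab Gen.c (6208 + r)) :=
  edges_tab (sm gc) Qf (tab Gen.c) 6208 [(6208, 4896), (6209, 4897), (6210, 4898), (6211, 7752), (6212, 4900), (6213, 4901), (6214, 4902), (6215, 6611), (6216, 7748), (6217, 7749), (6218, 7760), (6219, 7751), (6220, 4899), (6221, 7763), (6222, 7754), (6223, 4915), (6224, 4916), (6225, 4917), (6226, 7770), (6227, 4919), (6228, 4906), (6229, 7774), (6230, 7775), (6231, 7547), (6232, 4922), (6233, 7549), (6234, 7550), (6235, 7551), (6236, 7552), (6237, 7553), (6238, 7554), (6239, 6601), (6240, 7765), (6241, 7790), (6242, 7767), (6243, 7793), (6244, 7769), (6245, 4918), (6246, 7796), (6247, 4931), (6248, 4921), (6249, 7800), (6250, 6250), (6251, 4958), (6252, 6252), (6253, 4925), (6254, 7653), (6255, 7804), (6256, 4927), (6257, 7806), (6258, 7795), (6259, 4930), (6260, 7802), (6261, 7798), (6262, 7799), (6263, 4933), (6264, 6264), (6265, 6265), (6266, 7813), (6267, 6267), (6268, 7816), (6269, 6269), (6270, 4937), (6271, 7819)]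
    ⟨e3 q6208 L89019 q4896, e3 q6209 L89028 q4897, e3 q6210 L89039 q4898, e3 q6211 L129057 q7752, e3 q6212 L89056 q4900, e3 q6213 L89067 q4901, e3 q6214 L89084 q4902, e3 q6215 L647725 q6611, e3 q6216 (flp_c L129023) q7748, e3 q6217 (flp_c L129032) q7749, e3 q6218 L129226 q7760, e3 q6219 (flp_c L129050) q7751, e3 q6220 (flp_c L89176) q4899, e3 q6221 (flp_c L129254) q7763, e3 q6222 (flp_c L129095) q7754, e3 q6223 L89205 q4915, e3 q6224 L89214 q4916, e3 q6225 L89222 q4917, e3 q6226 L129320 q7770, e3 q6227 L89238 q4919, e3 q6228 (flp_c L89245) q4906, e3 q6229 (flp_c L129352) q7774, e3 q6230 (flp_c L129358) q7775, e3 q6231 (flp_c L126072) q7547, e3 q6232 L89277 q4922, e3 q6233 (flp_c L126085) q7549, e3 q6234 (flp_c L126093) q7550, e3 q6235 (flp_c L126101) q7551, e3 q6236 (flp_c L126110) q7552, e3 q6237 (flp_c L126126) q7553, e3 q6238 (flp_c L126132) q7554, e3 q6239 L647687 q6601, e3 q6240 (flp_c L129280) q7765, e3 q6241 L129502 q7790, e3 q6242 (flp_c L129296) q7767, e3 q6243 L129525 q7793, e3 q6244 (flp_c L129312) q7769, e3 q6245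 (flp_c L89394) q4918, e3 q6246 (flp_c L129551) q7796, e3 q6247 L89414 q4931, e3 q6248 L89418 q4921, e3 q6249 (flp_c L129582) q7800, e3 q6250 L89434 q6250, e3 q6251 (flp_c L647371) q4958, e3 q6252 L89451 q6252, e3 q6253 (flp_c L89457) q4925, e3 q6254 L647261 q7653, e3 q6255 (flp_c L129651) q7804, e3 q6256 (flp_c L89480) q4927, e3 q6257 L647353 q7806, e3 q6258 (flp_c L129547) q7795, e3 q6259 L89507 q4930, e3 q6260 L647339 q7802, e3 q6261 (flp_c L129566) q7798, e3 q6262 (flp_c L129576) q7799, e3 q6263 L89538 q4933, e3 q6264 L89549 q6264, e3 q6265 L89559 q6265, e3 q6266 L129779 q7813, e3 q6267 L89578 q6267, e3 q6268 L129804 q7816, e3 q6269 L89597 q6269, e3 q6270 (flp_c L89604) q4937, e3 q6271 (flp_c L129832) q7819, trivial⟩ (by decide +kernel)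

theorem ce_c_98 : ∀ r, r < 64 → sm gc (Qf (6272 + r)) = Qf (tab Gen.c (6272 + r)) :=
  edges_tab (sm gc) Qf (tab Gen.c) 6272 [(6272, 6272), (6273, 4940), (6274, 7823), (6275, 7824), (6276, 4944), (6277, 7826), (6278, 7827), (6279, 4946), (6280, 7825), (6281, 4957), (6282, 4949), (6283, 7829), (6284, 4959), (6285, 4960), (6286, 4952), (6287, 7828), (6288, 7830), (6289, 7831), (6290, 6290), (6291, 6291), (6292, 6292), (6293, 6293), (6294, 5244), (6295, 7107), (6296, 7105), (6297, 4975), (6298, 6298), (6299, 5227), (6300, 4979), (6301, 7120), (6302, 7116), (6303, 4984), (6304, 6558), (6305, 4987), (6306, 4988), (6307, 6307), (6308, 4993), (6309, 7179), (6310, 7143), (6311, 7137), (6312, 4999), (6313, 7166), (6314, 6565), (6315, 5004), (6316, 5005), (6317, 5006), (6318, 5010), (6319, 7836), (6320, 7837), (6321, 5024), (6322, 5016), (6323, 5017), (6324, 7839), (6325, 5021), (6326, 5022), (6327, 5023), (6328, 6328), (6329, 7838), (6330, 5028), (6331, 5029), (6332, 7844), (6333, 7845), (6334, 5048), (6335, 5036)]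
    ⟨e3 q6272 L89625 q6272, e3 q6273 L89630 q4940, e3 q6274 (flp_c L129865) q7823, e3 q6275 L129888 q7824, e3 q6276 (flp_c L89672) q4944, e3 q6277 (flp_c L129922) q7826, e3 q6278 (flp_c L129927) q7827, e3 q6279 (flp_c L89693) q4946, e3 q6280 L647568 q7825, e3 q6281 L89713 q4957, e3 q6282 L89717 q4949, e3 q6283 (flp_c L129991) q7829, e3 q6284 L89731 q4959, e3 q6285 L89740 q4960, e3 q6286 L89747 q4952, e3 q6287 (flp_c L129975) q7828, e3 q6288 (flp_c L129999) q7830, e3 q6289 (flp_c L130008) q7831, e3 q6290 L90111 q6290, e3 q6291 L90122 q6291, e3 q6292 L434575 q6292, e3 q6293 L434661 q6293, e3 q6294 L627113 q5244, e3 q6295 L625400 q7107, e3 q6296 (flp_c L120907) q7105, e3 q6297 (flp_c L90419) q4975, e3 q6298 L437158 q6298, e3 q6299 L627254 q5227, e3 q6300 (flp_c L90746) q4979, e3 q6301 L625411 q7120, e3 q6302 (flp_c L121214) q7116, e3 q6303 (flp_c L90831) q4984, e3 q6304 L640001 q6558, e3 q6305 L90870 q4987, e3 q6306 L90877 q4988, e3 q6307 L435811 q6307, e3 q6308 L91312 q4993, e3 q6309 L625356 q7179, e3 q6310 L625344 q7143, e3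 q6311 (flp_c L121638) q7137, e3 q6312 L91421 q4999, e3 q6313 L622702 q7166, e3 q6314 (flp_c L639811) q6565, e3 q6315 L91480 q5004, e3 q6316 L91486 q5005, e3 q6317 L91492 q5006, e3 q6318 L91828 q5010, e3 q6319 (flp_c L133092) q7836, e3 q6320 (flp_c L133103) q7837, e3 q6321 (flp_c L587185) q5024, e3 q6322 L91958 q5016, e3 q6323 L91966 q5017, e3 q6324 (flp_c L133298) q7839, e3 q6325 L92026 q5021, e3 q6326 L92035 q5022, e3 q6327 L92042 q5023, e3 q6328 L92055 q6328, e3 q6329 (flp_c L591175) q7838, e3 q6330 L92495 q5028, e3 q6331 L92504 q5029, e3 q6332 (flp_c L134076) q7844, e3 q6333 (flp_c L134095) q7845, e3 q6334 (flp_c L601127) q5048, e3 q6335 L92668 q5036, trivial⟩ (by decide +kernel)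

theorem ce_c_99 : ∀ r, r < 64 → sm gc (Qf (6336 + r)) = Qf (tab Gen.c (6336 + r)) :=
  edges_tab (sm gc) Qf (tab Gen.c) 6336 [(6336, 5037), (6337, 5038), (6338, 7849), (6339, 7850), (6340, 7835), (6341, 5044), (6342, 5045), (6343, 5046), (6344, 5047), (6345, 6345), (6346, 6346), (6347, 7846), (6348, 7847), (6349, 6349), (6350, 5053), (6351, 5054), (6352, 7858), (6353, 7859), (6354, 5076), (6355, 5078), (6356, 6356), (6357, 5061), (6358, 5062), (6359, 5063), (6360, 5064), (6361, 7865), (6362, 7868), (6363, 7867), (6364, 6364), (6365, 6365), (6366, 5072), (6367, 5073), (6368, 5074), (6369, 7875), (6370, 5077), (6371, 6371), (6372, 6372), (6373, 6373), (6374, 7861), (6375, 5075), (6376, 7881), (6377, 7862), (6378, 5083), (6379, 7882), (6380, 7883), (6381, 7337), (6382, 5087), (6383, 5088), (6384, 5089), (6385, 5095), (6386, 5096), (6387, 6387), (6388, 5211), (6389, 5212), (6390, 5103), (6391, 5104), (6392, 7890), (6393, 7891), (6394, 6394), (6395, 5109), (6396, 5110), (6397, 5111), (6398, 5112), (6399, 6399)]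
    ⟨e3 q6336 L92675 q5037, e3 q6337 L92683 q5038, e3 q6338 (flp_c L134341) q7849, e3 q6339 (flp_c L134358) q7850, e3 q6340 (flp_c L132554) q7835, e3 q6341 L92759 q5044, e3 q6342 L92767 q5045, e3 q6343 L92776 q5046, e3 q6344 L92784 q5047, e3 q6345 L92796 q6345, e3 q6346 L92809 q6346, e3 q6347 (flp_c L552454) q7846, e3 q6348 L601109 q7847, e3 q6349 L93424 q6349, e3 q6350 L93429 q5053, e3 q6351 L93449 q5054, e3 q6352 (flp_c L135489) q7858, e3 q6353 (flp_c L135498) q7859, e3 q6354 L545326 q5076, e3 q6355 (flp_c L587419) q5078, e3 q6356 L93681 q6356, e3 q6357 L93686 q5061, e3 q6358 L93694 q5062, e3 q6359 L93704 q5063, e3 q6360 L93711 q5064, e3 q6361 (flp_c L135889) q7865, e3 q6362 L136022 q7868, e3 q6363 (flp_c L135915) q7867, e3 q6364 L93818 q6364, e3 q6365 L93825 q6365, e3 q6366 L93832 q5072, e3 q6367 L93839 q5073, e3 q6368 L93848 q5074, e3 q6369 L136133 q7875, e3 q6370 L93874 q5077, e3 q6371 L93885 q6371, e3 q6372 L93898 q6372, e3 q6373 L93914 q6373, e3 q6374 (flp_c L551572) q7861, e3 q6375 (flp_c L93971) q5075, e3 q6376 (flp_c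 L136302) q7881, e3 q6377 (flp_c L590717) q7862, e3 q6378 L94086 q5083, e3 q6379 (flp_c L136407) q7882, e3 q6380 (flp_c L136418) q7883, e3 q6381 (flp_c L124056) q7337, e3 q6382 L94164 q5087, e3 q6383 L94173 q5088, e3 q6384 L94180 q5089, e3 q6385 L94340 q5095, e3 q6386 L94349 q5096, e3 q6387 L94440 q6387, e3 q6388 L94476 q5211, e3 q6389 L94488 q5212, e3 q6390 L94662 q5103, e3 q6391 L94671 q5104, e3 q6392 (flp_c L137277) q7890, e3 q6393 (flp_c L137296) q7891, e3 q6394 L94762 q6394, e3 q6395 L94765 q5109, e3 q6396 L94773 q5110, e3 q6397 L94780 q5111, e3 q6398 L94788 q5112, e3 q6399 L94998 q6399, trivial⟩ (by decide +kernel)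

theorem ce_c_100 : ∀ r, r < 64 → sm gc (Qf (6400 + r)) = Qf (tab Gen.c (6400 + r)) :=
  edges_tab (sm gc) Qf (tab Gen.c) 6400 [(6400, 5120), (6401, 5121), (6402, 6402), (6403, 6403), (6404, 7187), (6405, 5223), (6406, 5224), (6407, 5225), (6408, 5164), (6409, 5131), (6410, 5132), (6411, 7906), (6412, 7907), (6413, 5172), (6414, 5173), (6415, 5138), (6416, 5139), (6417, 5140), (6418, 7914), (6419, 5142), (6420, 7915), (6421, 5141), (6422, 5192), (6423, 5193), (6424, 5152), (6425, 5153), (6426, 5197), (6427, 5198), (6428, 5199), (6429, 6429), (6430, 5200), (6431, 6431), (6432, 6432), (6433, 5228), (6434, 5229), (6435, 5230), (6436, 5231), (6437, 7904), (6438, 7905), (6439, 5167), (6440, 5168), (6441, 7031), (6442, 7032), (6443, 7937), (6444, 5170), (6445, 7908), (6446, 7909), (6447, 7910), (6448, 7944), (6449, 7912), (6450, 5179), (6451, 5180), (6452, 5181), (6453, 7948), (6454, 5177), (6455, 5182), (6456, 5188), (6457, 5185), (6458, 5186), (6459, 7033), (6460, 5189), (6461, 7950), (6462, 7951), (6463, 5284)]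
    ⟨e3 q6400 L95003 q5120, e3 q6401 L95020 q5121, e3 q6402 L95143 q6402, e3 q6403 L95148 q6403, e3 q6404 (flp_c L621475) q7187, e3 q6405 L95195 q5223, e3 q6406 L95207 q5224, e3 q6407 L95219 q5225, e3 q6408 L95450 q5164, e3 q6409 L95456 q5131, e3 q6410 L95476 q5132, e3 q6411 (flp_c L138441) q7906, e3 q6412 (flp_c L138450) q7907, e3 q6413 L95603 q5172, e3 q6414 L95611 q5173, e3 q6415 L95617 q5138, e3 q6416 L95624 q5139, e3 q6417 L95633 q5140, e3 q6418 L138715 q7914, e3 q6419 L95655 q5142, e3 q6420 L138853 q7915, e3 q6421 (flp_c L95748) q5141, e3 q6422 L95947 q5192, e3 q6423 L95955 q5193, e3 q6424 L95963 q5152, e3 q6425 L95970 q5153, e3 q6426 L96126 q5197, e3 q6427 L96133 q5198, e3 q6428 L96140 q5199, e3 q6429 L96148 q6429, e3 q6430 L96153 q5200, e3 q6431 L96183 q6431, e3 q6432 L96194 q6432, e3 q6433 L96210 q5228, e3 q6434 L96221 q5229, e3 q6435 L96235 q5230, e3 q6436 L96256 q5231, e3 q6437 (flp_c L138423) q7904, e3 q6438 (flp_c L138433) q7905, e3 q6439 L96426 q5167, e3 q6440 L96436 q5168, e3 q6441 L579741 q7031, e3 q6442 L580291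 q7032, e3 q6443 L139913 q7937, e3 q6444 (flp_c L96540) q5170, e3 q6445 (flp_c L138641) q7908, e3 q6446 (flp_c L138650) q7909, e3 q6447 (flp_c L138659) q7910, e3 q6448 L139971 q7944, e3 q6449 (flp_c L138671) q7912, e3 q6450 L96586 q5179, e3 q6451 L96596 q5180, e3 q6452 L96606 q5181, e3 q6453 L140026 q7948, e3 q6454 (flp_c L96620) q5177, e3 q6455 (flp_c L96701) q5182, e3 q6456 L96713 q5188, e3 q6457 (flp_c L96735) q5185, e3 q6458 (flp_c L96752) q5186, e3 q6459 (flp_c L616698) q7033, e3 q6460 (flp_c L96778) q5189, e3 q6461 (flp_c L140213) q7950, e3 q6462 (flp_c L140220) q7951, e3 q6463 L96805 q5284, trivial⟩ (by decide +kernel)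

theorem ce_c_101 : ∀ r, r < 64 → sm gc (Qf (6464 + r)) = Qf (tab Gen.c (6464 + r)) :=
  edges_tab (sm gc) Qf (tab Gen.c) 6464 [(6464, 5285), (6465, 7916), (6466, 7917), (6467, 7918), (6468, 7919), (6469, 5196), (6470, 7920), (6471, 7874), (6472, 7921), (6473, 7922), (6474, 7924), (6475, 6475), (6476, 5204), (6477, 5205), (6478, 6478), (6479, 6479), (6480, 7123), (6481, 7840), (6482, 7887), (6483, 7888), (6484, 6484), (6485, 6485), (6486, 5216), (6487, 6487), (6488, 6488), (6489, 7976), (6490, 6490), (6491, 7148), (6492, 5221), (6493, 7980), (6494, 7851), (6495, 7901), (6496, 7902), (6497, 7903), (6498, 7929), (6499, 7930), (6500, 7931), (6501, 7932), (6502, 6502), (6503, 6503), (6504, 5234), (6505, 6505), (6506, 6506), (6507, 7992), (6508, 6508), (6509, 7109), (6510, 5239), (6511, 7125), (6512, 6512), (6513, 6513), (6514, 6514), (6515, 6515), (6516, 5246), (6517, 7136), (6518, 6653), (6519, 7150), (6520, 6520), (6521, 6521), (6522, 5258), (6523, 5259), (6524, 6524), (6525, 8000), (6526, 8004), (6527, 6527)]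
    ⟨e3 q6464 L96815 q5285, e3 q6465 (flp_c L139144) q7916, e3 q6466 (flp_c L139153) q7917, e3 q6467 (flp_c L139162) q7918, e3 q6468 (flp_c L139179) q7919, e3 q6469 L96853 q5196, e3 q6470 (flp_c L139379) q7920, e3 q6471 L616224 q7874, e3 q6472 (flp_c L139392) q7921, e3 q6473 (flp_c L139399) q7922, e3 q6474 (flp_c L139413) q7924, e3 q6475 L96972 q6475, e3 q6476 L96977 q5204, e3 q6477 L96998 q5205, e3 q6478 L97131 q6478, e3 q6479 L97138 q6479, e3 q6480 (flp_c L621201) q7123, e3 q6481 L621789 q7840, e3 q6482 (flp_c L137007) q7887, e3 q6483 (flp_c L137023) q7888, e3 q6484 L97519 q6484, e3 q6485 L97528 q6485, e3 q6486 L97535 q5216, e3 q6487 L97697 q6487, e3 q6488 L97705 q6488, e3 q6489 L141501 q7976, e3 q6490 L97719 q6490, e3 q6491 L621404 q7148, e3 q6492 (flp_c L97750) q5221, e3 q6493 (flp_c L141568) q7980, e3 q6494 (flp_c L622239) q7851, e3 q6495 (flp_c L138072) q7901, e3 q6496 (flp_c L138088) q7902, e3 q6497 (flp_c L138106) q7903, e3 q6498 (flp_c L139508) q7929, e3 q6499 (flp_c L139524) q7930, e3 q6500 (flp_c L139542) q7931,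 e3 q6501 (flp_c L139564) q7932, e3 q6502 L98307 q6502, e3 q6503 L98317 q6503, e3 q6504 L98325 q5234, e3 q6505 L98481 q6505, e3 q6506 L98489 q6506, e3 q6507 L142583 q7992, e3 q6508 L98504 q6508, e3 q6509 (flp_c L621004) q7109, e3 q6510 (flp_c L98535) q5239, e3 q6511 L644875 q7125, e3 q6512 L98558 q6512, e3 q6513 L98576 q6513, e3 q6514 L98603 q6514, e3 q6515 L98878 q6515, e3 q6516 (flp_c L98979) q5246, e3 q6517 L641771 q7136, e3 q6518 (flp_c L644730) q6653, e3 q6519 L645076 q7150, e3 q6520 L99038 q6520, e3 q6521 L99062 q6521, e3 q6522 L99259 q5258, e3 q6523 L99268 q5259, e3 q6524 L99292 q6524, e3 q6525 (flp_c L143637) q8000, e3 q6526 L143906 q8004, e3 q6527 L434539 q6527, trivial⟩ (by decide +kernel)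

theorem ce_c_102 : ∀ r, r < 64 → sm gc (Qf (6528 + r)) = Qf (tab Gen.c (6528 + r)) :=
  edges_tab (sm gc) Qf (tab Gen.c) 6528 [(6528, 6528), (6529, 6529), (6530, 6530), (6531, 6531), (6532, 5271), (6533, 7956), (6534, 7034), (6535, 7035), (6536, 5283), (6537, 6537), (6538, 5287), (6539, 5688), (6540, 6540), (6541, 5289), (6542, 5690), (6543, 6543), (6544, 6544), (6545, 5303), (6546, 5292), (6547, 5704), (6548, 6548), (6549, 5309), (6550, 5297), (6551, 5727), (6552, 6552), (6553, 6553), (6554, 5692), (6555, 5300), (6556, 5705), (6557, 6557), (6558, 6304), (6559, 6559), (6560, 5707), (6561, 5696), (6562, 5305), (6563, 5728), (6564, 6564), (6565, 6314), (6566, 6566), (6567, 5757), (6568, 5731), (6569, 5713), (6570, 5312), (6571, 6147), (6572, 6572), (6573, 5314), (6574, 6133), (6575, 8009), (6576, 6576), (6577, 6577), (6578, 6578), (6579, 6579), (6580, 6580), (6581, 5319), (6582, 5320), (6583, 6148), (6584, 8015), (6585, 6585), (6586, 5323), (6587, 5324), (6588, 6135), (6589, 6169), (6590, 8018), (6591, 8020)]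
    ⟨e3 q6528 L437198 q6528, e3 q6529 L99937 q6529, e3 q6530 L402624 q6530, e3 q6531 L100706 q6531, e3 q6532 (flp_c L108497) q5271, e3 q6533 L616720 q7956, e3 q6534 L561212 q7034, e3 q6535 L561189 q7035, e3 q6536 L109088 q5283, e3 q6537 L113551 q6537, e3 q6538 (flp_c L114577) q5287, e3 q6539 (flp_c L639181) q5688, e3 q6540 L114604 q6540, e3 q6541 L114608 q5289, e3 q6542 (flp_c L639413) q5690, e3 q6543 L114626 q6543, e3 q6544 L114638 q6544, e3 q6545 L114649 q5303, e3 q6546 L114655 q5292, e3 q6547 (flp_c L643687) q5704, e3 q6548 L114691 q6548, e3 q6549 L114698 q5309, e3 q6550 L114714 q5297, e3 q6551 L643697 q5727, e3 q6552 L114732 q6552, e3 q6553 L114746 q6553, e3 q6554 L643513 q5692, e3 q6555 L114764 q5300, e3 q6556 (flp_c L643751) q5705, e3 q6557 L114786 q6557, e3 q6558 (flp_c L640001) q6304, e3 q6559 L114804 q6559, e3 q6560 (flp_c L643138) q5707, e3 q6561 L643171 q5696, e3 q6562 L114831 q5305, e3 q6563 (flp_c L643906) q5728, e3 q6564 L114862 q6564, e3 q6565 L639811 q6314, e3 q6566 L114893 q6566, e3 q6567 (flp_c L638406)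 q5757, e3 q6568 L643615 q5731, e3 q6569 (flp_c L643234) q5713, e3 q6570 L114932 q5312, e3 q6571 L647926 q6147, e3 q6572 L114955 q6572, e3 q6573 (flp_c L114961) q5314, e3 q6574 L645293 q6133, e3 q6575 (flp_c L166528) q8009, e3 q6576 L114993 q6576, e3 q6577 L115001 q6577, e3 q6578 L115009 q6578, e3 q6579 L115017 q6579, e3 q6580 L115027 q6580, e3 q6581 L115038 q5319, e3 q6582 (flp_c L115046) q5320, e3 q6583 (flp_c L647888) q6148, e3 q6584 (flp_c L166649) q8015, e3 q6585 L115078 q6585, e3 q6586 L115087 q5323, e3 q6587 L115094 q5324, e3 q6588 L645257 q6135, e3 q6589 L640603 q6169, e3 q6590 (flp_c L166721) q8018, e3 q6591 (flp_c L166736) q8020, trivial⟩ (by decide +kernel)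

theorem ce_c_103 : ∀ r, r < 64 → sm gc (Qf (6592 + r)) = Qf (tab Gen.c (6592 + r)) :=
  edges_tab (sm gc) Qf (tab Gen.c) 6592 [(6592, 6592), (6593, 6593), (6594, 6594), (6595, 6595), (6596, 6596), (6597, 6597), (6598, 6598), (6599, 5332), (6600, 5333), (6601, 6239), (6602, 6189), (6603, 8030), (6604, 8032), (6605, 6605), (6606, 5337), (6607, 5338), (6608, 5339), (6609, 5448), (6610, 5340), (6611, 6215), (6612, 8036), (6613, 6168), (6614, 8037), (6615, 8039), (6616, 6616), (6617, 6617), (6618, 6618), (6619, 8051), (6620, 6620), (6621, 6621), (6622, 6622), (6623, 6623), (6624, 6624), (6625, 5349), (6626, 8058), (6627, 6627), (6628, 8061), (6629, 6629), (6630, 6630), (6631, 6631), (6632, 5354), (6633, 5729), (6634, 8064), (6635, 6635), (6636, 6636), (6637, 6637), (6638, 5358), (6639, 8072), (6640, 5718), (6641, 6641), (6642, 5360), (6643, 8074), (6644, 5714), (6645, 6645), (6646, 6646), (6647, 6647), (6648, 6648), (6649, 6649), (6650, 5365), (6651, 5366), (6652, 8080), (6653, 6518), (6654, 6654), (6655, 6655)]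
    ⟨e3 q6592 L115136 q6592, e3 q6593 L115145 q6593, e3 q6594 L115152 q6594, e3 q6595 L115159 q6595, e3 q6596 L115168 q6596, e3 q6597 L115178 q6597, e3 q6598 L115191 q6598, e3 q6599 L115196 q5332, e3 q6600 L115205 q5333, e3 q6601 (flp_c L647687) q6239, e3 q6602 (flp_c L647700) q6189, e3 q6603 (flp_c L166880) q8030, e3 q6604 (flp_c L166897) q8032, e3 q6605 L115251 q6605, e3 q6606 L115260 q5337, e3 q6607 L115268 q5338, e3 q6608 L115275 q5339, e3 q6609 L115284 q5448, e3 q6610 L115290 q5340, e3 q6611 (flp_c L647725) q6215, e3 q6612 (flp_c L166968) q8036, e3 q6613 (flp_c L648047) q6168, e3 q6614 (flp_c L166985) q8037, e3 q6615 (flp_c L167001) q8039, e3 q6616 L115340 q6616, e3 q6617 L115347 q6617, e3 q6618 L115356 q6618, e3 q6619 L167124 q8051, e3 q6620 L115372 q6620, e3 q6621 L115381 q6621, e3 q6622 L115390 q6622, e3 q6623 L115413 q6623, e3 q6624 L115428 q6624, e3 q6625 L115434 q5349, e3 q6626 (flp_c L167207) q8058, e3 q6627 L115457 q6627, e3 q6628 L167245 q8061, e3 q6629 L115474 q6629, e3 q6630 L115480 q6630, e3 q6631 L115487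 q6631, e3 q6632 L115496 q5354, e3 q6633 L643825 q5729, e3 q6634 L167343 q8064, e3 q6635 L115535 q6635, e3 q6636 L115546 q6636, e3 q6637 L115556 q6637, e3 q6638 L115565 q5358, e3 q6639 (flp_c L167425) q8072, e3 q6640 L638199 q5718, e3 q6641 L115598 q6641, e3 q6642 (flp_c L115603) q5360, e3 q6643 (flp_c L167472) q8074, e3 q6644 (flp_c L641937) q5714, e3 q6645 L115631 q6645, e3 q6646 L115637 q6646, e3 q6647 L115647 q6647, e3 q6648 L115653 q6648, e3 q6649 L115661 q6649, e3 q6650 L115669 q5365, e3 q6651 (flp_c L115696) q5366, e3 q6652 (flp_c L167610) q8080, e3 q6653 L644730 q6518, e3 q6654 L115725 q6654, e3 q6655 L115735 q6655, trivial⟩ (by decide +kernel)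

theorem ce_c_104 : ∀ r, r < 64 → sm gc (Qf (6656 + r)) = Qf (tab Gen.c (6656 + r)) :=
  edges_tab (sm gc) Qf (tab Gen.c) 6656 [(6656, 6656), (6657, 6657), (6658, 6658), (6659, 5371), (6660, 5746), (6661, 6661), (6662, 5375), (6663, 8092), (6664, 8093), (6665, 5741), (6666, 6666), (6667, 6667), (6668, 6668), (6669, 6669), (6670, 6670), (6671, 6671), (6672, 5383), (6673, 8103), (6674, 8104), (6675, 6675), (6676, 5475), (6677, 5476), (6678, 5477), (6679, 5478), (6680, 5388), (6681, 5389), (6682, 8116), (6683, 8117), (6684, 6684), (6685, 5392), (6686, 5393), (6687, 8122), (6688, 8123), (6689, 8124), (6690, 8126), (6691, 6691), (6692, 5491), (6693, 5492), (6694, 5493), (6695, 5494), (6696, 5495), (6697, 5401), (6698, 5402), (6699, 8139), (6700, 8140), (6701, 8141), (6702, 8143), (6703, 6703), (6704, 5518), (6705, 5519), (6706, 5520), (6707, 5521), (6708, 5522), (6709, 6709), (6710, 5410), (6711, 5411), (6712, 8158), (6713, 8159), (6714, 8160), (6715, 8162), (6716, 6716), (6717, 5415), (6718, 5416), (6719, 5417)]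
    ⟨e3 q6656 L115745 q6656, e3 q6657 L115754 q6657, e3 q6658 L115761 q6658, e3 q6659 L115771 q5371, e3 q6660 L645050 q5746, e3 q6661 L115807 q6661, e3 q6662 L115814 q5375, e3 q6663 (flp_c L167782) q8092, e3 q6664 (flp_c L167789) q8093, e3 q6665 (flp_c L644675) q5741, e3 q6666 L115857 q6666, e3 q6667 L115864 q6667, e3 q6668 L115872 q6668, e3 q6669 L115880 q6669, e3 q6670 L115887 q6670, e3 q6671 L115894 q6671, e3 q6672 (flp_c L115920) q5383, e3 q6673 (flp_c L167951) q8103, e3 q6674 (flp_c L167962) q8104, e3 q6675 L115956 q6675, e3 q6676 L115964 q5475, e3 q6677 L115975 q5476, e3 q6678 L115985 q5477, e3 q6679 L115995 q5478, e3 q6680 L116008 q5388, e3 q6681 (flp_c L116016) q5389, e3 q6682 (flp_c L168088) q8116, e3 q6683 (flp_c L168097) q8117, e3 q6684 L116050 q6684, e3 q6685 L116056 q5392, e3 q6686 L116065 q5393, e3 q6687 (flp_c L168153) q8122, e3 q6688 (flp_c L168163) q8123, e3 q6689 (flp_c L168171) q8124, e3 q6690 (flp_c L168189) q8126, e3 q6691 L116108 q6691, e3 q6692 L116115 q5491, e3 q6693 L116122 q5492, e3 q6694 L116133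 q5493, e3 q6695 L116143 q5494, e3 q6696 L116151 q5495, e3 q6697 L116202 q5401, e3 q6698 L116211 q5402, e3 q6699 (flp_c L168384) q8139, e3 q6700 (flp_c L168394) q8140, e3 q6701 (flp_c L168405) q8141, e3 q6702 (flp_c L168421) q8143, e3 q6703 L116257 q6703, e3 q6704 L116266 q5518, e3 q6705 L116275 q5519, e3 q6706 L116284 q5520, e3 q6707 L116295 q5521, e3 q6708 L116305 q5522, e3 q6709 L116321 q6709, e3 q6710 L116326 q5410, e3 q6711 L116333 q5411, e3 q6712 (flp_c L168564) q8158, e3 q6713 (flp_c L168572) q8159, e3 q6714 (flp_c L168581) q8160, e3 q6715 (flp_c L168596) q8162, e3 q6716 L116376 q6716, e3 q6717 L116383 q5415, e3 q6718 L116391 q5416, e3 q6719 L116400 q5417, trivial⟩ (by decide +kernel)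

theorem ce_c_105 : ∀ r, r < 64 → sm gc (Qf (6720 + r)) = Qf (tab Gen.c (6720 + r)) :=
  edges_tab (sm gc) Qf (tab Gen.c) 6720 [(6720, 8019), (6721, 5418), (6722, 8169), (6723, 8170), (6724, 8171), (6725, 8172), (6726, 8174), (6727, 5541), (6728, 5542), (6729, 5543), (6730, 8189), (6731, 5545), (6732, 5546), (6733, 5547), (6734, 5427), (6735, 5428), (6736, 5429), (6737, 6737), (6738, 5430), (6739, 8193), (6740, 8194), (6741, 8195), (6742, 8196), (6743, 8198), (6744, 5582), (6745, 5583), (6746, 5584), (6747, 8212), (6748, 5586), (6749, 5587), (6750, 5588), (6751, 6751), (6752, 6752), (6753, 5440), (6754, 5441), (6755, 5442), (6756, 8031), (6757, 5443), (6758, 8221), (6759, 8222), (6760, 8223), (6761, 8224), (6762, 8226), (6763, 6763), (6764, 5450), (6765, 5451), (6766, 5452), (6767, 5453), (6768, 8038), (6769, 5454), (6770, 8040), (6771, 8041), (6772, 8238), (6773, 8239), (6774, 8240), (6775, 8256), (6776, 8242), (6777, 8243), (6778, 8245), (6779, 5617), (6780, 5618), (6781, 5619), (6782, 8265), (6783, 5621)]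
    ⟨e3 q6720 (flp_c L166730) q8019, e3 q6721 L116415 q5418, e3 q6722 (flp_c L168654) q8169, e3 q6723 (flp_c L168662) q8170, e3 q6724 (flp_c L168672) q8171, e3 q6725 (flp_c L168681) q8172, e3 q6726 (flp_c L168698) q8174, e3 q6727 L116460 q5541, e3 q6728 L116469 q5542, e3 q6729 L116476 q5543, e3 q6730 L168814 q8189, e3 q6731 L116490 q5545, e3 q6732 L116499 q5546, e3 q6733 L116508 q5547, e3 q6734 L116599 q5427, e3 q6735 L116610 q5428, e3 q6736 L116619 q5429, e3 q6737 L116629 q6737, e3 q6738 L116635 q5430, e3 q6739 (flp_c L168969) q8193, e3 q6740 (flp_c L168979) q8194, e3 q6741 (flp_c L168990) q8195, e3 q6742 (flp_c L169000) q8196, e3 q6743 (flp_c L169017) q8198, e3 q6744 L116689 q5582, e3 q6745 L116699 q5583, e3 q6746 L116710 q5584, e3 q6747 L169152 q8212, e3 q6748 L116727 q5586, e3 q6749 L116739 q5587, e3 q6750 L116748 q5588, e3 q6751 L116761 q6751, e3 q6752 L116770 q6752, e3 q6753 L116778 q5440, e3 q6754 L116787 q5441, e3 q6755 L116794 q5442, e3 q6756 (flp_c L166890) q8031, e3 q6757 L116809 q5443, e3 q6758 (flp_c L169241)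 q8221, e3 q6759 (flp_c L169249) q8222, e3 q6760 (flp_c L169260) q8223, e3 q6761 (flp_c L169268) q8224, e3 q6762 (flp_c L169284) q8226, e3 q6763 L116862 q6763, e3 q6764 L116868 q5450, e3 q6765 L116876 q5451, e3 q6766 L116887 q5452, e3 q6767 L116895 q5453, e3 q6768 (flp_c L166995) q8038, e3 q6769 L116911 q5454, e3 q6770 (flp_c L167010) q8040, e3 q6771 (flp_c L167018) q8041, e3 q6772 (flp_c L169385) q8238, e3 q6773 (flp_c L169393) q8239, e3 q6774 (flp_c L169402) q8240, e3 q6775 L169527 q8256, e3 q6776 (flp_c L169419) q8242, e3 q6777 (flp_c L169430) q8243, e3 q6778 (flp_c L169446) q8245, e3 q6779 L116987 q5617, e3 q6780 L116995 q5618, e3 q6781 L117004 q5619, e3 q6782 L169601 q8265, e3 q6783 L117020 q5621, trivial⟩ (by decide +kernel)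

theorem ce_c_106 : ∀ r, r < 64 → sm gc (Qf (6784 + r)) = Qf (tab Gen.c (6784 + r)) :=
  edges_tab (sm gc) Qf (tab Gen.c) 6784 [(6784, 5458), (6785, 8268), (6786, 5624), (6787, 8270), (6788, 6788), (6789, 5463), (6790, 8274), (6791, 8275), (6792, 6792), (6793, 6793), (6794, 6794), (6795, 6795), (6796, 6796), (6797, 5468), (6798, 5469), (6799, 8287), (6800, 8288), (6801, 6801), (6802, 5472), (6803, 5473), (6804, 8294), (6805, 8295), (6806, 8296), (6807, 8298), (6808, 6808), (6809, 8110), (6810, 8111), (6811, 8112), (6812, 8113), (6813, 8114), (6814, 6814), (6815, 5481), (6816, 5482), (6817, 8313), (6818, 8314), (6819, 8315), (6820, 8317), (6821, 6821), (6822, 5486), (6823, 5487), (6824, 5488), (6825, 6825), (6826, 5489), (6827, 8324), (6828, 8325), (6829, 8326), (6830, 8327), (6831, 8329), (6832, 8132), (6833, 8133), (6834, 8134), (6835, 8344), (6836, 8136), (6837, 8137), (6838, 8138), (6839, 5496), (6840, 8348), (6841, 8349), (6842, 6842), (6843, 5499), (6844, 5500), (6845, 8355), (6846, 8356), (6847, 8357)]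
    ⟨e3 q6784 (flp_c L117026) q5458, e3 q6785 (flp_c L169627) q8268, e3 q6786 L117046 q5624, e3 q6787 L169641 q8270, e3 q6788 L117066 q6788, e3 q6789 (flp_c L117073) q5463, e3 q6790 (flp_c L169686) q8274, e3 q6791 (flp_c L169695) q8275, e3 q6792 L117105 q6792, e3 q6793 L117114 q6793, e3 q6794 L117123 q6794, e3 q6795 L117131 q6795, e3 q6796 L117141 q6796, e3 q6797 L117152 q5468, e3 q6798 (flp_c L117161) q5469, e3 q6799 (flp_c L169813) q8287, e3 q6800 (flp_c L169824) q8288, e3 q6801 L117199 q6801, e3 q6802 L117206 q5472, e3 q6803 L117215 q5473, e3 q6804 (flp_c L169888) q8294, e3 q6805 (flp_c L169898) q8295, e3 q6806 (flp_c L169906) q8296, e3 q6807 (flp_c L169920) q8298, e3 q6808 L117265 q6808, e3 q6809 (flp_c L168023) q8110, e3 q6810 (flp_c L168032) q8111, e3 q6811 (flp_c L168043) q8112, e3 q6812 (flp_c L168055) q8113, e3 q6813 (flp_c L168064) q8114, e3 q6814 L117322 q6814, e3 q6815 L117327 q5481, e3 q6816 L117336 q5482, e3 q6817 (flp_c L170059) q8313, e3 q6818 (flp_c L170069) q8314, e3 q6819 (flp_c L170077) q8315, e3 q6820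 (flp_c L170096) q8317, e3 q6821 L117387 q6821, e3 q6822 L117395 q5486, e3 q6823 L117403 q5487, e3 q6824 L117409 q5488, e3 q6825 L117420 q6825, e3 q6826 L117424 q5489, e3 q6827 (flp_c L170161) q8324, e3 q6828 (flp_c L170167) q8325, e3 q6829 (flp_c L170177) q8326, e3 q6830 (flp_c L170185) q8327, e3 q6831 (flp_c L170200) q8329, e3 q6832 (flp_c L168239) q8132, e3 q6833 (flp_c L168247) q8133, e3 q6834 (flp_c L168256) q8134, e3 q6835 L170324 q8344, e3 q6836 (flp_c L168272) q8136, e3 q6837 (flp_c L168283) q8137, e3 q6838 (flp_c L168293) q8138, e3 q6839 (flp_c L117530) q5496, e3 q6840 (flp_c L170365) q8348, e3 q6841 (flp_c L170373) q8349, e3 q6842 L117562 q6842, e3 q6843 L117572 q5499, e3 q6844 L117579 q5500, e3 q6845 (flp_c L170431) q8355, e3 q6846 (flp_c L170438) q8356, e3 q6847 (flp_c L170447) q8357, trivial⟩ (by decide +kernel)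

theorem ce_c_107 : ∀ r, r < 64 → sm gc (Qf (6848 + r)) = Qf (tab Gen.c (6848 + r)) :=
  edges_tab (sm gc) Qf (tab Gen.c) 6848 [(6848, 8359), (6849, 6849), (6850, 6850), (6851, 6851), (6852, 6852), (6853, 6853), (6854, 6854), (6855, 6855), (6856, 5508), (6857, 5509), (6858, 8374), (6859, 8375), (6860, 8376), (6861, 8378), (6862, 6862), (6863, 5513), (6864, 5514), (6865, 5515), (6866, 8358), (6867, 5516), (6868, 8385), (6869, 8386), (6870, 8387), (6871, 8388), (6872, 8390), (6873, 8149), (6874, 8150), (6875, 8151), (6876, 8405), (6877, 8153), (6878, 8154), (6879, 8155), (6880, 6880), (6881, 6881), (6882, 5526), (6883, 5527), (6884, 5528), (6885, 6885), (6886, 5529), (6887, 8413), (6888, 8414), (6889, 8415), (6890, 8416), (6891, 8418), (6892, 6892), (6893, 5536), (6894, 5537), (6895, 5538), (6896, 5539), (6897, 6897), (6898, 5540), (6899, 6899), (6900, 6900), (6901, 8429), (6902, 8430), (6903, 8431), (6904, 8447), (6905, 8433), (6906, 8434), (6907, 8436), (6908, 8184), (6909, 8185), (6910, 8186), (6911, 8456)]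
    ⟨e3 q6848 (flp_c L170462) q8359, e3 q6849 L117622 q6849, e3 q6850 L117632 q6850, e3 q6851 L117640 q6851, e3 q6852 L117647 q6852, e3 q6853 L117656 q6853, e3 q6854 L117666 q6854, e3 q6855 L117681 q6855, e3 q6856 L117686 q5508, e3 q6857 L117695 q5509, e3 q6858 (flp_c L170593) q8374, e3 q6859 (flp_c L170603) q8375, e3 q6860 (flp_c L170614) q8376, e3 q6861 (flp_c L170629) q8378, e3 q6862 L117745 q6862, e3 q6863 L117753 q5513, e3 q6864 L117761 q5514, e3 q6865 L117770 q5515, e3 q6866 (flp_c L170456) q8358, e3 q6867 L117781 q5516, e3 q6868 (flp_c L170695) q8385, e3 q6869 (flp_c L170703) q8386, e3 q6870 (flp_c L170711) q8387, e3 q6871 (flp_c L170720) q8388, e3 q6872 (flp_c L170733) q8390, e3 q6873 (flp_c L168476) q8149, e3 q6874 (flp_c L168487) q8150, e3 q6875 (flp_c L168496) q8151, e3 q6876 L170856 q8405, e3 q6877 (flp_c L168511) q8153, e3 q6878 (flp_c L168522) q8154, e3 q6879 (flp_c L168532) q8155, e3 q6880 L117892 q6880, e3 q6881 L117898 q6881, e3 q6882 L117907 q5526, e3 q6883 L117915 q5527, e3 q6884 L117924 q5528, e3 q6885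 L117934 q6885, e3 q6886 L117940 q5529, e3 q6887 (flp_c L170928) q8413, e3 q6888 (flp_c L170936) q8414, e3 q6889 (flp_c L170946) q8415, e3 q6890 (flp_c L170955) q8416, e3 q6891 (flp_c L170973) q8418, e3 q6892 L117994 q6892, e3 q6893 L117998 q5536, e3 q6894 L118004 q5537, e3 q6895 L118012 q5538, e3 q6896 L118019 q5539, e3 q6897 L118029 q6897, e3 q6898 L118033 q5540, e3 q6899 L118039 q6899, e3 q6900 L118047 q6900, e3 q6901 (flp_c L171075) q8429, e3 q6902 (flp_c L171083) q8430, e3 q6903 (flp_c L171089) q8431, e3 q6904 L171206 q8447, e3 q6905 (flp_c L171101) q8433, e3 q6906 (flp_c L171109) q8434, e3 q6907 (flp_c L171125) q8436, e3 q6908 (flp_c L168774) q8184, e3 q6909 (flp_c L168783) q8185, e3 q6910 (flp_c L168794) q8186, e3 q6911 L171278 q8456, trivial⟩ (by decide +kernel)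

theorem ce_c_108 : ∀ r, r < 64 → sm gc (Qf (6912 + r)) = Qf (tab Gen.c (6912 + r)) :=
  edges_tab (sm gc) Qf (tab Gen.c) 6912 [(6912, 8188), (6913, 5544), (6914, 8459), (6915, 8191), (6916, 6916), (6917, 5549), (6918, 5550), (6919, 8463), (6920, 8464), (6921, 8466), (6922, 6922), (6923, 5554), (6924, 5555), (6925, 5556), (6926, 5575), (6927, 5557), (6928, 8470), (6929, 8471), (6930, 8472), (6931, 8473), (6932, 8475), (6933, 6933), (6934, 6934), (6935, 6935), (6936, 8489), (6937, 6937), (6938, 6938), (6939, 6939), (6940, 6940), (6941, 6941), (6942, 5567), (6943, 5568), (6944, 5569), (6945, 8465), (6946, 5570), (6947, 8496), (6948, 8497), (6949, 8498), (6950, 8499), (6951, 8501), (6952, 5638), (6953, 5577), (6954, 5578), (6955, 5579), (6956, 5580), (6957, 8474), (6958, 5581), (6959, 8476), (6960, 8477), (6961, 8511), (6962, 8512), (6963, 8513), (6964, 8529), (6965, 8515), (6966, 8516), (6967, 8518), (6968, 8207), (6969, 8208), (6970, 8209), (6971, 8538), (6972, 8211), (6973, 5585), (6974, 8541), (6975, 8214)]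
    ⟨e3 q6912 (flp_c L168808) q8188, e3 q6913 (flp_c L118148) q5544, e3 q6914 (flp_c L171302) q8459, e3 q6915 (flp_c L168831) q8191, e3 q6916 L118178 q6916, e3 q6917 L118183 q5549, e3 q6918 L118192 q5550, e3 q6919 (flp_c L171344) q8463, e3 q6920 (flp_c L171352) q8464, e3 q6921 (flp_c L171369) q8466, e3 q6922 L118239 q6922, e3 q6923 L118249 q5554, e3 q6924 L118257 q5555, e3 q6925 L118264 q5556, e3 q6926 L118273 q5575, e3 q6927 L118279 q5557, e3 q6928 (flp_c L171434) q8470, e3 q6929 (flp_c L171442) q8471, e3 q6930 (flp_c L171451) q8472, e3 q6931 (flp_c L171459) q8473, e3 q6932 (flp_c L171475) q8475, e3 q6933 L118330 q6933, e3 q6934 L118338 q6934, e3 q6935 L118348 q6935, e3 q6936 L171603 q8489, e3 q6937 L118365 q6937, e3 q6938 L118374 q6938, e3 q6939 L118383 q6939, e3 q6940 L118393 q6940, e3 q6941 L118402 q6941, e3 q6942 L118410 q5567, e3 q6943 L118421 q5568, e3 q6944 L118430 q5569, e3 q6945 (flp_c L171362) q8465, e3 q6946 L118445 q5570, e3 q6947 (flp_c L171690) q8496, e3 q6948 (flp_c L171700) q8497, e3 q6949 (flp_c L171711)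 q8498, e3 q6950 (flp_c L171721) q8499, e3 q6951 (flp_c L171737) q8501, e3 q6952 L118507 q5638, e3 q6953 L118512 q5577, e3 q6954 L118520 q5578, e3 q6955 L118529 q5579, e3 q6956 L118537 q5580, e3 q6957 (flp_c L171469) q8474, e3 q6958 L118549 q5581, e3 q6959 (flp_c L171484) q8476, e3 q6960 (flp_c L171492) q8477, e3 q6961 (flp_c L171849) q8511, e3 q6962 (flp_c L171857) q8512, e3 q6963 (flp_c L171866) q8513, e3 q6964 L171983 q8529, e3 q6965 (flp_c L171879) q8515, e3 q6966 (flp_c L171890) q8516, e3 q6967 (flp_c L171902) q8518, e3 q6968 (flp_c L169108) q8207, e3 q6969 (flp_c L169118) q8208, e3 q6970 (flp_c L169127) q8209, e3 q6971 L172061 q8538, e3 q6972 (flp_c L169144) q8211, e3 q6973 (flp_c L118671) q5585, e3 q6974 (flp_c L172085) q8541, e3 q6975 (flp_c L169174) q8214, trivial⟩ (by decide +kernel)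

theorem ce_c_109 : ∀ r, r < 64 → sm gc (Qf (6976 + r)) = Qf (tab Gen.c (6976 + r)) :=
  edges_tab (sm gc) Qf (tab Gen.c) 6976 [(6976, 6976), (6977, 6977), (6978, 6978), (6979, 6979), (6980, 5654), (6981, 5596), (6982, 5597), (6983, 5598), (6984, 5599), (6985, 6985), (6986, 5600), (6987, 6987), (6988, 8551), (6989, 8552), (6990, 8553), (6991, 8567), (6992, 8555), (6993, 8556), (6994, 8558), (6995, 5662), (6996, 5663), (6997, 5610), (6998, 5611), (6999, 5612), (7000, 8580), (7001, 5614), (7002, 5615), (7003, 7003), (7004, 5616), (7005, 7005), (7006, 7006), (7007, 7007), (7008, 7008), (7009, 7009), (7010, 8575), (7011, 8576), (7012, 8577), (7013, 8599), (7014, 8579), (7015, 5613), (7016, 8602), (7017, 8584), (7018, 8259), (7019, 8260), (7020, 8607), (7021, 8262), (7022, 8610), (7023, 8264), (7024, 5620), (7025, 8613), (7026, 8601), (7027, 5623), (7028, 8617), (7029, 5631), (7030, 5632), (7031, 6441), (7032, 6442), (7033, 6459), (7034, 6534), (7035, 6535), (7036, 8620), (7037, 5634), (7038, 6070), (7039, 6071)]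
    ⟨e3 q6976 L118699 q6976, e3 q6977 L118707 q6977, e3 q6978 L118713 q6978, e3 q6979 L118727 q6979, e3 q6980 L118738 q5654, e3 q6981 L118745 q5596, e3 q6982 L118753 q5597, e3 q6983 L118764 q5598, e3 q6984 L118772 q5599, e3 q6985 L118783 q6985, e3 q6986 L118789 q5600, e3 q6987 L118807 q6987, e3 q6988 (flp_c L172199) q8551, e3 q6989 (flp_c L172207) q8552, e3 q6990 (flp_c L172216) q8553, e3 q6991 L172355 q8567, e3 q6992 (flp_c L172233) q8555, e3 q6993 (flp_c L172244) q8556, e3 q6994 (flp_c L172261) q8558, e3 q6995 L118879 q5662, e3 q6996 L118886 q5663, e3 q6997 L118894 q5610, e3 q6998 L118900 q5611, e3 q6999 L118907 q5612, e3 q7000 L172458 q8580, e3 q7001 L118920 q5614, e3 q7002 L118929 q5615, e3 q7003 L118938 q7003, e3 q7004 L118942 q5616, e3 q7005 L118948 q7005, e3 q7006 L118953 q7006, e3 q7007 L118961 q7007, e3 q7008 L118968 q7008, e3 q7009 L118976 q7009, e3 q7010 (flp_c L172425) q8575, e3 q7011 (flp_c L172431) q8576, e3 q7012 (flp_c L172439) q8577, e3 q7013 L172599 q8599, e3 q7014 (flp_c L172452) q8579, e3 q7015 (flp_c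 L119021) q5613, e3 q7016 (flp_c L172627) q8602, e3 q7017 (flp_c L172486) q8584, e3 q7018 (flp_c L169552) q8259, e3 q7019 (flp_c L169561) q8260, e3 q7020 L172667 q8607, e3 q7021 (flp_c L169578) q8262, e3 q7022 L172693 q8610, e3 q7023 (flp_c L169594) q8264, e3 q7024 (flp_c L119095) q5620, e3 q7025 (flp_c L172721) q8613, e3 q7026 (flp_c L172623) q8601, e3 q7027 L119122 q5623, e3 q7028 (flp_c L172754) q8617, e3 q7029 L119303 q5631, e3 q7030 L119312 q5632, e3 q7031 (flp_c L579741) q6441, e3 q7032 (flp_c L580291) q6442, e3 q7033 L616698 q6459, e3 q7034 (flp_c L561212) q6534, e3 q7035 (flp_c L561189) q6535, e3 q7036 L173510 q8620, e3 q7037 (flp_c L119640) q5634, e3 q7038 (flp_c L563048) q6070, e3 q7039 (flp_c L563014) q6071, trivial⟩ (by decide +kernel)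

theorem ce_c_110 : ∀ r, r < 64 → sm gc (Qf (7040 + r)) = Qf (tab Gen.c (7040 + r)) :=
  edges_tab (sm gc) Qf (tab Gen.c) 7040 [(7040, 8509), (7041, 8510), (7042, 5641), (7043, 5642), (7044, 8627), (7045, 6063), (7046, 6064), (7047, 8632), (7048, 5644), (7049, 7049), (7050, 7050), (7051, 8637), (7052, 7052), (7053, 8640), (7054, 7054), (7055, 5649), (7056, 8643), (7057, 8633), (7058, 5652), (7059, 8647), (7060, 8549), (7061, 8550), (7062, 5657), (7063, 5658), (7064, 8652), (7065, 6107), (7066, 6109), (7067, 8657), (7068, 5660), (7069, 8570), (7070, 8571), (7071, 8572), (7072, 8665), (7073, 8574), (7074, 5669), (7075, 5670), (7076, 5671), (7077, 8671), (7078, 5667), (7079, 8667), (7080, 8668), (7081, 8676), (7082, 6090), (7083, 8679), (7084, 6091), (7085, 5672), (7086, 8682), (7087, 5685), (7088, 5675), (7089, 8686), (7090, 7090), (7091, 8689), (7092, 7092), (7093, 5679), (7094, 8693), (7095, 8694), (7096, 5681), (7097, 8698), (7098, 8681), (7099, 5684), (7100, 8702), (7101, 8684), (7102, 8685), (7103, 5687)]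
    ⟨e3 q7040 (flp_c L171832) q8509, e3 q7041 (flp_c L171841) q8510, e3 q7042 L119889 q5641, e3 q7043 L119899 q5642, e3 q7044 (flp_c L173907) q8627, e3 q7045 (flp_c L546774) q6063, e3 q7046 (flp_c L562885) q6064, e3 q7047 L174106 q8632, e3 q7048 (flp_c L120039) q5644, e3 q7049 L120066 q7049, e3 q7050 L120076 q7050, e3 q7051 L174169 q8637, e3 q7052 L120092 q7052, e3 q7053 L174192 q8640, e3 q7054 L120109 q7054, e3 q7055 (flp_c L120117) q5649, e3 q7056 (flp_c L174215) q8643, e3 q7057 (flp_c L174123) q8633, e3 q7058 L120139 q5652, e3 q7059 (flp_c L174245) q8647, e3 q7060 (flp_c L172180) q8549, e3 q7061 (flp_c L172189) q8550, e3 q7062 L120255 q5657, e3 q7063 L120264 q5658, e3 q7064 (flp_c L174440) q8652, e3 q7065 (flp_c L563081) q6107, e3 q7066 (flp_c L562937) q6109, e3 q7067 L174622 q8657, e3 q7068 (flp_c L120397) q5660, e3 q7069 (flp_c L172387) q8570, e3 q7070 (flp_c L172395) q8571, e3 q7071 (flp_c L172403) q8572, e3 q7072 L174706 q8665, e3 q7073 (flp_c L172417) q8574, e3 q7074 L120464 q5669, e3 q7075 L120472 q5670, e3 q7076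 L120482 q5671, e3 q7077 L174781 q8671, e3 q7078 (flp_c L120503) q5667, e3 q7079 (flp_c L174732) q8667, e3 q7080 (flp_c L174741) q8668, e3 q7081 L174917 q8676, e3 q7082 L562493 q6090, e3 q7083 L174941 q8679, e3 q7084 L563186 q6091, e3 q7085 (flp_c L120626) q5672, e3 q7086 (flp_c L174966) q8682, e3 q7087 L120646 q5685, e3 q7088 L120650 q5675, e3 q7089 (flp_c L174998) q8686, e3 q7090 L120667 q7090, e3 q7091 L175022 q8689, e3 q7092 L120684 q7092, e3 q7093 (flp_c L120690) q5679, e3 q7094 (flp_c L175056) q8693, e3 q7095 (flp_c L175064) q8694, e3 q7096 (flp_c L120714) q5681, e3 q7097 (flp_c L175097) q8698, e3 q7098 (flp_c L174962) q8681, e3 q7099 L120740 q5684, e3 q7100 (flp_c L175129) q8702, e3 q7101 (flp_c L174980) q8684, e3 q7102 (flp_c L174990) q8685, e3 q7103 L120772 q5687, trivial⟩ (by decide +kernel)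

theorem ce_c_111 : ∀ r, r < 64 → sm gc (Qf (7104 + r)) = Qf (tab Gen.c (7104 + r)) :=
  edges_tab (sm gc) Qf (tab Gen.c) 7104 [(7104, 8706), (7105, 6296), (7106, 8063), (7107, 6295), (7108, 5698), (7109, 6509), (7110, 8060), (7111, 7111), (7112, 7112), (7113, 5708), (7114, 8709), (7115, 8710), (7116, 6302), (7117, 7117), (7118, 7118), (7119, 8077), (7120, 6301), (7121, 5717), (7122, 8714), (7123, 6480), (7124, 8073), (7125, 6511), (7126, 7126), (7127, 7127), (7128, 7128), (7129, 7129), (7130, 8059), (7131, 5733), (7132, 5734), (7133, 8722), (7134, 8723), (7135, 8724), (7136, 6517), (7137, 6311), (7138, 7138), (7139, 7139), (7140, 7140), (7141, 8095), (7142, 8097), (7143, 6310), (7144, 5744), (7145, 5745), (7146, 8732), (7147, 8090), (7148, 6491), (7149, 8091), (7150, 6519), (7151, 7151), (7152, 7152), (7153, 7153), (7154, 8745), (7155, 7155), (7156, 7156), (7157, 7157), (7158, 7158), (7159, 7159), (7160, 5759), (7161, 5760), (7162, 8748), (7163, 8749), (7164, 8750), (7165, 8751), (7166, 6313), (7167, 5893)]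
    ⟨e3 q7104 L175334 q8706, e3 q7105 L120907 q6296, e3 q7106 (flp_c L643403) q8063, e3 q7107 (flp_c L625400) q6295, e3 q7108 (flp_c L120969) q5698, e3 q7109 L621004 q6509, e3 q7110 (flp_c L642076) q8060, e3 q7111 L121005 q7111, e3 q7112 L121019 q7112, e3 q7113 (flp_c L121185) q5708, e3 q7114 (flp_c L175766) q8709, e3 q7115 (flp_c L175777) q8710, e3 q7116 L121214 q6302, e3 q7117 L121223 q7117, e3 q7118 L121249 q7118, e3 q7119 (flp_c L644821) q8077, e3 q7120 (flp_c L625411) q6301, e3 q7121 L121303 q5717, e3 q7122 (flp_c L175946) q8714, e3 q7123 L621201 q6480, e3 q7124 (flp_c L644999) q8073, e3 q7125 (flp_c L644875) q6511, e3 q7126 L121360 q7126, e3 q7127 L121368 q7127, e3 q7128 L121384 q7128, e3 q7129 L121391 q7129, e3 q7130 (flp_c L643801) q8059, e3 q7131 L121592 q5733, e3 q7132 L121601 q5734, e3 q7133 (flp_c L176380) q8722, e3 q7134 (flp_c L176387) q8723, e3 q7135 (flp_c L176397) q8724, e3 q7136 (flp_c L641771) q6517, e3 q7137 L121638 q6311, e3 q7138 L121648 q7138, e3 q7139 L121658 q7139, e3 q7140 L121680 q7140, e3 q7141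 L645039 q8095, e3 q7142 L644625 q8097, e3 q7143 (flp_c L625344) q6310, e3 q7144 L121751 q5744, e3 q7145 L121756 q5745, e3 q7146 (flp_c L176615) q8732, e3 q7147 L645064 q8090, e3 q7148 (flp_c L621404) q6491, e3 q7149 (flp_c L642306) q8091, e3 q7150 (flp_c L645076) q6519, e3 q7151 L121820 q7151, e3 q7152 L121827 q7152, e3 q7153 L121835 q7153, e3 q7154 L176763 q8745, e3 q7155 L121849 q7155, e3 q7156 L121855 q7156, e3 q7157 L121863 q7157, e3 q7158 L121948 q7158, e3 q7159 L121958 q7159, e3 q7160 L122021 q5759, e3 q7161 L122033 q5760, e3 q7162 (flp_c L177028) q8748, e3 q7163 (flp_c L177038) q8749, e3 q7164 (flp_c L177049) q8750, e3 q7165 (flp_c L177068) q8751, e3 q7166 (flp_c L622702) q6313, e3 q7167 L122086 q5893, trivial⟩ (by decide +kernel)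

theorem ce_c_112 : ∀ r, r < 64 → sm gc (Qf (7168 + r)) = Qf (tab Gen.c (7168 + r)) :=
  edges_tab (sm gc) Qf (tab Gen.c) 7168 [(7168, 5894), (7169, 5895), (7170, 5896), (7171, 5897), (7172, 7172), (7173, 5768), (7174, 5769), (7175, 8761), (7176, 8762), (7177, 8763), (7178, 8765), (7179, 6309), (7180, 5773), (7181, 5774), (7182, 5775), (7183, 7183), (7184, 5776), (7185, 8772), (7186, 8773), (7187, 6404), (7188, 8774), (7189, 8776), (7190, 5916), (7191, 5917), (7192, 5918), (7193, 8790), (7194, 5920), (7195, 5921), (7196, 5922), (7197, 7197), (7198, 7198), (7199, 7199), (7200, 5790), (7201, 5791), (7202, 5792), (7203, 5793), (7204, 8796), (7205, 8797), (7206, 8798), (7207, 8799), (7208, 8800), (7209, 5941), (7210, 5942), (7211, 5943), (7212, 8341), (7213, 5945), (7214, 5946), (7215, 5947), (7216, 7216), (7217, 7217), (7218, 5803), (7219, 5804), (7220, 5805), (7221, 7221), (7222, 5806), (7223, 8818), (7224, 8819), (7225, 8820), (7226, 8821), (7227, 8823), (7228, 8731), (7229, 5813), (7230, 5814), (7231, 5815)]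
    ⟨e3 q7168 L122095 q5894, e3 q7169 L122104 q5895, e3 q7170 L122116 q5896, e3 q7171 L122124 q5897, e3 q7172 L122141 q7172, e3 q7173 L122146 q5768, e3 q7174 L122156 q5769, e3 q7175 (flp_c L177208) q8761, e3 q7176 (flp_c L177216) q8762, e3 q7177 (flp_c L177225) q8763, e3 q7178 (flp_c L177245) q8765, e3 q7179 (flp_c L625356) q6309, e3 q7180 L122210 q5773, e3 q7181 L122218 q5774, e3 q7182 L122227 q5775, e3 q7183 L122240 q7183, e3 q7184 L122247 q5776, e3 q7185 (flp_c L177307) q8772, e3 q7186 (flp_c L177315) q8773, e3 q7187 L621475 q6404, e3 q7188 (flp_c L177336) q8774, e3 q7189 (flp_c L177356) q8776, e3 q7190 L122295 q5916, e3 q7191 L122301 q5917, e3 q7192 L122310 q5918, e3 q7193 L177478 q8790, e3 q7194 L122325 q5920, e3 q7195 L122334 q5921, e3 q7196 L122345 q5922, e3 q7197 L122461 q7197, e3 q7198 L122477 q7198, e3 q7199 L122487 q7199, e3 q7200 L122571 q5790, e3 q7201 L122579 q5791, e3 q7202 L122591 q5792, e3 q7203 L122607 q5793, e3 q7204 (flp_c L177847) q8796, e3 q7205 (flp_c L177857) q8797, e3 q7206 (flp_c L177865) q8798,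 e3 q7207 (flp_c L177877) q8799, e3 q7208 (flp_c L177895) q8800, e3 q7209 L122656 q5941, e3 q7210 L122665 q5942, e3 q7211 L122674 q5943, e3 q7212 (flp_c L644081) q8341, e3 q7213 L122686 q5945, e3 q7214 L122695 q5946, e3 q7215 L122704 q5947, e3 q7216 L122718 q7216, e3 q7217 L122727 q7217, e3 q7218 L122734 q5803, e3 q7219 L122740 q5804, e3 q7220 L122750 q5805, e3 q7221 L122760 q7221, e3 q7222 L122767 q5806, e3 q7223 (flp_c L178093) q8818, e3 q7224 (flp_c L178101) q8819, e3 q7225 (flp_c L178109) q8820, e3 q7226 (flp_c L178119) q8821, e3 q7227 (flp_c L178138) q8823, e3 q7228 (flp_c L176608) q8731, e3 q7229 L122822 q5813, e3 q7230 L122830 q5814, e3 q7231 L122838 q5815, trivial⟩ (by decide +kernel)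

theorem ce_c_113 : ∀ r, r < 64 → sm gc (Qf (7232 + r)) = Qf (tab Gen.c (7232 + r)) :=
  edges_tab (sm gc) Qf (tab Gen.c) 7232 [(7232, 5816), (7233, 7233), (7234, 5817), (7235, 7235), (7236, 7236), (7237, 8834), (7238, 8835), (7239, 8836), (7240, 8851), (7241, 8838), (7242, 8839), (7243, 8841), (7244, 5974), (7245, 5975), (7246, 5976), (7247, 8860), (7248, 5978), (7249, 5821), (7250, 8863), (7251, 5981), (7252, 7252), (7253, 8867), (7254, 7254), (7255, 7255), (7256, 7256), (7257, 7257), (7258, 5834), (7259, 5835), (7260, 5836), (7261, 5837), (7262, 5838), (7263, 8872), (7264, 8873), (7265, 8874), (7266, 8884), (7267, 8876), (7268, 8877), (7269, 8878), (7270, 6007), (7271, 6008), (7272, 6009), (7273, 8893), (7274, 6011), (7275, 5842), (7276, 8896), (7277, 6014), (7278, 7278), (7279, 7279), (7280, 7280), (7281, 7281), (7282, 7282), (7283, 5853), (7284, 5854), (7285, 5855), (7286, 5856), (7287, 7287), (7288, 5857), (7289, 7289), (7290, 8906), (7291, 8907), (7292, 8908), (7293, 8921), (7294, 8910), (7295, 8911)]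
    ⟨e3 q7232 L122848 q5816, e3 q7233 L122860 q7233, e3 q7234 L122867 q5817, e3 q7235 L122875 q7235, e3 q7236 L122884 q7236, e3 q7237 (flp_c L178234) q8834, e3 q7238 (flp_c L178242) q8835, e3 q7239 (flp_c L178250) q8836, e3 q7240 L178379 q8851, e3 q7241 (flp_c L178264) q8838, e3 q7242 (flp_c L178272) q8839, e3 q7243 (flp_c L178293) q8841, e3 q7244 L122941 q5974, e3 q7245 L122950 q5975, e3 q7246 L122959 q5976, e3 q7247 L178445 q8860, e3 q7248 L122974 q5978, e3 q7249 (flp_c L122980) q5821, e3 q7250 (flp_c L178469) q8863, e3 q7251 L122995 q5981, e3 q7252 L123179 q7252, e3 q7253 L178767 q8867, e3 q7254 L123195 q7254, e3 q7255 L123204 q7255, e3 q7256 L123213 q7256, e3 q7257 L123335 q7257, e3 q7258 L123342 q5834, e3 q7259 L123352 q5835, e3 q7260 L123361 q5836, e3 q7261 L123372 q5837, e3 q7262 L123389 q5838, e3 q7263 (flp_c L179012) q8872, e3 q7264 (flp_c L179020) q8873, e3 q7265 (flp_c L179031) q8874, e3 q7266 L179160 q8884, e3 q7267 (flp_c L179046) q8876, e3 q7268 (flp_c L179057) q8877, e3 q7269 (flp_c L179074) q8878, e3 q7270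 L123468 q6007, e3 q7271 L123478 q6008, e3 q7272 L123485 q6009, e3 q7273 L179232 q8893, e3 q7274 L123501 q6011, e3 q7275 (flp_c L123509) q5842, e3 q7276 (flp_c L179256) q8896, e3 q7277 L123525 q6014, e3 q7278 L123538 q7278, e3 q7279 L123546 q7279, e3 q7280 L123555 q7280, e3 q7281 L123574 q7281, e3 q7282 L123581 q7282, e3 q7283 L123588 q5853, e3 q7284 L123596 q5854, e3 q7285 L123605 q5855, e3 q7286 L123614 q5856, e3 q7287 L123625 q7287, e3 q7288 L123632 q5857, e3 q7289 L123649 q7289, e3 q7290 (flp_c L179384) q8906, e3 q7291 (flp_c L179390) q8907, e3 q7292 (flp_c L179399) q8908, e3 q7293 L179530 q8921, e3 q7294 (flp_c L179414) q8910, e3 q7295 (flp_c L179423) q8911, trivial⟩ (by decide +kernel)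

theorem ce_c_114 : ∀ r, r < 64 → sm gc (Qf (7296 + r)) = Qf (tab Gen.c (7296 + r)) :=
  edges_tab (sm gc) Qf (tab Gen.c) 7296 [(7296, 8913), (7297, 7297), (7298, 7298), (7299, 5867), (7300, 5868), (7301, 5869), (7302, 8934), (7303, 5871), (7304, 5872), (7305, 7305), (7306, 5873), (7307, 7307), (7308, 7308), (7309, 7309), (7310, 7310), (7311, 8929), (7312, 8930), (7313, 8931), (7314, 8951), (7315, 8933), (7316, 5870), (7317, 8954), (7318, 8938), (7319, 6052), (7320, 6053), (7321, 8959), (7322, 6055), (7323, 8962), (7324, 6057), (7325, 5877), (7326, 8965), (7327, 8953), (7328, 5880), (7329, 8969), (7330, 7330), (7331, 5883), (7332, 5884), (7333, 8971), (7334, 8972), (7335, 8973), (7336, 8974), (7337, 6381), (7338, 5888), (7339, 5889), (7340, 5890), (7341, 7341), (7342, 5891), (7343, 8981), (7344, 8982), (7345, 8983), (7346, 8984), (7347, 8986), (7348, 8721), (7349, 8101), (7350, 8135), (7351, 8342), (7352, 8757), (7353, 8025), (7354, 8758), (7355, 7355), (7356, 5901), (7357, 5902), (7358, 5903), (7359, 5904)]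
    ⟨e3 q7296 (flp_c L179441) q8913, e3 q7297 L123714 q7297, e3 q7298 L123723 q7298, e3 q7299 L123731 q5867, e3 q7300 L123737 q5868, e3 q7301 L123746 q5869, e3 q7302 L179639 q8934, e3 q7303 L123761 q5871, e3 q7304 L123770 q5872, e3 q7305 L123781 q7305, e3 q7306 L123788 q5873, e3 q7307 L123796 q7307, e3 q7308 L123804 q7308, e3 q7309 L123814 q7309, e3 q7310 L123822 q7310, e3 q7311 (flp_c L179600) q8929, e3 q7312 (flp_c L179608) q8930, e3 q7313 (flp_c L179616) q8931, e3 q7314 L179793 q8951, e3 q7315 (flp_c L179633) q8933, e3 q7316 (flp_c L123872) q5870, e3 q7317 (flp_c L179817) q8954, e3 q7318 (flp_c L179672) q8938, e3 q7319 L123896 q6052, e3 q7320 L123903 q6053, e3 q7321 L179853 q8959, e3 q7322 L123918 q6055, e3 q7323 L179873 q8962, e3 q7324 L123933 q6057, e3 q7325 (flp_c L123940) q5877, e3 q7326 (flp_c L179903) q8965, e3 q7327 (flp_c L179813) q8953, e3 q7328 L123967 q5880, e3 q7329 (flp_c L179936) q8969, e3 q7330 L123988 q7330, e3 q7331 L123993 q5883, e3 q7332 L124005 q5884, e3 q7333 (flp_c L179964) q8971, e3 q7334 (flp_c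 L179974) q8972, e3 q7335 (flp_c L179985) q8973, e3 q7336 (flp_c L180005) q8974, e3 q7337 L124056 q6381, e3 q7338 L124067 q5888, e3 q7339 L124075 q5889, e3 q7340 L124084 q5890, e3 q7341 L124095 q7341, e3 q7342 L124100 q5891, e3 q7343 (flp_c L180075) q8981, e3 q7344 (flp_c L180083) q8982, e3 q7345 (flp_c L180091) q8983, e3 q7346 (flp_c L180102) q8984, e3 q7347 (flp_c L180118) q8986, e3 q7348 L641048 q8721, e3 q7349 (flp_c L644412) q8101, e3 q7350 (flp_c L644188) q8135, e3 q7351 L641334 q8342, e3 q7352 (flp_c L177155) q8757, e3 q7353 L636889 q8025, e3 q7354 (flp_c L177176) q8758, e3 q7355 L124216 q7355, e3 q7356 L124233 q5901, e3 q7357 L124241 q5902, e3 q7358 L124250 q5903, e3 q7359 L124271 q5904, trivial⟩ (by decide +kernel)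

theorem ce_c_115 : ∀ r, r < 64 → sm gc (Qf (7360 + r)) = Qf (tab Gen.c (7360 + r)) :=
  edges_tab (sm gc) Qf (tab Gen.c) 7360 [(7360, 9001), (7361, 9002), (7362, 9003), (7363, 9004), (7364, 9005), (7365, 7365), (7366, 5911), (7367, 5912), (7368, 5913), (7369, 5914), (7370, 6143), (7371, 5915), (7372, 6145), (7373, 6146), (7374, 9015), (7375, 9016), (7376, 9017), (7377, 9032), (7378, 9019), (7379, 9020), (7380, 9022), (7381, 8746), (7382, 8786), (7383, 8787), (7384, 9041), (7385, 8789), (7386, 5919), (7387, 9044), (7388, 8792), (7389, 7389), (7390, 5926), (7391, 5927), (7392, 5928), (7393, 5929), (7394, 9049), (7395, 9050), (7396, 9051), (7397, 9052), (7398, 9053), (7399, 7399), (7400, 5936), (7401, 5937), (7402, 5938), (7403, 5939), (7404, 7404), (7405, 5940), (7406, 7406), (7407, 9063), (7408, 9064), (7409, 9065), (7410, 9078), (7411, 9067), (7412, 9068), (7413, 9070), (7414, 8808), (7415, 8809), (7416, 8187), (7417, 8454), (7418, 8810), (7419, 5944), (7420, 9088), (7421, 8812), (7422, 7422), (7423, 7423)]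
    ⟨e3 q7360 (flp_c L180327) q9001, e3 q7361 (flp_c L180335) q9002, e3 q7362 (flp_c L180345) q9003, e3 q7363 (flp_c L180356) q9004, e3 q7364 (flp_c L180377) q9005, e3 q7365 L124328 q7365, e3 q7366 L124333 q5911, e3 q7367 L124339 q5912, e3 q7368 L124347 q5913, e3 q7369 L124356 q5914, e3 q7370 L124367 q6143, e3 q7371 L124373 q5915, e3 q7372 L124381 q6145, e3 q7373 L124390 q6146, e3 q7374 (flp_c L180488) q9015, e3 q7375 (flp_c L180493) q9016, e3 q7376 (flp_c L180501) q9017, e3 q7377 L180630 q9032, e3 q7378 (flp_c L180513) q9019, e3 q7379 (flp_c L180521) q9020, e3 q7380 (flp_c L180539) q9022, e3 q7381 (flp_c L641137) q8746, e3 q7382 (flp_c L177447) q8786, e3 q7383 (flp_c L177455) q8787, e3 q7384 L180704 q9041, e3 q7385 (flp_c L177472) q8789, e3 q7386 (flp_c L124494) q5919, e3 q7387 (flp_c L180731) q9044, e3 q7388 (flp_c L177497) q8792, e3 q7389 L124525 q7389, e3 q7390 L124541 q5926, e3 q7391 L124549 q5927, e3 q7392 L124561 q5928, e3 q7393 L124578 q5929, e3 q7394 (flp_c L180800) q9049, e3 q7395 (flp_c L180810) q9050, e3 q7396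 (flp_c L180818) q9051, e3 q7397 (flp_c L180830) q9052, e3 q7398 (flp_c L180849) q9053, e3 q7399 L124636 q7399, e3 q7400 L124641 q5936, e3 q7401 L124649 q5937, e3 q7402 L124655 q5938, e3 q7403 L124665 q5939, e3 q7404 L124675 q7404, e3 q7405 L124680 q5940, e3 q7406 L124695 q7406, e3 q7407 (flp_c L180956) q9063, e3 q7408 (flp_c L180964) q9064, e3 q7409 (flp_c L180972) q9065, e3 q7410 L181093 q9078, e3 q7411 (flp_c L180982) q9067, e3 q7412 (flp_c L180990) q9068, e3 q7413 (flp_c L181007) q9070, e3 q7414 (flp_c L177974) q8808, e3 q7415 (flp_c L177985) q8809, e3 q7416 (flp_c L644204) q8187, e3 q7417 (flp_c L637659) q8454, e3 q7418 (flp_c L178008) q8810, e3 q7419 (flp_c L124800) q5944, e3 q7420 (flp_c L181185) q9088, e3 q7421 (flp_c L178029) q8812, e3 q7422 L124825 q7422, e3 q7423 L124830 q7423, trivial⟩ (by decide +kernel)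

theorem ce_c_116 : ∀ r, r < 64 → sm gc (Qf (7424 + r)) = Qf (tab Gen.c (7424 + r)) :=
  edges_tab (sm gc) Qf (tab Gen.c) 7424 [(7424, 7424), (7425, 5953), (7426, 5954), (7427, 5955), (7428, 5956), (7429, 5957), (7430, 9095), (7431, 9096), (7432, 9097), (7433, 9107), (7434, 9099), (7435, 9100), (7436, 9101), (7437, 7437), (7438, 7438), (7439, 5967), (7440, 5968), (7441, 5969), (7442, 9120), (7443, 5971), (7444, 5972), (7445, 6183), (7446, 5973), (7447, 6185), (7448, 6186), (7449, 6187), (7450, 6188), (7451, 9115), (7452, 9116), (7453, 9117), (7454, 9137), (7455, 9119), (7456, 5970), (7457, 9140), (7458, 9124), (7459, 8854), (7460, 8855), (7461, 9145), (7462, 8857), (7463, 9148), (7464, 8859), (7465, 5977), (7466, 9151), (7467, 9139), (7468, 5980), (7469, 9155), (7470, 7470), (7471, 7471), (7472, 5987), (7473, 5988), (7474, 5989), (7475, 5990), (7476, 5991), (7477, 9158), (7478, 9159), (7479, 9160), (7480, 9162), (7481, 9163), (7482, 9164), (7483, 6065), (7484, 6066), (7485, 6000), (7486, 6001), (7487, 6002)]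
    ⟨e3 q7424 L124861 q7424, e3 q7425 L124868 q5953, e3 q7426 L124876 q5954, e3 q7427 L124884 q5955, e3 q7428 L124894 q5956, e3 q7429 L124914 q5957, e3 q7430 (flp_c L181293) q9095, e3 q7431 (flp_c L181301) q9096, e3 q7432 (flp_c L181309) q9097, e3 q7433 L181452 q9107, e3 q7434 (flp_c L181323) q9099, e3 q7435 (flp_c L181331) q9100, e3 q7436 (flp_c L181353) q9101, e3 q7437 L125002 q7437, e3 q7438 L125009 q7438, e3 q7439 L125014 q5967, e3 q7440 L125020 q5968, e3 q7441 L125026 q5969, e3 q7442 L181543 q9120, e3 q7443 L125036 q5971, e3 q7444 L125042 q5972, e3 q7445 L125054 q6183, e3 q7446 L125060 q5973, e3 q7447 L125068 q6185, e3 q7448 L125074 q6186, e3 q7449 L125082 q6187, e3 q7450 L125088 q6188, e3 q7451 (flp_c L181509) q9115, e3 q7452 (flp_c L181517) q9116, e3 q7453 (flp_c L181525) q9117, e3 q7454 L181686 q9137, e3 q7455 (flp_c L181537) q9119, e3 q7456 (flp_c L125144) q5970, e3 q7457 (flp_c L181712) q9140, e3 q7458 (flp_c L181567) q9124, e3 q7459 (flp_c L178401) q8854, e3 q7460 (flp_c L178408) q8855, e3 q7461 L181747 q9145,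 e3 q7462 (flp_c L178424) q8857, e3 q7463 L181768 q9148, e3 q7464 (flp_c L178439) q8859, e3 q7465 (flp_c L125210) q5977, e3 q7466 (flp_c L181795) q9151, e3 q7467 (flp_c L181708) q9139, e3 q7468 L125235 q5980, e3 q7469 (flp_c L181824) q9155, e3 q7470 L125249 q7470, e3 q7471 L125257 q7471, e3 q7472 L125300 q5987, e3 q7473 L125310 q5988, e3 q7474 L125319 q5989, e3 q7475 L125330 q5990, e3 q7476 L125348 q5991, e3 q7477 (flp_c L181937) q9158, e3 q7478 (flp_c L181945) q9159, e3 q7479 (flp_c L181956) q9160, e3 q7480 (flp_c L181971) q9162, e3 q7481 (flp_c L181982) q9163, e3 q7482 (flp_c L182000) q9164, e3 q7483 L125441 q6065, e3 q7484 L125451 q6066, e3 q7485 L125458 q6000, e3 q7486 L125464 q6001, e3 q7487 L125473 q6002, trivial⟩ (by decide +kernel)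

theorem ce_c_117 : ∀ r, r < 64 → sm gc (Qf (7488 + r)) = Qf (tab Gen.c (7488 + r)) :=
  edges_tab (sm gc) Qf (tab Gen.c) 7488 [(7488, 9180), (7489, 6004), (7490, 6005), (7491, 7491), (7492, 6006), (7493, 7493), (7494, 7494), (7495, 9175), (7496, 9176), (7497, 9177), (7498, 9194), (7499, 9179), (7500, 6003), (7501, 9197), (7502, 9184), (7503, 8887), (7504, 8888), (7505, 9201), (7506, 8890), (7507, 9204), (7508, 8892), (7509, 6010), (7510, 9207), (7511, 9196), (7512, 6013), (7513, 9211), (7514, 8646), (7515, 7515), (7516, 7516), (7517, 6085), (7518, 6086), (7519, 6023), (7520, 6024), (7521, 6025), (7522, 9226), (7523, 6027), (7524, 6028), (7525, 6029), (7526, 9221), (7527, 9222), (7528, 9223), (7529, 9235), (7530, 9225), (7531, 6026), (7532, 9238), (7533, 9228), (7534, 6094), (7535, 6095), (7536, 6096), (7537, 9245), (7538, 6098), (7539, 6044), (7540, 6045), (7541, 6046), (7542, 9254), (7543, 6048), (7544, 6035), (7545, 9258), (7546, 9259), (7547, 6231), (7548, 6051), (7549, 6233), (7550, 6234), (7551, 6235)]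
    ⟨e3 q7488 L182205 q9180, e3 q7489 L125484 q6004, e3 q7490 L125493 q6005, e3 q7491 L125502 q7491, e3 q7492 L125507 q6006, e3 q7493 L125515 q7493, e3 q7494 L125521 q7494, e3 q7495 (flp_c L182170) q9175, e3 q7496 (flp_c L182178) q9176, e3 q7497 (flp_c L182184) q9177, e3 q7498 L182348 q9194, e3 q7499 (flp_c L182197) q9179, e3 q7500 (flp_c L125591) q6003, e3 q7501 (flp_c L182374) q9197, e3 q7502 (flp_c L182230) q9184, e3 q7503 (flp_c L179183) q8887, e3 q7504 (flp_c L179192) q8888, e3 q7505 L182412 q9201, e3 q7506 (flp_c L179207) q8890, e3 q7507 L182432 q9204, e3 q7508 (flp_c L179223) q8892, e3 q7509 (flp_c L125663) q6010, e3 q7510 (flp_c L182460) q9207, e3 q7511 (flp_c L182370) q9196, e3 q7512 L125688 q6013, e3 q7513 (flp_c L182491) q9211, e3 q7514 (flp_c L547093) q8646, e3 q7515 L125712 q7515, e3 q7516 L125727 q7516, e3 q7517 L125781 q6085, e3 q7518 L125791 q6086, e3 q7519 L125800 q6023, e3 q7520 L125806 q6024, e3 q7521 L125815 q6025, e3 q7522 L182730 q9226, e3 q7523 L125830 q6027, e3 q7524 L125839 q6028, e3 q7525 L125858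 q6029, e3 q7526 (flp_c L182691) q9221, e3 q7527 (flp_c L182699) q9222, e3 q7528 (flp_c L182707) q9223, e3 q7529 L182905 q9235, e3 q7530 (flp_c L182724) q9225, e3 q7531 (flp_c L125955) q6026, e3 q7532 (flp_c L182938) q9238, e3 q7533 (flp_c L182766) q9228, e3 q7534 L125986 q6094, e3 q7535 L125992 q6095, e3 q7536 L126001 q6096, e3 q7537 L182996 q9245, e3 q7538 L126014 q6098, e3 q7539 L126021 q6044, e3 q7540 L126027 q6045, e3 q7541 L126033 q6046, e3 q7542 L183052 q9254, e3 q7543 L126046 q6048, e3 q7544 (flp_c L126052) q6035, e3 q7545 (flp_c L183077) q9258, e3 q7546 (flp_c L183084) q9259, e3 q7547 L126072 q6231, e3 q7548 L126078 q6051, e3 q7549 L126085 q6233, e3 q7550 L126093 q6234, e3 q7551 L126101 q6235, trivial⟩ (by decide +kernel)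

theorem ce_c_118 : ∀ r, r < 64 → sm gc (Qf (7552 + r)) = Qf (tab Gen.c (7552 + r)) :=
  edges_tab (sm gc) Qf (tab Gen.c) 7552 [(7552, 6236), (7553, 6237), (7554, 6238), (7555, 9248), (7556, 9249), (7557, 9274), (7558, 9251), (7559, 9277), (7560, 9253), (7561, 6047), (7562, 9280), (7563, 6060), (7564, 6050), (7565, 9284), (7566, 8956), (7567, 9287), (7568, 8958), (7569, 6054), (7570, 9291), (7571, 9292), (7572, 6056), (7573, 9296), (7574, 9279), (7575, 6059), (7576, 9300), (7577, 9282), (7578, 9283), (7579, 6062), (7580, 8629), (7581, 9170), (7582, 9171), (7583, 9172), (7584, 9174), (7585, 6069), (7586, 9310), (7587, 8622), (7588, 9313), (7589, 9315), (7590, 6072), (7591, 6082), (7592, 7592), (7593, 9320), (7594, 7594), (7595, 6076), (7596, 9324), (7597, 9325), (7598, 6078), (7599, 9329), (7600, 9316), (7601, 6081), (7602, 9333), (7603, 9317), (7604, 8543), (7605, 6084), (7606, 9216), (7607, 9217), (7608, 9218), (7609, 9220), (7610, 6089), (7611, 9342), (7612, 8675), (7613, 9345), (7614, 9347), (7615, 6092)]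
    ⟨e3 q7552 L126110 q6236, e3 q7553 L126126 q6237, e3 q7554 L126132 q6238, e3 q7555 (flp_c L183017) q9248, e3 q7556 (flp_c L183022) q9249, e3 q7557 L183222 q9274, e3 q7558 (flp_c L183034) q9251, e3 q7559 L183244 q9277, e3 q7560 (flp_c L183045) q9253, e3 q7561 (flp_c L126195) q6047, e3 q7562 (flp_c L183276) q9280, e3 q7563 L126220 q6060, e3 q7564 L126224 q6050, e3 q7565 (flp_c L183312) q9284, e3 q7566 (flp_c L179831) q8956, e3 q7567 L183333 q9287, e3 q7568 (flp_c L179847) q8958, e3 q7569 (flp_c L126260) q6054, e3 q7570 (flp_c L183369) q9291, e3 q7571 (flp_c L183378) q9292, e3 q7572 (flp_c L126281) q6056, e3 q7573 (flp_c L183408) q9296, e3 q7574 (flp_c L183272) q9279, e3 q7575 L126312 q6059, e3 q7576 (flp_c L183445) q9300, e3 q7577 (flp_c L183294) q9282, e3 q7578 (flp_c L183305) q9283, e3 q7579 L126345 q6062, e3 q7580 (flp_c L563125) q8629, e3 q7581 (flp_c L182129) q9170, e3 q7582 (flp_c L182137) q9171, e3 q7583 (flp_c L182148) q9172, e3 q7584 (flp_c L182161) q9174, e3 q7585 L126697 q6069, e3 q7586 (flp_c L184005) q9310,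 e3 q7587 (flp_c L563026) q8622, e3 q7588 L184210 q9313, e3 q7589 L184228 q9315, e3 q7590 (flp_c L126877) q6072, e3 q7591 L126895 q6082, e3 q7592 L126914 q7592, e3 q7593 L184303 q9320, e3 q7594 L126929 q7594, e3 q7595 (flp_c L126937) q6076, e3 q7596 (flp_c L184335) q9324, e3 q7597 (flp_c L184341) q9325, e3 q7598 (flp_c L126955) q6078, e3 q7599 (flp_c L184370) q9329, e3 q7600 (flp_c L184249) q9316, e3 q7601 L126981 q6081, e3 q7602 (flp_c L184404) q9333, e3 q7603 (flp_c L184269) q9317, e3 q7604 (flp_c L547074) q8543, e3 q7605 L127011 q6084, e3 q7606 (flp_c L182646) q9216, e3 q7607 (flp_c L182654) q9217, e3 q7608 (flp_c L182665) q9218, e3 q7609 (flp_c L182682) q9220, e3 q7610 L127144 q6089, e3 q7611 (flp_c L184629) q9342, e3 q7612 (flp_c L563174) q8675, e3 q7613 L184746 q9345, e3 q7614 L184769 q9347, e3 q7615 (flp_c L127265) q6092, trivial⟩ (by decide +kernel)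

theorem ce_c_119 : ∀ r, r < 64 → sm gc (Qf (7616 + r)) = Qf (tab Gen.c (7616 + r)) :=
  edges_tab (sm gc) Qf (tab Gen.c) 7616 [(7616, 7616), (7617, 9239), (7618, 9240), (7619, 9241), (7620, 9242), (7621, 9358), (7622, 9244), (7623, 6097), (7624, 9361), (7625, 6104), (7626, 6105), (7627, 9364), (7628, 9366), (7629, 6102), (7630, 7630), (7631, 9362), (7632, 9371), (7633, 8654), (7634, 6106), (7635, 9375), (7636, 9376), (7637, 6108), (7638, 9380), (7639, 6123), (7640, 6111), (7641, 9384), (7642, 6126), (7643, 6127), (7644, 6114), (7645, 8695), (7646, 7646), (7647, 6116), (7648, 6120), (7649, 6119), (7650, 9374), (7651, 9288), (7652, 9379), (7653, 6254), (7654, 9382), (7655, 9383), (7656, 6125), (7657, 9385), (7658, 9386), (7659, 9336), (7660, 6134), (7661, 6136), (7662, 6137), (7663, 8010), (7664, 9400), (7665, 9396), (7666, 8021), (7667, 9397), (7668, 6149), (7669, 9404), (7670, 6151), (7671, 6152), (7672, 9021), (7673, 6153), (7674, 9023), (7675, 9024), (7676, 9025), (7677, 9026), (7678, 8008), (7679, 8016)]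
    ⟨e3 q7616 L127289 q7616, e3 q7617 (flp_c L182955) q9239, e3 q7618 (flp_c L182961) q9240, e3 q7619 (flp_c L182969) q9241, e3 q7620 (flp_c L182975) q9242, e3 q7621 L184898 q9358, e3 q7622 (flp_c L182990) q9244, e3 q7623 (flp_c L127348) q6097, e3 q7624 (flp_c L184922) q9361, e3 q7625 L127364 q6104, e3 q7626 L127371 q6105, e3 q7627 L184959 q9364, e3 q7628 L184977 q9366, e3 q7629 (flp_c L127408) q6102, e3 q7630 L127429 q7630, e3 q7631 (flp_c L184936) q9362, e3 q7632 L185054 q9371, e3 q7633 (flp_c L562945) q8654, e3 q7634 (flp_c L127468) q6106, e3 q7635 (flp_c L185087) q9375, e3 q7636 (flp_c L185093) q9376, e3 q7637 (flp_c L127487) q6108, e3 q7638 (flp_c L185123) q9380, e3 q7639 L127511 q6123, e3 q7640 L127515 q6111, e3 q7641 (flp_c L185159) q9384, e3 q7642 L127531 q6126, e3 q7643 L127540 q6127, e3 q7644 L127547 q6114, e3 q7645 L628701 q8695, e3 q7646 L127561 q7646, e3 q7647 (flp_c L127566) q6116, e3 q7648 (flp_c L647030) q6120, e3 q7649 L647062 q6119, e3 q7650 (flp_c L185083) q9374, e3 q7651 L647006 q9288, e3 q7652 (flp_c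 L185119) q9379, e3 q7653 (flp_c L647261) q6254, e3 q7654 (flp_c L185141) q9382, e3 q7655 (flp_c L185151) q9383, e3 q7656 L127671 q6125, e3 q7657 (flp_c L185169) q9385, e3 q7658 (flp_c L185178) q9386, e3 q7659 (flp_c L184427) q9336, e3 q7660 L127773 q6134, e3 q7661 L127796 q6136, e3 q7662 L127815 q6137, e3 q7663 L648143 q8010, e3 q7664 L185671 q9400, e3 q7665 (flp_c L185538) q9396, e3 q7666 (flp_c L645220) q8021, e3 q7667 (flp_c L185570) q9397, e3 q7668 L127948 q6149, e3 q7669 L185789 q9404, e3 q7670 L127963 q6151, e3 q7671 L127974 q6152, e3 q7672 (flp_c L180533) q9021, e3 q7673 L127992 q6153, e3 q7674 (flp_c L180546) q9023, e3 q7675 (flp_c L180554) q9024, e3 q7676 (flp_c L180564) q9025, e3 q7677 (flp_c L180572) q9026, e3 q7678 (flp_c L647961) q8008, e3 q7679 (flp_c L645400) q8016, trivial⟩ (by decide +kernel)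

theorem ce_c_120 : ∀ r, r < 64 → sm gc (Qf (7680 + r)) = Qf (tab Gen.c (7680 + r)) :=
  edges_tab (sm gc) Qf (tab Gen.c) 7680 [(7680, 9419), (7681, 9403), (7682, 6150), (7683, 9422), (7684, 9408), (7685, 7685), (7686, 9426), (7687, 7687), (7688, 9429), (7689, 7689), (7690, 6157), (7691, 9432), (7692, 9421), (7693, 6160), (7694, 9436), (7695, 6170), (7696, 9438), (7697, 6172), (7698, 6173), (7699, 6174), (7700, 8045), (7701, 8022), (7702, 9445), (7703, 9437), (7704, 6171), (7705, 9448), (7706, 9440), (7707, 9450), (7708, 7708), (7709, 6190), (7710, 6191), (7711, 9455), (7712, 6193), (7713, 6180), (7714, 9459), (7715, 9460), (7716, 9123), (7717, 6196), (7718, 9125), (7719, 9126), (7720, 9127), (7721, 9128), (7722, 9129), (7723, 9130), (7724, 8034), (7725, 9474), (7726, 9453), (7727, 9477), (7728, 9454), (7729, 6192), (7730, 9480), (7731, 6205), (7732, 6195), (7733, 9484), (7734, 7734), (7735, 9486), (7736, 7736), (7737, 6199), (7738, 9489), (7739, 9490), (7740, 6201), (7741, 9494), (7742, 9479), (7743, 6204)]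
    ⟨e3 q7680 L185954 q9419, e3 q7681 (flp_c L185782) q9403, e3 q7682 (flp_c L128083) q6150, e3 q7683 (flp_c L185977) q9422, e3 q7684 (flp_c L185824) q9408, e3 q7685 L128121 q7685, e3 q7686 L186019 q9426, e3 q7687 L128137 q7687, e3 q7688 L186041 q9429, e3 q7689 L128154 q7689, e3 q7690 (flp_c L128162) q6157, e3 q7691 (flp_c L186068) q9432, e3 q7692 (flp_c L185973) q9421, e3 q7693 L128186 q6160, e3 q7694 (flp_c L186099) q9436, e3 q7695 L128334 q6170, e3 q7696 L186372 q9438, e3 q7697 L128349 q6172, e3 q7698 L128359 q6173, e3 q7699 L128379 q6174, e3 q7700 (flp_c L648060) q8045, e3 q7701 L648093 q8022, e3 q7702 L186539 q9445, e3 q7703 (flp_c L186365) q9437, e3 q7704 (flp_c L128473) q6171, e3 q7705 (flp_c L186564) q9448, e3 q7706 (flp_c L186406) q9440, e3 q7707 L186617 q9450, e3 q7708 L128532 q7708, e3 q7709 L128550 q6190, e3 q7710 L128560 q6191, e3 q7711 L186688 q9455, e3 q7712 L128574 q6193, e3 q7713 (flp_c L128581) q6180, e3 q7714 (flp_c L186716) q9459, e3 q7715 (flp_c L186720) q9460, e3 q7716 (flp_c L181561) q9123, e3 q7717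 L128609 q6196, e3 q7718 (flp_c L181575) q9125, e3 q7719 (flp_c L181583) q9126, e3 q7720 (flp_c L181593) q9127, e3 q7721 (flp_c L181601) q9128, e3 q7722 (flp_c L181615) q9129, e3 q7723 (flp_c L181623) q9130, e3 q7724 L647812 q8034, e3 q7725 L186865 q9474, e3 q7726 (flp_c L186665) q9453, e3 q7727 L186888 q9477, e3 q7728 (flp_c L186681) q9454, e3 q7729 (flp_c L128728) q6192, e3 q7730 (flp_c L186910) q9480, e3 q7731 L128745 q6205, e3 q7732 L128749 q6195, e3 q7733 (flp_c L186937) q9484, e3 q7734 L128762 q7734, e3 q7735 L186958 q9486, e3 q7736 L128779 q7736, e3 q7737 (flp_c L128787) q6199, e3 q7738 (flp_c L186994) q9489, e3 q7739 (flp_c L187001) q9490, e3 q7740 (flp_c L128810) q6201, e3 q7741 (flp_c L187032) q9494, e3 q7742 (flp_c L186906) q9479, e3 q7743 L128833 q6204, trivial⟩ (by decide +kernel)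

theorem ce_c_121 : ∀ r, r < 64 → sm gc (Qf (7744 + r)) = Qf (tab Gen.c (7744 + r)) :=
  edges_tab (sm gc) Qf (tab Gen.c) 7744 [(7744, 9498), (7745, 9482), (7746, 9483), (7747, 6207), (7748, 6216), (7749, 6217), (7750, 9506), (7751, 6219), (7752, 6211), (7753, 9509), (7754, 6222), (7755, 8042), (7756, 9513), (7757, 9503), (7758, 9516), (7759, 9505), (7760, 6218), (7761, 9519), (7762, 7762), (7763, 6221), (7764, 9523), (7765, 6240), (7766, 9526), (7767, 6242), (7768, 9529), (7769, 6244), (7770, 6226), (7771, 9533), (7772, 9534), (7773, 7773), (7774, 6229), (7775, 6230), (7776, 9541), (7777, 9542), (7778, 9543), (7779, 9263), (7780, 9264), (7781, 9265), (7782, 9266), (7783, 9267), (7784, 9268), (7785, 9269), (7786, 9270), (7787, 8033), (7788, 9555), (7789, 9525), (7790, 6241), (7791, 9558), (7792, 9559), (7793, 6243), (7794, 9563), (7795, 6258), (7796, 6246), (7797, 9567), (7798, 6261), (7799, 6262), (7800, 6249), (7801, 7801), (7802, 6260), (7803, 9557), (7804, 6255), (7805, 9297), (7806, 6257), (7807, 9562)]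
    ⟨e3 q7744 (flp_c L187061) q9498, e3 q7745 (flp_c L186924) q9482, e3 q7746 (flp_c L186932) q9483, e3 q7747 L128860 q6207, e3 q7748 L129023 q6216, e3 q7749 L129032 q6217, e3 q7750 L187367 q9506, e3 q7751 L129050 q6219, e3 q7752 (flp_c L129057) q6211, e3 q7753 (flp_c L187412) q9509, e3 q7754 L129095 q6222, e3 q7755 L647751 q8042, e3 q7756 L187574 q9513, e3 q7757 (flp_c L187341) q9503, e3 q7758 L187601 q9516, e3 q7759 (flp_c L187359) q9505, e3 q7760 (flp_c L129226) q6218, e3 q7761 (flp_c L187631) q9519, e3 q7762 L129249 q7762, e3 q7763 L129254 q6221, e3 q7764 (flp_c L187665) q9523, e3 q7765 L129280 q6240, e3 q7766 L187698 q9526, e3 q7767 L129296 q6242, e3 q7768 L187719 q9529, e3 q7769 L129312 q6244, e3 q7770 (flp_c L129320) q6226, e3 q7771 (flp_c L187754) q9533, e3 q7772 (flp_c L187761) q9534, e3 q7773 L129349 q7773, e3 q7774 L129352 q6229, e3 q7775 L129358 q6230, e3 q7776 (flp_c L187815) q9541, e3 q7777 (flp_c L187822) q9542, e3 q7778 (flp_c L187829) q9543, e3 q7779 (flp_c L183106) q9263, e3 q7780 (flp_c L183115) q9264,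 e3 q7781 (flp_c L183124) q9265, e3 q7782 (flp_c L183130) q9266, e3 q7783 (flp_c L183146) q9267, e3 q7784 (flp_c L183154) q9268, e3 q7785 (flp_c L183172) q9269, e3 q7786 (flp_c L183179) q9270, e3 q7787 L647821 q8033, e3 q7788 L187983 q9555, e3 q7789 (flp_c L187691) q9525, e3 q7790 (flp_c L129502) q6241, e3 q7791 (flp_c L188020) q9558, e3 q7792 (flp_c L188027) q9559, e3 q7793 (flp_c L129525) q6243, e3 q7794 (flp_c L188060) q9563, e3 q7795 L129547 q6258, e3 q7796 L129551 q6246, e3 q7797 (flp_c L188093) q9567, e3 q7798 L129566 q6261, e3 q7799 L129576 q6262, e3 q7800 L129582 q6249, e3 q7801 L129600 q7801, e3 q7802 (flp_c L647339) q6260, e3 q7803 (flp_c L188016) q9557, e3 q7804 L129651 q6255, e3 q7805 L647304 q9297, e3 q7806 (flp_c L647353) q6257, e3 q7807 (flp_c L188056) q9562, trivial⟩ (by decide +kernel)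

theorem ce_c_122 : ∀ r, r < 64 → sm gc (Qf (7808 + r)) = Qf (tab Gen.c (7808 + r)) :=
  edges_tab (sm gc) Qf (tab Gen.c) 7808 [(7808, 9565), (7809, 9566), (7810, 9568), (7811, 9569), (7812, 9575), (7813, 6266), (7814, 9577), (7815, 9578), (7816, 6268), (7817, 9580), (7818, 7818), (7819, 6271), (7820, 9583), (7821, 7821), (7822, 7822), (7823, 6274), (7824, 6275), (7825, 6280), (7826, 6277), (7827, 6278), (7828, 6287), (7829, 6283), (7830, 6288), (7831, 6289), (7832, 7832), (7833, 9589), (7834, 9592), (7835, 6340), (7836, 6319), (7837, 6320), (7838, 6329), (7839, 6324), (7840, 6481), (7841, 7841), (7842, 7842), (7843, 8768), (7844, 6332), (7845, 6333), (7846, 6347), (7847, 6348), (7848, 8754), (7849, 6338), (7850, 6339), (7851, 6494), (7852, 9407), (7853, 7853), (7854, 7854), (7855, 7855), (7856, 7856), (7857, 7857), (7858, 6352), (7859, 6353), (7860, 9603), (7861, 6374), (7862, 6377), (7863, 7863), (7864, 7864), (7865, 6361), (7866, 8621), (7867, 6363), (7868, 6362), (7869, 7869), (7870, 7870), (7871, 7871)]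
    ⟨e3 q7808 (flp_c L188077) q9565, e3 q7809 (flp_c L188087) q9566, e3 q7810 (flp_c L188103) q9568, e3 q7811 (flp_c L188111) q9569, e3 q7812 L188350 q9575, e3 q7813 (flp_c L129779) q6266, e3 q7814 (flp_c L188389) q9577, e3 q7815 (flp_c L188396) q9578, e3 q7816 (flp_c L129804) q6268, e3 q7817 (flp_c L188431) q9580, e3 q7818 L129827 q7818, e3 q7819 L129832 q6271, e3 q7820 (flp_c L188466) q9583, e3 q7821 L129847 q7821, e3 q7822 L129857 q7822, e3 q7823 L129865 q6274, e3 q7824 (flp_c L129888) q6275, e3 q7825 (flp_c L647568) q6280, e3 q7826 L129922 q6277, e3 q7827 L129927 q6278, e3 q7828 L129975 q6287, e3 q7829 L129991 q6283, e3 q7830 L129999 q6288, e3 q7831 L130008 q6289, e3 q7832 L130016 q7832, e3 q7833 (flp_c L188665) q9589, e3 q7834 L189316 q9592, e3 q7835 L132554 q6340, e3 q7836 L133092 q6319, e3 q7837 L133103 q6320, e3 q7838 L591175 q6329, e3 q7839 L133298 q6324, e3 q7840 (flp_c L621789) q6481, e3 q7841 L133425 q7841, e3 q7842 L133440 q7842, e3 q7843 L621572 q8768, e3 q7844 L134076 q6332, e3 q7845 L134095 q6333, e3 q7846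 L552454 q6347, e3 q7847 (flp_c L601109) q6348, e3 q7848 (flp_c L620488) q8754, e3 q7849 L134341 q6338, e3 q7850 L134358 q6339, e3 q7851 L622239 q6494, e3 q7852 L621715 q9407, e3 q7853 L134532 q7853, e3 q7854 L134547 q7854, e3 q7855 L134561 q7855, e3 q7856 L135473 q7856, e3 q7857 L135482 q7857, e3 q7858 L135489 q6352, e3 q7859 L135498 q6353, e3 q7860 L197127 q9603, e3 q7861 L551572 q6374, e3 q7862 L590717 q6377, e3 q7863 L135859 q7863, e3 q7864 L135866 q7864, e3 q7865 L135889 q6361, e3 q7866 L547146 q8621, e3 q7867 L135915 q6363, e3 q7868 (flp_c L136022) q6362, e3 q7869 L136055 q7869, e3 q7870 L136063 q7870, e3 q7871 L136071 q7871, trivial⟩ (by decide +kernel)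

theorem ce_c_123 : ∀ r, r < 64 → sm gc (Qf (7872 + r)) = Qf (tab Gen.c (7872 + r)) :=
  edges_tab (sm gc) Qf (tab Gen.c) 7872 [(7872, 9615), (7873, 7873), (7874, 6471), (7875, 6369), (7876, 8645), (7877, 7877), (7878, 7878), (7879, 7879), (7880, 7880), (7881, 6376), (7882, 6379), (7883, 6380), (7884, 7884), (7885, 7885), (7886, 7886), (7887, 6482), (7888, 6483), (7889, 7889), (7890, 6392), (7891, 6393), (7892, 7892), (7893, 7893), (7894, 8977), (7895, 7895), (7896, 7896), (7897, 7897), (7898, 8784), (7899, 7899), (7900, 8780), (7901, 6495), (7902, 6496), (7903, 6497), (7904, 6437), (7905, 6438), (7906, 6411), (7907, 6412), (7908, 6445), (7909, 6446), (7910, 6447), (7911, 9650), (7912, 6449), (7913, 9652), (7914, 6418), (7915, 6420), (7916, 6465), (7917, 6466), (7918, 6467), (7919, 6468), (7920, 6470), (7921, 6472), (7922, 6473), (7923, 7923), (7924, 6474), (7925, 7925), (7926, 7926), (7927, 7927), (7928, 7928), (7929, 6498), (7930, 6499), (7931, 6500), (7932, 6501), (7933, 9641), (7934, 9642), (7935, 9643)]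
    ⟨e3 q7872 L197642 q9615, e3 q7873 L136086 q7873, e3 q7874 (flp_c L616224) q6471, e3 q7875 (flp_c L136133) q6369, e3 q7876 L551138 q8645, e3 q7877 L136162 q7877, e3 q7878 L136176 q7878, e3 q7879 L136192 q7879, e3 q7880 L136216 q7880, e3 q7881 L136302 q6376, e3 q7882 L136407 q6379, e3 q7883 L136418 q6380, e3 q7884 L136518 q7884, e3 q7885 L136779 q7885, e3 q7886 L136942 q7886, e3 q7887 L137007 q6482, e3 q7888 L137023 q6483, e3 q7889 L137272 q7889, e3 q7890 L137277 q6392, e3 q7891 L137296 q6393, e3 q7892 L137425 q7892, e3 q7893 L137432 q7893, e3 q7894 L622604 q8977, e3 q7895 L137772 q7895, e3 q7896 L137779 q7896, e3 q7897 L137991 q7897, e3 q7898 L621519 q8784, e3 q7899 L138001 q7899, e3 q7900 (flp_c L620687) q8780, e3 q7901 L138072 q6495, e3 q7902 L138088 q6496, e3 q7903 L138106 q6497, e3 q7904 L138423 q6437, e3 q7905 L138433 q6438, e3 q7906 L138441 q6411, e3 q7907 L138450 q6412, e3 q7908 L138641 q6445, e3 q7909 L138650 q6446, e3 q7910 L138659 q6447, e3 q7911 L201385 q9650, e3 q7912 L138671 q6449, e3 q7913 L201450 q9652,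 e3 q7914 (flp_c L138715) q6418, e3 q7915 (flp_c L138853) q6420, e3 q7916 L139144 q6465, e3 q7917 L139153 q6466, e3 q7918 L139162 q6467, e3 q7919 L139179 q6468, e3 q7920 L139379 q6470, e3 q7921 L139392 q6472, e3 q7922 L139399 q6473, e3 q7923 L139408 q7923, e3 q7924 L139413 q6474, e3 q7925 L139419 q7925, e3 q7926 L139425 q7926, e3 q7927 L139474 q7927, e3 q7928 L139488 q7928, e3 q7929 L139508 q6498, e3 q7930 L139524 q6499, e3 q7931 L139542 q6500, e3 q7932 L139564 q6501, e3 q7933 (flp_c L201032) q9641, e3 q7934 (flp_c L201043) q9642, e3 q7935 (flp_c L201054) q9643, trivial⟩ (by decide +kernel)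

theorem ce_c_124 : ∀ r, r < 64 → sm gc (Qf (7936 + r)) = Qf (tab Gen.c (7936 + r)) :=
  edges_tab (sm gc) Qf (tab Gen.c) 7936 [(7936, 9644), (7937, 6443), (7938, 9645), (7939, 9604), (7940, 9646), (7941, 9647), (7942, 9680), (7943, 9649), (7944, 6448), (7945, 9683), (7946, 8479), (7947, 8478), (7948, 6453), (7949, 7949), (7950, 6461), (7951, 6462), (7952, 8619), (7953, 8618), (7954, 9684), (7955, 9685), (7956, 6533), (7957, 9653), (7958, 9609), (7959, 9654), (7960, 9655), (7961, 9656), (7962, 9618), (7963, 9657), (7964, 9613), (7965, 9658), (7966, 9659), (7967, 8717), (7968, 7968), (7969, 8715), (7970, 8771), (7971, 9626), (7972, 9627), (7973, 7973), (7974, 8738), (7975, 7975), (7976, 6489), (7977, 9704), (7978, 8083), (7979, 8734), (7980, 6493), (7981, 8737), (7982, 8832), (7983, 9638), (7984, 9639), (7985, 9640), (7986, 9666), (7987, 9667), (7988, 9668), (7989, 7989), (7990, 8708), (7991, 7991), (7992, 6507), (7993, 8712), (7994, 8066), (7995, 8707), (7996, 8718), (7997, 8727), (7998, 8739), (7999, 7999)]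
    ⟨e3 q7936 (flp_c L201070) q9644, e3 q7937 (flp_c L139913) q6443, e3 q7938 (flp_c L201342) q9645, e3 q7939 L616272 q9604, e3 q7940 (flp_c L201359) q9646, e3 q7941 (flp_c L201366) q9647, e3 q7942 L203156 q9680, e3 q7943 (flp_c L201379) q9649, e3 q7944 (flp_c L139971) q6448, e3 q7945 (flp_c L203193) q9683, e3 q7946 (flp_c L616370) q8479, e3 q7947 L616577 q8478, e3 q7948 (flp_c L140026) q6453, e3 q7949 L140048 q7949, e3 q7950 L140213 q6461, e3 q7951 L140220 q6462, e3 q7952 (flp_c L616619) q8619, e3 q7953 L616630 q8618, e3 q7954 (flp_c L203487) q9684, e3 q7955 (flp_c L203502) q9685, e3 q7956 (flp_c L616720) q6533, e3 q7957 (flp_c L202068) q9653, e3 q7958 (flp_c L616216) q9609, e3 q7959 (flp_c L202085) q9654, e3 q7960 (flp_c L202094) q9655, e3 q7961 (flp_c L202112) q9656, e3 q7962 (flp_c L616082) q9618, e3 q7963 (flp_c L202365) q9657, e3 q7964 L616170 q9613, e3 q7965 (flp_c L202396) q9658, e3 q7966 (flp_c L202411) q9659, e3 q7967 L621163 q8717, e3 q7968 L140722 q7968, e3 q7969 (flp_c L620656) q8715, e3 q7970 (flp_c L621636)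 q8771, e3 q7971 (flp_c L198989) q9626, e3 q7972 (flp_c L199013) q9627, e3 q7973 L141278 q7973, e3 q7974 (flp_c L621331) q8738, e3 q7975 L141496 q7975, e3 q7976 (flp_c L141501) q6489, e3 q7977 (flp_c L205315) q9704, e3 q7978 L645096 q8083, e3 q7979 (flp_c L621412) q8734, e3 q7980 L141568 q6493, e3 q7981 (flp_c L645118) q8737, e3 q7982 L621440 q8832, e3 q7983 (flp_c L200551) q9638, e3 q7984 (flp_c L200573) q9639, e3 q7985 (flp_c L200593) q9640, e3 q7986 (flp_c L202543) q9666, e3 q7987 (flp_c L202565) q9667, e3 q7988 (flp_c L202585) q9668, e3 q7989 L142346 q7989, e3 q7990 (flp_c L620942) q8708, e3 q7991 L142577 q7991, e3 q7992 (flp_c L142583) q6507, e3 q7993 (flp_c L641836) q8712, e3 q7994 (flp_c L644746) q8066, e3 q7995 L620880 q8707, e3 q7996 (flp_c L644884) q8718, e3 q7997 L645081 q8727, e3 q7998 L642340 q8739, e3 q7999 L143630 q7999, trivial⟩ (by decide +kernel)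

theorem ce_c_125 : ∀ r, r < 64 → sm gc (Qf (8000 + r)) = Qf (tab Gen.c (8000 + r)) :=
  edges_tab (sm gc) Qf (tab Gen.c) 8000 [(8000, 6525), (8001, 8001), (8002, 8002), (8003, 8003), (8004, 6526), (8005, 8005), (8006, 8006), (8007, 8007), (8008, 7678), (8009, 6575), (8010, 7663), (8011, 9720), (8012, 8012), (8013, 8013), (8014, 8014), (8015, 6584), (8016, 7679), (8017, 9725), (8018, 6590), (8019, 6720), (8020, 6591), (8021, 7666), (8022, 7701), (8023, 9728), (8024, 8024), (8025, 7353), (8026, 8026), (8027, 8027), (8028, 8028), (8029, 8029), (8030, 6603), (8031, 6756), (8032, 6604), (8033, 7787), (8034, 7724), (8035, 9740), (8036, 6612), (8037, 6614), (8038, 6768), (8039, 6615), (8040, 6770), (8041, 6771), (8042, 7755), (8043, 9756), (8044, 9746), (8045, 7700), (8046, 9748), (8047, 8047), (8048, 8048), (8049, 9763), (8050, 8050), (8051, 6619), (8052, 9766), (8053, 8053), (8054, 9768), (8055, 8055), (8056, 8056), (8057, 8057), (8058, 6626), (8059, 7130), (8060, 7110), (8061, 6628), (8062, 9771), (8063, 7106)]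
    ⟨e3 q8000 L143637 q6525, e3 q8001 L143664 q8001, e3 q8002 L143691 q8002, e3 q8003 L143736 q8003, e3 q8004 (flp_c L143906) q6526, e3 q8005 L144664 q8005, e3 q8006 L145829 q8006, e3 q8007 L164520 q8007, e3 q8008 L647961 q7678, e3 q8009 L166528 q6575, e3 q8010 (flp_c L648143) q7663, e3 q8011 (flp_c L241518) q9720, e3 q8012 L166592 q8012, e3 q8013 L166611 q8013, e3 q8014 L166620 q8014, e3 q8015 L166649 q6584, e3 q8016 L645400 q7679, e3 q8017 (flp_c L241690) q9725, e3 q8018 L166721 q6590, e3 q8019 L166730 q6720, e3 q8020 L166736 q6591, e3 q8021 L645220 q7666, e3 q8022 (flp_c L648093) q7701, e3 q8023 (flp_c L241794) q9728, e3 q8024 L166802 q8024, e3 q8025 (flp_c L636889) q7353, e3 q8026 L166816 q8026, e3 q8027 L166824 q8027, e3 q8028 L166834 q8028, e3 q8029 L166856 q8029, e3 q8030 L166880 q6603, e3 q8031 L166890 q6756, e3 q8032 L166897 q6604, e3 q8033 (flp_c L647821) q7787, e3 q8034 (flp_c L647812) q7724, e3 q8035 (flp_c L242045) q9740, e3 q8036 L166968 q6612, e3 q8037 L166985 q6614, e3 q8038 L166995 q6768, e3 q8039 L167001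 q6615, e3 q8040 L167010 q6770, e3 q8041 L167018 q6771, e3 q8042 (flp_c L647751) q7755, e3 q8043 L242299 q9756, e3 q8044 (flp_c L242184) q9746, e3 q8045 L648060 q7700, e3 q8046 (flp_c L242210) q9748, e3 q8047 L167094 q8047, e3 q8048 L167101 q8048, e3 q8049 L242376 q9763, e3 q8050 L167118 q8050, e3 q8051 (flp_c L167124) q6619, e3 q8052 (flp_c L242405) q9766, e3 q8053 L167145 q8053, e3 q8054 L242444 q9768, e3 q8055 L167179 q8055, e3 q8056 L167188 q8056, e3 q8057 L167197 q8057, e3 q8058 L167207 q6626, e3 q8059 L643801 q7130, e3 q8060 L642076 q7110, e3 q8061 (flp_c L167245) q6628, e3 q8062 (flp_c L242577) q9771, e3 q8063 L643403 q7106, trivial⟩ (by decide +kernel)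

theorem ce_c_126 : ∀ r, r < 64 → sm gc (Qf (8064 + r)) = Qf (tab Gen.c (8064 + r)) :=
  edges_tab (sm gc) Qf (tab Gen.c) 8064 [(8064, 6634), (8065, 9772), (8066, 7994), (8067, 8067), (8068, 8068), (8069, 8069), (8070, 8070), (8071, 8071), (8072, 6639), (8073, 7124), (8074, 6643), (8075, 9779), (8076, 9780), (8077, 7119), (8078, 8078), (8079, 8079), (8080, 6652), (8081, 9783), (8082, 9784), (8083, 7978), (8084, 8084), (8085, 8085), (8086, 8086), (8087, 8087), (8088, 8088), (8089, 8089), (8090, 7147), (8091, 7149), (8092, 6663), (8093, 6664), (8094, 9796), (8095, 7141), (8096, 9797), (8097, 7142), (8098, 8098), (8099, 8099), (8100, 8100), (8101, 7349), (8102, 8102), (8103, 6673), (8104, 6674), (8105, 9804), (8106, 9805), (8107, 9806), (8108, 9808), (8109, 8109), (8110, 6809), (8111, 6810), (8112, 6811), (8113, 6812), (8114, 6813), (8115, 8115), (8116, 6682), (8117, 6683), (8118, 9823), (8119, 9824), (8120, 9825), (8121, 9827), (8122, 6687), (8123, 6688), (8124, 6689), (8125, 9719), (8126, 6690), (8127, 9832)]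
    ⟨e3 q8064 (flp_c L167343) q6634, e3 q8065 (flp_c L242718) q9772, e3 q8066 L644746 q7994, e3 q8067 L167376 q8067, e3 q8068 L167385 q8068, e3 q8069 L167397 q8069, e3 q8070 L167405 q8070, e3 q8071 L167414 q8071, e3 q8072 L167425 q6639, e3 q8073 L644999 q7124, e3 q8074 L167472 q6643, e3 q8075 (flp_c L242911) q9779, e3 q8076 (flp_c L242920) q9780, e3 q8077 L644821 q7119, e3 q8078 L167530 q8078, e3 q8079 L167538 q8079, e3 q8080 L167610 q6652, e3 q8081 (flp_c L243129) q9783, e3 q8082 (flp_c L243138) q9784, e3 q8083 (flp_c L645096) q7978, e3 q8084 L167663 q8084, e3 q8085 L167673 q8085, e3 q8086 L167683 q8086, e3 q8087 L167691 q8087, e3 q8088 L167700 q8088, e3 q8089 L167708 q8089, e3 q8090 (flp_c L645064) q7147, e3 q8091 L642306 q7149, e3 q8092 L167782 q6663, e3 q8093 L167789 q6664, e3 q8094 (flp_c L243383) q9796, e3 q8095 (flp_c L645039) q7141, e3 q8096 (flp_c L243399) q9797, e3 q8097 (flp_c L644625) q7142, e3 q8098 L167852 q8098, e3 q8099 L167861 q8099, e3 q8100 L167869 q8100, e3 q8101 L644412 q7349, e3 q8102 L167884 q8102,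 e3 q8103 L167951 q6673, e3 q8104 L167962 q6674, e3 q8105 (flp_c L243650) q9804, e3 q8106 (flp_c L243662) q9805, e3 q8107 (flp_c L243672) q9806, e3 q8108 (flp_c L243691) q9808, e3 q8109 L168013 q8109, e3 q8110 L168023 q6809, e3 q8111 L168032 q6810, e3 q8112 L168043 q6811, e3 q8113 L168055 q6812, e3 q8114 L168064 q6813, e3 q8115 L168083 q8115, e3 q8116 L168088 q6682, e3 q8117 L168097 q6683, e3 q8118 (flp_c L243847) q9823, e3 q8119 (flp_c L243857) q9824, e3 q8120 (flp_c L243865) q9825, e3 q8121 (flp_c L243883) q9827, e3 q8122 L168153 q6687, e3 q8123 L168163 q6688, e3 q8124 L168171 q6689, e3 q8125 (flp_c L241512) q9719, e3 q8126 L168189 q6690, e3 q8127 (flp_c L243948) q9832, trivial⟩ (by decide +kernel)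

theorem ce_c_127 : ∀ r, r < 64 → sm gc (Qf (8128 + r)) = Qf (tab Gen.c (8128 + r)) :=
  edges_tab (sm gc) Qf (tab Gen.c) 8128 [(8128, 9833), (8129, 9834), (8130, 9835), (8131, 9837), (8132, 6832), (8133, 6833), (8134, 6834), (8135, 7350), (8136, 6836), (8137, 6837), (8138, 6838), (8139, 6699), (8140, 6700), (8141, 6701), (8142, 8142), (8143, 6702), (8144, 9850), (8145, 9851), (8146, 9852), (8147, 9853), (8148, 9855), (8149, 6873), (8150, 6874), (8151, 6875), (8152, 9869), (8153, 6877), (8154, 6878), (8155, 6879), (8156, 8156), (8157, 8157), (8158, 6712), (8159, 6713), (8160, 6714), (8161, 9724), (8162, 6715), (8163, 9878), (8164, 9879), (8165, 9880), (8166, 9881), (8167, 9883), (8168, 9795), (8169, 6722), (8170, 6723), (8171, 6724), (8172, 6725), (8173, 9727), (8174, 6726), (8175, 9729), (8176, 9730), (8177, 9894), (8178, 9895), (8179, 9896), (8180, 9912), (8181, 9898), (8182, 9899), (8183, 9901), (8184, 6908), (8185, 6909), (8186, 6910), (8187, 7416), (8188, 6912), (8189, 6730), (8190, 9922), (8191, 6915)]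
    ⟨e3 q8128 (flp_c L243956) q9833, e3 q8129 (flp_c L243968) q9834, e3 q8130 (flp_c L243978) q9835, e3 q8131 (flp_c L243996) q9837, e3 q8132 L168239 q6832, e3 q8133 L168247 q6833, e3 q8134 L168256 q6834, e3 q8135 L644188 q7350, e3 q8136 L168272 q6836, e3 q8137 L168283 q6837, e3 q8138 L168293 q6838, e3 q8139 L168384 q6699, e3 q8140 L168394 q6700, e3 q8141 L168405 q6701, e3 q8142 L168415 q8142, e3 q8143 L168421 q6702, e3 q8144 (flp_c L244281) q9850, e3 q8145 (flp_c L244291) q9851, e3 q8146 (flp_c L244301) q9852, e3 q8147 (flp_c L244312) q9853, e3 q8148 (flp_c L244330) q9855, e3 q8149 L168476 q6873, e3 q8150 L168487 q6874, e3 q8151 L168496 q6875, e3 q8152 L244466 q9869, e3 q8153 L168511 q6877, e3 q8154 L168522 q6878, e3 q8155 L168532 q6879, e3 q8156 L168547 q8156, e3 q8157 L168555 q8157, e3 q8158 L168564 q6712, e3 q8159 L168572 q6713, e3 q8160 L168581 q6714, e3 q8161 (flp_c L241683) q9724, e3 q8162 L168596 q6715, e3 q8163 (flp_c L244553) q9878, e3 q8164 (flp_c L244561) q9879, e3 q8165 (flp_c L244571) q9880, e3 q8166 (flp_c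 L244580) q9881, e3 q8167 (flp_c L244597) q9883, e3 q8168 (flp_c L243377) q9795, e3 q8169 L168654 q6722, e3 q8170 L168662 q6723, e3 q8171 L168672 q6724, e3 q8172 L168681 q6725, e3 q8173 (flp_c L241788) q9727, e3 q8174 L168698 q6726, e3 q8175 (flp_c L241802) q9729, e3 q8176 (flp_c L241811) q9730, e3 q8177 (flp_c L244695) q9894, e3 q8178 (flp_c L244705) q9895, e3 q8179 (flp_c L244713) q9896, e3 q8180 L244841 q9912, e3 q8181 (flp_c L244729) q9898, e3 q8182 (flp_c L244739) q9899, e3 q8183 (flp_c L244758) q9901, e3 q8184 L168774 q6908, e3 q8185 L168783 q6909, e3 q8186 L168794 q6910, e3 q8187 L644204 q7416, e3 q8188 L168808 q6912, e3 q8189 (flp_c L168814) q6730, e3 q8190 (flp_c L244936) q9922, e3 q8191 L168831 q6915, trivial⟩ (by decide +kernel)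

theorem ce_c_128 : ∀ r, r < 64 → sm gc (Qf (8192 + r)) = Qf (tab Gen.c (8192 + r)) :=
  edges_tab (sm gc) Qf (tab Gen.c) 8192 [(8192, 8192), (8193, 6739), (8194, 6740), (8195, 6741), (8196, 6742), (8197, 8197), (8198, 6743), (8199, 8199), (8200, 9926), (8201, 9927), (8202, 9928), (8203, 9942), (8204, 9930), (8205, 9931), (8206, 9933), (8207, 6968), (8208, 6969), (8209, 6970), (8210, 9951), (8211, 6972), (8212, 6747), (8213, 9954), (8214, 6975), (8215, 8215), (8216, 8216), (8217, 8217), (8218, 9963), (8219, 8219), (8220, 8220), (8221, 6758), (8222, 6759), (8223, 6760), (8224, 6761), (8225, 9739), (8226, 6762), (8227, 9741), (8228, 9742), (8229, 9967), (8230, 9968), (8231, 9969), (8232, 9985), (8233, 9971), (8234, 9972), (8235, 9974), (8236, 8236), (8237, 8237), (8238, 6772), (8239, 6773), (8240, 6774), (8241, 9998), (8242, 6776), (8243, 6777), (8244, 9747), (8245, 6778), (8246, 9749), (8247, 9750), (8248, 9751), (8249, 9752), (8250, 9753), (8251, 9993), (8252, 9994), (8253, 9995), (8254, 10017), (8255, 9997)]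
    ⟨e3 q8192 L168963 q8192, e3 q8193 L168969 q6739, e3 q8194 L168979 q6740, e3 q8195 L168990 q6741, e3 q8196 L169000 q6742, e3 q8197 L169011 q8197, e3 q8198 L169017 q6743, e3 q8199 L169037 q8199, e3 q8200 (flp_c L245180) q9926, e3 q8201 (flp_c L245190) q9927, e3 q8202 (flp_c L245201) q9928, e3 q8203 L245343 q9942, e3 q8204 (flp_c L245218) q9930, e3 q8205 (flp_c L245231) q9931, e3 q8206 (flp_c L245248) q9933, e3 q8207 L169108 q6968, e3 q8208 L169118 q6969, e3 q8209 L169127 q6970, e3 q8210 L245429 q9951, e3 q8211 L169144 q6972, e3 q8212 (flp_c L169152) q6747, e3 q8213 (flp_c L245458) q9954, e3 q8214 L169174 q6975, e3 q8215 L169188 q8215, e3 q8216 L169198 q8216, e3 q8217 L169206 q8217, e3 q8218 L245545 q9963, e3 q8219 L169224 q8219, e3 q8220 L169235 q8220, e3 q8221 L169241 q6758, e3 q8222 L169249 q6759, e3 q8223 L169260 q6760, e3 q8224 L169268 q6761, e3 q8225 (flp_c L242038) q9739, e3 q8226 L169284 q6762, e3 q8227 (flp_c L242055) q9741, e3 q8228 (flp_c L242064) q9742, e3 q8229 (flp_c L245592) q9967, e3 q8230 (flp_c L245600)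 q9968, e3 q8231 (flp_c L245609) q9969, e3 q8232 L245739 q9985, e3 q8233 (flp_c L245626) q9971, e3 q8234 (flp_c L245637) q9972, e3 q8235 (flp_c L245653) q9974, e3 q8236 L169368 q8236, e3 q8237 L169376 q8237, e3 q8238 L169385 q6772, e3 q8239 L169393 q6773, e3 q8240 L169402 q6774, e3 q8241 L245854 q9998, e3 q8242 L169419 q6776, e3 q8243 L169430 q6777, e3 q8244 (flp_c L242204) q9747, e3 q8245 L169446 q6778, e3 q8246 (flp_c L242218) q9749, e3 q8247 (flp_c L242225) q9750, e3 q8248 (flp_c L242235) q9751, e3 q8249 (flp_c L242243) q9752, e3 q8250 (flp_c L242252) q9753, e3 q8251 (flp_c L245813) q9993, e3 q8252 (flp_c L245821) q9994, e3 q8253 (flp_c L245831) q9995, e3 q8254 L246006 q10017, e3 q8255 (flp_c L245848) q9997, trivial⟩ (by decide +kernel)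

theorem ce_c_129 : ∀ r, r < 64 → sm gc (Qf (8256 + r)) = Qf (tab Gen.c (8256 + r)) :=
  edges_tab (sm gc) Qf (tab Gen.c) 8256 [(8256, 6775), (8257, 10020), (8258, 10002), (8259, 7018), (8260, 7019), (8261, 10025), (8262, 7021), (8263, 10028), (8264, 7023), (8265, 6782), (8266, 10031), (8267, 10019), (8268, 6785), (8269, 10035), (8270, 6787), (8271, 10037), (8272, 10038), (8273, 8273), (8274, 6790), (8275, 6791), (8276, 10040), (8277, 10039), (8278, 10044), (8279, 10046), (8280, 8280), (8281, 8281), (8282, 8282), (8283, 8283), (8284, 8284), (8285, 8285), (8286, 8286), (8287, 6799), (8288, 6800), (8289, 10059), (8290, 10060), (8291, 10061), (8292, 10063), (8293, 8293), (8294, 6804), (8295, 6805), (8296, 6806), (8297, 10045), (8298, 6807), (8299, 10070), (8300, 10071), (8301, 10072), (8302, 10073), (8303, 10075), (8304, 9814), (8305, 9815), (8306, 9816), (8307, 10090), (8308, 9818), (8309, 9819), (8310, 9820), (8311, 8311), (8312, 8312), (8313, 6817), (8314, 6818), (8315, 6819), (8316, 8316), (8317, 6820), (8318, 10098), (8319,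 10099)]
    ⟨e3 q8256 (flp_c L169527) q6775, e3 q8257 (flp_c L246029) q10020, e3 q8258 (flp_c L245889) q10002, e3 q8259 L169552 q7018, e3 q8260 L169561 q7019, e3 q8261 L246069 q10025, e3 q8262 L169578 q7021, e3 q8263 L246094 q10028, e3 q8264 L169594 q7023, e3 q8265 (flp_c L169601) q6782, e3 q8266 (flp_c L246121) q10031, e3 q8267 (flp_c L246025) q10019, e3 q8268 L169627 q6785, e3 q8269 (flp_c L246154) q10035, e3 q8270 (flp_c L169641) q6787, e3 q8271 (flp_c L246174) q10037, e3 q8272 (flp_c L246184) q10038, e3 q8273 L169677 q8273, e3 q8274 L169686 q6790, e3 q8275 L169695 q6791, e3 q8276 L614229 q10040, e3 q8277 L614236 q10039, e3 q8278 (flp_c L246265) q10044, e3 q8279 (flp_c L246283) q10046, e3 q8280 L169743 q8280, e3 q8281 L169754 q8281, e3 q8282 L169762 q8282, e3 q8283 L169771 q8283, e3 q8284 L169781 q8284, e3 q8285 L169790 q8285, e3 q8286 L169808 q8286, e3 q8287 L169813 q6799, e3 q8288 L169824 q6800, e3 q8289 (flp_c L246427) q10059, e3 q8290 (flp_c L246439) q10060, e3 q8291 (flp_c L246449) q10061, e3 q8292 (flp_c L246467)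 q10063, e3 q8293 L169879 q8293, e3 q8294 L169888 q6804, e3 q8295 L169898 q6805, e3 q8296 L169906 q6806, e3 q8297 (flp_c L246277) q10045, e3 q8298 L169920 q6807, e3 q8299 (flp_c L246540) q10070, e3 q8300 (flp_c L246548) q10071, e3 q8301 (flp_c L246558) q10072, e3 q8302 (flp_c L246568) q10073, e3 q8303 (flp_c L246582) q10075, e3 q8304 (flp_c L243751) q9814, e3 q8305 (flp_c L243761) q9815, e3 q8306 (flp_c L243772) q9816, e3 q8307 L246714 q10090, e3 q8308 (flp_c L243789) q9818, e3 q8309 (flp_c L243802) q9819, e3 q8310 (flp_c L243813) q9820, e3 q8311 L170041 q8311, e3 q8312 L170049 q8312, e3 q8313 L170059 q6817, e3 q8314 L170069 q6818, e3 q8315 L170077 q6819, e3 q8316 L170090 q8316, e3 q8317 L170096 q6820, e3 q8318 (flp_c L246798) q10098, e3 q8319 (flp_c L246806) q10099, trivial⟩ (by decide +kernel)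

theorem ce_c_130 : ∀ r, r < 64 → sm gc (Qf (8320 + r)) = Qf (tab Gen.c (8320 + r)) :=
  edges_tab (sm gc) Qf (tab Gen.c) 8320 [(8320, 10100), (8321, 10101), (8322, 10103), (8323, 8323), (8324, 6827), (8325, 6828), (8326, 6829), (8327, 6830), (8328, 8328), (8329, 6831), (8330, 8330), (8331, 8331), (8332, 10114), (8333, 10115), (8334, 10116), (8335, 10132), (8336, 10118), (8337, 10119), (8338, 10121), (8339, 9792), (8340, 9817), (8341, 7212), (8342, 7351), (8343, 9846), (8344, 6835), (8345, 10140), (8346, 9848), (8347, 8347), (8348, 6840), (8349, 6841), (8350, 10048), (8351, 10143), (8352, 10144), (8353, 10146), (8354, 8354), (8355, 6845), (8356, 6846), (8357, 6847), (8358, 6866), (8359, 6848), (8360, 10149), (8361, 10152), (8362, 10147), (8363, 10153), (8364, 10155), (8365, 8365), (8366, 8366), (8367, 8367), (8368, 10169), (8369, 8369), (8370, 8370), (8371, 8371), (8372, 8372), (8373, 8373), (8374, 6858), (8375, 6859), (8376, 6860), (8377, 10145), (8378, 6861), (8379, 10177), (8380, 10178), (8381, 10179), (8382, 10180), (8383,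 10182)]
    ⟨e3 q8320 (flp_c L246818) q10100, e3 q8321 (flp_c L246828) q10101, e3 q8322 (flp_c L246847) q10103, e3 q8323 L170157 q8323, e3 q8324 L170161 q6827, e3 q8325 L170167 q6828, e3 q8326 L170177 q6829, e3 q8327 L170185 q6830, e3 q8328 L170196 q8328, e3 q8329 L170200 q6831, e3 q8330 L170208 q8330, e3 q8331 L170217 q8331, e3 q8332 (flp_c L246960) q10114, e3 q8333 (flp_c L246967) q10115, e3 q8334 (flp_c L246975) q10116, e3 q8335 L247103 q10132, e3 q8336 (flp_c L246989) q10118, e3 q8337 (flp_c L246999) q10119, e3 q8338 (flp_c L247015) q10121, e3 q8339 L632069 q9792, e3 q8340 L644142 q9817, e3 q8341 L644081 q7212, e3 q8342 (flp_c L641334) q7351, e3 q8343 (flp_c L244115) q9846, e3 q8344 (flp_c L170324) q6835, e3 q8345 (flp_c L247209) q10140, e3 q8346 (flp_c L244142) q9848, e3 q8347 L170360 q8347, e3 q8348 L170365 q6840, e3 q8349 L170373 q6841, e3 q8350 (flp_c L614268) q10048, e3 q8351 (flp_c L247254) q10143, e3 q8352 (flp_c L247264) q10144, e3 q8353 (flp_c L247281) q10146, e3 q8354 L170421 q8354, e3 q8355 L170431 q6845, e3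 q8356 L170438 q6846, e3 q8357 L170447 q6847, e3 q8358 L170456 q6866, e3 q8359 L170462 q6848, e3 q8360 (flp_c L613995) q10149, e3 q8361 (flp_c L247353) q10152, e3 q8362 (flp_c L614303) q10147, e3 q8363 (flp_c L247370) q10153, e3 q8364 (flp_c L247387) q10155, e3 q8365 L170514 q8365, e3 q8366 L170523 q8366, e3 q8367 L170531 q8367, e3 q8368 L247516 q10169, e3 q8369 L170546 q8369, e3 q8370 L170554 q8370, e3 q8371 L170564 q8371, e3 q8372 L170576 q8372, e3 q8373 L170584 q8373, e3 q8374 L170593 q6858, e3 q8375 L170603 q6859, e3 q8376 L170614 q6860, e3 q8377 (flp_c L247274) q10145, e3 q8378 L170629 q6861, e3 q8379 (flp_c L247601) q10177, e3 q8380 (flp_c L247611) q10178, e3 q8381 (flp_c L247621) q10179, e3 q8382 (flp_c L247632) q10180, e3 q8383 (flp_c L247649) q10182, trivial⟩ (by decide +kernel)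

theorem ce_c_131 : ∀ r, r < 64 → sm gc (Qf (8384 + r)) = Qf (tab Gen.c (8384 + r)) :=
  edges_tab (sm gc) Qf (tab Gen.c) 8384 [(8384, 8384), (8385, 6868), (8386, 6869), (8387, 6870), (8388, 6871), (8389, 10154), (8390, 6872), (8391, 10156), (8392, 10157), (8393, 10193), (8394, 10194), (8395, 10195), (8396, 10211), (8397, 10197), (8398, 10198), (8399, 10200), (8400, 9864), (8401, 9865), (8402, 9866), (8403, 10220), (8404, 9868), (8405, 6876), (8406, 10223), (8407, 9871), (8408, 8408), (8409, 8409), (8410, 8410), (8411, 8411), (8412, 8412), (8413, 6887), (8414, 6888), (8415, 6889), (8416, 6890), (8417, 8417), (8418, 6891), (8419, 8419), (8420, 10233), (8421, 10234), (8422, 10235), (8423, 10249), (8424, 10237), (8425, 10238), (8426, 10240), (8427, 8427), (8428, 8428), (8429, 6901), (8430, 6902), (8431, 6903), (8432, 10262), (8433, 6905), (8434, 6906), (8435, 8435), (8436, 6907), (8437, 8437), (8438, 8438), (8439, 8439), (8440, 8440), (8441, 8441), (8442, 10257), (8443, 10258), (8444, 10259), (8445, 10281), (8446, 10261), (8447,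 6904)]
    ⟨e3 q8384 L170691 q8384, e3 q8385 L170695 q6868, e3 q8386 L170703 q6869, e3 q8387 L170711 q6870, e3 q8388 L170720 q6871, e3 q8389 (flp_c L247381) q10154, e3 q8390 L170733 q6872, e3 q8391 (flp_c L247395) q10156, e3 q8392 (flp_c L247404) q10157, e3 q8393 (flp_c L247758) q10193, e3 q8394 (flp_c L247768) q10194, e3 q8395 (flp_c L247776) q10195, e3 q8396 L247896 q10211, e3 q8397 (flp_c L247788) q10197, e3 q8398 (flp_c L247798) q10198, e3 q8399 (flp_c L247813) q10200, e3 q8400 (flp_c L244421) q9864, e3 q8401 (flp_c L244432) q9865, e3 q8402 (flp_c L244443) q9866, e3 q8403 L247972 q10220, e3 q8404 (flp_c L244458) q9868, e3 q8405 (flp_c L170856) q6876, e3 q8406 (flp_c L247993) q10223, e3 q8407 (flp_c L244485) q9871, e3 q8408 L170882 q8408, e3 q8409 L170889 q8409, e3 q8410 L170897 q8410, e3 q8411 L170911 q8411, e3 q8412 L170922 q8412, e3 q8413 L170928 q6887, e3 q8414 L170936 q6888, e3 q8415 L170946 q6889, e3 q8416 L170955 q6890, e3 q8417 L170967 q8417, e3 q8418 L170973 q6891, e3 q8419 L170991 q8419, e3 q8420 (flp_c L248103)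 q10233, e3 q8421 (flp_c L248113) q10234, e3 q8422 (flp_c L248121) q10235, e3 q8423 L248263 q10249, e3 q8424 (flp_c L248137) q10237, e3 q8425 (flp_c L248147) q10238, e3 q8426 (flp_c L248167) q10240, e3 q8427 L171063 q8427, e3 q8428 L171069 q8428, e3 q8429 L171075 q6901, e3 q8430 L171083 q6902, e3 q8431 L171089 q6903, e3 q8432 L248360 q10262, e3 q8433 L171101 q6905, e3 q8434 L171109 q6906, e3 q8435 L171121 q8435, e3 q8436 L171125 q6907, e3 q8437 L171133 q8437, e3 q8438 L171137 q8438, e3 q8439 L171144 q8439, e3 q8440 L171150 q8440, e3 q8441 L171159 q8441, e3 q8442 (flp_c L248324) q10257, e3 q8443 (flp_c L248332) q10258, e3 q8444 (flp_c L248342) q10259, e3 q8445 L248501 q10281, e3 q8446 (flp_c L248354) q10261, e3 q8447 (flp_c L171206) q6904, trivial⟩ (by decide +kernel)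

theorem ce_c_132 : ∀ r, r < 64 → sm gc (Qf (8448 + r)) = Qf (tab Gen.c (8448 + r)) :=
  edges_tab (sm gc) Qf (tab Gen.c) 8448 [(8448, 10284), (8449, 10266), (8450, 9915), (8451, 9916), (8452, 10289), (8453, 9918), (8454, 7417), (8455, 9919), (8456, 6911), (8457, 10294), (8458, 10283), (8459, 6914), (8460, 10298), (8461, 8461), (8462, 8462), (8463, 6919), (8464, 6920), (8465, 6945), (8466, 6921), (8467, 10158), (8468, 10302), (8469, 10304), (8470, 6928), (8471, 6929), (8472, 6930), (8473, 6931), (8474, 6957), (8475, 6932), (8476, 6959), (8477, 6960), (8478, 7947), (8479, 7946), (8480, 10308), (8481, 10310), (8482, 10311), (8483, 10313), (8484, 8484), (8485, 8485), (8486, 8486), (8487, 10328), (8488, 8488), (8489, 6936), (8490, 10331), (8491, 8491), (8492, 8492), (8493, 8493), (8494, 8494), (8495, 8495), (8496, 6947), (8497, 6948), (8498, 6949), (8499, 6950), (8500, 10303), (8501, 6951), (8502, 10305), (8503, 10337), (8504, 10338), (8505, 10339), (8506, 10341), (8507, 10342), (8508, 10344), (8509, 7040), (8510, 7041), (8511,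 6961)]
    ⟨e3 q8448 (flp_c L248526) q10284, e3 q8449 (flp_c L248386) q10266, e3 q8450 (flp_c L244864) q9915, e3 q8451 (flp_c L244873) q9916, e3 q8452 L248565 q10289, e3 q8453 (flp_c L244891) q9918, e3 q8454 L637659 q7417, e3 q8455 (flp_c L244907) q9919, e3 q8456 (flp_c L171278) q6911, e3 q8457 (flp_c L248615) q10294, e3 q8458 (flp_c L248522) q10283, e3 q8459 L171302 q6914, e3 q8460 (flp_c L248644) q10298, e3 q8461 L171319 q8461, e3 q8462 L171328 q8462, e3 q8463 L171344 q6919, e3 q8464 L171352 q6920, e3 q8465 L171362 q6945, e3 q8466 L171369 q6921, e3 q8467 L614322 q10158, e3 q8468 (flp_c L248734) q10302, e3 q8469 (flp_c L248752) q10304, e3 q8470 L171434 q6928, e3 q8471 L171442 q6929, e3 q8472 L171451 q6930, e3 q8473 L171459 q6931, e3 q8474 L171469 q6957, e3 q8475 L171475 q6932, e3 q8476 L171484 q6959, e3 q8477 L171492 q6960, e3 q8478 (flp_c L616577) q7947, e3 q8479 L616370 q7946, e3 q8480 (flp_c L248882) q10308, e3 q8481 (flp_c L248896) q10310, e3 q8482 (flp_c L248906) q10311, e3 q8483 (flp_c L248922) q10313, e3 q8484 L171563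 q8484, e3 q8485 L171572 q8485, e3 q8486 L171579 q8486, e3 q8487 L249094 q10328, e3 q8488 L171597 q8488, e3 q8489 (flp_c L171603) q6936, e3 q8490 (flp_c L249125) q10331, e3 q8491 L171625 q8491, e3 q8492 L171636 q8492, e3 q8493 L171646 q8493, e3 q8494 L171654 q8494, e3 q8495 L171668 q8495, e3 q8496 L171690 q6947, e3 q8497 L171700 q6948, e3 q8498 L171711 q6949, e3 q8499 L171721 q6950, e3 q8500 (flp_c L248745) q10303, e3 q8501 L171737 q6951, e3 q8502 (flp_c L248771) q10305, e3 q8503 (flp_c L249250) q10337, e3 q8504 (flp_c L249260) q10338, e3 q8505 (flp_c L249271) q10339, e3 q8506 (flp_c L249288) q10341, e3 q8507 (flp_c L249301) q10342, e3 q8508 (flp_c L249317) q10344, e3 q8509 L171832 q7040, e3 q8510 L171841 q7041, e3 q8511 L171849 q6961, trivial⟩ (by decide +kernel)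

theorem ce_c_133 : ∀ r, r < 64 → sm gc (Qf (8512 + r)) = Qf (tab Gen.c (8512 + r)) :=
  edges_tab (sm gc) Qf (tab Gen.c) 8512 [(8512, 6962), (8513, 6963), (8514, 10363), (8515, 6965), (8516, 6966), (8517, 10312), (8518, 6967), (8519, 10314), (8520, 10315), (8521, 10316), (8522, 10317), (8523, 10318), (8524, 10358), (8525, 10359), (8526, 10360), (8527, 10382), (8528, 10362), (8529, 6964), (8530, 10385), (8531, 10367), (8532, 9945), (8533, 9946), (8534, 10389), (8535, 9948), (8536, 10392), (8537, 9950), (8538, 6971), (8539, 10395), (8540, 10384), (8541, 6974), (8542, 10399), (8543, 7604), (8544, 8544), (8545, 8545), (8546, 8546), (8547, 8547), (8548, 8548), (8549, 7060), (8550, 7061), (8551, 6988), (8552, 6989), (8553, 6990), (8554, 10419), (8555, 6992), (8556, 6993), (8557, 8557), (8558, 6994), (8559, 8559), (8560, 8560), (8561, 8561), (8562, 10414), (8563, 10415), (8564, 10416), (8565, 10434), (8566, 10418), (8567, 6991), (8568, 10437), (8569, 10423), (8570, 7069), (8571, 7070), (8572, 7071), (8573, 10444), (8574, 7073),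 (8575, 7010)]
    ⟨e3 q8512 L171857 q6962, e3 q8513 L171866 q6963, e3 q8514 L249525 q10363, e3 q8515 L171879 q6965, e3 q8516 L171890 q6966, e3 q8517 (flp_c L248916) q10312, e3 q8518 L171902 q6967, e3 q8519 (flp_c L248930) q10314, e3 q8520 (flp_c L248937) q10315, e3 q8521 (flp_c L248947) q10316, e3 q8522 (flp_c L248955) q10317, e3 q8523 (flp_c L248964) q10318, e3 q8524 (flp_c L249488) q10358, e3 q8525 (flp_c L249496) q10359, e3 q8526 (flp_c L249504) q10360, e3 q8527 L249666 q10382, e3 q8528 (flp_c L249517) q10362, e3 q8529 (flp_c L171983) q6964, e3 q8530 (flp_c L249691) q10385, e3 q8531 (flp_c L249552) q10367, e3 q8532 (flp_c L245373) q9945, e3 q8533 (flp_c L245384) q9946, e3 q8534 L249733 q10389, e3 q8535 (flp_c L245401) q9948, e3 q8536 L249758 q10392, e3 q8537 (flp_c L245420) q9950, e3 q8538 (flp_c L172061) q6971, e3 q8539 (flp_c L249783) q10395, e3 q8540 (flp_c L249687) q10384, e3 q8541 L172085 q6974, e3 q8542 (flp_c L249814) q10399, e3 q8543 L547074 q7604, e3 q8544 L172112 q8544, e3 q8545 L172119 q8545, e3 q8546 L172129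 q8546, e3 q8547 L172136 q8547, e3 q8548 L172151 q8548, e3 q8549 L172180 q7060, e3 q8550 L172189 q7061, e3 q8551 L172199 q6988, e3 q8552 L172207 q6989, e3 q8553 L172216 q6990, e3 q8554 L250061 q10419, e3 q8555 L172233 q6992, e3 q8556 L172244 q6993, e3 q8557 L172255 q8557, e3 q8558 L172261 q6994, e3 q8559 L172269 q8559, e3 q8560 L172276 q8560, e3 q8561 L172305 q8561, e3 q8562 (flp_c L250020) q10414, e3 q8563 (flp_c L250028) q10415, e3 q8564 (flp_c L250038) q10416, e3 q8565 L250234 q10434, e3 q8566 (flp_c L250055) q10418, e3 q8567 (flp_c L172355) q6991, e3 q8568 (flp_c L250266) q10437, e3 q8569 (flp_c L250099) q10423, e3 q8570 L172387 q7069, e3 q8571 L172395 q7070, e3 q8572 L172403 q7071, e3 q8573 L250327 q10444, e3 q8574 L172417 q7073, e3 q8575 L172425 q7010, trivial⟩ (by decide +kernel)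

theorem ce_c_134 : ∀ r, r < 64 → sm gc (Qf (8576 + r)) = Qf (tab Gen.c (8576 + r)) :=
  edges_tab (sm gc) Qf (tab Gen.c) 8576 [(8576, 7011), (8577, 7012), (8578, 10453), (8579, 7014), (8580, 7000), (8581, 10457), (8582, 10458), (8583, 8583), (8584, 7017), (8585, 8585), (8586, 8586), (8587, 8587), (8588, 8588), (8589, 8589), (8590, 8590), (8591, 8591), (8592, 8592), (8593, 10447), (8594, 10448), (8595, 10476), (8596, 10450), (8597, 10479), (8598, 10452), (8599, 7013), (8600, 10482), (8601, 7026), (8602, 7016), (8603, 10486), (8604, 10022), (8605, 10489), (8606, 10024), (8607, 7020), (8608, 10493), (8609, 10494), (8610, 7022), (8611, 10498), (8612, 10481), (8613, 7025), (8614, 10502), (8615, 10484), (8616, 10485), (8617, 7028), (8618, 7953), (8619, 7952), (8620, 7036), (8621, 7866), (8622, 7587), (8623, 10353), (8624, 10354), (8625, 10355), (8626, 10357), (8627, 7044), (8628, 10513), (8629, 7580), (8630, 10516), (8631, 10518), (8632, 7047), (8633, 7057), (8634, 8634), (8635, 10522), (8636, 8636), (8637, 7051), (8638, 10524),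 (8639, 10523)]
    ⟨e3 q8576 L172431 q7011, e3 q8577 L172439 q7012, e3 q8578 L250392 q10453, e3 q8579 L172452 q7014, e3 q8580 (flp_c L172458) q7000, e3 q8581 (flp_c L250419) q10457, e3 q8582 (flp_c L250425) q10458, e3 q8583 L172482 q8583, e3 q8584 L172486 q7017, e3 q8585 L172493 q8585, e3 q8586 L172499 q8586, e3 q8587 L172506 q8587, e3 q8588 L172513 q8588, e3 q8589 L172519 q8589, e3 q8590 L172526 q8590, e3 q8591 L172532 q8591, e3 q8592 L172540 q8592, e3 q8593 (flp_c L250351) q10447, e3 q8594 (flp_c L250358) q10448, e3 q8595 L250558 q10476, e3 q8596 (flp_c L250372) q10450, e3 q8597 L250585 q10479, e3 q8598 (flp_c L250385) q10452, e3 q8599 (flp_c L172599) q7013, e3 q8600 (flp_c L250614) q10482, e3 q8601 L172623 q7026, e3 q8602 L172627 q7016, e3 q8603 (flp_c L250650) q10486, e3 q8604 (flp_c L246045) q10022, e3 q8605 L250676 q10489, e3 q8606 (flp_c L246063) q10024, e3 q8607 (flp_c L172667) q7020, e3 q8608 (flp_c L250713) q10493, e3 q8609 (flp_c L250723) q10494, e3 q8610 (flp_c L172693) q7022, e3 q8611 (flp_c L250757) q10498,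 e3 q8612 (flp_c L250610) q10481, e3 q8613 L172721 q7025, e3 q8614 (flp_c L250790) q10502, e3 q8615 (flp_c L250630) q10484, e3 q8616 (flp_c L250642) q10485, e3 q8617 L172754 q7028, e3 q8618 (flp_c L616630) q7953, e3 q8619 L616619 q7952, e3 q8620 (flp_c L173510) q7036, e3 q8621 (flp_c L547146) q7866, e3 q8622 L563026 q7587, e3 q8623 (flp_c L249444) q10353, e3 q8624 (flp_c L249454) q10354, e3 q8625 (flp_c L249464) q10355, e3 q8626 (flp_c L249478) q10357, e3 q8627 L173907 q7044, e3 q8628 (flp_c L252567) q10513, e3 q8629 L563125 q7580, e3 q8630 L252799 q10516, e3 q8631 L252822 q10518, e3 q8632 (flp_c L174106) q7047, e3 q8633 L174123 q7057, e3 q8634 L174144 q8634, e3 q8635 L252899 q10522, e3 q8636 L174161 q8636, e3 q8637 (flp_c L174169) q7051, e3 q8638 L616004 q10524, e3 q8639 L615976 q10523, trivial⟩ (by decide +kernel)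

theorem ce_c_135 : ∀ r, r < 64 → sm gc (Qf (8640 + r)) = Qf (tab Gen.c (8640 + r)) :=
  edges_tab (sm gc) Qf (tab Gen.c) 8640 [(8640, 7053), (8641, 10506), (8642, 10519), (8643, 7056), (8644, 10529), (8645, 7876), (8646, 7514), (8647, 7059), (8648, 10409), (8649, 10410), (8650, 10411), (8651, 10413), (8652, 7064), (8653, 10538), (8654, 7633), (8655, 10541), (8656, 10543), (8657, 7067), (8658, 8658), (8659, 10438), (8660, 10439), (8661, 10440), (8662, 10441), (8663, 10554), (8664, 10443), (8665, 7072), (8666, 10557), (8667, 7079), (8668, 7080), (8669, 10560), (8670, 10562), (8671, 7077), (8672, 8672), (8673, 10558), (8674, 10567), (8675, 7612), (8676, 7081), (8677, 10571), (8678, 10572), (8679, 7083), (8680, 10576), (8681, 7098), (8682, 7086), (8683, 10580), (8684, 7101), (8685, 7102), (8686, 7089), (8687, 10584), (8688, 8688), (8689, 7091), (8690, 10586), (8691, 10585), (8692, 10570), (8693, 7094), (8694, 7095), (8695, 7645), (8696, 10592), (8697, 10575), (8698, 7097), (8699, 10596), (8700, 10578), (8701, 10579), (8702,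 7100), (8703, 10581)]
    ⟨e3 q8640 (flp_c L174192) q7053, e3 q8641 L616025 q10506, e3 q8642 (flp_c L252840) q10519, e3 q8643 L174215 q7056, e3 q8644 (flp_c L253002) q10529, e3 q8645 (flp_c L551138) q7876, e3 q8646 L547093 q7514, e3 q8647 L174245 q7059, e3 q8648 (flp_c L249972) q10409, e3 q8649 (flp_c L249982) q10410, e3 q8650 (flp_c L249992) q10411, e3 q8651 (flp_c L250010) q10413, e3 q8652 L174440 q7064, e3 q8653 (flp_c L253338) q10538, e3 q8654 L562945 q7633, e3 q8655 L253546 q10541, e3 q8656 L253574 q10543, e3 q8657 (flp_c L174622) q7067, e3 q8658 L174645 q8658, e3 q8659 (flp_c L250285) q10438, e3 q8660 (flp_c L250292) q10439, e3 q8661 (flp_c L250300) q10440, e3 q8662 (flp_c L250308) q10441, e3 q8663 L253705 q10554, e3 q8664 (flp_c L250322) q10443, e3 q8665 (flp_c L174706) q7072, e3 q8666 (flp_c L253744) q10557, e3 q8667 L174732 q7079, e3 q8668 L174741 q7080, e3 q8669 L253793 q10560, e3 q8670 L253816 q10562, e3 q8671 (flp_c L174781) q7077, e3 q8672 L174808 q8672, e3 q8673 (flp_c L253768) q10558, e3 q8674 L253998 q10567,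 e3 q8675 L563174 q7612, e3 q8676 (flp_c L174917) q7081, e3 q8677 (flp_c L254032) q10571, e3 q8678 (flp_c L254039) q10572, e3 q8679 (flp_c L174941) q7083, e3 q8680 (flp_c L254073) q10576, e3 q8681 L174962 q7098, e3 q8682 L174966 q7086, e3 q8683 (flp_c L254105) q10580, e3 q8684 L174980 q7101, e3 q8685 L174990 q7102, e3 q8686 L174998 q7089, e3 q8687 L254135 q10584, e3 q8688 L175015 q8688, e3 q8689 (flp_c L175022) q7091, e3 q8690 L647122 q10586, e3 q8691 L647131 q10585, e3 q8692 (flp_c L254028) q10570, e3 q8693 L175056 q7094, e3 q8694 L175064 q7095, e3 q8695 (flp_c L628701) q7645, e3 q8696 (flp_c L254248) q10592, e3 q8697 (flp_c L254069) q10575, e3 q8698 L175097 q7097, e3 q8699 (flp_c L254282) q10596, e3 q8700 (flp_c L254089) q10578, e3 q8701 (flp_c L254098) q10579, e3 q8702 L175129 q7100, e3 q8703 (flp_c L254114) q10581, trivial⟩ (by decide +kernel)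

theorem ce_c_136 : ∀ r, r < 64 → sm gc (Qf (8704 + r)) = Qf (tab Gen.c (8704 + r)) :=
  edges_tab (sm gc) Qf (tab Gen.c) 8704 [(8704, 10582), (8705, 10532), (8706, 7104), (8707, 7995), (8708, 7990), (8709, 7114), (8710, 7115), (8711, 10603), (8712, 7993), (8713, 9782), (8714, 7122), (8715, 7969), (8716, 9778), (8717, 7967), (8718, 7996), (8719, 8719), (8720, 8720), (8721, 7348), (8722, 7133), (8723, 7134), (8724, 7135), (8725, 10608), (8726, 10609), (8727, 7997), (8728, 8728), (8729, 8729), (8730, 9800), (8731, 7228), (8732, 7146), (8733, 10613), (8734, 7979), (8735, 9794), (8736, 9877), (8737, 7981), (8738, 7974), (8739, 7998), (8740, 8740), (8741, 8741), (8742, 8742), (8743, 10624), (8744, 8744), (8745, 7154), (8746, 7381), (8747, 8747), (8748, 7162), (8749, 7163), (8750, 7164), (8751, 7165), (8752, 10629), (8753, 10630), (8754, 7848), (8755, 10631), (8756, 10632), (8757, 7352), (8758, 7354), (8759, 8759), (8760, 8760), (8761, 7175), (8762, 7176), (8763, 7177), (8764, 8764), (8765, 7178), (8766, 10628), (8767, 10638)]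
    ⟨e3 q8704 (flp_c L254124) q10582, e3 q8705 (flp_c L253028) q10532, e3 q8706 (flp_c L175334) q7104, e3 q8707 (flp_c L620880) q7995, e3 q8708 L620942 q7990, e3 q8709 L175766 q7114, e3 q8710 L175777 q7115, e3 q8711 (flp_c L255255) q10603, e3 q8712 L641836 q7993, e3 q8713 L644993 q9782, e3 q8714 L175946 q7122, e3 q8715 L620656 q7969, e3 q8716 L645010 q9778, e3 q8717 (flp_c L621163) q7967, e3 q8718 L644884 q7996, e3 q8719 L176024 q8719, e3 q8720 L176040 q8720, e3 q8721 (flp_c L641048) q7348, e3 q8722 L176380 q7133, e3 q8723 L176387 q7134, e3 q8724 L176397 q7135, e3 q8725 (flp_c L256165) q10608, e3 q8726 (flp_c L256174) q10609, e3 q8727 (flp_c L645081) q7997, e3 q8728 L176458 q8728, e3 q8729 L176490 q8729, e3 q8730 (flp_c L644604) q9800, e3 q8731 L176608 q7228, e3 q8732 L176615 q7146, e3 q8733 (flp_c L256535) q10613, e3 q8734 L621412 q7979, e3 q8735 (flp_c L645017) q9794, e3 q8736 L645156 q9877, e3 q8737 L645118 q7981, e3 q8738 L621331 q7974, e3 q8739 (flp_c L642340) q7998, e3 q8740 L176726 q8740, e3 q8741 L176735 q8741, e3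 q8742 L176742 q8742, e3 q8743 L256730 q10624, e3 q8744 L176758 q8744, e3 q8745 (flp_c L176763) q7154, e3 q8746 L641137 q7381, e3 q8747 L176933 q8747, e3 q8748 L177028 q7162, e3 q8749 L177038 q7163, e3 q8750 L177049 q7164, e3 q8751 L177068 q7165, e3 q8752 (flp_c L257145) q10629, e3 q8753 (flp_c L257155) q10630, e3 q8754 L620488 q7848, e3 q8755 (flp_c L257178) q10631, e3 q8756 (flp_c L257197) q10632, e3 q8757 L177155 q7352, e3 q8758 L177176 q7354, e3 q8759 L177189 q8759, e3 q8760 L177200 q8760, e3 q8761 L177208 q7175, e3 q8762 L177216 q7176, e3 q8763 L177225 q7177, e3 q8764 L177238 q8764, e3 q8765 L177245 q7178, e3 q8766 (flp_c L621586) q10628, e3 q8767 (flp_c L257424) q10638, trivial⟩ (by decide +kernel)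

theorem ce_c_137 : ∀ r, r < 64 → sm gc (Qf (8768 + r)) = Qf (tab Gen.c (8768 + r)) :=
  edges_tab (sm gc) Qf (tab Gen.c) 8768 [(8768, 7843), (8769, 10639), (8770, 10641), (8771, 7970), (8772, 7185), (8773, 7186), (8774, 7188), (8775, 8775), (8776, 7189), (8777, 8777), (8778, 8778), (8779, 10650), (8780, 7900), (8781, 10651), (8782, 10663), (8783, 10653), (8784, 7898), (8785, 10654), (8786, 7382), (8787, 7383), (8788, 10086), (8789, 7385), (8790, 7193), (8791, 10670), (8792, 7388), (8793, 8793), (8794, 8794), (8795, 10607), (8796, 7204), (8797, 7205), (8798, 7206), (8799, 7207), (8800, 7208), (8801, 10673), (8802, 10674), (8803, 10675), (8804, 10683), (8805, 10677), (8806, 10678), (8807, 10679), (8808, 7414), (8809, 7415), (8810, 7418), (8811, 10137), (8812, 7421), (8813, 8813), (8814, 8814), (8815, 8815), (8816, 8816), (8817, 9801), (8818, 7223), (8819, 7224), (8820, 7225), (8821, 7226), (8822, 8822), (8823, 7227), (8824, 8824), (8825, 10693), (8826, 10671), (8827, 10694), (8828, 9893), (8829, 10696), (8830, 10697), (8831,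 10699)]
    ⟨e3 q8768 (flp_c L621572) q7843, e3 q8769 (flp_c L257445) q10639, e3 q8770 (flp_c L257465) q10641, e3 q8771 L621636 q7970, e3 q8772 L177307 q7185, e3 q8773 L177315 q7186, e3 q8774 L177336 q7188, e3 q8775 L177349 q8775, e3 q8776 L177356 q7189, e3 q8777 L177366 q8777, e3 q8778 L177376 q8778, e3 q8779 (flp_c L257572) q10650, e3 q8780 L620687 q7900, e3 q8781 (flp_c L257589) q10651, e3 q8782 L257729 q10663, e3 q8783 (flp_c L257605) q10653, e3 q8784 (flp_c L621519) q7898, e3 q8785 (flp_c L257636) q10654, e3 q8786 L177447 q7382, e3 q8787 L177455 q7383, e3 q8788 (flp_c L640282) q10086, e3 q8789 L177472 q7385, e3 q8790 (flp_c L177478) q7193, e3 q8791 (flp_c L257829) q10670, e3 q8792 L177497 q7388, e3 q8793 L177698 q8793, e3 q8794 L177716 q8794, e3 q8795 (flp_c L256158) q10607, e3 q8796 L177847 q7204, e3 q8797 L177857 q7205, e3 q8798 L177865 q7206, e3 q8799 L177877 q7207, e3 q8800 L177895 q7208, e3 q8801 (flp_c L258374) q10673, e3 q8802 (flp_c L258384) q10674, e3 q8803 (flp_c L258394) q10675, e3 q8804 L258526 q10683, e3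 q8805 (flp_c L258408) q10677, e3 q8806 (flp_c L258418) q10678, e3 q8807 (flp_c L258438) q10679, e3 q8808 L177974 q7414, e3 q8809 L177985 q7415, e3 q8810 L178008 q7418, e3 q8811 L644224 q10137, e3 q8812 L178029 q7421, e3 q8813 L178043 q8813, e3 q8814 L178050 q8814, e3 q8815 L178061 q8815, e3 q8816 L178080 q8816, e3 q8817 (flp_c L645167) q9801, e3 q8818 L178093 q7223, e3 q8819 L178101 q7224, e3 q8820 L178109 q7225, e3 q8821 L178119 q7226, e3 q8822 L178131 q8822, e3 q8823 L178138 q7227, e3 q8824 L178155 q8824, e3 q8825 (flp_c L258741) q10693, e3 q8826 L621449 q10671, e3 q8827 (flp_c L258757) q10694, e3 q8828 L645195 q9893, e3 q8829 (flp_c L258771) q10696, e3 q8830 (flp_c L258779) q10697, e3 q8831 (flp_c L258800) q10699, trivial⟩ (by decide +kernel)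

theorem ce_c_138 : ∀ r, r < 64 → sm gc (Qf (8832 + r)) = Qf (tab Gen.c (8832 + r)) :=
  edges_tab (sm gc) Qf (tab Gen.c) 8832 [(8832, 7982), (8833, 9889), (8834, 7237), (8835, 7238), (8836, 7239), (8837, 10718), (8838, 7241), (8839, 7242), (8840, 8840), (8841, 7243), (8842, 8842), (8843, 8843), (8844, 8844), (8845, 8845), (8846, 10713), (8847, 10714), (8848, 10715), (8849, 10734), (8850, 10717), (8851, 7240), (8852, 10737), (8853, 10721), (8854, 7459), (8855, 7460), (8856, 10742), (8857, 7462), (8858, 10745), (8859, 7464), (8860, 7247), (8861, 10748), (8862, 10736), (8863, 7250), (8864, 10752), (8865, 10753), (8866, 8866), (8867, 7253), (8868, 10756), (8869, 8869), (8870, 8870), (8871, 8871), (8872, 7263), (8873, 7264), (8874, 7265), (8875, 10768), (8876, 7267), (8877, 7268), (8878, 7269), (8879, 10763), (8880, 10764), (8881, 10765), (8882, 10777), (8883, 10767), (8884, 7266), (8885, 10780), (8886, 10770), (8887, 7503), (8888, 7504), (8889, 10783), (8890, 7506), (8891, 10785), (8892, 7508), (8893, 7273), (8894, 10788), (8895,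 10779)]
    ⟨e3 q8832 (flp_c L621440) q7982, e3 q8833 L645203 q9889, e3 q8834 L178234 q7237, e3 q8835 L178242 q7238, e3 q8836 L178250 q7239, e3 q8837 L258994 q10718, e3 q8838 L178264 q7241, e3 q8839 L178272 q7242, e3 q8840 L178286 q8840, e3 q8841 L178293 q7243, e3 q8842 L178303 q8842, e3 q8843 L178310 q8843, e3 q8844 L178319 q8844, e3 q8845 L178326 q8845, e3 q8846 (flp_c L258952) q10713, e3 q8847 (flp_c L258962) q10714, e3 q8848 (flp_c L258972) q10715, e3 q8849 L259148 q10734, e3 q8850 (flp_c L258988) q10717, e3 q8851 (flp_c L178379) q7240, e3 q8852 (flp_c L259169) q10737, e3 q8853 (flp_c L259025) q10721, e3 q8854 L178401 q7459, e3 q8855 L178408 q7460, e3 q8856 L259204 q10742, e3 q8857 L178424 q7462, e3 q8858 L259224 q10745, e3 q8859 L178439 q7464, e3 q8860 (flp_c L178445) q7247, e3 q8861 (flp_c L259250) q10748, e3 q8862 (flp_c L259165) q10736, e3 q8863 L178469 q7250, e3 q8864 (flp_c L259279) q10752, e3 q8865 L259726 q10753, e3 q8866 L178761 q8866, e3 q8867 (flp_c L178767) q7253, e3 q8868 (flp_c L259755) q10756, e3 q8869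 L178788 q8869, e3 q8870 L178993 q8870, e3 q8871 L179004 q8871, e3 q8872 L179012 q7263, e3 q8873 L179020 q7264, e3 q8874 L179031 q7265, e3 q8875 L260167 q10768, e3 q8876 L179046 q7267, e3 q8877 L179057 q7268, e3 q8878 L179074 q7269, e3 q8879 (flp_c L260124) q10763, e3 q8880 (flp_c L260134) q10764, e3 q8881 (flp_c L260142) q10765, e3 q8882 L260321 q10777, e3 q8883 (flp_c L260159) q10767, e3 q8884 (flp_c L179160) q7266, e3 q8885 (flp_c L260342) q10780, e3 q8886 (flp_c L260199) q10770, e3 q8887 L179183 q7503, e3 q8888 L179192 q7504, e3 q8889 L260380 q10783, e3 q8890 L179207 q7506, e3 q8891 L260399 q10785, e3 q8892 L179223 q7508, e3 q8893 (flp_c L179232) q7273, e3 q8894 (flp_c L260426) q10788, e3 q8895 (flp_c L260338) q10779, trivial⟩ (by decide +kernel)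

theorem ce_c_139 : ∀ r, r < 64 → sm gc (Qf (8896 + r)) = Qf (tab Gen.c (8896 + r)) :=
  edges_tab (sm gc) Qf (tab Gen.c) 8896 [(8896, 7276), (8897, 10792), (8898, 10530), (8899, 8899), (8900, 8900), (8901, 8901), (8902, 8902), (8903, 8903), (8904, 8904), (8905, 8905), (8906, 7290), (8907, 7291), (8908, 7292), (8909, 10812), (8910, 7294), (8911, 7295), (8912, 8912), (8913, 7296), (8914, 8914), (8915, 8915), (8916, 10807), (8917, 10808), (8918, 10809), (8919, 10826), (8920, 10811), (8921, 7293), (8922, 10829), (8923, 10816), (8924, 8924), (8925, 8925), (8926, 8926), (8927, 10837), (8928, 8928), (8929, 7311), (8930, 7312), (8931, 7313), (8932, 10846), (8933, 7315), (8934, 7302), (8935, 10850), (8936, 10851), (8937, 8937), (8938, 7318), (8939, 8939), (8940, 8940), (8941, 8941), (8942, 8942), (8943, 8943), (8944, 8944), (8945, 10840), (8946, 10841), (8947, 10866), (8948, 10843), (8949, 10869), (8950, 10845), (8951, 7314), (8952, 10872), (8953, 7327), (8954, 7317), (8955, 10876), (8956, 7566), (8957, 10879), (8958, 7568), (8959,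 7321)]
    ⟨e3 q8896 L179256 q7276, e3 q8897 (flp_c L260457) q10792, e3 q8898 L551382 q10530, e3 q8899 L179283 q8899, e3 q8900 L179292 q8900, e3 q8901 L179302 q8901, e3 q8902 L179312 q8902, e3 q8903 L179332 q8903, e3 q8904 L179367 q8904, e3 q8905 L179376 q8905, e3 q8906 L179384 q7290, e3 q8907 L179390 q7291, e3 q8908 L179399 q7292, e3 q8909 L260724 q10812, e3 q8910 L179414 q7294, e3 q8911 L179423 q7295, e3 q8912 L179434 q8912, e3 q8913 L179441 q7296, e3 q8914 L179449 q8914, e3 q8915 L179457 q8915, e3 q8916 (flp_c L260685) q10807, e3 q8917 (flp_c L260693) q10808, e3 q8918 (flp_c L260701) q10809, e3 q8919 L260886 q10826, e3 q8920 (flp_c L260718) q10811, e3 q8921 (flp_c L179530) q7293, e3 q8922 (flp_c L260914) q10829, e3 q8923 (flp_c L260759) q10816, e3 q8924 L179559 q8924, e3 q8925 L179566 q8925, e3 q8926 L179576 q8926, e3 q8927 L260976 q10837, e3 q8928 L179592 q8928, e3 q8929 L179600 q7311, e3 q8930 L179608 q7312, e3 q8931 L179616 q7313, e3 q8932 L261047 q10846, e3 q8933 L179633 q7315, e3 q8934 (flp_c L179639) q7302, e3 q8935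 (flp_c L261078) q10850, e3 q8936 (flp_c L261084) q10851, e3 q8937 L179665 q8937, e3 q8938 L179672 q7318, e3 q8939 L179681 q8939, e3 q8940 L179690 q8940, e3 q8941 L179699 q8941, e3 q8942 L179709 q8942, e3 q8943 L179727 q8943, e3 q8944 L179734 q8944, e3 q8945 (flp_c L261002) q10840, e3 q8946 (flp_c L261009) q10841, e3 q8947 L261240 q10866, e3 q8948 (flp_c L261025) q10843, e3 q8949 L261259 q10869, e3 q8950 (flp_c L261040) q10845, e3 q8951 (flp_c L179793) q7314, e3 q8952 (flp_c L261286) q10872, e3 q8953 L179813 q7327, e3 q8954 L179817 q7317, e3 q8955 (flp_c L261316) q10876, e3 q8956 L179831 q7566, e3 q8957 L261336 q10879, e3 q8958 L179847 q7568, e3 q8959 (flp_c L179853) q7321, trivial⟩ (by decide +kernel)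

theorem ce_c_140 : ∀ r, r < 64 → sm gc (Qf (8960 + r)) = Qf (tab Gen.c (8960 + r)) :=
  edges_tab (sm gc) Qf (tab Gen.c) 8960 [(8960, 10883), (8961, 10884), (8962, 7323), (8963, 10888), (8964, 10871), (8965, 7326), (8966, 10892), (8967, 10874), (8968, 10875), (8969, 7329), (8970, 8970), (8971, 7333), (8972, 7334), (8973, 7335), (8974, 7336), (8975, 10898), (8976, 10899), (8977, 7894), (8978, 10900), (8979, 10901), (8980, 8980), (8981, 7343), (8982, 7344), (8983, 7345), (8984, 7346), (8985, 8985), (8986, 7347), (8987, 8987), (8988, 10910), (8989, 10688), (8990, 10911), (8991, 10920), (8992, 10913), (8993, 10914), (8994, 10916), (8995, 9847), (8996, 10138), (8997, 9735), (8998, 8998), (8999, 8999), (9000, 9000), (9001, 7360), (9002, 7361), (9003, 7362), (9004, 7363), (9005, 7364), (9006, 10925), (9007, 10926), (9008, 10927), (9009, 10937), (9010, 10929), (9011, 10930), (9012, 10931), (9013, 9013), (9014, 9014), (9015, 7374), (9016, 7375), (9017, 7376), (9018, 10948), (9019, 7378), (9020, 7379), (9021, 7672), (9022, 7380),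 (9023, 7674)]
    ⟨e3 q8960 (flp_c L261372) q10883, e3 q8961 (flp_c L261379) q10884, e3 q8962 (flp_c L179873) q7323, e3 q8963 (flp_c L261409) q10888, e3 q8964 (flp_c L261282) q10871, e3 q8965 L179903 q7326, e3 q8966 (flp_c L261446) q10892, e3 q8967 (flp_c L261301) q10874, e3 q8968 (flp_c L261310) q10875, e3 q8969 L179936 q7329, e3 q8970 L179945 q8970, e3 q8971 L179964 q7333, e3 q8972 L179974 q7334, e3 q8973 L179985 q7335, e3 q8974 L180005 q7336, e3 q8975 (flp_c L261537) q10898, e3 q8976 (flp_c L261547) q10899, e3 q8977 (flp_c L622604) q7894, e3 q8978 (flp_c L261570) q10900, e3 q8979 (flp_c L261590) q10901, e3 q8980 L180070 q8980, e3 q8981 L180075 q7343, e3 q8982 L180083 q7344, e3 q8983 L180091 q7345, e3 q8984 L180102 q7346, e3 q8985 L180113 q8985, e3 q8986 L180118 q7347, e3 q8987 L180136 q8987, e3 q8988 (flp_c L261708) q10910, e3 q8989 (flp_c L611217) q10688, e3 q8990 (flp_c L261725) q10911, e3 q8991 L261857 q10920, e3 q8992 (flp_c L261737) q10913, e3 q8993 (flp_c L261747) q10914, e3 q8994 (flp_c L261764) q10916, e3 q8995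 (flp_c L644169) q9847, e3 q8996 L637491 q10138, e3 q8997 L641249 q9735, e3 q8998 L180277 q8998, e3 q8999 L180284 q8999, e3 q9000 L180320 q9000, e3 q9001 L180327 q7360, e3 q9002 L180335 q7361, e3 q9003 L180345 q7362, e3 q9004 L180356 q7363, e3 q9005 L180377 q7364, e3 q9006 (flp_c L262084) q10925, e3 q9007 (flp_c L262091) q10926, e3 q9008 (flp_c L262101) q10927, e3 q9009 L262255 q10937, e3 q9010 (flp_c L262117) q10929, e3 q9011 (flp_c L262127) q10930, e3 q9012 (flp_c L262149) q10931, e3 q9013 L180474 q9013, e3 q9014 L180481 q9014, e3 q9015 L180488 q7374, e3 q9016 L180493 q7375, e3 q9017 L180501 q7376, e3 q9018 L262357 q10948, e3 q9019 L180513 q7378, e3 q9020 L180521 q7379, e3 q9021 L180533 q7672, e3 q9022 L180539 q7380, e3 q9023 L180546 q7674, trivial⟩ (by decide +kernel)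

theorem ce_c_141 : ∀ r, r < 64 → sm gc (Qf (9024 + r)) = Qf (tab Gen.c (9024 + r)) :=
  edges_tab (sm gc) Qf (tab Gen.c) 9024 [(9024, 7675), (9025, 7676), (9026, 7677), (9027, 10943), (9028, 10944), (9029, 10945), (9030, 10963), (9031, 10947), (9032, 7377), (9033, 10966), (9034, 10951), (9035, 10625), (9036, 10627), (9037, 10088), (9038, 10666), (9039, 10972), (9040, 9923), (9041, 7384), (9042, 10975), (9043, 10965), (9044, 7387), (9045, 10979), (9046, 9046), (9047, 9047), (9048, 9048), (9049, 7394), (9050, 7395), (9051, 7396), (9052, 7397), (9053, 7398), (9054, 10983), (9055, 10984), (9056, 10985), (9057, 10995), (9058, 10987), (9059, 10988), (9060, 10989), (9061, 9061), (9062, 9062), (9063, 7407), (9064, 7408), (9065, 7409), (9066, 11007), (9067, 7411), (9068, 7412), (9069, 9069), (9070, 7413), (9071, 9071), (9072, 9072), (9073, 11002), (9074, 11003), (9075, 11004), (9076, 11020), (9077, 11006), (9078, 7410), (9079, 11023), (9080, 11011), (9081, 10622), (9082, 9917), (9083, 10287), (9084, 10686), (9085, 9920), (9086, 10292),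 (9087, 11022)]
    ⟨e3 q9024 L180554 q7675, e3 q9025 L180564 q7676, e3 q9026 L180572 q7677, e3 q9027 (flp_c L262323) q10943, e3 q9028 (flp_c L262330) q10944, e3 q9029 (flp_c L262337) q10945, e3 q9030 L262518 q10963, e3 q9031 (flp_c L262351) q10947, e3 q9032 (flp_c L180630) q7377, e3 q9033 (flp_c L262546) q10966, e3 q9034 (flp_c L262388) q10951, e3 q9035 L641127 q10625, e3 q9036 (flp_c L641153) q10627, e3 q9037 L637399 q10088, e3 q9038 (flp_c L257779) q10666, e3 q9039 L262605 q10972, e3 q9040 (flp_c L641202) q9923, e3 q9041 (flp_c L180704) q7384, e3 q9042 (flp_c L262636) q10975, e3 q9043 (flp_c L262542) q10965, e3 q9044 L180731 q7387, e3 q9045 (flp_c L262669) q10979, e3 q9046 L180749 q9046, e3 q9047 L180756 q9047, e3 q9048 L180793 q9048, e3 q9049 L180800 q7394, e3 q9050 L180810 q7395, e3 q9051 L180818 q7396, e3 q9052 L180830 q7397, e3 q9053 L180849 q7398, e3 q9054 (flp_c L262783) q10983, e3 q9055 (flp_c L262793) q10984, e3 q9056 (flp_c L262803) q10985, e3 q9057 L262949 q10995, e3 q9058 (flp_c L262817) q10987, e3 q9059 (flp_c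 L262827) q10988, e3 q9060 (flp_c L262848) q10989, e3 q9061 L180942 q9061, e3 q9062 L180951 q9062, e3 q9063 L180956 q7407, e3 q9064 L180964 q7408, e3 q9065 L180972 q7409, e3 q9066 L263049 q11007, e3 q9067 L180982 q7411, e3 q9068 L180990 q7412, e3 q9069 L181002 q9069, e3 q9070 L181007 q7413, e3 q9071 L181017 q9071, e3 q9072 L181022 q9072, e3 q9073 (flp_c L263011) q11002, e3 q9074 (flp_c L263021) q11003, e3 q9075 (flp_c L263029) q11004, e3 q9076 L263192 q11020, e3 q9077 (flp_c L263041) q11006, e3 q9078 (flp_c L181093) q7410, e3 q9079 (flp_c L263215) q11023, e3 q9080 (flp_c L263072) q11011, e3 q9081 (flp_c L634937) q10622, e3 q9082 L641018 q9917, e3 q9083 L637653 q10287, e3 q9084 (flp_c L258572) q10686, e3 q9085 (flp_c L644215) q9920, e3 q9086 (flp_c L637631) q10292, e3 q9087 (flp_c L263211) q11022, trivial⟩ (by decide +kernel)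

theorem ce_c_142 : ∀ r, r < 64 → sm gc (Qf (9088 + r)) = Qf (tab Gen.c (9088 + r)) :=
  edges_tab (sm gc) Qf (tab Gen.c) 9088 [(9088, 7420), (9089, 11031), (9090, 10903), (9091, 9091), (9092, 9092), (9093, 9093), (9094, 9094), (9095, 7430), (9096, 7431), (9097, 7432), (9098, 11043), (9099, 7434), (9100, 7435), (9101, 7436), (9102, 11038), (9103, 11039), (9104, 11040), (9105, 11052), (9106, 11042), (9107, 7433), (9108, 11055), (9109, 11045), (9110, 9110), (9111, 9111), (9112, 9112), (9113, 11062), (9114, 9114), (9115, 7451), (9116, 7452), (9117, 7453), (9118, 11071), (9119, 7455), (9120, 7442), (9121, 11075), (9122, 11076), (9123, 7716), (9124, 7458), (9125, 7718), (9126, 7719), (9127, 7720), (9128, 7721), (9129, 7722), (9130, 7723), (9131, 11065), (9132, 11066), (9133, 11090), (9134, 11068), (9135, 11093), (9136, 11070), (9137, 7454), (9138, 11096), (9139, 7467), (9140, 7457), (9141, 11100), (9142, 10739), (9143, 11103), (9144, 10741), (9145, 7461), (9146, 11107), (9147, 11108), (9148, 7463), (9149, 11112), (9150, 11095),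 (9151, 7466)]
    ⟨e3 q9088 L181185 q7420, e3 q9089 (flp_c L263323) q11031, e3 q9090 (flp_c L617628) q10903, e3 q9091 L181205 q9091, e3 q9092 L181219 q9092, e3 q9093 L181277 q9093, e3 q9094 L181286 q9094, e3 q9095 L181293 q7430, e3 q9096 L181301 q7431, e3 q9097 L181309 q7432, e3 q9098 L263557 q11043, e3 q9099 L181323 q7434, e3 q9100 L181331 q7435, e3 q9101 L181353 q7436, e3 q9102 (flp_c L263515) q11038, e3 q9103 (flp_c L263525) q11039, e3 q9104 (flp_c L263535) q11040, e3 q9105 L263732 q11052, e3 q9106 (flp_c L263551) q11042, e3 q9107 (flp_c L181452) q7433, e3 q9108 (flp_c L263762) q11055, e3 q9109 (flp_c L263591) q11045, e3 q9110 L181481 q9110, e3 q9111 L181486 q9111, e3 q9112 L181493 q9112, e3 q9113 L263813 q11062, e3 q9114 L181504 q9114, e3 q9115 L181509 q7451, e3 q9116 L181517 q7452, e3 q9117 L181525 q7453, e3 q9118 L263868 q11071, e3 q9119 L181537 q7455, e3 q9120 (flp_c L181543) q7442, e3 q9121 (flp_c L263892) q11075, e3 q9122 (flp_c L263898) q11076, e3 q9123 L181561 q7716, e3 q9124 L181567 q7458, e3 q9125 L181575 q7718,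 e3 q9126 L181583 q7719, e3 q9127 L181593 q7720, e3 q9128 L181601 q7721, e3 q9129 L181615 q7722, e3 q9130 L181623 q7723, e3 q9131 (flp_c L263830) q11065, e3 q9132 (flp_c L263836) q11066, e3 q9133 L264039 q11090, e3 q9134 (flp_c L263850) q11068, e3 q9135 L264061 q11093, e3 q9136 (flp_c L263862) q11070, e3 q9137 (flp_c L181686) q7454, e3 q9138 (flp_c L264089) q11096, e3 q9139 L181708 q7467, e3 q9140 L181712 q7457, e3 q9141 (flp_c L264121) q11100, e3 q9142 (flp_c L259180) q10739, e3 q9143 L264139 q11103, e3 q9144 (flp_c L259196) q10741, e3 q9145 (flp_c L181747) q7461, e3 q9146 (flp_c L264174) q11107, e3 q9147 (flp_c L264182) q11108, e3 q9148 (flp_c L181768) q7463, e3 q9149 (flp_c L264211) q11112, e3 q9150 (flp_c L264085) q11095, e3 q9151 L181795 q7466, trivial⟩ (by decide +kernel)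

theorem ce_c_143 : ∀ r, r < 64 → sm gc (Qf (9152 + r)) = Qf (tab Gen.c (9152 + r)) :=
  edges_tab (sm gc) Qf (tab Gen.c) 9152 [(9152, 11116), (9153, 11098), (9154, 11099), (9155, 7469), (9156, 9156), (9157, 9157), (9158, 7477), (9159, 7478), (9160, 7479), (9161, 10356), (9162, 7480), (9163, 7481), (9164, 7482), (9165, 11122), (9166, 11123), (9167, 11124), (9168, 11126), (9169, 11128), (9170, 7581), (9171, 7582), (9172, 7583), (9173, 10340), (9174, 7584), (9175, 7495), (9176, 7496), (9177, 7497), (9178, 11147), (9179, 7499), (9180, 7488), (9181, 11151), (9182, 11152), (9183, 9183), (9184, 7502), (9185, 9185), (9186, 9186), (9187, 9187), (9188, 11141), (9189, 11142), (9190, 11162), (9191, 11144), (9192, 11165), (9193, 11146), (9194, 7498), (9195, 11168), (9196, 7511), (9197, 7501), (9198, 10743), (9199, 11173), (9200, 10782), (9201, 7505), (9202, 11177), (9203, 11178), (9204, 7507), (9205, 11182), (9206, 11167), (9207, 7510), (9208, 11186), (9209, 11169), (9210, 11170), (9211, 7513), (9212, 10528), (9213, 10531), (9214, 9214),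 (9215, 9215)]
    ⟨e3 q9152 (flp_c L264244) q11116, e3 q9153 (flp_c L264106) q11098, e3 q9154 (flp_c L264115) q11099, e3 q9155 L181824 q7469, e3 q9156 L181842 q9156, e3 q9157 L181859 q9157, e3 q9158 L181937 q7477, e3 q9159 L181945 q7478, e3 q9160 L181956 q7479, e3 q9161 (flp_c L546902) q10356, e3 q9162 L181971 q7480, e3 q9163 L181982 q7481, e3 q9164 L182000 q7482, e3 q9165 (flp_c L264480) q11122, e3 q9166 (flp_c L264490) q11123, e3 q9167 (flp_c L264498) q11124, e3 q9168 (flp_c L264515) q11126, e3 q9169 (flp_c L264558) q11128, e3 q9170 L182129 q7581, e3 q9171 L182137 q7582, e3 q9172 L182148 q7583, e3 q9173 L546929 q10340, e3 q9174 L182161 q7584, e3 q9175 L182170 q7495, e3 q9176 L182178 q7496, e3 q9177 L182184 q7497, e3 q9178 L264854 q11147, e3 q9179 L182197 q7499, e3 q9180 (flp_c L182205) q7488, e3 q9181 (flp_c L264879) q11151, e3 q9182 (flp_c L264885) q11152, e3 q9183 L182225 q9183, e3 q9184 L182230 q7502, e3 q9185 L182239 q9185, e3 q9186 L182246 q9186, e3 q9187 L182261 q9187, e3 q9188 (flp_c L264813) q11141, e3 q9189 (flp_c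 L264820) q11142, e3 q9190 L265020 q11162, e3 q9191 (flp_c L264832) q11144, e3 q9192 L265041 q11165, e3 q9193 (flp_c L264845) q11146, e3 q9194 (flp_c L182348) q7498, e3 q9195 (flp_c L265070) q11168, e3 q9196 L182370 q7511, e3 q9197 L182374 q7501, e3 q9198 L641025 q10743, e3 q9199 L265126 q11173, e3 q9200 (flp_c L260372) q10782, e3 q9201 (flp_c L182412) q7505, e3 q9202 (flp_c L265161) q11177, e3 q9203 (flp_c L265169) q11178, e3 q9204 (flp_c L182432) q7507, e3 q9205 (flp_c L265199) q11182, e3 q9206 (flp_c L265066) q11167, e3 q9207 L182460 q7510, e3 q9208 (flp_c L265234) q11186, e3 q9209 (flp_c L265088) q11169, e3 q9210 (flp_c L265098) q11170, e3 q9211 L182491 q7513, e3 q9212 (flp_c L561428) q10528, e3 q9213 L547307 q10531, e3 q9214 L182524 q9214, e3 q9215 L182529 q9215, trivial⟩ (by decide +kernel)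

theorem ce_c_144 : ∀ r, r < 64 → sm gc (Qf (9216 + r)) = Qf (tab Gen.c (9216 + r)) :=
  edges_tab (sm gc) Qf (tab Gen.c) 9216 [(9216, 7606), (9217, 7607), (9218, 7608), (9219, 10583), (9220, 7609), (9221, 7526), (9222, 7527), (9223, 7528), (9224, 11208), (9225, 7530), (9226, 7522), (9227, 11211), (9228, 7533), (9229, 11202), (9230, 11203), (9231, 11216), (9232, 11205), (9233, 11219), (9234, 11207), (9235, 7529), (9236, 11222), (9237, 9237), (9238, 7532), (9239, 7617), (9240, 7618), (9241, 7619), (9242, 7620), (9243, 11233), (9244, 7622), (9245, 7537), (9246, 11237), (9247, 11238), (9248, 7555), (9249, 7556), (9250, 11245), (9251, 7558), (9252, 11248), (9253, 7560), (9254, 7542), (9255, 11252), (9256, 11253), (9257, 10849), (9258, 7545), (9259, 7546), (9260, 11260), (9261, 11261), (9262, 11262), (9263, 7779), (9264, 7780), (9265, 7781), (9266, 7782), (9267, 7783), (9268, 7784), (9269, 7785), (9270, 7786), (9271, 11242), (9272, 11275), (9273, 11244), (9274, 7557), (9275, 11279), (9276, 11280), (9277, 7559), (9278, 11284),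 (9279, 7574)]
    ⟨e3 q9216 L182646 q7606, e3 q9217 L182654 q7607, e3 q9218 L182665 q7608, e3 q9219 L547321 q10583, e3 q9220 L182682 q7609, e3 q9221 L182691 q7526, e3 q9222 L182699 q7527, e3 q9223 L182707 q7528, e3 q9224 L265646 q11208, e3 q9225 L182724 q7530, e3 q9226 (flp_c L182730) q7522, e3 q9227 (flp_c L265688) q11211, e3 q9228 L182766 q7533, e3 q9229 (flp_c L265601) q11202, e3 q9230 (flp_c L265608) q11203, e3 q9231 L265859 q11216, e3 q9232 (flp_c L265624) q11205, e3 q9233 L265885 q11219, e3 q9234 (flp_c L265639) q11207, e3 q9235 (flp_c L182905) q7529, e3 q9236 (flp_c L265921) q11222, e3 q9237 L182933 q9237, e3 q9238 L182938 q7532, e3 q9239 L182955 q7617, e3 q9240 L182961 q7618, e3 q9241 L182969 q7619, e3 q9242 L182975 q7620, e3 q9243 L266026 q11233, e3 q9244 L182990 q7622, e3 q9245 (flp_c L182996) q7537, e3 q9246 (flp_c L266057) q11237, e3 q9247 (flp_c L266065) q11238, e3 q9248 L183017 q7555, e3 q9249 L183022 q7556, e3 q9250 L266110 q11245, e3 q9251 L183034 q7558, e3 q9252 L266124 q11248, e3 q9253 L183045 q7560, e3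 q9254 (flp_c L183052) q7542, e3 q9255 (flp_c L266153) q11252, e3 q9256 (flp_c L266161) q11253, e3 q9257 (flp_c L261074) q10849, e3 q9258 L183077 q7545, e3 q9259 L183084 q7546, e3 q9260 (flp_c L266204) q11260, e3 q9261 (flp_c L266211) q11261, e3 q9262 (flp_c L266220) q11262, e3 q9263 L183106 q7779, e3 q9264 L183115 q7780, e3 q9265 L183124 q7781, e3 q9266 L183130 q7782, e3 q9267 L183146 q7783, e3 q9268 L183154 q7784, e3 q9269 L183172 q7785, e3 q9270 L183179 q7786, e3 q9271 (flp_c L266091) q11242, e3 q9272 L266367 q11275, e3 q9273 (flp_c L266104) q11244, e3 q9274 (flp_c L183222) q7557, e3 q9275 (flp_c L266405) q11279, e3 q9276 (flp_c L266413) q11280, e3 q9277 (flp_c L183244) q7559, e3 q9278 (flp_c L266446) q11284, e3 q9279 L183272 q7574, trivial⟩ (by decide +kernel)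

theorem ce_c_145 : ∀ r, r < 64 → sm gc (Qf (9280 + r)) = Qf (tab Gen.c (9280 + r)) :=
  edges_tab (sm gc) Qf (tab Gen.c) 9280 [(9280, 7562), (9281, 11288), (9282, 7577), (9283, 7578), (9284, 7565), (9285, 10593), (9286, 10878), (9287, 7567), (9288, 7651), (9289, 11294), (9290, 11278), (9291, 7570), (9292, 7571), (9293, 11296), (9294, 11295), (9295, 11283), (9296, 7573), (9297, 7805), (9298, 11286), (9299, 11287), (9300, 7576), (9301, 11289), (9302, 11290), (9303, 11189), (9304, 10514), (9305, 11133), (9306, 11134), (9307, 11135), (9308, 11136), (9309, 11138), (9310, 7586), (9311, 10507), (9312, 11316), (9313, 7588), (9314, 11319), (9315, 7589), (9316, 7600), (9317, 7603), (9318, 11322), (9319, 9319), (9320, 7593), (9321, 11324), (9322, 11323), (9323, 11318), (9324, 7596), (9325, 7597), (9326, 10520), (9327, 11329), (9328, 11320), (9329, 7599), (9330, 11333), (9331, 11321), (9332, 10400), (9333, 7602), (9334, 9956), (9335, 10401), (9336, 7659), (9337, 11195), (9338, 11196), (9339, 11197), (9340, 11198), (9341, 11200), (9342,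 7611), (9343, 10566)]
    ⟨e3 q9280 L183276 q7562, e3 q9281 (flp_c L266486) q11288, e3 q9282 L183294 q7577, e3 q9283 L183305 q7578, e3 q9284 L183312 q7565, e3 q9285 L646884 q10593, e3 q9286 (flp_c L261331) q10878, e3 q9287 (flp_c L183333) q7567, e3 q9288 (flp_c L647006) q7651, e3 q9289 (flp_c L266564) q11294, e3 q9290 (flp_c L266401) q11278, e3 q9291 L183369 q7570, e3 q9292 L183378 q7571, e3 q9293 L646947 q11296, e3 q9294 L646966 q11295, e3 q9295 (flp_c L266442) q11283, e3 q9296 L183408 q7573, e3 q9297 (flp_c L647304) q7805, e3 q9298 (flp_c L266466) q11286, e3 q9299 (flp_c L266478) q11287, e3 q9300 L183445 q7576, e3 q9301 (flp_c L266498) q11289, e3 q9302 (flp_c L266507) q11290, e3 q9303 (flp_c L265262) q11189, e3 q9304 L562255 q10514, e3 q9305 (flp_c L264745) q11133, e3 q9306 (flp_c L264753) q11134, e3 q9307 (flp_c L264763) q11135, e3 q9308 (flp_c L264769) q11136, e3 q9309 (flp_c L264784) q11138, e3 q9310 L184005 q7586, e3 q9311 L563005 q10507, e3 q9312 L267773 q11316, e3 q9313 (flp_c L184210) q7588, e3 q9314 (flp_c L267805)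 q11319, e3 q9315 (flp_c L184228) q7589, e3 q9316 L184249 q7600, e3 q9317 L184269 q7603, e3 q9318 L267900 q11322, e3 q9319 L184296 q9319, e3 q9320 (flp_c L184303) q7593, e3 q9321 L615846 q11324, e3 q9322 L615862 q11323, e3 q9323 (flp_c L267801) q11318, e3 q9324 L184335 q7596, e3 q9325 L184341 q7597, e3 q9326 L615967 q10520, e3 q9327 (flp_c L267999) q11329, e3 q9328 (flp_c L267836) q11320, e3 q9329 L184370 q7599, e3 q9330 (flp_c L268029) q11333, e3 q9331 (flp_c L267858) q11321, e3 q9332 (flp_c L552059) q10400, e3 q9333 L184404 q7602, e3 q9334 (flp_c L542472) q9956, e3 q9335 L542521 q10401, e3 q9336 L184427 q7659, e3 q9337 (flp_c L265521) q11195, e3 q9338 (flp_c L265529) q11196, e3 q9339 (flp_c L265539) q11197, e3 q9340 (flp_c L265547) q11198, e3 q9341 (flp_c L265566) q11200, e3 q9342 L184629 q7611, e3 q9343 L562269 q10566, trivial⟩ (by decide +kernel)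

theorem ce_c_146 : ∀ r, r < 64 → sm gc (Qf (9344 + r)) = Qf (tab Gen.c (9344 + r)) :=
  edges_tab (sm gc) Qf (tab Gen.c) 9344 [(9344, 11345), (9345, 7613), (9346, 11348), (9347, 7614), (9348, 9348), (9349, 9349), (9350, 11225), (9351, 11226), (9352, 11227), (9353, 11228), (9354, 11357), (9355, 11230), (9356, 11360), (9357, 11232), (9358, 7621), (9359, 11363), (9360, 9360), (9361, 7624), (9362, 7631), (9363, 11367), (9364, 7627), (9365, 11370), (9366, 7628), (9367, 9367), (9368, 9368), (9369, 11373), (9370, 10539), (9371, 7632), (9372, 11375), (9373, 11376), (9374, 7650), (9375, 7635), (9376, 7636), (9377, 11374), (9378, 11379), (9379, 7652), (9380, 7638), (9381, 11381), (9382, 7654), (9383, 7655), (9384, 7641), (9385, 7657), (9386, 7658), (9387, 10412), (9388, 11377), (9389, 11380), (9390, 11382), (9391, 11383), (9392, 11336), (9393, 11385), (9394, 9975), (9395, 11339), (9396, 7665), (9397, 7667), (9398, 9836), (9399, 9721), (9400, 7664), (9401, 11391), (9402, 9732), (9403, 7681), (9404, 7669), (9405, 11394), (9406, 11395),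 (9407, 7852)]
    ⟨e3 q9344 L268522 q11345, e3 q9345 (flp_c L184746) q7613, e3 q9346 (flp_c L268560) q11348, e3 q9347 (flp_c L184769) q7614, e3 q9348 L184796 q9348, e3 q9349 L184818 q9349, e3 q9350 (flp_c L265969) q11225, e3 q9351 (flp_c L265977) q11226, e3 q9352 (flp_c L265985) q11227, e3 q9353 (flp_c L265992) q11228, e3 q9354 L268719 q11357, e3 q9355 (flp_c L266006) q11230, e3 q9356 L268738 q11360, e3 q9357 (flp_c L266019) q11232, e3 q9358 (flp_c L184898) q7621, e3 q9359 (flp_c L268765) q11363, e3 q9360 L184919 q9360, e3 q9361 L184922 q7624, e3 q9362 L184936 q7631, e3 q9363 L268815 q11367, e3 q9364 (flp_c L184959) q7627, e3 q9365 (flp_c L268848) q11370, e3 q9366 (flp_c L184977) q7628, e3 q9367 L185001 q9367, e3 q9368 L185019 q9368, e3 q9369 L268943 q11373, e3 q9370 L562929 q10539, e3 q9371 (flp_c L185054) q7632, e3 q9372 (flp_c L268974) q11375, e3 q9373 (flp_c L268982) q11376, e3 q9374 L185083 q7650, e3 q9375 L185087 q7635, e3 q9376 L185093 q7636, e3 q9377 L646554 q11374, e3 q9378 (flp_c L269044) q11379, e3 q9379 L185119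 q7652, e3 q9380 L185123 q7638, e3 q9381 (flp_c L269078) q11381, e3 q9382 L185141 q7654, e3 q9383 L185151 q7655, e3 q9384 L185159 q7641, e3 q9385 L185169 q7657, e3 q9386 L185178 q7658, e3 q9387 L543475 q10412, e3 q9388 (flp_c L269009) q11377, e3 q9389 (flp_c L269058) q11380, e3 q9390 (flp_c L269089) q11382, e3 q9391 (flp_c L269099) q11383, e3 q9392 (flp_c L268056) q11336, e3 q9393 (flp_c L269113) q11385, e3 q9394 (flp_c L553780) q9975, e3 q9395 (flp_c L268075) q11339, e3 q9396 L185538 q7665, e3 q9397 L185570 q7667, e3 q9398 (flp_c L648151) q9836, e3 q9399 (flp_c L647990) q9721, e3 q9400 (flp_c L185671) q7664, e3 q9401 (flp_c L269888) q11391, e3 q9402 L647998 q9732, e3 q9403 L185782 q7681, e3 q9404 (flp_c L185789) q7669, e3 q9405 (flp_c L270064) q11394, e3 q9406 (flp_c L270070) q11395, e3 q9407 (flp_c L621715) q7852, trivial⟩ (by decide +kernel)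

theorem ce_c_147 : ∀ r, r < 64 → sm gc (Qf (9408 + r)) = Qf (tab Gen.c (9408 + r)) :=
  edges_tab (sm gc) Qf (tab Gen.c) 9408 [(9408, 7684), (9409, 10649), (9410, 10952), (9411, 10953), (9412, 10954), (9413, 10955), (9414, 10956), (9415, 9826), (9416, 9718), (9417, 9882), (9418, 9726), (9419, 7680), (9420, 11408), (9421, 7692), (9422, 7683), (9423, 11412), (9424, 11413), (9425, 9425), (9426, 7686), (9427, 11417), (9428, 11418), (9429, 7688), (9430, 11422), (9431, 11407), (9432, 7691), (9433, 11426), (9434, 11410), (9435, 11411), (9436, 7694), (9437, 7703), (9438, 7696), (9439, 11430), (9440, 7706), (9441, 10001), (9442, 9758), (9443, 9900), (9444, 9733), (9445, 7702), (9446, 11435), (9447, 9447), (9448, 7705), (9449, 11439), (9450, 7707), (9451, 11441), (9452, 11442), (9453, 7726), (9454, 7728), (9455, 7711), (9456, 11446), (9457, 11447), (9458, 9458), (9459, 7714), (9460, 7715), (9461, 11454), (9462, 11455), (9463, 11456), (9464, 10710), (9465, 11080), (9466, 11081), (9467, 11082), (9468, 11083), (9469, 11084), (9470, 11085),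 (9471, 11086)]
    ⟨e3 q9408 L185824 q7684, e3 q9409 (flp_c L621643) q10649, e3 q9410 (flp_c L262405) q10952, e3 q9411 (flp_c L262414) q10953, e3 q9412 (flp_c L262424) q10954, e3 q9413 (flp_c L262442) q10955, e3 q9414 (flp_c L262449) q10956, e3 q9415 L648175 q9826, e3 q9416 (flp_c L647981) q9718, e3 q9417 L648137 q9882, e3 q9418 L648006 q9726, e3 q9419 (flp_c L185954) q7680, e3 q9420 (flp_c L270279) q11408, e3 q9421 L185973 q7692, e3 q9422 L185977 q7683, e3 q9423 (flp_c L270310) q11412, e3 q9424 L270336 q11413, e3 q9425 L186012 q9425, e3 q9426 (flp_c L186019) q7686, e3 q9427 (flp_c L270371) q11417, e3 q9428 (flp_c L270378) q11418, e3 q9429 (flp_c L186041) q7688, e3 q9430 (flp_c L270410) q11422, e3 q9431 (flp_c L270275) q11407, e3 q9432 L186068 q7691, e3 q9433 (flp_c L270443) q11426, e3 q9434 (flp_c L270293) q11410, e3 q9435 (flp_c L270303) q11411, e3 q9436 L186099 q7694, e3 q9437 L186365 q7703, e3 q9438 (flp_c L186372) q7696, e3 q9439 (flp_c L270930) q11430, e3 q9440 L186406 q7706, e3 q9441 (flp_c L648070) q10001, e3 q9442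 (flp_c L648037) q9758, e3 q9443 (flp_c L648101) q9900, e3 q9444 (flp_c L648013) q9733, e3 q9445 (flp_c L186539) q7702, e3 q9446 (flp_c L271146) q11435, e3 q9447 L186559 q9447, e3 q9448 L186564 q7705, e3 q9449 (flp_c L271176) q11439, e3 q9450 (flp_c L186617) q7707, e3 q9451 (flp_c L271263) q11441, e3 q9452 (flp_c L271269) q11442, e3 q9453 L186665 q7726, e3 q9454 L186681 q7728, e3 q9455 (flp_c L186688) q7711, e3 q9456 (flp_c L271374) q11446, e3 q9457 (flp_c L271380) q11447, e3 q9458 L186713 q9458, e3 q9459 L186716 q7714, e3 q9460 L186720 q7715, e3 q9461 (flp_c L271427) q11454, e3 q9462 (flp_c L271432) q11455, e3 q9463 (flp_c L271438) q11456, e3 q9464 L611552 q10710, e3 q9465 (flp_c L263924) q11080, e3 q9466 (flp_c L263934) q11081, e3 q9467 (flp_c L263942) q11082, e3 q9468 (flp_c L263960) q11083, e3 q9469 (flp_c L263968) q11084, e3 q9470 (flp_c L263984) q11085, e3 q9471 (flp_c L263992) q11086, trivial⟩ (by decide +kernel)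

theorem ce_c_148 : ∀ r, r < 64 → sm gc (Qf (9472 + r)) = Qf (tab Gen.c (9472 + r)) :=
  edges_tab (sm gc) Qf (tab Gen.c) 9472 [(9472, 9973), (9473, 9745), (9474, 7725), (9475, 11468), (9476, 11469), (9477, 7727), (9478, 11473), (9479, 7742), (9480, 7730), (9481, 11477), (9482, 7745), (9483, 7746), (9484, 7733), (9485, 9485), (9486, 7735), (9487, 11482), (9488, 11467), (9489, 7738), (9490, 7739), (9491, 11487), (9492, 11488), (9493, 11472), (9494, 7741), (9495, 11492), (9496, 11475), (9497, 11476), (9498, 7744), (9499, 11478), (9500, 11479), (9501, 9501), (9502, 11499), (9503, 7757), (9504, 11501), (9505, 7759), (9506, 7750), (9507, 11504), (9508, 10755), (9509, 7753), (9510, 11508), (9511, 11509), (9512, 9755), (9513, 7756), (9514, 11512), (9515, 11513), (9516, 7758), (9517, 11517), (9518, 9518), (9519, 7761), (9520, 11521), (9521, 9521), (9522, 9522), (9523, 7764), (9524, 11525), (9525, 7789), (9526, 7766), (9527, 11528), (9528, 11529), (9529, 7768), (9530, 11534), (9531, 11535), (9532, 9532), (9533, 7771), (9534, 7772),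 (9535, 11542)]
    ⟨e3 q9472 L648087 q9973, e3 q9473 L648030 q9745, e3 q9474 (flp_c L186865) q7725, e3 q9475 (flp_c L271627) q11468, e3 q9476 (flp_c L271633) q11469, e3 q9477 (flp_c L186888) q7727, e3 q9478 (flp_c L271665) q11473, e3 q9479 L186906 q7742, e3 q9480 L186910 q7730, e3 q9481 (flp_c L271694) q11477, e3 q9482 L186924 q7745, e3 q9483 L186932 q7746, e3 q9484 L186937 q7733, e3 q9485 L186951 q9485, e3 q9486 (flp_c L186958) q7735, e3 q9487 (flp_c L271763) q11482, e3 q9488 (flp_c L271623) q11467, e3 q9489 L186994 q7738, e3 q9490 L187001 q7739, e3 q9491 (flp_c L271820) q11487, e3 q9492 (flp_c L271828) q11488, e3 q9493 (flp_c L271661) q11472, e3 q9494 L187032 q7741, e3 q9495 (flp_c L271858) q11492, e3 q9496 (flp_c L271679) q11475, e3 q9497 (flp_c L271688) q11476, e3 q9498 L187061 q7744, e3 q9499 (flp_c L271703) q11478, e3 q9500 (flp_c L271710) q11479, e3 q9501 L187084 q9501, e3 q9502 L272301 q11499, e3 q9503 L187341 q7757, e3 q9504 L272326 q11501, e3 q9505 L187359 q7759, e3 q9506 (flp_c L187367) q7750, e3 q9507 (flp_c L272375)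 q11504, e3 q9508 L521168 q10755, e3 q9509 L187412 q7753, e3 q9510 (flp_c L272451) q11508, e3 q9511 L272625 q11509, e3 q9512 L648021 q9755, e3 q9513 (flp_c L187574) q7756, e3 q9514 (flp_c L272667) q11512, e3 q9515 (flp_c L272676) q11513, e3 q9516 (flp_c L187601) q7758, e3 q9517 (flp_c L272712) q11517, e3 q9518 L187626 q9518, e3 q9519 L187631 q7761, e3 q9520 (flp_c L272748) q11521, e3 q9521 L187647 q9521, e3 q9522 L187658 q9522, e3 q9523 L187665 q7764, e3 q9524 L272799 q11525, e3 q9525 L187691 q7789, e3 q9526 (flp_c L187698) q7766, e3 q9527 (flp_c L272834) q11528, e3 q9528 (flp_c L272840) q11529, e3 q9529 (flp_c L187719) q7768, e3 q9530 (flp_c L272878) q11534, e3 q9531 (flp_c L272886) q11535, e3 q9532 L187751 q9532, e3 q9533 L187754 q7771, e3 q9534 L187761 q7772, e3 q9535 (flp_c L272946) q11542, trivial⟩ (by decide +kernel)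

theorem ce_c_149 : ∀ r, r < 64 → sm gc (Qf (9536 + r)) = Qf (tab Gen.c (9536 + r)) :=
  edges_tab (sm gc) Qf (tab Gen.c) 9536 [(9536, 11543), (9537, 11544), (9538, 9538), (9539, 9539), (9540, 9540), (9541, 7776), (9542, 7777), (9543, 7778), (9544, 11553), (9545, 11554), (9546, 11555), (9547, 11266), (9548, 11267), (9549, 11268), (9550, 11269), (9551, 11270), (9552, 11271), (9553, 11272), (9554, 9744), (9555, 7788), (9556, 11565), (9557, 7803), (9558, 7791), (9559, 7792), (9560, 11569), (9561, 11570), (9562, 7807), (9563, 7794), (9564, 11567), (9565, 7808), (9566, 7809), (9567, 7797), (9568, 7810), (9569, 7811), (9570, 9570), (9571, 11566), (9572, 11571), (9573, 11572), (9574, 11574), (9575, 7812), (9576, 9576), (9577, 7814), (9578, 7815), (9579, 9579), (9580, 7817), (9581, 9581), (9582, 9582), (9583, 7820), (9584, 9584), (9585, 9585), (9586, 9586), (9587, 9587), (9588, 9588), (9589, 7833), (9590, 9743), (9591, 9591), (9592, 7834), (9593, 9593), (9594, 10647), (9595, 9731), (9596, 11399), (9597, 9597), (9598, 9598), (9599,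 9599)]
    ⟨e3 q9536 (flp_c L272951) q11543, e3 q9537 (flp_c L272959) q11544, e3 q9538 L187791 q9538, e3 q9539 L187801 q9539, e3 q9540 L187808 q9540, e3 q9541 L187815 q7776, e3 q9542 L187822 q7777, e3 q9543 L187829 q7778, e3 q9544 (flp_c L273029) q11553, e3 q9545 (flp_c L273035) q11554, e3 q9546 (flp_c L273043) q11555, e3 q9547 (flp_c L266241) q11266, e3 q9548 (flp_c L266249) q11267, e3 q9549 (flp_c L266267) q11268, e3 q9550 (flp_c L266275) q11269, e3 q9551 (flp_c L266291) q11270, e3 q9552 (flp_c L266300) q11271, e3 q9553 (flp_c L266324) q11272, e3 q9554 (flp_c L647776) q9744, e3 q9555 (flp_c L187983) q7788, e3 q9556 (flp_c L273259) q11565, e3 q9557 L188016 q7803, e3 q9558 L188020 q7791, e3 q9559 L188027 q7792, e3 q9560 (flp_c L273316) q11569, e3 q9561 (flp_c L273323) q11570, e3 q9562 L188056 q7807, e3 q9563 L188060 q7794, e3 q9564 (flp_c L646668) q11567, e3 q9565 L188077 q7808, e3 q9566 L188087 q7809, e3 q9567 L188093 q7797, e3 q9568 L188103 q7810, e3 q9569 L188111 q7811, e3 q9570 L188123 q9570, e3 q9571 (flp_c L273286)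 q11566, e3 q9572 (flp_c L273341) q11571, e3 q9573 (flp_c L273370) q11572, e3 q9574 (flp_c L273395) q11574, e3 q9575 (flp_c L188350) q7812, e3 q9576 L188384 q9576, e3 q9577 L188389 q7814, e3 q9578 L188396 q7815, e3 q9579 L188426 q9579, e3 q9580 L188431 q7817, e3 q9581 L188448 q9581, e3 q9582 L188458 q9582, e3 q9583 L188466 q7820, e3 q9584 L188476 q9584, e3 q9585 L188484 q9585, e3 q9586 L188493 q9586, e3 q9587 L188590 q9587, e3 q9588 L188659 q9588, e3 q9589 L188665 q7833, e3 q9590 L549075 q9743, e3 q9591 L188678 q9591, e3 q9592 (flp_c L189316) q7834, e3 q9593 L193742 q9593, e3 q9594 (flp_c L607718) q10647, e3 q9595 (flp_c L645208) q9731, e3 q9596 L607597 q11399, e3 q9597 L195384 q9597, e3 q9598 L195405 q9598, e3 q9599 L196727 q9599, trivial⟩ (by decide +kernel)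

theorem ce_c_150 : ∀ r, r < 64 → sm gc (Qf (9600 + r)) = Qf (tab Gen.c (9600 + r)) :=
  edges_tab (sm gc) Qf (tab Gen.c) 9600 [(9600, 9600), (9601, 9601), (9602, 9602), (9603, 7860), (9604, 7939), (9605, 10309), (9606, 9606), (9607, 10330), (9608, 9608), (9609, 7958), (9610, 9610), (9611, 9611), (9612, 9612), (9613, 7964), (9614, 9614), (9615, 7872), (9616, 10397), (9617, 11608), (9618, 7962), (9619, 9619), (9620, 9620), (9621, 9621), (9622, 9622), (9623, 9623), (9624, 9624), (9625, 9625), (9626, 7971), (9627, 7972), (9628, 9628), (9629, 9629), (9630, 10907), (9631, 9631), (9632, 9632), (9633, 9633), (9634, 9634), (9635, 10660), (9636, 10665), (9637, 10619), (9638, 7983), (9639, 7984), (9640, 7985), (9641, 7933), (9642, 7934), (9643, 7935), (9644, 7936), (9645, 7938), (9646, 7940), (9647, 7941), (9648, 11630), (9649, 7943), (9650, 7911), (9651, 11632), (9652, 7913), (9653, 7957), (9654, 7959), (9655, 7960), (9656, 7961), (9657, 7963), (9658, 7965), (9659, 7966), (9660, 9660), (9661, 9661), (9662, 9662), (9663, 9663)]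
    ⟨e3 q9600 L196737 q9600, e3 q9601 L196747 q9601, e3 q9602 L196762 q9602, e3 q9603 (flp_c L197127) q7860, e3 q9604 (flp_c L616272) q7939, e3 q9605 L590518 q10309, e3 q9606 L197324 q9606, e3 q9607 L590511 q10330, e3 q9608 L197339 q9608, e3 q9609 L616216 q7958, e3 q9610 L197600 q9610, e3 q9611 L197615 q9611, e3 q9612 L197623 q9612, e3 q9613 (flp_c L616170) q7964, e3 q9614 L197639 q9614, e3 q9615 (flp_c L197642) q7872, e3 q9616 L547057 q10397, e3 q9617 (flp_c L287413) q11608, e3 q9618 L616082 q7962, e3 q9619 L197783 q9619, e3 q9620 L197801 q9620, e3 q9621 L197822 q9621, e3 q9622 L197847 q9622, e3 q9623 L198262 q9623, e3 q9624 L198648 q9624, e3 q9625 L198893 q9625, e3 q9626 L198989 q7971, e3 q9627 L199013 q7972, e3 q9628 L199367 q9628, e3 q9629 L199589 q9629, e3 q9630 (flp_c L617208) q10907, e3 q9631 L199599 q9631, e3 q9632 L200102 q9632, e3 q9633 L200116 q9633, e3 q9634 L200422 q9634, e3 q9635 (flp_c L617548) q10660, e3 q9636 L621502 q10665, e3 q9637 (flp_c L645127) q10619, e3 q9638 L200551 q7983, e3 q9639 L200573 q7984,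 e3 q9640 L200593 q7985, e3 q9641 L201032 q7933, e3 q9642 L201043 q7934, e3 q9643 L201054 q7935, e3 q9644 L201070 q7936, e3 q9645 L201342 q7938, e3 q9646 L201359 q7940, e3 q9647 L201366 q7941, e3 q9648 L292741 q11630, e3 q9649 L201379 q7943, e3 q9650 (flp_c L201385) q7911, e3 q9651 (flp_c L292778) q11632, e3 q9652 (flp_c L201450) q7913, e3 q9653 L202068 q7957, e3 q9654 L202085 q7959, e3 q9655 L202094 q7960, e3 q9656 L202112 q7961, e3 q9657 L202365 q7963, e3 q9658 L202396 q7965, e3 q9659 L202411 q7966, e3 q9660 L202418 q9660, e3 q9661 L202425 q9661, e3 q9662 L202432 q9662, e3 q9663 L202439 q9663, trivial⟩ (by decide +kernel)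

theorem ce_c_151 : ∀ r, r < 64 → sm gc (Qf (9664 + r)) = Qf (tab Gen.c (9664 + r)) :=
  edges_tab (sm gc) Qf (tab Gen.c) 9664 [(9664, 9664), (9665, 9665), (9666, 7986), (9667, 7987), (9668, 7988), (9669, 11191), (9670, 11624), (9671, 11625), (9672, 11626), (9673, 10793), (9674, 11627), (9675, 11598), (9676, 10320), (9677, 11628), (9678, 10319), (9679, 11629), (9680, 7942), (9681, 11655), (9682, 9682), (9683, 7945), (9684, 7954), (9685, 7955), (9686, 10326), (9687, 10324), (9688, 11657), (9689, 11633), (9690, 11600), (9691, 11634), (9692, 11635), (9693, 11606), (9694, 11665), (9695, 11637), (9696, 11607), (9697, 10605), (9698, 9775), (9699, 10604), (9700, 9831), (9701, 11614), (9702, 10616), (9703, 9788), (9704, 7977), (9705, 10611), (9706, 9786), (9707, 10614), (9708, 10618), (9709, 10709), (9710, 11622), (9711, 11623), (9712, 11644), (9713, 11645), (9714, 9769), (9715, 9770), (9716, 9774), (9717, 9787), (9718, 9416), (9719, 8125), (9720, 8011), (9721, 9399), (9722, 9722), (9723, 9723), (9724, 8161), (9725, 8017), (9726,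 9418), (9727, 8173)]
    ⟨e3 q9664 L202503 q9664, e3 q9665 L202522 q9665, e3 q9666 L202543 q7986, e3 q9667 L202565 q7987, e3 q9668 L202585 q7988, e3 q9669 (flp_c L614628) q11191, e3 q9670 (flp_c L292263) q11624, e3 q9671 (flp_c L292272) q11625, e3 q9672 (flp_c L292289) q11626, e3 q9673 (flp_c L616096) q10793, e3 q9674 (flp_c L292686) q11627, e3 q9675 (flp_c L615183) q11598, e3 q9676 (flp_c L616322) q10320, e3 q9677 (flp_c L292718) q11628, e3 q9678 (flp_c L613902) q10319, e3 q9679 (flp_c L292734) q11629, e3 q9680 (flp_c L203156) q7942, e3 q9681 (flp_c L295220) q11655, e3 q9682 L203183 q9682, e3 q9683 L203193 q7945, e3 q9684 L203487 q7954, e3 q9685 L203502 q7955, e3 q9686 L615454 q10326, e3 q9687 L615989 q10324, e3 q9688 (flp_c L295632) q11657, e3 q9689 (flp_c L293754) q11633, e3 q9690 (flp_c L615048) q11600, e3 q9691 (flp_c L293793) q11634, e3 q9692 (flp_c L293812) q11635, e3 q9693 (flp_c L615041) q11606, e3 q9694 L295780 q11665, e3 q9695 (flp_c L294132) q11637, e3 q9696 (flp_c L615035) q11607, e3 q9697 (flp_c L620705) q10605,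 e3 q9698 L644754 q9775, e3 q9699 (flp_c L612311) q10604, e3 q9700 (flp_c L611532) q9831, e3 q9701 (flp_c L289315) q11614, e3 q9702 L621380 q10616, e3 q9703 (flp_c L644722) q9788, e3 q9704 L205315 q7977, e3 q9705 (flp_c L645086) q10611, e3 q9706 (flp_c L645100) q9786, e3 q9707 (flp_c L621399) q10614, e3 q9708 L645072 q10618, e3 q9709 L617236 q10709, e3 q9710 (flp_c L291618) q11622, e3 q9711 (flp_c L291642) q11623, e3 q9712 (flp_c L294351) q11644, e3 q9713 (flp_c L294373) q11645, e3 q9714 (flp_c L641860) q9769, e3 q9715 (flp_c L641850) q9770, e3 q9716 L644892 q9774, e3 q9717 (flp_c L641577) q9787, e3 q9718 L647981 q9416, e3 q9719 L241512 q8125, e3 q9720 L241518 q8011, e3 q9721 L647990 q9399, e3 q9722 L241606 q9722, e3 q9723 L241627 q9723, e3 q9724 L241683 q8161, e3 q9725 L241690 q8017, e3 q9726 (flp_c L648006) q9418, e3 q9727 L241788 q8173, trivial⟩ (by decide +kernel)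

theorem ce_c_152 : ∀ r, r < 64 → sm gc (Qf (9728 + r)) = Qf (tab Gen.c (9728 + r)) :=
  edges_tab (sm gc) Qf (tab Gen.c) 9728 [(9728, 8023), (9729, 8175), (9730, 8176), (9731, 9595), (9732, 9402), (9733, 9444), (9734, 9734), (9735, 8997), (9736, 9736), (9737, 11688), (9738, 9738), (9739, 8225), (9740, 8035), (9741, 8227), (9742, 8228), (9743, 9590), (9744, 9554), (9745, 9473), (9746, 8044), (9747, 8244), (9748, 8046), (9749, 8246), (9750, 8247), (9751, 8248), (9752, 8249), (9753, 8250), (9754, 11704), (9755, 9512), (9756, 8043), (9757, 11707), (9758, 9442), (9759, 11709), (9760, 9760), (9761, 11711), (9762, 9762), (9763, 8049), (9764, 11714), (9765, 11706), (9766, 8052), (9767, 11718), (9768, 8054), (9769, 9714), (9770, 9715), (9771, 8062), (9772, 8065), (9773, 11719), (9774, 9716), (9775, 9698), (9776, 9776), (9777, 9777), (9778, 8716), (9779, 8075), (9780, 8076), (9781, 11722), (9782, 8713), (9783, 8081), (9784, 8082), (9785, 11724), (9786, 9706), (9787, 9717), (9788, 9703), (9789, 9789), (9790, 9790), (9791, 9791)]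
    ⟨e3 q9728 L241794 q8023, e3 q9729 L241802 q8175, e3 q9730 L241811 q8176, e3 q9731 L645208 q9595, e3 q9732 (flp_c L647998) q9402, e3 q9733 L648013 q9444, e3 q9734 L241912 q9734, e3 q9735 (flp_c L641249) q8997, e3 q9736 L241936 q9736, e3 q9737 L351496 q11688, e3 q9738 L241982 q9738, e3 q9739 L242038 q8225, e3 q9740 L242045 q8035, e3 q9741 L242055 q8227, e3 q9742 L242064 q8228, e3 q9743 (flp_c L549075) q9590, e3 q9744 L647776 q9554, e3 q9745 (flp_c L648030) q9473, e3 q9746 L242184 q8044, e3 q9747 L242204 q8244, e3 q9748 L242210 q8046, e3 q9749 L242218 q8246, e3 q9750 L242225 q8247, e3 q9751 L242235 q8248, e3 q9752 L242243 q8249, e3 q9753 L242252 q8250, e3 q9754 L351972 q11704, e3 q9755 (flp_c L648021) q9512, e3 q9756 (flp_c L242299) q8043, e3 q9757 (flp_c L352000) q11707, e3 q9758 L648037 q9442, e3 q9759 L352041 q11709, e3 q9760 L242352 q9760, e3 q9761 L352064 q11711, e3 q9762 L242369 q9762, e3 q9763 (flp_c L242376) q8049, e3 q9764 (flp_c L352095) q11714, e3 q9765 (flp_c L351996) q11706, e3 q9766 L242405 q8052, e3 q9767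 (flp_c L352132) q11718, e3 q9768 (flp_c L242444) q8054, e3 q9769 L641860 q9714, e3 q9770 L641850 q9715, e3 q9771 L242577 q8062, e3 q9772 L242718 q8065, e3 q9773 (flp_c L352609) q11719, e3 q9774 (flp_c L644892) q9716, e3 q9775 (flp_c L644754) q9698, e3 q9776 L242789 q9776, e3 q9777 L242799 q9777, e3 q9778 (flp_c L645010) q8716, e3 q9779 L242911 q8075, e3 q9780 L242920 q8076, e3 q9781 (flp_c L352891) q11722, e3 q9782 (flp_c L644993) q8713, e3 q9783 L243129 q8081, e3 q9784 L243138 q8082, e3 q9785 (flp_c L353207) q11724, e3 q9786 L645100 q9706, e3 q9787 L641577 q9717, e3 q9788 L644722 q9703, e3 q9789 L243214 q9789, e3 q9790 L243225 q9790, e3 q9791 L243235 q9791, trivial⟩ (by decide +kernel)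

theorem ce_c_153 : ∀ r, r < 64 → sm gc (Qf (9792 + r)) = Qf (tab Gen.c (9792 + r)) :=
  edges_tab (sm gc) Qf (tab Gen.c) 9792 [(9792, 8339), (9793, 9793), (9794, 8735), (9795, 8168), (9796, 8094), (9797, 8096), (9798, 11735), (9799, 11736), (9800, 8730), (9801, 8817), (9802, 9802), (9803, 9803), (9804, 8105), (9805, 8106), (9806, 8107), (9807, 9807), (9808, 8108), (9809, 11740), (9810, 11741), (9811, 11742), (9812, 11743), (9813, 11745), (9814, 8304), (9815, 8305), (9816, 8306), (9817, 8340), (9818, 8308), (9819, 8309), (9820, 8310), (9821, 9821), (9822, 9822), (9823, 8118), (9824, 8119), (9825, 8120), (9826, 9415), (9827, 8121), (9828, 11764), (9829, 11765), (9830, 11766), (9831, 9700), (9832, 8127), (9833, 8128), (9834, 8129), (9835, 8130), (9836, 9398), (9837, 8131), (9838, 11678), (9839, 11679), (9840, 11773), (9841, 11774), (9842, 11775), (9843, 11785), (9844, 11777), (9845, 11778), (9846, 8343), (9847, 8995), (9848, 8346), (9849, 11723), (9850, 8144), (9851, 8145), (9852, 8146), (9853, 8147), (9854, 9854), (9855, 8148)]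
    ⟨e3 q9792 (flp_c L632069) q8339, e3 q9793 L243251 q9793, e3 q9794 L645017 q8735, e3 q9795 L243377 q8168, e3 q9796 L243383 q8094, e3 q9797 L243399 q8096, e3 q9798 (flp_c L353604) q11735, e3 q9799 (flp_c L353612) q11736, e3 q9800 L644604 q8730, e3 q9801 L645167 q8817, e3 q9802 L243495 q9802, e3 q9803 L243504 q9803, e3 q9804 L243650 q8105, e3 q9805 L243662 q8106, e3 q9806 L243672 q8107, e3 q9807 L243685 q9807, e3 q9808 L243691 q8108, e3 q9809 (flp_c L353989) q11740, e3 q9810 (flp_c L353999) q11741, e3 q9811 (flp_c L354011) q11742, e3 q9812 (flp_c L354023) q11743, e3 q9813 (flp_c L354042) q11745, e3 q9814 L243751 q8304, e3 q9815 L243761 q8305, e3 q9816 L243772 q8306, e3 q9817 (flp_c L644142) q8340, e3 q9818 L243789 q8308, e3 q9819 L243802 q8309, e3 q9820 L243813 q8310, e3 q9821 L243827 q9821, e3 q9822 L243837 q9822, e3 q9823 L243847 q8118, e3 q9824 L243857 q8119, e3 q9825 L243865 q8120, e3 q9826 (flp_c L648175) q9415, e3 q9827 L243883 q8121, e3 q9828 (flp_c L354286) q11764, e3 q9829 (flp_c L354294) q11765, e3 q9830 (flp_c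 L354334) q11766, e3 q9831 L611532 q9700, e3 q9832 L243948 q8127, e3 q9833 L243956 q8128, e3 q9834 L243968 q8129, e3 q9835 L243978 q8130, e3 q9836 L648151 q9398, e3 q9837 L243996 q8131, e3 q9838 (flp_c L350807) q11678, e3 q9839 (flp_c L350817) q11679, e3 q9840 (flp_c L354443) q11773, e3 q9841 (flp_c L354452) q11774, e3 q9842 (flp_c L354462) q11775, e3 q9843 L354601 q11785, e3 q9844 (flp_c L354480) q11777, e3 q9845 (flp_c L354511) q11778, e3 q9846 L244115 q8343, e3 q9847 L644169 q8995, e3 q9848 L244142 q8346, e3 q9849 (flp_c L353201) q11723, e3 q9850 L244281 q8144, e3 q9851 L244291 q8145, e3 q9852 L244301 q8146, e3 q9853 L244312 q8147, e3 q9854 L244324 q9854, e3 q9855 L244330 q8148, trivial⟩ (by decide +kernel)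

theorem ce_c_154 : ∀ r, r < 64 → sm gc (Qf (9856 + r)) = Qf (tab Gen.c (9856 + r)) :=
  edges_tab (sm gc) Qf (tab Gen.c) 9856 [(9856, 9856), (9857, 11789), (9858, 11790), (9859, 11791), (9860, 11805), (9861, 11793), (9862, 11794), (9863, 11796), (9864, 8400), (9865, 8401), (9866, 8402), (9867, 11814), (9868, 8404), (9869, 8152), (9870, 11817), (9871, 8407), (9872, 9872), (9873, 9873), (9874, 9874), (9875, 11826), (9876, 9876), (9877, 8736), (9878, 8163), (9879, 8164), (9880, 8165), (9881, 8166), (9882, 9417), (9883, 8167), (9884, 11680), (9885, 11681), (9886, 11829), (9887, 11830), (9888, 11831), (9889, 8833), (9890, 11833), (9891, 11834), (9892, 11734), (9893, 8828), (9894, 8177), (9895, 8178), (9896, 8179), (9897, 11854), (9898, 8181), (9899, 8182), (9900, 9443), (9901, 8183), (9902, 11682), (9903, 11683), (9904, 11684), (9905, 11685), (9906, 11686), (9907, 11849), (9908, 11850), (9909, 11851), (9910, 11871), (9911, 11853), (9912, 8180), (9913, 11874), (9914, 11857), (9915, 8450), (9916, 8451), (9917, 9082), (9918, 8453),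 (9919, 8455)]
    ⟨e3 q9856 L244350 q9856, e3 q9857 (flp_c L354952) q11789, e3 q9858 (flp_c L354964) q11790, e3 q9859 (flp_c L354974) q11791, e3 q9860 L355119 q11805, e3 q9861 (flp_c L354990) q11793, e3 q9862 (flp_c L355002) q11794, e3 q9863 (flp_c L355022) q11796, e3 q9864 L244421 q8400, e3 q9865 L244432 q8401, e3 q9866 L244443 q8402, e3 q9867 L355203 q11814, e3 q9868 L244458 q8404, e3 q9869 (flp_c L244466) q8152, e3 q9870 (flp_c L355229) q11817, e3 q9871 L244485 q8407, e3 q9872 L244500 q9872, e3 q9873 L244509 q9873, e3 q9874 L244519 q9874, e3 q9875 L355312 q11826, e3 q9876 L244537 q9876, e3 q9877 (flp_c L645156) q8736, e3 q9878 L244553 q8163, e3 q9879 L244561 q8164, e3 q9880 L244571 q8165, e3 q9881 L244580 q8166, e3 q9882 (flp_c L648137) q9417, e3 q9883 L244597 q8167, e3 q9884 (flp_c L351072) q11680, e3 q9885 (flp_c L351082) q11681, e3 q9886 (flp_c L355359) q11829, e3 q9887 (flp_c L355369) q11830, e3 q9888 (flp_c L355377) q11831, e3 q9889 (flp_c L645203) q8833, e3 q9890 (flp_c L355393) q11833, e3 q9891 (flp_c L355422) q11834,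 e3 q9892 (flp_c L353588) q11734, e3 q9893 (flp_c L645195) q8828, e3 q9894 L244695 q8177, e3 q9895 L244705 q8178, e3 q9896 L244713 q8179, e3 q9897 L355619 q11854, e3 q9898 L244729 q8181, e3 q9899 L244739 q8182, e3 q9900 L648101 q9443, e3 q9901 L244758 q8183, e3 q9902 (flp_c L351237) q11682, e3 q9903 (flp_c L351243) q11683, e3 q9904 (flp_c L351252) q11684, e3 q9905 (flp_c L351259) q11685, e3 q9906 (flp_c L351269) q11686, e3 q9907 (flp_c L355575) q11849, e3 q9908 (flp_c L355585) q11850, e3 q9909 (flp_c L355597) q11851, e3 q9910 L355771 q11871, e3 q9911 (flp_c L355613) q11853, e3 q9912 (flp_c L244841) q8180, e3 q9913 (flp_c L355791) q11874, e3 q9914 (flp_c L355652) q11857, e3 q9915 L244864 q8450, e3 q9916 L244873 q8451, e3 q9917 (flp_c L641018) q9082, e3 q9918 L244891 q8453, e3 q9919 L244907 q8455, trivial⟩ (by decide +kernel)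

theorem ce_c_155 : ∀ r, r < 64 → sm gc (Qf (9920 + r)) = Qf (tab Gen.c (9920 + r)) :=
  edges_tab (sm gc) Qf (tab Gen.c) 9920 [(9920, 9085), (9921, 11873), (9922, 8190), (9923, 9040), (9924, 9924), (9925, 9925), (9926, 8200), (9927, 8201), (9928, 8202), (9929, 11890), (9930, 8204), (9931, 8205), (9932, 9932), (9933, 8206), (9934, 9934), (9935, 9935), (9936, 9936), (9937, 11885), (9938, 11886), (9939, 11887), (9940, 11905), (9941, 11889), (9942, 8203), (9943, 11908), (9944, 11894), (9945, 8532), (9946, 8533), (9947, 11913), (9948, 8535), (9949, 11916), (9950, 8537), (9951, 8210), (9952, 11919), (9953, 11907), (9954, 8213), (9955, 11923), (9956, 9334), (9957, 9957), (9958, 9958), (9959, 9959), (9960, 9960), (9961, 11934), (9962, 9962), (9963, 8218), (9964, 11937), (9965, 9965), (9966, 9966), (9967, 8229), (9968, 8230), (9969, 8231), (9970, 11949), (9971, 8233), (9972, 8234), (9973, 9472), (9974, 8235), (9975, 9394), (9976, 11691), (9977, 11692), (9978, 11693), (9979, 11694), (9980, 11944), (9981, 11945), (9982, 11946), (9983,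 11966)]
    ⟨e3 q9920 L644215 q9085, e3 q9921 (flp_c L355787) q11873, e3 q9922 L244936 q8190, e3 q9923 L641202 q9040, e3 q9924 L245161 q9924, e3 q9925 L245171 q9925, e3 q9926 L245180 q8200, e3 q9927 L245190 q8201, e3 q9928 L245201 q8202, e3 q9929 L356336 q11890, e3 q9930 L245218 q8204, e3 q9931 L245231 q8205, e3 q9932 L245242 q9932, e3 q9933 L245248 q8206, e3 q9934 L245258 q9934, e3 q9935 L245265 q9935, e3 q9936 L245294 q9936, e3 q9937 (flp_c L356291) q11885, e3 q9938 (flp_c L356301) q11886, e3 q9939 (flp_c L356311) q11887, e3 q9940 L356508 q11905, e3 q9941 (flp_c L356328) q11889, e3 q9942 (flp_c L245343) q8203, e3 q9943 (flp_c L356534) q11908, e3 q9944 (flp_c L356372) q11894, e3 q9945 L245373 q8532, e3 q9946 L245384 q8533, e3 q9947 L356580 q11913, e3 q9948 L245401 q8535, e3 q9949 L356606 q11916, e3 q9950 L245420 q8537, e3 q9951 (flp_c L245429) q8210, e3 q9952 (flp_c L356636) q11919, e3 q9953 (flp_c L356530) q11907, e3 q9954 L245458 q8213, e3 q9955 (flp_c L356675) q11923, e3 q9956 L542472 q9334, e3 q9957 L245492 q9957, e3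 q9958 L245501 q9958, e3 q9959 L245513 q9959, e3 q9960 L245522 q9960, e3 q9961 L356790 q11934, e3 q9962 L245541 q9962, e3 q9963 (flp_c L245545) q8218, e3 q9964 (flp_c L356830) q11937, e3 q9965 L245575 q9965, e3 q9966 L245583 q9966, e3 q9967 L245592 q8229, e3 q9968 L245600 q8230, e3 q9969 L245609 q8231, e3 q9970 L356952 q11949, e3 q9971 L245626 q8233, e3 q9972 L245637 q8234, e3 q9973 (flp_c L648087) q9472, e3 q9974 L245653 q8235, e3 q9975 L553780 q9394, e3 q9976 (flp_c L351621) q11691, e3 q9977 (flp_c L351632) q11692, e3 q9978 (flp_c L351641) q11693, e3 q9979 (flp_c L351651) q11694, e3 q9980 (flp_c L356911) q11944, e3 q9981 (flp_c L356919) q11945, e3 q9982 (flp_c L356929) q11946, e3 q9983 L357112 q11966, trivial⟩ (by decide +kernel)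

theorem ce_c_156 : ∀ r, r < 64 → sm gc (Qf (9984 + r)) = Qf (tab Gen.c (9984 + r)) :=
  edges_tab (sm gc) Qf (tab Gen.c) 9984 [(9984, 11948), (9985, 8232), (9986, 11968), (9987, 11952), (9988, 9988), (9989, 9989), (9990, 9990), (9991, 11976), (9992, 9992), (9993, 8251), (9994, 8252), (9995, 8253), (9996, 11985), (9997, 8255), (9998, 8241), (9999, 11989), (10000, 11990), (10001, 9441), (10002, 8258), (10003, 11696), (10004, 11697), (10005, 11698), (10006, 11699), (10007, 11700), (10008, 11701), (10009, 11702), (10010, 11703), (10011, 11979), (10012, 11980), (10013, 12008), (10014, 11982), (10015, 12011), (10016, 11984), (10017, 8254), (10018, 12014), (10019, 8267), (10020, 8257), (10021, 12018), (10022, 8604), (10023, 12020), (10024, 8606), (10025, 8261), (10026, 12023), (10027, 12024), (10028, 8263), (10029, 12028), (10030, 12013), (10031, 8266), (10032, 12032), (10033, 12016), (10034, 12017), (10035, 8269), (10036, 10036), (10037, 8271), (10038, 8272), (10039, 8277), (10040, 8276), (10041, 12037), (10042, 12039), (10043,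 10043), (10044, 8278), (10045, 8297), (10046, 8279), (10047, 12041)]
    ⟨e3 q9984 (flp_c L356946) q11948, e3 q9985 (flp_c L245739) q8232, e3 q9986 (flp_c L357139) q11968, e3 q9987 (flp_c L356989) q11952, e3 q9988 L245769 q9988, e3 q9989 L245778 q9989, e3 q9990 L245787 q9990, e3 q9991 L357204 q11976, e3 q9992 L245804 q9992, e3 q9993 L245813 q8251, e3 q9994 L245821 q8252, e3 q9995 L245831 q8253, e3 q9996 L357284 q11985, e3 q9997 L245848 q8255, e3 q9998 (flp_c L245854) q8241, e3 q9999 (flp_c L357317) q11989, e3 q10000 (flp_c L357322) q11990, e3 q10001 L648070 q9441, e3 q10002 L245889 q8258, e3 q10003 (flp_c L351854) q11696, e3 q10004 (flp_c L351862) q11697, e3 q10005 (flp_c L351871) q11698, e3 q10006 (flp_c L351880) q11699, e3 q10007 (flp_c L351888) q11700, e3 q10008 (flp_c L351898) q11701, e3 q10009 (flp_c L351905) q11702, e3 q10010 (flp_c L351914) q11703, e3 q10011 (flp_c L357233) q11979, e3 q10012 (flp_c L357242) q11980, e3 q10013 L357473 q12008, e3 q10014 (flp_c L357260) q11982, e3 q10015 L357497 q12011, e3 q10016 (flp_c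 L357277) q11984, e3 q10017 (flp_c L246006) q8254, e3 q10018 (flp_c L357521) q12014, e3 q10019 L246025 q8267, e3 q10020 L246029 q8257, e3 q10021 (flp_c L357551) q12018, e3 q10022 L246045 q8604, e3 q10023 L357576 q12020, e3 q10024 L246063 q8606, e3 q10025 (flp_c L246069) q8261, e3 q10026 (flp_c L357613) q12023, e3 q10027 (flp_c L357621) q12024, e3 q10028 (flp_c L246094) q8263, e3 q10029 (flp_c L357655) q12028, e3 q10030 (flp_c L357517) q12013, e3 q10031 L246121 q8266, e3 q10032 (flp_c L357688) q12032, e3 q10033 (flp_c L357534) q12016, e3 q10034 (flp_c L357544) q12017, e3 q10035 L246154 q8269, e3 q10036 L246169 q10036, e3 q10037 L246174 q8271, e3 q10038 L246184 q8272, e3 q10039 (flp_c L614236) q8277, e3 q10040 (flp_c L614229) q8276, e3 q10041 (flp_c L357763) q12037, e3 q10042 (flp_c L357783) q12039, e3 q10043 L246237 q10043, e3 q10044 L246265 q8278, e3 q10045 L246277 q8297, e3 q10046 L246283 q8279, e3 q10047 (flp_c L614063) q12041, trivial⟩ (by decide +kernel)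

theorem ce_c_157 : ∀ r, r < 64 → sm gc (Qf (10048 + r)) = Qf (tab Gen.c (10048 + r)) :=
  edges_tab (sm gc) Qf (tab Gen.c) 10048 [(10048, 8350), (10049, 12040), (10050, 12044), (10051, 10051), (10052, 10052), (10053, 12054), (10054, 10054), (10055, 10055), (10056, 10056), (10057, 10057), (10058, 10058), (10059, 8289), (10060, 8290), (10061, 8291), (10062, 12038), (10063, 8292), (10064, 12062), (10065, 12063), (10066, 12064), (10067, 12065), (10068, 12067), (10069, 10069), (10070, 8299), (10071, 8300), (10072, 8301), (10073, 8302), (10074, 12043), (10075, 8303), (10076, 12045), (10077, 12046), (10078, 12078), (10079, 12079), (10080, 12080), (10081, 12096), (10082, 12082), (10083, 12083), (10084, 12085), (10085, 11732), (10086, 8788), (10087, 11754), (10088, 9037), (10089, 11755), (10090, 8307), (10091, 12106), (10092, 11757), (10093, 10093), (10094, 10094), (10095, 10095), (10096, 10096), (10097, 10097), (10098, 8318), (10099, 8319), (10100, 8320), (10101, 8321), (10102, 10102), (10103, 8322), (10104, 10104), (10105, 12116),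 (10106, 12117), (10107, 12118), (10108, 12132), (10109, 12120), (10110, 12121), (10111, 12123)]
    ⟨e3 q10048 L614268 q8350, e3 q10049 (flp_c L614094) q12040, e3 q10050 (flp_c L357900) q12044, e3 q10051 L246348 q10051, e3 q10052 L246358 q10052, e3 q10053 L358038 q12054, e3 q10054 L246375 q10054, e3 q10055 L246385 q10055, e3 q10056 L246396 q10056, e3 q10057 L246407 q10057, e3 q10058 L246417 q10058, e3 q10059 L246427 q8289, e3 q10060 L246439 q8290, e3 q10061 L246449 q8291, e3 q10062 (flp_c L357776) q12038, e3 q10063 L246467 q8292, e3 q10064 (flp_c L358135) q12062, e3 q10065 (flp_c L358145) q12063, e3 q10066 (flp_c L358157) q12064, e3 q10067 (flp_c L358169) q12065, e3 q10068 (flp_c L358187) q12067, e3 q10069 L246536 q10069, e3 q10070 L246540 q8299, e3 q10071 L246548 q8300, e3 q10072 L246558 q8301, e3 q10073 L246568 q8302, e3 q10074 (flp_c L357894) q12043, e3 q10075 L246582 q8303, e3 q10076 (flp_c L357910) q12045, e3 q10077 (flp_c L357920) q12046, e3 q10078 (flp_c L358307) q12078, e3 q10079 (flp_c L358316) q12079, e3 q10080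 (flp_c L358326) q12080, e3 q10081 L358457 q12096, e3 q10082 (flp_c L358340) q12082, e3 q10083 (flp_c L358352) q12083, e3 q10084 (flp_c L358367) q12085, e3 q10085 (flp_c L632053) q11732, e3 q10086 L640282 q8788, e3 q10087 (flp_c L354162) q11754, e3 q10088 (flp_c L637399) q9037, e3 q10089 (flp_c L354179) q11755, e3 q10090 (flp_c L246714) q8307, e3 q10091 (flp_c L358564) q12106, e3 q10092 (flp_c L354210) q11757, e3 q10093 L246745 q10093, e3 q10094 L246754 q10094, e3 q10095 L246761 q10095, e3 q10096 L246778 q10096, e3 q10097 L246792 q10097, e3 q10098 L246798 q8318, e3 q10099 L246806 q8319, e3 q10100 L246818 q8320, e3 q10101 L246828 q8321, e3 q10102 L246841 q10102, e3 q10103 L246847 q8322, e3 q10104 L246868 q10104, e3 q10105 (flp_c L358691) q12116, e3 q10106 (flp_c L358700) q12117, e3 q10107 (flp_c L358710) q12118, e3 q10108 L358863 q12132, e3 q10109 (flp_c L358728) q12120, e3 q10110 (flp_c L358740) q12121, e3 q10111 (flp_c L358760) q12123, trivial⟩ (by decide +kernel)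

theorem ce_c_158 : ∀ r, r < 64 → sm gc (Qf (10112 + r)) = Qf (tab Gen.c (10112 + r)) :=
  edges_tab (sm gc) Qf (tab Gen.c) 10112 [(10112, 10112), (10113, 10113), (10114, 8332), (10115, 8333), (10116, 8334), (10117, 12145), (10118, 8336), (10119, 8337), (10120, 10120), (10121, 8338), (10122, 10122), (10123, 10123), (10124, 10124), (10125, 10125), (10126, 10126), (10127, 12140), (10128, 12141), (10129, 12142), (10130, 12160), (10131, 12144), (10132, 8335), (10133, 12163), (10134, 12148), (10135, 11731), (10136, 11756), (10137, 8811), (10138, 8996), (10139, 12162), (10140, 8345), (10141, 12168), (10142, 10142), (10143, 8351), (10144, 8352), (10145, 8377), (10146, 8353), (10147, 8362), (10148, 12049), (10149, 8360), (10150, 12171), (10151, 12173), (10152, 8361), (10153, 8363), (10154, 8389), (10155, 8364), (10156, 8391), (10157, 8392), (10158, 8467), (10159, 12178), (10160, 12191), (10161, 12180), (10162, 12175), (10163, 12182), (10164, 10164), (10165, 10165), (10166, 10166), (10167, 12199), (10168, 10168), (10169, 8368), (10170,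 12202), (10171, 10171), (10172, 10172), (10173, 10173), (10174, 10174), (10175, 10175)]
    ⟨e3 q10112 L246946 q10112, e3 q10113 L246952 q10113, e3 q10114 L246960 q8332, e3 q10115 L246967 q8333, e3 q10116 L246975 q8334, e3 q10117 L358971 q12145, e3 q10118 L246989 q8336, e3 q10119 L246999 q8337, e3 q10120 L247011 q10120, e3 q10121 L247015 q8338, e3 q10122 L247022 q10122, e3 q10123 L247028 q10123, e3 q10124 L247037 q10124, e3 q10125 L247045 q10125, e3 q10126 L247055 q10126, e3 q10127 (flp_c L358935) q12140, e3 q10128 (flp_c L358942) q12141, e3 q10129 (flp_c L358951) q12142, e3 q10130 L359130 q12160, e3 q10131 (flp_c L358965) q12144, e3 q10132 (flp_c L247103) q8335, e3 q10133 (flp_c L359157) q12163, e3 q10134 (flp_c L359004) q12148, e3 q10135 (flp_c L632061) q11731, e3 q10136 (flp_c L631987) q11756, e3 q10137 (flp_c L644224) q8811, e3 q10138 (flp_c L637491) q8996, e3 q10139 (flp_c L359153) q12162, e3 q10140 L247209 q8345, e3 q10141 (flp_c L359286) q12168, e3 q10142 L247238 q10142, e3 q10143 L247254 q8351, e3 q10144 L247264 q8352,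 e3 q10145 L247274 q8377, e3 q10146 L247281 q8353, e3 q10147 L614303 q8362, e3 q10148 (flp_c L614280) q12049, e3 q10149 L613995 q8360, e3 q10150 (flp_c L359378) q12171, e3 q10151 (flp_c L359397) q12173, e3 q10152 L247353 q8361, e3 q10153 L247370 q8363, e3 q10154 L247381 q8389, e3 q10155 L247387 q8364, e3 q10156 L247395 q8391, e3 q10157 L247404 q8392, e3 q10158 (flp_c L614322) q8467, e3 q10159 (flp_c L614015) q12178, e3 q10160 L359659 q12191, e3 q10161 (flp_c L359538) q12180, e3 q10162 (flp_c L614315) q12175, e3 q10163 (flp_c L359566) q12182, e3 q10164 L247475 q10164, e3 q10165 L247485 q10165, e3 q10166 L247494 q10166, e3 q10167 L359738 q12199, e3 q10168 L247510 q10168, e3 q10169 (flp_c L247516) q8368, e3 q10170 (flp_c L359766) q12202, e3 q10171 L247535 q10171, e3 q10172 L247547 q10172, e3 q10173 L247556 q10173, e3 q10174 L247566 q10174, e3 q10175 L247580 q10175, trivial⟩ (by decide +kernel)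

theorem ce_c_159 : ∀ r, r < 64 → sm gc (Qf (10176 + r)) = Qf (tab Gen.c (10176 + r)) :=
  edges_tab (sm gc) Qf (tab Gen.c) 10176 [(10176, 10176), (10177, 8379), (10178, 8380), (10179, 8381), (10180, 8382), (10181, 12172), (10182, 8383), (10183, 12174), (10184, 12212), (10185, 12213), (10186, 12214), (10187, 12228), (10188, 12216), (10189, 12217), (10190, 12219), (10191, 10191), (10192, 10192), (10193, 8393), (10194, 8394), (10195, 8395), (10196, 12241), (10197, 8397), (10198, 8398), (10199, 12181), (10200, 8399), (10201, 12183), (10202, 12184), (10203, 12185), (10204, 12186), (10205, 12187), (10206, 12236), (10207, 12237), (10208, 12238), (10209, 12260), (10210, 12240), (10211, 8396), (10212, 12263), (10213, 12245), (10214, 11808), (10215, 11809), (10216, 12268), (10217, 11811), (10218, 12271), (10219, 11813), (10220, 8403), (10221, 12274), (10222, 12262), (10223, 8406), (10224, 12278), (10225, 12279), (10226, 10226), (10227, 10227), (10228, 10228), (10229, 10229), (10230, 10230), (10231, 10231), (10232, 10232), (10233,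 8420), (10234, 8421), (10235, 8422), (10236, 12299), (10237, 8424), (10238, 8425), (10239, 10239)]
    ⟨e3 q10176 L247595 q10176, e3 q10177 L247601 q8379, e3 q10178 L247611 q8380, e3 q10179 L247621 q8381, e3 q10180 L247632 q8382, e3 q10181 (flp_c L359390) q12172, e3 q10182 L247649 q8383, e3 q10183 (flp_c L359416) q12174, e3 q10184 (flp_c L359887) q12212, e3 q10185 (flp_c L359899) q12213, e3 q10186 (flp_c L359909) q12214, e3 q10187 L360054 q12228, e3 q10188 (flp_c L359925) q12216, e3 q10189 (flp_c L359937) q12217, e3 q10190 (flp_c L359956) q12219, e3 q10191 L247744 q10191, e3 q10192 L247752 q10192, e3 q10193 L247758 q8393, e3 q10194 L247768 q8394, e3 q10195 L247776 q8395, e3 q10196 L360160 q12241, e3 q10197 L247788 q8397, e3 q10198 L247798 q8398, e3 q10199 (flp_c L359560) q12181, e3 q10200 L247813 q8399, e3 q10201 (flp_c L359576) q12183, e3 q10202 (flp_c L359582) q12184, e3 q10203 (flp_c L359591) q12185, e3 q10204 (flp_c L359598) q12186, e3 q10205 (flp_c L359608) q12187, e3 q10206 (flp_c L360120) q12236, e3 q10207 (flp_c L360130)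 q12237, e3 q10208 (flp_c L360140) q12238, e3 q10209 L360301 q12260, e3 q10210 (flp_c L360152) q12240, e3 q10211 (flp_c L247896) q8396, e3 q10212 (flp_c L360323) q12263, e3 q10213 (flp_c L360185) q12245, e3 q10214 (flp_c L355147) q11808, e3 q10215 (flp_c L355158) q11809, e3 q10216 L360364 q12268, e3 q10217 (flp_c L355176) q11811, e3 q10218 L360389 q12271, e3 q10219 (flp_c L355195) q11813, e3 q10220 (flp_c L247972) q8403, e3 q10221 (flp_c L360410) q12274, e3 q10222 (flp_c L360319) q12262, e3 q10223 L247993 q8406, e3 q10224 (flp_c L360437) q12278, e3 q10225 L360442 q12279, e3 q10226 L248016 q10226, e3 q10227 L248023 q10227, e3 q10228 L248032 q10228, e3 q10229 L248040 q10229, e3 q10230 L248056 q10230, e3 q10231 L248087 q10231, e3 q10232 L248095 q10232, e3 q10233 L248103 q8420, e3 q10234 L248113 q8421, e3 q10235 L248121 q8422, e3 q10236 L360679 q12299, e3 q10237 L248137 q8424, e3 q10238 L248147 q8425, e3 q10239 L248161 q10239, trivial⟩ (by decide +kernel)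

theorem ce_c_160 : ∀ r, r < 64 → sm gc (Qf (10240 + r)) = Qf (tab Gen.c (10240 + r)) :=
  edges_tab (sm gc) Qf (tab Gen.c) 10240 [(10240, 8426), (10241, 10241), (10242, 10242), (10243, 10243), (10244, 12294), (10245, 12295), (10246, 12296), (10247, 12314), (10248, 12298), (10249, 8423), (10250, 12317), (10251, 12303), (10252, 10252), (10253, 10253), (10254, 10254), (10255, 12325), (10256, 10256), (10257, 8442), (10258, 8443), (10259, 8444), (10260, 12334), (10261, 8446), (10262, 8432), (10263, 12338), (10264, 12339), (10265, 10265), (10266, 8449), (10267, 10267), (10268, 10268), (10269, 10269), (10270, 10270), (10271, 10271), (10272, 10272), (10273, 10273), (10274, 10274), (10275, 12328), (10276, 12329), (10277, 12357), (10278, 12331), (10279, 12360), (10280, 12333), (10281, 8445), (10282, 12363), (10283, 8458), (10284, 8448), (10285, 12367), (10286, 11810), (10287, 9083), (10288, 11876), (10289, 8452), (10290, 12372), (10291, 12373), (10292, 9086), (10293, 12362), (10294, 8457), (10295, 12379), (10296, 12365), (10297, 12366),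 (10298, 8460), (10299, 10299), (10300, 11689), (10301, 10301), (10302, 8468), (10303, 8500)]
    ⟨e3 q10240 L248167 q8426, e3 q10241 L248177 q10241, e3 q10242 L248183 q10242, e3 q10243 L248211 q10243, e3 q10244 (flp_c L360635) q12294, e3 q10245 (flp_c L360645) q12295, e3 q10246 (flp_c L360657) q12296, e3 q10247 L360852 q12314, e3 q10248 (flp_c L360673) q12298, e3 q10249 (flp_c L248263) q8423, e3 q10250 (flp_c L360881) q12317, e3 q10251 (flp_c L360715) q12303, e3 q10252 L248293 q10252, e3 q10253 L248300 q10253, e3 q10254 L248306 q10254, e3 q10255 L360935 q12325, e3 q10256 L248318 q10256, e3 q10257 L248324 q8442, e3 q10258 L248332 q8443, e3 q10259 L248342 q8444, e3 q10260 L360999 q12334, e3 q10261 L248354 q8446, e3 q10262 (flp_c L248360) q8432, e3 q10263 (flp_c L361025) q12338, e3 q10264 (flp_c L361030) q12339, e3 q10265 L248382 q10265, e3 q10266 L248386 q8449, e3 q10267 L248394 q10267, e3 q10268 L248400 q10268, e3 q10269 L248409 q10269, e3 q10270 L248415 q10270, e3 q10271 L248420 q10271, e3 q10272 L248426 q10272, e3 q10273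 L248434 q10273, e3 q10274 L248441 q10274, e3 q10275 (flp_c L360955) q12328, e3 q10276 (flp_c L360963) q12329, e3 q10277 L361166 q12357, e3 q10278 (flp_c L360979) q12331, e3 q10279 L361193 q12360, e3 q10280 (flp_c L360993) q12333, e3 q10281 (flp_c L248501) q8445, e3 q10282 (flp_c L361218) q12363, e3 q10283 L248522 q8458, e3 q10284 L248526 q8448, e3 q10285 (flp_c L361250) q12367, e3 q10286 (flp_c L644245) q11810, e3 q10287 (flp_c L637653) q9083, e3 q10288 (flp_c L355822) q11876, e3 q10289 (flp_c L248565) q8452, e3 q10290 (flp_c L361309) q12372, e3 q10291 (flp_c L361318) q12373, e3 q10292 L637631 q9086, e3 q10293 (flp_c L361214) q12362, e3 q10294 L248615 q8457, e3 q10295 (flp_c L361380) q12379, e3 q10296 (flp_c L361233) q12365, e3 q10297 (flp_c L361243) q12366, e3 q10298 L248644 q8460, e3 q10299 L248672 q10299, e3 q10300 (flp_c L526636) q11689, e3 q10301 L248688 q10301, e3 q10302 L248734 q8468, e3 q10303 L248745 q8500, trivial⟩ (by decide +kernel)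

theorem ce_c_161 : ∀ r, r < 64 → sm gc (Qf (10304 + r)) = Qf (tab Gen.c (10304 + r)) :=
  edges_tab (sm gc) Qf (tab Gen.c) 10304 [(10304, 8469), (10305, 8502), (10306, 12188), (10307, 12387), (10308, 8480), (10309, 9605), (10310, 8481), (10311, 8482), (10312, 8517), (10313, 8483), (10314, 8519), (10315, 8520), (10316, 8521), (10317, 8522), (10318, 8523), (10319, 9678), (10320, 9676), (10321, 12392), (10322, 12396), (10323, 10323), (10324, 9687), (10325, 10325), (10326, 9686), (10327, 10327), (10328, 8487), (10329, 12411), (10330, 9607), (10331, 8490), (10332, 10332), (10333, 10333), (10334, 10334), (10335, 10335), (10336, 10336), (10337, 8503), (10338, 8504), (10339, 8505), (10340, 9173), (10341, 8506), (10342, 8507), (10343, 12386), (10344, 8508), (10345, 12388), (10346, 12389), (10347, 12390), (10348, 12420), (10349, 12421), (10350, 12422), (10351, 12424), (10352, 12428), (10353, 8623), (10354, 8624), (10355, 8625), (10356, 9161), (10357, 8626), (10358, 8524), (10359, 8525), (10360, 8526), (10361, 12451), (10362, 8528),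 (10363, 8514), (10364, 12455), (10365, 12456), (10366, 12395), (10367, 8531)]
    ⟨e3 q10304 L248752 q8469, e3 q10305 L248771 q8502, e3 q10306 (flp_c L613976) q12188, e3 q10307 (flp_c L361582) q12387, e3 q10308 L248882 q8480, e3 q10309 (flp_c L590518) q9605, e3 q10310 L248896 q8481, e3 q10311 L248906 q8482, e3 q10312 L248916 q8517, e3 q10313 L248922 q8483, e3 q10314 L248930 q8519, e3 q10315 L248937 q8520, e3 q10316 L248947 q8521, e3 q10317 L248955 q8522, e3 q10318 L248964 q8523, e3 q10319 L613902 q9678, e3 q10320 L616322 q9676, e3 q10321 (flp_c L361792) q12392, e3 q10322 (flp_c L361830) q12396, e3 q10323 L249053 q10323, e3 q10324 (flp_c L615989) q9687, e3 q10325 L249069 q10325, e3 q10326 (flp_c L615454) q9686, e3 q10327 L249087 q10327, e3 q10328 (flp_c L249094) q8487, e3 q10329 (flp_c L362091) q12411, e3 q10330 (flp_c L590511) q9607, e3 q10331 L249125 q8490, e3 q10332 L249156 q10332, e3 q10333 L249165 q10333, e3 q10334 L249175 q10334, e3 q10335 L249184 q10335, e3 q10336 L249199 q10336, e3 q10337 L249250 q8503, e3 q10338 L249260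 q8504, e3 q10339 L249271 q8505, e3 q10340 (flp_c L546929) q9173, e3 q10341 L249288 q8506, e3 q10342 L249301 q8507, e3 q10343 (flp_c L361575) q12386, e3 q10344 L249317 q8508, e3 q10345 (flp_c L361591) q12388, e3 q10346 (flp_c L361599) q12389, e3 q10347 (flp_c L361629) q12390, e3 q10348 (flp_c L362354) q12420, e3 q10349 (flp_c L362364) q12421, e3 q10350 (flp_c L362374) q12422, e3 q10351 (flp_c L362391) q12424, e3 q10352 (flp_c L362436) q12428, e3 q10353 L249444 q8623, e3 q10354 L249454 q8624, e3 q10355 L249464 q8625, e3 q10356 L546902 q9161, e3 q10357 L249478 q8626, e3 q10358 L249488 q8524, e3 q10359 L249496 q8525, e3 q10360 L249504 q8526, e3 q10361 L362739 q12451, e3 q10362 L249517 q8528, e3 q10363 (flp_c L249525) q8514, e3 q10364 (flp_c L362766) q12455, e3 q10365 (flp_c L362771) q12456, e3 q10366 (flp_c L361824) q12395, e3 q10367 L249552 q8531, trivial⟩ (by decide +kernel)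

theorem ce_c_162 : ∀ r, r < 64 → sm gc (Qf (10368 + r)) = Qf (tab Gen.c (10368 + r)) :=
  edges_tab (sm gc) Qf (tab Gen.c) 10368 [(10368, 12397), (10369, 12398), (10370, 12399), (10371, 12400), (10372, 12401), (10373, 12402), (10374, 12403), (10375, 12404), (10376, 12445), (10377, 12446), (10378, 12474), (10379, 12448), (10380, 12477), (10381, 12450), (10382, 8527), (10383, 12480), (10384, 8540), (10385, 8530), (10386, 11910), (10387, 12484), (10388, 11912), (10389, 8534), (10390, 12488), (10391, 12489), (10392, 8536), (10393, 12492), (10394, 12479), (10395, 8539), (10396, 12495), (10397, 9616), (10398, 12481), (10399, 8542), (10400, 9332), (10401, 9335), (10402, 10402), (10403, 10403), (10404, 10404), (10405, 12509), (10406, 10406), (10407, 10407), (10408, 10408), (10409, 8648), (10410, 8649), (10411, 8650), (10412, 9387), (10413, 8651), (10414, 8562), (10415, 8563), (10416, 8564), (10417, 12526), (10418, 8566), (10419, 8554), (10420, 12530), (10421, 12531), (10422, 10422), (10423, 8569), (10424, 10424), (10425, 10425),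 (10426, 10426), (10427, 10427), (10428, 12520), (10429, 12521), (10430, 12543), (10431, 12523)]
    ⟨e3 q10368 (flp_c L361839) q12397, e3 q10369 (flp_c L361847) q12398, e3 q10370 (flp_c L361856) q12399, e3 q10371 (flp_c L361865) q12400, e3 q10372 (flp_c L361873) q12401, e3 q10373 (flp_c L361883) q12402, e3 q10374 (flp_c L361890) q12403, e3 q10375 (flp_c L361899) q12404, e3 q10376 (flp_c L362692) q12445, e3 q10377 (flp_c L362701) q12446, e3 q10378 L362901 q12474, e3 q10379 (flp_c L362715) q12448, e3 q10380 L362927 q12477, e3 q10381 (flp_c L362730) q12450, e3 q10382 (flp_c L249666) q8527, e3 q10383 (flp_c L362953) q12480, e3 q10384 L249687 q8540, e3 q10385 L249691 q8530, e3 q10386 (flp_c L356554) q11910, e3 q10387 L363014 q12484, e3 q10388 (flp_c L356572) q11912, e3 q10389 (flp_c L249733) q8534, e3 q10390 (flp_c L363050) q12488, e3 q10391 (flp_c L363059) q12489, e3 q10392 (flp_c L249758) q8536, e3 q10393 (flp_c L363093) q12492, e3 q10394 (flp_c L362949) q12479, e3 q10395 L249783 q8539, e3 q10396 (flp_c L363124) q12495, e3 q10397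 (flp_c L547057) q9616, e3 q10398 (flp_c L362980) q12481, e3 q10399 L249814 q8542, e3 q10400 L552059 q9332, e3 q10401 (flp_c L542521) q9335, e3 q10402 L249849 q10402, e3 q10403 L249856 q10403, e3 q10404 L249864 q10404, e3 q10405 L363256 q12509, e3 q10406 L249880 q10406, e3 q10407 L249890 q10407, e3 q10408 L249905 q10408, e3 q10409 L249972 q8648, e3 q10410 L249982 q8649, e3 q10411 L249992 q8650, e3 q10412 (flp_c L543475) q9387, e3 q10413 L250010 q8651, e3 q10414 L250020 q8562, e3 q10415 L250028 q8563, e3 q10416 L250038 q8564, e3 q10417 L363547 q12526, e3 q10418 L250055 q8566, e3 q10419 (flp_c L250061) q8554, e3 q10420 (flp_c L363582) q12530, e3 q10421 (flp_c L363590) q12531, e3 q10422 L250093 q10422, e3 q10423 L250099 q8569, e3 q10424 L250108 q10424, e3 q10425 L250116 q10425, e3 q10426 L250134 q10426, e3 q10427 L250142 q10427, e3 q10428 (flp_c L363496) q12520, e3 q10429 (flp_c L363505) q12521, e3 q10430 L363756 q12543, e3 q10431 (flp_c L363523) q12523, trivial⟩ (by decide +kernel)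

theorem ce_c_163 : ∀ r, r < 64 → sm gc (Qf (10432 + r)) = Qf (tab Gen.c (10432 + r)) :=
  edges_tab (sm gc) Qf (tab Gen.c) 10432 [(10432, 12546), (10433, 12525), (10434, 8565), (10435, 12549), (10436, 10436), (10437, 8568), (10438, 8659), (10439, 8660), (10440, 8661), (10441, 8662), (10442, 12560), (10443, 8664), (10444, 8573), (10445, 12564), (10446, 12565), (10447, 8593), (10448, 8594), (10449, 12572), (10450, 8596), (10451, 12575), (10452, 8598), (10453, 8578), (10454, 12579), (10455, 12580), (10456, 11988), (10457, 8581), (10458, 8582), (10459, 12587), (10460, 12588), (10461, 12589), (10462, 10462), (10463, 10463), (10464, 10464), (10465, 10465), (10466, 10466), (10467, 10467), (10468, 10468), (10469, 10469), (10470, 10470), (10471, 10471), (10472, 10472), (10473, 12569), (10474, 12607), (10475, 12571), (10476, 8595), (10477, 12611), (10478, 12612), (10479, 8597), (10480, 12616), (10481, 8612), (10482, 8600), (10483, 12620), (10484, 8615), (10485, 8616), (10486, 8603), (10487, 12624), (10488, 12019), (10489, 8605), (10490,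 12628), (10491, 12629), (10492, 12610), (10493, 8608), (10494, 8609), (10495, 12636)]
    ⟨e3 q10432 L363787 q12546, e3 q10433 (flp_c L363540) q12525, e3 q10434 (flp_c L250234) q8565, e3 q10435 (flp_c L363820) q12549, e3 q10436 L250261 q10436, e3 q10437 L250266 q8568, e3 q10438 L250285 q8659, e3 q10439 L250292 q8660, e3 q10440 L250300 q8661, e3 q10441 L250308 q8662, e3 q10442 L363931 q12560, e3 q10443 L250322 q8664, e3 q10444 (flp_c L250327) q8573, e3 q10445 (flp_c L363963) q12564, e3 q10446 (flp_c L363970) q12565, e3 q10447 L250351 q8593, e3 q10448 L250358 q8594, e3 q10449 L364021 q12572, e3 q10450 L250372 q8596, e3 q10451 L364041 q12575, e3 q10452 L250385 q8598, e3 q10453 (flp_c L250392) q8578, e3 q10454 (flp_c L364070) q12579, e3 q10455 (flp_c L364077) q12580, e3 q10456 (flp_c L357313) q11988, e3 q10457 L250419 q8581, e3 q10458 L250425 q8582, e3 q10459 (flp_c L364123) q12587, e3 q10460 (flp_c L364131) q12588, e3 q10461 (flp_c L364139) q12589, e3 q10462 L250453 q10462, e3 q10463 L250460 q10463, e3 q10464 L250468 q10464,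 e3 q10465 L250472 q10465, e3 q10466 L250479 q10466, e3 q10467 L250485 q10467, e3 q10468 L250491 q10468, e3 q10469 L250499 q10469, e3 q10470 L250506 q10470, e3 q10471 L250513 q10471, e3 q10472 L250520 q10472, e3 q10473 (flp_c L364000) q12569, e3 q10474 L364280 q12607, e3 q10475 (flp_c L364015) q12571, e3 q10476 (flp_c L250558) q8595, e3 q10477 (flp_c L364319) q12611, e3 q10478 (flp_c L364328) q12612, e3 q10479 (flp_c L250585) q8597, e3 q10480 (flp_c L364365) q12616, e3 q10481 L250610 q8612, e3 q10482 L250614 q8600, e3 q10483 (flp_c L364401) q12620, e3 q10484 L250630 q8615, e3 q10485 L250642 q8616, e3 q10486 L250650 q8603, e3 q10487 L364437 q12624, e3 q10488 (flp_c L357569) q12019, e3 q10489 (flp_c L250676) q8605, e3 q10490 (flp_c L364477) q12628, e3 q10491 (flp_c L364487) q12629, e3 q10492 (flp_c L364315) q12610, e3 q10493 L250713 q8608, e3 q10494 L250723 q8609, e3 q10495 (flp_c L364545) q12636, trivial⟩ (by decide +kernel)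

theorem ce_c_164 : ∀ r, r < 64 → sm gc (Qf (10496 + r)) = Qf (tab Gen.c (10496 + r)) :=
  edges_tab (sm gc) Qf (tab Gen.c) 10496 [(10496, 12637), (10497, 12615), (10498, 8611), (10499, 12641), (10500, 12618), (10501, 12619), (10502, 8614), (10503, 12621), (10504, 12622), (10505, 12498), (10506, 8641), (10507, 9311), (10508, 12437), (10509, 12438), (10510, 12439), (10511, 12440), (10512, 12442), (10513, 8628), (10514, 9304), (10515, 12655), (10516, 8630), (10517, 12658), (10518, 8631), (10519, 8642), (10520, 9326), (10521, 10521), (10522, 8635), (10523, 8639), (10524, 8638), (10525, 12657), (10526, 12485), (10527, 12408), (10528, 9212), (10529, 8644), (10530, 8898), (10531, 9213), (10532, 8705), (10533, 12512), (10534, 12513), (10535, 12514), (10536, 12515), (10537, 12517), (10538, 8653), (10539, 9370), (10540, 12668), (10541, 8655), (10542, 12671), (10543, 8656), (10544, 10544), (10545, 10545), (10546, 12552), (10547, 12553), (10548, 12554), (10549, 12555), (10550, 12680), (10551, 12557), (10552, 12683), (10553, 12559),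 (10554, 8663), (10555, 12686), (10556, 10556), (10557, 8666), (10558, 8673), (10559, 12690)]
    ⟨e3 q10496 (flp_c L364555) q12637, e3 q10497 (flp_c L364361) q12615, e3 q10498 L250757 q8611, e3 q10499 (flp_c L364593) q12641, e3 q10500 (flp_c L364383) q12618, e3 q10501 (flp_c L364394) q12619, e3 q10502 L250790 q8614, e3 q10503 (flp_c L364412) q12621, e3 q10504 (flp_c L364422) q12622, e3 q10505 (flp_c L363155) q12498, e3 q10506 (flp_c L616025) q8641, e3 q10507 (flp_c L563005) q9311, e3 q10508 (flp_c L362620) q12437, e3 q10509 (flp_c L362629) q12438, e3 q10510 (flp_c L362639) q12439, e3 q10511 (flp_c L362647) q12440, e3 q10512 (flp_c L362661) q12442, e3 q10513 L252567 q8628, e3 q10514 (flp_c L562255) q9304, e3 q10515 L367559 q12655, e3 q10516 (flp_c L252799) q8630, e3 q10517 (flp_c L367592) q12658, e3 q10518 (flp_c L252822) q8631, e3 q10519 L252840 q8642, e3 q10520 (flp_c L615967) q9326, e3 q10521 L252890 q10521, e3 q10522 (flp_c L252899) q8635, e3 q10523 (flp_c L615976) q8639, e3 q10524 (flp_c L616004) q8638, e3 q10525 (flp_c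 L367588) q12657, e3 q10526 (flp_c L615556) q12485, e3 q10527 (flp_c L615419) q12408, e3 q10528 L561428 q9212, e3 q10529 L253002 q8644, e3 q10530 (flp_c L551382) q8898, e3 q10531 (flp_c L547307) q9213, e3 q10532 L253028 q8705, e3 q10533 (flp_c L363412) q12512, e3 q10534 (flp_c L363421) q12513, e3 q10535 (flp_c L363431) q12514, e3 q10536 (flp_c L363441) q12515, e3 q10537 (flp_c L363459) q12517, e3 q10538 L253338 q8653, e3 q10539 (flp_c L562929) q9370, e3 q10540 L368650 q12668, e3 q10541 (flp_c L253546) q8655, e3 q10542 (flp_c L368689) q12671, e3 q10543 (flp_c L253574) q8656, e3 q10544 L253598 q10544, e3 q10545 L253618 q10545, e3 q10546 (flp_c L363869) q12552, e3 q10547 (flp_c L363876) q12553, e3 q10548 (flp_c L363885) q12554, e3 q10549 (flp_c L363894) q12555, e3 q10550 L368857 q12680, e3 q10551 (flp_c L363910) q12557, e3 q10552 L368881 q12683, e3 q10553 (flp_c L363925) q12559, e3 q10554 (flp_c L253705) q8663, e3 q10555 (flp_c L368922) q12686, e3 q10556 L253733 q10556, e3 q10557 L253744 q8666, e3 q10558 L253768 q8673, e3 q10559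 L369024 q12690, trivial⟩ (by decide +kernel)

theorem ce_c_165 : ∀ r, r < 64 → sm gc (Qf (10560 + r)) = Qf (tab Gen.c (10560 + r)) :=
  edges_tab (sm gc) Qf (tab Gen.c) 10560 [(10560, 8669), (10561, 12692), (10562, 8670), (10563, 10563), (10564, 10564), (10565, 12695), (10566, 9343), (10567, 8674), (10568, 12699), (10569, 12700), (10570, 8692), (10571, 8677), (10572, 8678), (10573, 12707), (10574, 12708), (10575, 8697), (10576, 8680), (10577, 12712), (10578, 8700), (10579, 8701), (10580, 8683), (10581, 8703), (10582, 8704), (10583, 9219), (10584, 8687), (10585, 8691), (10586, 8690), (10587, 12698), (10588, 12625), (10589, 12703), (10590, 12704), (10591, 12705), (10592, 8696), (10593, 9285), (10594, 12710), (10595, 12711), (10596, 8699), (10597, 12713), (10598, 12714), (10599, 12660), (10600, 12716), (10601, 11955), (10602, 12383), (10603, 8711), (10604, 9699), (10605, 9697), (10606, 11763), (10607, 8795), (10608, 8725), (10609, 8726), (10610, 12731), (10611, 9705), (10612, 11738), (10613, 8733), (10614, 9707), (10615, 11733),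 (10616, 9702), (10617, 11828), (10618, 9708), (10619, 9637), (10620, 10620), (10621, 10621), (10622, 9081), (10623, 12099)]
    ⟨e3 q10560 (flp_c L253793) q8669, e3 q10561 (flp_c L369058) q12692, e3 q10562 (flp_c L253816) q8670, e3 q10563 L253845 q10563, e3 q10564 L253883 q10564, e3 q10565 L369308 q12695, e3 q10566 (flp_c L562269) q9343, e3 q10567 (flp_c L253998) q8674, e3 q10568 (flp_c L369345) q12699, e3 q10569 (flp_c L369352) q12700, e3 q10570 L254028 q8692, e3 q10571 L254032 q8677, e3 q10572 L254039 q8678, e3 q10573 (flp_c L369411) q12707, e3 q10574 (flp_c L369420) q12708, e3 q10575 L254069 q8697, e3 q10576 L254073 q8680, e3 q10577 (flp_c L369455) q12712, e3 q10578 L254089 q8700, e3 q10579 L254098 q8701, e3 q10580 L254105 q8683, e3 q10581 L254114 q8703, e3 q10582 L254124 q8704, e3 q10583 (flp_c L547321) q9219, e3 q10584 (flp_c L254135) q8687, e3 q10585 (flp_c L647131) q8691, e3 q10586 (flp_c L647122) q8690, e3 q10587 (flp_c L369341) q12698, e3 q10588 (flp_c L647115) q12625, e3 q10589 (flp_c L369378) q12703, e3 q10590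 (flp_c L369388) q12704, e3 q10591 (flp_c L369397) q12705, e3 q10592 L254248 q8696, e3 q10593 (flp_c L646884) q9285, e3 q10594 (flp_c L369437) q12710, e3 q10595 (flp_c L369447) q12711, e3 q10596 L254282 q8699, e3 q10597 (flp_c L369465) q12713, e3 q10598 (flp_c L369474) q12714, e3 q10599 (flp_c L367856) q12660, e3 q10600 (flp_c L369487) q12716, e3 q10601 (flp_c L503121) q11955, e3 q10602 (flp_c L542453) q12383, e3 q10603 L255255 q8711, e3 q10604 L612311 q9699, e3 q10605 L620705 q9697, e3 q10606 L636090 q11763, e3 q10607 L256158 q8795, e3 q10608 L256165 q8725, e3 q10609 L256174 q8726, e3 q10610 (flp_c L372544) q12731, e3 q10611 L645086 q9705, e3 q10612 (flp_c L644436) q11738, e3 q10613 L256535 q8733, e3 q10614 L621399 q9707, e3 q10615 (flp_c L645031) q11733, e3 q10616 (flp_c L621380) q9702, e3 q10617 (flp_c L640390) q11828, e3 q10618 (flp_c L645072) q9708, e3 q10619 L645127 q9637, e3 q10620 L256687 q10620, e3 q10621 L256694 q10621, e3 q10622 L634937 q9081, e3 q10623 (flp_c L641072) q12099, trivial⟩ (by decide +kernel)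

theorem ce_c_166 : ∀ r, r < 64 → sm gc (Qf (10624 + r)) = Qf (tab Gen.c (10624 + r)) :=
  edges_tab (sm gc) Qf (tab Gen.c) 10624 [(10624, 8743), (10625, 9035), (10626, 11819), (10627, 9036), (10628, 8766), (10629, 8752), (10630, 8753), (10631, 8755), (10632, 8756), (10633, 12742), (10634, 12743), (10635, 10635), (10636, 10636), (10637, 10637), (10638, 8767), (10639, 8769), (10640, 10640), (10641, 8770), (10642, 10642), (10643, 11739), (10644, 12740), (10645, 11772), (10646, 12747), (10647, 9594), (10648, 12748), (10649, 9409), (10650, 8779), (10651, 8781), (10652, 12761), (10653, 8783), (10654, 8785), (10655, 10655), (10656, 10656), (10657, 10657), (10658, 10658), (10659, 12758), (10660, 9635), (10661, 12770), (10662, 12760), (10663, 8782), (10664, 12773), (10665, 9636), (10666, 9038), (10667, 12100), (10668, 12101), (10669, 12772), (10670, 8791), (10671, 8826), (10672, 12730), (10673, 8801), (10674, 8802), (10675, 8803), (10676, 12784), (10677, 8805), (10678, 8806), (10679, 8807), (10680, 12780), (10681, 12781), (10682,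 12783), (10683, 8804), (10684, 12788), (10685, 12786), (10686, 9084), (10687, 12103)]
    ⟨e3 q10624 (flp_c L256730) q8743, e3 q10625 (flp_c L641127) q9035, e3 q10626 L641106 q11819, e3 q10627 L641153 q9036, e3 q10628 L621586 q8766, e3 q10629 L257145 q8752, e3 q10630 L257155 q8753, e3 q10631 L257178 q8755, e3 q10632 L257197 q8756, e3 q10633 (flp_c L374041) q12742, e3 q10634 (flp_c L374073) q12743, e3 q10635 L257359 q10635, e3 q10636 L257378 q10636, e3 q10637 L257400 q10637, e3 q10638 L257424 q8767, e3 q10639 L257445 q8769, e3 q10640 L257458 q10640, e3 q10641 L257465 q8770, e3 q10642 L257485 q10642, e3 q10643 (flp_c L621598) q11739, e3 q10644 (flp_c L621537) q12740, e3 q10645 L640451 q11772, e3 q10646 (flp_c L374443) q12747, e3 q10647 L607718 q9594, e3 q10648 (flp_c L374474) q12748, e3 q10649 L621643 q9409, e3 q10650 L257572 q8779, e3 q10651 L257589 q8781, e3 q10652 L374686 q12761, e3 q10653 L257605 q8783, e3 q10654 L257636 q8785, e3 q10655 L257645 q10655, e3 q10656 L257654 q10656, e3 q10657 L257665 q10657, e3 q10658 L257674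 q10658, e3 q10659 (flp_c L374653) q12758, e3 q10660 L617548 q9635, e3 q10661 L374858 q12770, e3 q10662 (flp_c L374680) q12760, e3 q10663 (flp_c L257729) q8782, e3 q10664 (flp_c L374881) q12773, e3 q10665 (flp_c L621502) q9636, e3 q10666 L257779 q9038, e3 q10667 (flp_c L640304) q12100, e3 q10668 (flp_c L640296) q12101, e3 q10669 (flp_c L374877) q12772, e3 q10670 L257829 q8791, e3 q10671 (flp_c L621449) q8826, e3 q10672 (flp_c L372537) q12730, e3 q10673 L258374 q8801, e3 q10674 L258384 q8802, e3 q10675 L258394 q8803, e3 q10676 L375883 q12784, e3 q10677 L258408 q8805, e3 q10678 L258418 q8806, e3 q10679 L258438 q8807, e3 q10680 (flp_c L375837) q12780, e3 q10681 (flp_c L375849) q12781, e3 q10682 (flp_c L375875) q12783, e3 q10683 (flp_c L258526) q8804, e3 q10684 (flp_c L376055) q12788, e3 q10685 (flp_c L375913) q12786, e3 q10686 L258572 q9084, e3 q10687 (flp_c L632129) q12103, trivial⟩ (by decide +kernel)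

theorem ce_c_167 : ∀ r, r < 64 → sm gc (Qf (10688 + r)) = Qf (tab Gen.c (10688 + r)) :=
  edges_tab (sm gc) Qf (tab Gen.c) 10688 [(10688, 8989), (10689, 10689), (10690, 10690), (10691, 10691), (10692, 10692), (10693, 8825), (10694, 8827), (10695, 11847), (10696, 8829), (10697, 8830), (10698, 10698), (10699, 8831), (10700, 10700), (10701, 10701), (10702, 12776), (10703, 12795), (10704, 12777), (10705, 11846), (10706, 12797), (10707, 11848), (10708, 12800), (10709, 9709), (10710, 9464), (10711, 11832), (10712, 11843), (10713, 8846), (10714, 8847), (10715, 8848), (10716, 12823), (10717, 8850), (10718, 8837), (10719, 12827), (10720, 12828), (10721, 8853), (10722, 10722), (10723, 10723), (10724, 10724), (10725, 10725), (10726, 10726), (10727, 10727), (10728, 12817), (10729, 12818), (10730, 12841), (10731, 12820), (10732, 12844), (10733, 12822), (10734, 8849), (10735, 12847), (10736, 8862), (10737, 8852), (10738, 12850), (10739, 9142), (10740, 12265), (10741, 9144), (10742, 8856), (10743, 9198), (10744, 12854), (10745, 8858),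 (10746, 12857), (10747, 12846), (10748, 8861), (10749, 12860), (10750, 12281), (10751, 12849)]
    ⟨e3 q10688 L611217 q8989, e3 q10689 L258640 q10689, e3 q10690 L258649 q10690, e3 q10691 L258669 q10691, e3 q10692 L258690 q10692, e3 q10693 L258741 q8825, e3 q10694 L258757 q8827, e3 q10695 (flp_c L640465) q11847, e3 q10696 L258771 q8829, e3 q10697 L258779 q8830, e3 q10698 L258793 q10698, e3 q10699 L258800 q8831, e3 q10700 L258810 q10700, e3 q10701 L258817 q10701, e3 q10702 (flp_c L611662) q12776, e3 q10703 (flp_c L376391) q12795, e3 q10704 (flp_c L611650) q12777, e3 q10705 (flp_c L640460) q11846, e3 q10706 (flp_c L376417) q12797, e3 q10707 (flp_c L640441) q11848, e3 q10708 (flp_c L376456) q12800, e3 q10709 (flp_c L617236) q9709, e3 q10710 (flp_c L611552) q9464, e3 q10711 (flp_c L649163) q11832, e3 q10712 (flp_c L630863) q11843, e3 q10713 L258952 q8846, e3 q10714 L258962 q8847, e3 q10715 L258972 q8848, e3 q10716 L376735 q12823, e3 q10717 L258988 q8850, e3 q10718 (flp_c L258994) q8837, e3 q10719 (flp_c L376765) q12827, e3 q10720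 (flp_c L376770) q12828, e3 q10721 L259025 q8853, e3 q10722 L259035 q10722, e3 q10723 L259044 q10723, e3 q10724 L259055 q10724, e3 q10725 L259064 q10725, e3 q10726 L259080 q10726, e3 q10727 L259089 q10727, e3 q10728 (flp_c L376687) q12817, e3 q10729 (flp_c L376695) q12818, e3 q10730 L376929 q12841, e3 q10731 (flp_c L376713) q12820, e3 q10732 L376948 q12844, e3 q10733 (flp_c L376729) q12822, e3 q10734 (flp_c L259148) q8849, e3 q10735 (flp_c L376971) q12847, e3 q10736 L259165 q8862, e3 q10737 L259169 q8852, e3 q10738 (flp_c L376997) q12850, e3 q10739 L259180 q9142, e3 q10740 (flp_c L641009) q12265, e3 q10741 L259196 q9144, e3 q10742 (flp_c L259204) q8856, e3 q10743 (flp_c L641025) q9198, e3 q10744 (flp_c L377055) q12854, e3 q10745 (flp_c L259224) q8858, e3 q10746 (flp_c L377084) q12857, e3 q10747 (flp_c L376967) q12846, e3 q10748 L259250 q8861, e3 q10749 (flp_c L377117) q12860, e3 q10750 (flp_c L648209) q12281, e3 q10751 (flp_c L376992) q12849, trivial⟩ (by decide +kernel)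

theorem ce_c_168 : ∀ r, r < 64 → sm gc (Qf (10752 + r)) = Qf (tab Gen.c (10752 + r)) :=
  edges_tab (sm gc) Qf (tab Gen.c) 10752 [(10752, 8864), (10753, 8865), (10754, 12865), (10755, 9508), (10756, 8868), (10757, 12869), (10758, 10758), (10759, 10759), (10760, 10760), (10761, 12718), (10762, 10762), (10763, 8879), (10764, 8880), (10765, 8881), (10766, 12883), (10767, 8883), (10768, 8875), (10769, 12886), (10770, 8886), (10771, 12877), (10772, 12878), (10773, 12889), (10774, 12880), (10775, 12891), (10776, 12882), (10777, 8882), (10778, 12894), (10779, 8895), (10780, 8885), (10781, 12898), (10782, 9200), (10783, 8889), (10784, 12900), (10785, 8891), (10786, 12903), (10787, 12893), (10788, 8894), (10789, 12907), (10790, 12896), (10791, 12897), (10792, 8897), (10793, 9673), (10794, 12393), (10795, 10795), (10796, 10796), (10797, 10797), (10798, 12443), (10799, 10799), (10800, 10800), (10801, 10801), (10802, 10802), (10803, 10803), (10804, 10804), (10805, 12925), (10806, 10806), (10807, 8916), (10808, 8917), (10809, 8918),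 (10810, 12933), (10811, 8920), (10812, 8909), (10813, 12937), (10814, 12938), (10815, 10815)]
    ⟨e3 q10752 L259279 q8864, e3 q10753 (flp_c L259726) q8865, e3 q10754 (flp_c L377823) q12865, e3 q10755 (flp_c L521168) q9508, e3 q10756 L259755 q8868, e3 q10757 (flp_c L377860) q12869, e3 q10758 L260077 q10758, e3 q10759 L260086 q10759, e3 q10760 L260098 q10760, e3 q10761 (flp_c L512670) q12718, e3 q10762 L260114 q10762, e3 q10763 L260124 q8879, e3 q10764 L260134 q8880, e3 q10765 L260142 q8881, e3 q10766 L378483 q12883, e3 q10767 L260159 q8883, e3 q10768 (flp_c L260167) q8875, e3 q10769 (flp_c L378519) q12886, e3 q10770 L260199 q8886, e3 q10771 (flp_c L378432) q12877, e3 q10772 (flp_c L378441) q12878, e3 q10773 L378672 q12889, e3 q10774 (flp_c L378457) q12880, e3 q10775 L378690 q12891, e3 q10776 (flp_c L378474) q12882, e3 q10777 (flp_c L260321) q8882, e3 q10778 (flp_c L378714) q12894, e3 q10779 L260338 q8895, e3 q10780 L260342 q8885, e3 q10781 (flp_c L378742) q12898, e3 q10782 L260372 q9200, e3 q10783 (flp_c L260380) q8889, e3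 q10784 (flp_c L378804) q12900, e3 q10785 (flp_c L260399) q8891, e3 q10786 (flp_c L378834) q12903, e3 q10787 (flp_c L378710) q12893, e3 q10788 L260426 q8894, e3 q10789 (flp_c L378869) q12907, e3 q10790 (flp_c L378729) q12896, e3 q10791 (flp_c L378737) q12897, e3 q10792 L260457 q8897, e3 q10793 L616096 q9673, e3 q10794 (flp_c L542406) q12393, e3 q10795 L260495 q10795, e3 q10796 L260502 q10796, e3 q10797 L260512 q10797, e3 q10798 (flp_c L534697) q12443, e3 q10799 L260530 q10799, e3 q10800 L260540 q10800, e3 q10801 L260560 q10801, e3 q10802 L260644 q10802, e3 q10803 L260651 q10803, e3 q10804 L260661 q10804, e3 q10805 L379255 q12925, e3 q10806 L260677 q10806, e3 q10807 L260685 q8916, e3 q10808 L260693 q8917, e3 q10809 L260701 q8918, e3 q10810 L379328 q12933, e3 q10811 L260718 q8920, e3 q10812 (flp_c L260724) q8909, e3 q10813 (flp_c L379361) q12937, e3 q10814 (flp_c L379369) q12938, e3 q10815 L260752 q10815, trivial⟩ (by decide +kernel)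

theorem ce_c_169 : ∀ r, r < 64 → sm gc (Qf (10816 + r)) = Qf (tab Gen.c (10816 + r)) :=
  edges_tab (sm gc) Qf (tab Gen.c) 10816 [(10816, 8923), (10817, 10817), (10818, 10818), (10819, 10819), (10820, 12927), (10821, 12928), (10822, 12948), (10823, 12930), (10824, 12951), (10825, 12932), (10826, 8919), (10827, 12954), (10828, 10828), (10829, 8922), (10830, 12958), (10831, 10831), (10832, 10832), (10833, 10833), (10834, 10834), (10835, 12966), (10836, 10836), (10837, 8927), (10838, 12970), (10839, 12971), (10840, 8945), (10841, 8946), (10842, 12978), (10843, 8948), (10844, 12981), (10845, 8950), (10846, 8932), (10847, 12985), (10848, 12986), (10849, 9257), (10850, 8935), (10851, 8936), (10852, 12993), (10853, 12994), (10854, 12995), (10855, 10855), (10856, 10856), (10857, 10857), (10858, 10858), (10859, 10859), (10860, 10860), (10861, 10861), (10862, 10862), (10863, 12975), (10864, 13008), (10865, 12977), (10866, 8947), (10867, 13012), (10868, 13013), (10869, 8949), (10870, 13017), (10871, 8964), (10872, 8952), (10873, 13021),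 (10874, 8967), (10875, 8968), (10876, 8955), (10877, 12723), (10878, 9286), (10879, 8957)]
    ⟨e3 q10816 L260759 q8923, e3 q10817 L260768 q10817, e3 q10818 L260777 q10818, e3 q10819 L260796 q10819, e3 q10820 (flp_c L379283) q12927, e3 q10821 (flp_c L379290) q12928, e3 q10822 L379528 q12948, e3 q10823 (flp_c L379306) q12930, e3 q10824 L379551 q12951, e3 q10825 (flp_c L379321) q12932, e3 q10826 (flp_c L260886) q8919, e3 q10827 (flp_c L379582) q12954, e3 q10828 L260909 q10828, e3 q10829 L260914 q8922, e3 q10830 (flp_c L379615) q12958, e3 q10831 L260930 q10831, e3 q10832 L260937 q10832, e3 q10833 L260946 q10833, e3 q10834 L260953 q10834, e3 q10835 L379689 q12966, e3 q10836 L260971 q10836, e3 q10837 (flp_c L260976) q8927, e3 q10838 (flp_c L379724) q12970, e3 q10839 (flp_c L379731) q12971, e3 q10840 L261002 q8945, e3 q10841 L261009 q8946, e3 q10842 L379787 q12978, e3 q10843 L261025 q8948, e3 q10844 L379805 q12981, e3 q10845 L261040 q8950, e3 q10846 (flp_c L261047) q8932, e3 q10847 (flp_c L379840) q12985, e3 q10848 (flp_c L379847)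 q12986, e3 q10849 L261074 q9257, e3 q10850 L261078 q8935, e3 q10851 L261084 q8936, e3 q10852 (flp_c L379901) q12993, e3 q10853 (flp_c L379907) q12994, e3 q10854 (flp_c L379915) q12995, e3 q10855 L261114 q10855, e3 q10856 L261124 q10856, e3 q10857 L261134 q10857, e3 q10858 L261141 q10858, e3 q10859 L261159 q10859, e3 q10860 L261168 q10860, e3 q10861 L261188 q10861, e3 q10862 L261196 q10862, e3 q10863 (flp_c L379764) q12975, e3 q10864 L380081 q13008, e3 q10865 (flp_c L379781) q12977, e3 q10866 (flp_c L261240) q8947, e3 q10867 (flp_c L380115) q13012, e3 q10868 (flp_c L380121) q13013, e3 q10869 (flp_c L261259) q8949, e3 q10870 (flp_c L380150) q13017, e3 q10871 L261282 q8964, e3 q10872 L261286 q8952, e3 q10873 (flp_c L380184) q13021, e3 q10874 L261301 q8967, e3 q10875 L261310 q8968, e3 q10876 L261316 q8955, e3 q10877 (flp_c L646877) q12723, e3 q10878 L261331 q9286, e3 q10879 (flp_c L261336) q8957, trivial⟩ (by decide +kernel)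

theorem ce_c_170 : ∀ r, r < 64 → sm gc (Qf (10880 + r)) = Qf (tab Gen.c (10880 + r)) :=
  edges_tab (sm gc) Qf (tab Gen.c) 10880 [(10880, 13027), (10881, 13028), (10882, 13011), (10883, 8960), (10884, 8961), (10885, 13035), (10886, 13036), (10887, 13016), (10888, 8963), (10889, 13040), (10890, 13019), (10891, 13020), (10892, 8966), (10893, 13022), (10894, 13023), (10895, 12910), (10896, 10896), (10897, 10897), (10898, 8975), (10899, 8976), (10900, 8978), (10901, 8979), (10902, 12108), (10903, 9090), (10904, 13048), (10905, 13053), (10906, 13050), (10907, 9630), (10908, 13051), (10909, 10909), (10910, 8988), (10911, 8990), (10912, 13060), (10913, 8992), (10914, 8993), (10915, 10915), (10916, 8994), (10917, 10917), (10918, 10918), (10919, 13059), (10920, 8991), (10921, 13066), (10922, 13063), (10923, 12165), (10924, 10924), (10925, 9006), (10926, 9007), (10927, 9008), (10928, 13074), (10929, 9010), (10930, 9011), (10931, 9012), (10932, 12204), (10933, 13070), (10934, 13071), (10935, 11779), (10936, 13073), (10937, 9009), (10938,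 13083), (10939, 13076), (10940, 10940), (10941, 13085), (10942, 10942), (10943, 9027)]
    ⟨e3 q10880 (flp_c L380246) q13027, e3 q10881 (flp_c L380255) q13028, e3 q10882 (flp_c L380111) q13011, e3 q10883 L261372 q8960, e3 q10884 L261379 q8961, e3 q10885 (flp_c L380310) q13035, e3 q10886 (flp_c L380318) q13036, e3 q10887 (flp_c L380146) q13016, e3 q10888 L261409 q8963, e3 q10889 (flp_c L380353) q13040, e3 q10890 (flp_c L380167) q13019, e3 q10891 (flp_c L380177) q13020, e3 q10892 L261446 q8966, e3 q10893 (flp_c L380194) q13022, e3 q10894 (flp_c L380202) q13023, e3 q10895 (flp_c L378893) q12910, e3 q10896 L261479 q10896, e3 q10897 L261530 q10897, e3 q10898 L261537 q8975, e3 q10899 L261547 q8976, e3 q10900 L261570 q8978, e3 q10901 L261590 q8979, e3 q10902 (flp_c L611916) q12108, e3 q10903 L617628 q9090, e3 q10904 (flp_c L380551) q13048, e3 q10905 L380708 q13053, e3 q10906 (flp_c L380567) q13050, e3 q10907 L617208 q9630, e3 q10908 (flp_c L380600) q13051, e3 q10909 L261701 q10909, e3 q10910 L261708 q8988, e3 q10911 L261725 q8990,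 e3 q10912 L380819 q13060, e3 q10913 L261737 q8992, e3 q10914 L261747 q8993, e3 q10915 L261759 q10915, e3 q10916 L261764 q8994, e3 q10917 L261773 q10917, e3 q10918 L261780 q10918, e3 q10919 (flp_c L380811) q13059, e3 q10920 (flp_c L261857) q8991, e3 q10921 (flp_c L381005) q13066, e3 q10922 (flp_c L380849) q13063, e3 q10923 (flp_c L637160) q12165, e3 q10924 L262075 q10924, e3 q10925 L262084 q9006, e3 q10926 L262091 q9007, e3 q10927 L262101 q9008, e3 q10928 L381386 q13074, e3 q10929 L262117 q9010, e3 q10930 L262127 q9011, e3 q10931 L262149 q9012, e3 q10932 (flp_c L617582) q12204, e3 q10933 (flp_c L381353) q13070, e3 q10934 (flp_c L381362) q13071, e3 q10935 (flp_c L648161) q11779, e3 q10936 (flp_c L381380) q13073, e3 q10937 (flp_c L262255) q9009, e3 q10938 (flp_c L381611) q13083, e3 q10939 (flp_c L381427) q13076, e3 q10940 L262289 q10940, e3 q10941 L381667 q13085, e3 q10942 L262316 q10942, e3 q10943 L262323 q9027, trivial⟩ (by decide +kernel)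

theorem ce_c_171 : ∀ r, r < 64 → sm gc (Qf (10944 + r)) = Qf (tab Gen.c (10944 + r)) :=
  edges_tab (sm gc) Qf (tab Gen.c) 10944 [(10944, 9028), (10945, 9029), (10946, 13092), (10947, 9031), (10948, 9018), (10949, 13095), (10950, 13096), (10951, 9034), (10952, 9410), (10953, 9411), (10954, 9412), (10955, 9413), (10956, 9414), (10957, 13087), (10958, 13088), (10959, 13106), (10960, 13090), (10961, 11835), (10962, 13091), (10963, 9030), (10964, 13111), (10965, 9043), (10966, 9033), (10967, 13115), (10968, 11812), (10969, 12102), (10970, 12052), (10971, 12104), (10972, 9039), (10973, 13120), (10974, 13110), (10975, 9042), (10976, 13123), (10977, 13113), (10978, 13114), (10979, 9045), (10980, 10980), (10981, 10981), (10982, 10982), (10983, 9054), (10984, 9055), (10985, 9056), (10986, 13136), (10987, 9058), (10988, 9059), (10989, 9060), (10990, 13131), (10991, 13132), (10992, 13133), (10993, 13144), (10994, 13135), (10995, 9057), (10996, 13147), (10997, 13138), (10998, 10998), (10999, 10999), (11000, 13152), (11001, 11001), (11002,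 9073), (11003, 9074), (11004, 9075), (11005, 13161), (11006, 9077), (11007, 9066)]
    ⟨e3 q10944 L262330 q9028, e3 q10945 L262337 q9029, e3 q10946 L381731 q13092, e3 q10947 L262351 q9031, e3 q10948 (flp_c L262357) q9018, e3 q10949 (flp_c L381757) q13095, e3 q10950 (flp_c L381765) q13096, e3 q10951 L262388 q9034, e3 q10952 L262405 q9410, e3 q10953 L262414 q9411, e3 q10954 L262424 q9412, e3 q10955 L262442 q9413, e3 q10956 L262449 q9414, e3 q10957 (flp_c L381690) q13087, e3 q10958 (flp_c L381697) q13088, e3 q10959 L381922 q13106, e3 q10960 (flp_c L381710) q13090, e3 q10961 (flp_c L635746) q11835, e3 q10962 (flp_c L381723) q13091, e3 q10963 (flp_c L262518) q9030, e3 q10964 (flp_c L381975) q13111, e3 q10965 L262542 q9043, e3 q10966 L262546 q9033, e3 q10967 (flp_c L382011) q13115, e3 q10968 (flp_c L648980) q11812, e3 q10969 (flp_c L637358) q12102, e3 q10970 (flp_c L637390) q12052, e3 q10971 (flp_c L637353) q12104, e3 q10972 (flp_c L262605) q9039, e3 q10973 (flp_c L382106) q13120, e3 q10974 (flp_c L381971) q13110, e3 q10975 L262636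 q9042, e3 q10976 (flp_c L382143) q13123, e3 q10977 (flp_c L381992) q13113, e3 q10978 (flp_c L382003) q13114, e3 q10979 L262669 q9045, e3 q10980 L262688 q10980, e3 q10981 L262765 q10981, e3 q10982 L262776 q10982, e3 q10983 L262783 q9054, e3 q10984 L262793 q9055, e3 q10985 L262803 q9056, e3 q10986 L382425 q13136, e3 q10987 L262817 q9058, e3 q10988 L262827 q9059, e3 q10989 L262848 q9060, e3 q10990 (flp_c L382379) q13131, e3 q10991 (flp_c L382391) q13132, e3 q10992 (flp_c L382401) q13133, e3 q10993 L382600 q13144, e3 q10994 (flp_c L382417) q13135, e3 q10995 (flp_c L262949) q9057, e3 q10996 (flp_c L382627) q13147, e3 q10997 (flp_c L382458) q13138, e3 q10998 L262977 q10998, e3 q10999 L262993 q10999, e3 q11000 L382684 q13152, e3 q11001 L263004 q11001, e3 q11002 L263011 q9073, e3 q11003 L263021 q9074, e3 q11004 L263029 q9075, e3 q11005 L382745 q13161, e3 q11006 L263041 q9077, e3 q11007 (flp_c L263049) q9066, trivial⟩ (by decide +kernel)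

theorem ce_c_172 : ∀ r, r < 64 → sm gc (Qf (11008 + r)) = Qf (tab Gen.c (11008 + r)) :=
  edges_tab (sm gc) Qf (tab Gen.c) 11008 [(11008, 13165), (11009, 13166), (11010, 11010), (11011, 9080), (11012, 11012), (11013, 11013), (11014, 11014), (11015, 13155), (11016, 13156), (11017, 13173), (11018, 13158), (11019, 13160), (11020, 9076), (11021, 13176), (11022, 9087), (11023, 9079), (11024, 13180), (11025, 11877), (11026, 12369), (11027, 12370), (11028, 12376), (11029, 13178), (11030, 13179), (11031, 9089), (11032, 11878), (11033, 11033), (11034, 11034), (11035, 11035), (11036, 13191), (11037, 11037), (11038, 9102), (11039, 9103), (11040, 9104), (11041, 13199), (11042, 9106), (11043, 9098), (11044, 13202), (11045, 9109), (11046, 13193), (11047, 13194), (11048, 13207), (11049, 13196), (11050, 11858), (11051, 13198), (11052, 9105), (11053, 13211), (11054, 11054), (11055, 9108), (11056, 13215), (11057, 11057), (11058, 11058), (11059, 11059), (11060, 13219), (11061, 11061), (11062, 9113), (11063, 13222), (11064, 13223), (11065,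 9131), (11066, 9132), (11067, 13230), (11068, 9134), (11069, 13233), (11070, 9136), (11071, 9118)]
    ⟨e3 q11008 (flp_c L382769) q13165, e3 q11009 (flp_c L382774) q13166, e3 q11010 L263067 q11010, e3 q11011 L263072 q9080, e3 q11012 L263082 q11012, e3 q11013 L263089 q11013, e3 q11014 L263105 q11014, e3 q11015 (flp_c L382701) q13155, e3 q11016 (flp_c L382709) q13156, e3 q11017 L382912 q13173, e3 q11018 (flp_c L382723) q13158, e3 q11019 (flp_c L382737) q13160, e3 q11020 (flp_c L263192) q9076, e3 q11021 (flp_c L382958) q13176, e3 q11022 L263211 q9087, e3 q11023 L263215 q9079, e3 q11024 (flp_c L382988) q13180, e3 q11025 (flp_c L635102) q11877, e3 q11026 (flp_c L637061) q12369, e3 q11027 (flp_c L637049) q12370, e3 q11028 (flp_c L637642) q12376, e3 q11029 (flp_c L382975) q13178, e3 q11030 (flp_c L382983) q13179, e3 q11031 L263323 q9089, e3 q11032 (flp_c L637471) q11878, e3 q11033 L263351 q11033, e3 q11034 L263477 q11034, e3 q11035 L263493 q11035, e3 q11036 L383435 q13191, e3 q11037 L263508 q11037, e3 q11038 L263515 q9102, e3 q11039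 L263525 q9103, e3 q11040 L263535 q9104, e3 q11041 L383508 q13199, e3 q11042 L263551 q9106, e3 q11043 (flp_c L263557) q9098, e3 q11044 (flp_c L383548) q13202, e3 q11045 L263591 q9109, e3 q11046 (flp_c L383460) q13193, e3 q11047 (flp_c L383468) q13194, e3 q11048 L383722 q13207, e3 q11049 (flp_c L383486) q13196, e3 q11050 (flp_c L648111) q11858, e3 q11051 (flp_c L383502) q13198, e3 q11052 (flp_c L263732) q9105, e3 q11053 (flp_c L383780) q13211, e3 q11054 L263757 q11054, e3 q11055 L263762 q9108, e3 q11056 (flp_c L383815) q13215, e3 q11057 L263776 q11057, e3 q11058 L263783 q11058, e3 q11059 L263790 q11059, e3 q11060 L383872 q13219, e3 q11061 L263808 q11061, e3 q11062 (flp_c L263813) q9113, e3 q11063 (flp_c L383900) q13222, e3 q11064 (flp_c L383906) q13223, e3 q11065 L263830 q9131, e3 q11066 L263836 q9132, e3 q11067 L383949 q13230, e3 q11068 L263850 q9134, e3 q11069 L383965 q13233, e3 q11070 L263862 q9136, e3 q11071 (flp_c L263868) q9118, trivial⟩ (by decide +kernel)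

theorem ce_c_173 : ∀ r, r < 64 → sm gc (Qf (11072 + r)) = Qf (tab Gen.c (11072 + r)) :=
  edges_tab (sm gc) Qf (tab Gen.c) 11072 [(11072, 13236), (11073, 13237), (11074, 12826), (11075, 9121), (11076, 9122), (11077, 13244), (11078, 13245), (11079, 13246), (11080, 9465), (11081, 9466), (11082, 9467), (11083, 9468), (11084, 9469), (11085, 9470), (11086, 9471), (11087, 13227), (11088, 13257), (11089, 13229), (11090, 9133), (11091, 13261), (11092, 13262), (11093, 9135), (11094, 13266), (11095, 9150), (11096, 9138), (11097, 13270), (11098, 9153), (11099, 9154), (11100, 9141), (11101, 12266), (11102, 12851), (11103, 9143), (11104, 13276), (11105, 13277), (11106, 13260), (11107, 9146), (11108, 9147), (11109, 13284), (11110, 13285), (11111, 13265), (11112, 9149), (11113, 13289), (11114, 13268), (11115, 13269), (11116, 9152), (11117, 13271), (11118, 13272), (11119, 13185), (11120, 11120), (11121, 11121), (11122, 9165), (11123, 9166), (11124, 9167), (11125, 12441), (11126, 9168), (11127, 12444), (11128, 9169), (11129, 13296), (11130,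 13297), (11131, 13299), (11132, 13301), (11133, 9305), (11134, 9306), (11135, 9307)]
    ⟨e3 q11072 (flp_c L383991) q13236, e3 q11073 (flp_c L383999) q13237, e3 q11074 (flp_c L376761) q12826, e3 q11075 L263892 q9121, e3 q11076 L263898 q9122, e3 q11077 (flp_c L384039) q13244, e3 q11078 (flp_c L384045) q13245, e3 q11079 (flp_c L384053) q13246, e3 q11080 L263924 q9465, e3 q11081 L263934 q9466, e3 q11082 L263942 q9467, e3 q11083 L263960 q9468, e3 q11084 L263968 q9469, e3 q11085 L263984 q9470, e3 q11086 L263992 q9471, e3 q11087 (flp_c L383927) q13227, e3 q11088 L384202 q13257, e3 q11089 (flp_c L383941) q13229, e3 q11090 (flp_c L264039) q9133, e3 q11091 (flp_c L384239) q13261, e3 q11092 (flp_c L384246) q13262, e3 q11093 (flp_c L264061) q9135, e3 q11094 (flp_c L384278) q13266, e3 q11095 L264085 q9150, e3 q11096 L264089 q9138, e3 q11097 (flp_c L384314) q13270, e3 q11098 L264106 q9153, e3 q11099 L264115 q9154, e3 q11100 L264121 q9141, e3 q11101 (flp_c L649142) q12266, e3 q11102 (flp_c L377008) q12851, e3 q11103 (flp_c L264139) q9143,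 e3 q11104 (flp_c L384372) q13276, e3 q11105 (flp_c L384382) q13277, e3 q11106 (flp_c L384235) q13260, e3 q11107 L264174 q9146, e3 q11108 L264182 q9147, e3 q11109 (flp_c L384436) q13284, e3 q11110 (flp_c L384445) q13285, e3 q11111 (flp_c L384274) q13265, e3 q11112 L264211 q9149, e3 q11113 (flp_c L384477) q13289, e3 q11114 (flp_c L384295) q13268, e3 q11115 (flp_c L384306) q13269, e3 q11116 L264244 q9152, e3 q11117 (flp_c L384325) q13271, e3 q11118 (flp_c L384333) q13272, e3 q11119 (flp_c L383130) q13185, e3 q11120 L264300 q11120, e3 q11121 L264307 q11121, e3 q11122 L264480 q9165, e3 q11123 L264490 q9166, e3 q11124 L264498 q9167, e3 q11125 (flp_c L546912) q12441, e3 q11126 L264515 q9168, e3 q11127 (flp_c L543041) q12444, e3 q11128 L264558 q9169, e3 q11129 (flp_c L384879) q13296, e3 q11130 (flp_c L384888) q13297, e3 q11131 (flp_c L384904) q13299, e3 q11132 (flp_c L384921) q13301, e3 q11133 L264745 q9305, e3 q11134 L264753 q9306, e3 q11135 L264763 q9307, trivial⟩ (by decide +kernel)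

theorem ce_c_174 : ∀ r, r < 64 → sm gc (Qf (11136 + r)) = Qf (tab Gen.c (11136 + r)) :=
  edges_tab (sm gc) Qf (tab Gen.c) 11136 [(11136, 9308), (11137, 12423), (11138, 9309), (11139, 12425), (11140, 12426), (11141, 9188), (11142, 9189), (11143, 13320), (11144, 9191), (11145, 13323), (11146, 9193), (11147, 9178), (11148, 13327), (11149, 13328), (11150, 12885), (11151, 9181), (11152, 9182), (11153, 13334), (11154, 13335), (11155, 11155), (11156, 11156), (11157, 11157), (11158, 11158), (11159, 13317), (11160, 13342), (11161, 13319), (11162, 9190), (11163, 13346), (11164, 13347), (11165, 9192), (11166, 13350), (11167, 9206), (11168, 9195), (11169, 9209), (11170, 9210), (11171, 13034), (11172, 12855), (11173, 9199), (11174, 12635), (11175, 13356), (11176, 13345), (11177, 9202), (11178, 9203), (11179, 13362), (11180, 13363), (11181, 13349), (11182, 9205), (11183, 13367), (11184, 13351), (11185, 13352), (11186, 9208), (11187, 13353), (11188, 12503), (11189, 9303), (11190, 12656), (11191, 9669), (11192, 12659), (11193, 12497),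 (11194, 11194), (11195, 9337), (11196, 9338), (11197, 9339), (11198, 9340), (11199, 12715)]
    ⟨e3 q11136 L264769 q9308, e3 q11137 (flp_c L508367) q12423, e3 q11138 L264784 q9309, e3 q11139 (flp_c L546895) q12425, e3 q11140 (flp_c L508363) q12426, e3 q11141 L264813 q9188, e3 q11142 L264820 q9189, e3 q11143 L385394 q13320, e3 q11144 L264832 q9191, e3 q11145 L385408 q13323, e3 q11146 L264845 q9193, e3 q11147 (flp_c L264854) q9178, e3 q11148 (flp_c L385437) q13327, e3 q11149 (flp_c L385444) q13328, e3 q11150 (flp_c L378510) q12885, e3 q11151 L264879 q9181, e3 q11152 L264885 q9182, e3 q11153 (flp_c L385494) q13334, e3 q11154 (flp_c L385502) q13335, e3 q11155 L264909 q11155, e3 q11156 L264917 q11156, e3 q11157 L264925 q11157, e3 q11158 L264930 q11158, e3 q11159 (flp_c L385373) q13317, e3 q11160 L385645 q13342, e3 q11161 (flp_c L385386) q13319, e3 q11162 (flp_c L265020) q9190, e3 q11163 (flp_c L385682) q13346, e3 q11164 (flp_c L385689) q13347, e3 q11165 (flp_c L265041) q9192, e3 q11166 (flp_c L385722) q13350, e3 q11167 L265066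 q9206, e3 q11168 L265070 q9195, e3 q11169 L265088 q9209, e3 q11170 L265098 q9210, e3 q11171 (flp_c L645638) q13034, e3 q11172 (flp_c L635142) q12855, e3 q11173 (flp_c L265126) q9199, e3 q11174 (flp_c L645627) q12635, e3 q11175 (flp_c L385836) q13356, e3 q11176 (flp_c L385678) q13345, e3 q11177 L265161 q9202, e3 q11178 L265169 q9203, e3 q11179 (flp_c L385888) q13362, e3 q11180 (flp_c L385896) q13363, e3 q11181 (flp_c L385718) q13349, e3 q11182 L265199 q9205, e3 q11183 (flp_c L385930) q13367, e3 q11184 (flp_c L385742) q13351, e3 q11185 (flp_c L385753) q13352, e3 q11186 L265234 q9208, e3 q11187 (flp_c L385771) q13353, e3 q11188 (flp_c L542506) q12503, e3 q11189 L265262 q9303, e3 q11190 (flp_c L615891) q12656, e3 q11191 L614628 q9669, e3 q11192 (flp_c L542424) q12659, e3 q11193 (flp_c L561491) q12497, e3 q11194 L265323 q11194, e3 q11195 L265521 q9337, e3 q11196 L265529 q9338, e3 q11197 L265539 q9339, e3 q11198 L265547 q9340, e3 q11199 (flp_c L512654) q12715, trivial⟩ (by decide +kernel)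

theorem ce_c_175 : ∀ r, r < 64 → sm gc (Qf (11200 + r)) = Qf (tab Gen.c (11200 + r)) :=
  edges_tab (sm gc) Qf (tab Gen.c) 11200 [(11200, 9341), (11201, 12623), (11202, 9229), (11203, 9230), (11204, 13390), (11205, 9232), (11206, 13393), (11207, 9234), (11208, 9224), (11209, 13396), (11210, 13332), (11211, 9227), (11212, 13400), (11213, 13387), (11214, 13403), (11215, 13389), (11216, 9231), (11217, 13407), (11218, 13408), (11219, 9233), (11220, 13411), (11221, 11221), (11222, 9236), (11223, 11223), (11224, 11224), (11225, 9350), (11226, 9351), (11227, 9352), (11228, 9353), (11229, 13422), (11230, 9355), (11231, 13425), (11232, 9357), (11233, 9243), (11234, 13429), (11235, 13430), (11236, 12969), (11237, 9246), (11238, 9247), (11239, 13437), (11240, 13438), (11241, 13439), (11242, 9271), (11243, 13445), (11244, 9273), (11245, 9250), (11246, 13449), (11247, 13450), (11248, 9252), (11249, 13455), (11250, 13456), (11251, 12984), (11252, 9255), (11253, 9256), (11254, 13463), (11255, 13464), (11256, 13465), (11257, 12990), (11258,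 12991), (11259, 12992), (11260, 9260), (11261, 9261), (11262, 9262), (11263, 13474)]
    ⟨e3 q11200 L265566 q9341, e3 q11201 (flp_c L512643) q12623, e3 q11202 L265601 q9229, e3 q11203 L265608 q9230, e3 q11204 L386602 q13390, e3 q11205 L265624 q9232, e3 q11206 L386622 q13393, e3 q11207 L265639 q9234, e3 q11208 (flp_c L265646) q9224, e3 q11209 (flp_c L386669) q13396, e3 q11210 (flp_c L534682) q13332, e3 q11211 L265688 q9227, e3 q11212 (flp_c L386742) q13400, e3 q11213 (flp_c L386579) q13387, e3 q11214 L386925 q13403, e3 q11215 (flp_c L386596) q13389, e3 q11216 (flp_c L265859) q9231, e3 q11217 (flp_c L386968) q13407, e3 q11218 (flp_c L386978) q13408, e3 q11219 (flp_c L265885) q9233, e3 q11220 (flp_c L387014) q13411, e3 q11221 L265916 q11221, e3 q11222 L265921 q9236, e3 q11223 L265940 q11223, e3 q11224 L265952 q11224, e3 q11225 L265969 q9350, e3 q11226 L265977 q9351, e3 q11227 L265985 q9352, e3 q11228 L265992 q9353, e3 q11229 L387143 q13422, e3 q11230 L266006 q9355, e3 q11231 L387161 q13425, e3 q11232 L266019 q9357, e3 q11233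 (flp_c L266026) q9243, e3 q11234 (flp_c L387196) q13429, e3 q11235 (flp_c L387205) q13430, e3 q11236 (flp_c L379720) q12969, e3 q11237 L266057 q9246, e3 q11238 L266065 q9247, e3 q11239 (flp_c L387255) q13437, e3 q11240 (flp_c L387263) q13438, e3 q11241 (flp_c L387271) q13439, e3 q11242 L266091 q9271, e3 q11243 L387308 q13445, e3 q11244 L266104 q9273, e3 q11245 (flp_c L266110) q9250, e3 q11246 (flp_c L387336) q13449, e3 q11247 (flp_c L387340) q13450, e3 q11248 (flp_c L266124) q9252, e3 q11249 (flp_c L387367) q13455, e3 q11250 (flp_c L387376) q13456, e3 q11251 (flp_c L379836) q12984, e3 q11252 L266153 q9255, e3 q11253 L266161 q9256, e3 q11254 (flp_c L387427) q13463, e3 q11255 (flp_c L387433) q13464, e3 q11256 (flp_c L387443) q13465, e3 q11257 (flp_c L379877) q12990, e3 q11258 (flp_c L379886) q12991, e3 q11259 (flp_c L379894) q12992, e3 q11260 L266204 q9260, e3 q11261 L266211 q9261, e3 q11262 L266220 q9262, e3 q11263 (flp_c L387502) q13474, trivial⟩ (by decide +kernel)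

theorem ce_c_176 : ∀ r, r < 64 → sm gc (Qf (11264 + r)) = Qf (tab Gen.c (11264 + r)) :=
  edges_tab (sm gc) Qf (tab Gen.c) 11264 [(11264, 13475), (11265, 13476), (11266, 9547), (11267, 9548), (11268, 9549), (11269, 9550), (11270, 9551), (11271, 9552), (11272, 9553), (11273, 13486), (11274, 13444), (11275, 9272), (11276, 13489), (11277, 13490), (11278, 9290), (11279, 9275), (11280, 9276), (11281, 13497), (11282, 13498), (11283, 9295), (11284, 9278), (11285, 13502), (11286, 9298), (11287, 9299), (11288, 9281), (11289, 9301), (11290, 9302), (11291, 12519), (11292, 12638), (11293, 13488), (11294, 9289), (11295, 9294), (11296, 9293), (11297, 13493), (11298, 13494), (11299, 13495), (11300, 13283), (11301, 13500), (11302, 13501), (11303, 13503), (11304, 13504), (11305, 13370), (11306, 13506), (11307, 11956), (11308, 13373), (11309, 12911), (11310, 13306), (11311, 13307), (11312, 13308), (11313, 13310), (11314, 13312), (11315, 13519), (11316, 9312), (11317, 13522), (11318, 9323), (11319, 9314), (11320, 9328), (11321, 9331), (11322,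 9318), (11323, 9322), (11324, 9321), (11325, 13521), (11326, 13415), (11327, 13379)]
    ⟨e3 q11264 (flp_c L387508) q13475, e3 q11265 (flp_c L387517) q13476, e3 q11266 L266241 q9547, e3 q11267 L266249 q9548, e3 q11268 L266267 q9549, e3 q11269 L266275 q9550, e3 q11270 L266291 q9551, e3 q11271 L266300 q9552, e3 q11272 L266324 q9553, e3 q11273 L387673 q13486, e3 q11274 (flp_c L387303) q13444, e3 q11275 (flp_c L266367) q9272, e3 q11276 (flp_c L387709) q13489, e3 q11277 (flp_c L387719) q13490, e3 q11278 L266401 q9290, e3 q11279 L266405 q9275, e3 q11280 L266413 q9276, e3 q11281 (flp_c L387777) q13497, e3 q11282 (flp_c L387785) q13498, e3 q11283 L266442 q9295, e3 q11284 L266446 q9278, e3 q11285 (flp_c L387825) q13502, e3 q11286 L266466 q9298, e3 q11287 L266478 q9299, e3 q11288 L266486 q9281, e3 q11289 L266498 q9301, e3 q11290 L266507 q9302, e3 q11291 (flp_c L543064) q12519, e3 q11292 (flp_c L646917) q12638, e3 q11293 (flp_c L387705) q13488, e3 q11294 L266564 q9289, e3 q11295 (flp_c L646966) q9294, e3 q11296 (flp_c L646947) q9293,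 e3 q11297 (flp_c L387747) q13493, e3 q11298 (flp_c L387757) q13494, e3 q11299 (flp_c L387767) q13495, e3 q11300 (flp_c L384431) q13283, e3 q11301 (flp_c L387803) q13500, e3 q11302 (flp_c L387816) q13501, e3 q11303 (flp_c L387838) q13503, e3 q11304 (flp_c L387848) q13504, e3 q11305 (flp_c L385962) q13370, e3 q11306 (flp_c L387866) q13506, e3 q11307 (flp_c L553761) q11956, e3 q11308 (flp_c L385983) q13373, e3 q11309 (flp_c L616103) q12911, e3 q11310 (flp_c L385252) q13306, e3 q11311 (flp_c L385260) q13307, e3 q11312 (flp_c L385269) q13308, e3 q11313 (flp_c L385283) q13310, e3 q11314 (flp_c L385298) q13312, e3 q11315 L389714 q13519, e3 q11316 (flp_c L267773) q9312, e3 q11317 (flp_c L389745) q13522, e3 q11318 L267801 q9323, e3 q11319 L267805 q9314, e3 q11320 L267836 q9328, e3 q11321 L267858 q9331, e3 q11322 (flp_c L267900) q9318, e3 q11323 (flp_c L615862) q9322, e3 q11324 (flp_c L615846) q9321, e3 q11325 (flp_c L389741) q13521, e3 q11326 (flp_c L615812) q13415, e3 q11327 (flp_c L615818) q13379, trivial⟩ (by decide +kernel)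

theorem ce_c_177 : ∀ r, r < 64 → sm gc (Qf (11328 + r)) = Qf (tab Gen.c (11328 + r)) :=
  edges_tab (sm gc) Qf (tab Gen.c) 11328 [(11328, 12499), (11329, 9327), (11330, 12482), (11331, 13523), (11332, 12500), (11333, 9330), (11334, 11924), (11335, 12501), (11336, 9392), (11337, 11925), (11338, 11935), (11339, 9395), (11340, 13378), (11341, 13380), (11342, 13382), (11343, 13384), (11344, 13532), (11345, 9344), (11346, 13534), (11347, 11347), (11348, 9346), (11349, 11349), (11350, 11350), (11351, 13416), (11352, 13541), (11353, 13418), (11354, 13419), (11355, 13546), (11356, 13421), (11357, 9354), (11358, 13550), (11359, 13551), (11360, 9356), (11361, 13554), (11362, 11362), (11363, 9359), (11364, 11364), (11365, 11365), (11366, 13558), (11367, 9363), (11368, 13560), (11369, 11369), (11370, 9365), (11371, 11371), (11372, 11372), (11373, 9369), (11374, 9377), (11375, 9372), (11376, 9373), (11377, 9388), (11378, 11378), (11379, 9378), (11380, 9389), (11381, 9381), (11382, 9390), (11383, 9391), (11384, 12516), (11385, 9393),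 (11386, 11950), (11387, 12518), (11388, 13568), (11389, 11953), (11390, 11780), (11391, 9401)]
    ⟨e3 q11328 (flp_c L542663) q12499, e3 q11329 L267999 q9327, e3 q11330 (flp_c L615886) q12482, e3 q11331 (flp_c L389825) q13523, e3 q11332 (flp_c L542952) q12500, e3 q11333 L268029 q9330, e3 q11334 (flp_c L542513) q11924, e3 q11335 (flp_c L542652) q12501, e3 q11336 L268056 q9392, e3 q11337 (flp_c L542489) q11925, e3 q11338 (flp_c L553791) q11935, e3 q11339 L268075 q9395, e3 q11340 (flp_c L386435) q13378, e3 q11341 (flp_c L386454) q13380, e3 q11342 (flp_c L386472) q13382, e3 q11343 (flp_c L386489) q13384, e3 q11344 L390755 q13532, e3 q11345 (flp_c L268522) q9344, e3 q11346 (flp_c L390791) q13534, e3 q11347 L268555 q11347, e3 q11348 L268560 q9346, e3 q11349 L268596 q11349, e3 q11350 L268620 q11350, e3 q11351 (flp_c L387100) q13416, e3 q11352 L390993 q13541, e3 q11353 (flp_c L387114) q13418, e3 q11354 (flp_c L387122) q13419, e3 q11355 L391026 q13546, e3 q11356 (flp_c L387137) q13421, e3 q11357 (flp_c L268719) q9354, e3 q11358 (flp_c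 L391060) q13550, e3 q11359 (flp_c L391067) q13551, e3 q11360 (flp_c L268738) q9356, e3 q11361 (flp_c L391095) q13554, e3 q11362 L268762 q11362, e3 q11363 L268765 q9359, e3 q11364 L268780 q11364, e3 q11365 L268789 q11365, e3 q11366 L391156 q13558, e3 q11367 (flp_c L268815) q9363, e3 q11368 (flp_c L391188) q13560, e3 q11369 L268845 q11369, e3 q11370 L268848 q9365, e3 q11371 L268879 q11371, e3 q11372 L268899 q11372, e3 q11373 (flp_c L268943) q9369, e3 q11374 (flp_c L646554) q9377, e3 q11375 L268974 q9372, e3 q11376 L268982 q9373, e3 q11377 L269009 q9388, e3 q11378 L269033 q11378, e3 q11379 L269044 q9378, e3 q11380 L269058 q9389, e3 q11381 L269078 q9381, e3 q11382 L269089 q9390, e3 q11383 L269099 q9391, e3 q11384 (flp_c L542649) q12516, e3 q11385 L269113 q9393, e3 q11386 (flp_c L553787) q11950, e3 q11387 (flp_c L543068) q12518, e3 q11388 (flp_c L391547) q13568, e3 q11389 L648636 q11953, e3 q11390 L649313 q11780, e3 q11391 L269888 q9401, trivial⟩ (by decide +kernel)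

theorem ce_c_178 : ∀ r, r < 64 → sm gc (Qf (11392 + r)) = Qf (tab Gen.c (11392 + r)) :=
  edges_tab (sm gc) Qf (tab Gen.c) 11392 [(11392, 13572), (11393, 11393), (11394, 9405), (11395, 9406), (11396, 13575), (11397, 13576), (11398, 13103), (11399, 9596), (11400, 12757), (11401, 13100), (11402, 13101), (11403, 13102), (11404, 11767), (11405, 11768), (11406, 11836), (11407, 9431), (11408, 9420), (11409, 13584), (11410, 9434), (11411, 9435), (11412, 9423), (11413, 9424), (11414, 12169), (11415, 13588), (11416, 11761), (11417, 9427), (11418, 9428), (11419, 13592), (11420, 13593), (11421, 11824), (11422, 9430), (11423, 13596), (11424, 12088), (11425, 13583), (11426, 9433), (11427, 13585), (11428, 13586), (11429, 11429), (11430, 9439), (11431, 13603), (11432, 11994), (11433, 11995), (11434, 11859), (11435, 9446), (11436, 13607), (11437, 11437), (11438, 11438), (11439, 9449), (11440, 11440), (11441, 9451), (11442, 9452), (11443, 13614), (11444, 13615), (11445, 11445), (11446, 9456), (11447, 9457), (11448, 13619), (11449, 13620),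 (11450, 13254), (11451, 11451), (11452, 11452), (11453, 11453), (11454, 9461), (11455, 9462)]
    ⟨e3 q11392 (flp_c L649420) q13572, e3 q11393 L270061 q11393, e3 q11394 L270064 q9405, e3 q11395 L270070 q9406, e3 q11396 (flp_c L649445) q13575, e3 q11397 (flp_c L649452) q13576, e3 q11398 L648749 q13103, e3 q11399 (flp_c L607597) q9596, e3 q11400 (flp_c L621672) q12757, e3 q11401 (flp_c L381836) q13100, e3 q11402 (flp_c L381844) q13101, e3 q11403 (flp_c L381864) q13102, e3 q11404 (flp_c L648212) q11767, e3 q11405 L649311 q11768, e3 q11406 L648586 q11836, e3 q11407 L270275 q9431, e3 q11408 L270279 q9420, e3 q11409 (flp_c L649527) q13584, e3 q11410 L270293 q9434, e3 q11411 L270303 q9435, e3 q11412 L270310 q9423, e3 q11413 (flp_c L270336) q9424, e3 q11414 L649373 q12169, e3 q11415 (flp_c L649561) q13588, e3 q11416 (flp_c L649159) q11761, e3 q11417 L270371 q9427, e3 q11418 L270378 q9428, e3 q11419 (flp_c L649596) q13592, e3 q11420 (flp_c L649604) q13593, e3 q11421 L648652 q11824, e3 q11422 L270410 q9430, e3 q11423 (flp_c L649629)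 q13596, e3 q11424 (flp_c L649357) q12088, e3 q11425 (flp_c L649521) q13583, e3 q11426 L270443 q9433, e3 q11427 (flp_c L649536) q13585, e3 q11428 (flp_c L649545) q13586, e3 q11429 L270472 q11429, e3 q11430 L270930 q9439, e3 q11431 (flp_c L649689) q13603, e3 q11432 L649329 q11994, e3 q11433 L649323 q11995, e3 q11434 L649317 q11859, e3 q11435 L271146 q9446, e3 q11436 (flp_c L649725) q13607, e3 q11437 L271161 q11437, e3 q11438 L271170 q11438, e3 q11439 L271176 q9449, e3 q11440 L271260 q11440, e3 q11441 L271263 q9451, e3 q11442 L271269 q9452, e3 q11443 (flp_c L649777) q13614, e3 q11444 (flp_c L649784) q13615, e3 q11445 L271371 q11445, e3 q11446 L271374 q9456, e3 q11447 L271380 q9457, e3 q11448 (flp_c L649818) q13619, e3 q11449 (flp_c L649822) q13620, e3 q11450 L648239 q13254, e3 q11451 L271408 q11451, e3 q11452 L271416 q11452, e3 q11453 L271421 q11453, e3 q11454 L271427 q9461, e3 q11455 L271432 q9462, trivial⟩ (by decide +kernel)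

theorem ce_c_179 : ∀ r, r < 64 → sm gc (Qf (11456 + r)) = Qf (tab Gen.c (11456 + r)) :=
  edges_tab (sm gc) Qf (tab Gen.c) 11456 [(11456, 9463), (11457, 13629), (11458, 13630), (11459, 13631), (11460, 12812), (11461, 12814), (11462, 13250), (11463, 13251), (11464, 13252), (11465, 13253), (11466, 11954), (11467, 9488), (11468, 9475), (11469, 9476), (11470, 13643), (11471, 13644), (11472, 9493), (11473, 9478), (11474, 13647), (11475, 9496), (11476, 9497), (11477, 9481), (11478, 9499), (11479, 9500), (11480, 11480), (11481, 11932), (11482, 9487), (11483, 13655), (11484, 12468), (11485, 13640), (11486, 13641), (11487, 9491), (11488, 9492), (11489, 13660), (11490, 12251), (11491, 13646), (11492, 9495), (11493, 13648), (11494, 13649), (11495, 11495), (11496, 13651), (11497, 13669), (11498, 11498), (11499, 9502), (11500, 13673), (11501, 9504), (11502, 13676), (11503, 12864), (11504, 9507), (11505, 13680), (11506, 12867), (11507, 12868), (11508, 9510), (11509, 9511), (11510, 13685), (11511, 11511), (11512, 9514), (11513, 9515),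 (11514, 13690), (11515, 13691), (11516, 11516), (11517, 9517), (11518, 13694), (11519, 11519)]
    ⟨e3 q11456 L271438 q9463, e3 q11457 (flp_c L649887) q13629, e3 q11458 (flp_c L649892) q13630, e3 q11459 (flp_c L649899) q13631, e3 q11460 (flp_c L611449) q12812, e3 q11461 (flp_c L611479) q12814, e3 q11462 (flp_c L384099) q13250, e3 q11463 (flp_c L384109) q13251, e3 q11464 (flp_c L384127) q13252, e3 q11465 (flp_c L384135) q13253, e3 q11466 (flp_c L649321) q11954, e3 q11467 L271623 q9488, e3 q11468 L271627 q9475, e3 q11469 L271633 q9476, e3 q11470 (flp_c L649990) q13643, e3 q11471 (flp_c L649997) q13644, e3 q11472 L271661 q9493, e3 q11473 L271665 q9478, e3 q11474 (flp_c L650021) q13647, e3 q11475 L271679 q9496, e3 q11476 L271688 q9497, e3 q11477 L271694 q9481, e3 q11478 L271703 q9499, e3 q11479 L271710 q9500, e3 q11480 L271718 q11480, e3 q11481 (flp_c L649333) q11932, e3 q11482 L271763 q9487, e3 q11483 (flp_c L650079) q13655, e3 q11484 (flp_c L649377) q12468, e3 q11485 (flp_c L649970) q13640, e3 q11486 (flp_c L649978) q13641,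 e3 q11487 L271820 q9491, e3 q11488 L271828 q9492, e3 q11489 (flp_c L650120) q13660, e3 q11490 (flp_c L649361) q12251, e3 q11491 (flp_c L650015) q13646, e3 q11492 L271858 q9495, e3 q11493 (flp_c L650030) q13648, e3 q11494 (flp_c L650038) q13649, e3 q11495 L271884 q11495, e3 q11496 (flp_c L650053) q13651, e3 q11497 L650190 q13669, e3 q11498 L271903 q11498, e3 q11499 (flp_c L272301) q9502, e3 q11500 (flp_c L650221) q13673, e3 q11501 (flp_c L272326) q9504, e3 q11502 (flp_c L650249) q13676, e3 q11503 (flp_c L648412) q12864, e3 q11504 L272375 q9507, e3 q11505 (flp_c L650286) q13680, e3 q11506 (flp_c L648410) q12867, e3 q11507 (flp_c L648414) q12868, e3 q11508 L272451 q9510, e3 q11509 (flp_c L272625) q9511, e3 q11510 (flp_c L650335) q13685, e3 q11511 L272662 q11511, e3 q11512 L272667 q9514, e3 q11513 L272676 q9515, e3 q11514 (flp_c L650382) q13690, e3 q11515 (flp_c L650391) q13691, e3 q11516 L272707 q11516, e3 q11517 L272712 q9517, e3 q11518 (flp_c L650424) q13694, e3 q11519 L272730 q11519, trivial⟩ (by decide +kernel)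

theorem ce_c_180 : ∀ r, r < 64 → sm gc (Qf (11520 + r)) = Qf (tab Gen.c (11520 + r)) :=
  edges_tab (sm gc) Qf (tab Gen.c) 11520 [(11520, 11520), (11521, 9520), (11522, 11522), (11523, 11523), (11524, 11524), (11525, 9524), (11526, 13701), (11527, 11527), (11528, 9527), (11529, 9528), (11530, 13707), (11531, 13708), (11532, 13709), (11533, 11533), (11534, 9530), (11535, 9531), (11536, 13716), (11537, 13717), (11538, 13718), (11539, 11539), (11540, 11540), (11541, 11541), (11542, 9535), (11543, 9536), (11544, 9537), (11545, 13726), (11546, 13727), (11547, 13728), (11548, 11548), (11549, 11549), (11550, 11550), (11551, 11551), (11552, 11552), (11553, 9544), (11554, 9545), (11555, 9546), (11556, 11556), (11557, 13740), (11558, 13741), (11559, 13742), (11560, 13481), (11561, 13482), (11562, 13483), (11563, 13484), (11564, 13485), (11565, 9556), (11566, 9571), (11567, 9564), (11568, 13642), (11569, 9560), (11570, 9561), (11571, 9572), (11572, 9573), (11573, 11573), (11574, 9574), (11575, 11695), (11576, 11576), (11577, 11577),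 (11578, 11578), (11579, 11579), (11580, 11580), (11581, 11581), (11582, 11582), (11583, 11583)]
    ⟨e3 q11520 L272741 q11520, e3 q11521 L272748 q9520, e3 q11522 L272760 q11522, e3 q11523 L272767 q11523, e3 q11524 L272780 q11524, e3 q11525 (flp_c L272799) q9524, e3 q11526 (flp_c L650491) q13701, e3 q11527 L272831 q11527, e3 q11528 L272834 q9527, e3 q11529 L272840 q9528, e3 q11530 (flp_c L650549) q13707, e3 q11531 (flp_c L650556) q13708, e3 q11532 (flp_c L650563) q13709, e3 q11533 L272875 q11533, e3 q11534 L272878 q9530, e3 q11535 L272886 q9531, e3 q11536 (flp_c L650624) q13716, e3 q11537 (flp_c L650631) q13717, e3 q11538 (flp_c L650640) q13718, e3 q11539 L272921 q11539, e3 q11540 L272931 q11540, e3 q11541 L272939 q11541, e3 q11542 L272946 q9535, e3 q11543 L272951 q9536, e3 q11544 L272959 q9537, e3 q11545 (flp_c L650706) q13726, e3 q11546 (flp_c L650713) q13727, e3 q11547 (flp_c L650719) q13728, e3 q11548 L272991 q11548, e3 q11549 L272998 q11549, e3 q11550 L273007 q11550, e3 q11551 L273015 q11551, e3 q11552 L273023 q11552,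 e3 q11553 L273029 q9544, e3 q11554 L273035 q9545, e3 q11555 L273043 q9546, e3 q11556 L273054 q11556, e3 q11557 (flp_c L650817) q13740, e3 q11558 (flp_c L650824) q13741, e3 q11559 (flp_c L650831) q13742, e3 q11560 (flp_c L387550) q13481, e3 q11561 (flp_c L387557) q13482, e3 q11562 (flp_c L387576) q13483, e3 q11563 (flp_c L387584) q13484, e3 q11564 (flp_c L387606) q13485, e3 q11565 L273259 q9556, e3 q11566 L273286 q9571, e3 q11567 L646668 q9564, e3 q11568 (flp_c L649986) q13642, e3 q11569 L273316 q9560, e3 q11570 L273323 q9561, e3 q11571 L273341 q9572, e3 q11572 L273370 q9573, e3 q11573 L273390 q11573, e3 q11574 L273395 q9574, e3 q11575 (flp_c L648560) q11695, e3 q11576 L273411 q11576, e3 q11577 L273737 q11577, e3 q11578 L273779 q11578, e3 q11579 L273790 q11579, e3 q11580 L273796 q11580, e3 q11581 L273806 q11581, e3 q11582 L273875 q11582, e3 q11583 L273884 q11583, trivial⟩ (by decide +kernel)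

theorem ce_c_181 : ∀ r, r < 64 → sm gc (Qf (11584 + r)) = Qf (tab Gen.c (11584 + r)) :=
  edges_tab (sm gc) Qf (tab Gen.c) 11584 [(11584, 11584), (11585, 11716), (11586, 11586), (11587, 11587), (11588, 11588), (11589, 11589), (11590, 11590), (11591, 12755), (11592, 11687), (11593, 11593), (11594, 11594), (11595, 11595), (11596, 11596), (11597, 11597), (11598, 9675), (11599, 12394), (11600, 9690), (11601, 11601), (11602, 12412), (11603, 11603), (11604, 11604), (11605, 11605), (11606, 9693), (11607, 9696), (11608, 9617), (11609, 12496), (11610, 11610), (11611, 11611), (11612, 11612), (11613, 11613), (11614, 9701), (11615, 11615), (11616, 11616), (11617, 13055), (11618, 11618), (11619, 12738), (11620, 11875), (11621, 12737), (11622, 9710), (11623, 9711), (11624, 9670), (11625, 9671), (11626, 9672), (11627, 9674), (11628, 9677), (11629, 9679), (11630, 9648), (11631, 13773), (11632, 9651), (11633, 9689), (11634, 9691), (11635, 9692), (11636, 13776), (11637, 9695), (11638, 11638), (11639, 11639), (11640, 11640), (11641, 11641),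 (11642, 11642), (11643, 11643), (11644, 9712), (11645, 9713), (11646, 13375), (11647, 13769)]
    ⟨e3 q11584 L273892 q11584, e3 q11585 L648495 q11716, e3 q11586 L273906 q11586, e3 q11587 L274061 q11587, e3 q11588 L274135 q11588, e3 q11589 L275035 q11589, e3 q11590 L281653 q11590, e3 q11591 (flp_c L648769) q12755, e3 q11592 (flp_c L648220) q11687, e3 q11593 L284053 q11593, e3 q11594 L284076 q11594, e3 q11595 L286061 q11595, e3 q11596 L286069 q11596, e3 q11597 L286085 q11597, e3 q11598 L615183 q9675, e3 q11599 L648191 q12394, e3 q11600 L615048 q9690, e3 q11601 L286939 q11601, e3 q11602 L648390 q12412, e3 q11603 L287322 q11603, e3 q11604 L287357 q11604, e3 q11605 L287374 q11605, e3 q11606 L615041 q9693, e3 q11607 L615035 q9696, e3 q11608 L287413 q9617, e3 q11609 (flp_c L648515) q12496, e3 q11610 L287633 q11610, e3 q11611 L287656 q11611, e3 q11612 L288234 q11612, e3 q11613 L288810 q11613, e3 q11614 L289315 q9701, e3 q11615 L289870 q11615, e3 q11616 L290182 q11616, e3 q11617 L648915 q13055, e3 q11618 L290947 q11618, e3 q11619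 L648937 q12738, e3 q11620 L648939 q11875, e3 q11621 L649081 q12737, e3 q11622 L291618 q9710, e3 q11623 L291642 q9711, e3 q11624 L292263 q9670, e3 q11625 L292272 q9671, e3 q11626 L292289 q9672, e3 q11627 L292686 q9674, e3 q11628 L292718 q9677, e3 q11629 L292734 q9679, e3 q11630 (flp_c L292741) q9648, e3 q11631 (flp_c L651108) q13773, e3 q11632 L292778 q9651, e3 q11633 L293754 q9689, e3 q11634 L293793 q9691, e3 q11635 L293812 q9692, e3 q11636 L651134 q13776, e3 q11637 L294132 q9695, e3 q11638 L294194 q11638, e3 q11639 L294199 q11639, e3 q11640 L294213 q11640, e3 q11641 L294219 q11641, e3 q11642 L294303 q11642, e3 q11643 L294324 q11643, e3 q11644 L294351 q9712, e3 q11645 L294373 q9713, e3 q11646 L648702 q13375, e3 q11647 (flp_c L651062) q13769, trivial⟩ (by decide +kernel)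

theorem ce_c_182 : ∀ r, r < 64 → sm gc (Qf (11648 + r)) = Qf (tab Gen.c (11648 + r)) :=
  edges_tab (sm gc) Qf (tab Gen.c) 11648 [(11648, 13770), (11649, 12912), (11650, 12460), (11651, 13772), (11652, 13761), (11653, 12406), (11654, 12405), (11655, 9681), (11656, 11656), (11657, 9688), (11658, 12410), (11659, 12409), (11660, 13788), (11661, 13775), (11662, 13762), (11663, 13790), (11664, 13764), (11665, 9694), (11666, 13793), (11667, 11720), (11668, 11721), (11669, 11771), (11670, 12734), (11671, 11727), (11672, 13613), (11673, 11726), (11674, 12733), (11675, 11844), (11676, 13768), (11677, 13783), (11678, 9838), (11679, 9839), (11680, 9884), (11681, 9885), (11682, 9902), (11683, 9903), (11684, 9904), (11685, 9905), (11686, 9906), (11687, 11592), (11688, 9737), (11689, 10300), (11690, 13810), (11691, 9976), (11692, 9977), (11693, 9978), (11694, 9979), (11695, 11575), (11696, 10003), (11697, 10004), (11698, 10005), (11699, 10006), (11700, 10007), (11701, 10008), (11702, 10009), (11703, 10010), (11704, 9754), (11705, 13829),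 (11706, 9765), (11707, 9757), (11708, 13832), (11709, 9759), (11710, 13834), (11711, 9761)]
    ⟨e3 q11648 (flp_c L651079) q13770, e3 q11649 (flp_c L648485) q12912, e3 q11650 (flp_c L649391) q12460, e3 q11651 (flp_c L651095) q13772, e3 q11652 (flp_c L650979) q13761, e3 q11653 L648907 q12406, e3 q11654 L648817 q12405, e3 q11655 L295220 q9681, e3 q11656 L295257 q11656, e3 q11657 L295632 q9688, e3 q11658 (flp_c L648865) q12410, e3 q11659 (flp_c L648869) q12409, e3 q11660 L651213 q13788, e3 q11661 (flp_c L651129) q13775, e3 q11662 (flp_c L650997) q13762, e3 q11663 L651228 q13790, e3 q11664 (flp_c L651023) q13764, e3 q11665 (flp_c L295780) q9694, e3 q11666 (flp_c L651250) q13793, e3 q11667 L648811 q11720, e3 q11668 L648248 q11721, e3 q11669 L648803 q11771, e3 q11670 (flp_c L648959) q12734, e3 q11671 L648440 q11727, e3 q11672 (flp_c L649772) q13613, e3 q11673 L649195 q11726, e3 q11674 L648477 q12733, e3 q11675 (flp_c L648919) q11844, e3 q11676 (flp_c L651050) q13768, e3 q11677 (flp_c L651178) q13783, e3 q11678 L350807 q9838, e3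 q11679 L350817 q9839, e3 q11680 L351072 q9884, e3 q11681 L351082 q9885, e3 q11682 L351237 q9902, e3 q11683 L351243 q9903, e3 q11684 L351252 q9904, e3 q11685 L351259 q9905, e3 q11686 L351269 q9906, e3 q11687 L648220 q11592, e3 q11688 (flp_c L351496) q9737, e3 q11689 L526636 q10300, e3 q11690 (flp_c L651446) q13810, e3 q11691 L351621 q9976, e3 q11692 L351632 q9977, e3 q11693 L351641 q9978, e3 q11694 L351651 q9979, e3 q11695 L648560 q11575, e3 q11696 L351854 q10003, e3 q11697 L351862 q10004, e3 q11698 L351871 q10005, e3 q11699 L351880 q10006, e3 q11700 L351888 q10007, e3 q11701 L351898 q10008, e3 q11702 L351905 q10009, e3 q11703 L351914 q10010, e3 q11704 (flp_c L351972) q9754, e3 q11705 (flp_c L651687) q13829, e3 q11706 L351996 q9765, e3 q11707 L352000 q9757, e3 q11708 (flp_c L651733) q13832, e3 q11709 (flp_c L352041) q9759, e3 q11710 (flp_c L651758) q13834, e3 q11711 (flp_c L352064) q9761, trivial⟩ (by decide +kernel)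

theorem ce_c_183 : ∀ r, r < 64 → sm gc (Qf (11712 + r)) = Qf (tab Gen.c (11712 + r)) :=
  edges_tab (sm gc) Qf (tab Gen.c) 11712 [(11712, 13837), (11713, 13828), (11714, 9764), (11715, 13841), (11716, 11585), (11717, 13831), (11718, 9767), (11719, 9773), (11720, 11667), (11721, 11668), (11722, 9781), (11723, 9849), (11724, 9785), (11725, 13847), (11726, 11673), (11727, 11671), (11728, 13851), (11729, 11729), (11730, 11730), (11731, 10135), (11732, 10085), (11733, 10615), (11734, 9892), (11735, 9798), (11736, 9799), (11737, 13853), (11738, 10612), (11739, 10643), (11740, 9809), (11741, 9810), (11742, 9811), (11743, 9812), (11744, 11744), (11745, 9813), (11746, 11746), (11747, 13856), (11748, 13857), (11749, 13858), (11750, 13869), (11751, 13860), (11752, 13861), (11753, 13863), (11754, 10087), (11755, 10089), (11756, 10136), (11757, 10092), (11758, 11758), (11759, 11759), (11760, 11760), (11761, 11416), (11762, 11762), (11763, 10606), (11764, 9828), (11765, 9829), (11766, 9830), (11767, 11404), (11768, 11405), (11769, 13854),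 (11770, 13876), (11771, 11669), (11772, 10645), (11773, 9840), (11774, 9841), (11775, 9842)]
    ⟨e3 q11712 (flp_c L651798) q13837, e3 q11713 (flp_c L651681) q13828, e3 q11714 L352095 q9764, e3 q11715 (flp_c L651845) q13841, e3 q11716 (flp_c L648495) q11585, e3 q11717 (flp_c L651721) q13831, e3 q11718 L352132 q9767, e3 q11719 L352609 q9773, e3 q11720 (flp_c L648811) q11667, e3 q11721 (flp_c L648248) q11668, e3 q11722 L352891 q9781, e3 q11723 L353201 q9849, e3 q11724 L353207 q9785, e3 q11725 (flp_c L651922) q13847, e3 q11726 (flp_c L649195) q11673, e3 q11727 (flp_c L648440) q11671, e3 q11728 L651992 q13851, e3 q11729 L353339 q11729, e3 q11730 L353350 q11730, e3 q11731 L632061 q10135, e3 q11732 L632053 q10085, e3 q11733 L645031 q10615, e3 q11734 L353588 q9892, e3 q11735 L353604 q9798, e3 q11736 L353612 q9799, e3 q11737 (flp_c L652034) q13853, e3 q11738 L644436 q10612, e3 q11739 L621598 q10643, e3 q11740 L353989 q9809, e3 q11741 L353999 q9810, e3 q11742 L354011 q9811, e3 q11743 L354023 q9812, e3 q11744 L354036 q11744, e3 q11745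 L354042 q9813, e3 q11746 L354065 q11746, e3 q11747 (flp_c L652087) q13856, e3 q11748 (flp_c L652106) q13857, e3 q11749 (flp_c L652124) q13858, e3 q11750 L652275 q13869, e3 q11751 (flp_c L652148) q13860, e3 q11752 (flp_c L652164) q13861, e3 q11753 (flp_c L652190) q13863, e3 q11754 L354162 q10087, e3 q11755 L354179 q10089, e3 q11756 L631987 q10136, e3 q11757 L354210 q10092, e3 q11758 L354226 q11758, e3 q11759 L354237 q11759, e3 q11760 L354246 q11760, e3 q11761 L649159 q11416, e3 q11762 L354267 q11762, e3 q11763 (flp_c L636090) q10606, e3 q11764 L354286 q9828, e3 q11765 L354294 q9829, e3 q11766 L354334 q9830, e3 q11767 L648212 q11404, e3 q11768 (flp_c L649311) q11405, e3 q11769 (flp_c L652053) q13854, e3 q11770 (flp_c L652395) q13876, e3 q11771 (flp_c L648803) q11669, e3 q11772 (flp_c L640451) q10645, e3 q11773 L354443 q9840, e3 q11774 L354452 q9841, e3 q11775 L354462 q9842, trivial⟩ (by decide +kernel)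

theorem ce_c_184 : ∀ r, r < 64 → sm gc (Qf (11776 + r)) = Qf (tab Gen.c (11776 + r)) :=
  edges_tab (sm gc) Qf (tab Gen.c) 11776 [(11776, 13886), (11777, 9844), (11778, 9845), (11779, 10935), (11780, 11390), (11781, 13798), (11782, 13799), (11783, 13800), (11784, 13885), (11785, 9843), (11786, 13895), (11787, 13845), (11788, 13846), (11789, 9857), (11790, 9858), (11791, 9859), (11792, 13906), (11793, 9861), (11794, 9862), (11795, 11795), (11796, 9863), (11797, 11797), (11798, 11798), (11799, 11799), (11800, 13901), (11801, 13902), (11802, 13903), (11803, 13921), (11804, 13905), (11805, 9860), (11806, 13924), (11807, 13910), (11808, 10214), (11809, 10215), (11810, 10286), (11811, 10217), (11812, 10968), (11813, 10219), (11814, 9867), (11815, 13929), (11816, 13923), (11817, 9870), (11818, 13932), (11819, 10626), (11820, 11820), (11821, 11821), (11822, 11822), (11823, 11823), (11824, 11421), (11825, 11825), (11826, 9875), (11827, 13942), (11828, 10617), (11829, 9886), (11830, 9887), (11831, 9888), (11832, 10711), (11833, 9890),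 (11834, 9891), (11835, 10961), (11836, 11406), (11837, 13801), (11838, 13802), (11839, 13803)]
    ⟨e3 q11776 L652536 q13886, e3 q11777 L354480 q9844, e3 q11778 L354511 q9845, e3 q11779 L648161 q10935, e3 q11780 (flp_c L649313) q11390, e3 q11781 (flp_c L651290) q13798, e3 q11782 (flp_c L651303) q13799, e3 q11783 (flp_c L651316) q13800, e3 q11784 (flp_c L652528) q13885, e3 q11785 (flp_c L354601) q9843, e3 q11786 (flp_c L652654) q13895, e3 q11787 (flp_c L651886) q13845, e3 q11788 (flp_c L651904) q13846, e3 q11789 L354952 q9857, e3 q11790 L354964 q9858, e3 q11791 L354974 q9859, e3 q11792 L652797 q13906, e3 q11793 L354990 q9861, e3 q11794 L355002 q9862, e3 q11795 L355016 q11795, e3 q11796 L355022 q9863, e3 q11797 L355034 q11797, e3 q11798 L355040 q11798, e3 q11799 L355068 q11799, e3 q11800 (flp_c L652741) q13901, e3 q11801 (flp_c L652755) q13902, e3 q11802 (flp_c L652769) q13903, e3 q11803 L652998 q13921, e3 q11804 (flp_c L652789) q13905, e3 q11805 (flp_c L355119) q9860, e3 q11806 (flp_c L653039) q13924, e3 q11807 (flp_c L652843)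 q13910, e3 q11808 L355147 q10214, e3 q11809 L355158 q10215, e3 q11810 L644245 q10286, e3 q11811 L355176 q10217, e3 q11812 L648980 q10968, e3 q11813 L355195 q10219, e3 q11814 (flp_c L355203) q9867, e3 q11815 (flp_c L653111) q13929, e3 q11816 (flp_c L653033) q13923, e3 q11817 L355229 q9870, e3 q11818 (flp_c L653150) q13932, e3 q11819 (flp_c L641106) q10626, e3 q11820 L355259 q11820, e3 q11821 L355268 q11821, e3 q11822 L355279 q11822, e3 q11823 L355289 q11823, e3 q11824 (flp_c L648652) q11421, e3 q11825 L355309 q11825, e3 q11826 (flp_c L355312) q9875, e3 q11827 (flp_c L653302) q13942, e3 q11828 L640390 q10617, e3 q11829 L355359 q9886, e3 q11830 L355369 q9887, e3 q11831 L355377 q9888, e3 q11832 L649163 q10711, e3 q11833 L355393 q9890, e3 q11834 L355422 q9891, e3 q11835 L635746 q10961, e3 q11836 (flp_c L648586) q11406, e3 q11837 (flp_c L651331) q13801, e3 q11838 (flp_c L651345) q13802, e3 q11839 (flp_c L651360) q13803, trivial⟩ (by decide +kernel)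

theorem ce_c_185 : ∀ r, r < 64 → sm gc (Qf (11840 + r)) = Qf (tab Gen.c (11840 + r)) :=
  edges_tab (sm gc) Qf (tab Gen.c) 11840 [(11840, 13946), (11841, 13947), (11842, 13949), (11843, 10712), (11844, 11675), (11845, 13852), (11846, 10705), (11847, 10695), (11848, 10707), (11849, 9907), (11850, 9908), (11851, 9909), (11852, 13974), (11853, 9911), (11854, 9897), (11855, 13978), (11856, 13979), (11857, 9914), (11858, 11050), (11859, 11434), (11860, 13804), (11861, 13805), (11862, 13806), (11863, 13807), (11864, 13808), (11865, 13809), (11866, 13968), (11867, 13969), (11868, 13993), (11869, 13971), (11870, 13973), (11871, 9910), (11872, 13995), (11873, 9921), (11874, 9913), (11875, 11620), (11876, 10288), (11877, 11025), (11878, 11032), (11879, 13996), (11880, 11880), (11881, 11881), (11882, 11882), (11883, 14004), (11884, 11884), (11885, 9937), (11886, 9938), (11887, 9939), (11888, 14013), (11889, 9941), (11890, 9929), (11891, 14017), (11892, 14018), (11893, 11893), (11894, 9944), (11895, 11895), (11896, 11896), (11897, 11897),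 (11898, 11898), (11899, 14007), (11900, 14008), (11901, 14030), (11902, 14010), (11903, 14033)]
    ⟨e3 q11840 (flp_c L653363) q13946, e3 q11841 (flp_c L653377) q13947, e3 q11842 (flp_c L653405) q13949, e3 q11843 L630863 q10712, e3 q11844 L648919 q11675, e3 q11845 (flp_c L652016) q13852, e3 q11846 L640460 q10705, e3 q11847 L640465 q10695, e3 q11848 L640441 q10707, e3 q11849 L355575 q9907, e3 q11850 L355585 q9908, e3 q11851 L355597 q9909, e3 q11852 L653727 q13974, e3 q11853 L355613 q9911, e3 q11854 (flp_c L355619) q9897, e3 q11855 (flp_c L653789) q13978, e3 q11856 (flp_c L653803) q13979, e3 q11857 L355652 q9914, e3 q11858 L648111 q11050, e3 q11859 (flp_c L649317) q11434, e3 q11860 (flp_c L651375) q13804, e3 q11861 (flp_c L651389) q13805, e3 q11862 (flp_c L651404) q13806, e3 q11863 (flp_c L651417) q13807, e3 q11864 (flp_c L651426) q13808, e3 q11865 (flp_c L651434) q13809, e3 q11866 (flp_c L653655) q13968, e3 q11867 (flp_c L653671) q13969, e3 q11868 L653935 q13993, e3 q11869 (flp_c L653691) q13971, e3 q11870 (flp_c L653719)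 q13973, e3 q11871 (flp_c L355771) q9910, e3 q11872 (flp_c L653975) q13995, e3 q11873 L355787 q9921, e3 q11874 L355791 q9913, e3 q11875 (flp_c L648939) q11620, e3 q11876 L355822 q10288, e3 q11877 L635102 q11025, e3 q11878 L637471 q11032, e3 q11879 (flp_c L653991) q13996, e3 q11880 L356241 q11880, e3 q11881 L356252 q11881, e3 q11882 L356263 q11882, e3 q11883 L654093 q14004, e3 q11884 L356280 q11884, e3 q11885 L356291 q9937, e3 q11886 L356301 q9938, e3 q11887 L356311 q9939, e3 q11888 L654205 q14013, e3 q11889 L356328 q9941, e3 q11890 (flp_c L356336) q9929, e3 q11891 (flp_c L654254) q14017, e3 q11892 (flp_c L654266) q14018, e3 q11893 L356366 q11893, e3 q11894 L356372 q9944, e3 q11895 L356383 q11895, e3 q11896 L356391 q11896, e3 q11897 L356409 q11897, e3 q11898 L356417 q11898, e3 q11899 (flp_c L654138) q14007, e3 q11900 (flp_c L654151) q14008, e3 q11901 L654408 q14030, e3 q11902 (flp_c L654173) q14010, e3 q11903 L654443 q14033, trivial⟩ (by decide +kernel)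

theorem ce_c_186 : ∀ r, r < 64 → sm gc (Qf (11904 + r)) = Qf (tab Gen.c (11904 + r)) :=
  edges_tab (sm gc) Qf (tab Gen.c) 11904 [(11904, 14012), (11905, 9940), (11906, 14036), (11907, 9953), (11908, 9943), (11909, 14040), (11910, 10386), (11911, 14042), (11912, 10388), (11913, 9947), (11914, 14045), (11915, 14046), (11916, 9949), (11917, 14049), (11918, 14035), (11919, 9952), (11920, 14052), (11921, 14038), (11922, 14039), (11923, 9955), (11924, 11334), (11925, 11337), (11926, 11926), (11927, 11927), (11928, 11928), (11929, 14066), (11930, 11930), (11931, 11931), (11932, 11481), (11933, 11933), (11934, 9961), (11935, 11338), (11936, 14072), (11937, 9964), (11938, 14075), (11939, 11939), (11940, 11940), (11941, 11941), (11942, 14082), (11943, 11943), (11944, 9980), (11945, 9981), (11946, 9982), (11947, 14091), (11948, 9984), (11949, 9970), (11950, 11386), (11951, 14094), (11952, 9987), (11953, 11389), (11954, 11466), (11955, 10601), (11956, 11307), (11957, 13813), (11958, 13814), (11959, 13815), (11960, 13816), (11961, 14085),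 (11962, 14086), (11963, 14109), (11964, 14088), (11965, 14090), (11966, 9983), (11967, 14111)]
    ⟨e3 q11904 (flp_c L654196) q14012, e3 q11905 (flp_c L356508) q9940, e3 q11906 (flp_c L654482) q14036, e3 q11907 L356530 q9953, e3 q11908 L356534 q9943, e3 q11909 (flp_c L654528) q14040, e3 q11910 L356554 q10386, e3 q11911 L654551 q14042, e3 q11912 L356572 q10388, e3 q11913 (flp_c L356580) q9947, e3 q11914 (flp_c L654596) q14045, e3 q11915 (flp_c L654609) q14046, e3 q11916 (flp_c L356606) q9949, e3 q11917 (flp_c L654644) q14049, e3 q11918 (flp_c L654474) q14035, e3 q11919 L356636 q9952, e3 q11920 (flp_c L654678) q14052, e3 q11921 (flp_c L654501) q14038, e3 q11922 (flp_c L654518) q14039, e3 q11923 L356675 q9955, e3 q11924 L542513 q11334, e3 q11925 L542489 q11337, e3 q11926 L356717 q11926, e3 q11927 L356726 q11927, e3 q11928 L356736 q11928, e3 q11929 L654842 q14066, e3 q11930 L356756 q11930, e3 q11931 L356768 q11931, e3 q11932 L649333 q11481, e3 q11933 L356787 q11933, e3 q11934 (flp_c L356790) q9961, e3 q11935 L553791 q11338, e3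 q11936 (flp_c L654933) q14072, e3 q11937 L356830 q9964, e3 q11938 (flp_c L654972) q14075, e3 q11939 L356867 q11939, e3 q11940 L356876 q11940, e3 q11941 L356885 q11941, e3 q11942 L655039 q14082, e3 q11943 L356902 q11943, e3 q11944 L356911 q9980, e3 q11945 L356919 q9981, e3 q11946 L356929 q9982, e3 q11947 L655143 q14091, e3 q11948 L356946 q9984, e3 q11949 (flp_c L356952) q9970, e3 q11950 L553787 q11386, e3 q11951 (flp_c L655183) q14094, e3 q11952 L356989 q9987, e3 q11953 (flp_c L648636) q11389, e3 q11954 L649321 q11466, e3 q11955 L503121 q10601, e3 q11956 L553761 q11307, e3 q11957 (flp_c L651489) q13813, e3 q11958 (flp_c L651506) q13814, e3 q11959 (flp_c L651518) q13815, e3 q11960 (flp_c L651530) q13816, e3 q11961 (flp_c L655080) q14085, e3 q11962 (flp_c L655091) q14086, e3 q11963 L655360 q14109, e3 q11964 (flp_c L655111) q14088, e3 q11965 (flp_c L655134) q14090, e3 q11966 (flp_c L357112) q9983, e3 q11967 (flp_c L655396) q14111, trivial⟩ (by decide +kernel)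

theorem ce_c_187 : ∀ r, r < 64 → sm gc (Qf (11968 + r)) = Qf (tab Gen.c (11968 + r)) :=
  edges_tab (sm gc) Qf (tab Gen.c) 11968 [(11968, 9986), (11969, 14113), (11970, 11970), (11971, 11971), (11972, 11972), (11973, 11973), (11974, 14122), (11975, 11975), (11976, 9991), (11977, 14126), (11978, 14127), (11979, 10011), (11980, 10012), (11981, 14134), (11982, 10014), (11983, 14137), (11984, 10016), (11985, 9996), (11986, 14141), (11987, 14142), (11988, 10456), (11989, 9999), (11990, 10000), (11991, 14149), (11992, 14150), (11993, 14151), (11994, 11432), (11995, 11433), (11996, 13818), (11997, 13819), (11998, 13820), (11999, 13821), (12000, 13822), (12001, 13823), (12002, 13824), (12003, 13825), (12004, 13826), (12005, 14131), (12006, 14168), (12007, 14133), (12008, 10013), (12009, 14171), (12010, 14172), (12011, 10015), (12012, 14176), (12013, 10030), (12014, 10018), (12015, 14180), (12016, 10033), (12017, 10034), (12018, 10021), (12019, 10488), (12020, 10023), (12021, 14185), (12022, 14170), (12023, 10026), (12024, 10027),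 (12025, 14190), (12026, 14191), (12027, 14175), (12028, 10029), (12029, 14195), (12030, 14178), (12031, 14179)]
    ⟨e3 q11968 L357139 q9986, e3 q11969 (flp_c L655424) q14113, e3 q11970 L357157 q11970, e3 q11971 L357165 q11971, e3 q11972 L357174 q11972, e3 q11973 L357183 q11973, e3 q11974 L655512 q14122, e3 q11975 L357200 q11975, e3 q11976 (flp_c L357204) q9991, e3 q11977 (flp_c L655556) q14126, e3 q11978 (flp_c L655567) q14127, e3 q11979 L357233 q10011, e3 q11980 L357242 q10012, e3 q11981 L655633 q14134, e3 q11982 L357260 q10014, e3 q11983 L655657 q14137, e3 q11984 L357277 q10016, e3 q11985 (flp_c L357284) q9996, e3 q11986 (flp_c L655702) q14141, e3 q11987 (flp_c L655712) q14142, e3 q11988 L357313 q10456, e3 q11989 L357317 q9999, e3 q11990 L357322 q10000, e3 q11991 (flp_c L655787) q14149, e3 q11992 (flp_c L655800) q14150, e3 q11993 (flp_c L655809) q14151, e3 q11994 (flp_c L649329) q11432, e3 q11995 (flp_c L649323) q11433, e3 q11996 (flp_c L651556) q13818, e3 q11997 (flp_c L651570) q13819, e3 q11998 (flp_c L651585) q13820,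 e3 q11999 (flp_c L651600) q13821, e3 q12000 (flp_c L651612) q13822, e3 q12001 (flp_c L651626) q13823, e3 q12002 (flp_c L651637) q13824, e3 q12003 (flp_c L651645) q13825, e3 q12004 (flp_c L651653) q13826, e3 q12005 (flp_c L655608) q14131, e3 q12006 L655959 q14168, e3 q12007 (flp_c L655627) q14133, e3 q12008 (flp_c L357473) q10013, e3 q12009 (flp_c L655997) q14171, e3 q12010 (flp_c L656008) q14172, e3 q12011 (flp_c L357497) q10015, e3 q12012 (flp_c L656053) q14176, e3 q12013 L357517 q10030, e3 q12014 L357521 q10018, e3 q12015 (flp_c L656093) q14180, e3 q12016 L357534 q10033, e3 q12017 L357544 q10034, e3 q12018 L357551 q10021, e3 q12019 L357569 q10488, e3 q12020 (flp_c L357576) q10023, e3 q12021 (flp_c L656141) q14185, e3 q12022 (flp_c L655991) q14170, e3 q12023 L357613 q10026, e3 q12024 L357621 q10027, e3 q12025 (flp_c L656197) q14190, e3 q12026 (flp_c L656212) q14191, e3 q12027 (flp_c L656047) q14175, e3 q12028 L357655 q10029, e3 q12029 (flp_c L656254) q14195, e3 q12030 (flp_c L656074) q14178, e3 q12031 (flp_c L656087) q14179,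 trivial⟩ (by decide +kernel)

theorem ce_c_188 : ∀ r, r < 64 → sm gc (Qf (12032 + r)) = Qf (tab Gen.c (12032 + r)) :=
  edges_tab (sm gc) Qf (tab Gen.c) 12032 [(12032, 10032), (12033, 14181), (12034, 14182), (12035, 14055), (12036, 12036), (12037, 10041), (12038, 10062), (12039, 10042), (12040, 10049), (12041, 10047), (12042, 14204), (12043, 10074), (12044, 10050), (12045, 10076), (12046, 10077), (12047, 14213), (12048, 14208), (12049, 10148), (12050, 14207), (12051, 12051), (12052, 10970), (12053, 12053), (12054, 10053), (12055, 14220), (12056, 12056), (12057, 12057), (12058, 12058), (12059, 12059), (12060, 12060), (12061, 12061), (12062, 10064), (12063, 10065), (12064, 10066), (12065, 10067), (12066, 14203), (12067, 10068), (12068, 14205), (12069, 14229), (12070, 14230), (12071, 14231), (12072, 14243), (12073, 14233), (12074, 14234), (12075, 14235), (12076, 12076), (12077, 12077), (12078, 10078), (12079, 10079), (12080, 10080), (12081, 14255), (12082, 10082), (12083, 10083), (12084, 14206), (12085, 10084), (12086, 14209),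 (12087, 14210), (12088, 11424), (12089, 14211), (12090, 14212), (12091, 14250), (12092, 14251), (12093, 14252), (12094, 14236), (12095, 14254)]
    ⟨e3 q12032 L357688 q10032, e3 q12033 (flp_c L656104) q14181, e3 q12034 (flp_c L656115) q14182, e3 q12035 (flp_c L654713) q14055, e3 q12036 L357735 q12036, e3 q12037 L357763 q10041, e3 q12038 L357776 q10062, e3 q12039 L357783 q10042, e3 q12040 L614094 q10049, e3 q12041 L614063 q10047, e3 q12042 (flp_c L656348) q14204, e3 q12043 L357894 q10074, e3 q12044 L357900 q10050, e3 q12045 L357910 q10076, e3 q12046 L357920 q10077, e3 q12047 L656473 q14213, e3 q12048 (flp_c L656409) q14208, e3 q12049 L614280 q10148, e3 q12050 (flp_c L656394) q14207, e3 q12051 L358014 q12051, e3 q12052 L637390 q10970, e3 q12053 L358032 q12053, e3 q12054 (flp_c L358038) q10053, e3 q12055 (flp_c L656574) q14220, e3 q12056 L358061 q12056, e3 q12057 L358074 q12057, e3 q12058 L358085 q12058, e3 q12059 L358094 q12059, e3 q12060 L358111 q12060, e3 q12061 L358129 q12061, e3 q12062 L358135 q10064, e3 q12063 L358145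 q10065, e3 q12064 L358157 q10066, e3 q12065 L358169 q10067, e3 q12066 (flp_c L656337) q14203, e3 q12067 L358187 q10068, e3 q12068 (flp_c L656365) q14205, e3 q12069 (flp_c L656690) q14229, e3 q12070 (flp_c L656703) q14230, e3 q12071 (flp_c L656715) q14231, e3 q12072 L656849 q14243, e3 q12073 (flp_c L656733) q14233, e3 q12074 (flp_c L656747) q14234, e3 q12075 (flp_c L656760) q14235, e3 q12076 L358291 q12076, e3 q12077 L358299 q12077, e3 q12078 L358307 q10078, e3 q12079 L358316 q10079, e3 q12080 L358326 q10080, e3 q12081 L656981 q14255, e3 q12082 L358340 q10082, e3 q12083 L358352 q10083, e3 q12084 (flp_c L656384) q14206, e3 q12085 L358367 q10084, e3 q12086 (flp_c L656426) q14209, e3 q12087 (flp_c L656440) q14210, e3 q12088 L649357 q11424, e3 q12089 (flp_c L656453) q14211, e3 q12090 (flp_c L656466) q14212, e3 q12091 (flp_c L656937) q14250, e3 q12092 (flp_c L656950) q14251, e3 q12093 (flp_c L656959) q14252, e3 q12094 (flp_c L656773) q14236, e3 q12095 (flp_c L656973) q14254, trivial⟩ (by decide +kernel)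

theorem ce_c_189 : ∀ r, r < 64 → sm gc (Qf (12096 + r)) = Qf (tab Gen.c (12096 + r)) :=
  edges_tab (sm gc) Qf (tab Gen.c) 12096 [(12096, 10081), (12097, 14273), (12098, 14259), (12099, 10623), (12100, 10667), (12101, 10668), (12102, 10969), (12103, 10687), (12104, 10971), (12105, 14272), (12106, 10091), (12107, 14279), (12108, 10902), (12109, 12109), (12110, 12110), (12111, 12111), (12112, 12112), (12113, 12113), (12114, 12114), (12115, 12115), (12116, 10105), (12117, 10106), (12118, 10107), (12119, 14295), (12120, 10109), (12121, 10110), (12122, 12122), (12123, 10111), (12124, 12124), (12125, 12125), (12126, 12126), (12127, 14290), (12128, 14291), (12129, 14292), (12130, 14306), (12131, 14294), (12132, 10108), (12133, 14309), (12134, 14298), (12135, 12135), (12136, 12136), (12137, 12137), (12138, 14316), (12139, 12139), (12140, 10127), (12141, 10128), (12142, 10129), (12143, 14324), (12144, 10131), (12145, 10117), (12146, 14328), (12147, 14329), (12148, 10134), (12149, 12149), (12150, 12150), (12151, 12151), (12152, 12152),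 (12153, 12153), (12154, 12154), (12155, 12155), (12156, 12156), (12157, 14319), (12158, 14321), (12159, 14323)]
    ⟨e3 q12096 (flp_c L358457) q10081, e3 q12097 (flp_c L657185) q14273, e3 q12098 (flp_c L657021) q14259, e3 q12099 L641072 q10623, e3 q12100 L640304 q10667, e3 q12101 L640296 q10668, e3 q12102 L637358 q10969, e3 q12103 L632129 q10687, e3 q12104 L637353 q10971, e3 q12105 (flp_c L657181) q14272, e3 q12106 L358564 q10091, e3 q12107 (flp_c L657258) q14279, e3 q12108 L611916 q10902, e3 q12109 L358593 q12109, e3 q12110 L358600 q12110, e3 q12111 L358611 q12111, e3 q12112 L358620 q12112, e3 q12113 L358637 q12113, e3 q12114 L358673 q12114, e3 q12115 L358681 q12115, e3 q12116 L358691 q10105, e3 q12117 L358700 q10106, e3 q12118 L358710 q10107, e3 q12119 L657429 q14295, e3 q12120 L358728 q10109, e3 q12121 L358740 q10110, e3 q12122 L358754 q12122, e3 q12123 L358760 q10111, e3 q12124 L358769 q12124, e3 q12125 L358777 q12125, e3 q12126 L358810 q12126, e3 q12127 (flp_c L657383) q14290, e3 q12128 (flp_c L657392) q14291, e3 q12129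 (flp_c L657405) q14292, e3 q12130 L657551 q14306, e3 q12131 (flp_c L657423) q14294, e3 q12132 (flp_c L358863) q10108, e3 q12133 (flp_c L657586) q14309, e3 q12134 (flp_c L657463) q14298, e3 q12135 L358898 q12135, e3 q12136 L358905 q12136, e3 q12137 L358913 q12137, e3 q12138 L657650 q14316, e3 q12139 L358927 q12139, e3 q12140 L358935 q10127, e3 q12141 L358942 q10128, e3 q12142 L358951 q10129, e3 q12143 L657726 q14324, e3 q12144 L358965 q10131, e3 q12145 (flp_c L358971) q10117, e3 q12146 (flp_c L657766) q14328, e3 q12147 (flp_c L657773) q14329, e3 q12148 L359004 q10134, e3 q12149 L359013 q12149, e3 q12150 L359019 q12150, e3 q12151 L359027 q12151, e3 q12152 L359035 q12152, e3 q12153 L359042 q12153, e3 q12154 L359050 q12154, e3 q12155 L359057 q12155, e3 q12156 L359066 q12156, e3 q12157 (flp_c L657678) q14319, e3 q12158 (flp_c L657695) q14321, e3 q12159 (flp_c L657718) q14323, trivial⟩ (by decide +kernel)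

theorem ce_c_190 : ∀ r, r < 64 → sm gc (Qf (12160 + r)) = Qf (tab Gen.c (12160 + r)) :=
  edges_tab (sm gc) Qf (tab Gen.c) 12160 [(12160, 10130), (12161, 14341), (12162, 10139), (12163, 10133), (12164, 14345), (12165, 10923), (12166, 14343), (12167, 14344), (12168, 10141), (12169, 11414), (12170, 12170), (12171, 10150), (12172, 10181), (12173, 10151), (12174, 10183), (12175, 10162), (12176, 14258), (12177, 14215), (12178, 10159), (12179, 14350), (12180, 10161), (12181, 10199), (12182, 10163), (12183, 10201), (12184, 10202), (12185, 10203), (12186, 10204), (12187, 10205), (12188, 10306), (12189, 14366), (12190, 14356), (12191, 10160), (12192, 14369), (12193, 14354), (12194, 12194), (12195, 14373), (12196, 12196), (12197, 14376), (12198, 12198), (12199, 10167), (12200, 14379), (12201, 14368), (12202, 10170), (12203, 14383), (12204, 10932), (12205, 12205), (12206, 12206), (12207, 12207), (12208, 12208), (12209, 12209), (12210, 12210), (12211, 12211), (12212, 10184), (12213, 10185), (12214, 10186), (12215, 14403), (12216, 10188),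 (12217, 10189), (12218, 14349), (12219, 10190), (12220, 14269), (12221, 14351), (12222, 14352), (12223, 14398)]
    ⟨e3 q12160 (flp_c L359130) q10130, e3 q12161 (flp_c L657887) q14341, e3 q12162 L359153 q10139, e3 q12163 L359157 q10133, e3 q12164 (flp_c L657931) q14345, e3 q12165 L637160 q10923, e3 q12166 (flp_c L657906) q14343, e3 q12167 (flp_c L657920) q14344, e3 q12168 L359286 q10141, e3 q12169 (flp_c L649373) q11414, e3 q12170 L359333 q12170, e3 q12171 L359378 q10150, e3 q12172 L359390 q10181, e3 q12173 L359397 q10151, e3 q12174 L359416 q10183, e3 q12175 L614315 q10162, e3 q12176 (flp_c L657012) q14258, e3 q12177 (flp_c L656504) q14215, e3 q12178 L614015 q10159, e3 q12179 (flp_c L658005) q14350, e3 q12180 L359538 q10161, e3 q12181 L359560 q10199, e3 q12182 L359566 q10163, e3 q12183 L359576 q10201, e3 q12184 L359582 q10202, e3 q12185 L359591 q10203, e3 q12186 L359598 q10204, e3 q12187 L359608 q10205, e3 q12188 L613976 q10306, e3 q12189 L658207 q14366, e3 q12190 (flp_c L658083) q14356, e3 q12191 (flp_c L359659) q10160,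 e3 q12192 (flp_c L658242) q14369, e3 q12193 (flp_c L658057) q14354, e3 q12194 L359697 q12194, e3 q12195 L658287 q14373, e3 q12196 L359714 q12196, e3 q12197 L658322 q14376, e3 q12198 L359732 q12198, e3 q12199 (flp_c L359738) q10167, e3 q12200 (flp_c L658355) q14379, e3 q12201 (flp_c L658238) q14368, e3 q12202 L359766 q10170, e3 q12203 (flp_c L658390) q14383, e3 q12204 L617582 q10932, e3 q12205 L359793 q12205, e3 q12206 L359802 q12206, e3 q12207 L359811 q12207, e3 q12208 L359821 q12208, e3 q12209 L359837 q12209, e3 q12210 L359869 q12210, e3 q12211 L359879 q12211, e3 q12212 L359887 q10184, e3 q12213 L359899 q10185, e3 q12214 L359909 q10186, e3 q12215 L658609 q14403, e3 q12216 L359925 q10188, e3 q12217 L359937 q10189, e3 q12218 (flp_c L657994) q14349, e3 q12219 L359956 q10190, e3 q12220 L657148 q14269, e3 q12221 (flp_c L658020) q14351, e3 q12222 (flp_c L658030) q14352, e3 q12223 (flp_c L658561) q14398, trivial⟩ (by decide +kernel)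

theorem ce_c_191 : ∀ r, r < 64 → sm gc (Qf (12224 + r)) = Qf (tab Gen.c (12224 + r)) :=
  edges_tab (sm gc) Qf (tab Gen.c) 12224 [(12224, 14399), (12225, 14400), (12226, 14416), (12227, 14402), (12228, 10187), (12229, 14419), (12230, 14406), (12231, 12231), (12232, 12232), (12233, 12233), (12234, 14427), (12235, 12235), (12236, 10206), (12237, 10207), (12238, 10208), (12239, 14436), (12240, 10210), (12241, 10196), (12242, 14440), (12243, 14441), (12244, 14353), (12245, 10213), (12246, 14357), (12247, 14358), (12248, 14359), (12249, 14360), (12250, 14361), (12251, 11490), (12252, 14362), (12253, 14363), (12254, 14430), (12255, 14431), (12256, 14457), (12257, 14433), (12258, 14407), (12259, 14435), (12260, 10209), (12261, 14462), (12262, 10222), (12263, 10212), (12264, 14466), (12265, 10740), (12266, 11101), (12267, 13926), (12268, 10216), (12269, 14471), (12270, 14472), (12271, 10218), (12272, 14476), (12273, 14461), (12274, 10221), (12275, 14480), (12276, 14464), (12277, 14465), (12278, 10224), (12279, 10225), (12280, 14484),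 (12281, 10750), (12282, 12282), (12283, 12283), (12284, 12284), (12285, 14495), (12286, 12286), (12287, 12287)]
    ⟨e3 q12224 (flp_c L658573) q14399, e3 q12225 (flp_c L658585) q14400, e3 q12226 L658738 q14416, e3 q12227 (flp_c L658601) q14402, e3 q12228 (flp_c L360054) q10187, e3 q12229 (flp_c L658768) q14419, e3 q12230 (flp_c L658635) q14406, e3 q12231 L360083 q12231, e3 q12232 L360092 q12232, e3 q12233 L360100 q12233, e3 q12234 L658836 q14427, e3 q12235 L360112 q12235, e3 q12236 L360120 q10206, e3 q12237 L360130 q10207, e3 q12238 L360140 q10208, e3 q12239 L658906 q14436, e3 q12240 L360152 q10210, e3 q12241 (flp_c L360160) q10196, e3 q12242 (flp_c L658932) q14440, e3 q12243 (flp_c L658936) q14441, e3 q12244 (flp_c L658047) q14353, e3 q12245 L360185 q10213, e3 q12246 (flp_c L658101) q14357, e3 q12247 (flp_c L658113) q14358, e3 q12248 (flp_c L658126) q14359, e3 q12249 (flp_c L658138) q14360, e3 q12250 (flp_c L658145) q14361, e3 q12251 L649361 q11490, e3 q12252 (flp_c L658156) q14362, e3 q12253 (flp_c L658168) q14363, e3 q12254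 (flp_c L658856) q14430, e3 q12255 (flp_c L658866) q14431, e3 q12256 L659076 q14457, e3 q12257 (flp_c L658882) q14433, e3 q12258 (flp_c L658647) q14407, e3 q12259 (flp_c L658898) q14435, e3 q12260 (flp_c L360301) q10209, e3 q12261 (flp_c L659123) q14462, e3 q12262 L360319 q10222, e3 q12263 L360323 q10212, e3 q12264 (flp_c L659153) q14466, e3 q12265 L641009 q10740, e3 q12266 L649142 q11101, e3 q12267 (flp_c L653064) q13926, e3 q12268 (flp_c L360364) q10216, e3 q12269 (flp_c L659216) q14471, e3 q12270 (flp_c L659230) q14472, e3 q12271 (flp_c L360389) q10218, e3 q12272 (flp_c L659273) q14476, e3 q12273 (flp_c L659119) q14461, e3 q12274 L360410 q10221, e3 q12275 (flp_c L659312) q14480, e3 q12276 (flp_c L659138) q14464, e3 q12277 (flp_c L659147) q14465, e3 q12278 L360437 q10224, e3 q12279 (flp_c L360442) q10225, e3 q12280 (flp_c L659356) q14484, e3 q12281 L648209 q10750, e3 q12282 L360467 q12282, e3 q12283 L360476 q12283, e3 q12284 L360483 q12284, e3 q12285 L659471 q14495, e3 q12286 L360498 q12286, e3 q12287 L360507 q12287, trivial⟩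 (by decide +kernel)

theorem ce_c_192 : ∀ r, r < 64 → sm gc (Qf (12288 + r)) = Qf (tab Gen.c (12288 + r)) :=
  edges_tab (sm gc) Qf (tab Gen.c) 12288 [(12288, 12288), (12289, 12289), (12290, 12290), (12291, 12291), (12292, 14504), (12293, 12293), (12294, 10244), (12295, 10245), (12296, 10246), (12297, 14513), (12298, 10248), (12299, 10236), (12300, 14517), (12301, 14518), (12302, 12302), (12303, 10251), (12304, 12304), (12305, 12305), (12306, 12306), (12307, 12307), (12308, 14507), (12309, 14508), (12310, 14530), (12311, 14510), (12312, 14533), (12313, 14512), (12314, 10247), (12315, 14536), (12316, 12316), (12317, 10250), (12318, 14540), (12319, 12319), (12320, 12320), (12321, 12321), (12322, 12322), (12323, 14549), (12324, 12324), (12325, 10255), (12326, 14553), (12327, 14554), (12328, 10275), (12329, 10276), (12330, 14561), (12331, 10278), (12332, 14564), (12333, 10280), (12334, 10260), (12335, 14568), (12336, 14569), (12337, 13977), (12338, 10263), (12339, 10264), (12340, 14576), (12341, 14577), (12342, 14578), (12343,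 12343), (12344, 12344), (12345, 12345), (12346, 12346), (12347, 12347), (12348, 12348), (12349, 12349), (12350, 12350), (12351, 12351)]
    ⟨e3 q12288 L360525 q12288, e3 q12289 L360594 q12289, e3 q12290 L360603 q12290, e3 q12291 L360611 q12291, e3 q12292 L659559 q14504, e3 q12293 L360627 q12293, e3 q12294 L360635 q10244, e3 q12295 L360645 q10245, e3 q12296 L360657 q10246, e3 q12297 L659641 q14513, e3 q12298 L360673 q10248, e3 q12299 (flp_c L360679) q10236, e3 q12300 (flp_c L659675) q14517, e3 q12301 (flp_c L659682) q14518, e3 q12302 L360709 q12302, e3 q12303 L360715 q10251, e3 q12304 L360725 q12304, e3 q12305 L360733 q12305, e3 q12306 L360752 q12306, e3 q12307 L360759 q12307, e3 q12308 (flp_c L659587) q14507, e3 q12309 (flp_c L659597) q14508, e3 q12310 L659796 q14530, e3 q12311 (flp_c L659617) q14510, e3 q12312 L659827 q14533, e3 q12313 (flp_c L659635) q14512, e3 q12314 (flp_c L360852) q10247, e3 q12315 (flp_c L659860) q14536, e3 q12316 L360876 q12316, e3 q12317 L360881 q10250, e3 q12318 (flp_c L659895) q14540, e3 q12319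 L360897 q12319, e3 q12320 L360905 q12320, e3 q12321 L360912 q12321, e3 q12322 L360919 q12322, e3 q12323 L659970 q14549, e3 q12324 L360931 q12324, e3 q12325 (flp_c L360935) q10255, e3 q12326 (flp_c L660007) q14553, e3 q12327 (flp_c L660015) q14554, e3 q12328 L360955 q10275, e3 q12329 L360963 q10276, e3 q12330 L660064 q14561, e3 q12331 L360979 q10278, e3 q12332 L660086 q14564, e3 q12333 L360993 q10280, e3 q12334 (flp_c L360999) q10260, e3 q12335 (flp_c L660124) q14568, e3 q12336 (flp_c L660131) q14569, e3 q12337 (flp_c L653779) q13977, e3 q12338 L361025 q10263, e3 q12339 L361030 q10264, e3 q12340 (flp_c L660186) q14576, e3 q12341 (flp_c L660193) q14577, e3 q12342 (flp_c L660200) q14578, e3 q12343 L361054 q12343, e3 q12344 L361060 q12344, e3 q12345 L361069 q12345, e3 q12346 L361075 q12346, e3 q12347 L361082 q12347, e3 q12348 L361090 q12348, e3 q12349 L361096 q12349, e3 q12350 L361103 q12350, e3 q12351 L361109 q12351, trivial⟩ (by decide +kernel)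

theorem ce_c_193 : ∀ r, r < 64 → sm gc (Qf (12352 + r)) = Qf (tab Gen.c (12352 + r)) :=
  edges_tab (sm gc) Qf (tab Gen.c) 12352 [(12352, 12352), (12353, 12353), (12354, 14558), (12355, 14595), (12356, 14560), (12357, 10277), (12358, 14599), (12359, 14600), (12360, 10279), (12361, 14603), (12362, 10293), (12363, 10282), (12364, 14607), (12365, 10296), (12366, 10297), (12367, 10285), (12368, 13927), (12369, 11026), (12370, 11027), (12371, 14598), (12372, 10290), (12373, 10291), (12374, 14616), (12375, 14617), (12376, 11028), (12377, 14605), (12378, 14606), (12379, 10295), (12380, 14608), (12381, 14609), (12382, 14483), (12383, 10602), (12384, 12384), (12385, 13811), (12386, 10343), (12387, 10307), (12388, 10345), (12389, 10346), (12390, 10347), (12391, 14365), (12392, 10321), (12393, 10794), (12394, 11599), (12395, 10366), (12396, 10322), (12397, 10368), (12398, 10369), (12399, 10370), (12400, 10371), (12401, 10372), (12402, 10373), (12403, 10374), (12404, 10375), (12405, 11654), (12406, 11653), (12407, 12407), (12408, 10527),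 (12409, 11659), (12410, 11658), (12411, 10329), (12412, 11602), (12413, 12413), (12414, 12414), (12415, 12415)]
    ⟨e3 q12352 L361117 q12352, e3 q12353 L361126 q12353, e3 q12354 (flp_c L660040) q14558, e3 q12355 L660337 q14595, e3 q12356 (flp_c L660056) q14560, e3 q12357 (flp_c L361166) q10277, e3 q12358 (flp_c L660379) q14599, e3 q12359 (flp_c L660387) q14600, e3 q12360 (flp_c L361193) q10279, e3 q12361 (flp_c L660417) q14603, e3 q12362 L361214 q10293, e3 q12363 L361218 q10282, e3 q12364 (flp_c L660457) q14607, e3 q12365 L361233 q10296, e3 q12366 L361243 q10297, e3 q12367 L361250 q10285, e3 q12368 (flp_c L653081) q13927, e3 q12369 L637061 q11026, e3 q12370 L637049 q11027, e3 q12371 (flp_c L660375) q14598, e3 q12372 L361309 q10290, e3 q12373 L361318 q10291, e3 q12374 (flp_c L660548) q14616, e3 q12375 (flp_c L660562) q14617, e3 q12376 L637642 q11028, e3 q12377 (flp_c L660436) q14605, e3 q12378 (flp_c L660448) q14606, e3 q12379 L361380 q10295, e3 q12380 (flp_c L660467) q14608, e3 q12381 (flp_c L660476) q14609, e3 q12382 (flp_c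 L659345) q14483, e3 q12383 L542453 q10602, e3 q12384 L361467 q12384, e3 q12385 (flp_c L651461) q13811, e3 q12386 L361575 q10343, e3 q12387 L361582 q10307, e3 q12388 L361591 q10345, e3 q12389 L361599 q10346, e3 q12390 L361629 q10347, e3 q12391 (flp_c L658197) q14365, e3 q12392 L361792 q10321, e3 q12393 L542406 q10794, e3 q12394 (flp_c L648191) q11599, e3 q12395 L361824 q10366, e3 q12396 L361830 q10322, e3 q12397 L361839 q10368, e3 q12398 L361847 q10369, e3 q12399 L361856 q10370, e3 q12400 L361865 q10371, e3 q12401 L361873 q10372, e3 q12402 L361883 q10373, e3 q12403 L361890 q10374, e3 q12404 L361899 q10375, e3 q12405 (flp_c L648817) q11654, e3 q12406 (flp_c L648907) q11653, e3 q12407 L362027 q12407, e3 q12408 L615419 q10527, e3 q12409 L648869 q11659, e3 q12410 L648865 q11658, e3 q12411 L362091 q10329, e3 q12412 (flp_c L648390) q11602, e3 q12413 L362170 q12413, e3 q12414 L362179 q12414, e3 q12415 L362189 q12415, trivial⟩ (by decide +kernel)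

theorem ce_c_194 : ∀ r, r < 64 → sm gc (Qf (12416 + r)) = Qf (tab Gen.c (12416 + r)) :=
  edges_tab (sm gc) Qf (tab Gen.c) 12416 [(12416, 14646), (12417, 12417), (12418, 12418), (12419, 12419), (12420, 10348), (12421, 10349), (12422, 10350), (12423, 11137), (12424, 10351), (12425, 11139), (12426, 11140), (12427, 14364), (12428, 10352), (12429, 14625), (12430, 14626), (12431, 14627), (12432, 14628), (12433, 14649), (12434, 14650), (12435, 14652), (12436, 14654), (12437, 10508), (12438, 10509), (12439, 10510), (12440, 10511), (12441, 11125), (12442, 10512), (12443, 10798), (12444, 11127), (12445, 10376), (12446, 10377), (12447, 14682), (12448, 10379), (12449, 14685), (12450, 10381), (12451, 10361), (12452, 14689), (12453, 14690), (12454, 14016), (12455, 10364), (12456, 10365), (12457, 14059), (12458, 14695), (12459, 14696), (12460, 11650), (12461, 14630), (12462, 14631), (12463, 14632), (12464, 14633), (12465, 14634), (12466, 14635), (12467, 14636), (12468, 11484), (12469, 14637), (12470, 14638), (12471, 14679), (12472, 14714),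 (12473, 14681), (12474, 10378), (12475, 14718), (12476, 14719), (12477, 10380), (12478, 14721), (12479, 10394)]
    ⟨e3 q12416 L660907 q14646, e3 q12417 L362205 q12417, e3 q12418 L362217 q12418, e3 q12419 L362232 q12419, e3 q12420 L362354 q10348, e3 q12421 L362364 q10349, e3 q12422 L362374 q10350, e3 q12423 L508367 q11137, e3 q12424 L362391 q10351, e3 q12425 L546895 q11139, e3 q12426 L508363 q11140, e3 q12427 (flp_c L658186) q14364, e3 q12428 L362436 q10352, e3 q12429 (flp_c L660658) q14625, e3 q12430 (flp_c L660671) q14626, e3 q12431 (flp_c L660683) q14627, e3 q12432 (flp_c L660696) q14628, e3 q12433 (flp_c L660948) q14649, e3 q12434 (flp_c L660961) q14650, e3 q12435 (flp_c L660983) q14652, e3 q12436 (flp_c L661006) q14654, e3 q12437 L362620 q10508, e3 q12438 L362629 q10509, e3 q12439 L362639 q10510, e3 q12440 L362647 q10511, e3 q12441 L546912 q11125, e3 q12442 L362661 q10512, e3 q12443 L534697 q10798, e3 q12444 L543041 q11127, e3 q12445 L362692 q10376, e3 q12446 L362701 q10377, e3 q12447 L661296 q14682, e3 q12448 L362715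 q10379, e3 q12449 L661320 q14685, e3 q12450 L362730 q10381, e3 q12451 (flp_c L362739) q10361, e3 q12452 (flp_c L661371) q14689, e3 q12453 (flp_c L661385) q14690, e3 q12454 (flp_c L654242) q14016, e3 q12455 L362766 q10364, e3 q12456 L362771 q10365, e3 q12457 (flp_c L654767) q14059, e3 q12458 (flp_c L661428) q14695, e3 q12459 (flp_c L661439) q14696, e3 q12460 L649391 q11650, e3 q12461 (flp_c L660724) q14630, e3 q12462 (flp_c L660736) q14631, e3 q12463 (flp_c L660746) q14632, e3 q12464 (flp_c L660759) q14633, e3 q12465 (flp_c L660770) q14634, e3 q12466 (flp_c L660784) q14635, e3 q12467 (flp_c L660796) q14636, e3 q12468 L649377 q11484, e3 q12469 (flp_c L660807) q14637, e3 q12470 (flp_c L660819) q14638, e3 q12471 (flp_c L661273) q14679, e3 q12472 L661598 q14714, e3 q12473 (flp_c L661288) q14681, e3 q12474 (flp_c L362901) q10378, e3 q12475 (flp_c L661664) q14718, e3 q12476 (flp_c L661678) q14719, e3 q12477 (flp_c L362927) q10380, e3 q12478 (flp_c L661706) q14721, e3 q12479 L362949 q10394, trivial⟩ (by decide +kernel)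

theorem ce_c_195 : ∀ r, r < 64 → sm gc (Qf (12480 + r)) = Qf (tab Gen.c (12480 + r)) :=
  edges_tab (sm gc) Qf (tab Gen.c) 12480 [(12480, 10383), (12481, 10398), (12482, 11330), (12483, 14041), (12484, 10387), (12485, 10526), (12486, 14724), (12487, 14717), (12488, 10390), (12489, 10391), (12490, 14726), (12491, 14725), (12492, 10393), (12493, 14640), (12494, 14722), (12495, 10396), (12496, 11609), (12497, 11193), (12498, 10505), (12499, 11328), (12500, 11332), (12501, 11335), (12502, 14067), (12503, 11188), (12504, 12504), (12505, 12505), (12506, 12506), (12507, 14743), (12508, 12508), (12509, 10405), (12510, 14745), (12511, 12511), (12512, 10533), (12513, 10534), (12514, 10535), (12515, 10536), (12516, 11384), (12517, 10537), (12518, 11387), (12519, 11291), (12520, 10428), (12521, 10429), (12522, 14762), (12523, 10431), (12524, 14765), (12525, 10433), (12526, 10417), (12527, 14769), (12528, 14770), (12529, 14083), (12530, 10420), (12531, 10421), (12532, 14775), (12533, 14776), (12534, 12534), (12535, 12535), (12536, 12536),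 (12537, 12537), (12538, 12538), (12539, 12539), (12540, 14759), (12541, 14786), (12542, 14761), (12543, 10430)]
    ⟨e3 q12480 L362953 q10383, e3 q12481 L362980 q10398, e3 q12482 L615886 q11330, e3 q12483 (flp_c L654538) q14041, e3 q12484 (flp_c L363014) q10387, e3 q12485 L615556 q10526, e3 q12486 (flp_c L661752) q14724, e3 q12487 (flp_c L661654) q14717, e3 q12488 L363050 q10390, e3 q12489 L363059 q10391, e3 q12490 (flp_c L661784) q14726, e3 q12491 (flp_c L661767) q14725, e3 q12492 L363093 q10393, e3 q12493 (flp_c L660837) q14640, e3 q12494 (flp_c L661721) q14722, e3 q12495 L363124 q10396, e3 q12496 L648515 q11609, e3 q12497 L561491 q11193, e3 q12498 L363155 q10505, e3 q12499 L542663 q11328, e3 q12500 L542952 q11332, e3 q12501 L542652 q11335, e3 q12502 (flp_c L654862) q14067, e3 q12503 L542506 q11188, e3 q12504 L363219 q12504, e3 q12505 L363226 q12505, e3 q12506 L363235 q12506, e3 q12507 L661971 q14743, e3 q12508 L363251 q12508, e3 q12509 (flp_c L363256) q10405, e3 q12510 (flp_c L661986) q14745, e3 q12511 L363290 q12511,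 e3 q12512 L363412 q10533, e3 q12513 L363421 q10534, e3 q12514 L363431 q10535, e3 q12515 L363441 q10536, e3 q12516 L542649 q11384, e3 q12517 L363459 q10537, e3 q12518 L543068 q11387, e3 q12519 L543064 q11291, e3 q12520 L363496 q10428, e3 q12521 L363505 q10429, e3 q12522 L662172 q14762, e3 q12523 L363523 q10431, e3 q12524 L662200 q14765, e3 q12525 L363540 q10433, e3 q12526 (flp_c L363547) q10417, e3 q12527 (flp_c L662245) q14769, e3 q12528 (flp_c L662256) q14770, e3 q12529 (flp_c L655059) q14083, e3 q12530 L363582 q10420, e3 q12531 L363590 q10421, e3 q12532 (flp_c L662297) q14775, e3 q12533 (flp_c L662307) q14776, e3 q12534 L363626 q12534, e3 q12535 L363635 q12535, e3 q12536 L363645 q12536, e3 q12537 L363651 q12537, e3 q12538 L363660 q12538, e3 q12539 L363686 q12539, e3 q12540 (flp_c L662147) q14759, e3 q12541 L662395 q14786, e3 q12542 (flp_c L662166) q14761, e3 q12543 (flp_c L363756) q10430, trivial⟩ (by decide +kernel)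

theorem ce_c_196 : ∀ r, r < 64 → sm gc (Qf (12544 + r)) = Qf (tab Gen.c (12544 + r)) :=
  edges_tab (sm gc) Qf (tab Gen.c) 12544 [(12544, 14790), (12545, 14791), (12546, 10432), (12547, 14793), (12548, 12548), (12549, 10435), (12550, 12550), (12551, 12551), (12552, 10546), (12553, 10547), (12554, 10548), (12555, 10549), (12556, 14804), (12557, 10551), (12558, 14807), (12559, 10553), (12560, 10442), (12561, 14811), (12562, 14812), (12563, 14125), (12564, 10445), (12565, 10446), (12566, 14817), (12567, 14818), (12568, 14819), (12569, 10473), (12570, 14825), (12571, 10475), (12572, 10449), (12573, 14829), (12574, 14830), (12575, 10451), (12576, 14835), (12577, 14836), (12578, 14140), (12579, 10454), (12580, 10455), (12581, 14843), (12582, 14844), (12583, 14845), (12584, 14146), (12585, 14147), (12586, 14148), (12587, 10459), (12588, 10460), (12589, 10461), (12590, 14853), (12591, 14854), (12592, 14855), (12593, 12593), (12594, 12594), (12595, 12595), (12596, 12596), (12597, 12597), (12598, 12598), (12599, 12599), (12600, 12600),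 (12601, 12601), (12602, 14871), (12603, 12603), (12604, 12604), (12605, 14873), (12606, 14824), (12607, 10474)]
    ⟨e3 q12544 (flp_c L662445) q14790, e3 q12545 (flp_c L662456) q14791, e3 q12546 (flp_c L363787) q10432, e3 q12547 (flp_c L662482) q14793, e3 q12548 L363815 q12548, e3 q12549 L363820 q10435, e3 q12550 L363837 q12550, e3 q12551 L363850 q12551, e3 q12552 L363869 q10546, e3 q12553 L363876 q10547, e3 q12554 L363885 q10548, e3 q12555 L363894 q10549, e3 q12556 L662591 q14804, e3 q12557 L363910 q10551, e3 q12558 L662617 q14807, e3 q12559 L363925 q10553, e3 q12560 (flp_c L363931) q10442, e3 q12561 (flp_c L662655) q14811, e3 q12562 (flp_c L662667) q14812, e3 q12563 (flp_c L655546) q14125, e3 q12564 L363963 q10445, e3 q12565 L363970 q10446, e3 q12566 (flp_c L662706) q14817, e3 q12567 (flp_c L662719) q14818, e3 q12568 (flp_c L662730) q14819, e3 q12569 L364000 q10473, e3 q12570 L662777 q14825, e3 q12571 L364015 q10475, e3 q12572 (flp_c L364021) q10449, e3 q12573 (flp_c L662807) q14829, e3 q12574 (flp_c L662813) q14830, e3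 q12575 (flp_c L364041) q10451, e3 q12576 (flp_c L662846) q14835, e3 q12577 (flp_c L662854) q14836, e3 q12578 (flp_c L655696) q14140, e3 q12579 L364070 q10454, e3 q12580 L364077 q10455, e3 q12581 (flp_c L662904) q14843, e3 q12582 (flp_c L662909) q14844, e3 q12583 (flp_c L662918) q14845, e3 q12584 (flp_c L655742) q14146, e3 q12585 (flp_c L655761) q14147, e3 q12586 (flp_c L655774) q14148, e3 q12587 L364123 q10459, e3 q12588 L364131 q10460, e3 q12589 L364139 q10461, e3 q12590 (flp_c L662980) q14853, e3 q12591 (flp_c L662987) q14854, e3 q12592 (flp_c L662997) q14855, e3 q12593 L364166 q12593, e3 q12594 L364172 q12594, e3 q12595 L364180 q12595, e3 q12596 L364187 q12596, e3 q12597 L364193 q12597, e3 q12598 L364198 q12598, e3 q12599 L364206 q12599, e3 q12600 L364213 q12600, e3 q12601 L364220 q12601, e3 q12602 L663109 q14871, e3 q12603 L364233 q12603, e3 q12604 L364241 q12604, e3 q12605 L663125 q14873, e3 q12606 (flp_c L662770) q14824, e3 q12607 (flp_c L364280) q10474, trivial⟩ (by decide +kernel)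

theorem ce_c_197 : ∀ r, r < 64 → sm gc (Qf (12608 + r)) = Qf (tab Gen.c (12608 + r)) :=
  edges_tab (sm gc) Qf (tab Gen.c) 12608 [(12608, 14877), (12609, 14878), (12610, 10492), (12611, 10477), (12612, 10478), (12613, 14885), (12614, 14886), (12615, 10497), (12616, 10480), (12617, 14890), (12618, 10500), (12619, 10501), (12620, 10483), (12621, 10503), (12622, 10504), (12623, 11201), (12624, 10487), (12625, 10588), (12626, 14898), (12627, 14876), (12628, 10490), (12629, 10491), (12630, 14900), (12631, 14899), (12632, 14881), (12633, 14882), (12634, 14883), (12635, 11174), (12636, 10495), (12637, 10496), (12638, 11292), (12639, 14888), (12640, 14889), (12641, 10499), (12642, 14891), (12643, 14892), (12644, 14729), (12645, 14894), (12646, 14102), (12647, 14623), (12648, 14667), (12649, 14668), (12650, 14669), (12651, 14670), (12652, 14672), (12653, 14674), (12654, 14730), (12655, 10515), (12656, 11190), (12657, 10525), (12658, 10517), (12659, 11192), (12660, 10599), (12661, 14747), (12662, 14748), (12663, 14749), (12664, 14750),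 (12665, 14752), (12666, 14754), (12667, 14928), (12668, 10540), (12669, 14930), (12670, 12670), (12671, 10542)]
    ⟨e3 q12608 (flp_c L663169) q14877, e3 q12609 (flp_c L663178) q14878, e3 q12610 L364315 q10492, e3 q12611 L364319 q10477, e3 q12612 L364328 q10478, e3 q12613 (flp_c L663245) q14885, e3 q12614 (flp_c L663256) q14886, e3 q12615 L364361 q10497, e3 q12616 L364365 q10480, e3 q12617 (flp_c L663303) q14890, e3 q12618 L364383 q10500, e3 q12619 L364394 q10501, e3 q12620 L364401 q10483, e3 q12621 L364412 q10503, e3 q12622 L364422 q10504, e3 q12623 L512643 q11201, e3 q12624 (flp_c L364437) q10487, e3 q12625 L647115 q10588, e3 q12626 (flp_c L663390) q14898, e3 q12627 (flp_c L663165) q14876, e3 q12628 L364477 q10490, e3 q12629 L364487 q10491, e3 q12630 (flp_c L663419) q14900, e3 q12631 (flp_c L663404) q14899, e3 q12632 (flp_c L663209) q14881, e3 q12633 (flp_c L663221) q14882, e3 q12634 (flp_c L663232) q14883, e3 q12635 L645627 q11174, e3 q12636 L364545 q10495, e3 q12637 L364555 q10496, e3 q12638 L646917 q11292, e3 q12639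 (flp_c L663279) q14888, e3 q12640 (flp_c L663293) q14889, e3 q12641 L364593 q10499, e3 q12642 (flp_c L663315) q14891, e3 q12643 (flp_c L663324) q14892, e3 q12644 (flp_c L661835) q14729, e3 q12645 (flp_c L663347) q14894, e3 q12646 (flp_c L655282) q14102, e3 q12647 (flp_c L660635) q14623, e3 q12648 (flp_c L661139) q14667, e3 q12649 (flp_c L661150) q14668, e3 q12650 (flp_c L661161) q14669, e3 q12651 (flp_c L661174) q14670, e3 q12652 (flp_c L661196) q14672, e3 q12653 (flp_c L661219) q14674, e3 q12654 (flp_c L661843) q14730, e3 q12655 (flp_c L367559) q10515, e3 q12656 L615891 q11190, e3 q12657 L367588 q10525, e3 q12658 L367592 q10517, e3 q12659 L542424 q11192, e3 q12660 L367856 q10599, e3 q12661 (flp_c L662005) q14747, e3 q12662 (flp_c L662018) q14748, e3 q12663 (flp_c L662031) q14749, e3 q12664 (flp_c L662046) q14750, e3 q12665 (flp_c L662068) q14752, e3 q12666 (flp_c L662091) q14754, e3 q12667 L663747 q14928, e3 q12668 (flp_c L368650) q10540, e3 q12669 (flp_c L663782) q14930, e3 q12670 L368684 q12670, e3 q12671 L368689 q10542,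 trivial⟩ (by decide +kernel)

theorem ce_c_198 : ∀ r, r < 64 → sm gc (Qf (12672 + r)) = Qf (tab Gen.c (12672 + r)) :=
  edges_tab (sm gc) Qf (tab Gen.c) 12672 [(12672, 12672), (12673, 14797), (12674, 14798), (12675, 14937), (12676, 14800), (12677, 14801), (12678, 14941), (12679, 14803), (12680, 10550), (12681, 14944), (12682, 14945), (12683, 10552), (12684, 14948), (12685, 12685), (12686, 10555), (12687, 12687), (12688, 12688), (12689, 14952), (12690, 10559), (12691, 12691), (12692, 10561), (12693, 12693), (12694, 12694), (12695, 10565), (12696, 14958), (12697, 14959), (12698, 10587), (12699, 10568), (12700, 10569), (12701, 14957), (12702, 14962), (12703, 10589), (12704, 10590), (12705, 10591), (12706, 12706), (12707, 10573), (12708, 10574), (12709, 14967), (12710, 10594), (12711, 10595), (12712, 10577), (12713, 10597), (12714, 10598), (12715, 11199), (12716, 10600), (12717, 14095), (12718, 10761), (12719, 14960), (12720, 14963), (12721, 14964), (12722, 14468), (12723, 10877), (12724, 14970), (12725, 14971), (12726, 14374),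 (12727, 14973), (12728, 14101), (12729, 14371), (12730, 10672), (12731, 10610), (12732, 13880), (12733, 11674), (12734, 11670), (12735, 13944)]
    ⟨e3 q12672 L368752 q12672, e3 q12673 (flp_c L662533) q14797, e3 q12674 (flp_c L662545) q14798, e3 q12675 L663868 q14937, e3 q12676 (flp_c L662559) q14800, e3 q12677 (flp_c L662568) q14801, e3 q12678 L663904 q14941, e3 q12679 (flp_c L662585) q14803, e3 q12680 (flp_c L368857) q10550, e3 q12681 (flp_c L663944) q14944, e3 q12682 (flp_c L663958) q14945, e3 q12683 (flp_c L368881) q10552, e3 q12684 (flp_c L663997) q14948, e3 q12685 L368911 q12685, e3 q12686 L368922 q10555, e3 q12687 L368950 q12687, e3 q12688 L368969 q12688, e3 q12689 L664044 q14952, e3 q12690 (flp_c L369024) q10559, e3 q12691 L369055 q12691, e3 q12692 L369058 q10561, e3 q12693 L369101 q12693, e3 q12694 L369144 q12694, e3 q12695 (flp_c L369308) q10565, e3 q12696 (flp_c L664140) q14958, e3 q12697 (flp_c L664158) q14959, e3 q12698 L369341 q10587, e3 q12699 L369345 q10568, e3 q12700 L369352 q10569, e3 q12701 (flp_c L664130)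 q14957, e3 q12702 (flp_c L664203) q14962, e3 q12703 L369378 q10589, e3 q12704 L369388 q10590, e3 q12705 L369397 q10591, e3 q12706 L369408 q12706, e3 q12707 L369411 q10573, e3 q12708 L369420 q10574, e3 q12709 (flp_c L664263) q14967, e3 q12710 L369437 q10594, e3 q12711 L369447 q10595, e3 q12712 L369455 q10577, e3 q12713 L369465 q10597, e3 q12714 L369474 q10598, e3 q12715 L512654 q11199, e3 q12716 L369487 q10600, e3 q12717 (flp_c L655198) q14095, e3 q12718 L512670 q10761, e3 q12719 (flp_c L664171) q14960, e3 q12720 (flp_c L664215) q14963, e3 q12721 (flp_c L664229) q14964, e3 q12722 (flp_c L659178) q14468, e3 q12723 L646877 q10877, e3 q12724 (flp_c L664300) q14970, e3 q12725 (flp_c L664312) q14971, e3 q12726 (flp_c L658304) q14374, e3 q12727 (flp_c L664335) q14973, e3 q12728 (flp_c L655271) q14101, e3 q12729 L658270 q14371, e3 q12730 L372537 q10672, e3 q12731 L372544 q10610, e3 q12732 (flp_c L652457) q13880, e3 q12733 (flp_c L648477) q11674, e3 q12734 L648959 q11670, e3 q12735 (flp_c L653332) q13944, trivial⟩ (by decide +kernel)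

theorem ce_c_199 : ∀ r, r < 64 → sm gc (Qf (12736 + r)) = Qf (tab Gen.c (12736 + r)) :=
  edges_tab (sm gc) Qf (tab Gen.c) 12736 [(12736, 13945), (12737, 11621), (12738, 11619), (12739, 13933), (12740, 10644), (12741, 13884), (12742, 10633), (12743, 10634), (12744, 12744), (12745, 12745), (12746, 13882), (12747, 10646), (12748, 10648), (12749, 12749), (12750, 12750), (12751, 13855), (12752, 13881), (12753, 14982), (12754, 13883), (12755, 11591), (12756, 13875), (12757, 11400), (12758, 10659), (12759, 14994), (12760, 10662), (12761, 10652), (12762, 14997), (12763, 14998), (12764, 12764), (12765, 12765), (12766, 12766), (12767, 12767), (12768, 14993), (12769, 15005), (12770, 10661), (12771, 15006), (12772, 10669), (12773, 10664), (12774, 14280), (12775, 15007), (12776, 10702), (12777, 10704), (12778, 15012), (12779, 13960), (12780, 10680), (12781, 10681), (12782, 13972), (12783, 10682), (12784, 10676), (12785, 15017), (12786, 10685), (12787, 15015), (12788, 10684), (12789, 15019), (12790, 12790), (12791, 12791), (12792, 14552),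 (12793, 12793), (12794, 12794), (12795, 10703), (12796, 13964), (12797, 10706), (12798, 13966), (12799, 13967)]
    ⟨e3 q12736 (flp_c L653348) q13945, e3 q12737 (flp_c L649081) q11621, e3 q12738 (flp_c L648937) q11619, e3 q12739 (flp_c L653169) q13933, e3 q12740 L621537 q10644, e3 q12741 (flp_c L652518) q13884, e3 q12742 L374041 q10633, e3 q12743 L374073 q10634, e3 q12744 L374307 q12744, e3 q12745 L374352 q12745, e3 q12746 (flp_c L652491) q13882, e3 q12747 L374443 q10646, e3 q12748 L374474 q10648, e3 q12749 L374483 q12749, e3 q12750 L374492 q12750, e3 q12751 (flp_c L652072) q13855, e3 q12752 (flp_c L652474) q13881, e3 q12753 (flp_c L664434) q14982, e3 q12754 (flp_c L652501) q13883, e3 q12755 L648769 q11591, e3 q12756 (flp_c L652385) q13875, e3 q12757 L621672 q11400, e3 q12758 L374653 q10659, e3 q12759 L664589 q14994, e3 q12760 L374680 q10662, e3 q12761 (flp_c L374686) q10652, e3 q12762 (flp_c L664625) q14997, e3 q12763 (flp_c L664636) q14998, e3 q12764 L374754 q12764, e3 q12765 L374765 q12765, e3 q12766 L374785 q12766, e3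 q12767 L374793 q12767, e3 q12768 (flp_c L664580) q14993, e3 q12769 L664705 q15005, e3 q12770 (flp_c L374858) q10661, e3 q12771 (flp_c L664718) q15006, e3 q12772 L374877 q10669, e3 q12773 L374881 q10664, e3 q12774 (flp_c L657275) q14280, e3 q12775 (flp_c L664727) q15007, e3 q12776 L611662 q10702, e3 q12777 L611650 q10704, e3 q12778 L664794 q15012, e3 q12779 (flp_c L653552) q13960, e3 q12780 L375837 q10680, e3 q12781 L375849 q10681, e3 q12782 (flp_c L653709) q13972, e3 q12783 L375875 q10682, e3 q12784 (flp_c L375883) q10676, e3 q12785 (flp_c L664850) q15017, e3 q12786 L375913 q10685, e3 q12787 (flp_c L664826) q15015, e3 q12788 L376055 q10684, e3 q12789 (flp_c L664870) q15019, e3 q12790 L376194 q12790, e3 q12791 L376212 q12791, e3 q12792 (flp_c L659997) q14552, e3 q12793 L376229 q12793, e3 q12794 L376261 q12794, e3 q12795 L376391 q10703, e3 q12796 (flp_c L653613) q13964, e3 q12797 L376417 q10706, e3 q12798 (flp_c L653634) q13966, e3 q12799 (flp_c L653645) q13967, trivial⟩ (by decide +kernel)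

theorem ce_c_200 : ∀ r, r < 64 → sm gc (Qf (12800 + r)) = Qf (tab Gen.c (12800 + r)) :=
  edges_tab (sm gc) Qf (tab Gen.c) 12800 [(12800, 10708), (12801, 12801), (12802, 12802), (12803, 12803), (12804, 13896), (12805, 15009), (12806, 13962), (12807, 15025), (12808, 13963), (12809, 15011), (12810, 13965), (12811, 13900), (12812, 11460), (12813, 13948), (12814, 11461), (12815, 13950), (12816, 13951), (12817, 10728), (12818, 10729), (12819, 15047), (12820, 10731), (12821, 15050), (12822, 10733), (12823, 10716), (12824, 15053), (12825, 15054), (12826, 11074), (12827, 10719), (12828, 10720), (12829, 15060), (12830, 15061), (12831, 15062), (12832, 12832), (12833, 12833), (12834, 12834), (12835, 12835), (12836, 12836), (12837, 12837), (12838, 15044), (12839, 15072), (12840, 15046), (12841, 10730), (12842, 15075), (12843, 15076), (12844, 10732), (12845, 15079), (12846, 10747), (12847, 10735), (12848, 15081), (12849, 10751), (12850, 10738), (12851, 11102), (12852, 14467), (12853, 15074), (12854, 10744), (12855, 11172), (12856, 15078),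 (12857, 10746), (12858, 14487), (12859, 15080), (12860, 10749), (12861, 14489), (12862, 15082), (12863, 14275)]
    ⟨e3 q12800 L376456 q10708, e3 q12801 L376466 q12801, e3 q12802 L376475 q12802, e3 q12803 L376495 q12803, e3 q12804 (flp_c L652672) q13896, e3 q12805 (flp_c L664756) q15009, e3 q12806 (flp_c L653586) q13962, e3 q12807 (flp_c L664936) q15025, e3 q12808 (flp_c L653600) q13963, e3 q12809 (flp_c L664784) q15011, e3 q12810 (flp_c L653623) q13965, e3 q12811 (flp_c L652728) q13900, e3 q12812 L611449 q11460, e3 q12813 (flp_c L653395) q13948, e3 q12814 L611479 q11461, e3 q12815 (flp_c L653419) q13950, e3 q12816 (flp_c L653433) q13951, e3 q12817 L376687 q10728, e3 q12818 L376695 q10729, e3 q12819 L665190 q15047, e3 q12820 L376713 q10731, e3 q12821 L665210 q15050, e3 q12822 L376729 q10733, e3 q12823 (flp_c L376735) q10716, e3 q12824 (flp_c L665244) q15053, e3 q12825 (flp_c L665255) q15054, e3 q12826 L376761 q11074, e3 q12827 L376765 q10719, e3 q12828 L376770 q10720, e3 q12829 (flp_c L665306) q15060, e3 q12830 (flp_c L665311)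 q15061, e3 q12831 (flp_c L665318) q15062, e3 q12832 L376816 q12832, e3 q12833 L376825 q12833, e3 q12834 L376845 q12834, e3 q12835 L376854 q12835, e3 q12836 L376872 q12836, e3 q12837 L376881 q12837, e3 q12838 (flp_c L665160) q15044, e3 q12839 L665405 q15072, e3 q12840 (flp_c L665182) q15046, e3 q12841 (flp_c L376929) q10730, e3 q12842 (flp_c L665439) q15075, e3 q12843 (flp_c L665448) q15076, e3 q12844 (flp_c L376948) q10732, e3 q12845 (flp_c L665476) q15079, e3 q12846 L376967 q10747, e3 q12847 L376971 q10735, e3 q12848 (flp_c L665492) q15081, e3 q12849 L376992 q10751, e3 q12850 L376997 q10738, e3 q12851 L377008 q11102, e3 q12852 (flp_c L659161) q14467, e3 q12853 (flp_c L665429) q15074, e3 q12854 L377055 q10744, e3 q12855 L635142 q11172, e3 q12856 (flp_c L665472) q15078, e3 q12857 L377084 q10746, e3 q12858 (flp_c L659395) q14487, e3 q12859 (flp_c L665485) q15080, e3 q12860 L377117 q10749, e3 q12861 (flp_c L659418) q14489, e3 q12862 (flp_c L665503) q15082, e3 q12863 (flp_c L657205) q14275, trivial⟩ (by decide +kernel)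

theorem ce_c_201 : ∀ r, r < 64 → sm gc (Qf (12864 + r)) = Qf (tab Gen.c (12864 + r)) :=
  edges_tab (sm gc) Qf (tab Gen.c) 12864 [(12864, 11503), (12865, 10754), (12866, 15095), (12867, 11506), (12868, 11507), (12869, 10757), (12870, 12870), (12871, 12871), (12872, 12872), (12873, 12873), (12874, 14975), (12875, 12875), (12876, 14896), (12877, 10771), (12878, 10772), (12879, 15109), (12880, 10774), (12881, 15112), (12882, 10776), (12883, 10766), (12884, 15115), (12885, 11150), (12886, 10769), (12887, 15119), (12888, 15108), (12889, 10773), (12890, 15121), (12891, 10775), (12892, 15124), (12893, 10787), (12894, 10778), (12895, 15128), (12896, 10790), (12897, 10791), (12898, 10781), (12899, 15120), (12900, 10784), (12901, 15134), (12902, 15123), (12903, 10786), (12904, 15137), (12905, 15126), (12906, 15127), (12907, 10789), (12908, 15129), (12909, 15130), (12910, 10895), (12911, 11309), (12912, 11649), (12913, 14629), (12914, 12914), (12915, 12915), (12916, 12916), (12917, 14675), (12918, 12918), (12919, 14677), (12920, 12920),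 (12921, 12921), (12922, 12922), (12923, 15157), (12924, 12924), (12925, 10805), (12926, 15159), (12927, 10820)]
    ⟨e3 q12864 L648412 q11503, e3 q12865 L377823 q10754, e3 q12866 (flp_c L665644) q15095, e3 q12867 L648410 q11506, e3 q12868 L648414 q11507, e3 q12869 L377860 q10757, e3 q12870 L378354 q12870, e3 q12871 L378363 q12871, e3 q12872 L378374 q12872, e3 q12873 L378381 q12873, e3 q12874 (flp_c L664352) q14975, e3 q12875 L378399 q12875, e3 q12876 (flp_c L663368) q14896, e3 q12877 L378432 q10771, e3 q12878 L378441 q10772, e3 q12879 L665805 q15109, e3 q12880 L378457 q10774, e3 q12881 L665831 q15112, e3 q12882 L378474 q10776, e3 q12883 (flp_c L378483) q10766, e3 q12884 (flp_c L665869) q15115, e3 q12885 L378510 q11150, e3 q12886 L378519 q10769, e3 q12887 (flp_c L665919) q15119, e3 q12888 (flp_c L665797) q15108, e3 q12889 (flp_c L378672) q10773, e3 q12890 (flp_c L665935) q15121, e3 q12891 (flp_c L378690) q10775, e3 q12892 (flp_c L665964) q15124, e3 q12893 L378710 q10787, e3 q12894 L378714 q10778, e3 q12895 (flp_c L666010)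 q15128, e3 q12896 L378729 q10790, e3 q12897 L378737 q10791, e3 q12898 L378742 q10781, e3 q12899 (flp_c L665929) q15120, e3 q12900 L378804 q10784, e3 q12901 (flp_c L666067) q15134, e3 q12902 (flp_c L665958) q15123, e3 q12903 L378834 q10786, e3 q12904 (flp_c L666093) q15137, e3 q12905 (flp_c L665987) q15126, e3 q12906 (flp_c L666000) q15127, e3 q12907 L378869 q10789, e3 q12908 (flp_c L666023) q15129, e3 q12909 (flp_c L666032) q15130, e3 q12910 L378893 q10895, e3 q12911 L616103 q11309, e3 q12912 L648485 q11649, e3 q12913 (flp_c L660708) q14629, e3 q12914 L378970 q12914, e3 q12915 L378979 q12915, e3 q12916 L378988 q12916, e3 q12917 (flp_c L661231) q14675, e3 q12918 L379008 q12918, e3 q12919 (flp_c L661252) q14677, e3 q12920 L379054 q12920, e3 q12921 L379225 q12921, e3 q12922 L379232 q12922, e3 q12923 L666313 q15157, e3 q12924 L379250 q12924, e3 q12925 (flp_c L379255) q10805, e3 q12926 (flp_c L666334) q15159, e3 q12927 L379283 q10820, trivial⟩ (by decide +kernel)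

theorem ce_c_202 : ∀ r, r < 64 → sm gc (Qf (12928 + r)) = Qf (tab Gen.c (12928 + r)) :=
  edges_tab (sm gc) Qf (tab Gen.c) 12928 [(12928, 10821), (12929, 15164), (12930, 10823), (12931, 15167), (12932, 10825), (12933, 10810), (12934, 15171), (12935, 15172), (12936, 14005), (12937, 10813), (12938, 10814), (12939, 15177), (12940, 15178), (12941, 12941), (12942, 12942), (12943, 12943), (12944, 12944), (12945, 15161), (12946, 15185), (12947, 15163), (12948, 10822), (12949, 15189), (12950, 15190), (12951, 10824), (12952, 15194), (12953, 12953), (12954, 10827), (12955, 15198), (12956, 12956), (12957, 12957), (12958, 10830), (12959, 12959), (12960, 12960), (12961, 12961), (12962, 15207), (12963, 12963), (12964, 15210), (12965, 12965), (12966, 10835), (12967, 15213), (12968, 15214), (12969, 11236), (12970, 10838), (12971, 10839), (12972, 15117), (12973, 15220), (12974, 15221), (12975, 10863), (12976, 15227), (12977, 10865), (12978, 10842), (12979, 15231), (12980, 15232), (12981, 10844), (12982, 15237), (12983, 15238), (12984, 11251),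 (12985, 10847), (12986, 10848), (12987, 15245), (12988, 15246), (12989, 15247), (12990, 11257), (12991, 11258)]
    ⟨e3 q12928 L379290 q10821, e3 q12929 L666376 q15164, e3 q12930 L379306 q10823, e3 q12931 L666396 q15167, e3 q12932 L379321 q10825, e3 q12933 (flp_c L379328) q10810, e3 q12934 (flp_c L666437) q15171, e3 q12935 (flp_c L666446) q15172, e3 q12936 (flp_c L654113) q14005, e3 q12937 L379361 q10813, e3 q12938 L379369 q10814, e3 q12939 (flp_c L666493) q15177, e3 q12940 (flp_c L666503) q15178, e3 q12941 L379399 q12941, e3 q12942 L379409 q12942, e3 q12943 L379419 q12943, e3 q12944 L379426 q12944, e3 q12945 (flp_c L666351) q15161, e3 q12946 L666578 q15185, e3 q12947 (flp_c L666368) q15163, e3 q12948 (flp_c L379528) q10822, e3 q12949 (flp_c L666623) q15189, e3 q12950 (flp_c L666633) q15190, e3 q12951 (flp_c L379551) q10824, e3 q12952 (flp_c L666671) q15194, e3 q12953 L379577 q12953, e3 q12954 L379582 q10827, e3 q12955 (flp_c L666710) q15198, e3 q12956 L379598 q12956, e3 q12957 L379608 q12957, e3 q12958 L379615 q10830, e3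 q12959 L379633 q12959, e3 q12960 L379642 q12960, e3 q12961 L379650 q12961, e3 q12962 L666797 q15207, e3 q12963 L379667 q12963, e3 q12964 L666818 q15210, e3 q12965 L379683 q12965, e3 q12966 (flp_c L379689) q10835, e3 q12967 (flp_c L666850) q15213, e3 q12968 (flp_c L666862) q15214, e3 q12969 L379720 q11236, e3 q12970 L379724 q10838, e3 q12971 L379731 q10839, e3 q12972 (flp_c L665891) q15117, e3 q12973 (flp_c L666922) q15220, e3 q12974 (flp_c L666929) q15221, e3 q12975 L379764 q10863, e3 q12976 L666980 q15227, e3 q12977 L379781 q10865, e3 q12978 (flp_c L379787) q10842, e3 q12979 (flp_c L667014) q15231, e3 q12980 (flp_c L667018) q15232, e3 q12981 (flp_c L379805) q10844, e3 q12982 (flp_c L667053) q15237, e3 q12983 (flp_c L667063) q15238, e3 q12984 L379836 q11251, e3 q12985 L379840 q10847, e3 q12986 L379847 q10848, e3 q12987 (flp_c L667127) q15245, e3 q12988 (flp_c L667132) q15246, e3 q12989 (flp_c L667141) q15247, e3 q12990 L379877 q11257, e3 q12991 L379886 q11258, trivial⟩ (by decide +kernel)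

theorem ce_c_203 : ∀ r, r < 64 → sm gc (Qf (12992 + r)) = Qf (tab Gen.c (12992 + r)) :=
  edges_tab (sm gc) Qf (tab Gen.c) 12992 [(12992, 11259), (12993, 10852), (12994, 10853), (12995, 10854), (12996, 15256), (12997, 15257), (12998, 15258), (12999, 12999), (13000, 13000), (13001, 13001), (13002, 13002), (13003, 13003), (13004, 13004), (13005, 13005), (13006, 15267), (13007, 15226), (13008, 10864), (13009, 15270), (13010, 15271), (13011, 10882), (13012, 10867), (13013, 10868), (13014, 15278), (13015, 15279), (13016, 10887), (13017, 10870), (13018, 15283), (13019, 10890), (13020, 10891), (13021, 10873), (13022, 10893), (13023, 10894), (13024, 15131), (13025, 14911), (13026, 15269), (13027, 10880), (13028, 10881), (13029, 15292), (13030, 15293), (13031, 15274), (13032, 15275), (13033, 15276), (13034, 11171), (13035, 10885), (13036, 10886), (13037, 15299), (13038, 15281), (13039, 15282), (13040, 10889), (13041, 15284), (13042, 15285), (13043, 15140), (13044, 15287), (13045, 14103), (13046, 15143), (13047, 13047), (13048, 10904),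 (13049, 15309), (13050, 10906), (13051, 10908), (13052, 15308), (13053, 10905), (13054, 15312), (13055, 11617)]
    ⟨e3 q12992 L379894 q11259, e3 q12993 L379901 q10852, e3 q12994 L379907 q10853, e3 q12995 L379915 q10854, e3 q12996 (flp_c L667225) q15256, e3 q12997 (flp_c L667230) q15257, e3 q12998 (flp_c L667238) q15258, e3 q12999 L379944 q12999, e3 q13000 L379953 q13000, e3 q13001 L379973 q13001, e3 q13002 L379982 q13002, e3 q13003 L380000 q13003, e3 q13004 L380010 q13004, e3 q13005 L380038 q13005, e3 q13006 L667309 q15267, e3 q13007 (flp_c L666975) q15226, e3 q13008 (flp_c L380081) q10864, e3 q13009 (flp_c L667335) q15270, e3 q13010 (flp_c L667343) q15271, e3 q13011 L380111 q10882, e3 q13012 L380115 q10867, e3 q13013 L380121 q10868, e3 q13014 (flp_c L667395) q15278, e3 q13015 (flp_c L667402) q15279, e3 q13016 L380146 q10887, e3 q13017 L380150 q10870, e3 q13018 (flp_c L667436) q15283, e3 q13019 L380167 q10890, e3 q13020 L380177 q10891, e3 q13021 L380184 q10873, e3 q13022 L380194 q10893, e3 q13023 L380202 q10894, e3 q13024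 (flp_c L666044) q15131, e3 q13025 (flp_c L663564) q14911, e3 q13026 (flp_c L667331) q15269, e3 q13027 L380246 q10880, e3 q13028 L380255 q10881, e3 q13029 (flp_c L667509) q15292, e3 q13030 (flp_c L667521) q15293, e3 q13031 (flp_c L667369) q15274, e3 q13032 (flp_c L667378) q15275, e3 q13033 (flp_c L667386) q15276, e3 q13034 L645638 q11171, e3 q13035 L380310 q10885, e3 q13036 L380318 q10886, e3 q13037 (flp_c L667581) q15299, e3 q13038 (flp_c L667417) q15281, e3 q13039 (flp_c L667428) q15282, e3 q13040 L380353 q10889, e3 q13041 (flp_c L667447) q15284, e3 q13042 (flp_c L667456) q15285, e3 q13043 (flp_c L666125) q15140, e3 q13044 (flp_c L667471) q15287, e3 q13045 (flp_c L655293) q14103, e3 q13046 (flp_c L666149) q15143, e3 q13047 L380521 q13047, e3 q13048 L380551 q10904, e3 q13049 L667702 q15309, e3 q13050 L380567 q10906, e3 q13051 L380600 q10908, e3 q13052 (flp_c L667692) q15308, e3 q13053 (flp_c L380708) q10905, e3 q13054 (flp_c L667729) q15312, e3 q13055 (flp_c L648915) q11617, trivial⟩ (by decide +kernel)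

theorem ce_c_204 : ∀ r, r < 64 → sm gc (Qf (13056 + r)) = Qf (tab Gen.c (13056 + r)) :=
  edges_tab (sm gc) Qf (tab Gen.c) 13056 [(13056, 15314), (13057, 13057), (13058, 14327), (13059, 10919), (13060, 10912), (13061, 15317), (13062, 15318), (13063, 10922), (13064, 13064), (13065, 13065), (13066, 10921), (13067, 15321), (13068, 15322), (13069, 13069), (13070, 10933), (13071, 10934), (13072, 13887), (13073, 10936), (13074, 10928), (13075, 15328), (13076, 10939), (13077, 14384), (13078, 14385), (13079, 13889), (13080, 15325), (13081, 15326), (13082, 13890), (13083, 10938), (13084, 15333), (13085, 10941), (13086, 15335), (13087, 10957), (13088, 10958), (13089, 15338), (13090, 10960), (13091, 10962), (13092, 10946), (13093, 15342), (13094, 14996), (13095, 10949), (13096, 10950), (13097, 15347), (13098, 15348), (13099, 15349), (13100, 11401), (13101, 11402), (13102, 11403), (13103, 11398), (13104, 15337), (13105, 13952), (13106, 10959), (13107, 13877), (13108, 15355), (13109, 13953), (13110, 10974), (13111, 10964), (13112, 15359),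 (13113, 10977), (13114, 10978), (13115, 10967), (13116, 14216), (13117, 14218), (13118, 14276), (13119, 13940)]
    ⟨e3 q13056 L667745 q15314, e3 q13057 L380772 q13057, e3 q13058 (flp_c L657762) q14327, e3 q13059 L380811 q10919, e3 q13060 (flp_c L380819) q10912, e3 q13061 (flp_c L667766) q15317, e3 q13062 (flp_c L667773) q15318, e3 q13063 L380849 q10922, e3 q13064 L380867 q13064, e3 q13065 L380884 q13065, e3 q13066 L381005 q10921, e3 q13067 (flp_c L667797) q15321, e3 q13068 L667803 q15322, e3 q13069 L381335 q13069, e3 q13070 L381353 q10933, e3 q13071 L381362 q10934, e3 q13072 (flp_c L652560) q13887, e3 q13073 L381380 q10936, e3 q13074 (flp_c L381386) q10928, e3 q13075 (flp_c L667863) q15328, e3 q13076 L381427 q10939, e3 q13077 (flp_c L658402) q14384, e3 q13078 (flp_c L658417) q14385, e3 q13079 (flp_c L652584) q13889, e3 q13080 (flp_c L667830) q15325, e3 q13081 (flp_c L667841) q15326, e3 q13082 (flp_c L652597) q13890, e3 q13083 L381611 q10938, e3 q13084 (flp_c L667908) q15333, e3 q13085 (flp_c L381667) q10941, e3 q13086 (flp_c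 L667924) q15335, e3 q13087 L381690 q10957, e3 q13088 L381697 q10958, e3 q13089 L667946 q15338, e3 q13090 L381710 q10960, e3 q13091 L381723 q10962, e3 q13092 (flp_c L381731) q10946, e3 q13093 (flp_c L667969) q15342, e3 q13094 (flp_c L664621) q14996, e3 q13095 L381757 q10949, e3 q13096 L381765 q10950, e3 q13097 (flp_c L668003) q15347, e3 q13098 (flp_c L668011) q15348, e3 q13099 (flp_c L668021) q15349, e3 q13100 L381836 q11401, e3 q13101 L381844 q11402, e3 q13102 L381864 q11403, e3 q13103 (flp_c L648749) q11398, e3 q13104 (flp_c L667939) q15337, e3 q13105 (flp_c L653445) q13952, e3 q13106 (flp_c L381922) q10959, e3 q13107 (flp_c L652413) q13877, e3 q13108 (flp_c L668069) q15355, e3 q13109 (flp_c L653456) q13953, e3 q13110 L381971 q10974, e3 q13111 L381975 q10964, e3 q13112 (flp_c L668105) q15359, e3 q13113 L381992 q10977, e3 q13114 L382003 q10978, e3 q13115 L382011 q10967, e3 q13116 (flp_c L656530) q14216, e3 q13117 (flp_c L656550) q14218, e3 q13118 (flp_c L657220) q14276, e3 q13119 (flp_c L653271) q13940, trivial⟩ (by decide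 +kernel)

theorem ce_c_205 : ∀ r, r < 64 → sm gc (Qf (13120 + r)) = Qf (tab Gen.c (13120 + r)) :=
  edges_tab (sm gc) Qf (tab Gen.c) 13120 [(13120, 10973), (13121, 14261), (13122, 15358), (13123, 10976), (13124, 15360), (13125, 15361), (13126, 13126), (13127, 13127), (13128, 13128), (13129, 14574), (13130, 13130), (13131, 10990), (13132, 10991), (13133, 10992), (13134, 15377), (13135, 10994), (13136, 10986), (13137, 15379), (13138, 10997), (13139, 14485), (13140, 15372), (13141, 15382), (13142, 15374), (13143, 15376), (13144, 10993), (13145, 15385), (13146, 13146), (13147, 10996), (13148, 15389), (13149, 13149), (13150, 15392), (13151, 13151), (13152, 11000), (13153, 14573), (13154, 15395), (13155, 11015), (13156, 11016), (13157, 15400), (13158, 11018), (13159, 14567), (13160, 11019), (13161, 11005), (13162, 15404), (13163, 15405), (13164, 14322), (13165, 11008), (13166, 11009), (13167, 15412), (13168, 15413), (13169, 13169), (13170, 13170), (13171, 13171), (13172, 15399), (13173, 11017), (13174, 15416), (13175, 15417), (13176,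 11021), (13177, 15420), (13178, 11029), (13179, 11030), (13180, 11024), (13181, 14611), (13182, 14612), (13183, 15421)]
    ⟨e3 q13120 L382106 q10973, e3 q13121 (flp_c L657043) q14261, e3 q13122 (flp_c L668097) q15358, e3 q13123 L382143 q10976, e3 q13124 (flp_c L668116) q15360, e3 q13125 (flp_c L668126) q15361, e3 q13126 L382202 q13126, e3 q13127 L382335 q13127, e3 q13128 L382355 q13128, e3 q13129 (flp_c L660171) q14574, e3 q13130 L382370 q13130, e3 q13131 L382379 q10990, e3 q13132 L382391 q10991, e3 q13133 L382401 q10992, e3 q13134 L668298 q15377, e3 q13135 L382417 q10994, e3 q13136 (flp_c L382425) q10986, e3 q13137 (flp_c L668318) q15379, e3 q13138 L382458 q10997, e3 q13139 (flp_c L659372) q14485, e3 q13140 (flp_c L668242) q15372, e3 q13141 L668341 q15382, e3 q13142 (flp_c L668260) q15374, e3 q13143 (flp_c L668288) q15376, e3 q13144 (flp_c L382600) q10993, e3 q13145 (flp_c L668368) q15385, e3 q13146 L382622 q13146, e3 q13147 L382627 q10996, e3 q13148 (flp_c L668401) q15389, e3 q13149 L382659 q13149, e3 q13150 L668418 q15392,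 e3 q13151 L382677 q13151, e3 q13152 (flp_c L382684) q11000, e3 q13153 (flp_c L660155) q14573, e3 q13154 (flp_c L668438) q15395, e3 q13155 L382701 q11015, e3 q13156 L382709 q11016, e3 q13157 L668473 q15400, e3 q13158 L382723 q11018, e3 q13159 (flp_c L660120) q14567, e3 q13160 L382737 q11019, e3 q13161 (flp_c L382745) q11005, e3 q13162 (flp_c L668497) q15404, e3 q13163 (flp_c L668504) q15405, e3 q13164 (flp_c L657710) q14322, e3 q13165 L382769 q11008, e3 q13166 L382774 q11009, e3 q13167 (flp_c L668551) q15412, e3 q13168 (flp_c L668558) q15413, e3 q13169 L382801 q13169, e3 q13170 L382810 q13170, e3 q13171 L382817 q13171, e3 q13172 (flp_c L668463) q15399, e3 q13173 (flp_c L382912) q11017, e3 q13174 (flp_c L668577) q15416, e3 q13175 (flp_c L668583) q15417, e3 q13176 L382958 q11021, e3 q13177 (flp_c L668607) q15420, e3 q13178 L382975 q11029, e3 q13179 L382983 q11030, e3 q13180 L382988 q11024, e3 q13181 (flp_c L660490) q14611, e3 q13182 (flp_c L660502) q14612, e3 q13183 (flp_c L668617) q15421, trivial⟩ (by decide +kernel)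

theorem ce_c_206 : ∀ r, r < 64 → sm gc (Qf (13184 + r)) = Qf (tab Gen.c (13184 + r)) :=
  edges_tab (sm gc) Qf (tab Gen.c) 13184 [(13184, 15422), (13185, 11119), (13186, 13997), (13187, 13187), (13188, 13188), (13189, 15430), (13190, 13190), (13191, 11036), (13192, 15433), (13193, 11046), (13194, 11047), (13195, 15438), (13196, 11049), (13197, 13975), (13198, 11051), (13199, 11041), (13200, 15442), (13201, 15410), (13202, 11044), (13203, 15446), (13204, 15435), (13205, 13983), (13206, 15437), (13207, 11048), (13208, 14155), (13209, 15450), (13210, 13984), (13211, 11053), (13212, 15454), (13213, 13213), (13214, 13214), (13215, 11056), (13216, 13216), (13217, 15458), (13218, 13218), (13219, 11060), (13220, 15462), (13221, 13937), (13222, 11063), (13223, 11064), (13224, 15466), (13225, 15467), (13226, 15468), (13227, 11087), (13228, 15473), (13229, 11089), (13230, 11067), (13231, 15477), (13232, 15478), (13233, 11069), (13234, 15483), (13235, 15052), (13236, 11072), (13237, 11073), (13238, 15488), (13239, 15489), (13240, 15490),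 (13241, 14488), (13242, 15058), (13243, 15059), (13244, 11077), (13245, 11078), (13246, 11079), (13247, 15499)]
    ⟨e3 q13184 (flp_c L668624) q15422, e3 q13185 L383130 q11119, e3 q13186 (flp_c L654008) q13997, e3 q13187 L383388 q13187, e3 q13188 L383406 q13188, e3 q13189 L668674 q15430, e3 q13190 L383430 q13190, e3 q13191 (flp_c L383435) q11036, e3 q13192 (flp_c L668700) q15433, e3 q13193 L383460 q11046, e3 q13194 L383468 q11047, e3 q13195 L668739 q15438, e3 q13196 L383486 q11049, e3 q13197 (flp_c L653749) q13975, e3 q13198 L383502 q11051, e3 q13199 (flp_c L383508) q11041, e3 q13200 (flp_c L668773) q15442, e3 q13201 (flp_c L668540) q15410, e3 q13202 L383548 q11044, e3 q13203 (flp_c L668801) q15446, e3 q13204 (flp_c L668713) q15435, e3 q13205 (flp_c L653837) q13983, e3 q13206 (flp_c L668731) q15437, e3 q13207 (flp_c L383722) q11048, e3 q13208 (flp_c L655846) q14155, e3 q13209 (flp_c L668835) q15450, e3 q13210 (flp_c L653850) q13984, e3 q13211 L383780 q11053, e3 q13212 (flp_c L668872) q15454, e3 q13213 L383798 q13213, e3 q13214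 L383808 q13214, e3 q13215 L383815 q11056, e3 q13216 L383838 q13216, e3 q13217 L668901 q15458, e3 q13218 L383856 q13218, e3 q13219 (flp_c L383872) q11060, e3 q13220 (flp_c L668927) q15462, e3 q13221 L653233 q13937, e3 q13222 L383900 q11063, e3 q13223 L383906 q11064, e3 q13224 (flp_c L668951) q15466, e3 q13225 (flp_c L668957) q15467, e3 q13226 (flp_c L668963) q15468, e3 q13227 L383927 q11087, e3 q13228 L668991 q15473, e3 q13229 L383941 q11089, e3 q13230 (flp_c L383949) q11067, e3 q13231 (flp_c L669021) q15477, e3 q13232 (flp_c L669025) q15478, e3 q13233 (flp_c L383965) q11069, e3 q13234 (flp_c L669055) q15483, e3 q13235 (flp_c L665240) q15052, e3 q13236 L383991 q11072, e3 q13237 L383999 q11073, e3 q13238 (flp_c L669089) q15488, e3 q13239 (flp_c L669095) q15489, e3 q13240 (flp_c L669105) q15490, e3 q13241 (flp_c L659408) q14488, e3 q13242 (flp_c L665293) q15058, e3 q13243 (flp_c L665300) q15059, e3 q13244 L384039 q11077, e3 q13245 L384045 q11078, e3 q13246 L384053 q11079, e3 q13247 (flp_c L669159) q15499, trivial⟩ (by decide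 +kernel)

theorem ce_c_207 : ∀ r, r < 64 → sm gc (Qf (13248 + r)) = Qf (tab Gen.c (13248 + r)) :=
  edges_tab (sm gc) Qf (tab Gen.c) 13248 [(13248, 15500), (13249, 15501), (13250, 11462), (13251, 11463), (13252, 11464), (13253, 11465), (13254, 11450), (13255, 15509), (13256, 15472), (13257, 11088), (13258, 14098), (13259, 15512), (13260, 11106), (13261, 11091), (13262, 11092), (13263, 15519), (13264, 15520), (13265, 11111), (13266, 11094), (13267, 15523), (13268, 11114), (13269, 11115), (13270, 11097), (13271, 11117), (13272, 11118), (13273, 15423), (13274, 14469), (13275, 15511), (13276, 11104), (13277, 11105), (13278, 15534), (13279, 15535), (13280, 15515), (13281, 15516), (13282, 15517), (13283, 11300), (13284, 11109), (13285, 11110), (13286, 15542), (13287, 14449), (13288, 15522), (13289, 11113), (13290, 15524), (13291, 15525), (13292, 14477), (13293, 15527), (13294, 15549), (13295, 15427), (13296, 11129), (13297, 11130), (13298, 14671), (13299, 11131), (13300, 14673), (13301, 11132), (13302, 14676), (13303, 14678), (13304,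 15552), (13305, 15554), (13306, 11310), (13307, 11311), (13308, 11312), (13309, 14651), (13310, 11313), (13311, 14653)]
    ⟨e3 q13248 (flp_c L669165) q15500, e3 q13249 (flp_c L669173) q15501, e3 q13250 L384099 q11462, e3 q13251 L384109 q11463, e3 q13252 L384127 q11464, e3 q13253 L384135 q11465, e3 q13254 (flp_c L648239) q11450, e3 q13255 L669227 q15509, e3 q13256 (flp_c L668985) q15472, e3 q13257 (flp_c L384202) q11088, e3 q13258 (flp_c L655231) q14098, e3 q13259 (flp_c L669251) q15512, e3 q13260 L384235 q11106, e3 q13261 L384239 q11091, e3 q13262 L384246 q11092, e3 q13263 (flp_c L669310) q15519, e3 q13264 (flp_c L669318) q15520, e3 q13265 L384274 q11111, e3 q13266 L384278 q11094, e3 q13267 (flp_c L669344) q15523, e3 q13268 L384295 q11114, e3 q13269 L384306 q11115, e3 q13270 L384314 q11097, e3 q13271 L384325 q11117, e3 q13272 L384333 q11118, e3 q13273 (flp_c L668631) q15423, e3 q13274 (flp_c L659192) q14469, e3 q13275 (flp_c L669247) q15511, e3 q13276 L384372 q11104, e3 q13277 L384382 q11105, e3 q13278 (flp_c L669436) q15534,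 e3 q13279 (flp_c L669449) q15535, e3 q13280 (flp_c L669280) q15515, e3 q13281 (flp_c L669289) q15516, e3 q13282 (flp_c L669298) q15517, e3 q13283 L384431 q11300, e3 q13284 L384436 q11109, e3 q13285 L384445 q11110, e3 q13286 (flp_c L669520) q15542, e3 q13287 (flp_c L658996) q14449, e3 q13288 (flp_c L669336) q15522, e3 q13289 L384477 q11113, e3 q13290 (flp_c L669355) q15524, e3 q13291 (flp_c L669365) q15525, e3 q13292 (flp_c L659288) q14477, e3 q13293 (flp_c L669381) q15527, e3 q13294 L669576 q15549, e3 q13295 (flp_c L668655) q15427, e3 q13296 L384879 q11129, e3 q13297 L384888 q11130, e3 q13298 (flp_c L661188) q14671, e3 q13299 L384904 q11131, e3 q13300 (flp_c L661211) q14673, e3 q13301 L384921 q11132, e3 q13302 (flp_c L661242) q14676, e3 q13303 (flp_c L661262) q14678, e3 q13304 (flp_c L669602) q15552, e3 q13305 (flp_c L669619) q15554, e3 q13306 L385252 q11310, e3 q13307 L385260 q11311, e3 q13308 L385269 q11312, e3 q13309 (flp_c L660975) q14651, e3 q13310 L385283 q11313, e3 q13311 (flp_c L660998) q14653, trivial⟩ (by decide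 +kernel)

theorem ce_c_208 : ∀ r, r < 64 → sm gc (Qf (13312 + r)) = Qf (tab Gen.c (13312 + r)) :=
  edges_tab (sm gc) Qf (tab Gen.c) 13312 [(13312, 11314), (13313, 14655), (13314, 14656), (13315, 14657), (13316, 14658), (13317, 11159), (13318, 15575), (13319, 11161), (13320, 11143), (13321, 15579), (13322, 15580), (13323, 11145), (13324, 15585), (13325, 15586), (13326, 15114), (13327, 11148), (13328, 11149), (13329, 15592), (13330, 15593), (13331, 15594), (13332, 11210), (13333, 15118), (13334, 11153), (13335, 11154), (13336, 15599), (13337, 13337), (13338, 13338), (13339, 13339), (13340, 15602), (13341, 15574), (13342, 11160), (13343, 15605), (13344, 15606), (13345, 11176), (13346, 11163), (13347, 11164), (13348, 15612), (13349, 11181), (13350, 11166), (13351, 11184), (13352, 11185), (13353, 11187), (13354, 15298), (13355, 15604), (13356, 11175), (13357, 14909), (13358, 15541), (13359, 15608), (13360, 15609), (13361, 15610), (13362, 11179), (13363, 11180), (13364, 14723), (13365, 15613), (13366, 15614), (13367, 11183), (13368,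 15615), (13369, 14735), (13370, 11305), (13371, 14060), (13372, 14073), (13373, 11308), (13374, 14715), (13375, 11646)]
    ⟨e3 q13312 L385298 q11314, e3 q13313 (flp_c L661019) q14655, e3 q13314 (flp_c L661031) q14656, e3 q13315 (flp_c L661041) q14657, e3 q13316 (flp_c L661052) q14658, e3 q13317 L385373 q11159, e3 q13318 L669784 q15575, e3 q13319 L385386 q11161, e3 q13320 (flp_c L385394) q11143, e3 q13321 (flp_c L669812) q15579, e3 q13322 (flp_c L669816) q15580, e3 q13323 (flp_c L385408) q11145, e3 q13324 (flp_c L669847) q15585, e3 q13325 (flp_c L669855) q15586, e3 q13326 (flp_c L665863) q15114, e3 q13327 L385437 q11148, e3 q13328 L385444 q11149, e3 q13329 (flp_c L669907) q15592, e3 q13330 (flp_c L669912) q15593, e3 q13331 (flp_c L669921) q15594, e3 q13332 L534682 q11210, e3 q13333 (flp_c L665908) q15118, e3 q13334 L385494 q11153, e3 q13335 L385502 q11154, e3 q13336 (flp_c L669958) q15599, e3 q13337 L385523 q13337, e3 q13338 L385530 q13338, e3 q13339 L385555 q13339, e3 q13340 L669980 q15602, e3 q13341 (flp_c L669777) q15574,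 e3 q13342 (flp_c L385645) q11160, e3 q13343 (flp_c L670008) q15605, e3 q13344 (flp_c L670017) q15606, e3 q13345 L385678 q11176, e3 q13346 L385682 q11163, e3 q13347 L385689 q11164, e3 q13348 (flp_c L670072) q15612, e3 q13349 L385718 q11181, e3 q13350 L385722 q11166, e3 q13351 L385742 q11184, e3 q13352 L385753 q11185, e3 q13353 L385771 q11187, e3 q13354 (flp_c L667565) q15298, e3 q13355 (flp_c L670004) q15604, e3 q13356 L385836 q11175, e3 q13357 (flp_c L663532) q14909, e3 q13358 (flp_c L669503) q15541, e3 q13359 (flp_c L670034) q15608, e3 q13360 (flp_c L670052) q15609, e3 q13361 (flp_c L670063) q15610, e3 q13362 L385888 q11179, e3 q13363 L385896 q11180, e3 q13364 (flp_c L661734) q14723, e3 q13365 (flp_c L670079) q15613, e3 q13366 (flp_c L670093) q15614, e3 q13367 L385930 q11183, e3 q13368 (flp_c L670105) q15615, e3 q13369 (flp_c L661902) q14735, e3 q13370 L385962 q11305, e3 q13371 (flp_c L654779) q14060, e3 q13372 (flp_c L654949) q14073, e3 q13373 L385983 q11308, e3 q13374 (flp_c L661618) q14715, e3 q13375 (flp_c L648702) q11646,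 trivial⟩ (by decide +kernel)

theorem ce_c_209 : ∀ r, r < 64 → sm gc (Qf (13376 + r)) = Qf (tab Gen.c (13376 + r)) :=
  edges_tab (sm gc) Qf (tab Gen.c) 13376 [(13376, 14728), (13377, 13377), (13378, 11340), (13379, 11327), (13380, 11341), (13381, 14968), (13382, 11342), (13383, 14972), (13384, 11343), (13385, 14893), (13386, 14856), (13387, 11213), (13388, 15636), (13389, 11215), (13390, 11204), (13391, 15640), (13392, 15641), (13393, 11206), (13394, 15645), (13395, 15590), (13396, 11209), (13397, 15649), (13398, 14128), (13399, 15597), (13400, 11212), (13401, 15652), (13402, 15635), (13403, 11214), (13404, 15655), (13405, 15656), (13406, 13406), (13407, 11217), (13408, 11218), (13409, 15662), (13410, 13410), (13411, 11220), (13412, 13412), (13413, 13413), (13414, 13414), (13415, 11326), (13416, 11351), (13417, 15667), (13418, 11353), (13419, 11354), (13420, 15672), (13421, 11356), (13422, 11229), (13423, 15676), (13424, 15677), (13425, 11231), (13426, 15682), (13427, 15683), (13428, 15212), (13429, 11234), (13430, 11235),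 (13431, 15689), (13432, 15690), (13433, 15691), (13434, 14850), (13435, 15218), (13436, 15219), (13437, 11239), (13438, 11240), (13439, 11241)]
    ⟨e3 q13376 (flp_c L661818) q14728, e3 q13377 L386101 q13377, e3 q13378 L386435 q11340, e3 q13379 L615818 q11327, e3 q13380 L386454 q11341, e3 q13381 (flp_c L664278) q14968, e3 q13382 L386472 q11342, e3 q13383 (flp_c L664325) q14972, e3 q13384 L386489 q11343, e3 q13385 (flp_c L663339) q14893, e3 q13386 (flp_c L663011) q14856, e3 q13387 L386579 q11213, e3 q13388 L670295 q15636, e3 q13389 L386596 q11215, e3 q13390 (flp_c L386602) q11204, e3 q13391 (flp_c L670331) q15640, e3 q13392 (flp_c L670337) q15641, e3 q13393 (flp_c L386622) q11206, e3 q13394 (flp_c L670366) q15645, e3 q13395 (flp_c L669892) q15590, e3 q13396 L386669 q11209, e3 q13397 (flp_c L670400) q15649, e3 q13398 (flp_c L655579) q14128, e3 q13399 (flp_c L669945) q15597, e3 q13400 L386742 q11212, e3 q13401 L670418 q15652, e3 q13402 (flp_c L670290) q15635, e3 q13403 (flp_c L386925) q11214, e3 q13404 (flp_c L670450) q15655,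 e3 q13405 (flp_c L670462) q15656, e3 q13406 L386963 q13406, e3 q13407 L386968 q11217, e3 q13408 L386978 q11218, e3 q13409 (flp_c L670516) q15662, e3 q13410 L387009 q13410, e3 q13411 L387014 q11220, e3 q13412 L387035 q13412, e3 q13413 L387048 q13413, e3 q13414 L387071 q13414, e3 q13415 L615812 q11326, e3 q13416 L387100 q11351, e3 q13417 L670567 q15667, e3 q13418 L387114 q11353, e3 q13419 L387122 q11354, e3 q13420 L670597 q15672, e3 q13421 L387137 q11356, e3 q13422 (flp_c L387143) q11229, e3 q13423 (flp_c L670631) q15676, e3 q13424 (flp_c L670637) q15677, e3 q13425 (flp_c L387161) q11231, e3 q13426 (flp_c L670670) q15682, e3 q13427 (flp_c L670680) q15683, e3 q13428 (flp_c L666846) q15212, e3 q13429 L387196 q11234, e3 q13430 L387205 q11235, e3 q13431 (flp_c L670732) q15689, e3 q13432 (flp_c L670739) q15690, e3 q13433 (flp_c L670748) q15691, e3 q13434 (flp_c L662955) q14850, e3 q13435 (flp_c L666903) q15218, e3 q13436 (flp_c L666916) q15219, e3 q13437 L387255 q11239, e3 q13438 L387263 q11240, e3 q13439 L387271 q11241, trivial⟩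 (by decide +kernel)

theorem ce_c_210 : ∀ r, r < 64 → sm gc (Qf (13440 + r)) = Qf (tab Gen.c (13440 + r)) :=
  edges_tab (sm gc) Qf (tab Gen.c) 13440 [(13440, 15698), (13441, 15699), (13442, 15700), (13443, 15704), (13444, 11274), (13445, 11243), (13446, 15708), (13447, 15709), (13448, 15230), (13449, 11246), (13450, 11247), (13451, 15717), (13452, 15718), (13453, 15719), (13454, 15236), (13455, 11249), (13456, 11250), (13457, 15726), (13458, 15727), (13459, 15728), (13460, 15242), (13461, 15243), (13462, 15244), (13463, 11254), (13464, 11255), (13465, 11256), (13466, 15737), (13467, 15738), (13468, 15739), (13469, 15251), (13470, 15252), (13471, 15253), (13472, 15254), (13473, 15255), (13474, 11263), (13475, 11264), (13476, 11265), (13477, 14758), (13478, 15750), (13479, 15751), (13480, 15752), (13481, 11560), (13482, 11561), (13483, 11562), (13484, 11563), (13485, 11564), (13486, 11273), (13487, 15760), (13488, 11293), (13489, 11276), (13490, 11277), (13491, 15763), (13492, 15764), (13493, 11297), (13494, 11298), (13495,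 11299), (13496, 15518), (13497, 11281), (13498, 11282), (13499, 15761), (13500, 11301), (13501, 11302), (13502, 11285), (13503, 11303)]
    ⟨e3 q13440 (flp_c L670800) q15698, e3 q13441 (flp_c L670807) q15699, e3 q13442 (flp_c L670815) q15700, e3 q13443 L670842 q15704, e3 q13444 L387303 q11274, e3 q13445 (flp_c L387308) q11243, e3 q13446 (flp_c L670870) q15708, e3 q13447 (flp_c L670876) q15709, e3 q13448 (flp_c L667010) q15230, e3 q13449 L387336 q11246, e3 q13450 L387340 q11247, e3 q13451 (flp_c L670926) q15717, e3 q13452 (flp_c L670932) q15718, e3 q13453 (flp_c L670938) q15719, e3 q13454 (flp_c L667049) q15236, e3 q13455 L387367 q11249, e3 q13456 L387376 q11250, e3 q13457 (flp_c L670983) q15726, e3 q13458 (flp_c L670991) q15727, e3 q13459 (flp_c L671002) q15728, e3 q13460 (flp_c L667100) q15242, e3 q13461 (flp_c L667110) q15243, e3 q13462 (flp_c L667119) q15244, e3 q13463 L387427 q11254, e3 q13464 L387433 q11255, e3 q13465 L387443 q11256, e3 q13466 (flp_c L671067) q15737, e3 q13467 (flp_c L671075) q15738, e3 q13468 (flp_c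 L671083) q15739, e3 q13469 (flp_c L667175) q15251, e3 q13470 (flp_c L667187) q15252, e3 q13471 (flp_c L667198) q15253, e3 q13472 (flp_c L667210) q15254, e3 q13473 (flp_c L667220) q15255, e3 q13474 L387502 q11263, e3 q13475 L387508 q11264, e3 q13476 L387517 q11265, e3 q13477 (flp_c L662134) q14758, e3 q13478 (flp_c L671158) q15750, e3 q13479 (flp_c L671165) q15751, e3 q13480 (flp_c L671173) q15752, e3 q13481 L387550 q11560, e3 q13482 L387557 q11561, e3 q13483 L387576 q11562, e3 q13484 L387584 q11563, e3 q13485 L387606 q11564, e3 q13486 (flp_c L387673) q11273, e3 q13487 (flp_c L671225) q15760, e3 q13488 L387705 q11293, e3 q13489 L387709 q11276, e3 q13490 L387719 q11277, e3 q13491 (flp_c L671256) q15763, e3 q13492 (flp_c L671270) q15764, e3 q13493 L387747 q11297, e3 q13494 L387757 q11298, e3 q13495 L387767 q11299, e3 q13496 (flp_c L669306) q15518, e3 q13497 L387777 q11281, e3 q13498 L387785 q11282, e3 q13499 (flp_c L671234) q15761, e3 q13500 L387803 q11301, e3 q13501 L387816 q11302, e3 q13502 L387825 q11285, e3 q13503 L387838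 q11303, trivial⟩ (by decide +kernel)

theorem ce_c_211 : ∀ r, r < 64 → sm gc (Qf (13504 + r)) = Qf (tab Gen.c (13504 + r)) :=
  edges_tab (sm gc) Qf (tab Gen.c) 13504 [(13504, 11304), (13505, 14756), (13506, 11306), (13507, 14096), (13508, 14757), (13509, 15765), (13510, 15770), (13511, 15772), (13512, 14099), (13513, 14056), (13514, 15144), (13515, 14700), (13516, 15561), (13517, 15562), (13518, 15564), (13519, 11315), (13520, 14731), (13521, 11325), (13522, 11317), (13523, 11331), (13524, 14732), (13525, 14057), (13526, 14733), (13527, 14058), (13528, 14070), (13529, 15780), (13530, 15627), (13531, 15629), (13532, 11344), (13533, 13533), (13534, 11346), (13535, 13535), (13536, 13536), (13537, 13537), (13538, 13538), (13539, 15783), (13540, 15666), (13541, 11352), (13542, 15787), (13543, 15788), (13544, 15791), (13545, 15671), (13546, 11355), (13547, 15794), (13548, 15795), (13549, 13549), (13550, 11358), (13551, 11359), (13552, 15801), (13553, 13553), (13554, 11361), (13555, 13555), (13556, 13556), (13557, 13557), (13558,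 11366), (13559, 13559), (13560, 11368), (13561, 13561), (13562, 13562), (13563, 13563), (13564, 13564), (13565, 13565), (13566, 14751), (13567, 14753)]
    ⟨e3 q13504 L387848 q11304, e3 q13505 (flp_c L662114) q14756, e3 q13506 L387866 q11306, e3 q13507 (flp_c L655211) q14096, e3 q13508 (flp_c L662124) q14757, e3 q13509 (flp_c L671284) q15765, e3 q13510 (flp_c L671318) q15770, e3 q13511 (flp_c L671340) q15772, e3 q13512 (flp_c L655242) q14099, e3 q13513 (flp_c L654723) q14056, e3 q13514 (flp_c L666163) q15144, e3 q13515 (flp_c L661474) q14700, e3 q13516 (flp_c L669672) q15561, e3 q13517 (flp_c L669682) q15562, e3 q13518 (flp_c L669697) q15564, e3 q13519 (flp_c L389714) q11315, e3 q13520 (flp_c L661858) q14731, e3 q13521 L389741 q11325, e3 q13522 L389745 q11317, e3 q13523 L389825 q11331, e3 q13524 (flp_c L661874) q14732, e3 q13525 (flp_c L654739) q14057, e3 q13526 (flp_c L661884) q14733, e3 q13527 (flp_c L654753) q14058, e3 q13528 (flp_c L654904) q14070, e3 q13529 L671416 q15780, e3 q13530 (flp_c L670222) q15627, e3 q13531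 (flp_c L670242) q15629, e3 q13532 (flp_c L390755) q11344, e3 q13533 L390786 q13533, e3 q13534 L390791 q11346, e3 q13535 L390830 q13535, e3 q13536 L390839 q13536, e3 q13537 L390855 q13537, e3 q13538 L390885 q13538, e3 q13539 L671438 q15783, e3 q13540 (flp_c L670559) q15666, e3 q13541 (flp_c L390993) q11352, e3 q13542 (flp_c L671471) q15787, e3 q13543 (flp_c L671477) q15788, e3 q13544 L671495 q15791, e3 q13545 (flp_c L670592) q15671, e3 q13546 (flp_c L391026) q11355, e3 q13547 (flp_c L671521) q15794, e3 q13548 (flp_c L671530) q15795, e3 q13549 L391057 q13549, e3 q13550 L391060 q11358, e3 q13551 L391067 q11359, e3 q13552 (flp_c L671571) q15801, e3 q13553 L391092 q13553, e3 q13554 L391095 q11361, e3 q13555 L391112 q13555, e3 q13556 L391122 q13556, e3 q13557 L391139 q13557, e3 q13558 (flp_c L391156) q11366, e3 q13559 L391185 q13559, e3 q13560 L391188 q11368, e3 q13561 L391221 q13561, e3 q13562 L391230 q13562, e3 q13563 L391244 q13563, e3 q13564 L391268 q13564, e3 q13565 L391487 q13565, e3 q13566 (flp_c L662060) q14751, e3 q13567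 (flp_c L662083) q14753, trivial⟩ (by decide +kernel)

theorem ce_c_212 : ∀ r, r < 64 → sm gc (Qf (13568 + r)) = Qf (tab Gen.c (13568 + r)) :=
  edges_tab (sm gc) Qf (tab Gen.c) 13568 [(13568, 11388), (13569, 14092), (13570, 14755), (13571, 13891), (13572, 11392), (13573, 13573), (13574, 13574), (13575, 11396), (13576, 11397), (13577, 15812), (13578, 15354), (13579, 15353), (13580, 13878), (13581, 13879), (13582, 13954), (13583, 11425), (13584, 11409), (13585, 11427), (13586, 11428), (13587, 13587), (13588, 11415), (13589, 14348), (13590, 15818), (13591, 13874), (13592, 11419), (13593, 11420), (13594, 15820), (13595, 13941), (13596, 11423), (13597, 14264), (13598, 15814), (13599, 13599), (13600, 15815), (13601, 15829), (13602, 13602), (13603, 11431), (13604, 14156), (13605, 14157), (13606, 13985), (13607, 11436), (13608, 13608), (13609, 13609), (13610, 13610), (13611, 13611), (13612, 13612), (13613, 11672), (13614, 11443), (13615, 11444), (13616, 13897), (13617, 13617), (13618, 13618), (13619, 11448), (13620, 11449), (13621,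 15839), (13622, 15840), (13623, 15508), (13624, 13624), (13625, 13625), (13626, 13626), (13627, 13627), (13628, 13628), (13629, 11457), (13630, 11458), (13631, 11459)]
    ⟨e3 q13568 L391547 q11388, e3 q13569 (flp_c L655161) q14092, e3 q13570 (flp_c L662103) q14755, e3 q13571 (flp_c L652611) q13891, e3 q13572 L649420 q11392, e3 q13573 L649430 q13573, e3 q13574 L649437 q13574, e3 q13575 L649445 q11396, e3 q13576 L649452 q11397, e3 q13577 (flp_c L671650) q15812, e3 q13578 (flp_c L668057) q15354, e3 q13579 (flp_c L668045) q15353, e3 q13580 (flp_c L652428) q13878, e3 q13581 (flp_c L652441) q13879, e3 q13582 (flp_c L653468) q13954, e3 q13583 L649521 q11425, e3 q13584 L649527 q11409, e3 q13585 L649536 q11427, e3 q13586 L649545 q11428, e3 q13587 L649557 q13587, e3 q13588 L649561 q11415, e3 q13589 (flp_c L657972) q14348, e3 q13590 (flp_c L671701) q15818, e3 q13591 (flp_c L652364) q13874, e3 q13592 L649596 q11419, e3 q13593 L649604 q11420, e3 q13594 (flp_c L671719) q15820, e3 q13595 (flp_c L653286) q13941, e3 q13596 L649629 q11423,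 e3 q13597 (flp_c L657073) q14264, e3 q13598 (flp_c L671669) q15814, e3 q13599 L649657 q13599, e3 q13600 (flp_c L671678) q15815, e3 q13601 L671802 q15829, e3 q13602 L649680 q13602, e3 q13603 L649689 q11431, e3 q13604 (flp_c L655859) q14156, e3 q13605 (flp_c L655872) q14157, e3 q13606 (flp_c L653864) q13985, e3 q13607 L649725 q11436, e3 q13608 L649736 q13608, e3 q13609 L649742 q13609, e3 q13610 L649751 q13610, e3 q13611 L649756 q13611, e3 q13612 L649763 q13612, e3 q13613 L649772 q11672, e3 q13614 L649777 q11443, e3 q13615 L649784 q11444, e3 q13616 (flp_c L652688) q13897, e3 q13617 L649804 q13617, e3 q13618 L649811 q13618, e3 q13619 L649818 q11448, e3 q13620 L649822 q11449, e3 q13621 (flp_c L671880) q15839, e3 q13622 (flp_c L671886) q15840, e3 q13623 (flp_c L669217) q15508, e3 q13624 L649857 q13624, e3 q13625 L649862 q13625, e3 q13626 L649870 q13626, e3 q13627 L649876 q13627, e3 q13628 L649883 q13628, e3 q13629 L649887 q11457, e3 q13630 L649892 q11458, e3 q13631 L649899 q11459, trivial⟩ (by decide +kernel)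

theorem ce_c_213 : ∀ r, r < 64 → sm gc (Qf (13632 + r)) = Qf (tab Gen.c (13632 + r)) :=
  edges_tab (sm gc) Qf (tab Gen.c) 13632 [(13632, 13632), (13633, 13898), (13634, 15849), (13635, 15850), (13636, 15039), (13637, 15506), (13638, 15507), (13639, 14100), (13640, 11485), (13641, 11486), (13642, 11568), (13643, 11470), (13644, 11471), (13645, 15858), (13646, 11491), (13647, 11474), (13648, 11493), (13649, 11494), (13650, 13650), (13651, 11496), (13652, 15864), (13653, 13653), (13654, 14071), (13655, 11483), (13656, 14706), (13657, 14710), (13658, 15854), (13659, 15855), (13660, 11489), (13661, 13661), (13662, 14452), (13663, 15859), (13664, 13664), (13665, 15860), (13666, 15878), (13667, 13667), (13668, 15881), (13669, 11497), (13670, 15883), (13671, 13671), (13672, 13836), (13673, 11500), (13674, 15888), (13675, 13833), (13676, 11502), (13677, 15891), (13678, 15093), (13679, 15094), (13680, 11505), (13681, 15096), (13682, 15097), (13683, 13683), (13684, 13684), (13685, 11510), (13686, 13686), (13687, 13687), (13688, 13688),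 (13689, 14138), (13690, 11514), (13691, 11515), (13692, 13692), (13693, 13693), (13694, 11518), (13695, 13695)]
    ⟨e3 q13632 L649906 q13632, e3 q13633 (flp_c L652705) q13898, e3 q13634 (flp_c L671953) q15849, e3 q13635 (flp_c L671960) q15850, e3 q13636 (flp_c L665108) q15039, e3 q13637 (flp_c L669197) q15506, e3 q13638 (flp_c L669207) q15507, e3 q13639 (flp_c L655254) q14100, e3 q13640 L649970 q11485, e3 q13641 L649978 q11486, e3 q13642 L649986 q11568, e3 q13643 L649990 q11470, e3 q13644 L649997 q11471, e3 q13645 (flp_c L672011) q15858, e3 q13646 L650015 q11491, e3 q13647 L650021 q11474, e3 q13648 L650030 q11493, e3 q13649 L650038 q11494, e3 q13650 L650048 q13650, e3 q13651 L650053 q11496, e3 q13652 L672054 q15864, e3 q13653 L650065 q13653, e3 q13654 (flp_c L654917) q14071, e3 q13655 L650079 q11483, e3 q13656 (flp_c L661520) q14706, e3 q13657 (flp_c L661556) q14710, e3 q13658 (flp_c L671981) q15854, e3 q13659 (flp_c L671990) q15855, e3 q13660 L650120 q11489, e3 q13661 L650133 q13661, e3 q13662 (flp_c L659022) q14452, e3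 q13663 (flp_c L672021) q15859, e3 q13664 L650156 q13664, e3 q13665 (flp_c L672030) q15860, e3 q13666 L672164 q15878, e3 q13667 L650177 q13667, e3 q13668 L672185 q15881, e3 q13669 (flp_c L650190) q11497, e3 q13670 (flp_c L672202) q15883, e3 q13671 L650205 q13671, e3 q13672 (flp_c L651793) q13836, e3 q13673 L650221 q11500, e3 q13674 (flp_c L672246) q15888, e3 q13675 (flp_c L651753) q13833, e3 q13676 L650249 q11502, e3 q13677 (flp_c L672277) q15891, e3 q13678 (flp_c L665621) q15093, e3 q13679 (flp_c L665634) q15094, e3 q13680 L650286 q11505, e3 q13681 (flp_c L665656) q15096, e3 q13682 (flp_c L665667) q15097, e3 q13683 L650315 q13683, e3 q13684 L650330 q13684, e3 q13685 L650335 q11510, e3 q13686 L650347 q13686, e3 q13687 L650361 q13687, e3 q13688 L650369 q13688, e3 q13689 (flp_c L655674) q14138, e3 q13690 L650382 q11514, e3 q13691 L650391 q11515, e3 q13692 L650402 q13692, e3 q13693 L650416 q13693, e3 q13694 L650424 q11518, e3 q13695 L650439 q13695, trivial⟩ (by decide +kernel)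

theorem ce_c_214 : ∀ r, r < 64 → sm gc (Qf (13696 + r)) = Qf (tab Gen.c (13696 + r)) :=
  edges_tab (sm gc) Qf (tab Gen.c) 13696 [(13696, 13696), (13697, 13697), (13698, 13698), (13699, 13842), (13700, 13700), (13701, 11526), (13702, 15909), (13703, 13703), (13704, 13704), (13705, 13705), (13706, 14089), (13707, 11530), (13708, 11531), (13709, 11532), (13710, 15917), (13711, 15918), (13712, 15919), (13713, 13713), (13714, 13714), (13715, 13715), (13716, 11536), (13717, 11537), (13718, 11538), (13719, 15927), (13720, 15928), (13721, 13721), (13722, 13722), (13723, 13723), (13724, 13724), (13725, 13725), (13726, 11545), (13727, 11546), (13728, 11547), (13729, 13729), (13730, 15936), (13731, 15937), (13732, 15938), (13733, 13733), (13734, 13734), (13735, 13735), (13736, 13736), (13737, 13737), (13738, 13738), (13739, 13817), (13740, 11557), (13741, 11558), (13742, 11559), (13743, 15201), (13744, 13744), (13745, 15950), (13746, 15951), (13747, 15757), (13748, 15758), (13749, 15759), (13750, 15856), (13751, 15857), (13752, 13752),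 (13753, 13753), (13754, 13839), (13755, 13755), (13756, 13756), (13757, 13757), (13758, 13758), (13759, 13759)]
    ⟨e3 q13696 L650446 q13696, e3 q13697 L650459 q13697, e3 q13698 L650466 q13698, e3 q13699 (flp_c L651857) q13842, e3 q13700 L650483 q13700, e3 q13701 L650491 q11526, e3 q13702 (flp_c L672452) q15909, e3 q13703 L650512 q13703, e3 q13704 L650525 q13704, e3 q13705 L650534 q13705, e3 q13706 (flp_c L655126) q14089, e3 q13707 L650549 q11530, e3 q13708 L650556 q11531, e3 q13709 L650563 q11532, e3 q13710 (flp_c L672524) q15917, e3 q13711 (flp_c L672532) q15918, e3 q13712 (flp_c L672540) q15919, e3 q13713 L650592 q13713, e3 q13714 L650605 q13714, e3 q13715 L650614 q13715, e3 q13716 L650624 q11536, e3 q13717 L650631 q11537, e3 q13718 L650640 q11538, e3 q13719 (flp_c L672616) q15927, e3 q13720 (flp_c L672624) q15928, e3 q13721 L650668 q13721, e3 q13722 L650676 q13722, e3 q13723 L650685 q13723, e3 q13724 L650691 q13724, e3 q13725 L650700 q13725, e3 q13726 L650706 q11545, e3 q13727 L650713 q11546, e3 q13728 L650719 q11547,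 e3 q13729 L650731 q13729, e3 q13730 (flp_c L672690) q15936, e3 q13731 (flp_c L672697) q15937, e3 q13732 (flp_c L672705) q15938, e3 q13733 L650761 q13733, e3 q13734 L650769 q13734, e3 q13735 L650777 q13735, e3 q13736 L650785 q13736, e3 q13737 L650792 q13737, e3 q13738 L650801 q13738, e3 q13739 (flp_c L651541) q13817, e3 q13740 L650817 q11557, e3 q13741 L650824 q11558, e3 q13742 L650831 q11559, e3 q13743 (flp_c L666743) q15201, e3 q13744 L650844 q13744, e3 q13745 (flp_c L672805) q15950, e3 q13746 (flp_c L672813) q15951, e3 q13747 (flp_c L671201) q15757, e3 q13748 (flp_c L671210) q15758, e3 q13749 (flp_c L671217) q15759, e3 q13750 (flp_c L671998) q15856, e3 q13751 (flp_c L672004) q15857, e3 q13752 L650898 q13752, e3 q13753 L650907 q13753, e3 q13754 (flp_c L651824) q13839, e3 q13755 L650921 q13755, e3 q13756 L650927 q13756, e3 q13757 L650932 q13757, e3 q13758 L650938 q13758, e3 q13759 L650947 q13759, trivial⟩ (by decide +kernel)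

theorem ce_c_215 : ∀ r, r < 64 → sm gc (Qf (13760 + r)) = Qf (tab Gen.c (13760 + r)) :=
  edges_tab (sm gc) Qf (tab Gen.c) 13760 [(13760, 13760), (13761, 11652), (13762, 11662), (13763, 13763), (13764, 11664), (13765, 13765), (13766, 13919), (13767, 13850), (13768, 11676), (13769, 11647), (13770, 11648), (13771, 14686), (13772, 11651), (13773, 11631), (13774, 15961), (13775, 11661), (13776, 11636), (13777, 15964), (13778, 13778), (13779, 13779), (13780, 13780), (13781, 13781), (13782, 13782), (13783, 11677), (13784, 14659), (13785, 15625), (13786, 15145), (13787, 14701), (13788, 11660), (13789, 15971), (13790, 11663), (13791, 15973), (13792, 13792), (13793, 11666), (13794, 15976), (13795, 13848), (13796, 13849), (13797, 13961), (13798, 11781), (13799, 11782), (13800, 11783), (13801, 11837), (13802, 11838), (13803, 11839), (13804, 11860), (13805, 11861), (13806, 11862), (13807, 11863), (13808, 11864), (13809, 11865), (13810, 11690), (13811, 12385), (13812, 15990), (13813, 11957), (13814, 11958), (13815, 11959), (13816, 11960),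 (13817, 13739), (13818, 11996), (13819, 11997), (13820, 11998), (13821, 11999), (13822, 12000), (13823, 12001)]
    ⟨e3 q13760 L650963 q13760, e3 q13761 L650979 q11652, e3 q13762 L650997 q11662, e3 q13763 L651013 q13763, e3 q13764 L651023 q11664, e3 q13765 L651035 q13765, e3 q13766 L652978 q13919, e3 q13767 (flp_c L651987) q13850, e3 q13768 L651050 q11676, e3 q13769 L651062 q11647, e3 q13770 L651079 q11648, e3 q13771 (flp_c L661337) q14686, e3 q13772 L651095 q11651, e3 q13773 L651108 q11631, e3 q13774 L672870 q15961, e3 q13775 L651129 q11661, e3 q13776 (flp_c L651134) q11636, e3 q13777 (flp_c L672891) q15964, e3 q13778 L651146 q13778, e3 q13779 L651153 q13779, e3 q13780 L651158 q13780, e3 q13781 L651165 q13781, e3 q13782 L651171 q13782, e3 q13783 L651178 q11677, e3 q13784 (flp_c L661065) q14659, e3 q13785 (flp_c L670203) q15625, e3 q13786 (flp_c L666177) q15145, e3 q13787 (flp_c L661481) q14701, e3 q13788 (flp_c L651213) q11660, e3 q13789 (flp_c L672938) q15971, e3 q13790 (flp_c L651228) q11663, e3 q13791 (flp_c L672951)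 q15973, e3 q13792 L651247 q13792, e3 q13793 L651250 q11666, e3 q13794 (flp_c L672972) q15976, e3 q13795 (flp_c L651941) q13848, e3 q13796 (flp_c L651960) q13849, e3 q13797 (flp_c L653570) q13961, e3 q13798 L651290 q11781, e3 q13799 L651303 q11782, e3 q13800 L651316 q11783, e3 q13801 L651331 q11837, e3 q13802 L651345 q11838, e3 q13803 L651360 q11839, e3 q13804 L651375 q11860, e3 q13805 L651389 q11861, e3 q13806 L651404 q11862, e3 q13807 L651417 q11863, e3 q13808 L651426 q11864, e3 q13809 L651434 q11865, e3 q13810 L651446 q11690, e3 q13811 L651461 q12385, e3 q13812 (flp_c L673177) q15990, e3 q13813 L651489 q11957, e3 q13814 L651506 q11958, e3 q13815 L651518 q11959, e3 q13816 L651530 q11960, e3 q13817 L651541 q13739, e3 q13818 L651556 q11996, e3 q13819 L651570 q11997, e3 q13820 L651585 q11998, e3 q13821 L651600 q11999, e3 q13822 L651612 q12000, e3 q13823 L651626 q12001, trivial⟩ (by decide +kernel)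

theorem ce_c_216 : ∀ r, r < 64 → sm gc (Qf (13824 + r)) = Qf (tab Gen.c (13824 + r)) :=
  edges_tab (sm gc) Qf (tab Gen.c) 13824 [(13824, 12002), (13825, 12003), (13826, 12004), (13827, 16005), (13828, 11713), (13829, 11705), (13830, 16007), (13831, 11717), (13832, 11708), (13833, 13675), (13834, 11710), (13835, 16011), (13836, 13672), (13837, 11712), (13838, 16014), (13839, 13754), (13840, 16006), (13841, 11715), (13842, 13699), (13843, 16008), (13844, 13844), (13845, 11787), (13846, 11788), (13847, 11725), (13848, 13795), (13849, 13796), (13850, 13767), (13851, 11728), (13852, 11845), (13853, 11737), (13854, 11769), (13855, 12751), (13856, 11747), (13857, 11748), (13858, 11749), (13859, 16026), (13860, 11751), (13861, 11752), (13862, 13862), (13863, 11753), (13864, 13864), (13865, 13865), (13866, 13866), (13867, 16023), (13868, 16025), (13869, 11750), (13870, 16034), (13871, 13871), (13872, 13872), (13873, 13873), (13874, 13591), (13875, 12756), (13876, 11770), (13877, 13107), (13878, 13580), (13879, 13581), (13880, 12732),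 (13881, 12752), (13882, 12746), (13883, 12754), (13884, 12741), (13885, 11784), (13886, 11776), (13887, 13072)]
    ⟨e3 q13824 L651637 q12002, e3 q13825 L651645 q12003, e3 q13826 L651653 q12004, e3 q13827 L673371 q16005, e3 q13828 L651681 q11713, e3 q13829 L651687 q11705, e3 q13830 (flp_c L673403) q16007, e3 q13831 L651721 q11717, e3 q13832 L651733 q11708, e3 q13833 L651753 q13675, e3 q13834 L651758 q11710, e3 q13835 (flp_c L673462) q16011, e3 q13836 L651793 q13672, e3 q13837 L651798 q11712, e3 q13838 (flp_c L673505) q16014, e3 q13839 L651824 q13754, e3 q13840 (flp_c L673387) q16006, e3 q13841 L651845 q11715, e3 q13842 L651857 q13699, e3 q13843 (flp_c L673422) q16008, e3 q13844 L651879 q13844, e3 q13845 L651886 q11787, e3 q13846 L651904 q11788, e3 q13847 L651922 q11725, e3 q13848 L651941 q13795, e3 q13849 L651960 q13796, e3 q13850 L651987 q13767, e3 q13851 (flp_c L651992) q11728, e3 q13852 L652016 q11845, e3 q13853 L652034 q11737, e3 q13854 L652053 q11769, e3 q13855 L652072 q12751, e3 q13856 L652087 q11747, e3 q13857 L652106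 q11748, e3 q13858 L652124 q11749, e3 q13859 L673668 q16026, e3 q13860 L652148 q11751, e3 q13861 L652164 q11752, e3 q13862 L652182 q13862, e3 q13863 L652190 q11753, e3 q13864 L652205 q13864, e3 q13865 L652217 q13865, e3 q13866 L652230 q13866, e3 q13867 (flp_c L673620) q16023, e3 q13868 (flp_c L673656) q16025, e3 q13869 (flp_c L652275) q11750, e3 q13870 (flp_c L673790) q16034, e3 q13871 L652313 q13871, e3 q13872 L652332 q13872, e3 q13873 L652347 q13873, e3 q13874 L652364 q13591, e3 q13875 L652385 q12756, e3 q13876 L652395 q11770, e3 q13877 L652413 q13107, e3 q13878 L652428 q13580, e3 q13879 L652441 q13581, e3 q13880 L652457 q12732, e3 q13881 L652474 q12752, e3 q13882 L652491 q12746, e3 q13883 L652501 q12754, e3 q13884 L652518 q12741, e3 q13885 L652528 q11784, e3 q13886 (flp_c L652536) q11776, e3 q13887 L652560 q13072, trivial⟩ (by decide +kernel)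

theorem ce_c_217 : ∀ r, r < 64 → sm gc (Qf (13888 + r)) = Qf (tab Gen.c (13888 + r)) :=
  edges_tab (sm gc) Qf (tab Gen.c) 13888 [(13888, 16048), (13889, 13079), (13890, 13082), (13891, 13571), (13892, 15977), (13893, 15978), (13894, 15979), (13895, 11786), (13896, 12804), (13897, 13616), (13898, 13633), (13899, 16062), (13900, 12811), (13901, 11800), (13902, 11801), (13903, 11802), (13904, 16071), (13905, 11804), (13906, 11792), (13907, 16075), (13908, 16076), (13909, 13909), (13910, 11807), (13911, 13911), (13912, 13912), (13913, 13913), (13914, 13914), (13915, 16065), (13916, 16066), (13917, 16086), (13918, 16068), (13919, 13766), (13920, 16070), (13921, 11803), (13922, 16089), (13923, 11816), (13924, 11806), (13925, 16092), (13926, 12267), (13927, 12368), (13928, 16088), (13929, 11815), (13930, 16090), (13931, 16091), (13932, 11818), (13933, 12739), (13934, 13934), (13935, 13935), (13936, 13936), (13937, 13221), (13938, 13938), (13939, 13939), (13940, 13119), (13941, 13595), (13942, 11827), (13943, 16106), (13944, 12735),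 (13945, 12736), (13946, 11840), (13947, 11841), (13948, 12813), (13949, 11842), (13950, 12815), (13951, 12816)]
    ⟨e3 q13888 (flp_c L674025) q16048, e3 q13889 L652584 q13079, e3 q13890 L652597 q13082, e3 q13891 L652611 q13571, e3 q13892 (flp_c L672982) q15977, e3 q13893 (flp_c L672996) q15978, e3 q13894 (flp_c L673010) q15979, e3 q13895 L652654 q11786, e3 q13896 L652672 q12804, e3 q13897 L652688 q13616, e3 q13898 L652705 q13633, e3 q13899 L674230 q16062, e3 q13900 L652728 q12811, e3 q13901 L652741 q11800, e3 q13902 L652755 q11801, e3 q13903 L652769 q11802, e3 q13904 L674361 q16071, e3 q13905 L652789 q11804, e3 q13906 (flp_c L652797) q11792, e3 q13907 (flp_c L674407) q16075, e3 q13908 (flp_c L674416) q16076, e3 q13909 L652835 q13909, e3 q13910 L652843 q11807, e3 q13911 L652859 q13911, e3 q13912 L652869 q13912, e3 q13913 L652882 q13913, e3 q13914 L652893 q13914, e3 q13915 (flp_c L674275) q16065, e3 q13916 (flp_c L674295) q16066, e3 q13917 L674542 q16086, e3 q13918 (flp_c L674321) q16068, e3 q13919 (flp_c L652978) q13766,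 e3 q13920 (flp_c L674351) q16070, e3 q13921 (flp_c L652998) q11803, e3 q13922 (flp_c L674593) q16089, e3 q13923 L653033 q11816, e3 q13924 L653039 q11806, e3 q13925 (flp_c L674630) q16092, e3 q13926 L653064 q12267, e3 q13927 L653081 q12368, e3 q13928 (flp_c L674587) q16088, e3 q13929 L653111 q11815, e3 q13930 (flp_c L674604) q16090, e3 q13931 (flp_c L674619) q16091, e3 q13932 L653150 q11818, e3 q13933 L653169 q12739, e3 q13934 L653186 q13934, e3 q13935 L653201 q13935, e3 q13936 L653216 q13936, e3 q13937 (flp_c L653233) q13221, e3 q13938 L653241 q13938, e3 q13939 L653254 q13939, e3 q13940 L653271 q13119, e3 q13941 L653286 q13595, e3 q13942 L653302 q11827, e3 q13943 (flp_c L674852) q16106, e3 q13944 L653332 q12735, e3 q13945 L653348 q12736, e3 q13946 L653363 q11840, e3 q13947 L653377 q11841, e3 q13948 L653395 q12813, e3 q13949 L653405 q11842, e3 q13950 L653419 q12815, e3 q13951 L653433 q12816, trivial⟩ (by decide +kernel)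

theorem ce_c_218 : ∀ r, r < 64 → sm gc (Qf (13952 + r)) = Qf (tab Gen.c (13952 + r)) :=
  edges_tab (sm gc) Qf (tab Gen.c) 13952 [(13952, 13105), (13953, 13109), (13954, 13582), (13955, 15980), (13956, 15981), (13957, 15982), (13958, 16058), (13959, 16108), (13960, 12779), (13961, 13797), (13962, 12806), (13963, 12808), (13964, 12796), (13965, 12810), (13966, 12798), (13967, 12799), (13968, 11866), (13969, 11867), (13970, 16131), (13971, 11869), (13972, 12782), (13973, 11870), (13974, 11852), (13975, 13197), (13976, 16135), (13977, 12337), (13978, 11855), (13979, 11856), (13980, 16140), (13981, 16141), (13982, 16142), (13983, 13205), (13984, 13210), (13985, 13606), (13986, 15983), (13987, 15984), (13988, 15985), (13989, 15986), (13990, 15987), (13991, 15988), (13992, 16130), (13993, 11868), (13994, 16155), (13995, 11872), (13996, 11879), (13997, 13186), (13998, 13998), (13999, 13999), (14000, 14000), (14001, 14001), (14002, 16164), (14003, 14003), (14004, 11883), (14005, 12936), (14006, 16167), (14007, 11899), (14008, 11900),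 (14009, 16173), (14010, 11902), (14011, 16176), (14012, 11904), (14013, 11888), (14014, 16180), (14015, 16181)]
    ⟨e3 q13952 L653445 q13105, e3 q13953 L653456 q13109, e3 q13954 L653468 q13582, e3 q13955 (flp_c L673024) q15980, e3 q13956 (flp_c L673040) q15981, e3 q13957 (flp_c L673057) q15982, e3 q13958 (flp_c L674171) q16058, e3 q13959 (flp_c L674881) q16108, e3 q13960 L653552 q12779, e3 q13961 L653570 q13797, e3 q13962 L653586 q12806, e3 q13963 L653600 q12808, e3 q13964 L653613 q12796, e3 q13965 L653623 q12810, e3 q13966 L653634 q12798, e3 q13967 L653645 q12799, e3 q13968 L653655 q11866, e3 q13969 L653671 q11867, e3 q13970 L675205 q16131, e3 q13971 L653691 q11869, e3 q13972 L653709 q12782, e3 q13973 L653719 q11870, e3 q13974 (flp_c L653727) q11852, e3 q13975 L653749 q13197, e3 q13976 (flp_c L675261) q16135, e3 q13977 L653779 q12337, e3 q13978 L653789 q11855, e3 q13979 L653803 q11856, e3 q13980 (flp_c L675329) q16140, e3 q13981 (flp_c L675345) q16141, e3 q13982 (flp_c L675359) q16142, e3 q13983 L653837 q13205, e3 q13984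 L653850 q13210, e3 q13985 L653864 q13606, e3 q13986 (flp_c L673075) q15983, e3 q13987 (flp_c L673091) q15984, e3 q13988 (flp_c L673108) q15985, e3 q13989 (flp_c L673126) q15986, e3 q13990 (flp_c L673139) q15987, e3 q13991 (flp_c L673151) q15988, e3 q13992 (flp_c L675197) q16130, e3 q13993 (flp_c L653935) q11868, e3 q13994 (flp_c L675505) q16155, e3 q13995 L653975 q11872, e3 q13996 L653991 q11879, e3 q13997 L654008 q13186, e3 q13998 L654028 q13998, e3 q13999 L654042 q13999, e3 q14000 L654055 q14000, e3 q14001 L654066 q14001, e3 q14002 L675621 q16164, e3 q14003 L654087 q14003, e3 q14004 (flp_c L654093) q11883, e3 q14005 L654113 q12936, e3 q14006 (flp_c L675663) q16167, e3 q14007 L654138 q11899, e3 q14008 L654151 q11900, e3 q14009 L675737 q16173, e3 q14010 L654173 q11902, e3 q14011 L675767 q16176, e3 q14012 L654196 q11904, e3 q14013 (flp_c L654205) q11888, e3 q14014 (flp_c L675822) q16180, e3 q14015 (flp_c L675833) q16181, trivial⟩ (by decide +kernel)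

theorem ce_c_219 : ∀ r, r < 64 → sm gc (Qf (14016 + r)) = Qf (tab Gen.c (14016 + r)) :=
  edges_tab (sm gc) Qf (tab Gen.c) 14016 [(14016, 12454), (14017, 11891), (14018, 11892), (14019, 16186), (14020, 16187), (14021, 14021), (14022, 14022), (14023, 14023), (14024, 14024), (14025, 14025), (14026, 14026), (14027, 16170), (14028, 16196), (14029, 16172), (14030, 11901), (14031, 16199), (14032, 16200), (14033, 11903), (14034, 16203), (14035, 11918), (14036, 11906), (14037, 16206), (14038, 11921), (14039, 11922), (14040, 11909), (14041, 12483), (14042, 11911), (14043, 16210), (14044, 16198), (14045, 11914), (14046, 11915), (14047, 16214), (14048, 16215), (14049, 11917), (14050, 16217), (14051, 16205), (14052, 11920), (14053, 16207), (14054, 16208), (14055, 12035), (14056, 13513), (14057, 13525), (14058, 13527), (14059, 12457), (14060, 13371), (14061, 14061), (14062, 14062), (14063, 14063), (14064, 16235), (14065, 14065), (14066, 11929), (14067, 12502), (14068, 16238), (14069, 14069), (14070, 13528), (14071, 13654), (14072, 11936),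 (14073, 13372), (14074, 16244), (14075, 11938), (14076, 14076), (14077, 14077), (14078, 14078), (14079, 14079)]
    ⟨e3 q14016 L654242 q12454, e3 q14017 L654254 q11891, e3 q14018 L654266 q11892, e3 q14019 (flp_c L675892) q16186, e3 q14020 (flp_c L675904) q16187, e3 q14021 L654303 q14021, e3 q14022 L654314 q14022, e3 q14023 L654326 q14023, e3 q14024 L654336 q14024, e3 q14025 L654347 q14025, e3 q14026 L654359 q14026, e3 q14027 (flp_c L675704) q16170, e3 q14028 L676009 q16196, e3 q14029 (flp_c L675729) q16172, e3 q14030 (flp_c L654408) q11901, e3 q14031 (flp_c L676057) q16199, e3 q14032 (flp_c L676069) q16200, e3 q14033 (flp_c L654443) q11903, e3 q14034 (flp_c L676109) q16203, e3 q14035 L654474 q11918, e3 q14036 L654482 q11906, e3 q14037 (flp_c L676145) q16206, e3 q14038 L654501 q11921, e3 q14039 L654518 q11922, e3 q14040 L654528 q11909, e3 q14041 L654538 q12483, e3 q14042 (flp_c L654551) q11911, e3 q14043 (flp_c L676193) q16210, e3 q14044 (flp_c L676049) q16198, e3 q14045 L654596 q11914, e3 q14046 L654609 q11915, e3 q14047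 (flp_c L676250) q16214, e3 q14048 (flp_c L676264) q16215, e3 q14049 L654644 q11917, e3 q14050 (flp_c L676289) q16217, e3 q14051 (flp_c L676134) q16205, e3 q14052 L654678 q11920, e3 q14053 (flp_c L676157) q16207, e3 q14054 (flp_c L676171) q16208, e3 q14055 L654713 q12035, e3 q14056 L654723 q13513, e3 q14057 L654739 q13525, e3 q14058 L654753 q13527, e3 q14059 L654767 q12457, e3 q14060 L654779 q13371, e3 q14061 L654793 q14061, e3 q14062 L654804 q14062, e3 q14063 L654815 q14063, e3 q14064 L676525 q16235, e3 q14065 L654835 q14065, e3 q14066 (flp_c L654842) q11929, e3 q14067 L654862 q12502, e3 q14068 (flp_c L676570) q16238, e3 q14069 L654888 q14069, e3 q14070 L654904 q13528, e3 q14071 L654917 q13654, e3 q14072 L654933 q11936, e3 q14073 L654949 q13372, e3 q14074 (flp_c L676656) q16244, e3 q14075 L654972 q11938, e3 q14076 L654984 q14076, e3 q14077 L654996 q14077, e3 q14078 L655007 q14078, e3 q14079 L655016 q14079, trivial⟩ (by decide +kernel)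

theorem ce_c_220 : ∀ r, r < 64 → sm gc (Qf (14080 + r)) = Qf (tab Gen.c (14080 + r)) :=
  edges_tab (sm gc) Qf (tab Gen.c) 14080 [(14080, 16252), (14081, 14081), (14082, 11942), (14083, 12529), (14084, 16255), (14085, 11961), (14086, 11962), (14087, 16261), (14088, 11964), (14089, 13706), (14090, 11965), (14091, 11947), (14092, 13569), (14093, 16265), (14094, 11951), (14095, 12717), (14096, 13507), (14097, 16269), (14098, 13258), (14099, 13512), (14100, 13639), (14101, 12728), (14102, 12646), (14103, 13045), (14104, 15992), (14105, 15993), (14106, 15994), (14107, 16258), (14108, 16260), (14109, 11963), (14110, 16283), (14111, 11967), (14112, 16285), (14113, 11969), (14114, 14114), (14115, 14115), (14116, 14116), (14117, 14117), (14118, 16293), (14119, 14119), (14120, 16296), (14121, 14121), (14122, 11974), (14123, 16300), (14124, 16301), (14125, 12563), (14126, 11977), (14127, 11978), (14128, 13398), (14129, 16306), (14130, 16307), (14131, 12005), (14132, 16313), (14133, 12007), (14134, 11981), (14135, 16317), (14136, 16318),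 (14137, 11983), (14138, 13689), (14139, 16323), (14140, 12578), (14141, 11986), (14142, 11987), (14143, 16330)]
    ⟨e3 q14080 L676746 q16252, e3 q14081 L655033 q14081, e3 q14082 (flp_c L655039) q11942, e3 q14083 L655059 q12529, e3 q14084 (flp_c L676790) q16255, e3 q14085 L655080 q11961, e3 q14086 L655091 q11962, e3 q14087 L676860 q16261, e3 q14088 L655111 q11964, e3 q14089 L655126 q13706, e3 q14090 L655134 q11965, e3 q14091 (flp_c L655143) q11947, e3 q14092 L655161 q13569, e3 q14093 (flp_c L676909) q16265, e3 q14094 L655183 q11951, e3 q14095 L655198 q12717, e3 q14096 L655211 q13507, e3 q14097 (flp_c L676957) q16269, e3 q14098 L655231 q13258, e3 q14099 L655242 q13512, e3 q14100 L655254 q13639, e3 q14101 L655271 q12728, e3 q14102 L655282 q12646, e3 q14103 L655293 q13045, e3 q14104 (flp_c L673210) q15992, e3 q14105 (flp_c L673225) q15993, e3 q14106 (flp_c L673238) q15994, e3 q14107 (flp_c L676827) q16258, e3 q14108 (flp_c L676850) q16260, e3 q14109 (flp_c L655360) q11963, e3 q14110 (flp_c L677132) q16283, e3 q14111 L655396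 q11967, e3 q14112 (flp_c L677164) q16285, e3 q14113 L655424 q11969, e3 q14114 L655436 q14114, e3 q14115 L655448 q14115, e3 q14116 L655458 q14116, e3 q14117 L655470 q14117, e3 q14118 L677249 q16293, e3 q14119 L655489 q14119, e3 q14120 L677276 q16296, e3 q14121 L655507 q14121, e3 q14122 (flp_c L655512) q11974, e3 q14123 (flp_c L677330) q16300, e3 q14124 (flp_c L677342) q16301, e3 q14125 L655546 q12563, e3 q14126 L655556 q11977, e3 q14127 L655567 q11978, e3 q14128 L655579 q13398, e3 q14129 (flp_c L677391) q16306, e3 q14130 (flp_c L677402) q16307, e3 q14131 L655608 q12005, e3 q14132 L677465 q16313, e3 q14133 L655627 q12007, e3 q14134 (flp_c L655633) q11981, e3 q14135 (flp_c L677503) q16317, e3 q14136 (flp_c L677509) q16318, e3 q14137 (flp_c L655657) q11983, e3 q14138 L655674 q13689, e3 q14139 (flp_c L677554) q16323, e3 q14140 L655696 q12578, e3 q14141 L655702 q11986, e3 q14142 L655712 q11987, e3 q14143 (flp_c L677641) q16330, trivial⟩ (by decide +kernel)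

theorem ce_c_221 : ∀ r, r < 64 → sm gc (Qf (14144 + r)) = Qf (tab Gen.c (14144 + r)) :=
  edges_tab (sm gc) Qf (tab Gen.c) 14144 [(14144, 16331), (14145, 16332), (14146, 12584), (14147, 12585), (14148, 12586), (14149, 11991), (14150, 11992), (14151, 11993), (14152, 16339), (14153, 16340), (14154, 16341), (14155, 13208), (14156, 13604), (14157, 13605), (14158, 15996), (14159, 15997), (14160, 15998), (14161, 15999), (14162, 16000), (14163, 16001), (14164, 16357), (14165, 16002), (14166, 16003), (14167, 16312), (14168, 12006), (14169, 16360), (14170, 12022), (14171, 12009), (14172, 12010), (14173, 16366), (14174, 16367), (14175, 12027), (14176, 12012), (14177, 16371), (14178, 12030), (14179, 12031), (14180, 12015), (14181, 12033), (14182, 12034), (14183, 16209), (14184, 16359), (14185, 12021), (14186, 16380), (14187, 16362), (14188, 16363), (14189, 16364), (14190, 12025), (14191, 12026), (14192, 16385), (14193, 16369), (14194, 16370), (14195, 12029), (14196, 16372), (14197, 16373), (14198, 16219), (14199, 16375), (14200, 16278),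 (14201, 16222), (14202, 14202), (14203, 12066), (14204, 12042), (14205, 12068), (14206, 12084), (14207, 12050)]
    ⟨e3 q14144 (flp_c L677651) q16331, e3 q14145 (flp_c L677663) q16332, e3 q14146 L655742 q12584, e3 q14147 L655761 q12585, e3 q14148 L655774 q12586, e3 q14149 L655787 q11991, e3 q14150 L655800 q11992, e3 q14151 L655809 q11993, e3 q14152 (flp_c L677736) q16339, e3 q14153 (flp_c L677750) q16340, e3 q14154 (flp_c L677763) q16341, e3 q14155 L655846 q13208, e3 q14156 L655859 q13604, e3 q14157 L655872 q13605, e3 q14158 (flp_c L673265) q15996, e3 q14159 (flp_c L673279) q15997, e3 q14160 (flp_c L673294) q15998, e3 q14161 (flp_c L673310) q15999, e3 q14162 (flp_c L673323) q16000, e3 q14163 (flp_c L673336) q16001, e3 q14164 L677907 q16357, e3 q14165 (flp_c L673349) q16002, e3 q14166 (flp_c L673358) q16003, e3 q14167 (flp_c L677458) q16312, e3 q14168 (flp_c L655959) q12006, e3 q14169 (flp_c L677942) q16360, e3 q14170 L655991 q12022, e3 q14171 L655997 q12009, e3 q14172 L656008 q12010, e3 q14173 (flp_c L678013) q16366, e3 q14174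 (flp_c L678025) q16367, e3 q14175 L656047 q12027, e3 q14176 L656053 q12012, e3 q14177 (flp_c L678076) q16371, e3 q14178 L656074 q12030, e3 q14179 L656087 q12031, e3 q14180 L656093 q12015, e3 q14181 L656104 q12033, e3 q14182 L656115 q12034, e3 q14183 (flp_c L676186) q16209, e3 q14184 (flp_c L677936) q16359, e3 q14185 L656141 q12021, e3 q14186 (flp_c L678169) q16380, e3 q14187 (flp_c L677965) q16362, e3 q14188 (flp_c L677978) q16363, e3 q14189 (flp_c L677991) q16364, e3 q14190 L656197 q12025, e3 q14191 L656212 q12026, e3 q14192 (flp_c L678229) q16385, e3 q14193 (flp_c L678051) q16369, e3 q14194 (flp_c L678065) q16370, e3 q14195 L656254 q12029, e3 q14196 (flp_c L678090) q16372, e3 q14197 (flp_c L678100) q16373, e3 q14198 (flp_c L676314) q16219, e3 q14199 (flp_c L678116) q16375, e3 q14200 (flp_c L677070) q16278, e3 q14201 (flp_c L676353) q16222, e3 q14202 L656315 q14202, e3 q14203 L656337 q12066, e3 q14204 L656348 q12042, e3 q14205 L656365 q12068, e3 q14206 L656384 q12084, e3 q14207 L656394 q12050, trivial⟩ (by decide +kernel)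

theorem ce_c_222 : ∀ r, r < 64 → sm gc (Qf (14208 + r)) = Qf (tab Gen.c (14208 + r)) :=
  edges_tab (sm gc) Qf (tab Gen.c) 14208 [(14208, 12048), (14209, 12086), (14210, 12087), (14211, 12089), (14212, 12090), (14213, 12047), (14214, 16399), (14215, 12177), (14216, 13116), (14217, 14217), (14218, 13117), (14219, 16039), (14220, 12055), (14221, 16404), (14222, 14222), (14223, 14223), (14224, 14224), (14225, 14225), (14226, 14226), (14227, 14227), (14228, 14228), (14229, 12069), (14230, 12070), (14231, 12071), (14232, 16420), (14233, 12073), (14234, 12074), (14235, 12075), (14236, 12094), (14237, 16393), (14238, 16394), (14239, 16415), (14240, 16416), (14241, 16417), (14242, 16419), (14243, 12072), (14244, 16430), (14245, 16423), (14246, 14246), (14247, 14247), (14248, 16434), (14249, 14249), (14250, 12091), (14251, 12092), (14252, 12093), (14253, 16421), (14254, 12095), (14255, 12081), (14256, 16418), (14257, 16444), (14258, 12176), (14259, 12098), (14260, 16395), (14261, 13121), (14262, 16396), (14263, 16397), (14264, 13597),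 (14265, 16398), (14266, 16097), (14267, 16437), (14268, 16439), (14269, 12220), (14270, 16441), (14271, 16424)]
    ⟨e3 q14208 L656409 q12048, e3 q14209 L656426 q12086, e3 q14210 L656440 q12087, e3 q14211 L656453 q12089, e3 q14212 L656466 q12090, e3 q14213 (flp_c L656473) q12047, e3 q14214 (flp_c L678406) q16399, e3 q14215 L656504 q12177, e3 q14216 L656530 q13116, e3 q14217 L656537 q14217, e3 q14218 L656550 q13117, e3 q14219 (flp_c L673876) q16039, e3 q14220 L656574 q12055, e3 q14221 (flp_c L678477) q16404, e3 q14222 L656600 q14222, e3 q14223 L656615 q14223, e3 q14224 L656628 q14224, e3 q14225 L656641 q14225, e3 q14226 L656651 q14226, e3 q14227 L656664 q14227, e3 q14228 L656678 q14228, e3 q14229 L656690 q12069, e3 q14230 L656703 q12070, e3 q14231 L656715 q12071, e3 q14232 L678706 q16420, e3 q14233 L656733 q12073, e3 q14234 L656747 q12074, e3 q14235 L656760 q12075, e3 q14236 L656773 q12094, e3 q14237 (flp_c L678316) q16393, e3 q14238 (flp_c L678334) q16394, e3 q14239 (flp_c L678644) q16415, e3 q14240 (flp_c L678661) q16416,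 e3 q14241 (flp_c L678672) q16417, e3 q14242 (flp_c L678698) q16419, e3 q14243 (flp_c L656849) q12072, e3 q14244 (flp_c L678854) q16430, e3 q14245 (flp_c L678752) q16423, e3 q14246 L656891 q14246, e3 q14247 L656907 q14247, e3 q14248 L678902 q16434, e3 q14249 L656925 q14249, e3 q14250 L656937 q12091, e3 q14251 L656950 q12092, e3 q14252 L656959 q12093, e3 q14253 (flp_c L678726) q16421, e3 q14254 L656973 q12095, e3 q14255 (flp_c L656981) q12081, e3 q14256 (flp_c L678690) q16418, e3 q14257 (flp_c L679022) q16444, e3 q14258 L657012 q12176, e3 q14259 L657021 q12098, e3 q14260 (flp_c L678348) q16395, e3 q14261 L657043 q13121, e3 q14262 (flp_c L678364) q16396, e3 q14263 (flp_c L678379) q16397, e3 q14264 L657073 q13597, e3 q14265 (flp_c L678392) q16398, e3 q14266 (flp_c L674705) q16097, e3 q14267 (flp_c L678930) q16437, e3 q14268 (flp_c L678961) q16439, e3 q14269 (flp_c L657148) q12220, e3 q14270 (flp_c L678992) q16441, e3 q14271 (flp_c L678769) q16424, trivial⟩ (by decide +kernel)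

theorem ce_c_223 : ∀ r, r < 64 → sm gc (Qf (14272 + r)) = Qf (tab Gen.c (14272 + r)) :=
  edges_tab (sm gc) Qf (tab Gen.c) 14272 [(14272, 12105), (14273, 12097), (14274, 16456), (14275, 12863), (14276, 13118), (14277, 16052), (14278, 16455), (14279, 12107), (14280, 12774), (14281, 14281), (14282, 14282), (14283, 16463), (14284, 14284), (14285, 14285), (14286, 14286), (14287, 14287), (14288, 16468), (14289, 14289), (14290, 12127), (14291, 12128), (14292, 12129), (14293, 16476), (14294, 12131), (14295, 12119), (14296, 16480), (14297, 16481), (14298, 12134), (14299, 14299), (14300, 14300), (14301, 14301), (14302, 14302), (14303, 16471), (14304, 16473), (14305, 16475), (14306, 12130), (14307, 16489), (14308, 14308), (14309, 12133), (14310, 16492), (14311, 14311), (14312, 14312), (14313, 14313), (14314, 16498), (14315, 14315), (14316, 12138), (14317, 16502), (14318, 16503), (14319, 12157), (14320, 16443), (14321, 12158), (14322, 13164), (14323, 12159), (14324, 12143), (14325, 16510), (14326, 16511), (14327, 13058), (14328, 12146),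 (14329, 12147), (14330, 16517), (14331, 16518), (14332, 16519), (14333, 14333), (14334, 14334), (14335, 14335)]
    ⟨e3 q14272 L657181 q12105, e3 q14273 L657185 q12097, e3 q14274 (flp_c L679176) q16456, e3 q14275 L657205 q12863, e3 q14276 L657220 q13118, e3 q14277 (flp_c L674083) q16052, e3 q14278 (flp_c L679166) q16455, e3 q14279 L657258 q12107, e3 q14280 L657275 q12774, e3 q14281 L657288 q14281, e3 q14282 L657301 q14282, e3 q14283 L679263 q16463, e3 q14284 L657320 q14284, e3 q14285 L657333 q14285, e3 q14286 L657345 q14286, e3 q14287 L657355 q14287, e3 q14288 L679310 q16468, e3 q14289 L657373 q14289, e3 q14290 L657383 q12127, e3 q14291 L657392 q12128, e3 q14292 L657405 q12129, e3 q14293 L679404 q16476, e3 q14294 L657423 q12131, e3 q14295 (flp_c L657429) q12119, e3 q14296 (flp_c L679446) q16480, e3 q14297 (flp_c L679455) q16481, e3 q14298 L657463 q12134, e3 q14299 L657478 q14299, e3 q14300 L657490 q14300, e3 q14301 L657502 q14301, e3 q14302 L657511 q14302, e3 q14303 (flp_c L679346) q16471, e3 q14304 (flp_c L679369) q16473,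 e3 q14305 (flp_c L679396) q16475, e3 q14306 (flp_c L657551) q12130, e3 q14307 (flp_c L679547) q16489, e3 q14308 L657581 q14308, e3 q14309 L657586 q12133, e3 q14310 (flp_c L679579) q16492, e3 q14311 L657608 q14311, e3 q14312 L657623 q14312, e3 q14313 L657632 q14313, e3 q14314 L679655 q16498, e3 q14315 L657646 q14315, e3 q14316 (flp_c L657650) q12138, e3 q14317 (flp_c L679704) q16502, e3 q14318 (flp_c L679714) q16503, e3 q14319 L657678 q12157, e3 q14320 (flp_c L679018) q16443, e3 q14321 L657695 q12158, e3 q14322 L657710 q13164, e3 q14323 L657718 q12159, e3 q14324 (flp_c L657726) q12143, e3 q14325 (flp_c L679778) q16510, e3 q14326 (flp_c L679789) q16511, e3 q14327 L657762 q13058, e3 q14328 L657766 q12146, e3 q14329 L657773 q12147, e3 q14330 (flp_c L679860) q16517, e3 q14331 (flp_c L679869) q16518, e3 q14332 (flp_c L679878) q16519, e3 q14333 L657807 q14333, e3 q14334 L657818 q14334, e3 q14335 L657827 q14335, trivial⟩ (by decide +kernel)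

theorem ce_c_224 : ∀ r, r < 64 → sm gc (Qf (14336 + r)) = Qf (tab Gen.c (14336 + r)) :=
  edges_tab (sm gc) Qf (tab Gen.c) 14336 [(14336, 14336), (14337, 14337), (14338, 14338), (14339, 14339), (14340, 14340), (14341, 12161), (14342, 16528), (14343, 12166), (14344, 12167), (14345, 12164), (14346, 16529), (14347, 16530), (14348, 13589), (14349, 12218), (14350, 12179), (14351, 12221), (14352, 12222), (14353, 12244), (14354, 12193), (14355, 16448), (14356, 12190), (14357, 12246), (14358, 12247), (14359, 12248), (14360, 12249), (14361, 12250), (14362, 12252), (14363, 12253), (14364, 12427), (14365, 12391), (14366, 12189), (14367, 16546), (14368, 12201), (14369, 12192), (14370, 16549), (14371, 12729), (14372, 14372), (14373, 12195), (14374, 12726), (14375, 16551), (14376, 12197), (14377, 16554), (14378, 16116), (14379, 12200), (14380, 16557), (14381, 16055), (14382, 16548), (14383, 12203), (14384, 13077), (14385, 13078), (14386, 14386), (14387, 14387), (14388, 14388), (14389, 16126), (14390, 14390), (14391, 14391), (14392, 14392),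 (14393, 14393), (14394, 14394), (14395, 14395), (14396, 16575), (14397, 14397), (14398, 12223), (14399, 12224)]
    ⟨e3 q14336 L657833 q14336, e3 q14337 L657842 q14337, e3 q14338 L657850 q14338, e3 q14339 L657861 q14339, e3 q14340 L657873 q14340, e3 q14341 L657887 q12161, e3 q14342 (flp_c L679966) q16528, e3 q14343 L657906 q12166, e3 q14344 L657920 q12167, e3 q14345 L657931 q12164, e3 q14346 (flp_c L679978) q16529, e3 q14347 (flp_c L679991) q16530, e3 q14348 L657972 q13589, e3 q14349 L657994 q12218, e3 q14350 L658005 q12179, e3 q14351 L658020 q12221, e3 q14352 L658030 q12222, e3 q14353 L658047 q12244, e3 q14354 L658057 q12193, e3 q14355 (flp_c L679066) q16448, e3 q14356 L658083 q12190, e3 q14357 L658101 q12246, e3 q14358 L658113 q12247, e3 q14359 L658126 q12248, e3 q14360 L658138 q12249, e3 q14361 L658145 q12250, e3 q14362 L658156 q12252, e3 q14363 L658168 q12253, e3 q14364 L658186 q12427, e3 q14365 L658197 q12391, e3 q14366 (flp_c L658207) q12189, e3 q14367 (flp_c L680219) q16546, e3 q14368 L658238 q12201, e3 q14369 L658242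 q12192, e3 q14370 (flp_c L680262) q16549, e3 q14371 (flp_c L658270) q12729, e3 q14372 L658277 q14372, e3 q14373 (flp_c L658287) q12195, e3 q14374 L658304 q12726, e3 q14375 (flp_c L680290) q16551, e3 q14376 (flp_c L658322) q12197, e3 q14377 (flp_c L680327) q16554, e3 q14378 (flp_c L675001) q16116, e3 q14379 L658355 q12200, e3 q14380 (flp_c L680365) q16557, e3 q14381 (flp_c L674127) q16055, e3 q14382 (flp_c L680247) q16548, e3 q14383 L658390 q12203, e3 q14384 L658402 q13077, e3 q14385 L658417 q13078, e3 q14386 L658430 q14386, e3 q14387 L658445 q14387, e3 q14388 L658456 q14388, e3 q14389 (flp_c L675147) q16126, e3 q14390 L658475 q14390, e3 q14391 L658488 q14391, e3 q14392 L658499 q14392, e3 q14393 L658512 q14393, e3 q14394 L658525 q14394, e3 q14395 L658535 q14395, e3 q14396 L680591 q16575, e3 q14397 L658551 q14397, e3 q14398 L658561 q12223, e3 q14399 L658573 q12224, trivial⟩ (by decide +kernel)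

theorem ce_c_225 : ∀ r, r < 64 → sm gc (Qf (14400 + r)) = Qf (tab Gen.c (14400 + r)) :=
  edges_tab (sm gc) Qf (tab Gen.c) 14400 [(14400, 12225), (14401, 16584), (14402, 12227), (14403, 12215), (14404, 16440), (14405, 16588), (14406, 12230), (14407, 12258), (14408, 16534), (14409, 16453), (14410, 16535), (14411, 16578), (14412, 16579), (14413, 16597), (14414, 16581), (14415, 16583), (14416, 12226), (14417, 16599), (14418, 14418), (14419, 12229), (14420, 16602), (14421, 14421), (14422, 14422), (14423, 14423), (14424, 14424), (14425, 16609), (14426, 14426), (14427, 12234), (14428, 16613), (14429, 16614), (14430, 12254), (14431, 12255), (14432, 16621), (14433, 12257), (14434, 16585), (14435, 12259), (14436, 12239), (14437, 16582), (14438, 16626), (14439, 16074), (14440, 12242), (14441, 12243), (14442, 16633), (14443, 16634), (14444, 16635), (14445, 16536), (14446, 16538), (14447, 16539), (14448, 16540), (14449, 13287), (14450, 16541), (14451, 16542), (14452, 13662), (14453, 16543), (14454, 16618), (14455, 16591), (14456, 16620),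 (14457, 12256), (14458, 16651), (14459, 16652), (14460, 16592), (14461, 12273), (14462, 12261), (14463, 16657)]
    ⟨e3 q14400 L658585 q12225, e3 q14401 L680701 q16584, e3 q14402 L658601 q12227, e3 q14403 (flp_c L658609) q12215, e3 q14404 (flp_c L678982) q16440, e3 q14405 (flp_c L680749) q16588, e3 q14406 L658635 q12230, e3 q14407 L658647 q12258, e3 q14408 (flp_c L680046) q16534, e3 q14409 (flp_c L679135) q16453, e3 q14410 (flp_c L680064) q16535, e3 q14411 (flp_c L680631) q16578, e3 q14412 (flp_c L680647) q16579, e3 q14413 L680848 q16597, e3 q14414 (flp_c L680667) q16581, e3 q14415 (flp_c L680693) q16583, e3 q14416 (flp_c L658738) q12226, e3 q14417 (flp_c L680878) q16599, e3 q14418 L658763 q14418, e3 q14419 L658768 q12229, e3 q14420 (flp_c L680915) q16602, e3 q14421 L658788 q14421, e3 q14422 L658798 q14422, e3 q14423 L658807 q14423, e3 q14424 L658816 q14424, e3 q14425 L680984 q16609, e3 q14426 L658830 q14426, e3 q14427 (flp_c L658836) q12234, e3 q14428 (flp_c L681015) q16613, e3 q14429 (flp_c L681025) q16614, e3 q14430 L658856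 q12254, e3 q14431 L658866 q12255, e3 q14432 L681088 q16621, e3 q14433 L658882 q12257, e3 q14434 (flp_c L680717) q16585, e3 q14435 L658898 q12259, e3 q14436 (flp_c L658906) q12239, e3 q14437 (flp_c L680685) q16582, e3 q14438 (flp_c L681124) q16626, e3 q14439 (flp_c L674401) q16074, e3 q14440 L658932 q12242, e3 q14441 L658936 q12243, e3 q14442 (flp_c L681170) q16633, e3 q14443 (flp_c L681178) q16634, e3 q14444 (flp_c L681184) q16635, e3 q14445 (flp_c L680077) q16536, e3 q14446 (flp_c L680106) q16538, e3 q14447 (flp_c L680122) q16539, e3 q14448 (flp_c L680135) q16540, e3 q14449 L658996 q13287, e3 q14450 (flp_c L680148) q16541, e3 q14451 (flp_c L680163) q16542, e3 q14452 L659022 q13662, e3 q14453 (flp_c L680175) q16543, e3 q14454 (flp_c L681060) q16618, e3 q14455 (flp_c L680777) q16591, e3 q14456 (flp_c L681078) q16620, e3 q14457 (flp_c L659076) q12256, e3 q14458 (flp_c L681358) q16651, e3 q14459 (flp_c L681369) q16652, e3 q14460 (flp_c L680790) q16592, e3 q14461 L659119 q12273, e3 q14462 L659123 q12261, e3 q14463 (flp_c L681421)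 q16657, trivial⟩ (by decide +kernel)

theorem ce_c_226 : ∀ r, r < 64 → sm gc (Qf (14464 + r)) = Qf (tab Gen.c (14464 + r)) :=
  edges_tab (sm gc) Qf (tab Gen.c) 14464 [(14464, 12276), (14465, 12277), (14466, 12264), (14467, 12852), (14468, 12722), (14469, 13274), (14470, 16650), (14471, 12269), (14472, 12270), (14473, 16666), (14474, 16667), (14475, 16113), (14476, 12272), (14477, 13292), (14478, 16149), (14479, 16656), (14480, 12275), (14481, 16658), (14482, 16659), (14483, 12382), (14484, 12280), (14485, 13139), (14486, 16426), (14487, 12858), (14488, 13241), (14489, 12861), (14490, 14490), (14491, 14491), (14492, 14492), (14493, 16684), (14494, 14494), (14495, 12285), (14496, 16687), (14497, 14497), (14498, 14498), (14499, 14499), (14500, 14500), (14501, 14501), (14502, 16696), (14503, 14503), (14504, 12292), (14505, 16700), (14506, 16701), (14507, 12308), (14508, 12309), (14509, 16707), (14510, 12311), (14511, 16710), (14512, 12313), (14513, 12297), (14514, 16714), (14515, 16715), (14516, 16686), (14517, 12300), (14518,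 12301), (14519, 16722), (14520, 16723), (14521, 14521), (14522, 14522), (14523, 14523), (14524, 14524), (14525, 14525), (14526, 14526), (14527, 16704)]
    ⟨e3 q14464 L659138 q12276, e3 q14465 L659147 q12277, e3 q14466 L659153 q12264, e3 q14467 L659161 q12852, e3 q14468 L659178 q12722, e3 q14469 L659192 q13274, e3 q14470 (flp_c L681352) q16650, e3 q14471 L659216 q12269, e3 q14472 L659230 q12270, e3 q14473 (flp_c L681529) q16666, e3 q14474 (flp_c L681544) q16667, e3 q14475 (flp_c L674955) q16113, e3 q14476 L659273 q12272, e3 q14477 L659288 q13292, e3 q14478 (flp_c L675439) q16149, e3 q14479 (flp_c L681415) q16656, e3 q14480 L659312 q12275, e3 q14481 (flp_c L681432) q16658, e3 q14482 (flp_c L681446) q16659, e3 q14483 L659345 q12382, e3 q14484 L659356 q12280, e3 q14485 L659372 q13139, e3 q14486 (flp_c L678795) q16426, e3 q14487 L659395 q12858, e3 q14488 L659408 q13241, e3 q14489 L659418 q12861, e3 q14490 L659427 q14490, e3 q14491 L659436 q14491, e3 q14492 L659449 q14492, e3 q14493 L681739 q16684, e3 q14494 L659466 q14494, e3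 q14495 (flp_c L659471) q12285, e3 q14496 (flp_c L681771) q16687, e3 q14497 L659494 q14497, e3 q14498 L659509 q14498, e3 q14499 L659521 q14499, e3 q14500 L659530 q14500, e3 q14501 L659539 q14501, e3 q14502 L681854 q16696, e3 q14503 L659555 q14503, e3 q14504 (flp_c L659559) q12292, e3 q14505 (flp_c L681899) q16700, e3 q14506 (flp_c L681909) q16701, e3 q14507 L659587 q12308, e3 q14508 L659597 q12309, e3 q14509 L681961 q16707, e3 q14510 L659617 q12311, e3 q14511 L681989 q16710, e3 q14512 L659635 q12313, e3 q14513 (flp_c L659641) q12297, e3 q14514 (flp_c L682029) q16714, e3 q14515 (flp_c L682038) q16715, e3 q14516 (flp_c L681765) q16686, e3 q14517 L659675 q12300, e3 q14518 L659682 q12301, e3 q14519 (flp_c L682101) q16722, e3 q14520 (flp_c L682110) q16723, e3 q14521 L659708 q14521, e3 q14522 L659720 q14522, e3 q14523 L659733 q14523, e3 q14524 L659741 q14524, e3 q14525 L659750 q14525, e3 q14526 L659760 q14526, e3 q14527 (flp_c L681933) q16704, trivial⟩ (by decide +kernel)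

theorem ce_c_227 : ∀ r, r < 64 → sm gc (Qf (14528 + r)) = Qf (tab Gen.c (14528 + r)) :=
  edges_tab (sm gc) Qf (tab Gen.c) 14528 [(14528, 16732), (14529, 16706), (14530, 12310), (14531, 16347), (14532, 16736), (14533, 12312), (14534, 16740), (14535, 14535), (14536, 12315), (14537, 16744), (14538, 14538), (14539, 14539), (14540, 12318), (14541, 14541), (14542, 14542), (14543, 14543), (14544, 14544), (14545, 16754), (14546, 14546), (14547, 16757), (14548, 14548), (14549, 12323), (14550, 16761), (14551, 16762), (14552, 12792), (14553, 12326), (14554, 12327), (14555, 16587), (14556, 16767), (14557, 16768), (14558, 12354), (14559, 16774), (14560, 12356), (14561, 12330), (14562, 16778), (14563, 16779), (14564, 12332), (14565, 16783), (14566, 16784), (14567, 13159), (14568, 12335), (14569, 12336), (14570, 16791), (14571, 16792), (14572, 16793), (14573, 13153), (14574, 13129), (14575, 16139), (14576, 12340), (14577, 12341), (14578, 12342), (14579, 16800), (14580, 16801), (14581, 16802), (14582, 14582), (14583, 14583), (14584, 14584),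 (14585, 14585), (14586, 14586), (14587, 14587), (14588, 14588), (14589, 14589), (14590, 14590), (14591, 16817)]
    ⟨e3 q14528 L682194 q16732, e3 q14529 (flp_c L681953) q16706, e3 q14530 (flp_c L659796) q12310, e3 q14531 (flp_c L677818) q16347, e3 q14532 (flp_c L682239) q16736, e3 q14533 (flp_c L659827) q12312, e3 q14534 (flp_c L682282) q16740, e3 q14535 L659855 q14535, e3 q14536 L659860 q12315, e3 q14537 (flp_c L682323) q16744, e3 q14538 L659876 q14538, e3 q14539 L659887 q14539, e3 q14540 L659895 q12318, e3 q14541 L659905 q14541, e3 q14542 L659917 q14542, e3 q14543 L659927 q14543, e3 q14544 L659938 q14544, e3 q14545 L682414 q16754, e3 q14546 L659953 q14546, e3 q14547 L682437 q16757, e3 q14548 L659966 q14548, e3 q14549 (flp_c L659970) q12323, e3 q14550 (flp_c L682484) q16761, e3 q14551 (flp_c L682494) q16762, e3 q14552 L659997 q12792, e3 q14553 L660007 q12326, e3 q14554 L660015 q12327, e3 q14555 (flp_c L680743) q16587, e3 q14556 (flp_c L682534) q16767, e3 q14557 (flp_c L682542) q16768, e3 q14558 L660040 q12354, e3 q14559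 L682584 q16774, e3 q14560 L660056 q12356, e3 q14561 (flp_c L660064) q12330, e3 q14562 (flp_c L682622) q16778, e3 q14563 (flp_c L682628) q16779, e3 q14564 (flp_c L660086) q12332, e3 q14565 (flp_c L682660) q16783, e3 q14566 (flp_c L682671) q16784, e3 q14567 L660120 q13159, e3 q14568 L660124 q12335, e3 q14569 L660131 q12336, e3 q14570 (flp_c L682746) q16791, e3 q14571 (flp_c L682751) q16792, e3 q14572 (flp_c L682760) q16793, e3 q14573 L660155 q13153, e3 q14574 L660171 q13129, e3 q14575 (flp_c L675311) q16139, e3 q14576 L660186 q12340, e3 q14577 L660193 q12341, e3 q14578 L660200 q12342, e3 q14579 (flp_c L682813) q16800, e3 q14580 (flp_c L682820) q16801, e3 q14581 (flp_c L682829) q16802, e3 q14582 L660226 q14582, e3 q14583 L660236 q14583, e3 q14584 L660247 q14584, e3 q14585 L660257 q14585, e3 q14586 L660265 q14586, e3 q14587 L660272 q14587, e3 q14588 L660280 q14588, e3 q14589 L660286 q14589, e3 q14590 L660293 q14590, e3 q14591 L682942 q16817, trivial⟩ (by decide +kernel)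

theorem ce_c_228 : ∀ r, r < 64 → sm gc (Qf (14592 + r)) = Qf (tab Gen.c (14592 + r)) :=
  edges_tab (sm gc) Qf (tab Gen.c) 14592 [(14592, 14592), (14593, 14593), (14594, 16773), (14595, 12355), (14596, 16818), (14597, 16819), (14598, 12371), (14599, 12358), (14600, 12359), (14601, 16826), (14602, 16827), (14603, 12361), (14604, 16829), (14605, 12377), (14606, 12378), (14607, 12364), (14608, 12380), (14609, 12381), (14610, 16660), (14611, 13181), (14612, 13182), (14613, 16822), (14614, 16823), (14615, 16824), (14616, 12374), (14617, 12375), (14618, 16841), (14619, 16830), (14620, 16831), (14621, 16833), (14622, 16115), (14623, 12647), (14624, 15991), (14625, 12429), (14626, 12430), (14627, 12431), (14628, 12432), (14629, 12913), (14630, 12461), (14631, 12462), (14632, 12463), (14633, 12464), (14634, 12465), (14635, 12466), (14636, 12467), (14637, 12469), (14638, 12470), (14639, 15995), (14640, 12493), (14641, 14641), (14642, 14642), (14643, 14643), (14644, 16859), (14645, 14645), (14646, 12416), (14647, 16861), (14648, 14648),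 (14649, 12433), (14650, 12434), (14651, 13309), (14652, 12435), (14653, 13311), (14654, 12436), (14655, 13313)]
    ⟨e3 q14592 L660304 q14592, e3 q14593 L660317 q14593, e3 q14594 (flp_c L682576) q16773, e3 q14595 (flp_c L660337) q12355, e3 q14596 (flp_c L682950) q16818, e3 q14597 (flp_c L682960) q16819, e3 q14598 L660375 q12371, e3 q14599 L660379 q12358, e3 q14600 L660387 q12359, e3 q14601 (flp_c L683030) q16826, e3 q14602 (flp_c L683039) q16827, e3 q14603 L660417 q12361, e3 q14604 (flp_c L683060) q16829, e3 q14605 L660436 q12377, e3 q14606 L660448 q12378, e3 q14607 L660457 q12364, e3 q14608 L660467 q12380, e3 q14609 L660476 q12381, e3 q14610 (flp_c L681458) q16660, e3 q14611 L660490 q13181, e3 q14612 L660502 q13182, e3 q14613 (flp_c L682988) q16822, e3 q14614 (flp_c L683001) q16823, e3 q14615 (flp_c L683013) q16824, e3 q14616 L660548 q12374, e3 q14617 L660562 q12375, e3 q14618 (flp_c L683183) q16841, e3 q14619 (flp_c L683072) q16830, e3 q14620 (flp_c L683083) q16831, e3 q14621 (flp_c L683100) q16833, e3 q14622 (flp_c L674984)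 q16115, e3 q14623 L660635 q12647, e3 q14624 (flp_c L673192) q15991, e3 q14625 L660658 q12429, e3 q14626 L660671 q12430, e3 q14627 L660683 q12431, e3 q14628 L660696 q12432, e3 q14629 L660708 q12913, e3 q14630 L660724 q12461, e3 q14631 L660736 q12462, e3 q14632 L660746 q12463, e3 q14633 L660759 q12464, e3 q14634 L660770 q12465, e3 q14635 L660784 q12466, e3 q14636 L660796 q12467, e3 q14637 L660807 q12469, e3 q14638 L660819 q12470, e3 q14639 (flp_c L673256) q15995, e3 q14640 L660837 q12493, e3 q14641 L660854 q14641, e3 q14642 L660867 q14642, e3 q14643 L660878 q14643, e3 q14644 L683411 q16859, e3 q14645 L660900 q14645, e3 q14646 (flp_c L660907) q12416, e3 q14647 (flp_c L683440) q16861, e3 q14648 L660938 q14648, e3 q14649 L660948 q12433, e3 q14650 L660961 q12434, e3 q14651 L660975 q13309, e3 q14652 L660983 q12435, e3 q14653 L660998 q13311, e3 q14654 L661006 q12436, e3 q14655 L661019 q13313, trivial⟩ (by decide +kernel)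

theorem ce_c_229 : ∀ r, r < 64 → sm gc (Qf (14656 + r)) = Qf (tab Gen.c (14656 + r)) :=
  edges_tab (sm gc) Qf (tab Gen.c) 14656 [(14656, 13314), (14657, 13315), (14658, 13316), (14659, 13784), (14660, 16545), (14661, 16648), (14662, 16844), (14663, 16845), (14664, 16221), (14665, 16863), (14666, 16865), (14667, 12648), (14668, 12649), (14669, 12650), (14670, 12651), (14671, 13298), (14672, 12652), (14673, 13300), (14674, 12653), (14675, 12917), (14676, 13302), (14677, 12919), (14678, 13303), (14679, 12471), (14680, 16896), (14681, 12473), (14682, 12447), (14683, 16900), (14684, 16901), (14685, 12449), (14686, 13771), (14687, 16905), (14688, 16179), (14689, 12452), (14690, 12453), (14691, 16910), (14692, 16911), (14693, 16912), (14694, 16185), (14695, 12458), (14696, 12459), (14697, 16226), (14698, 16228), (14699, 16917), (14700, 13515), (14701, 13787), (14702, 16846), (14703, 16847), (14704, 16848), (14705, 16849), (14706, 13656), (14707, 16850), (14708, 16851), (14709, 16932), (14710, 13657), (14711, 16852), (14712, 16934),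 (14713, 16895), (14714, 12472), (14715, 13374), (14716, 16936), (14717, 12487), (14718, 12475), (14719, 12476)]
    ⟨e3 q14656 L661031 q13314, e3 q14657 L661041 q13315, e3 q14658 L661052 q13316, e3 q14659 L661065 q13784, e3 q14660 (flp_c L680204) q16545, e3 q14661 (flp_c L681320) q16648, e3 q14662 (flp_c L683225) q16844, e3 q14663 (flp_c L683239) q16845, e3 q14664 L676344 q16221, e3 q14665 (flp_c L683465) q16863, e3 q14666 (flp_c L683488) q16865, e3 q14667 L661139 q12648, e3 q14668 L661150 q12649, e3 q14669 L661161 q12650, e3 q14670 L661174 q12651, e3 q14671 L661188 q13298, e3 q14672 L661196 q12652, e3 q14673 L661211 q13300, e3 q14674 L661219 q12653, e3 q14675 L661231 q12917, e3 q14676 L661242 q13302, e3 q14677 L661252 q12919, e3 q14678 L661262 q13303, e3 q14679 L661273 q12471, e3 q14680 L683817 q16896, e3 q14681 L661288 q12473, e3 q14682 (flp_c L661296) q12447, e3 q14683 (flp_c L683861) q16900, e3 q14684 (flp_c L683871) q16901, e3 q14685 (flp_c L661320) q12449, e3 q14686 L661337 q13771, e3 q14687 (flp_c L683903) q16905,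 e3 q14688 (flp_c L675810) q16179, e3 q14689 L661371 q12452, e3 q14690 L661385 q12453, e3 q14691 (flp_c L683958) q16910, e3 q14692 (flp_c L683972) q16911, e3 q14693 (flp_c L683986) q16912, e3 q14694 (flp_c L675877) q16185, e3 q14695 L661428 q12458, e3 q14696 L661439 q12459, e3 q14697 (flp_c L676414) q16226, e3 q14698 (flp_c L676439) q16228, e3 q14699 (flp_c L684035) q16917, e3 q14700 L661474 q13515, e3 q14701 L661481 q13787, e3 q14702 (flp_c L683248) q16846, e3 q14703 (flp_c L683262) q16847, e3 q14704 (flp_c L683276) q16848, e3 q14705 (flp_c L683287) q16849, e3 q14706 L661520 q13656, e3 q14707 (flp_c L683303) q16850, e3 q14708 (flp_c L683318) q16851, e3 q14709 L684172 q16932, e3 q14710 L661556 q13657, e3 q14711 (flp_c L683333) q16852, e3 q14712 L684192 q16934, e3 q14713 (flp_c L683808) q16895, e3 q14714 (flp_c L661598) q12472, e3 q14715 L661618 q13374, e3 q14716 (flp_c L684230) q16936, e3 q14717 L661654 q12487, e3 q14718 L661664 q12475, e3 q14719 L661678 q12476, trivial⟩ (by decide +kernel)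

theorem ce_c_230 : ∀ r, r < 64 → sm gc (Qf (14720 + r)) = Qf (tab Gen.c (14720 + r)) :=
  edges_tab (sm gc) Qf (tab Gen.c) 14720 [(14720, 16940), (14721, 12478), (14722, 12494), (14723, 13364), (14724, 12486), (14725, 12491), (14726, 12490), (14727, 16938), (14728, 13376), (14729, 12644), (14730, 12654), (14731, 13520), (14732, 13524), (14733, 13526), (14734, 16236), (14735, 13369), (14736, 16239), (14737, 14737), (14738, 14738), (14739, 16951), (14740, 14740), (14741, 16954), (14742, 14742), (14743, 12507), (14744, 16956), (14745, 12510), (14746, 16958), (14747, 12661), (14748, 12662), (14749, 12663), (14750, 12664), (14751, 13566), (14752, 12665), (14753, 13567), (14754, 12666), (14755, 13570), (14756, 13505), (14757, 13508), (14758, 13477), (14759, 12540), (14760, 16975), (14761, 12542), (14762, 12522), (14763, 16979), (14764, 16980), (14765, 12524), (14766, 16984), (14767, 16985), (14768, 16253), (14769, 12527), (14770, 12528), (14771, 16990), (14772, 16991), (14773, 16992), (14774, 16256), (14775, 12532), (14776, 12533),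 (14777, 16996), (14778, 14778), (14779, 14779), (14780, 14780), (14781, 14781), (14782, 14782), (14783, 17003)]
    ⟨e3 q14720 (flp_c L684296) q16940, e3 q14721 L661706 q12478, e3 q14722 L661721 q12494, e3 q14723 L661734 q13364, e3 q14724 L661752 q12486, e3 q14725 L661767 q12491, e3 q14726 L661784 q12490, e3 q14727 (flp_c L684264) q16938, e3 q14728 L661818 q13376, e3 q14729 L661835 q12644, e3 q14730 L661843 q12654, e3 q14731 L661858 q13520, e3 q14732 L661874 q13524, e3 q14733 L661884 q13526, e3 q14734 (flp_c L676544) q16236, e3 q14735 L661902 q13369, e3 q14736 (flp_c L676584) q16239, e3 q14737 L661922 q14737, e3 q14738 L661932 q14738, e3 q14739 L684413 q16951, e3 q14740 L661949 q14740, e3 q14741 L684436 q16954, e3 q14742 L661965 q14742, e3 q14743 (flp_c L661971) q12507, e3 q14744 (flp_c L684457) q16956, e3 q14745 L661986 q12510, e3 q14746 (flp_c L684470) q16958, e3 q14747 L662005 q12661, e3 q14748 L662018 q12662, e3 q14749 L662031 q12663, e3 q14750 L662046 q12664, e3 q14751 L662060 q13566, e3 q14752 L662068 q12665, e3 q14753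 L662083 q13567, e3 q14754 L662091 q12666, e3 q14755 L662103 q13570, e3 q14756 L662114 q13505, e3 q14757 L662124 q13508, e3 q14758 L662134 q13477, e3 q14759 L662147 q12540, e3 q14760 L684657 q16975, e3 q14761 L662166 q12542, e3 q14762 (flp_c L662172) q12522, e3 q14763 (flp_c L684703) q16979, e3 q14764 (flp_c L684713) q16980, e3 q14765 (flp_c L662200) q12524, e3 q14766 (flp_c L684749) q16984, e3 q14767 (flp_c L684763) q16985, e3 q14768 (flp_c L676767) q16253, e3 q14769 L662245 q12527, e3 q14770 L662256 q12528, e3 q14771 (flp_c L684810) q16990, e3 q14772 (flp_c L684819) q16991, e3 q14773 (flp_c L684830) q16992, e3 q14774 (flp_c L676804) q16256, e3 q14775 L662297 q12532, e3 q14776 L662307 q12533, e3 q14777 (flp_c L684869) q16996, e3 q14778 L662327 q14778, e3 q14779 L662335 q14779, e3 q14780 L662345 q14780, e3 q14781 L662354 q14781, e3 q14782 L662361 q14782, e3 q14783 L684925 q17003, trivial⟩ (by decide +kernel)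

theorem ce_c_231 : ∀ r, r < 64 → sm gc (Qf (14784 + r)) = Qf (tab Gen.c (14784 + r)) :=
  edges_tab (sm gc) Qf (tab Gen.c) 14784 [(14784, 17004), (14785, 16974), (14786, 12541), (14787, 17007), (14788, 17008), (14789, 14789), (14790, 12544), (14791, 12545), (14792, 17014), (14793, 12547), (14794, 14794), (14795, 14795), (14796, 14796), (14797, 12673), (14798, 12674), (14799, 17019), (14800, 12676), (14801, 12677), (14802, 17024), (14803, 12679), (14804, 12556), (14805, 17028), (14806, 17029), (14807, 12558), (14808, 17034), (14809, 17035), (14810, 16299), (14811, 12561), (14812, 12562), (14813, 17040), (14814, 17041), (14815, 17042), (14816, 16305), (14817, 12566), (14818, 12567), (14819, 12568), (14820, 17047), (14821, 17048), (14822, 17049), (14823, 17054), (14824, 12606), (14825, 12570), (14826, 17058), (14827, 17059), (14828, 16316), (14829, 12573), (14830, 12574), (14831, 17067), (14832, 17068), (14833, 17069), (14834, 16322), (14835, 12576), (14836, 12577), (14837, 17076), (14838, 17077), (14839, 17078), (14840, 16327),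 (14841, 16328), (14842, 16329), (14843, 12581), (14844, 12582), (14845, 12583), (14846, 17086), (14847, 17087)]
    ⟨e3 q14784 L684932 q17004, e3 q14785 (flp_c L684650) q16974, e3 q14786 (flp_c L662395) q12541, e3 q14787 (flp_c L684978) q17007, e3 q14788 (flp_c L684991) q17008, e3 q14789 L662440 q14789, e3 q14790 L662445 q12544, e3 q14791 L662456 q12545, e3 q14792 (flp_c L685060) q17014, e3 q14793 L662482 q12547, e3 q14794 L662492 q14794, e3 q14795 L662506 q14795, e3 q14796 L662520 q14796, e3 q14797 L662533 q12673, e3 q14798 L662545 q12674, e3 q14799 L685113 q17019, e3 q14800 L662559 q12676, e3 q14801 L662568 q12677, e3 q14802 L685151 q17024, e3 q14803 L662585 q12679, e3 q14804 (flp_c L662591) q12556, e3 q14805 (flp_c L685191) q17028, e3 q14806 (flp_c L685201) q17029, e3 q14807 (flp_c L662617) q12558, e3 q14808 (flp_c L685244) q17034, e3 q14809 (flp_c L685257) q17035, e3 q14810 (flp_c L677320) q16299, e3 q14811 L662655 q12561, e3 q14812 L662667 q12562, e3 q14813 (flp_c L685298) q17040, e3 q14814 (flp_c L685308) q17041, e3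 q14815 (flp_c L685320) q17042, e3 q14816 (flp_c L677377) q16305, e3 q14817 L662706 q12566, e3 q14818 L662719 q12567, e3 q14819 L662730 q12568, e3 q14820 (flp_c L685365) q17047, e3 q14821 (flp_c L685379) q17048, e3 q14822 (flp_c L685392) q17049, e3 q14823 L685429 q17054, e3 q14824 L662770 q12606, e3 q14825 (flp_c L662777) q12570, e3 q14826 (flp_c L685463) q17058, e3 q14827 (flp_c L685469) q17059, e3 q14828 (flp_c L677499) q16316, e3 q14829 L662807 q12573, e3 q14830 L662813 q12574, e3 q14831 (flp_c L685527) q17067, e3 q14832 (flp_c L685533) q17068, e3 q14833 (flp_c L685541) q17069, e3 q14834 (flp_c L677548) q16322, e3 q14835 L662846 q12576, e3 q14836 L662854 q12577, e3 q14837 (flp_c L685597) q17076, e3 q14838 (flp_c L685604) q17077, e3 q14839 (flp_c L685614) q17078, e3 q14840 (flp_c L677599) q16327, e3 q14841 (flp_c L677617) q16328, e3 q14842 (flp_c L677631) q16329, e3 q14843 L662904 q12581, e3 q14844 L662909 q12582, e3 q14845 L662918 q12583, e3 q14846 (flp_c L685669) q17086, e3 q14847 (flp_c L685676) q17087, trivial⟩ (by decide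 +kernel)

theorem ce_c_232 : ∀ r, r < 64 → sm gc (Qf (14848 + r)) = Qf (tab Gen.c (14848 + r)) :=
  edges_tab (sm gc) Qf (tab Gen.c) 14848 [(14848, 17088), (14849, 16336), (14850, 13434), (14851, 16337), (14852, 16338), (14853, 12590), (14854, 12591), (14855, 12592), (14856, 13386), (14857, 17099), (14858, 17100), (14859, 17101), (14860, 17107), (14861, 14861), (14862, 14862), (14863, 14863), (14864, 14864), (14865, 14865), (14866, 14866), (14867, 17115), (14868, 14868), (14869, 14869), (14870, 17118), (14871, 12602), (14872, 14872), (14873, 12605), (14874, 17121), (14875, 17122), (14876, 12627), (14877, 12608), (14878, 12609), (14879, 17129), (14880, 17130), (14881, 12632), (14882, 12633), (14883, 12634), (14884, 16825), (14885, 12613), (14886, 12614), (14887, 17139), (14888, 12639), (14889, 12640), (14890, 12617), (14891, 12642), (14892, 12643), (14893, 13385), (14894, 12645), (14895, 16271), (14896, 12876), (14897, 17120), (14898, 12626), (14899, 12631), (14900, 12630), (14901, 17125), (14902, 17126), (14903, 17127), (14904,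 17132), (14905, 17133), (14906, 16962), (14907, 17135), (14908, 17136), (14909, 13357), (14910, 16661), (14911, 13025)]
    ⟨e3 q14848 (flp_c L685683) q17088, e3 q14849 (flp_c L677697) q16336, e3 q14850 L662955 q13434, e3 q14851 (flp_c L677712) q16337, e3 q14852 (flp_c L677725) q16338, e3 q14853 L662980 q12590, e3 q14854 L662987 q12591, e3 q14855 L662997 q12592, e3 q14856 L663011 q13386, e3 q14857 (flp_c L685779) q17099, e3 q14858 (flp_c L685787) q17100, e3 q14859 (flp_c L685796) q17101, e3 q14860 L685840 q17107, e3 q14861 L663044 q14861, e3 q14862 L663049 q14862, e3 q14863 L663056 q14863, e3 q14864 L663065 q14864, e3 q14865 L663071 q14865, e3 q14866 L663078 q14866, e3 q14867 L685892 q17115, e3 q14868 L663089 q14868, e3 q14869 L663097 q14869, e3 q14870 L685912 q17118, e3 q14871 (flp_c L663109) q12602, e3 q14872 L663116 q14872, e3 q14873 (flp_c L663125) q12605, e3 q14874 (flp_c L685949) q17121, e3 q14875 (flp_c L685961) q17122, e3 q14876 L663165 q12627, e3 q14877 L663169 q12608, e3 q14878 L663178 q12609, e3 q14879 (flp_c L686047)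 q17129, e3 q14880 (flp_c L686058) q17130, e3 q14881 L663209 q12632, e3 q14882 L663221 q12633, e3 q14883 L663232 q12634, e3 q14884 (flp_c L683026) q16825, e3 q14885 L663245 q12613, e3 q14886 L663256 q12614, e3 q14887 (flp_c L686158) q17139, e3 q14888 L663279 q12639, e3 q14889 L663293 q12640, e3 q14890 L663303 q12617, e3 q14891 L663315 q12642, e3 q14892 L663324 q12643, e3 q14893 L663339 q13385, e3 q14894 L663347 q12645, e3 q14895 (flp_c L676984) q16271, e3 q14896 L663368 q12876, e3 q14897 (flp_c L685939) q17120, e3 q14898 L663390 q12626, e3 q14899 L663404 q12631, e3 q14900 L663419 q12630, e3 q14901 (flp_c L686001) q17125, e3 q14902 (flp_c L686021) q17126, e3 q14903 (flp_c L686034) q17127, e3 q14904 (flp_c L686085) q17132, e3 q14905 (flp_c L686098) q17133, e3 q14906 (flp_c L684516) q16962, e3 q14907 (flp_c L686115) q17135, e3 q14908 (flp_c L686128) q17136, e3 q14909 L663532 q13357, e3 q14910 (flp_c L681463) q16661, e3 q14911 L663564 q13025, trivial⟩ (by decide +kernel)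

theorem ce_c_233 : ∀ r, r < 64 → sm gc (Qf (14912 + r)) = Qf (tab Gen.c (14912 + r)) :=
  edges_tab (sm gc) Qf (tab Gen.c) 14912 [(14912, 17142), (14913, 17143), (14914, 16552), (14915, 17145), (14916, 16277), (14917, 16550), (14918, 16223), (14919, 16880), (14920, 16922), (14921, 16882), (14922, 16883), (14923, 16885), (14924, 16959), (14925, 17160), (14926, 16961), (14927, 16964), (14928, 12667), (14929, 17162), (14930, 12669), (14931, 14931), (14932, 14932), (14933, 14933), (14934, 17016), (14935, 17166), (14936, 17018), (14937, 12675), (14938, 17169), (14939, 17170), (14940, 17023), (14941, 12678), (14942, 17174), (14943, 14943), (14944, 12681), (14945, 12682), (14946, 17179), (14947, 14947), (14948, 12684), (14949, 14949), (14950, 14950), (14951, 14951), (14952, 12689), (14953, 14953), (14954, 14954), (14955, 14955), (14956, 14956), (14957, 12701), (14958, 12696), (14959, 12697), (14960, 12719), (14961, 14961), (14962, 12702), (14963, 12720), (14964, 12721), (14965, 14965), (14966, 14966), (14967, 12709), (14968, 13381),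 (14969, 17191), (14970, 12724), (14971, 12725), (14972, 13383), (14973, 12727), (14974, 16270), (14975, 12874)]
    ⟨e3 q14912 (flp_c L686198) q17142, e3 q14913 (flp_c L686208) q17143, e3 q14914 (flp_c L680305) q16552, e3 q14915 (flp_c L686233) q17145, e3 q14916 (flp_c L677058) q16277, e3 q14917 (flp_c L680275) q16550, e3 q14918 (flp_c L676368) q16223, e3 q14919 (flp_c L683649) q16880, e3 q14920 (flp_c L684085) q16922, e3 q14921 (flp_c L683667) q16882, e3 q14922 (flp_c L683680) q16883, e3 q14923 (flp_c L683703) q16885, e3 q14924 (flp_c L684481) q16959, e3 q14925 L686420 q17160, e3 q14926 (flp_c L684501) q16961, e3 q14927 (flp_c L684541) q16964, e3 q14928 (flp_c L663747) q12667, e3 q14929 (flp_c L686455) q17162, e3 q14930 L663782 q12669, e3 q14931 L663793 q14931, e3 q14932 L663810 q14932, e3 q14933 L663833 q14933, e3 q14934 (flp_c L685089) q17016, e3 q14935 L686510 q17166, e3 q14936 (flp_c L685106) q17018, e3 q14937 (flp_c L663868) q12675, e3 q14938 (flp_c L686543) q17169, e3 q14939 (flp_c L686554) q17170, e3 q14940 (flp_c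 L685144) q17023, e3 q14941 (flp_c L663904) q12678, e3 q14942 (flp_c L686598) q17174, e3 q14943 L663939 q14943, e3 q14944 L663944 q12681, e3 q14945 L663958 q12682, e3 q14946 (flp_c L686663) q17179, e3 q14947 L663992 q14947, e3 q14948 L663997 q12684, e3 q14949 L664008 q14949, e3 q14950 L664023 q14950, e3 q14951 L664036 q14951, e3 q14952 (flp_c L664044) q12689, e3 q14953 L664073 q14953, e3 q14954 L664076 q14954, e3 q14955 L664097 q14955, e3 q14956 L664118 q14956, e3 q14957 L664130 q12701, e3 q14958 L664140 q12696, e3 q14959 L664158 q12697, e3 q14960 L664171 q12719, e3 q14961 L664196 q14961, e3 q14962 L664203 q12702, e3 q14963 L664215 q12720, e3 q14964 L664229 q12721, e3 q14965 L664239 q14965, e3 q14966 L664249 q14966, e3 q14967 L664263 q12709, e3 q14968 L664278 q13381, e3 q14969 L686804 q17191, e3 q14970 L664300 q12724, e3 q14971 L664312 q12725, e3 q14972 L664325 q13383, e3 q14973 L664335 q12727, e3 q14974 (flp_c L676970) q16270, e3 q14975 L664352 q12874, trivial⟩ (by decide +kernel)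

theorem ce_c_234 : ∀ r, r < 64 → sm gc (Qf (14976 + r)) = Qf (tab Gen.c (14976 + r)) :=
  edges_tab (sm gc) Qf (tab Gen.c) 14976 [(14976, 17185), (14977, 16273), (14978, 17192), (14979, 16276), (14980, 16042), (14981, 16043), (14982, 12753), (14983, 16047), (14984, 16501), (14985, 14985), (14986, 16045), (14987, 16046), (14988, 14988), (14989, 16022), (14990, 16044), (14991, 16038), (14992, 16024), (14993, 12768), (14994, 12759), (14995, 17203), (14996, 13094), (14997, 12762), (14998, 12763), (14999, 17207), (15000, 17208), (15001, 17209), (15002, 15002), (15003, 15003), (15004, 15004), (15005, 12769), (15006, 12771), (15007, 12775), (15008, 16460), (15009, 12805), (15010, 16122), (15011, 12809), (15012, 12778), (15013, 17215), (15014, 16129), (15015, 12787), (15016, 16134), (15017, 12785), (15018, 17220), (15019, 12789), (15020, 15020), (15021, 16760), (15022, 15022), (15023, 16766), (15024, 16120), (15025, 12807), (15026, 16124), (15027, 16125), (15028, 16127), (15029, 16128), (15030, 15030), (15031, 15031), (15032, 16059),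 (15033, 16119), (15034, 17213), (15035, 16121), (15036, 16123), (15037, 16061), (15038, 16107), (15039, 13636)]
    ⟨e3 q14976 (flp_c L686749) q17185, e3 q14977 (flp_c L677008) q16273, e3 q14978 (flp_c L686822) q17192, e3 q14979 (flp_c L677046) q16276, e3 q14980 (flp_c L673924) q16042, e3 q14981 (flp_c L673949) q16043, e3 q14982 L664434 q12753, e3 q14983 (flp_c L674009) q16047, e3 q14984 (flp_c L679694) q16501, e3 q14985 L664476 q14985, e3 q14986 (flp_c L673978) q16045, e3 q14987 (flp_c L673995) q16046, e3 q14988 L664513 q14988, e3 q14989 (flp_c L673603) q16022, e3 q14990 (flp_c L673961) q16044, e3 q14991 (flp_c L673858) q16038, e3 q14992 (flp_c L673646) q16024, e3 q14993 L664580 q12768, e3 q14994 (flp_c L664589) q12759, e3 q14995 (flp_c L686944) q17203, e3 q14996 L664621 q13094, e3 q14997 L664625 q12762, e3 q14998 L664636 q12763, e3 q14999 (flp_c L686995) q17207, e3 q15000 (flp_c L687006) q17208, e3 q15001 (flp_c L687017) q17209, e3 q15002 L664674 q15002, e3 q15003 L664685 q15003, e3 q15004 L664697 q15004, e3 q15005 (flp_c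 L664705) q12769, e3 q15006 L664718 q12771, e3 q15007 L664727 q12775, e3 q15008 (flp_c L679229) q16460, e3 q15009 L664756 q12805, e3 q15010 (flp_c L675093) q16122, e3 q15011 L664784 q12809, e3 q15012 (flp_c L664794) q12778, e3 q15013 (flp_c L687089) q17215, e3 q15014 (flp_c L675189) q16129, e3 q15015 L664826 q12787, e3 q15016 (flp_c L675245) q16134, e3 q15017 L664850 q12785, e3 q15018 (flp_c L687145) q17220, e3 q15019 L664870 q12789, e3 q15020 L664880 q15020, e3 q15021 (flp_c L682474) q16760, e3 q15022 L664907 q15022, e3 q15023 (flp_c L682523) q16766, e3 q15024 (flp_c L675065) q16120, e3 q15025 L664936 q12807, e3 q15026 (flp_c L675120) q16124, e3 q15027 (flp_c L675135) q16125, e3 q15028 (flp_c L675162) q16127, e3 q15029 (flp_c L675173) q16128, e3 q15030 L664988 q15030, e3 q15031 L665001 q15031, e3 q15032 (flp_c L674191) q16059, e3 q15033 (flp_c L675045) q16119, e3 q15034 (flp_c L687061) q17213, e3 q15035 (flp_c L675075) q16121, e3 q15036 (flp_c L675105) q16123, e3 q15037 (flp_c L674221) q16061, e3 q15038 (flp_c L674873) q16107,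 e3 q15039 L665108 q13636, trivial⟩ (by decide +kernel)

theorem ce_c_235 : ∀ r, r < 64 → sm gc (Qf (15040 + r)) = Qf (tab Gen.c (15040 + r)) :=
  edges_tab (sm gc) Qf (tab Gen.c) 15040 [(15040, 16109), (15041, 16110), (15042, 16111), (15043, 16112), (15044, 12838), (15045, 17243), (15046, 12840), (15047, 12819), (15048, 17247), (15049, 17248), (15050, 12821), (15051, 17253), (15052, 13235), (15053, 12824), (15054, 12825), (15055, 17257), (15056, 17258), (15057, 17259), (15058, 13242), (15059, 13243), (15060, 12829), (15061, 12830), (15062, 12831), (15063, 17265), (15064, 17266), (15065, 17267), (15066, 15066), (15067, 15067), (15068, 15068), (15069, 15069), (15070, 15070), (15071, 17242), (15072, 12839), (15073, 17274), (15074, 12853), (15075, 12842), (15076, 12843), (15077, 17277), (15078, 12856), (15079, 12845), (15080, 12859), (15081, 12848), (15082, 12862), (15083, 17221), (15084, 16674), (15085, 17275), (15086, 16675), (15087, 17278), (15088, 16677), (15089, 17279), (15090, 16562), (15091, 16114), (15092, 16401), (15093,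 13678), (15094, 13679), (15095, 12866), (15096, 13681), (15097, 13682), (15098, 15098), (15099, 15099), (15100, 15100), (15101, 17195), (15102, 15102), (15103, 17194)]
    ⟨e3 q15040 (flp_c L674897) q16109, e3 q15041 (flp_c L674913) q16110, e3 q15042 (flp_c L674927) q16111, e3 q15043 (flp_c L674941) q16112, e3 q15044 L665160 q12838, e3 q15045 L687407 q17243, e3 q15046 L665182 q12840, e3 q15047 (flp_c L665190) q12819, e3 q15048 (flp_c L687451) q17247, e3 q15049 (flp_c L687455) q17248, e3 q15050 (flp_c L665210) q12821, e3 q15051 (flp_c L687503) q17253, e3 q15052 L665240 q13235, e3 q15053 L665244 q12824, e3 q15054 L665255 q12825, e3 q15055 (flp_c L687550) q17257, e3 q15056 (flp_c L687559) q17258, e3 q15057 (flp_c L687570) q17259, e3 q15058 L665293 q13242, e3 q15059 L665300 q13243, e3 q15060 L665306 q12829, e3 q15061 L665311 q12830, e3 q15062 L665318 q12831, e3 q15063 (flp_c L687623) q17265, e3 q15064 (flp_c L687628) q17266, e3 q15065 (flp_c L687635) q17267, e3 q15066 L665344 q15066, e3 q15067 L665355 q15067, e3 q15068 L665366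 q15068, e3 q15069 L665375 q15069, e3 q15070 L665384 q15070, e3 q15071 (flp_c L687397) q17242, e3 q15072 (flp_c L665405) q12839, e3 q15073 (flp_c L687693) q17274, e3 q15074 L665429 q12853, e3 q15075 L665439 q12842, e3 q15076 L665448 q12843, e3 q15077 (flp_c L687730) q17277, e3 q15078 L665472 q12856, e3 q15079 L665476 q12845, e3 q15080 L665485 q12859, e3 q15081 L665492 q12848, e3 q15082 L665503 q12862, e3 q15083 (flp_c L687157) q17221, e3 q15084 (flp_c L681628) q16674, e3 q15085 (flp_c L687703) q17275, e3 q15086 (flp_c L681642) q16675, e3 q15087 (flp_c L687743) q17278, e3 q15088 (flp_c L681665) q16677, e3 q15089 (flp_c L687752) q17279, e3 q15090 (flp_c L680437) q16562, e3 q15091 (flp_c L674970) q16114, e3 q15092 (flp_c L678433) q16401, e3 q15093 L665621 q13678, e3 q15094 L665634 q13679, e3 q15095 L665644 q12866, e3 q15096 L665656 q13681, e3 q15097 L665667 q13682, e3 q15098 L665680 q15098, e3 q15099 L665688 q15099, e3 q15100 L665701 q15100, e3 q15101 (flp_c L686853) q17195, e3 q15102 L665724 q15102, e3 q15103 (flp_c L686841)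 q17194, trivial⟩ (by decide +kernel)

theorem ce_c_236 : ∀ r, r < 64 → sm gc (Qf (15104 + r)) = Qf (tab Gen.c (15104 + r)) :=
  edges_tab (sm gc) Qf (tab Gen.c) 15104 [(15104, 15104), (15105, 17147), (15106, 17103), (15107, 16365), (15108, 12888), (15109, 12879), (15110, 17301), (15111, 17302), (15112, 12881), (15113, 17306), (15114, 13326), (15115, 12884), (15116, 17310), (15117, 12972), (15118, 13333), (15119, 12887), (15120, 12899), (15121, 12890), (15122, 17316), (15123, 12902), (15124, 12892), (15125, 17319), (15126, 12905), (15127, 12906), (15128, 12895), (15129, 12908), (15130, 12909), (15131, 13024), (15132, 17314), (15133, 17315), (15134, 12901), (15135, 17317), (15136, 17318), (15137, 12904), (15138, 17320), (15139, 17321), (15140, 13043), (15141, 17323), (15142, 16245), (15143, 13046), (15144, 13514), (15145, 13786), (15146, 15146), (15147, 16890), (15148, 15148), (15149, 16888), (15150, 15150), (15151, 16891), (15152, 16893), (15153, 17340), (15154, 15154), (15155, 17343), (15156, 15156), (15157, 12923), (15158,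 17345), (15159, 12926), (15160, 17347), (15161, 12945), (15162, 17350), (15163, 12947), (15164, 12929), (15165, 17354), (15166, 17355), (15167, 12931)]
    ⟨e3 q15104 L665748 q15104, e3 q15105 (flp_c L686252) q17147, e3 q15106 (flp_c L685811) q17103, e3 q15107 (flp_c L678007) q16365, e3 q15108 L665797 q12888, e3 q15109 (flp_c L665805) q12879, e3 q15110 (flp_c L688005) q17301, e3 q15111 (flp_c L688013) q17302, e3 q15112 (flp_c L665831) q12881, e3 q15113 (flp_c L688054) q17306, e3 q15114 L665863 q13326, e3 q15115 L665869 q12884, e3 q15116 (flp_c L688106) q17310, e3 q15117 L665891 q12972, e3 q15118 L665908 q13333, e3 q15119 L665919 q12887, e3 q15120 L665929 q12899, e3 q15121 L665935 q12890, e3 q15122 (flp_c L688168) q17316, e3 q15123 L665958 q12902, e3 q15124 L665964 q12892, e3 q15125 (flp_c L688200) q17319, e3 q15126 L665987 q12905, e3 q15127 L666000 q12906, e3 q15128 L666010 q12895, e3 q15129 L666023 q12908, e3 q15130 L666032 q12909, e3 q15131 L666044 q13024, e3 q15132 (flp_c L688147) q17314, e3 q15133 (flp_c L688160) q17315,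 e3 q15134 L666067 q12901, e3 q15135 (flp_c L688175) q17317, e3 q15136 (flp_c L688189) q17318, e3 q15137 L666093 q12904, e3 q15138 (flp_c L688214) q17320, e3 q15139 (flp_c L688224) q17321, e3 q15140 L666125 q13043, e3 q15141 (flp_c L688246) q17323, e3 q15142 (flp_c L676672) q16245, e3 q15143 L666149 q13046, e3 q15144 L666163 q13514, e3 q15145 L666177 q13786, e3 q15146 L666193 q15146, e3 q15147 (flp_c L683760) q16890, e3 q15148 L666214 q15148, e3 q15149 (flp_c L683737) q16888, e3 q15150 L666238 q15150, e3 q15151 (flp_c L683769) q16891, e3 q15152 (flp_c L683792) q16893, e3 q15153 L688427 q17340, e3 q15154 L666281 q15154, e3 q15155 L688450 q17343, e3 q15156 L666305 q15156, e3 q15157 (flp_c L666313) q12923, e3 q15158 (flp_c L688479) q17345, e3 q15159 L666334 q12926, e3 q15160 (flp_c L688498) q17347, e3 q15161 L666351 q12945, e3 q15162 L688521 q17350, e3 q15163 L666368 q12947, e3 q15164 (flp_c L666376) q12929, e3 q15165 (flp_c L688559) q17354, e3 q15166 (flp_c L688565) q17355, e3 q15167 (flp_c L666396) q12931, trivial⟩ (by decide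 +kernel)

theorem ce_c_237 : ∀ r, r < 64 → sm gc (Qf (15168 + r)) = Qf (tab Gen.c (15168 + r)) :=
  edges_tab (sm gc) Qf (tab Gen.c) 15168 [(15168, 17360), (15169, 17361), (15170, 16165), (15171, 12934), (15172, 12935), (15173, 17366), (15174, 17367), (15175, 17368), (15176, 16168), (15177, 12939), (15178, 12940), (15179, 17372), (15180, 15180), (15181, 15181), (15182, 15182), (15183, 17375), (15184, 17349), (15185, 12946), (15186, 17378), (15187, 17379), (15188, 15188), (15189, 12949), (15190, 12950), (15191, 17386), (15192, 17387), (15193, 15193), (15194, 12952), (15195, 17391), (15196, 15196), (15197, 15197), (15198, 12955), (15199, 15199), (15200, 15200), (15201, 13743), (15202, 17398), (15203, 15203), (15204, 15204), (15205, 17403), (15206, 15206), (15207, 12962), (15208, 17407), (15209, 17408), (15210, 12964), (15211, 17413), (15212, 13428), (15213, 12967), (15214, 12968), (15215, 17417), (15216, 17418), (15217, 17419), (15218, 13435), (15219, 13436), (15220, 12973), (15221, 12974), (15222, 17308), (15223, 17311), (15224,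 17425), (15225, 17430), (15226, 13007), (15227, 12976), (15228, 17434), (15229, 17435), (15230, 13448), (15231, 12979)]
    ⟨e3 q15168 (flp_c L688604) q17360, e3 q15169 (flp_c L688616) q17361, e3 q15170 (flp_c L675640) q16165, e3 q15171 L666437 q12934, e3 q15172 L666446 q12935, e3 q15173 (flp_c L688669) q17366, e3 q15174 (flp_c L688676) q17367, e3 q15175 (flp_c L688687) q17368, e3 q15176 (flp_c L675677) q16168, e3 q15177 L666493 q12939, e3 q15178 L666503 q12940, e3 q15179 (flp_c L688724) q17372, e3 q15180 L666523 q15180, e3 q15181 L666536 q15181, e3 q15182 L666550 q15182, e3 q15183 L688753 q17375, e3 q15184 (flp_c L688514) q17349, e3 q15185 (flp_c L666578) q12946, e3 q15186 (flp_c L688791) q17378, e3 q15187 (flp_c L688803) q17379, e3 q15188 L666618 q15188, e3 q15189 L666623 q12949, e3 q15190 L666633 q12950, e3 q15191 (flp_c L688876) q17386, e3 q15192 (flp_c L688887) q17387, e3 q15193 L666666 q15193, e3 q15194 L666671 q12952, e3 q15195 (flp_c L688926) q17391, e3 q15196 L666691 q15196, e3 q15197 L666702 q15197, e3 q15198 L666710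 q12955, e3 q15199 L666722 q15199, e3 q15200 L666731 q15200, e3 q15201 L666743 q13743, e3 q15202 L688990 q17398, e3 q15203 L666759 q15203, e3 q15204 L666770 q15204, e3 q15205 L689040 q17403, e3 q15206 L666790 q15206, e3 q15207 (flp_c L666797) q12962, e3 q15208 (flp_c L689082) q17407, e3 q15209 (flp_c L689088) q17408, e3 q15210 (flp_c L666818) q12964, e3 q15211 (flp_c L689133) q17413, e3 q15212 L666846 q13428, e3 q15213 L666850 q12967, e3 q15214 L666862 q12968, e3 q15215 (flp_c L689179) q17417, e3 q15216 (flp_c L689189) q17418, e3 q15217 (flp_c L689201) q17419, e3 q15218 L666903 q13435, e3 q15219 L666916 q13436, e3 q15220 L666922 q12973, e3 q15221 L666929 q12974, e3 q15222 (flp_c L688078) q17308, e3 q15223 (flp_c L688118) q17311, e3 q15224 (flp_c L689267) q17425, e3 q15225 L689312 q17430, e3 q15226 L666975 q13007, e3 q15227 (flp_c L666980) q12976, e3 q15228 (flp_c L689346) q17434, e3 q15229 (flp_c L689352) q17435, e3 q15230 L667010 q13448, e3 q15231 L667014 q12979, trivial⟩ (by decide +kernel)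

theorem ce_c_238 : ∀ r, r < 64 → sm gc (Qf (15232 + r)) = Qf (tab Gen.c (15232 + r)) :=
  edges_tab (sm gc) Qf (tab Gen.c) 15232 [(15232, 12980), (15233, 17443), (15234, 17444), (15235, 17445), (15236, 13454), (15237, 12982), (15238, 12983), (15239, 17452), (15240, 17453), (15241, 17454), (15242, 13460), (15243, 13461), (15244, 13462), (15245, 12987), (15246, 12988), (15247, 12989), (15248, 17462), (15249, 17463), (15250, 17464), (15251, 13469), (15252, 13470), (15253, 13471), (15254, 13472), (15255, 13473), (15256, 12996), (15257, 12997), (15258, 12998), (15259, 17313), (15260, 17475), (15261, 17476), (15262, 17477), (15263, 15263), (15264, 15264), (15265, 15265), (15266, 15266), (15267, 13006), (15268, 17483), (15269, 13026), (15270, 13009), (15271, 13010), (15272, 17487), (15273, 17488), (15274, 13031), (15275, 13032), (15276, 13033), (15277, 17276), (15278, 13014), (15279, 13015), (15280, 17496), (15281, 13038), (15282, 13039), (15283, 13018), (15284, 13041), (15285, 13042), (15286, 17322), (15287, 13044), (15288, 16279),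 (15289, 17325), (15290, 16842), (15291, 17485), (15292, 13029), (15293, 13030), (15294, 17505), (15295, 17490)]
    ⟨e3 q15232 L667018 q12980, e3 q15233 (flp_c L689418) q17443, e3 q15234 (flp_c L689424) q17444, e3 q15235 (flp_c L689430) q17445, e3 q15236 L667049 q13454, e3 q15237 L667053 q12982, e3 q15238 L667063 q12983, e3 q15239 (flp_c L689488) q17452, e3 q15240 (flp_c L689497) q17453, e3 q15241 (flp_c L689507) q17454, e3 q15242 L667100 q13460, e3 q15243 L667110 q13461, e3 q15244 L667119 q13462, e3 q15245 L667127 q12987, e3 q15246 L667132 q12988, e3 q15247 L667141 q12989, e3 q15248 (flp_c L689584) q17462, e3 q15249 (flp_c L689591) q17463, e3 q15250 (flp_c L689598) q17464, e3 q15251 L667175 q13469, e3 q15252 L667187 q13470, e3 q15253 L667198 q13471, e3 q15254 L667210 q13472, e3 q15255 L667220 q13473, e3 q15256 L667225 q12996, e3 q15257 L667230 q12997, e3 q15258 L667238 q12998, e3 q15259 (flp_c L688141) q17313, e3 q15260 (flp_c L689700) q17475, e3 q15261 (flp_c L689706) q17476, e3 q15262 (flp_c L689713) q17477, e3 q15263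 L667274 q15263, e3 q15264 L667285 q15264, e3 q15265 L667294 q15265, e3 q15266 L667303 q15266, e3 q15267 (flp_c L667309) q13006, e3 q15268 (flp_c L689753) q17483, e3 q15269 L667331 q13026, e3 q15270 L667335 q13009, e3 q15271 L667343 q13010, e3 q15272 (flp_c L689785) q17487, e3 q15273 (flp_c L689794) q17488, e3 q15274 L667369 q13031, e3 q15275 L667378 q13032, e3 q15276 L667386 q13033, e3 q15277 (flp_c L687722) q17276, e3 q15278 L667395 q13014, e3 q15279 L667402 q13015, e3 q15280 (flp_c L689853) q17496, e3 q15281 L667417 q13038, e3 q15282 L667428 q13039, e3 q15283 L667436 q13018, e3 q15284 L667447 q13041, e3 q15285 L667456 q13042, e3 q15286 (flp_c L688238) q17322, e3 q15287 L667471 q13044, e3 q15288 (flp_c L677084) q16279, e3 q15289 (flp_c L688262) q17325, e3 q15290 (flp_c L683202) q16842, e3 q15291 (flp_c L689772) q17485, e3 q15292 L667509 q13029, e3 q15293 L667521 q13030, e3 q15294 (flp_c L689928) q17505, e3 q15295 (flp_c L689815) q17490, trivial⟩ (by decide +kernel)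

theorem ce_c_239 : ∀ r, r < 64 → sm gc (Qf (15296 + r)) = Qf (tab Gen.c (15296 + r)) :=
  edges_tab (sm gc) Qf (tab Gen.c) 15296 [(15296, 17492), (15297, 17493), (15298, 13354), (15299, 13037), (15300, 17328), (15301, 17498), (15302, 17499), (15303, 17501), (15304, 16275), (15305, 16515), (15306, 15306), (15307, 16514), (15308, 13052), (15309, 13049), (15310, 17512), (15311, 15311), (15312, 13054), (15313, 17515), (15314, 13056), (15315, 17516), (15316, 16516), (15317, 13061), (15318, 13062), (15319, 17519), (15320, 17520), (15321, 13067), (15322, 13068), (15323, 17523), (15324, 16049), (15325, 13080), (15326, 13081), (15327, 16050), (15328, 13075), (15329, 17527), (15330, 16561), (15331, 16053), (15332, 16054), (15333, 13084), (15334, 16035), (15335, 13086), (15336, 17531), (15337, 13104), (15338, 13089), (15339, 16407), (15340, 17532), (15341, 16438), (15342, 13093), (15343, 17536), (15344, 16459), (15345, 17205), (15346, 17206), (15347, 13097), (15348, 13098), (15349, 13099), (15350, 16021), (15351, 17540), (15352, 17541),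 (15353, 13579), (15354, 13578), (15355, 13108), (15356, 16040), (15357, 17545), (15358, 13122), (15359, 13112)]
    ⟨e3 q15296 (flp_c L689828) q17492, e3 q15297 (flp_c L689837) q17493, e3 q15298 L667565 q13354, e3 q15299 L667581 q13037, e3 q15300 (flp_c L688294) q17328, e3 q15301 (flp_c L689868) q17498, e3 q15302 (flp_c L689878) q17499, e3 q15303 (flp_c L689895) q17501, e3 q15304 (flp_c L677031) q16275, e3 q15305 (flp_c L679835) q16515, e3 q15306 L667663 q15306, e3 q15307 (flp_c L679815) q16514, e3 q15308 L667692 q13052, e3 q15309 (flp_c L667702) q13049, e3 q15310 (flp_c L690011) q17512, e3 q15311 L667724 q15311, e3 q15312 L667729 q13054, e3 q15313 (flp_c L690037) q17515, e3 q15314 (flp_c L667745) q13056, e3 q15315 (flp_c L690045) q17516, e3 q15316 (flp_c L679848) q16516, e3 q15317 L667766 q13061, e3 q15318 L667773 q13062, e3 q15319 (flp_c L690066) q17519, e3 q15320 (flp_c L690075) q17520, e3 q15321 L667797 q13067, e3 q15322 (flp_c L667803) q13068, e3 q15323 (flp_c L690098) q17523, e3 q15324 (flp_c L674043) q16049, e3 q15325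 L667830 q13080, e3 q15326 L667841 q13081, e3 q15327 (flp_c L674059) q16050, e3 q15328 L667863 q13075, e3 q15329 (flp_c L690129) q17527, e3 q15330 (flp_c L680424) q16561, e3 q15331 (flp_c L674098) q16053, e3 q15332 (flp_c L674112) q16054, e3 q15333 L667908 q13084, e3 q15334 L673817 q16035, e3 q15335 L667924 q13086, e3 q15336 (flp_c L690161) q17531, e3 q15337 L667939 q13104, e3 q15338 (flp_c L667946) q13089, e3 q15339 L678533 q16407, e3 q15340 (flp_c L690169) q17532, e3 q15341 (flp_c L678951) q16438, e3 q15342 L667969 q13093, e3 q15343 (flp_c L690194) q17536, e3 q15344 (flp_c L679219) q16459, e3 q15345 (flp_c L686970) q17205, e3 q15346 (flp_c L686983) q17206, e3 q15347 L668003 q13097, e3 q15348 L668011 q13098, e3 q15349 L668021 q13099, e3 q15350 (flp_c L673593) q16021, e3 q15351 (flp_c L690224) q17540, e3 q15352 (flp_c L690234) q17541, e3 q15353 L668045 q13579, e3 q15354 L668057 q13578, e3 q15355 L668069 q13108, e3 q15356 (flp_c L673892) q16040, e3 q15357 (flp_c L690262) q17545, e3 q15358 L668097 q13122, e3 q15359 L668105 q13112,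 trivial⟩ (by decide +kernel)

theorem ce_c_240 : ∀ r, r < 64 → sm gc (Qf (15360 + r)) = Qf (tab Gen.c (15360 + r)) :=
  edges_tab (sm gc) Qf (tab Gen.c) 15360 [(15360, 13124), (15361, 13125), (15362, 17522), (15363, 16402), (15364, 16104), (15365, 16450), (15366, 17547), (15367, 17549), (15368, 15368), (15369, 16789), (15370, 15370), (15371, 16798), (15372, 13140), (15373, 17559), (15374, 13142), (15375, 16788), (15376, 13143), (15377, 13134), (15378, 17563), (15379, 13137), (15380, 17565), (15381, 17558), (15382, 13141), (15383, 17567), (15384, 15384), (15385, 13145), (15386, 17570), (15387, 15387), (15388, 15388), (15389, 13148), (15390, 17574), (15391, 15391), (15392, 13150), (15393, 17577), (15394, 16496), (15395, 13154), (15396, 16797), (15397, 17580), (15398, 16777), (15399, 13172), (15400, 13157), (15401, 17584), (15402, 17585), (15403, 16790), (15404, 13162), (15405, 13163), (15406, 17590), (15407, 17591), (15408, 17592), (15409, 16474), (15410, 13201), (15411, 16509), (15412, 13167), (15413, 13168), (15414, 17598),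 (15415, 15415), (15416, 13174), (15417, 13175), (15418, 17601), (15419, 17602), (15420, 13177), (15421, 13183), (15422, 13184), (15423, 13273)]
    ⟨e3 q15360 L668116 q13124, e3 q15361 L668126 q13125, e3 q15362 (flp_c L690092) q17522, e3 q15363 (flp_c L678450) q16402, e3 q15364 (flp_c L674819) q16104, e3 q15365 (flp_c L679097) q16450, e3 q15366 (flp_c L690286) q17547, e3 q15367 (flp_c L690302) q17549, e3 q15368 L668194 q15368, e3 q15369 (flp_c L682723) q16789, e3 q15370 L668221 q15370, e3 q15371 (flp_c L682800) q16798, e3 q15372 L668242 q13140, e3 q15373 L690410 q17559, e3 q15374 L668260 q13142, e3 q15375 (flp_c L682705) q16788, e3 q15376 L668288 q13143, e3 q15377 (flp_c L668298) q13134, e3 q15378 (flp_c L690450) q17563, e3 q15379 L668318 q13137, e3 q15380 (flp_c L690468) q17565, e3 q15381 (flp_c L690400) q17558, e3 q15382 (flp_c L668341) q13141, e3 q15383 (flp_c L690480) q17567, e3 q15384 L668363 q15384, e3 q15385 L668368 q13145, e3 q15386 (flp_c L690506) q17570, e3 q15387 L668386 q15387, e3 q15388 L668395 q15388, e3 q15389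 L668401 q13148, e3 q15390 L690542 q17574, e3 q15391 L668413 q15391, e3 q15392 (flp_c L668418) q13150, e3 q15393 (flp_c L690561) q17577, e3 q15394 (flp_c L679637) q16496, e3 q15395 L668438 q13154, e3 q15396 (flp_c L682786) q16797, e3 q15397 (flp_c L690581) q17580, e3 q15398 (flp_c L682618) q16777, e3 q15399 L668463 q13172, e3 q15400 (flp_c L668473) q13157, e3 q15401 (flp_c L690609) q17584, e3 q15402 (flp_c L690613) q17585, e3 q15403 (flp_c L682736) q16790, e3 q15404 L668497 q13162, e3 q15405 L668504 q13163, e3 q15406 (flp_c L690647) q17590, e3 q15407 (flp_c L690652) q17591, e3 q15408 (flp_c L690661) q17592, e3 q15409 (flp_c L679386) q16474, e3 q15410 L668540 q13201, e3 q15411 (flp_c L679764) q16509, e3 q15412 L668551 q13167, e3 q15413 L668558 q13168, e3 q15414 (flp_c L690702) q17598, e3 q15415 L668570 q15415, e3 q15416 L668577 q13174, e3 q15417 L668583 q13175, e3 q15418 (flp_c L690719) q17601, e3 q15419 (flp_c L690726) q17602, e3 q15420 L668607 q13177, e3 q15421 L668617 q13183, e3 q15422 L668624 q13184, e3 q15423 L668631 q13273,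 trivial⟩ (by decide +kernel)

theorem ce_c_241 : ∀ r, r < 64 → sm gc (Qf (15424 + r)) = Qf (tab Gen.c (15424 + r)) :=
  edges_tab (sm gc) Qf (tab Gen.c) 15424 [(15424, 16836), (15425, 17605), (15426, 16594), (15427, 13295), (15428, 17608), (15429, 15429), (15430, 13189), (15431, 17611), (15432, 16719), (15433, 13192), (15434, 17614), (15435, 13204), (15436, 16136), (15437, 13206), (15438, 13195), (15439, 17619), (15440, 17620), (15441, 16137), (15442, 13200), (15443, 17624), (15444, 16699), (15445, 17596), (15446, 13203), (15447, 16146), (15448, 17616), (15449, 16147), (15450, 13209), (15451, 16348), (15452, 17630), (15453, 16148), (15454, 13212), (15455, 15455), (15456, 15456), (15457, 17573), (15458, 13217), (15459, 17637), (15460, 17638), (15461, 16100), (15462, 13220), (15463, 17642), (15464, 16102), (15465, 16103), (15466, 13224), (15467, 13225), (15468, 13226), (15469, 16069), (15470, 17645), (15471, 17647), (15472, 13256), (15473, 13228), (15474, 17651), (15475, 17652), (15476, 17246), (15477, 13231), (15478, 13232),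 (15479, 17659), (15480, 17660), (15481, 17661), (15482, 17252), (15483, 13234), (15484, 17666), (15485, 16676), (15486, 17255), (15487, 17256)]
    ⟨e3 q15424 (flp_c L683120) q16836, e3 q15425 (flp_c L690752) q17605, e3 q15426 (flp_c L680815) q16594, e3 q15427 L668655 q13295, e3 q15428 L690769 q17608, e3 q15429 L668671 q15429, e3 q15430 (flp_c L668674) q13189, e3 q15431 (flp_c L690796) q17611, e3 q15432 (flp_c L682068) q16719, e3 q15433 L668700 q13192, e3 q15434 (flp_c L690818) q17614, e3 q15435 L668713 q13204, e3 q15436 (flp_c L675277) q16136, e3 q15437 L668731 q13206, e3 q15438 (flp_c L668739) q13195, e3 q15439 (flp_c L690860) q17619, e3 q15440 (flp_c L690866) q17620, e3 q15441 (flp_c L675289) q16137, e3 q15442 L668773 q13200, e3 q15443 (flp_c L690896) q17624, e3 q15444 (flp_c L681889) q16699, e3 q15445 (flp_c L690691) q17596, e3 q15446 L668801 q13203, e3 q15447 (flp_c L675397) q16146, e3 q15448 (flp_c L690832) q17616, e3 q15449 (flp_c L675410) q16147, e3 q15450 L668835 q13209, e3 q15451 (flp_c L677830) q16348, e3 q15452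 (flp_c L690941) q17630, e3 q15453 (flp_c L675424) q16148, e3 q15454 L668872 q13212, e3 q15455 L668885 q15455, e3 q15456 L668892 q15456, e3 q15457 (flp_c L690540) q17573, e3 q15458 (flp_c L668901) q13217, e3 q15459 (flp_c L690994) q17637, e3 q15460 (flp_c L691000) q17638, e3 q15461 L674766 q16100, e3 q15462 L668927 q13220, e3 q15463 (flp_c L691024) q17642, e3 q15464 (flp_c L674789) q16102, e3 q15465 (flp_c L674807) q16103, e3 q15466 L668951 q13224, e3 q15467 L668957 q13225, e3 q15468 L668963 q13226, e3 q15469 (flp_c L674341) q16069, e3 q15470 (flp_c L691044) q17645, e3 q15471 L691055 q17647, e3 q15472 L668985 q13256, e3 q15473 (flp_c L668991) q13228, e3 q15474 (flp_c L691083) q17651, e3 q15475 (flp_c L691089) q17652, e3 q15476 (flp_c L687447) q17246, e3 q15477 L669021 q13231, e3 q15478 L669025 q13232, e3 q15479 (flp_c L691137) q17659, e3 q15480 (flp_c L691143) q17660, e3 q15481 (flp_c L691149) q17661, e3 q15482 (flp_c L687499) q17252, e3 q15483 L669055 q13234, e3 q15484 (flp_c L691181) q17666, e3 q15485 (flp_c L681655) q16676,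 e3 q15486 (flp_c L687529) q17255, e3 q15487 (flp_c L687542) q17256, trivial⟩ (by decide +kernel)

theorem ce_c_242 : ∀ r, r < 64 → sm gc (Qf (15488 + r)) = Qf (tab Gen.c (15488 + r)) :=
  edges_tab (sm gc) Qf (tab Gen.c) 15488 [(15488, 13238), (15489, 13239), (15490, 13240), (15491, 17671), (15492, 17672), (15493, 17673), (15494, 16615), (15495, 16678), (15496, 16576), (15497, 17263), (15498, 17264), (15499, 13247), (15500, 13248), (15501, 13249), (15502, 17599), (15503, 16060), (15504, 17683), (15505, 17684), (15506, 13637), (15507, 13638), (15508, 13623), (15509, 13255), (15510, 17690), (15511, 13275), (15512, 13259), (15513, 16274), (15514, 17693), (15515, 13280), (15516, 13281), (15517, 13282), (15518, 13496), (15519, 13263), (15520, 13264), (15521, 17700), (15522, 13288), (15523, 13267), (15524, 13290), (15525, 13291), (15526, 17604), (15527, 13293), (15528, 17708), (15529, 17607), (15530, 16662), (15531, 16640), (15532, 16241), (15533, 17692), (15534, 13278), (15535, 13279), (15536, 16925), (15537, 17694), (15538, 16941),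 (15539, 17696), (15540, 17697), (15541, 13358), (15542, 13286), (15543, 16643), (15544, 17702), (15545, 17704), (15546, 17720), (15547, 16555), (15548, 16151), (15549, 13294), (15550, 16118), (15551, 16533)]
    ⟨e3 q15488 L669089 q13238, e3 q15489 L669095 q13239, e3 q15490 L669105 q13240, e3 q15491 (flp_c L691217) q17671, e3 q15492 (flp_c L691225) q17672, e3 q15493 (flp_c L691233) q17673, e3 q15494 (flp_c L681036) q16615, e3 q15495 (flp_c L681676) q16678, e3 q15496 (flp_c L680610) q16576, e3 q15497 (flp_c L687610) q17263, e3 q15498 (flp_c L687619) q17264, e3 q15499 L669159 q13247, e3 q15500 L669165 q13248, e3 q15501 L669173 q13249, e3 q15502 (flp_c L690708) q17599, e3 q15503 (flp_c L674211) q16060, e3 q15504 (flp_c L691297) q17683, e3 q15505 (flp_c L691305) q17684, e3 q15506 L669197 q13637, e3 q15507 L669207 q13638, e3 q15508 L669217 q13623, e3 q15509 (flp_c L669227) q13255, e3 q15510 (flp_c L691343) q17690, e3 q15511 L669247 q13275, e3 q15512 L669251 q13259, e3 q15513 (flp_c L677019) q16274, e3 q15514 (flp_c L691370) q17693,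 e3 q15515 L669280 q13280, e3 q15516 L669289 q13281, e3 q15517 L669298 q13282, e3 q15518 L669306 q13496, e3 q15519 L669310 q13263, e3 q15520 L669318 q13264, e3 q15521 (flp_c L691427) q17700, e3 q15522 L669336 q13288, e3 q15523 L669344 q13267, e3 q15524 L669355 q13290, e3 q15525 L669365 q13291, e3 q15526 (flp_c L690744) q17604, e3 q15527 L669381 q13293, e3 q15528 L691485 q17708, e3 q15529 (flp_c L690765) q17607, e3 q15530 (flp_c L681478) q16662, e3 q15531 (flp_c L681233) q16640, e3 q15532 (flp_c L676610) q16241, e3 q15533 (flp_c L691362) q17692, e3 q15534 L669436 q13278, e3 q15535 L669449 q13279, e3 q15536 (flp_c L684115) q16925, e3 q15537 (flp_c L691381) q17694, e3 q15538 (flp_c L684312) q16941, e3 q15539 (flp_c L691395) q17696, e3 q15540 (flp_c L691405) q17697, e3 q15541 L669503 q13358, e3 q15542 L669520 q13286, e3 q15543 (flp_c L681261) q16643, e3 q15544 (flp_c L691443) q17702, e3 q15545 (flp_c L691459) q17704, e3 q15546 L691592 q17720, e3 q15547 (flp_c L680343) q16555, e3 q15548 (flp_c L675460) q16151, e3 q15549 (flp_c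 L669576) q13294, e3 q15550 (flp_c L675030) q16118, e3 q15551 (flp_c L680028) q16533, trivial⟩ (by decide +kernel)

theorem ce_c_243 : ∀ r, r < 64 → sm gc (Qf (15552 + r)) = Qf (tab Gen.c (15552 + r)) :=
  edges_tab (sm gc) Qf (tab Gen.c) 15552 [(15552, 13304), (15553, 16884), (15554, 13305), (15555, 16886), (15556, 16887), (15557, 16889), (15558, 16892), (15559, 17723), (15560, 16906), (15561, 13516), (15562, 13517), (15563, 16864), (15564, 13518), (15565, 16866), (15566, 16867), (15567, 16868), (15568, 16869), (15569, 16870), (15570, 16871), (15571, 16872), (15572, 16873), (15573, 17742), (15574, 13341), (15575, 13318), (15576, 17746), (15577, 17747), (15578, 17300), (15579, 13321), (15580, 13322), (15581, 17754), (15582, 17755), (15583, 17756), (15584, 17305), (15585, 13324), (15586, 13325), (15587, 17761), (15588, 17762), (15589, 17763), (15590, 13395), (15591, 17309), (15592, 13329), (15593, 13330), (15594, 13331), (15595, 17770), (15596, 17771), (15597, 13399), (15598, 17312), (15599, 13336), (15600, 15600), (15601,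 15601), (15602, 13340), (15603, 17776), (15604, 13355), (15605, 13343), (15606, 13344), (15607, 17779), (15608, 13359), (15609, 13360), (15610, 13361), (15611, 17600), (15612, 13348), (15613, 13365), (15614, 13366), (15615, 13368)]
    ⟨e3 q15552 L669602 q13304, e3 q15553 (flp_c L683695) q16884, e3 q15554 L669619 q13305, e3 q15555 (flp_c L683715) q16886, e3 q15556 (flp_c L683725) q16887, e3 q15557 (flp_c L683749) q16889, e3 q15558 (flp_c L683780) q16892, e3 q15559 (flp_c L691617) q17723, e3 q15560 (flp_c L683914) q16906, e3 q15561 L669672 q13516, e3 q15562 L669682 q13517, e3 q15563 (flp_c L683480) q16864, e3 q15564 L669697 q13518, e3 q15565 (flp_c L683500) q16866, e3 q15566 (flp_c L683510) q16867, e3 q15567 (flp_c L683522) q16868, e3 q15568 (flp_c L683535) q16869, e3 q15569 (flp_c L683546) q16870, e3 q15570 (flp_c L683556) q16871, e3 q15571 (flp_c L683568) q16872, e3 q15572 (flp_c L683580) q16873, e3 q15573 L691763 q17742, e3 q15574 L669777 q13341, e3 q15575 (flp_c L669784) q13318, e3 q15576 (flp_c L691791) q17746, e3 q15577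 (flp_c L691797) q17747, e3 q15578 (flp_c L687999) q17300, e3 q15579 L669812 q13321, e3 q15580 L669816 q13322, e3 q15581 (flp_c L691845) q17754, e3 q15582 (flp_c L691851) q17755, e3 q15583 (flp_c L691857) q17756, e3 q15584 (flp_c L688048) q17305, e3 q15585 L669847 q13324, e3 q15586 L669855 q13325, e3 q15587 (flp_c L691894) q17761, e3 q15588 (flp_c L691901) q17762, e3 q15589 (flp_c L691911) q17763, e3 q15590 L669892 q13395, e3 q15591 (flp_c L688094) q17309, e3 q15592 L669907 q13329, e3 q15593 L669912 q13330, e3 q15594 L669921 q13331, e3 q15595 (flp_c L691970) q17770, e3 q15596 (flp_c L691977) q17771, e3 q15597 L669945 q13399, e3 q15598 (flp_c L688131) q17312, e3 q15599 L669958 q13336, e3 q15600 L669967 q15600, e3 q15601 L669975 q15601, e3 q15602 (flp_c L669980) q13340, e3 q15603 (flp_c L692012) q17776, e3 q15604 L670004 q13355, e3 q15605 L670008 q13343, e3 q15606 L670017 q13344, e3 q15607 (flp_c L692034) q17779, e3 q15608 L670034 q13359, e3 q15609 L670052 q13360, e3 q15610 L670063 q13361, e3 q15611 (flp_c L690715) q17600, e3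 q15612 L670072 q13348, e3 q15613 L670079 q13365, e3 q15614 L670093 q13366, e3 q15615 L670105 q13368, trivial⟩ (by decide +kernel)

theorem ce_c_244 : ∀ r, r < 64 → sm gc (Qf (15616 + r)) = Qf (tab Gen.c (15616 + r)) :=
  edges_tab (sm gc) Qf (tab Gen.c) 15616 [(15616, 17777), (15617, 17780), (15618, 17782), (15619, 16943), (15620, 17784), (15621, 16945), (15622, 16227), (15623, 16242), (15624, 16937), (15625, 13785), (15626, 17787), (15627, 13530), (15628, 17184), (15629, 13531), (15630, 17190), (15631, 17140), (15632, 17144), (15633, 17089), (15634, 17795), (15635, 13402), (15636, 13388), (15637, 17799), (15638, 17800), (15639, 17767), (15640, 13391), (15641, 13392), (15642, 17807), (15643, 17808), (15644, 17759), (15645, 13394), (15646, 17812), (15647, 16308), (15648, 17768), (15649, 13397), (15650, 16309), (15651, 17773), (15652, 13401), (15653, 17816), (15654, 15654), (15655, 13404), (15656, 13405), (15657, 17818), (15658, 15658), (15659, 15659), (15660, 15660), (15661, 16324), (15662, 13409), (15663, 15663), (15664,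 15664), (15665, 15665), (15666, 13540), (15667, 13417), (15668, 17826), (15669, 17827), (15670, 17830), (15671, 13545), (15672, 13420), (15673, 17834), (15674, 17835), (15675, 17406), (15676, 13423), (15677, 13424), (15678, 17842), (15679, 17843)]
    ⟨e3 q15616 (flp_c L692021) q17777, e3 q15617 (flp_c L692047) q17780, e3 q15618 (flp_c L692072) q17782, e3 q15619 (flp_c L684336) q16943, e3 q15620 (flp_c L692090) q17784, e3 q15621 (flp_c L684359) q16945, e3 q15622 (flp_c L676426) q16227, e3 q15623 (flp_c L676625) q16242, e3 q15624 (flp_c L684246) q16937, e3 q15625 L670203 q13785, e3 q15626 L692122 q17787, e3 q15627 L670222 q13530, e3 q15628 (flp_c L686739) q17184, e3 q15629 L670242 q13531, e3 q15630 (flp_c L686798) q17190, e3 q15631 (flp_c L686177) q17140, e3 q15632 (flp_c L686225) q17144, e3 q15633 (flp_c L685697) q17089, e3 q15634 L692185 q17795, e3 q15635 L670290 q13402, e3 q15636 (flp_c L670295) q13388, e3 q15637 (flp_c L692221) q17799, e3 q15638 (flp_c L692229) q17800, e3 q15639 (flp_c L691948) q17767, e3 q15640 L670331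 q13391, e3 q15641 L670337 q13392, e3 q15642 (flp_c L692283) q17807, e3 q15643 (flp_c L692291) q17808, e3 q15644 (flp_c L691877) q17759, e3 q15645 L670366 q13394, e3 q15646 (flp_c L692323) q17812, e3 q15647 (flp_c L677415) q16308, e3 q15648 (flp_c L691955) q17768, e3 q15649 L670400 q13397, e3 q15650 (flp_c L677428) q16309, e3 q15651 (flp_c L691993) q17773, e3 q15652 (flp_c L670418) q13401, e3 q15653 (flp_c L692355) q17816, e3 q15654 L670445 q15654, e3 q15655 L670450 q13404, e3 q15656 L670462 q13405, e3 q15657 (flp_c L692373) q17818, e3 q15658 L670483 q15658, e3 q15659 L670494 q15659, e3 q15660 L670503 q15660, e3 q15661 (flp_c L677569) q16324, e3 q15662 L670516 q13409, e3 q15663 L670524 q15663, e3 q15664 L670538 q15664, e3 q15665 L670550 q15665, e3 q15666 L670559 q13540, e3 q15667 (flp_c L670567) q13417, e3 q15668 (flp_c L692445) q17826, e3 q15669 (flp_c L692449) q17827, e3 q15670 L692465 q17830, e3 q15671 L670592 q13545, e3 q15672 (flp_c L670597) q13420, e3 q15673 (flp_c L692499) q17834, e3 q15674 (flp_c L692507) q17835, e3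 q15675 (flp_c L689078) q17406, e3 q15676 L670631 q13423, e3 q15677 L670637 q13424, e3 q15678 (flp_c L692557) q17842, e3 q15679 (flp_c L692565) q17843, trivial⟩ (by decide +kernel)

theorem ce_c_245 : ∀ r, r < 64 → sm gc (Qf (15680 + r)) = Qf (tab Gen.c (15680 + r)) :=
  edges_tab (sm gc) Qf (tab Gen.c) 15680 [(15680, 17844), (15681, 17412), (15682, 13426), (15683, 13427), (15684, 17851), (15685, 17852), (15686, 17095), (15687, 17415), (15688, 17416), (15689, 13431), (15690, 13432), (15691, 13433), (15692, 17858), (15693, 17859), (15694, 17860), (15695, 17096), (15696, 17423), (15697, 17424), (15698, 13440), (15699, 13441), (15700, 13442), (15701, 17866), (15702, 17867), (15703, 17868), (15704, 13443), (15705, 17872), (15706, 17873), (15707, 17433), (15708, 13446), (15709, 13447), (15710, 17880), (15711, 17881), (15712, 17882), (15713, 17439), (15714, 17440), (15715, 17441), (15716, 17658), (15717, 13451), (15718, 13452), (15719, 13453), (15720, 17895), (15721, 17896), (15722, 17897), (15723, 17449), (15724, 17450), (15725,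 17451), (15726, 13457), (15727, 13458), (15728, 13459), (15729, 17385), (15730, 17908), (15731, 17909), (15732, 17457), (15733, 17458), (15734, 17459), (15735, 17460), (15736, 17461), (15737, 13466), (15738, 13467), (15739, 13468), (15740, 16971), (15741, 17921), (15742, 17922), (15743, 17923)]
    ⟨e3 q15680 (flp_c L692571) q17844, e3 q15681 (flp_c L689129) q17412, e3 q15682 L670670 q13426, e3 q15683 L670680 q13427, e3 q15684 (flp_c L692627) q17851, e3 q15685 (flp_c L692637) q17852, e3 q15686 (flp_c L685738) q17095, e3 q15687 (flp_c L689158) q17415, e3 q15688 (flp_c L689172) q17416, e3 q15689 L670732 q13431, e3 q15690 L670739 q13432, e3 q15691 L670748 q13433, e3 q15692 (flp_c L692689) q17858, e3 q15693 (flp_c L692698) q17859, e3 q15694 (flp_c L692705) q17860, e3 q15695 (flp_c L685751) q17096, e3 q15696 (flp_c L689247) q17423, e3 q15697 (flp_c L689260) q17424, e3 q15698 L670800 q13440, e3 q15699 L670807 q13441, e3 q15700 L670815 q13442, e3 q15701 (flp_c L692753) q17866, e3 q15702 (flp_c L692761) q17867, e3 q15703 (flp_c L692768)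 q17868, e3 q15704 (flp_c L670842) q13443, e3 q15705 (flp_c L692796) q17872, e3 q15706 (flp_c L692802) q17873, e3 q15707 (flp_c L689342) q17433, e3 q15708 L670870 q13446, e3 q15709 L670876 q13447, e3 q15710 (flp_c L692851) q17880, e3 q15711 (flp_c L692859) q17881, e3 q15712 (flp_c L692867) q17882, e3 q15713 (flp_c L689390) q17439, e3 q15714 (flp_c L689400) q17440, e3 q15715 (flp_c L689406) q17441, e3 q15716 (flp_c L691131) q17658, e3 q15717 L670926 q13451, e3 q15718 L670932 q13452, e3 q15719 L670938 q13453, e3 q15720 (flp_c L692947) q17895, e3 q15721 (flp_c L692953) q17896, e3 q15722 (flp_c L692961) q17897, e3 q15723 (flp_c L689456) q17449, e3 q15724 (flp_c L689467) q17450, e3 q15725 (flp_c L689479) q17451, e3 q15726 L670983 q13457, e3 q15727 L670991 q13458, e3 q15728 L671002 q13459, e3 q15729 (flp_c L688870) q17385, e3 q15730 (flp_c L693037) q17908, e3 q15731 (flp_c L693047) q17909, e3 q15732 (flp_c L689539) q17457, e3 q15733 (flp_c L689550) q17458, e3 q15734 (flp_c L689560) q17459, e3 q15735 (flp_c L689567) q17460, e3 q15736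 (flp_c L689578) q17461, e3 q15737 L671067 q13466, e3 q15738 L671075 q13467, e3 q15739 L671083 q13468, e3 q15740 (flp_c L684618) q16971, e3 q15741 (flp_c L693141) q17921, e3 q15742 (flp_c L693149) q17922, e3 q15743 (flp_c L693159) q17923, trivial⟩ (by decide +kernel)

theorem ce_c_246 : ∀ r, r < 64 → sm gc (Qf (15744 + r)) = Qf (tab Gen.c (15744 + r)) :=
  edges_tab (sm gc) Qf (tab Gen.c) 15744 [(15744, 17469), (15745, 17470), (15746, 17471), (15747, 17472), (15748, 17473), (15749, 16272), (15750, 13478), (15751, 13479), (15752, 13480), (15753, 17373), (15754, 16972), (15755, 17933), (15756, 17934), (15757, 13747), (15758, 13748), (15759, 13749), (15760, 13487), (15761, 13499), (15762, 16266), (15763, 13491), (15764, 13492), (15765, 13509), (15766, 16963), (15767, 17698), (15768, 17699), (15769, 16966), (15770, 13510), (15771, 16968), (15772, 13511), (15773, 16267), (15774, 16970), (15775, 16224), (15776, 17333), (15777, 16923), (15778, 17732), (15779, 16225), (15780, 13529), (15781, 17947), (15782, 15782), (15783, 13539),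 (15784, 17951), (15785, 17952), (15786, 15786), (15787, 13542), (15788, 13543), (15789, 17959), (15790, 17960), (15791, 13544), (15792, 17962), (15793, 15793), (15794, 13547), (15795, 13548), (15796, 17965), (15797, 15797), (15798, 15798), (15799, 15799), (15800, 17958), (15801, 13552), (15802, 15802), (15803, 15803), (15804, 15804), (15805, 15805), (15806, 15806), (15807, 16965)]
    ⟨e3 q15744 (flp_c L689640) q17469, e3 q15745 (flp_c L689652) q17470, e3 q15746 (flp_c L689661) q17471, e3 q15747 (flp_c L689674) q17472, e3 q15748 (flp_c L689686) q17473, e3 q15749 (flp_c L676997) q16272, e3 q15750 L671158 q13478, e3 q15751 L671165 q13479, e3 q15752 L671173 q13480, e3 q15753 (flp_c L688734) q17373, e3 q15754 (flp_c L684630) q16972, e3 q15755 (flp_c L693229) q17933, e3 q15756 (flp_c L693238) q17934, e3 q15757 L671201 q13747, e3 q15758 L671210 q13748, e3 q15759 L671217 q13749, e3 q15760 L671225 q13487, e3 q15761 L671234 q13499, e3 q15762 (flp_c L676923) q16266, e3 q15763 L671256 q13491, e3 q15764 L671270 q13492, e3 q15765 L671284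 q13509, e3 q15766 (flp_c L684533) q16963, e3 q15767 (flp_c L691412) q17698, e3 q15768 (flp_c L691419) q17699, e3 q15769 (flp_c L684563) q16966, e3 q15770 L671318 q13510, e3 q15771 (flp_c L684587) q16968, e3 q15772 L671340 q13511, e3 q15773 (flp_c L676933) q16267, e3 q15774 (flp_c L684607) q16970, e3 q15775 (flp_c L676386) q16224, e3 q15776 (flp_c L688347) q17333, e3 q15777 (flp_c L684093) q16923, e3 q15778 (flp_c L691682) q17732, e3 q15779 (flp_c L676400) q16225, e3 q15780 (flp_c L671416) q13529, e3 q15781 (flp_c L693333) q17947, e3 q15782 L671435 q15782, e3 q15783 (flp_c L671438) q13539, e3 q15784 (flp_c L693365) q17951, e3 q15785 (flp_c L693373) q17952, e3 q15786 L671468 q15786, e3 q15787 L671471 q13542, e3 q15788 L671477 q13543, e3 q15789 (flp_c L693428) q17959, e3 q15790 (flp_c L693435) q17960, e3 q15791 (flp_c L671495) q13544, e3 q15792 (flp_c L693449) q17962, e3 q15793 L671518 q15793, e3 q15794 L671521 q13547, e3 q15795 L671530 q13548, e3 q15796 (flp_c L693472) q17965, e3 q15797 L671546 q15797, e3 q15798 L671555 q15798,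 e3 q15799 L671563 q15799, e3 q15800 (flp_c L693424) q17958, e3 q15801 L671571 q13552, e3 q15802 L671578 q15802, e3 q15803 L671589 q15803, e3 q15804 L671600 q15804, e3 q15805 L671606 q15805, e3 q15806 L671612 q15806, e3 q15807 (flp_c L684553) q16965, trivial⟩ (by decide +kernel)

theorem ce_c_247 : ∀ r, r < 64 → sm gc (Qf (15808 + r)) = Qf (tab Gen.c (15808 + r)) :=
  edges_tab (sm gc) Qf (tab Gen.c) 15808 [(15808, 16967), (15809, 16969), (15810, 15810), (15811, 15811), (15812, 13577), (15813, 16041), (15814, 13598), (15815, 13600), (15816, 17978), (15817, 15817), (15818, 13590), (15819, 16037), (15820, 13594), (15821, 15821), (15822, 15822), (15823, 16105), (15824, 15824), (15825, 16452), (15826, 17985), (15827, 15827), (15828, 17986), (15829, 13601), (15830, 17984), (15831, 15831), (15832, 16349), (15833, 15833), (15834, 15834), (15835, 16537), (15836, 15836), (15837, 15837), (15838, 15838), (15839, 13621), (15840, 13622), (15841, 17989), (15842, 17689), (15843, 15843), (15844, 15844), (15845, 15845), (15846, 15846), (15847,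 15847), (15848, 16558), (15849, 13634), (15850, 13635), (15851, 16064), (15852, 15852), (15853, 16944), (15854, 13658), (15855, 13659), (15856, 13750), (15857, 13751), (15858, 13645), (15859, 13663), (15860, 13665), (15861, 18000), (15862, 15862), (15863, 16559), (15864, 13652), (15865, 16672), (15866, 15866), (15867, 16243), (15868, 15868), (15869, 16929), (15870, 16933), (15871, 17995)]
    ⟨e3 q15808 (flp_c L684575) q16967, e3 q15809 (flp_c L684598) q16969, e3 q15810 L671638 q15810, e3 q15811 L671643 q15811, e3 q15812 L671650 q13577, e3 q15813 (flp_c L673908) q16041, e3 q15814 L671669 q13598, e3 q15815 L671678 q13600, e3 q15816 L693566 q17978, e3 q15817 L671694 q15817, e3 q15818 L671701 q13590, e3 q15819 (flp_c L673842) q16037, e3 q15820 L671719 q13594, e3 q15821 L671733 q15821, e3 q15822 L671745 q15822, e3 q15823 (flp_c L674835) q16105, e3 q15824 L671765 q15824, e3 q15825 (flp_c L679120) q16452, e3 q15826 L693641 q17985, e3 q15827 L671786 q15827, e3 q15828 (flp_c L693660) q17986, e3 q15829 (flp_c L671802) q13601, e3 q15830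 L693637 q17984, e3 q15831 L671823 q15831, e3 q15832 (flp_c L677844) q16349, e3 q15833 L671842 q15833, e3 q15834 L671849 q15834, e3 q15835 (flp_c L680094) q16537, e3 q15836 L671862 q15836, e3 q15837 L671868 q15837, e3 q15838 L671873 q15838, e3 q15839 L671880 q13621, e3 q15840 L671886 q13622, e3 q15841 (flp_c L693686) q17989, e3 q15842 (flp_c L691331) q17689, e3 q15843 L671914 q15843, e3 q15844 L671920 q15844, e3 q15845 L671927 q15845, e3 q15846 L671933 q15846, e3 q15847 L671941 q15847, e3 q15848 (flp_c L680381) q16558, e3 q15849 L671953 q13634, e3 q15850 L671960 q13635, e3 q15851 (flp_c L674263) q16064, e3 q15852 L671969 q15852, e3 q15853 (flp_c L684351) q16944, e3 q15854 L671981 q13658, e3 q15855 L671990 q13659, e3 q15856 L671998 q13750, e3 q15857 L672004 q13751, e3 q15858 L672011 q13645, e3 q15859 L672021 q13663, e3 q15860 L672030 q13665, e3 q15861 L693754 q18000, e3 q15862 L672044 q15862, e3 q15863 (flp_c L680395) q16559, e3 q15864 (flp_c L672054) q13652, e3 q15865 (flp_c L681600) q16672, e3 q15866 L672068 q15866, e3 q15867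 (flp_c L676639) q16243, e3 q15868 L672088 q15868, e3 q15869 (flp_c L684148) q16929, e3 q15870 (flp_c L684184) q16933, e3 q15871 (flp_c L693726) q17995, trivial⟩ (by decide +kernel)

theorem ce_c_248 : ∀ r, r < 64 → sm gc (Qf (15872 + r)) = Qf (tab Gen.c (15872 + r)) :=
  edges_tab (sm gc) Qf (tab Gen.c) 15872 [(15872, 18007), (15873, 15873), (15874, 16646), (15875, 18010), (15876, 15876), (15877, 18011), (15878, 13666), (15879, 18009), (15880, 15880), (15881, 13668), (15882, 17983), (15883, 13670), (15884, 16544), (15885, 15885), (15886, 16012), (15887, 16013), (15888, 13674), (15889, 16009), (15890, 16010), (15891, 13677), (15892, 17284), (15893, 17285), (15894, 15894), (15895, 17287), (15896, 16018), (15897, 15897), (15898, 15898), (15899, 15899), (15900, 17074), (15901, 15901), (15902, 15902), (15903, 16297), (15904, 16325), (15905, 15905), (15906, 15906), (15907, 16015), (15908, 15908), (15909, 13702), (15910, 15910), (15911, 15911), (15912, 15912), (15913, 15913), (15914, 16259), (15915, 16250), (15916, 16264), (15917,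 13710), (15918, 13711), (15919, 13712), (15920, 15920), (15921, 18038), (15922, 18039), (15923, 18044), (15924, 15924), (15925, 15925), (15926, 15926), (15927, 13719), (15928, 13720), (15929, 18047), (15930, 15930), (15931, 15931), (15932, 15932), (15933, 15933), (15934, 15934), (15935, 15935)]
    ⟨e3 q15872 L693807 q18007, e3 q15873 L672127 q15873, e3 q15874 (flp_c L681289) q16646, e3 q15875 L693837 q18010, e3 q15876 L672150 q15876, e3 q15877 (flp_c L693856) q18011, e3 q15878 (flp_c L672164) q13666, e3 q15879 L693833 q18009, e3 q15880 L672182 q15880, e3 q15881 (flp_c L672185) q13668, e3 q15882 (flp_c L693621) q17983, e3 q15883 L672202 q13670, e3 q15884 (flp_c L680194) q16544, e3 q15885 L672216 q15885, e3 q15886 (flp_c L673476) q16012, e3 q15887 (flp_c L673492) q16013, e3 q15888 L672246 q13674, e3 q15889 (flp_c L673433) q16009, e3 q15890 (flp_c L673449) q16010, e3 q15891 L672277 q13677, e3 q15892 (flp_c L687809) q17284, e3 q15893 (flp_c L687820) q17285, e3 q15894 L672307 q15894, e3 q15895 (flp_c L687844) q17287, e3 q15896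 (flp_c L673553) q16018, e3 q15897 L672332 q15897, e3 q15898 L672343 q15898, e3 q15899 L672358 q15899, e3 q15900 (flp_c L685580) q17074, e3 q15901 L672375 q15901, e3 q15902 L672385 q15902, e3 q15903 (flp_c L677294) q16297, e3 q15904 (flp_c L677581) q16325, e3 q15905 L672418 q15905, e3 q15906 L672430 q15906, e3 q15907 (flp_c L673520) q16015, e3 q15908 L672443 q15908, e3 q15909 L672452 q13702, e3 q15910 L672467 q15910, e3 q15911 L672476 q15911, e3 q15912 L672486 q15912, e3 q15913 L672496 q15913, e3 q15914 (flp_c L676844) q16259, e3 q15915 L676731 q16250, e3 q15916 (flp_c L676894) q16264, e3 q15917 L672524 q13710, e3 q15918 L672532 q13711, e3 q15919 L672540 q13712, e3 q15920 L672556 q15920, e3 q15921 (flp_c L694091) q18038, e3 q15922 (flp_c L694100) q18039, e3 q15923 L694141 q18044, e3 q15924 L672589 q15924, e3 q15925 L672598 q15925, e3 q15926 L672608 q15926, e3 q15927 L672616 q13719, e3 q15928 L672624 q13720, e3 q15929 (flp_c L694173) q18047, e3 q15930 L672644 q15930, e3 q15931 L672650 q15931, e3 q15932 L672659 q15932, e3 q15933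 L672667 q15933, e3 q15934 L672675 q15934, e3 q15935 L672682 q15935, trivial⟩ (by decide +kernel)

theorem ce_c_249 : ∀ r, r < 64 → sm gc (Qf (15936 + r)) = Qf (tab Gen.c (15936 + r)) :=
  edges_tab (sm gc) Qf (tab Gen.c) 15936 [(15936, 13730), (15937, 13731), (15938, 13732), (15939, 17394), (15940, 15940), (15941, 18054), (15942, 18055), (15943, 15943), (15944, 15944), (15945, 15945), (15946, 15946), (15947, 15947), (15948, 15948), (15949, 18064), (15950, 13745), (15951, 13746), (15952, 16286), (15953, 17397), (15954, 17938), (15955, 17996), (15956, 17997), (15957, 15957), (15958, 15958), (15959, 15959), (15960, 16907), (15961, 13774), (15962, 18068), (15963, 17849), (15964, 13777), (15965, 18071), (15966, 15966), (15967, 15967), (15968, 15968), (15969, 16874), (15970, 16924), (15971, 13789), (15972, 18074), (15973, 13791), (15974, 18075), (15975, 15975), (15976, 13794), (15977, 13892), (15978, 13893), (15979, 13894), (15980, 13955), (15981, 13956), (15982, 13957), (15983, 13986), (15984, 13987), (15985, 13988), (15986, 13989),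 (15987, 13990), (15988, 13991), (15989, 18085), (15990, 13812), (15991, 14624), (15992, 14104), (15993, 14105), (15994, 14106), (15995, 14639), (15996, 14158), (15997, 14159), (15998, 14160), (15999, 14161)]
    ⟨e3 q15936 L672690 q13730, e3 q15937 L672697 q13731, e3 q15938 L672705 q13732, e3 q15939 (flp_c L688959) q17394, e3 q15940 L672717 q15940, e3 q15941 (flp_c L694229) q18054, e3 q15942 (flp_c L694237) q18055, e3 q15943 L672746 q15943, e3 q15944 L672755 q15944, e3 q15945 L672764 q15945, e3 q15946 L672775 q15946, e3 q15947 L672783 q15947, e3 q15948 L672791 q15948, e3 q15949 L694312 q18064, e3 q15950 L672805 q13745, e3 q15951 L672813 q13746, e3 q15952 (flp_c L677183) q16286, e3 q15953 (flp_c L688985) q17397, e3 q15954 (flp_c L693263) q17938, e3 q15955 (flp_c L693734) q17996, e3 q15956 (flp_c L693740) q17997, e3 q15957 L672849 q15957, e3 q15958 L672856 q15958, e3 q15959 L672863 q15959, e3 q15960 (flp_c L683922) q16907, e3 q15961 (flp_c L672870) q13774, e3 q15962 (flp_c L694338) q18068, e3 q15963 (flp_c L692608) q17849,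 e3 q15964 L672891 q13777, e3 q15965 (flp_c L694357) q18071, e3 q15966 L672901 q15966, e3 q15967 L672908 q15967, e3 q15968 L672915 q15968, e3 q15969 (flp_c L683591) q16874, e3 q15970 (flp_c L684101) q16924, e3 q15971 L672938 q13789, e3 q15972 (flp_c L694379) q18074, e3 q15973 L672951 q13791, e3 q15974 (flp_c L694386) q18075, e3 q15975 L672967 q15975, e3 q15976 L672972 q13794, e3 q15977 L672982 q13892, e3 q15978 L672996 q13893, e3 q15979 L673010 q13894, e3 q15980 L673024 q13955, e3 q15981 L673040 q13956, e3 q15982 L673057 q13957, e3 q15983 L673075 q13986, e3 q15984 L673091 q13987, e3 q15985 L673108 q13988, e3 q15986 L673126 q13989, e3 q15987 L673139 q13990, e3 q15988 L673151 q13991, e3 q15989 L694528 q18085, e3 q15990 L673177 q13812, e3 q15991 L673192 q14624, e3 q15992 L673210 q14104, e3 q15993 L673225 q14105, e3 q15994 L673238 q14106, e3 q15995 L673256 q14639, e3 q15996 L673265 q14158, e3 q15997 L673279 q14159, e3 q15998 L673294 q14160, e3 q15999 L673310 q14161, trivial⟩ (by decide +kernel)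

theorem ce_c_250 : ∀ r, r < 64 → sm gc (Qf (16000 + r)) = Qf (tab Gen.c (16000 + r)) :=
  edges_tab (sm gc) Qf (tab Gen.c) 16000 [(16000, 14162), (16001, 14163), (16002, 14165), (16003, 14166), (16004, 18097), (16005, 13827), (16006, 13840), (16007, 13830), (16008, 13843), (16009, 15889), (16010, 15890), (16011, 13835), (16012, 15886), (16013, 15887), (16014, 13838), (16015, 15907), (16016, 18099), (16017, 16017), (16018, 15896), (16019, 18107), (16020, 16020), (16021, 15350), (16022, 14989), (16023, 13867), (16024, 14992), (16025, 13868), (16026, 13859), (16027, 18112), (16028, 18113), (16029, 16029), (16030, 16030), (16031, 16031), (16032, 16032), (16033, 16033), (16034, 13870), (16035, 15334), (16036, 16036), (16037, 15819), (16038, 14991), (16039, 14219), (16040, 15356), (16041, 15813), (16042, 14980), (16043, 14981), (16044, 14990), (16045, 14986), (16046, 14987), (16047, 14983), (16048, 13888), (16049, 15324), (16050, 15327), (16051, 18126), (16052, 14277), (16053, 15331), (16054, 15332), (16055, 14381), (16056, 18078),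 (16057, 18079), (16058, 13958), (16059, 15032), (16060, 15503), (16061, 15037), (16062, 13899), (16063, 18138)]
    ⟨e3 q16000 L673323 q14162, e3 q16001 L673336 q14163, e3 q16002 L673349 q14165, e3 q16003 L673358 q14166, e3 q16004 L694712 q18097, e3 q16005 (flp_c L673371) q13827, e3 q16006 L673387 q13840, e3 q16007 L673403 q13830, e3 q16008 L673422 q13843, e3 q16009 L673433 q15889, e3 q16010 L673449 q15890, e3 q16011 L673462 q13835, e3 q16012 L673476 q15886, e3 q16013 L673492 q15887, e3 q16014 L673505 q13838, e3 q16015 L673520 q15907, e3 q16016 (flp_c L694748) q18099, e3 q16017 L673544 q16017, e3 q16018 L673553 q15896, e3 q16019 L694858 q18107, e3 q16020 L673571 q16020, e3 q16021 L673593 q15350, e3 q16022 L673603 q14989, e3 q16023 L673620 q13867, e3 q16024 L673646 q14992, e3 q16025 L673656 q13868, e3 q16026 (flp_c L673668) q13859, e3 q16027 (flp_c L694944) q18112, e3 q16028 (flp_c L694961) q18113, e3 q16029 L673721 q16029, e3 q16030 L673731 q16030, e3 q16031 L673745 q16031, e3 q16032 L673761 q16032, e3 q16033 L673774 q16033,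 e3 q16034 L673790 q13870, e3 q16035 (flp_c L673817) q15334, e3 q16036 L673825 q16036, e3 q16037 L673842 q15819, e3 q16038 L673858 q14991, e3 q16039 L673876 q14219, e3 q16040 L673892 q15356, e3 q16041 L673908 q15813, e3 q16042 L673924 q14980, e3 q16043 L673949 q14981, e3 q16044 L673961 q14990, e3 q16045 L673978 q14986, e3 q16046 L673995 q14987, e3 q16047 L674009 q14983, e3 q16048 L674025 q13888, e3 q16049 L674043 q15324, e3 q16050 L674059 q15327, e3 q16051 (flp_c L695173) q18126, e3 q16052 L674083 q14277, e3 q16053 L674098 q15331, e3 q16054 L674112 q15332, e3 q16055 L674127 q14381, e3 q16056 (flp_c L694409) q18078, e3 q16057 (flp_c L694426) q18079, e3 q16058 L674171 q13958, e3 q16059 L674191 q15032, e3 q16060 L674211 q15503, e3 q16061 L674221 q15037, e3 q16062 (flp_c L674230) q13899, e3 q16063 (flp_c L695370) q18138, trivial⟩ (by decide +kernel)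

theorem ce_c_251 : ∀ r, r < 64 → sm gc (Qf (16064 + r)) = Qf (tab Gen.c (16064 + r)) :=
  edges_tab (sm gc) Qf (tab Gen.c) 16064 [(16064, 15851), (16065, 13915), (16066, 13916), (16067, 18143), (16068, 13918), (16069, 15469), (16070, 13920), (16071, 13904), (16072, 18149), (16073, 18150), (16074, 14439), (16075, 13907), (16076, 13908), (16077, 18157), (16078, 18158), (16079, 16079), (16080, 16080), (16081, 16081), (16082, 16082), (16083, 16083), (16084, 16084), (16085, 18142), (16086, 13917), (16087, 18165), (16088, 13928), (16089, 13922), (16090, 13930), (16091, 13931), (16092, 13925), (16093, 18166), (16094, 18167), (16095, 18168), (16096, 18169), (16097, 14266), (16098, 16098), (16099, 16099), (16100, 15461), (16101, 16101), (16102, 15464), (16103, 15465), (16104, 15364), (16105, 15823), (16106, 13943), (16107, 15038), (16108, 13959), (16109, 15040), (16110, 15041), (16111, 15042), (16112, 15043), (16113, 14475), (16114, 15091), (16115, 14622), (16116, 14378), (16117, 18081), (16118, 15550), (16119, 15033), (16120, 15024),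 (16121, 15035), (16122, 15010), (16123, 15036), (16124, 15026), (16125, 15027), (16126, 14389), (16127, 15028)]
    ⟨e3 q16064 L674263 q15851, e3 q16065 L674275 q13915, e3 q16066 L674295 q13916, e3 q16067 L695445 q18143, e3 q16068 L674321 q13918, e3 q16069 L674341 q15469, e3 q16070 L674351 q13920, e3 q16071 (flp_c L674361) q13904, e3 q16072 (flp_c L695531) q18149, e3 q16073 (flp_c L695544) q18150, e3 q16074 L674401 q14439, e3 q16075 L674407 q13907, e3 q16076 L674416 q13908, e3 q16077 (flp_c L695631) q18157, e3 q16078 (flp_c L695642) q18158, e3 q16079 L674450 q16079, e3 q16080 L674462 q16080, e3 q16081 L674479 q16081, e3 q16082 L674491 q16082, e3 q16083 L674502 q16083, e3 q16084 L674518 q16084, e3 q16085 (flp_c L695433) q18142, e3 q16086 (flp_c L674542) q13917, e3 q16087 (flp_c L695733) q18165, e3 q16088 L674587 q13928, e3 q16089 L674593 q13922, e3 q16090 L674604 q13930, e3 q16091 L674619 q13931, e3 q16092 L674630 q13925, e3 q16093 (flp_c L695747) q18166, e3 q16094 (flp_c L695764) q18167, e3 q16095 (flp_c L695781) q18168,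 e3 q16096 (flp_c L695792) q18169, e3 q16097 L674705 q14266, e3 q16098 L674724 q16098, e3 q16099 L674743 q16099, e3 q16100 (flp_c L674766) q15461, e3 q16101 L674774 q16101, e3 q16102 L674789 q15464, e3 q16103 L674807 q15465, e3 q16104 L674819 q15364, e3 q16105 L674835 q15823, e3 q16106 L674852 q13943, e3 q16107 L674873 q15038, e3 q16108 L674881 q13959, e3 q16109 L674897 q15040, e3 q16110 L674913 q15041, e3 q16111 L674927 q15042, e3 q16112 L674941 q15043, e3 q16113 L674955 q14475, e3 q16114 L674970 q15091, e3 q16115 L674984 q14622, e3 q16116 L675001 q14378, e3 q16117 (flp_c L694460) q18081, e3 q16118 L675030 q15550, e3 q16119 L675045 q15033, e3 q16120 L675065 q15024, e3 q16121 L675075 q15035, e3 q16122 L675093 q15010, e3 q16123 L675105 q15036, e3 q16124 L675120 q15026, e3 q16125 L675135 q15027, e3 q16126 L675147 q14389, e3 q16127 L675162 q15028, trivial⟩ (by decide +kernel)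

theorem ce_c_252 : ∀ r, r < 64 → sm gc (Qf (16128 + r)) = Qf (tab Gen.c (16128 + r)) :=
  edges_tab (sm gc) Qf (tab Gen.c) 16128 [(16128, 15029), (16129, 15014), (16130, 13992), (16131, 13970), (16132, 18201), (16133, 18202), (16134, 15016), (16135, 13976), (16136, 15436), (16137, 15441), (16138, 18207), (16139, 14575), (16140, 13980), (16141, 13981), (16142, 13982), (16143, 18212), (16144, 18213), (16145, 18214), (16146, 15447), (16147, 15449), (16148, 15453), (16149, 14478), (16150, 18082), (16151, 15548), (16152, 18226), (16153, 18083), (16154, 18084), (16155, 13994), (16156, 16156), (16157, 16157), (16158, 16158), (16159, 16159), (16160, 18233), (16161, 16161), (16162, 18236), (16163, 16163), (16164, 14002), (16165, 15170), (16166, 18239), (16167, 14006), (16168, 15176), (16169, 18243), (16170, 14027), (16171, 18247), (16172, 14029), (16173, 14009), (16174, 18251), (16175, 18252), (16176, 14011), (16177, 18256), (16178, 18257), (16179, 14688), (16180, 14014), (16181, 14015), (16182, 18262), (16183, 18263), (16184, 18264),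 (16185, 14694), (16186, 14019), (16187, 14020), (16188, 18268), (16189, 16189), (16190, 16190), (16191, 16191)]
    ⟨e3 q16128 L675173 q15029, e3 q16129 L675189 q15014, e3 q16130 L675197 q13992, e3 q16131 (flp_c L675205) q13970, e3 q16132 (flp_c L696293) q18201, e3 q16133 (flp_c L696311) q18202, e3 q16134 L675245 q15016, e3 q16135 L675261 q13976, e3 q16136 L675277 q15436, e3 q16137 L675289 q15441, e3 q16138 (flp_c L696373) q18207, e3 q16139 L675311 q14575, e3 q16140 L675329 q13980, e3 q16141 L675345 q13981, e3 q16142 L675359 q13982, e3 q16143 (flp_c L696451) q18212, e3 q16144 (flp_c L696467) q18213, e3 q16145 (flp_c L696483) q18214, e3 q16146 L675397 q15447, e3 q16147 L675410 q15449, e3 q16148 L675424 q15453, e3 q16149 L675439 q14478, e3 q16150 (flp_c L694478) q18082, e3 q16151 L675460 q15548, e3 q16152 L696628 q18226, e3 q16153 (flp_c L694497) q18083, e3 q16154 (flp_c L694515) q18084, e3 q16155 L675505 q13994, e3 q16156 L675523 q16156, e3 q16157 L675539 q16157, e3 q16158 L675551 q16158, e3 q16159 L675567 q16159, e3 q16160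 L696715 q18233, e3 q16161 L675590 q16161, e3 q16162 L696750 q18236, e3 q16163 L675614 q16163, e3 q16164 (flp_c L675621) q14002, e3 q16165 L675640 q15170, e3 q16166 (flp_c L696795) q18239, e3 q16167 L675663 q14006, e3 q16168 L675677 q15176, e3 q16169 (flp_c L696846) q18243, e3 q16170 L675704 q14027, e3 q16171 L696900 q18247, e3 q16172 L675729 q14029, e3 q16173 (flp_c L675737) q14009, e3 q16174 (flp_c L696954) q18251, e3 q16175 (flp_c L696962) q18252, e3 q16176 (flp_c L675767) q14011, e3 q16177 (flp_c L697008) q18256, e3 q16178 (flp_c L697022) q18257, e3 q16179 L675810 q14688, e3 q16180 L675822 q14014, e3 q16181 L675833 q14015, e3 q16182 (flp_c L697085) q18262, e3 q16183 (flp_c L697098) q18263, e3 q16184 (flp_c L697109) q18264, e3 q16185 L675877 q14694, e3 q16186 L675892 q14019, e3 q16187 L675904 q14020, e3 q16188 (flp_c L697156) q18268, e3 q16189 L675926 q16189, e3 q16190 L675936 q16190, e3 q16191 L675948 q16191, trivial⟩ (by decide +kernel)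

theorem ce_c_253 : ∀ r, r < 64 → sm gc (Qf (16192 + r)) = Qf (tab Gen.c (16192 + r)) :=
  edges_tab (sm gc) Qf (tab Gen.c) 16192 [(16192, 16192), (16193, 16193), (16194, 18276), (16195, 18246), (16196, 14028), (16197, 18277), (16198, 14044), (16199, 14031), (16200, 14032), (16201, 18282), (16202, 18283), (16203, 14034), (16204, 18285), (16205, 14051), (16206, 14037), (16207, 14053), (16208, 14054), (16209, 14183), (16210, 14043), (16211, 18291), (16212, 18279), (16213, 18280), (16214, 14047), (16215, 14048), (16216, 18294), (16217, 14050), (16218, 18286), (16219, 14198), (16220, 18288), (16221, 14664), (16222, 14201), (16223, 14918), (16224, 15775), (16225, 15779), (16226, 14697), (16227, 15622), (16228, 14698), (16229, 16229), (16230, 16230), (16231, 18309), (16232, 16232), (16233, 18312), (16234, 16234), (16235, 14064), (16236, 14734), (16237, 18314), (16238, 14068), (16239, 14736), (16240, 18318), (16241, 15532), (16242, 15623), (16243, 15867), (16244, 14074), (16245, 15142), (16246, 16246), (16247, 16247), (16248, 18327),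 (16249, 16249), (16250, 15915), (16251, 16251), (16252, 14080), (16253, 14768), (16254, 18331), (16255, 14084)]
    ⟨e3 q16192 L675963 q16192, e3 q16193 L675974 q16193, e3 q16194 L697249 q18276, e3 q16195 (flp_c L696889) q18246, e3 q16196 (flp_c L676009) q14028, e3 q16197 (flp_c L697266) q18277, e3 q16198 L676049 q14044, e3 q16199 L676057 q14031, e3 q16200 L676069 q14032, e3 q16201 (flp_c L697336) q18282, e3 q16202 (flp_c L697349) q18283, e3 q16203 L676109 q14034, e3 q16204 (flp_c L697378) q18285, e3 q16205 L676134 q14051, e3 q16206 L676145 q14037, e3 q16207 L676157 q14053, e3 q16208 L676171 q14054, e3 q16209 L676186 q14183, e3 q16210 L676193 q14043, e3 q16211 (flp_c L697455) q18291, e3 q16212 (flp_c L697299) q18279, e3 q16213 (flp_c L697313) q18280, e3 q16214 L676250 q14047, e3 q16215 L676264 q14048, e3 q16216 (flp_c L697499) q18294, e3 q16217 L676289 q14050, e3 q16218 (flp_c L697391) q18286, e3 q16219 L676314 q14198, e3 q16220 (flp_c L697414) q18288, e3 q16221 (flp_c L676344) q14664, e3 q16222 L676353 q14201, e3 q16223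 L676368 q14918, e3 q16224 L676386 q15775, e3 q16225 L676400 q15779, e3 q16226 L676414 q14697, e3 q16227 L676426 q15622, e3 q16228 L676439 q14698, e3 q16229 L676454 q16229, e3 q16230 L676470 q16230, e3 q16231 L697723 q18309, e3 q16232 L676493 q16232, e3 q16233 L697756 q18312, e3 q16234 L676517 q16234, e3 q16235 (flp_c L676525) q14064, e3 q16236 L676544 q14734, e3 q16237 (flp_c L697789) q18314, e3 q16238 L676570 q14068, e3 q16239 L676584 q14736, e3 q16240 (flp_c L697844) q18318, e3 q16241 L676610 q15532, e3 q16242 L676625 q15623, e3 q16243 L676639 q15867, e3 q16244 L676656 q14074, e3 q16245 L676672 q15142, e3 q16246 L676686 q16246, e3 q16247 L676696 q16247, e3 q16248 L697963 q18327, e3 q16249 L676715 q16249, e3 q16250 (flp_c L676731) q15915, e3 q16251 L676739 q16251, e3 q16252 (flp_c L676746) q14080, e3 q16253 L676767 q14768, e3 q16254 (flp_c L698015) q18331, e3 q16255 L676790 q14084, trivial⟩ (by decide +kernel)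

theorem ce_c_254 : ∀ r, r < 64 → sm gc (Qf (16256 + r)) = Qf (tab Gen.c (16256 + r)) :=
  edges_tab (sm gc) Qf (tab Gen.c) 16256 [(16256, 14774), (16257, 18335), (16258, 14107), (16259, 15914), (16260, 14108), (16261, 14087), (16262, 18341), (16263, 18342), (16264, 15916), (16265, 14093), (16266, 15762), (16267, 15773), (16268, 18347), (16269, 14097), (16270, 14974), (16271, 14895), (16272, 15749), (16273, 14977), (16274, 15513), (16275, 15304), (16276, 14979), (16277, 14916), (16278, 14200), (16279, 15288), (16280, 18087), (16281, 18088), (16282, 18338), (16283, 14110), (16284, 18364), (16285, 14112), (16286, 15952), (16287, 16287), (16288, 18368), (16289, 16289), (16290, 16290), (16291, 18373), (16292, 16292), (16293, 14118), (16294, 18377), (16295, 18378), (16296, 14120), (16297, 15903), (16298, 18383), (16299, 14810), (16300, 14123), (16301, 14124), (16302, 18388), (16303, 18389), (16304, 18390), (16305, 14816), (16306, 14129), (16307, 14130), (16308, 15647), (16309, 15650), (16310, 18395), (16311, 18281), (16312, 14167),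 (16313, 14132), (16314, 18404), (16315, 18405), (16316, 14828), (16317, 14135), (16318, 14136), (16319, 18413)]
    ⟨e3 q16256 L676804 q14774, e3 q16257 (flp_c L698070) q18335, e3 q16258 L676827 q14107, e3 q16259 L676844 q15914, e3 q16260 L676850 q14108, e3 q16261 (flp_c L676860) q14087, e3 q16262 (flp_c L698150) q18341, e3 q16263 (flp_c L698166) q18342, e3 q16264 L676894 q15916, e3 q16265 L676909 q14093, e3 q16266 L676923 q15762, e3 q16267 L676933 q15773, e3 q16268 (flp_c L698225) q18347, e3 q16269 L676957 q14097, e3 q16270 L676970 q14974, e3 q16271 L676984 q14895, e3 q16272 L676997 q15749, e3 q16273 L677008 q14977, e3 q16274 L677019 q15513, e3 q16275 L677031 q15304, e3 q16276 L677046 q14979, e3 q16277 L677058 q14916, e3 q16278 L677070 q14200, e3 q16279 L677084 q15288, e3 q16280 (flp_c L694565) q18087, e3 q16281 (flp_c L694581) q18088, e3 q16282 (flp_c L698109) q18338, e3 q16283 L677132 q14110, e3 q16284 (flp_c L698456) q18364, e3 q16285 L677164 q14112, e3 q16286 L677183 q15952, e3 q16287 L677191 q16287, e3 q16288 L698505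 q18368, e3 q16289 L677212 q16289, e3 q16290 L677222 q16290, e3 q16291 L698557 q18373, e3 q16292 L677244 q16292, e3 q16293 (flp_c L677249) q14118, e3 q16294 (flp_c L698601) q18377, e3 q16295 (flp_c L698609) q18378, e3 q16296 (flp_c L677276) q14120, e3 q16297 L677294 q15903, e3 q16298 (flp_c L698660) q18383, e3 q16299 L677320 q14810, e3 q16300 L677330 q14123, e3 q16301 L677342 q14124, e3 q16302 (flp_c L698723) q18388, e3 q16303 (flp_c L698739) q18389, e3 q16304 (flp_c L698751) q18390, e3 q16305 L677377 q14816, e3 q16306 L677391 q14129, e3 q16307 L677402 q14130, e3 q16308 L677415 q15647, e3 q16309 L677428 q15650, e3 q16310 (flp_c L698808) q18395, e3 q16311 (flp_c L697330) q18281, e3 q16312 L677458 q14167, e3 q16313 (flp_c L677465) q14132, e3 q16314 (flp_c L698910) q18404, e3 q16315 (flp_c L698922) q18405, e3 q16316 L677499 q14828, e3 q16317 L677503 q14135, e3 q16318 L677509 q14136, e3 q16319 (flp_c L699012) q18413, trivial⟩ (by decide +kernel)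

theorem ce_c_255 : ∀ r, r < 64 → sm gc (Qf (16320 + r)) = Qf (tab Gen.c (16320 + r)) :=
  edges_tab (sm gc) Qf (tab Gen.c) 16320 [(16320, 18414), (16321, 18415), (16322, 14834), (16323, 14139), (16324, 15661), (16325, 15904), (16326, 18421), (16327, 14840), (16328, 14841), (16329, 14842), (16330, 14143), (16331, 14144), (16332, 14145), (16333, 18429), (16334, 18430), (16335, 18431), (16336, 14849), (16337, 14851), (16338, 14852), (16339, 14152), (16340, 14153), (16341, 14154), (16342, 18269), (16343, 18440), (16344, 18441), (16345, 18442), (16346, 18447), (16347, 14531), (16348, 15451), (16349, 15832), (16350, 18090), (16351, 18091), (16352, 18092), (16353, 18455), (16354, 18093), (16355, 18094), (16356, 18458), (16357, 14164), (16358, 18095), (16359, 14184), (16360, 14169), (16361, 18462), (16362, 14187), (16363, 14188), (16364, 14189), (16365, 15107), (16366, 14173), (16367, 14174), (16368, 18470), (16369, 14193), (16370, 14194), (16371, 14177), (16372, 14196), (16373, 14197), (16374, 18287), (16375, 14199), (16376, 18362),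 (16377, 18290), (16378, 18460), (16379, 18461), (16380, 14186), (16381, 18463), (16382, 18464), (16383, 18466)]
    ⟨e3 q16320 (flp_c L699022) q18414, e3 q16321 (flp_c L699030) q18415, e3 q16322 L677548 q14834, e3 q16323 L677554 q14139, e3 q16324 L677569 q15661, e3 q16325 L677581 q15904, e3 q16326 (flp_c L699092) q18421, e3 q16327 L677599 q14840, e3 q16328 L677617 q14841, e3 q16329 L677631 q14842, e3 q16330 L677641 q14143, e3 q16331 L677651 q14144, e3 q16332 L677663 q14145, e3 q16333 (flp_c L699197) q18429, e3 q16334 (flp_c L699209) q18430, e3 q16335 (flp_c L699221) q18431, e3 q16336 L677697 q14849, e3 q16337 L677712 q14851, e3 q16338 L677725 q14852, e3 q16339 L677736 q14152, e3 q16340 L677750 q14153, e3 q16341 L677763 q14154, e3 q16342 (flp_c L697172) q18269, e3 q16343 (flp_c L699316) q18440, e3 q16344 (flp_c L699331) q18441, e3 q16345 (flp_c L699345) q18442, e3 q16346 L699393 q18447, e3 q16347 L677818 q14531, e3 q16348 L677830 q15451, e3 q16349 L677844 q15832, e3 q16350 (flp_c L694614) q18090, e3 q16351 (flp_c L694630)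 q18091, e3 q16352 (flp_c L694645) q18092, e3 q16353 L699478 q18455, e3 q16354 (flp_c L694661) q18093, e3 q16355 (flp_c L694675) q18094, e3 q16356 L699504 q18458, e3 q16357 (flp_c L677907) q14164, e3 q16358 (flp_c L694687) q18095, e3 q16359 L677936 q14184, e3 q16360 L677942 q14169, e3 q16361 (flp_c L699561) q18462, e3 q16362 L677965 q14187, e3 q16363 L677978 q14188, e3 q16364 L677991 q14189, e3 q16365 L678007 q15107, e3 q16366 L678013 q14173, e3 q16367 L678025 q14174, e3 q16368 (flp_c L699665) q18470, e3 q16369 L678051 q14193, e3 q16370 L678065 q14194, e3 q16371 L678076 q14177, e3 q16372 L678090 q14196, e3 q16373 L678100 q14197, e3 q16374 (flp_c L697406) q18287, e3 q16375 L678116 q14199, e3 q16376 (flp_c L698432) q18362, e3 q16377 (flp_c L697445) q18290, e3 q16378 (flp_c L699532) q18460, e3 q16379 (flp_c L699549) q18461, e3 q16380 L678169 q14186, e3 q16381 (flp_c L699576) q18463, e3 q16382 (flp_c L699591) q18464, e3 q16383 (flp_c L699613) q18466, trivial⟩ (by decide +kernel)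

theorem ce_c_256 : ∀ r, r < 64 → sm gc (Qf (16384 + r)) = Qf (tab Gen.c (16384 + r)) :=
  edges_tab (sm gc) Qf (tab Gen.c) 16384 [(16384, 18467), (16385, 14192), (16386, 18295), (16387, 18472), (16388, 18473), (16389, 18296), (16390, 18475), (16391, 18361), (16392, 18298), (16393, 14237), (16394, 14238), (16395, 14260), (16396, 14262), (16397, 14263), (16398, 14265), (16399, 14214), (16400, 18494), (16401, 15092), (16402, 15363), (16403, 18120), (16404, 14221), (16405, 16405), (16406, 16406), (16407, 15339), (16408, 16408), (16409, 16409), (16410, 16410), (16411, 16411), (16412, 16412), (16413, 18502), (16414, 16414), (16415, 14239), (16416, 14240), (16417, 14241), (16418, 14256), (16419, 14242), (16420, 14232), (16421, 14253), (16422, 18510), (16423, 14245), (16424, 14271), (16425, 18490), (16426, 14486), (16427, 18505), (16428, 18507), (16429, 18508), (16430, 14244), (16431, 18514), (16432, 18503), (16433, 16433), (16434, 14248), (16435, 18500), (16436, 18517), (16437, 14267), (16438, 15341), (16439, 14268), (16440, 14404),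 (16441, 14270), (16442, 18511), (16443, 14320), (16444, 14257), (16445, 18506), (16446, 18509), (16447, 18525)]
    ⟨e3 q16384 (flp_c L699627) q18467, e3 q16385 L678229 q14192, e3 q16386 (flp_c L697521) q18295, e3 q16387 (flp_c L699689) q18472, e3 q16388 (flp_c L699700) q18473, e3 q16389 (flp_c L697538) q18296, e3 q16390 (flp_c L699722) q18475, e3 q16391 (flp_c L698415) q18361, e3 q16392 (flp_c L697566) q18298, e3 q16393 L678316 q14237, e3 q16394 L678334 q14238, e3 q16395 L678348 q14260, e3 q16396 L678364 q14262, e3 q16397 L678379 q14263, e3 q16398 L678392 q14265, e3 q16399 L678406 q14214, e3 q16400 (flp_c L699973) q18494, e3 q16401 L678433 q15092, e3 q16402 L678450 q15363, e3 q16403 (flp_c L695072) q18120, e3 q16404 L678477 q14221, e3 q16405 L678495 q16405, e3 q16406 L678512 q16406, e3 q16407 (flp_c L678533) q15339, e3 q16408 L678541 q16408, e3 q16409 L678556 q16409, e3 q16410 L678572 q16410, e3 q16411 L678586 q16411, e3 q16412 L678604 q16412, e3 q16413 L700107 q18502, e3 q16414 L678630 q16414, e3 q16415 L678644 q14239,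 e3 q16416 L678661 q14240, e3 q16417 L678672 q14241, e3 q16418 L678690 q14256, e3 q16419 L678698 q14242, e3 q16420 (flp_c L678706) q14232, e3 q16421 L678726 q14253, e3 q16422 (flp_c L700239) q18510, e3 q16423 L678752 q14245, e3 q16424 L678769 q14271, e3 q16425 (flp_c L699906) q18490, e3 q16426 L678795 q14486, e3 q16427 (flp_c L700159) q18505, e3 q16428 (flp_c L700194) q18507, e3 q16429 (flp_c L700209) q18508, e3 q16430 L678854 q14244, e3 q16431 (flp_c L700302) q18514, e3 q16432 (flp_c L700130) q18503, e3 q16433 L678892 q16433, e3 q16434 (flp_c L678902) q14248, e3 q16435 (flp_c L700087) q18500, e3 q16436 (flp_c L700344) q18517, e3 q16437 L678930 q14267, e3 q16438 L678951 q15341, e3 q16439 L678961 q14268, e3 q16440 L678982 q14404, e3 q16441 L678992 q14270, e3 q16442 (flp_c L700257) q18511, e3 q16443 L679018 q14320, e3 q16444 L679022 q14257, e3 q16445 (flp_c L700182) q18506, e3 q16446 (flp_c L700225) q18509, e3 q16447 (flp_c L700441) q18525, trivial⟩ (by decide +kernel)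

theorem ce_c_257 : ∀ r, r < 64 → sm gc (Qf (16448 + r)) = Qf (tab Gen.c (16448 + r)) :=
  edges_tab (sm gc) Qf (tab Gen.c) 16448 [(16448, 14355), (16449, 18491), (16450, 15365), (16451, 18492), (16452, 15825), (16453, 14409), (16454, 18513), (16455, 14278), (16456, 14274), (16457, 18130), (16458, 18530), (16459, 15344), (16460, 15008), (16461, 18518), (16462, 16462), (16463, 14283), (16464, 18536), (16465, 16465), (16466, 18540), (16467, 16467), (16468, 14288), (16469, 18543), (16470, 18544), (16471, 14303), (16472, 18127), (16473, 14304), (16474, 15409), (16475, 14305), (16476, 14293), (16477, 18542), (16478, 18549), (16479, 18535), (16480, 14296), (16481, 14297), (16482, 18554), (16483, 18555), (16484, 16484), (16485, 16485), (16486, 16486), (16487, 16487), (16488, 16488), (16489, 14307), (16490, 18561), (16491, 16491), (16492, 14310), (16493, 16493), (16494, 18516), (16495, 16495), (16496, 15394), (16497, 16497), (16498, 14314), (16499, 18550), (16500, 18566), (16501, 14984), (16502, 14317), (16503, 14318), (16504, 18110),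 (16505, 18570), (16506, 18571), (16507, 18497), (16508, 18524), (16509, 15411), (16510, 14325), (16511, 14326)]
    ⟨e3 q16448 L679066 q14355, e3 q16449 (flp_c L699923) q18491, e3 q16450 L679097 q15365, e3 q16451 (flp_c L699939) q18492, e3 q16452 L679120 q15825, e3 q16453 L679135 q14409, e3 q16454 (flp_c L700285) q18513, e3 q16455 L679166 q14278, e3 q16456 L679176 q14274, e3 q16457 (flp_c L695241) q18130, e3 q16458 (flp_c L700499) q18530, e3 q16459 L679219 q15344, e3 q16460 L679229 q15008, e3 q16461 (flp_c L700357) q18518, e3 q16462 L679256 q16462, e3 q16463 (flp_c L679263) q14283, e3 q16464 (flp_c L700586) q18536, e3 q16465 L679288 q16465, e3 q16466 L700633 q18540, e3 q16467 L679306 q16467, e3 q16468 (flp_c L679310) q14288, e3 q16469 (flp_c L700681) q18543, e3 q16470 (flp_c L700697) q18544, e3 q16471 L679346 q14303, e3 q16472 (flp_c L695193) q18127, e3 q16473 L679369 q14304, e3 q16474 L679386 q15409, e3 q16475 L679396 q14305, e3 q16476 (flp_c L679404) q14293, e3 q16477 (flp_c L700671) q18542, e3 q16478 (flp_c L700753) q18549,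 e3 q16479 (flp_c L700580) q18535, e3 q16480 L679446 q14296, e3 q16481 L679455 q14297, e3 q16482 (flp_c L700813) q18554, e3 q16483 (flp_c L700824) q18555, e3 q16484 L679487 q16484, e3 q16485 L679500 q16485, e3 q16486 L679513 q16486, e3 q16487 L679524 q16487, e3 q16488 L679542 q16488, e3 q16489 L679547 q14307, e3 q16490 (flp_c L700895) q18561, e3 q16491 L679569 q16491, e3 q16492 L679579 q14310, e3 q16493 L679591 q16493, e3 q16494 (flp_c L700340) q18516, e3 q16495 L679616 q16495, e3 q16496 L679637 q15394, e3 q16497 L679645 q16497, e3 q16498 (flp_c L679655) q14314, e3 q16499 (flp_c L700767) q18550, e3 q16500 (flp_c L700959) q18566, e3 q16501 L679694 q14984, e3 q16502 L679704 q14317, e3 q16503 L679714 q14318, e3 q16504 (flp_c L694910) q18110, e3 q16505 (flp_c L701004) q18570, e3 q16506 (flp_c L701014) q18571, e3 q16507 (flp_c L700038) q18497, e3 q16508 (flp_c L700429) q18524, e3 q16509 L679764 q15411, e3 q16510 L679778 q14325, e3 q16511 L679789 q14326, trivial⟩ (by decide +kernel)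

theorem ce_c_258 : ∀ r, r < 64 → sm gc (Qf (16512 + r)) = Qf (tab Gen.c (16512 + r)) :=
  edges_tab (sm gc) Qf (tab Gen.c) 16512 [(16512, 18577), (16513, 18578), (16514, 15307), (16515, 15305), (16516, 15316), (16517, 14330), (16518, 14331), (16519, 14332), (16520, 18108), (16521, 18583), (16522, 18584), (16523, 16523), (16524, 16524), (16525, 16525), (16526, 16526), (16527, 18591), (16528, 14342), (16529, 14346), (16530, 14347), (16531, 18531), (16532, 18593), (16533, 15551), (16534, 14408), (16535, 14410), (16536, 14445), (16537, 15835), (16538, 14446), (16539, 14447), (16540, 14448), (16541, 14450), (16542, 14451), (16543, 14453), (16544, 15884), (16545, 14660), (16546, 14367), (16547, 18602), (16548, 14382), (16549, 14370), (16550, 14917), (16551, 14375), (16552, 14914), (16553, 18489), (16554, 14377), (16555, 15547), (16556, 18186), (16557, 14380), (16558, 15848), (16559, 15863), (16560, 16560), (16561, 15330), (16562, 15090), (16563, 16563), (16564, 16564), (16565, 16565), (16566, 18196), (16567, 16567), (16568, 18197),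 (16569, 16569), (16570, 16570), (16571, 16571), (16572, 16572), (16573, 18617), (16574, 16574), (16575, 14396)]
    ⟨e3 q16512 (flp_c L701070) q18577, e3 q16513 (flp_c L701083) q18578, e3 q16514 L679815 q15307, e3 q16515 L679835 q15305, e3 q16516 L679848 q15316, e3 q16517 L679860 q14330, e3 q16518 L679869 q14331, e3 q16519 L679878 q14332, e3 q16520 (flp_c L694877) q18108, e3 q16521 (flp_c L701144) q18583, e3 q16522 (flp_c L701155) q18584, e3 q16523 L679910 q16523, e3 q16524 L679924 q16524, e3 q16525 L679936 q16525, e3 q16526 L679947 q16526, e3 q16527 L701213 q18591, e3 q16528 L679966 q14342, e3 q16529 L679978 q14346, e3 q16530 L679991 q14347, e3 q16531 (flp_c L700517) q18531, e3 q16532 (flp_c L701232) q18593, e3 q16533 L680028 q15551, e3 q16534 L680046 q14408, e3 q16535 L680064 q14410, e3 q16536 L680077 q14445, e3 q16537 L680094 q15835, e3 q16538 L680106 q14446, e3 q16539 L680122 q14447, e3 q16540 L680135 q14448, e3 q16541 L680148 q14450, e3 q16542 L680163 q14451, e3 q16543 L680175 q14453, e3 q16544 L680194 q15884, e3 q16545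 L680204 q14660, e3 q16546 L680219 q14367, e3 q16547 (flp_c L701370) q18602, e3 q16548 L680247 q14382, e3 q16549 L680262 q14370, e3 q16550 L680275 q14917, e3 q16551 L680290 q14375, e3 q16552 L680305 q14914, e3 q16553 (flp_c L699888) q18489, e3 q16554 L680327 q14377, e3 q16555 L680343 q15547, e3 q16556 (flp_c L696068) q18186, e3 q16557 L680365 q14380, e3 q16558 L680381 q15848, e3 q16559 L680395 q15863, e3 q16560 L680414 q16560, e3 q16561 L680424 q15330, e3 q16562 L680437 q15090, e3 q16563 L680452 q16563, e3 q16564 L680469 q16564, e3 q16565 L680482 q16565, e3 q16566 (flp_c L696225) q18196, e3 q16567 L680501 q16567, e3 q16568 (flp_c L696238) q18197, e3 q16569 L680524 q16569, e3 q16570 L680539 q16570, e3 q16571 L680556 q16571, e3 q16572 L680567 q16572, e3 q16573 L701572 q18617, e3 q16574 L680585 q16574, e3 q16575 (flp_c L680591) q14396, trivial⟩ (by decide +kernel)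

theorem ce_c_259 : ∀ r, r < 64 → sm gc (Qf (16576 + r)) = Qf (tab Gen.c (16576 + r)) :=
  edges_tab (sm gc) Qf (tab Gen.c) 16576 [(16576, 15496), (16577, 18620), (16578, 14411), (16579, 14412), (16580, 18626), (16581, 14414), (16582, 14437), (16583, 14415), (16584, 14401), (16585, 14434), (16586, 18630), (16587, 14555), (16588, 14405), (16589, 18522), (16590, 18635), (16591, 14455), (16592, 14460), (16593, 18596), (16594, 15426), (16595, 18623), (16596, 18625), (16597, 14413), (16598, 18641), (16599, 14417), (16600, 18643), (16601, 16601), (16602, 14420), (16603, 16603), (16604, 16604), (16605, 18649), (16606, 16606), (16607, 18618), (16608, 16608), (16609, 14425), (16610, 18615), (16611, 18654), (16612, 18137), (16613, 14428), (16614, 14429), (16615, 15494), (16616, 18659), (16617, 18660), (16618, 14454), (16619, 18631), (16620, 14456), (16621, 14432), (16622, 18669), (16623, 18670), (16624, 18632), (16625, 18148), (16626, 14438), (16627, 18624), (16628, 18629), (16629, 18676), (16630, 18154), (16631, 18155), (16632, 18156),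 (16633, 14442), (16634, 14443), (16635, 14444), (16636, 18683), (16637, 18684), (16638, 18685), (16639, 18597)]
    ⟨e3 q16576 L680610 q15496, e3 q16577 (flp_c L701616) q18620, e3 q16578 L680631 q14411, e3 q16579 L680647 q14412, e3 q16580 L701686 q18626, e3 q16581 L680667 q14414, e3 q16582 L680685 q14437, e3 q16583 L680693 q14415, e3 q16584 (flp_c L680701) q14401, e3 q16585 L680717 q14434, e3 q16586 (flp_c L701734) q18630, e3 q16587 L680743 q14555, e3 q16588 L680749 q14405, e3 q16589 (flp_c L700407) q18522, e3 q16590 (flp_c L701798) q18635, e3 q16591 L680777 q14455, e3 q16592 L680790 q14460, e3 q16593 (flp_c L701267) q18596, e3 q16594 L680815 q15426, e3 q16595 (flp_c L701652) q18623, e3 q16596 (flp_c L701676) q18625, e3 q16597 (flp_c L680848) q14413, e3 q16598 (flp_c L701871) q18641, e3 q16599 L680878 q14417, e3 q16600 (flp_c L701901) q18643, e3 q16601 L680902 q16601, e3 q16602 L680915 q14420, e3 q16603 L680928 q16603, e3 q16604 L680938 q16604, e3 q16605 L701973 q18649, e3 q16606 L680955 q16606, e3 q16607 (flp_c L701593)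 q18618, e3 q16608 L680976 q16608, e3 q16609 (flp_c L680984) q14425, e3 q16610 L701556 q18615, e3 q16611 (flp_c L702019) q18654, e3 q16612 (flp_c L695360) q18137, e3 q16613 L681015 q14428, e3 q16614 L681025 q14429, e3 q16615 L681036 q15494, e3 q16616 (flp_c L702057) q18659, e3 q16617 (flp_c L702067) q18660, e3 q16618 L681060 q14454, e3 q16619 (flp_c L701750) q18631, e3 q16620 L681078 q14456, e3 q16621 (flp_c L681088) q14432, e3 q16622 (flp_c L702165) q18669, e3 q16623 (flp_c L702171) q18670, e3 q16624 (flp_c L701762) q18632, e3 q16625 (flp_c L695525) q18148, e3 q16626 L681124 q14438, e3 q16627 (flp_c L701670) q18624, e3 q16628 (flp_c L701720) q18629, e3 q16629 (flp_c L702217) q18676, e3 q16630 (flp_c L695586) q18154, e3 q16631 (flp_c L695606) q18155, e3 q16632 (flp_c L695619) q18156, e3 q16633 L681170 q14442, e3 q16634 L681178 q14443, e3 q16635 L681184 q14444, e3 q16636 (flp_c L702279) q18683, e3 q16637 (flp_c L702293) q18684, e3 q16638 (flp_c L702301) q18685, e3 q16639 (flp_c L701284) q18597, trivial⟩ (by decide +kernel)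

theorem ce_c_260 : ∀ r, r < 64 → sm gc (Qf (16640 + r)) = Qf (tab Gen.c (16640 + r)) :=
  edges_tab (sm gc) Qf (tab Gen.c) 16640 [(16640, 15531), (16641, 18598), (16642, 18599), (16643, 15543), (16644, 18600), (16645, 18695), (16646, 15874), (16647, 18665), (16648, 14661), (16649, 18637), (16650, 14470), (16651, 14458), (16652, 14459), (16653, 18700), (16654, 18701), (16655, 18638), (16656, 14479), (16657, 14463), (16658, 14481), (16659, 14482), (16660, 14610), (16661, 14910), (16662, 15530), (16663, 18219), (16664, 18356), (16665, 18698), (16666, 14473), (16667, 14474), (16668, 18482), (16669, 18184), (16670, 18223), (16671, 18703), (16672, 15865), (16673, 18177), (16674, 15084), (16675, 15086), (16676, 15485), (16677, 15088), (16678, 15495), (16679, 16679), (16680, 18718), (16681, 16681), (16682, 18661), (16683, 16683), (16684, 14493), (16685, 18723), (16686, 14516), (16687, 14496), (16688, 18726), (16689, 16689), (16690, 16690), (16691, 16691), (16692, 18732), (16693, 16693), (16694, 18735), (16695, 16695), (16696, 14502),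 (16697, 18738), (16698, 18739), (16699, 15444), (16700, 14505), (16701, 14506), (16702, 18744), (16703, 18745)]
    ⟨e3 q16640 L681233 q15531, e3 q16641 (flp_c L701301) q18598, e3 q16642 (flp_c L701318) q18599, e3 q16643 L681261 q15543, e3 q16644 (flp_c L701334) q18600, e3 q16645 L702397 q18695, e3 q16646 L681289 q15874, e3 q16647 (flp_c L702125) q18665, e3 q16648 L681320 q14661, e3 q16649 (flp_c L701814) q18637, e3 q16650 L681352 q14470, e3 q16651 L681358 q14458, e3 q16652 L681369 q14459, e3 q16653 (flp_c L702471) q18700, e3 q16654 (flp_c L702483) q18701, e3 q16655 (flp_c L701830) q18638, e3 q16656 L681415 q14479, e3 q16657 L681421 q14463, e3 q16658 L681432 q14481, e3 q16659 L681446 q14482, e3 q16660 L681458 q14610, e3 q16661 L681463 q14910, e3 q16662 L681478 q15530, e3 q16663 (flp_c L696537) q18219, e3 q16664 (flp_c L698347) q18356, e3 q16665 (flp_c L702445) q18698, e3 q16666 L681529 q14473, e3 q16667 L681544 q14474, e3 q16668 (flp_c L699807) q18482, e3 q16669 (flp_c L696035) q18184, e3 q16670 (flp_c L696592) q18223, e3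 q16671 (flp_c L702511) q18703, e3 q16672 L681600 q15865, e3 q16673 (flp_c L695924) q18177, e3 q16674 L681628 q15084, e3 q16675 L681642 q15086, e3 q16676 L681655 q15485, e3 q16677 L681665 q15088, e3 q16678 L681676 q15495, e3 q16679 L681688 q16679, e3 q16680 L702693 q18718, e3 q16681 L681707 q16681, e3 q16682 (flp_c L702079) q18661, e3 q16683 L681732 q16683, e3 q16684 (flp_c L681739) q14493, e3 q16685 (flp_c L702755) q18723, e3 q16686 L681765 q14516, e3 q16687 L681771 q14496, e3 q16688 (flp_c L702781) q18726, e3 q16689 L681788 q16689, e3 q16690 L681804 q16690, e3 q16691 L681814 q16691, e3 q16692 L702845 q18732, e3 q16693 L681833 q16693, e3 q16694 L702874 q18735, e3 q16695 L681850 q16695, e3 q16696 (flp_c L681854) q14502, e3 q16697 (flp_c L702918) q18738, e3 q16698 (flp_c L702932) q18739, e3 q16699 L681889 q15444, e3 q16700 L681899 q14505, e3 q16701 L681909 q14506, e3 q16702 (flp_c L702980) q18744, e3 q16703 (flp_c L702992) q18745, trivial⟩ (by decide +kernel)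

theorem ce_c_261 : ∀ r, r < 64 → sm gc (Qf (16704 + r)) = Qf (tab Gen.c (16704 + r)) :=
  edges_tab (sm gc) Qf (tab Gen.c) 16704 [(16704, 14527), (16705, 18749), (16706, 14529), (16707, 14509), (16708, 18753), (16709, 18754), (16710, 14511), (16711, 18737), (16712, 18758), (16713, 18722), (16714, 14514), (16715, 14515), (16716, 18764), (16717, 18765), (16718, 18766), (16719, 15432), (16720, 18538), (16721, 18725), (16722, 14519), (16723, 14520), (16724, 18772), (16725, 16725), (16726, 16726), (16727, 16727), (16728, 16728), (16729, 16729), (16730, 18780), (16731, 18748), (16732, 14528), (16733, 18448), (16734, 18782), (16735, 16735), (16736, 14532), (16737, 18449), (16738, 18786), (16739, 16739), (16740, 14534), (16741, 18789), (16742, 16742), (16743, 16743), (16744, 14537), (16745, 16745), (16746, 16746), (16747, 18644), (16748, 16748), (16749, 18798), (16750, 16750), (16751, 16751), (16752, 18803), (16753, 16753), (16754, 14545), (16755, 18807), (16756, 18808), (16757, 14547), (16758, 18762), (16759, 18812), (16760, 15021),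 (16761, 14550), (16762, 14551), (16763, 18817), (16764, 18818), (16765, 18819), (16766, 15023), (16767, 14556)]
    ⟨e3 q16704 L681933 q14527, e3 q16705 L703026 q18749, e3 q16706 L681953 q14529, e3 q16707 (flp_c L681961) q14509, e3 q16708 (flp_c L703066) q18753, e3 q16709 (flp_c L703074) q18754, e3 q16710 (flp_c L681989) q14511, e3 q16711 (flp_c L702908) q18737, e3 q16712 (flp_c L703112) q18758, e3 q16713 (flp_c L702749) q18722, e3 q16714 L682029 q14514, e3 q16715 L682038 q14515, e3 q16716 (flp_c L703178) q18764, e3 q16717 (flp_c L703185) q18765, e3 q16718 (flp_c L703196) q18766, e3 q16719 L682068 q15432, e3 q16720 (flp_c L700615) q18538, e3 q16721 (flp_c L702772) q18725, e3 q16722 L682101 q14519, e3 q16723 L682110 q14520, e3 q16724 (flp_c L703249) q18772, e3 q16725 L682126 q16725, e3 q16726 L682138 q16726, e3 q16727 L682151 q16727, e3 q16728 L682163 q16728, e3 q16729 L682172 q16729, e3 q16730 L703325 q18780, e3 q16731 (flp_c L703018) q18748, e3 q16732 (flp_c L682194) q14528, e3 q16733 (flp_c L699408) q18448, e3 q16734 (flp_c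 L703353) q18782, e3 q16735 L682234 q16735, e3 q16736 L682239 q14532, e3 q16737 (flp_c L699422) q18449, e3 q16738 (flp_c L703396) q18786, e3 q16739 L682277 q16739, e3 q16740 L682282 q14534, e3 q16741 (flp_c L703436) q18789, e3 q16742 L682302 q16742, e3 q16743 L682315 q16743, e3 q16744 L682323 q14537, e3 q16745 L682335 q16745, e3 q16746 L682343 q16746, e3 q16747 (flp_c L701919) q18644, e3 q16748 L682359 q16748, e3 q16749 L703523 q18798, e3 q16750 L682380 q16750, e3 q16751 L682390 q16751, e3 q16752 L703577 q18803, e3 q16753 L682409 q16753, e3 q16754 (flp_c L682414) q14545, e3 q16755 (flp_c L703619) q18807, e3 q16756 (flp_c L703627) q18808, e3 q16757 (flp_c L682437) q14547, e3 q16758 (flp_c L703152) q18762, e3 q16759 (flp_c L703658) q18812, e3 q16760 L682474 q15021, e3 q16761 L682484 q14550, e3 q16762 L682494 q14551, e3 q16763 (flp_c L703710) q18817, e3 q16764 (flp_c L703720) q18818, e3 q16765 (flp_c L703730) q18819, e3 q16766 L682523 q15023, e3 q16767 L682534 q14556, trivial⟩ (by decide +kernel)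

theorem ce_c_262 : ∀ r, r < 64 → sm gc (Qf (16768 + r)) = Qf (tab Gen.c (16768 + r)) :=
  edges_tab (sm gc) Qf (tab Gen.c) 16768 [(16768, 14557), (16769, 18146), (16770, 18634), (16771, 18824), (16772, 18668), (16773, 14594), (16774, 14559), (16775, 18831), (16776, 18832), (16777, 15398), (16778, 14562), (16779, 14563), (16780, 18840), (16781, 18841), (16782, 18842), (16783, 14565), (16784, 14566), (16785, 18846), (16786, 18847), (16787, 18848), (16788, 15375), (16789, 15369), (16790, 15403), (16791, 14570), (16792, 14571), (16793, 14572), (16794, 18855), (16795, 18856), (16796, 18857), (16797, 15396), (16798, 15371), (16799, 18211), (16800, 14579), (16801, 14580), (16802, 14581), (16803, 18686), (16804, 18135), (16805, 18866), (16806, 18867), (16807, 18873), (16808, 16808), (16809, 16809), (16810, 16810), (16811, 16811), (16812, 16812), (16813, 18879), (16814, 16814), (16815, 16815), (16816, 18881), (16817, 14591), (16818, 14596), (16819, 14597), (16820, 18884), (16821, 18885), (16822, 14613), (16823, 14614), (16824, 14615),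 (16825, 14884), (16826, 14601), (16827, 14602), (16828, 18894), (16829, 14604), (16830, 14619), (16831, 14620)]
    ⟨e3 q16768 L682542 q14557, e3 q16769 (flp_c L695489) q18146, e3 q16770 (flp_c L701786) q18634, e3 q16771 (flp_c L703774) q18824, e3 q16772 (flp_c L702161) q18668, e3 q16773 L682576 q14594, e3 q16774 (flp_c L682584) q14559, e3 q16775 (flp_c L703827) q18831, e3 q16776 (flp_c L703835) q18832, e3 q16777 L682618 q15398, e3 q16778 L682622 q14562, e3 q16779 L682628 q14563, e3 q16780 (flp_c L703915) q18840, e3 q16781 (flp_c L703921) q18841, e3 q16782 (flp_c L703929) q18842, e3 q16783 L682660 q14565, e3 q16784 L682671 q14566, e3 q16785 (flp_c L703961) q18846, e3 q16786 (flp_c L703970) q18847, e3 q16787 (flp_c L703983) q18848, e3 q16788 L682705 q15375, e3 q16789 L682723 q15369, e3 q16790 L682736 q15403, e3 q16791 L682746 q14570, e3 q16792 L682751 q14571, e3 q16793 L682760 q14572, e3 q16794 (flp_c L704063) q18855, e3 q16795 (flp_c L704070) q18856, e3 q16796 (flp_c L704077) q18857, e3 q16797 L682786 q15396, e3 q16798 L682800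 q15371, e3 q16799 (flp_c L696431) q18211, e3 q16800 L682813 q14579, e3 q16801 L682820 q14580, e3 q16802 L682829 q14581, e3 q16803 (flp_c L702309) q18686, e3 q16804 (flp_c L695321) q18135, e3 q16805 (flp_c L704147) q18866, e3 q16806 (flp_c L704156) q18867, e3 q16807 L704191 q18873, e3 q16808 L682867 q16808, e3 q16809 L682878 q16809, e3 q16810 L682888 q16810, e3 q16811 L682896 q16811, e3 q16812 L682905 q16812, e3 q16813 L704244 q18879, e3 q16814 L682918 q16814, e3 q16815 L682929 q16815, e3 q16816 L704259 q18881, e3 q16817 (flp_c L682942) q14591, e3 q16818 L682950 q14596, e3 q16819 L682960 q14597, e3 q16820 (flp_c L704290) q18884, e3 q16821 (flp_c L704301) q18885, e3 q16822 L682988 q14613, e3 q16823 L683001 q14614, e3 q16824 L683013 q14615, e3 q16825 L683026 q14884, e3 q16826 L683030 q14601, e3 q16827 L683039 q14602, e3 q16828 (flp_c L704400) q18894, e3 q16829 L683060 q14604, e3 q16830 L683072 q14619, e3 q16831 L683083 q14620, trivial⟩ (by decide +kernel)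

theorem ce_c_263 : ∀ r, r < 64 → sm gc (Qf (16832 + r)) = Qf (tab Gen.c (16832 + r)) :=
  edges_tab (sm gc) Qf (tab Gen.c) 16832 [(16832, 18704), (16833, 14621), (16834, 18185), (16835, 18706), (16836, 15424), (16837, 18887), (16838, 18888), (16839, 18890), (16840, 18891), (16841, 14618), (16842, 15290), (16843, 18898), (16844, 14662), (16845, 14663), (16846, 14702), (16847, 14703), (16848, 14704), (16849, 14705), (16850, 14707), (16851, 14708), (16852, 14711), (16853, 18089), (16854, 16854), (16855, 18910), (16856, 16856), (16857, 18913), (16858, 16858), (16859, 14644), (16860, 18915), (16861, 14647), (16862, 18917), (16863, 14665), (16864, 15563), (16865, 14666), (16866, 15565), (16867, 15566), (16868, 15567), (16869, 15568), (16870, 15569), (16871, 15570), (16872, 15571), (16873, 15572), (16874, 15969), (16875, 18601), (16876, 18696), (16877, 18297), (16878, 18289), (16879, 18919), (16880, 14919), (16881, 18935), (16882, 14921), (16883, 14922), (16884, 15553), (16885, 14923), (16886, 15555), (16887, 15556), (16888, 15149),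 (16889, 15557), (16890, 15147), (16891, 15151), (16892, 15558), (16893, 15152), (16894, 18951), (16895, 14713)]
    ⟨e3 q16832 (flp_c L702525) q18704, e3 q16833 L683100 q14621, e3 q16834 (flp_c L696058) q18185, e3 q16835 (flp_c L702544) q18706, e3 q16836 L683120 q15424, e3 q16837 (flp_c L704324) q18887, e3 q16838 (flp_c L704336) q18888, e3 q16839 (flp_c L704359) q18890, e3 q16840 (flp_c L704372) q18891, e3 q16841 L683183 q14618, e3 q16842 L683202 q15290, e3 q16843 (flp_c L704442) q18898, e3 q16844 L683225 q14662, e3 q16845 L683239 q14663, e3 q16846 L683248 q14702, e3 q16847 L683262 q14703, e3 q16848 L683276 q14704, e3 q16849 L683287 q14705, e3 q16850 L683303 q14707, e3 q16851 L683318 q14708, e3 q16852 L683333 q14711, e3 q16853 (flp_c L694604) q18089, e3 q16854 L683356 q16854, e3 q16855 L704594 q18910, e3 q16856 L683379 q16856, e3 q16857 L704629 q18913, e3 q16858 L683403 q16858, e3 q16859 (flp_c L683411) q14644, e3 q16860 (flp_c L704660) q18915, e3 q16861 L683440 q14647, e3 q16862 (flp_c L704685) q18917, e3 q16863 L683465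 q14665, e3 q16864 L683480 q15563, e3 q16865 L683488 q14666, e3 q16866 L683500 q15565, e3 q16867 L683510 q15566, e3 q16868 L683522 q15567, e3 q16869 L683535 q15568, e3 q16870 L683546 q15569, e3 q16871 L683556 q15570, e3 q16872 L683568 q15571, e3 q16873 L683580 q15572, e3 q16874 L683591 q15969, e3 q16875 (flp_c L701353) q18601, e3 q16876 (flp_c L702416) q18696, e3 q16877 L697557 q18297, e3 q16878 (flp_c L697435) q18289, e3 q16879 (flp_c L704711) q18919, e3 q16880 L683649 q14919, e3 q16881 L704883 q18935, e3 q16882 L683667 q14921, e3 q16883 L683680 q14922, e3 q16884 L683695 q15553, e3 q16885 L683703 q14923, e3 q16886 L683715 q15555, e3 q16887 L683725 q15556, e3 q16888 L683737 q15149, e3 q16889 L683749 q15557, e3 q16890 L683760 q15147, e3 q16891 L683769 q15151, e3 q16892 L683780 q15558, e3 q16893 L683792 q15152, e3 q16894 L705060 q18951, e3 q16895 L683808 q14713, trivial⟩ (by decide +kernel)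

theorem ce_c_264 : ∀ r, r < 64 → sm gc (Qf (16896 + r)) = Qf (tab Gen.c (16896 + r)) :=
  edges_tab (sm gc) Qf (tab Gen.c) 16896 [(16896, 14680), (16897, 18954), (16898, 18955), (16899, 18250), (16900, 14683), (16901, 14684), (16902, 18962), (16903, 18963), (16904, 18964), (16905, 14687), (16906, 15560), (16907, 15960), (16908, 18968), (16909, 18261), (16910, 14691), (16911, 14692), (16912, 14693), (16913, 18300), (16914, 18972), (16915, 18973), (16916, 18267), (16917, 14699), (16918, 18302), (16919, 18304), (16920, 18305), (16921, 18981), (16922, 14920), (16923, 15777), (16924, 15970), (16925, 15536), (16926, 18904), (16927, 18905), (16928, 18988), (16929, 15869), (16930, 18906), (16931, 18478), (16932, 14709), (16933, 15870), (16934, 14712), (16935, 18991), (16936, 14716), (16937, 15624), (16938, 14727), (16939, 18699), (16940, 14720), (16941, 15538), (16942, 18315), (16943, 15619), (16944, 15853), (16945, 15621), (16946, 18316), (16947, 18319), (16948, 16948), (16949, 19001), (16950, 16950), (16951, 14739), (16952, 19004),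 (16953, 19005), (16954, 14741), (16955, 19008), (16956, 14744), (16957, 19010), (16958, 14746), (16959, 14924)]
    ⟨e3 q16896 (flp_c L683817) q14680, e3 q16897 (flp_c L705096) q18954, e3 q16898 (flp_c L705112) q18955, e3 q16899 (flp_c L696946) q18250, e3 q16900 L683861 q14683, e3 q16901 L683871 q14684, e3 q16902 (flp_c L705194) q18962, e3 q16903 (flp_c L705208) q18963, e3 q16904 (flp_c L705218) q18964, e3 q16905 L683903 q14687, e3 q16906 L683914 q15560, e3 q16907 L683922 q15960, e3 q16908 (flp_c L705254) q18968, e3 q16909 (flp_c L697069) q18261, e3 q16910 L683958 q14691, e3 q16911 L683972 q14692, e3 q16912 L683986 q14693, e3 q16913 (flp_c L697604) q18300, e3 q16914 (flp_c L705306) q18972, e3 q16915 (flp_c L705320) q18973, e3 q16916 (flp_c L697141) q18267, e3 q16917 L684035 q14699, e3 q16918 (flp_c L697633) q18302, e3 q16919 (flp_c L697659) q18304, e3 q16920 (flp_c L697673) q18305, e3 q16921 L705394 q18981, e3 q16922 L684085 q14920, e3 q16923 L684093 q15777, e3 q16924 L684101 q15970, e3 q16925 L684115 q15536, e3 q16926 (flp_c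 L704514) q18904, e3 q16927 (flp_c L704529) q18905, e3 q16928 L705463 q18988, e3 q16929 L684148 q15869, e3 q16930 (flp_c L704543) q18906, e3 q16931 (flp_c L699751) q18478, e3 q16932 (flp_c L684172) q14709, e3 q16933 L684184 q15870, e3 q16934 (flp_c L684192) q14712, e3 q16935 (flp_c L705501) q18991, e3 q16936 L684230 q14716, e3 q16937 L684246 q15624, e3 q16938 L684264 q14727, e3 q16939 (flp_c L702463) q18699, e3 q16940 L684296 q14720, e3 q16941 L684312 q15538, e3 q16942 (flp_c L697802) q18315, e3 q16943 L684336 q15619, e3 q16944 L684351 q15853, e3 q16945 L684359 q15621, e3 q16946 (flp_c L697818) q18316, e3 q16947 (flp_c L697859) q18319, e3 q16948 L684390 q16948, e3 q16949 L705616 q19001, e3 q16950 L684408 q16950, e3 q16951 (flp_c L684413) q14739, e3 q16952 (flp_c L705645) q19004, e3 q16953 (flp_c L705651) q19005, e3 q16954 (flp_c L684436) q14741, e3 q16955 (flp_c L705678) q19008, e3 q16956 L684457 q14744, e3 q16957 (flp_c L705693) q19010, e3 q16958 L684470 q14746, e3 q16959 L684481 q14924, trivial⟩ (by decide +kernel)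

theorem ce_c_265 : ∀ r, r < 64 → sm gc (Qf (16960 + r)) = Qf (tab Gen.c (16960 + r)) :=
  edges_tab (sm gc) Qf (tab Gen.c) 16960 [(16960, 19014), (16961, 14926), (16962, 14906), (16963, 15766), (16964, 14927), (16965, 15807), (16966, 15769), (16967, 15808), (16968, 15771), (16969, 15809), (16970, 15774), (16971, 15740), (16972, 15754), (16973, 19030), (16974, 14785), (16975, 14760), (16976, 19033), (16977, 19034), (16978, 18332), (16979, 14763), (16980, 14764), (16981, 19041), (16982, 19042), (16983, 19043), (16984, 14766), (16985, 14767), (16986, 19046), (16987, 19047), (16988, 19048), (16989, 18333), (16990, 14771), (16991, 14772), (16992, 14773), (16993, 19053), (16994, 19054), (16995, 18336), (16996, 14777), (16997, 19058), (16998, 16998), (16999, 16999), (17000, 17000), (17001, 17001), (17002, 19063), (17003, 14783), (17004, 14784), (17005, 19064), (17006, 19065), (17007, 14787), (17008, 14788), (17009, 19068), (17010, 17010), (17011, 17011), (17012, 17012), (17013, 18422), (17014, 14792), (17015, 17015), (17016, 14934),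 (17017, 19077), (17018, 14936), (17019, 14799), (17020, 19081), (17021, 19082), (17022, 19086), (17023, 14940)]
    ⟨e3 q16960 L705733 q19014, e3 q16961 L684501 q14926, e3 q16962 L684516 q14906, e3 q16963 L684533 q15766, e3 q16964 L684541 q14927, e3 q16965 L684553 q15807, e3 q16966 L684563 q15769, e3 q16967 L684575 q15808, e3 q16968 L684587 q15771, e3 q16969 L684598 q15809, e3 q16970 L684607 q15774, e3 q16971 L684618 q15740, e3 q16972 L684630 q15754, e3 q16973 L705918 q19030, e3 q16974 L684650 q14785, e3 q16975 (flp_c L684657) q14760, e3 q16976 (flp_c L705958) q19033, e3 q16977 (flp_c L705970) q19034, e3 q16978 (flp_c L698030) q18332, e3 q16979 L684703 q14763, e3 q16980 L684713 q14764, e3 q16981 (flp_c L706036) q19041, e3 q16982 (flp_c L706046) q19042, e3 q16983 (flp_c L706056) q19043, e3 q16984 L684749 q14766, e3 q16985 L684763 q14767, e3 q16986 (flp_c L706088) q19046, e3 q16987 (flp_c L706101) q19047, e3 q16988 (flp_c L706115) q19048, e3 q16989 (flp_c L698045) q18333, e3 q16990 L684810 q14771, e3 q16991 L684819 q14772,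 e3 q16992 L684830 q14773, e3 q16993 (flp_c L706166) q19053, e3 q16994 (flp_c L706175) q19054, e3 q16995 (flp_c L698085) q18336, e3 q16996 L684869 q14777, e3 q16997 L706207 q19058, e3 q16998 L684887 q16998, e3 q16999 L684894 q16999, e3 q17000 L684903 q17000, e3 q17001 L684914 q17001, e3 q17002 L706247 q19063, e3 q17003 (flp_c L684925) q14783, e3 q17004 (flp_c L684932) q14784, e3 q17005 (flp_c L706261) q19064, e3 q17006 (flp_c L706277) q19065, e3 q17007 L684978 q14787, e3 q17008 L684991 q14788, e3 q17009 (flp_c L706318) q19068, e3 q17010 L685013 q17010, e3 q17011 L685028 q17011, e3 q17012 L685040 q17012, e3 q17013 (flp_c L699105) q18422, e3 q17014 L685060 q14792, e3 q17015 L685075 q17015, e3 q17016 L685089 q14934, e3 q17017 L706433 q19077, e3 q17018 L685106 q14936, e3 q17019 (flp_c L685113) q14799, e3 q17020 (flp_c L706464) q19081, e3 q17021 (flp_c L706470) q19082, e3 q17022 L706495 q19086, e3 q17023 L685144 q14940, trivial⟩ (by decide +kernel)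

theorem ce_c_266 : ∀ r, r < 64 → sm gc (Qf (17024 + r)) = Qf (tab Gen.c (17024 + r)) :=
  edges_tab (sm gc) Qf (tab Gen.c) 17024 [(17024, 14802), (17025, 19090), (17026, 19091), (17027, 18376), (17028, 14805), (17029, 14806), (17030, 19098), (17031, 19099), (17032, 19100), (17033, 18382), (17034, 14808), (17035, 14809), (17036, 19105), (17037, 19106), (17038, 19107), (17039, 18387), (17040, 14813), (17041, 14814), (17042, 14815), (17043, 19112), (17044, 19113), (17045, 19114), (17046, 18394), (17047, 14820), (17048, 14821), (17049, 14822), (17050, 19119), (17051, 19120), (17052, 19121), (17053, 19126), (17054, 14823), (17055, 19128), (17056, 19129), (17057, 18403), (17058, 14826), (17059, 14827), (17060, 19137), (17061, 19138), (17062, 19139), (17063, 18409), (17064, 18410), (17065, 18411), (17066, 18839), (17067, 14831), (17068, 14832), (17069, 14833), (17070, 19152), (17071, 19153), (17072, 19154), (17073, 18419), (17074, 15900), (17075, 18420), (17076, 14837), (17077, 14838), (17078, 14839), (17079, 19164), (17080, 19165),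 (17081, 19166), (17082, 18425), (17083, 18426), (17084, 18427), (17085, 18428), (17086, 14846), (17087, 14847)]
    ⟨e3 q17024 (flp_c L685151) q14802, e3 q17025 (flp_c L706541) q19090, e3 q17026 (flp_c L706553) q19091, e3 q17027 (flp_c L698597) q18376, e3 q17028 L685191 q14805, e3 q17029 L685201 q14806, e3 q17030 (flp_c L706615) q19098, e3 q17031 (flp_c L706625) q19099, e3 q17032 (flp_c L706635) q19100, e3 q17033 (flp_c L698654) q18382, e3 q17034 L685244 q14808, e3 q17035 L685257 q14809, e3 q17036 (flp_c L706682) q19105, e3 q17037 (flp_c L706694) q19106, e3 q17038 (flp_c L706707) q19107, e3 q17039 (flp_c L698710) q18387, e3 q17040 L685298 q14813, e3 q17041 L685308 q14814, e3 q17042 L685320 q14815, e3 q17043 (flp_c L706754) q19112, e3 q17044 (flp_c L706766) q19113, e3 q17045 (flp_c L706776) q19114, e3 q17046 (flp_c L698793) q18394, e3 q17047 L685365 q14820, e3 q17048 L685379 q14821, e3 q17049 L685392 q14822, e3 q17050 (flp_c L706817) q19119, e3 q17051 (flp_c L706832) q19120, e3 q17052 (flp_c L706846) q19121, e3 q17053 L706892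 q19126, e3 q17054 (flp_c L685429) q14823, e3 q17055 (flp_c L706915) q19128, e3 q17056 (flp_c L706923) q19129, e3 q17057 (flp_c L698904) q18403, e3 q17058 L685463 q14826, e3 q17059 L685469 q14827, e3 q17060 (flp_c L706990) q19137, e3 q17061 (flp_c L706998) q19138, e3 q17062 (flp_c L707006) q19139, e3 q17063 (flp_c L698962) q18409, e3 q17064 (flp_c L698978) q18410, e3 q17065 (flp_c L698986) q18411, e3 q17066 (flp_c L703909) q18839, e3 q17067 L685527 q14831, e3 q17068 L685533 q14832, e3 q17069 L685541 q14833, e3 q17070 (flp_c L707097) q19152, e3 q17071 (flp_c L707105) q19153, e3 q17072 (flp_c L707113) q19154, e3 q17073 (flp_c L699062) q18419, e3 q17074 L685580 q15900, e3 q17075 (flp_c L699079) q18420, e3 q17076 L685597 q14837, e3 q17077 L685604 q14838, e3 q17078 L685614 q14839, e3 q17079 (flp_c L707198) q19164, e3 q17080 (flp_c L707204) q19165, e3 q17081 (flp_c L707213) q19166, e3 q17082 (flp_c L699143) q18425, e3 q17083 (flp_c L699157) q18426, e3 q17084 (flp_c L699173) q18427, e3 q17085 (flp_c L699187) q18428, e3 q17086 L685669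 q14846, e3 q17087 L685676 q14847, trivial⟩ (by decide +kernel)

theorem ce_c_267 : ∀ r, r < 64 → sm gc (Qf (17088 + r)) = Qf (tab Gen.c (17088 + r)) :=
  edges_tab (sm gc) Qf (tab Gen.c) 17088 [(17088, 14848), (17089, 15633), (17090, 19177), (17091, 19178), (17092, 19179), (17093, 19185), (17094, 18437), (17095, 15686), (17096, 15695), (17097, 18438), (17098, 18354), (17099, 14857), (17100, 14858), (17101, 14859), (17102, 19193), (17103, 15106), (17104, 19190), (17105, 19191), (17106, 19197), (17107, 14860), (17108, 17108), (17109, 17109), (17110, 17110), (17111, 19202), (17112, 17112), (17113, 17113), (17114, 19205), (17115, 14867), (17116, 17116), (17117, 19209), (17118, 14870), (17119, 18459), (17120, 14897), (17121, 14874), (17122, 14875), (17123, 19213), (17124, 19214), (17125, 14901), (17126, 14902), (17127, 14903), (17128, 18883), (17129, 14879), (17130, 14880), (17131, 19211), (17132, 14904), (17133, 14905), (17134, 19017), (17135, 14907), (17136, 14908), (17137, 18892), (17138, 18893), (17139, 14887), (17140, 15631),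 (17141, 19228), (17142, 14912), (17143, 14913), (17144, 15632), (17145, 14915), (17146, 18353), (17147, 15105), (17148, 19215), (17149, 19220), (17150, 19221), (17151, 19018)]
    ⟨e3 q17088 L685683 q14848, e3 q17089 L685697 q15633, e3 q17090 (flp_c L707306) q19177, e3 q17091 (flp_c L707313) q19178, e3 q17092 (flp_c L707322) q19179, e3 q17093 L707363 q19185, e3 q17094 (flp_c L699275) q18437, e3 q17095 L685738 q15686, e3 q17096 L685751 q15695, e3 q17097 (flp_c L699290) q18438, e3 q17098 (flp_c L698321) q18354, e3 q17099 L685779 q14857, e3 q17100 L685787 q14858, e3 q17101 L685796 q14859, e3 q17102 L707441 q19193, e3 q17103 L685811 q15106, e3 q17104 (flp_c L707419) q19190, e3 q17105 (flp_c L707429) q19191, e3 q17106 L707476 q19197, e3 q17107 (flp_c L685840) q14860, e3 q17108 L685847 q17108, e3 q17109 L685854 q17109, e3 q17110 L685860 q17110, e3 q17111 L707516 q19202, e3 q17112 L685874 q17112, e3 q17113 L685881 q17113, e3 q17114 L707542 q19205, e3 q17115 (flp_c L685892) q14867, e3 q17116 L685900 q17116, e3 q17117 L707565 q19209,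 e3 q17118 (flp_c L685912) q14870, e3 q17119 (flp_c L699528) q18459, e3 q17120 L685939 q14897, e3 q17121 L685949 q14874, e3 q17122 L685961 q14875, e3 q17123 (flp_c L707621) q19213, e3 q17124 (flp_c L707639) q19214, e3 q17125 L686001 q14901, e3 q17126 L686021 q14902, e3 q17127 L686034 q14903, e3 q17128 (flp_c L704284) q18883, e3 q17129 L686047 q14879, e3 q17130 L686058 q14880, e3 q17131 (flp_c L707594) q19211, e3 q17132 L686085 q14904, e3 q17133 L686098 q14905, e3 q17134 (flp_c L705774) q19017, e3 q17135 L686115 q14907, e3 q17136 L686128 q14908, e3 q17137 (flp_c L704383) q18892, e3 q17138 (flp_c L704391) q18893, e3 q17139 L686158 q14887, e3 q17140 L686177 q15631, e3 q17141 L707796 q19228, e3 q17142 L686198 q14912, e3 q17143 L686208 q14913, e3 q17144 L686225 q15632, e3 q17145 L686233 q14915, e3 q17146 (flp_c L698307) q18353, e3 q17147 L686252 q15105, e3 q17148 (flp_c L707656) q19215, e3 q17149 (flp_c L707717) q19220, e3 q17150 (flp_c L707734) q19221, e3 q17151 (flp_c L705784) q19018, trivial⟩ (by decide +kernel)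

theorem ce_c_268 : ∀ r, r < 64 → sm gc (Qf (17152 + r)) = Qf (tab Gen.c (17152 + r)) :=
  edges_tab (sm gc) Qf (tab Gen.c) 17152 [(17152, 18357), (17153, 19229), (17154, 18360), (17155, 18299), (17156, 18934), (17157, 18982), (17158, 18939), (17159, 19013), (17160, 14925), (17161, 19235), (17162, 14929), (17163, 17163), (17164, 17164), (17165, 19076), (17166, 14935), (17167, 19239), (17168, 17168), (17169, 14938), (17170, 14939), (17171, 19245), (17172, 19246), (17173, 17173), (17174, 14942), (17175, 17175), (17176, 17176), (17177, 17177), (17178, 19244), (17179, 14946), (17180, 17180), (17181, 17181), (17182, 17182), (17183, 17183), (17184, 15628), (17185, 14976), (17186, 18348), (17187, 17187), (17188, 17188), (17189, 19260), (17190, 15630), (17191, 14969), (17192, 14978), (17193, 18352), (17194, 15103), (17195, 15101), (17196, 18122), (17197, 18125), (17198, 18569), (17199, 18123), (17200, 18124), (17201, 18119), (17202, 18111), (17203, 14995), (17204, 19267), (17205, 15345), (17206, 15346), (17207, 14999), (17208, 15000),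 (17209, 15001), (17210, 19270), (17211, 19271), (17212, 18188), (17213, 15034), (17214, 18192), (17215, 15013)]
    ⟨e3 q17152 (flp_c L698362) q18357, e3 q17153 (flp_c L707815) q19229, e3 q17154 (flp_c L698402) q18360, e3 q17155 (flp_c L697584) q18299, e3 q17156 (flp_c L704874) q18934, e3 q17157 (flp_c L705409) q18982, e3 q17158 (flp_c L704926) q18939, e3 q17159 (flp_c L705722) q19013, e3 q17160 (flp_c L686420) q14925, e3 q17161 (flp_c L707889) q19235, e3 q17162 L686455 q14929, e3 q17163 L686473 q17163, e3 q17164 L686489 q17164, e3 q17165 (flp_c L706423) q19076, e3 q17166 (flp_c L686510) q14935, e3 q17167 (flp_c L707947) q19239, e3 q17168 L686538 q17168, e3 q17169 L686543 q14938, e3 q17170 L686554 q14939, e3 q17171 (flp_c L708016) q19245, e3 q17172 (flp_c L708028) q19246, e3 q17173 L686593 q17173, e3 q17174 L686598 q14942, e3 q17175 L686610 q17175, e3 q17176 L686629 q17176, e3 q17177 L686642 q17177, e3 q17178 (flp_c L708010) q19244, e3 q17179 L686663 q14946, e3 q17180 L686681 q17180, e3 q17181 L686695 q17181, e3 q17182 L686708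 q17182, e3 q17183 L686723 q17183, e3 q17184 L686739 q15628, e3 q17185 L686749 q14976, e3 q17186 (flp_c L698239) q18348, e3 q17187 L686769 q17187, e3 q17188 L686779 q17188, e3 q17189 L708209 q19260, e3 q17190 L686798 q15630, e3 q17191 (flp_c L686804) q14969, e3 q17192 L686822 q14978, e3 q17193 (flp_c L698292) q18352, e3 q17194 L686841 q15103, e3 q17195 L686853 q15101, e3 q17196 (flp_c L695110) q18122, e3 q17197 (flp_c L695159) q18125, e3 q17198 (flp_c L700989) q18569, e3 q17199 (flp_c L695128) q18123, e3 q17200 (flp_c L695145) q18124, e3 q17201 (flp_c L695052) q18119, e3 q17202 (flp_c L694928) q18111, e3 q17203 L686944 q14995, e3 q17204 (flp_c L708302) q19267, e3 q17205 L686970 q15345, e3 q17206 L686983 q15346, e3 q17207 L686995 q14999, e3 q17208 L687006 q15000, e3 q17209 L687017 q15001, e3 q17210 (flp_c L708341) q19270, e3 q17211 (flp_c L708352) q19271, e3 q17212 (flp_c L696113) q18188, e3 q17213 L687061 q15034, e3 q17214 (flp_c L696169) q18192, e3 q17215 L687089 q15013, trivial⟩ (by decide +kernel)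

theorem ce_c_269 : ∀ r, r < 64 → sm gc (Qf (17216 + r)) = Qf (tab Gen.c (17216 + r)) :=
  edges_tab (sm gc) Qf (tab Gen.c) 17216 [(17216, 19276), (17217, 18199), (17218, 18200), (17219, 18206), (17220, 15018), (17221, 15083), (17222, 18806), (17223, 17223), (17224, 18816), (17225, 18823), (17226, 18190), (17227, 18191), (17228, 18193), (17229, 18194), (17230, 18195), (17231, 18198), (17232, 17232), (17233, 18134), (17234, 18189), (17235, 18178), (17236, 18179), (17237, 18180), (17238, 18181), (17239, 18182), (17240, 18183), (17241, 18141), (17242, 15071), (17243, 15045), (17244, 19294), (17245, 19295), (17246, 15476), (17247, 15048), (17248, 15049), (17249, 19301), (17250, 19302), (17251, 19303), (17252, 15482), (17253, 15051), (17254, 19308), (17255, 15486), (17256, 15487), (17257, 15055), (17258, 15056), (17259, 15057), (17260, 19312), (17261, 19313), (17262, 19314), (17263, 15497), (17264, 15498), (17265, 15063), (17266, 15064), (17267, 15065), (17268, 19279), (17269, 18653), (17270, 19319), (17271, 19320), (17272, 17272),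 (17273, 17273), (17274, 15073), (17275, 15085), (17276, 15277), (17277, 15077), (17278, 15087), (17279, 15089)]
    ⟨e3 q17216 (flp_c L708418) q19276, e3 q17217 (flp_c L696265) q18199, e3 q17218 (flp_c L696279) q18200, e3 q17219 (flp_c L696359) q18206, e3 q17220 L687145 q15018, e3 q17221 L687157 q15083, e3 q17222 (flp_c L703613) q18806, e3 q17223 L687177 q17223, e3 q17224 (flp_c L703697) q18816, e3 q17225 (flp_c L703762) q18823, e3 q17226 (flp_c L696141) q18190, e3 q17227 (flp_c L696155) q18191, e3 q17228 (flp_c L696185) q18193, e3 q17229 (flp_c L696198) q18194, e3 q17230 (flp_c L696213) q18195, e3 q17231 (flp_c L696253) q18198, e3 q17232 L687274 q17232, e3 q17233 (flp_c L695303) q18134, e3 q17234 (flp_c L696123) q18189, e3 q17235 (flp_c L695939) q18178, e3 q17236 (flp_c L695955) q18179, e3 q17237 (flp_c L695969) q18180, e3 q17238 (flp_c L695987) q18181, e3 q17239 (flp_c L696005) q18182, e3 q17240 (flp_c L696019) q18183, e3 q17241 (flp_c L695423) q18141, e3 q17242 L687397 q15071, e3 q17243 (flp_c L687407) q15045, e3 q17244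 (flp_c L708628) q19294, e3 q17245 (flp_c L708638) q19295, e3 q17246 L687447 q15476, e3 q17247 L687451 q15048, e3 q17248 L687455 q15049, e3 q17249 (flp_c L708704) q19301, e3 q17250 (flp_c L708714) q19302, e3 q17251 (flp_c L708720) q19303, e3 q17252 L687499 q15482, e3 q17253 L687503 q15051, e3 q17254 (flp_c L708768) q19308, e3 q17255 L687529 q15486, e3 q17256 L687542 q15487, e3 q17257 L687550 q15055, e3 q17258 L687559 q15056, e3 q17259 L687570 q15057, e3 q17260 (flp_c L708812) q19312, e3 q17261 (flp_c L708821) q19313, e3 q17262 (flp_c L708830) q19314, e3 q17263 L687610 q15497, e3 q17264 L687619 q15498, e3 q17265 L687623 q15063, e3 q17266 L687628 q15064, e3 q17267 L687635 q15065, e3 q17268 (flp_c L708458) q19279, e3 q17269 (flp_c L702015) q18653, e3 q17270 (flp_c L708878) q19319, e3 q17271 (flp_c L708885) q19320, e3 q17272 L687671 q17272, e3 q17273 L687682 q17273, e3 q17274 L687693 q15073, e3 q17275 L687703 q15085, e3 q17276 L687722 q15277, e3 q17277 L687730 q15077, e3 q17278 L687743 q15087, e3 q17279 L687752 q15089, trivial⟩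 (by decide +kernel)

theorem ce_c_270 : ∀ r, r < 64 → sm gc (Qf (17280 + r)) = Qf (tab Gen.c (17280 + r)) :=
  edges_tab (sm gc) Qf (tab Gen.c) 17280 [(17280, 18147), (17281, 18712), (17282, 18713), (17283, 18604), (17284, 15892), (17285, 15893), (17286, 17286), (17287, 15895), (17288, 18098), (17289, 17289), (17290, 19327), (17291, 17291), (17292, 18468), (17293, 17293), (17294, 19262), (17295, 19232), (17296, 19231), (17297, 19181), (17298, 18412), (17299, 18469), (17300, 15578), (17301, 15110), (17302, 15111), (17303, 19340), (17304, 19341), (17305, 15584), (17306, 15113), (17307, 19345), (17308, 15222), (17309, 15591), (17310, 15116), (17311, 15223), (17312, 15598), (17313, 15259), (17314, 15132), (17315, 15133), (17316, 15122), (17317, 15135), (17318, 15136), (17319, 15125), (17320, 15138), (17321, 15139), (17322, 15286), (17323, 15141), (17324, 18322), (17325, 15289), (17326, 19351), (17327, 19352), (17328, 15300), (17329, 19354), (17330, 19355), (17331, 19357), (17332, 18321), (17333, 15776), (17334, 18945), (17335,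 17335), (17336, 18942), (17337, 18948), (17338, 18946), (17339, 18949), (17340, 15153), (17341, 19368), (17342, 19369), (17343, 15155)]
    ⟨e3 q17280 (flp_c L695505) q18147, e3 q17281 (flp_c L702625) q18712, e3 q17282 (flp_c L702641) q18713, e3 q17283 (flp_c L701406) q18604, e3 q17284 L687809 q15892, e3 q17285 L687820 q15893, e3 q17286 L687835 q17286, e3 q17287 L687844 q15895, e3 q17288 (flp_c L694734) q18098, e3 q17289 L687862 q17289, e3 q17290 L708945 q19327, e3 q17291 L687888 q17291, e3 q17292 (flp_c L699638) q18468, e3 q17293 L687915 q17293, e3 q17294 (flp_c L708234) q19262, e3 q17295 (flp_c L707848) q19232, e3 q17296 (flp_c L707836) q19231, e3 q17297 (flp_c L707335) q19181, e3 q17298 (flp_c L699002) q18412, e3 q17299 (flp_c L699651) q18469, e3 q17300 L687999 q15578, e3 q17301 L688005 q15110, e3 q17302 L688013 q15111, e3 q17303 (flp_c L709105) q19340, e3 q17304 (flp_c L709115) q19341, e3 q17305 L688048 q15584, e3 q17306 L688054 q15113, e3 q17307 (flp_c L709161) q19345, e3 q17308 L688078 q15222, e3 q17309 L688094 q15591,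 e3 q17310 L688106 q15116, e3 q17311 L688118 q15223, e3 q17312 L688131 q15598, e3 q17313 L688141 q15259, e3 q17314 L688147 q15132, e3 q17315 L688160 q15133, e3 q17316 L688168 q15122, e3 q17317 L688175 q15135, e3 q17318 L688189 q15136, e3 q17319 L688200 q15125, e3 q17320 L688214 q15138, e3 q17321 L688224 q15139, e3 q17322 L688238 q15286, e3 q17323 L688246 q15141, e3 q17324 (flp_c L697909) q18322, e3 q17325 L688262 q15289, e3 q17326 (flp_c L709230) q19351, e3 q17327 (flp_c L709240) q19352, e3 q17328 L688294 q15300, e3 q17329 (flp_c L709260) q19354, e3 q17330 (flp_c L709271) q19355, e3 q17331 (flp_c L709295) q19357, e3 q17332 (flp_c L697890) q18321, e3 q17333 L688347 q15776, e3 q17334 (flp_c L704995) q18945, e3 q17335 L688375 q17335, e3 q17336 (flp_c L704961) q18942, e3 q17337 (flp_c L705031) q18948, e3 q17338 (flp_c L705006) q18946, e3 q17339 (flp_c L705040) q18949, e3 q17340 (flp_c L688427) q15153, e3 q17341 (flp_c L709419) q19368, e3 q17342 (flp_c L709427) q19369, e3 q17343 (flp_c L688450) q15155, trivial⟩ (by decide +kernel)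

theorem ce_c_271 : ∀ r, r < 64 → sm gc (Qf (17344 + r)) = Qf (tab Gen.c (17344 + r)) :=
  edges_tab (sm gc) Qf (tab Gen.c) 17344 [(17344, 19372), (17345, 15158), (17346, 19374), (17347, 15160), (17348, 19376), (17349, 15184), (17350, 15162), (17351, 19380), (17352, 19381), (17353, 18240), (17354, 15165), (17355, 15166), (17356, 19388), (17357, 19389), (17358, 19390), (17359, 18237), (17360, 15168), (17361, 15169), (17362, 19394), (17363, 19395), (17364, 19396), (17365, 18241), (17366, 15173), (17367, 15174), (17368, 15175), (17369, 19400), (17370, 19401), (17371, 18244), (17372, 15179), (17373, 15753), (17374, 17374), (17375, 15183), (17376, 19408), (17377, 17377), (17378, 15186), (17379, 15187), (17380, 19412), (17381, 19413), (17382, 17382), (17383, 17383), (17384, 17384), (17385, 15729), (17386, 15191), (17387, 15192), (17388, 19420), (17389, 17389), (17390, 17390), (17391, 15195), (17392, 17392), (17393, 17393), (17394, 15939), (17395, 17395), (17396, 19210), (17397, 15953), (17398, 15202), (17399, 19430), (17400, 19431),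 (17401, 19434), (17402, 17402), (17403, 15205), (17404, 19438), (17405, 19439), (17406, 15675), (17407, 15208)]
    ⟨e3 q17344 (flp_c L709452) q19372, e3 q17345 L688479 q15158, e3 q17346 (flp_c L709479) q19374, e3 q17347 L688498 q15160, e3 q17348 L709495 q19376, e3 q17349 L688514 q15184, e3 q17350 (flp_c L688521) q15162, e3 q17351 (flp_c L709533) q19380, e3 q17352 (flp_c L709541) q19381, e3 q17353 (flp_c L696808) q18240, e3 q17354 L688559 q15165, e3 q17355 L688565 q15166, e3 q17356 (flp_c L709611) q19388, e3 q17357 (flp_c L709619) q19389, e3 q17358 (flp_c L709627) q19390, e3 q17359 (flp_c L696770) q18237, e3 q17360 L688604 q15168, e3 q17361 L688616 q15169, e3 q17362 (flp_c L709660) q19394, e3 q17363 (flp_c L709671) q19395, e3 q17364 (flp_c L709683) q19396, e3 q17365 (flp_c L696821) q18241, e3 q17366 L688669 q15173, e3 q17367 L688676 q15174, e3 q17368 L688687 q15175, e3 q17369 (flp_c L709725) q19400, e3 q17370 (flp_c L709734) q19401, e3 q17371 (flp_c L696861) q18244, e3 q17372 L688724 q15179, e3 q17373 L688734 q15753, e3 q17374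 L688744 q17374, e3 q17375 (flp_c L688753) q15183, e3 q17376 (flp_c L709803) q19408, e3 q17377 L688786 q17377, e3 q17378 L688791 q15186, e3 q17379 L688803 q15187, e3 q17380 (flp_c L709851) q19412, e3 q17381 (flp_c L709864) q19413, e3 q17382 L688837 q17382, e3 q17383 L688849 q17383, e3 q17384 L688858 q17384, e3 q17385 L688870 q15729, e3 q17386 L688876 q15191, e3 q17387 L688887 q15192, e3 q17388 (flp_c L709939) q19420, e3 q17389 L688905 q17389, e3 q17390 L688917 q17390, e3 q17391 L688926 q15195, e3 q17392 L688939 q17392, e3 q17393 L688947 q17393, e3 q17394 L688959 q15939, e3 q17395 L688967 q17395, e3 q17396 (flp_c L707577) q19210, e3 q17397 L688985 q15953, e3 q17398 (flp_c L688990) q15202, e3 q17399 (flp_c L710039) q19430, e3 q17400 (flp_c L710049) q19431, e3 q17401 L710078 q19434, e3 q17402 L689034 q17402, e3 q17403 (flp_c L689040) q15205, e3 q17404 (flp_c L710118) q19438, e3 q17405 (flp_c L710128) q19439, e3 q17406 L689078 q15675, e3 q17407 L689082 q15208, trivial⟩ (by decide +kernel)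

theorem ce_c_272 : ∀ r, r < 64 → sm gc (Qf (17408 + r)) = Qf (tab Gen.c (17408 + r)) :=
  edges_tab (sm gc) Qf (tab Gen.c) 17408 [(17408, 15209), (17409, 19445), (17410, 19446), (17411, 19447), (17412, 15681), (17413, 15211), (17414, 19452), (17415, 15687), (17416, 15688), (17417, 15215), (17418, 15216), (17419, 15217), (17420, 19337), (17421, 19456), (17422, 19457), (17423, 15696), (17424, 15697), (17425, 15224), (17426, 19194), (17427, 19343), (17428, 19346), (17429, 19349), (17430, 15225), (17431, 19465), (17432, 19466), (17433, 15707), (17434, 15228), (17435, 15229), (17436, 19473), (17437, 19474), (17438, 19475), (17439, 15713), (17440, 15714), (17441, 15715), (17442, 19300), (17443, 15233), (17444, 15234), (17445, 15235), (17446, 19487), (17447, 19488), (17448, 19489), (17449, 15723), (17450, 15724), (17451, 15725), (17452, 15239), (17453, 15240), (17454, 15241), (17455, 19500), (17456, 19501), (17457, 15732), (17458, 15733), (17459, 15734), (17460, 15735), (17461, 15736), (17462, 15248), (17463, 15249), (17464, 15250),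 (17465, 19348), (17466, 19511), (17467, 19512), (17468, 19513), (17469, 15744), (17470, 15745), (17471, 15746)]
    ⟨e3 q17408 L689088 q15209, e3 q17409 (flp_c L710179) q19445, e3 q17410 (flp_c L710189) q19446, e3 q17411 (flp_c L710195) q19447, e3 q17412 L689129 q15681, e3 q17413 L689133 q15211, e3 q17414 (flp_c L710247) q19452, e3 q17415 L689158 q15687, e3 q17416 L689172 q15688, e3 q17417 L689179 q15215, e3 q17418 L689189 q15216, e3 q17419 L689201 q15217, e3 q17420 (flp_c L709071) q19337, e3 q17421 (flp_c L710300) q19456, e3 q17422 (flp_c L710310) q19457, e3 q17423 L689247 q15696, e3 q17424 L689260 q15697, e3 q17425 L689267 q15224, e3 q17426 (flp_c L707455) q19194, e3 q17427 (flp_c L709131) q19343, e3 q17428 (flp_c L709174) q19346, e3 q17429 (flp_c L709208) q19349, e3 q17430 (flp_c L689312) q15225, e3 q17431 (flp_c L710395) q19465, e3 q17432 (flp_c L710401) q19466, e3 q17433 L689342 q15707, e3 q17434 L689346 q15228, e3 q17435 L689352 q15229, e3 q17436 (flp_c L710456) q19473, e3 q17437 (flp_c L710466) q19474, e3 q17438 (flp_c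 L710474) q19475, e3 q17439 L689390 q15713, e3 q17440 L689400 q15714, e3 q17441 L689406 q15715, e3 q17442 (flp_c L708698) q19300, e3 q17443 L689418 q15233, e3 q17444 L689424 q15234, e3 q17445 L689430 q15235, e3 q17446 (flp_c L710563) q19487, e3 q17447 (flp_c L710569) q19488, e3 q17448 (flp_c L710577) q19489, e3 q17449 L689456 q15723, e3 q17450 L689467 q15724, e3 q17451 L689479 q15725, e3 q17452 L689488 q15239, e3 q17453 L689497 q15240, e3 q17454 L689507 q15241, e3 q17455 (flp_c L710672) q19500, e3 q17456 (flp_c L710681) q19501, e3 q17457 L689539 q15732, e3 q17458 L689550 q15733, e3 q17459 L689560 q15734, e3 q17460 L689567 q15735, e3 q17461 L689578 q15736, e3 q17462 L689584 q15248, e3 q17463 L689591 q15249, e3 q17464 L689598 q15250, e3 q17465 (flp_c L709198) q19348, e3 q17466 (flp_c L710783) q19511, e3 q17467 (flp_c L710790) q19512, e3 q17468 (flp_c L710799) q19513, e3 q17469 L689640 q15744, e3 q17470 L689652 q15745, e3 q17471 L689661 q15746, trivial⟩ (by decide +kernel)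

theorem ce_c_273 : ∀ r, r < 64 → sm gc (Qf (17472 + r)) = Qf (tab Gen.c (17472 + r)) :=
  edges_tab (sm gc) Qf (tab Gen.c) 17472 [(17472, 15747), (17473, 15748), (17474, 18355), (17475, 15260), (17476, 15261), (17477, 15262), (17478, 18950), (17479, 19122), (17480, 19523), (17481, 19524), (17482, 17482), (17483, 15268), (17484, 19527), (17485, 15291), (17486, 18245), (17487, 15272), (17488, 15273), (17489, 19531), (17490, 15295), (17491, 19012), (17492, 15296), (17493, 15297), (17494, 18323), (17495, 19324), (17496, 15280), (17497, 19353), (17498, 15301), (17499, 15302), (17500, 19356), (17501, 15303), (17502, 18359), (17503, 19359), (17504, 19528), (17505, 15294), (17506, 19533), (17507, 19536), (17508, 18358), (17509, 19542), (17510, 18581), (17511, 18580), (17512, 15310), (17513, 19548), (17514, 17514), (17515, 15313), (17516, 15315), (17517, 19551), (17518, 18582), (17519, 15319), (17520, 15320), (17521, 19552), (17522, 15362), (17523, 15323), (17524, 19555), (17525, 18128), (17526, 18129), (17527, 15329), (17528, 18131),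 (17529, 19550), (17530, 18118), (17531, 15336), (17532, 15340), (17533, 18499), (17534, 19561), (17535, 18521)]
    ⟨e3 q17472 L689674 q15747, e3 q17473 L689686 q15748, e3 q17474 (flp_c L698335) q18355, e3 q17475 L689700 q15260, e3 q17476 L689706 q15261, e3 q17477 L689713 q15262, e3 q17478 (flp_c L705055) q18950, e3 q17479 L706866 q19122, e3 q17480 (flp_c L710897) q19523, e3 q17481 (flp_c L710905) q19524, e3 q17482 L689746 q17482, e3 q17483 L689753 q15268, e3 q17484 (flp_c L710924) q19527, e3 q17485 L689772 q15291, e3 q17486 (flp_c L696881) q18245, e3 q17487 L689785 q15272, e3 q17488 L689794 q15273, e3 q17489 (flp_c L710956) q19531, e3 q17490 L689815 q15295, e3 q17491 (flp_c L705714) q19012, e3 q17492 L689828 q15296, e3 q17493 L689837 q15297, e3 q17494 L697924 q18323, e3 q17495 (flp_c L708914) q19324, e3 q17496 L689853 q15280, e3 q17497 (flp_c L709252) q19353, e3 q17498 L689868 q15301, e3 q17499 L689878 q15302, e3 q17500 (flp_c L709287) q19356, e3 q17501 L689895 q15303, e3 q17502 (flp_c L698392) q18359, e3 q17503 (flp_c L709313)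 q19359, e3 q17504 (flp_c L710934) q19528, e3 q17505 L689928 q15294, e3 q17506 (flp_c L710975) q19533, e3 q17507 (flp_c L710997) q19536, e3 q17508 (flp_c L698374) q18358, e3 q17509 (flp_c L711028) q19542, e3 q17510 (flp_c L701121) q18581, e3 q17511 (flp_c L701103) q18580, e3 q17512 L690011 q15310, e3 q17513 (flp_c L711092) q19548, e3 q17514 L690029 q17514, e3 q17515 L690037 q15313, e3 q17516 L690045 q15315, e3 q17517 (flp_c L711120) q19551, e3 q17518 (flp_c L701134) q18582, e3 q17519 L690066 q15319, e3 q17520 L690075 q15320, e3 q17521 (flp_c L711128) q19552, e3 q17522 L690092 q15362, e3 q17523 L690098 q15323, e3 q17524 (flp_c L711154) q19555, e3 q17525 (flp_c L695211) q18128, e3 q17526 (flp_c L695227) q18129, e3 q17527 L690129 q15329, e3 q17528 (flp_c L695259) q18131, e3 q17529 (flp_c L711116) q19550, e3 q17530 (flp_c L695036) q18118, e3 q17531 L690161 q15336, e3 q17532 L690169 q15340, e3 q17533 (flp_c L700063) q18499, e3 q17534 (flp_c L711200) q19561, e3 q17535 (flp_c L700389) q18521, trivial⟩ (by decide +kernel)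

theorem ce_c_274 : ∀ r, r < 64 → sm gc (Qf (17536 + r)) = Qf (tab Gen.c (17536 + r)) :=
  edges_tab (sm gc) Qf (tab Gen.c) 17536 [(17536, 15343), (17537, 18533), (17538, 19268), (17539, 19269), (17540, 15351), (17541, 15352), (17542, 19553), (17543, 18109), (17544, 19568), (17545, 15357), (17546, 18121), (17547, 15366), (17548, 18594), (17549, 15367), (17550, 19571), (17551, 19554), (17552, 18528), (17553, 18852), (17554, 17554), (17555, 18853), (17556, 18864), (17557, 18836), (17558, 15381), (17559, 15373), (17560, 19581), (17561, 19582), (17562, 18851), (17563, 15378), (17564, 19586), (17565, 15380), (17566, 17566), (17567, 15383), (17568, 19589), (17569, 17569), (17570, 15386), (17571, 17571), (17572, 17572), (17573, 15457), (17574, 15390), (17575, 19594), (17576, 19595), (17577, 15393), (17578, 19598), (17579, 18565), (17580, 15397), (17581, 18863), (17582, 18837), (17583, 18838), (17584, 15401), (17585, 15402), (17586, 19604), (17587, 19605), (17588, 19606), (17589, 18854), (17590, 15406), (17591, 15407), (17592, 15408),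 (17593, 19609), (17594, 19610), (17595, 18548), (17596, 15445), (17597, 18576), (17598, 15414), (17599, 15502)]
    ⟨e3 q17536 L690194 q15343, e3 q17537 (flp_c L700543) q18533, e3 q17538 (flp_c L708316) q19268, e3 q17539 (flp_c L708329) q19269, e3 q17540 L690224 q15351, e3 q17541 L690234 q15352, e3 q17542 (flp_c L711138) q19553, e3 q17543 (flp_c L694894) q18109, e3 q17544 (flp_c L711244) q19568, e3 q17545 L690262 q15357, e3 q17546 (flp_c L695091) q18121, e3 q17547 L690286 q15366, e3 q17548 (flp_c L701253) q18594, e3 q17549 L690302 q15367, e3 q17550 (flp_c L711271) q19571, e3 q17551 (flp_c L711144) q19554, e3 q17552 (flp_c L700475) q18528, e3 q17553 (flp_c L704029) q18852, e3 q17554 L690351 q17554, e3 q17555 (flp_c L704042) q18853, e3 q17556 (flp_c L704131) q18864, e3 q17557 (flp_c L703869) q18836, e3 q17558 L690400 q15381, e3 q17559 (flp_c L690410) q15373, e3 q17560 (flp_c L711375) q19581, e3 q17561 (flp_c L711381) q19582, e3 q17562 (flp_c L704013) q18851, e3 q17563 L690450 q15378, e3 q17564 (flp_c L711423) q19586, e3 q17565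 L690468 q15380, e3 q17566 L690475 q17566, e3 q17567 L690480 q15383, e3 q17568 (flp_c L711446) q19589, e3 q17569 L690498 q17569, e3 q17570 L690506 q15386, e3 q17571 L690518 q17571, e3 q17572 L690530 q17572, e3 q17573 L690540 q15457, e3 q17574 (flp_c L690542) q15390, e3 q17575 (flp_c L711490) q19594, e3 q17576 (flp_c L711496) q19595, e3 q17577 L690561 q15393, e3 q17578 (flp_c L711515) q19598, e3 q17579 (flp_c L700943) q18565, e3 q17580 L690581 q15397, e3 q17581 (flp_c L704117) q18863, e3 q17582 (flp_c L703885) q18837, e3 q17583 (flp_c L703895) q18838, e3 q17584 L690609 q15401, e3 q17585 L690613 q15402, e3 q17586 (flp_c L711558) q19604, e3 q17587 (flp_c L711564) q19605, e3 q17588 (flp_c L711570) q19606, e3 q17589 (flp_c L704055) q18854, e3 q17590 L690647 q15406, e3 q17591 L690652 q15407, e3 q17592 L690661 q15408, e3 q17593 (flp_c L711590) q19609, e3 q17594 (flp_c L711597) q19610, e3 q17595 (flp_c L700739) q18548, e3 q17596 L690691 q15445, e3 q17597 (flp_c L701058) q18576, e3 q17598 L690702 q15414, e3 q17599 L690708 q15502, trivial⟩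 (by decide +kernel)

theorem ce_c_275 : ∀ r, r < 64 → sm gc (Qf (17600 + r)) = Qf (tab Gen.c (17600 + r)) :=
  edges_tab (sm gc) Qf (tab Gen.c) 17600 [(17600, 15611), (17601, 15418), (17602, 15419), (17603, 19620), (17604, 15526), (17605, 15425), (17606, 18639), (17607, 15529), (17608, 15428), (17609, 19624), (17610, 19625), (17611, 15431), (17612, 19628), (17613, 18769), (17614, 15434), (17615, 18208), (17616, 15448), (17617, 18203), (17618, 18209), (17619, 15439), (17620, 15440), (17621, 19635), (17622, 19636), (17623, 18210), (17624, 15443), (17625, 18743), (17626, 19614), (17627, 19587), (17628, 18220), (17629, 18221), (17630, 15452), (17631, 18450), (17632, 19591), (17633, 17633), (17634, 18795), (17635, 19593), (17636, 18172), (17637, 15459), (17638, 15460), (17639, 19648), (17640, 19649), (17641, 18174), (17642, 15463), (17643, 18175), (17644, 18176), (17645, 15470), (17646, 19600), (17647, 15471), (17648, 19656), (17649, 19657), (17650, 18664), (17651, 15474), (17652, 15475), (17653, 19663), (17654, 19664), (17655,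 18711), (17656, 19298), (17657, 19299), (17658, 15716), (17659, 15479), (17660, 15480), (17661, 15481), (17662, 19674), (17663, 19675)]
    ⟨e3 q17600 L690715 q15611, e3 q17601 L690719 q15418, e3 q17602 L690726 q15419, e3 q17603 (flp_c L711661) q19620, e3 q17604 L690744 q15526, e3 q17605 L690752 q15425, e3 q17606 (flp_c L701846) q18639, e3 q17607 L690765 q15529, e3 q17608 (flp_c L690769) q15428, e3 q17609 (flp_c L711692) q19624, e3 q17610 (flp_c L711700) q19625, e3 q17611 L690796 q15431, e3 q17612 (flp_c L711723) q19628, e3 q17613 (flp_c L703222) q18769, e3 q17614 L690818 q15434, e3 q17615 (flp_c L696391) q18208, e3 q17616 L690832 q15448, e3 q17617 (flp_c L696327) q18203, e3 q17618 (flp_c L696403) q18209, e3 q17619 L690860 q15439, e3 q17620 L690866 q15440, e3 q17621 (flp_c L711780) q19635, e3 q17622 (flp_c L711788) q19636, e3 q17623 (flp_c L696417) q18210, e3 q17624 L690896 q15443, e3 q17625 (flp_c L702967) q18743, e3 q17626 (flp_c L711625) q19614, e3 q17627 (flp_c L711431) q19587, e3 q17628 (flp_c L696552) q18220, e3 q17629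 (flp_c L696566) q18221, e3 q17630 L690941 q15452, e3 q17631 (flp_c L699435) q18450, e3 q17632 (flp_c L711469) q19591, e3 q17633 L690969 q17633, e3 q17634 (flp_c L703496) q18795, e3 q17635 (flp_c L711484) q19593, e3 q17636 (flp_c L695851) q18172, e3 q17637 L690994 q15459, e3 q17638 L691000 q15460, e3 q17639 (flp_c L711870) q19648, e3 q17640 (flp_c L711876) q19649, e3 q17641 (flp_c L695876) q18174, e3 q17642 L691024 q15463, e3 q17643 (flp_c L695892) q18175, e3 q17644 (flp_c L695910) q18176, e3 q17645 L691044 q15470, e3 q17646 (flp_c L711531) q19600, e3 q17647 (flp_c L691055) q15471, e3 q17648 (flp_c L711925) q19656, e3 q17649 (flp_c L711931) q19657, e3 q17650 (flp_c L702117) q18664, e3 q17651 L691083 q15474, e3 q17652 L691089 q15475, e3 q17653 (flp_c L711971) q19663, e3 q17654 (flp_c L711979) q19664, e3 q17655 (flp_c L702615) q18711, e3 q17656 (flp_c L708672) q19298, e3 q17657 (flp_c L708682) q19299, e3 q17658 L691131 q15716, e3 q17659 L691137 q15479, e3 q17660 L691143 q15480, e3 q17661 L691149 q15481, e3 q17662 (flp_c L712043)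 q19674, e3 q17663 (flp_c L712049) q19675, trivial⟩ (by decide +kernel)

theorem ce_c_276 : ∀ r, r < 64 → sm gc (Qf (17664 + r)) = Qf (tab Gen.c (17664 + r)) :=
  edges_tab (sm gc) Qf (tab Gen.c) 17664 [(17664, 19676), (17665, 19307), (17666, 15484), (17667, 18714), (17668, 19309), (17669, 19310), (17670, 19311), (17671, 15491), (17672, 15492), (17673, 15493), (17674, 19611), (17675, 18133), (17676, 19688), (17677, 19689), (17678, 18662), (17679, 18715), (17680, 18621), (17681, 19318), (17682, 19698), (17683, 15504), (17684, 15505), (17685, 18140), (17686, 19617), (17687, 18136), (17688, 19700), (17689, 15842), (17690, 15510), (17691, 19703), (17692, 15533), (17693, 15514), (17694, 15537), (17695, 18993), (17696, 15539), (17697, 15540), (17698, 15767), (17699, 15768), (17700, 15521), (17701, 19621), (17702, 15544), (17703, 18899), (17704, 15545), (17705, 19716), (17706, 19622), (17707, 18225), (17708, 15528), (17709, 18694), (17710, 19623), (17711, 18690), (17712, 18320), (17713, 19704), (17714, 18985), (17715, 19706), (17716,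 18994), (17717, 19708), (17718, 18693), (17719, 18224), (17720, 15546), (17721, 18187), (17722, 18938), (17723, 15559), (17724, 18940), (17725, 18941), (17726, 18943), (17727, 18944)]
    ⟨e3 q17664 (flp_c L712057) q19676, e3 q17665 (flp_c L708756) q19307, e3 q17666 L691181 q15484, e3 q17667 (flp_c L702652) q18714, e3 q17668 (flp_c L708782) q19309, e3 q17669 (flp_c L708793) q19310, e3 q17670 (flp_c L708806) q19311, e3 q17671 L691217 q15491, e3 q17672 L691225 q15492, e3 q17673 L691233 q15493, e3 q17674 (flp_c L711607) q19611, e3 q17675 (flp_c L695293) q18133, e3 q17676 (flp_c L712135) q19688, e3 q17677 (flp_c L712145) q19689, e3 q17678 (flp_c L702094) q18662, e3 q17679 (flp_c L702664) q18715, e3 q17680 (flp_c L701629) q18621, e3 q17681 (flp_c L708872) q19318, e3 q17682 L712201 q19698, e3 q17683 L691297 q15504, e3 q17684 L691305 q15505, e3 q17685 (flp_c L695403) q18140, e3 q17686 (flp_c L711640) q19617, e3 q17687 (flp_c L695336) q18136, e3 q17688 (flp_c L712213) q19700, e3 q17689 L691331 q15842, e3 q17690 L691343 q15510, e3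 q17691 (flp_c L712229) q19703, e3 q17692 L691362 q15533, e3 q17693 L691370 q15514, e3 q17694 L691381 q15537, e3 q17695 (flp_c L705536) q18993, e3 q17696 L691395 q15539, e3 q17697 L691405 q15540, e3 q17698 L691412 q15767, e3 q17699 L691419 q15768, e3 q17700 L691427 q15521, e3 q17701 (flp_c L711672) q19621, e3 q17702 L691443 q15544, e3 q17703 (flp_c L704459) q18899, e3 q17704 L691459 q15545, e3 q17705 L712324 q19716, e3 q17706 (flp_c L711676) q19622, e3 q17707 (flp_c L696626) q18225, e3 q17708 (flp_c L691485) q15528, e3 q17709 (flp_c L702393) q18694, e3 q17710 (flp_c L711684) q19623, e3 q17711 (flp_c L702347) q18690, e3 q17712 (flp_c L697874) q18320, e3 q17713 (flp_c L712240) q19704, e3 q17714 (flp_c L705441) q18985, e3 q17715 (flp_c L712258) q19706, e3 q17716 (flp_c L705544) q18994, e3 q17717 (flp_c L712275) q19708, e3 q17718 (flp_c L702377) q18693, e3 q17719 (flp_c L696608) q18224, e3 q17720 (flp_c L691592) q15546, e3 q17721 (flp_c L696088) q18187, e3 q17722 (flp_c L704918) q18938, e3 q17723 L691617 q15559, e3 q17724 (flp_c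 L704939) q18940, e3 q17725 (flp_c L704949) q18941, e3 q17726 (flp_c L704971) q18943, e3 q17727 (flp_c L704981) q18944, trivial⟩ (by decide +kernel)

theorem ce_c_277 : ∀ r, r < 64 → sm gc (Qf (17728 + r)) = Qf (tab Gen.c (17728 + r)) :=
  edges_tab (sm gc) Qf (tab Gen.c) 17728 [(17728, 18947), (17729, 18956), (17730, 18969), (17731, 18918), (17732, 15778), (17733, 18920), (17734, 18921), (17735, 18922), (17736, 18923), (17737, 18924), (17738, 18925), (17739, 18926), (17740, 18927), (17741, 18928), (17742, 15573), (17743, 19737), (17744, 19738), (17745, 18465), (17746, 15576), (17747, 15577), (17748, 19745), (17749, 19746), (17750, 19747), (17751, 19338), (17752, 19339), (17753, 19603), (17754, 15581), (17755, 15582), (17756, 15583), (17757, 19757), (17758, 19758), (17759, 15644), (17760, 19344), (17761, 15587), (17762, 15588), (17763, 15589), (17764, 19618), (17765, 19764), (17766, 19765), (17767, 15639), (17768, 15648), (17769, 19347), (17770, 15595), (17771, 15596), (17772, 19770), (17773, 15651), (17774, 19405), (17775,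 17775), (17776, 15603), (17777, 15616), (17778, 18889), (17779, 15607), (17780, 15617), (17781, 19216), (17782, 15618), (17783, 19619), (17784, 15620), (17785, 18301), (17786, 18303), (17787, 15626), (17788, 19776), (17789, 19777), (17790, 19256), (17791, 19219)]
    ⟨e3 q17728 (flp_c L705018) q18947, e3 q17729 (flp_c L705122) q18956, e3 q17730 (flp_c L705267) q18969, e3 q17731 (flp_c L704703) q18918, e3 q17732 L691682 q15778, e3 q17733 (flp_c L704724) q18920, e3 q17734 (flp_c L704734) q18921, e3 q17735 (flp_c L704746) q18922, e3 q17736 (flp_c L704756) q18923, e3 q17737 (flp_c L704766) q18924, e3 q17738 (flp_c L704780) q18925, e3 q17739 (flp_c L704793) q18926, e3 q17740 (flp_c L704806) q18927, e3 q17741 (flp_c L704816) q18928, e3 q17742 (flp_c L691763) q15573, e3 q17743 (flp_c L712489) q19737, e3 q17744 (flp_c L712495) q19738, e3 q17745 (flp_c L699607) q18465, e3 q17746 L691791 q15576, e3 q17747 L691797 q15577, e3 q17748 (flp_c L712542) q19745, e3 q17749 (flp_c L712550) q19746, e3 q17750 (flp_c L712558) q19747, e3 q17751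 (flp_c L709087) q19338, e3 q17752 (flp_c L709095) q19339, e3 q17753 (flp_c L711552) q19603, e3 q17754 L691845 q15581, e3 q17755 L691851 q15582, e3 q17756 L691857 q15583, e3 q17757 (flp_c L712633) q19757, e3 q17758 (flp_c L712641) q19758, e3 q17759 L691877 q15644, e3 q17760 (flp_c L709148) q19344, e3 q17761 L691894 q15587, e3 q17762 L691901 q15588, e3 q17763 L691911 q15589, e3 q17764 (flp_c L711646) q19618, e3 q17765 (flp_c L712687) q19764, e3 q17766 (flp_c L712696) q19765, e3 q17767 L691948 q15639, e3 q17768 L691955 q15648, e3 q17769 (flp_c L709186) q19347, e3 q17770 L691970 q15595, e3 q17771 L691977 q15596, e3 q17772 (flp_c L712741) q19770, e3 q17773 L691993 q15651, e3 q17774 (flp_c L709774) q19405, e3 q17775 L692006 q17775, e3 q17776 L692012 q15603, e3 q17777 L692021 q15616, e3 q17778 (flp_c L704353) q18889, e3 q17779 L692034 q15607, e3 q17780 L692047 q15617, e3 q17781 (flp_c L707677) q19216, e3 q17782 L692072 q15618, e3 q17783 (flp_c L711654) q19619, e3 q17784 L692090 q15620, e3 q17785 (flp_c L697614) q18301, e3 q17786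 (flp_c L697645) q18303, e3 q17787 (flp_c L692122) q15626, e3 q17788 (flp_c L712781) q19776, e3 q17789 (flp_c L712787) q19777, e3 q17790 (flp_c L708168) q19256, e3 q17791 (flp_c L707711) q19219, trivial⟩ (by decide +kernel)

theorem ce_c_278 : ∀ r, r < 64 → sm gc (Qf (17792 + r)) = Qf (tab Gen.c (17792 + r)) :=
  edges_tab (sm gc) Qf (tab Gen.c) 17792 [(17792, 19227), (17793, 19155), (17794, 19167), (17795, 15634), (17796, 19783), (17797, 19784), (17798, 19761), (17799, 15637), (17800, 15638), (17801, 19790), (17802, 19791), (17803, 18391), (17804, 19752), (17805, 19768), (17806, 18406), (17807, 15642), (17808, 15643), (17809, 19800), (17810, 18397), (17811, 19762), (17812, 15646), (17813, 18398), (17814, 19769), (17815, 18399), (17816, 15653), (17817, 17817), (17818, 15657), (17819, 17819), (17820, 19161), (17821, 17821), (17822, 18384), (17823, 18423), (17824, 17824), (17825, 19429), (17826, 15668), (17827, 15669), (17828, 19812), (17829, 19813), (17830, 15670), (17831, 19815), (17832, 19816), (17833, 19437), (17834, 15673),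 (17835, 15674), (17836, 19823), (17837, 19824), (17838, 19173), (17839, 19442), (17840, 19443), (17841, 19811), (17842, 15678), (17843, 15679), (17844, 15680), (17845, 19835), (17846, 19836), (17847, 19837), (17848, 19186), (17849, 15963), (17850, 19451), (17851, 15684), (17852, 15685), (17853, 19845), (17854, 19187), (17855, 19453)]
    ⟨e3 q17792 (flp_c L707790) q19227, e3 q17793 (flp_c L707129) q19155, e3 q17794 (flp_c L707229) q19167, e3 q17795 (flp_c L692185) q15634, e3 q17796 (flp_c L712837) q19783, e3 q17797 (flp_c L712845) q19784, e3 q17798 (flp_c L712661) q19761, e3 q17799 L692221 q15637, e3 q17800 L692229 q15638, e3 q17801 (flp_c L712892) q19790, e3 q17802 (flp_c L712902) q19791, e3 q17803 (flp_c L698763) q18391, e3 q17804 (flp_c L712604) q19752, e3 q17805 (flp_c L712724) q19768, e3 q17806 (flp_c L698936) q18406, e3 q17807 L692283 q15642, e3 q17808 L692291 q15643, e3 q17809 (flp_c L712968) q19800, e3 q17810 (flp_c L698833) q18397, e3 q17811 (flp_c L712670) q19762, e3 q17812 L692323 q15646, e3 q17813 (flp_c L698847)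 q18398, e3 q17814 (flp_c L712733) q19769, e3 q17815 (flp_c L698860) q18399, e3 q17816 L692355 q15653, e3 q17817 L692364 q17817, e3 q17818 L692373 q15657, e3 q17819 L692389 q17819, e3 q17820 (flp_c L707172) q19161, e3 q17821 L692402 q17821, e3 q17822 (flp_c L698674) q18384, e3 q17823 (flp_c L699116) q18423, e3 q17824 L692429 q17824, e3 q17825 (flp_c L710035) q19429, e3 q17826 L692445 q15668, e3 q17827 L692449 q15669, e3 q17828 (flp_c L713054) q19812, e3 q17829 (flp_c L713060) q19813, e3 q17830 (flp_c L692465) q15670, e3 q17831 (flp_c L713070) q19815, e3 q17832 (flp_c L713078) q19816, e3 q17833 (flp_c L710114) q19437, e3 q17834 L692499 q15673, e3 q17835 L692507 q15674, e3 q17836 (flp_c L713129) q19823, e3 q17837 (flp_c L713137) q19824, e3 q17838 (flp_c L707272) q19173, e3 q17839 (flp_c L710161) q19442, e3 q17840 (flp_c L710169) q19443, e3 q17841 (flp_c L713048) q19811, e3 q17842 L692557 q15678, e3 q17843 L692565 q15679, e3 q17844 L692571 q15680, e3 q17845 (flp_c L713214) q19835, e3 q17846 (flp_c L713222) q19836, e3 q17847 (flp_c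 L713230) q19837, e3 q17848 (flp_c L707375) q19186, e3 q17849 L692608 q15963, e3 q17850 (flp_c L710237) q19451, e3 q17851 L692627 q15684, e3 q17852 L692637 q15685, e3 q17853 (flp_c L713294) q19845, e3 q17854 (flp_c L707389) q19187, e3 q17855 (flp_c L710262) q19453, trivial⟩ (by decide +kernel)

theorem ce_c_279 : ∀ r, r < 64 → sm gc (Qf (17856 + r)) = Qf (tab Gen.c (17856 + r)) :=
  edges_tab (sm gc) Qf (tab Gen.c) 17856 [(17856, 19454), (17857, 19455), (17858, 15692), (17859, 15693), (17860, 15694), (17861, 19849), (17862, 19850), (17863, 19851), (17864, 19188), (17865, 19461), (17866, 15701), (17867, 15702), (17868, 15703), (17869, 19375), (17870, 19856), (17871, 19857), (17872, 15705), (17873, 15706), (17874, 19860), (17875, 19861), (17876, 19862), (17877, 19470), (17878, 19471), (17879, 18343), (17880, 15710), (17881, 15711), (17882, 15712), (17883, 19387), (17884, 19870), (17885, 19871), (17886, 19478), (17887, 19479), (17888, 19019), (17889, 19481), (17890, 19482), (17891, 19483), (17892, 18339), (17893, 19672), (17894,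 19673), (17895, 15720), (17896, 15721), (17897, 15722), (17898, 19023), (17899, 19891), (17900, 19892), (17901, 19893), (17902, 19899), (17903, 19495), (17904, 19496), (17905, 19497), (17906, 19498), (17907, 19499), (17908, 15730), (17909, 15731), (17910, 19026), (17911, 19411), (17912, 19419), (17913, 19905), (17914, 19504), (17915, 19505), (17916, 19506), (17917, 19507), (17918, 19508), (17919, 19509)]
    ⟨e3 q17856 (flp_c L710278) q19454, e3 q17857 (flp_c L710292) q19455, e3 q17858 L692689 q15692, e3 q17859 L692698 q15693, e3 q17860 L692705 q15694, e3 q17861 (flp_c L713330) q19849, e3 q17862 (flp_c L713339) q19850, e3 q17863 (flp_c L713348) q19851, e3 q17864 (flp_c L707402) q19188, e3 q17865 (flp_c L710355) q19461, e3 q17866 L692753 q15701, e3 q17867 L692761 q15702, e3 q17868 L692768 q15703, e3 q17869 (flp_c L709492) q19375, e3 q17870 (flp_c L713387) q19856, e3 q17871 (flp_c L713395) q19857, e3 q17872 L692796 q15705, e3 q17873 L692802 q15706, e3 q17874 (flp_c L713418) q19860, e3 q17875 (flp_c L713423) q19861, e3 q17876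 (flp_c L713431) q19862, e3 q17877 (flp_c L710432) q19470, e3 q17878 (flp_c L710440) q19471, e3 q17879 (flp_c L698180) q18343, e3 q17880 L692851 q15710, e3 q17881 L692859 q15711, e3 q17882 L692867 q15712, e3 q17883 (flp_c L709603) q19387, e3 q17884 (flp_c L713494) q19870, e3 q17885 (flp_c L713504) q19871, e3 q17886 (flp_c L710504) q19478, e3 q17887 (flp_c L710510) q19479, e3 q17888 (flp_c L705799) q19019, e3 q17889 (flp_c L710526) q19481, e3 q17890 (flp_c L710534) q19482, e3 q17891 (flp_c L710542) q19483, e3 q17892 (flp_c L698124) q18339, e3 q17893 (flp_c L712029) q19672, e3 q17894 (flp_c L712035) q19673, e3 q17895 L692947 q15720, e3 q17896 L692953 q15721, e3 q17897 L692961 q15722, e3 q17898 (flp_c L705841) q19023, e3 q17899 (flp_c L713642) q19891, e3 q17900 (flp_c L713648) q19892, e3 q17901 (flp_c L713656) q19893, e3 q17902 L713684 q19899, e3 q17903 (flp_c L710619) q19495, e3 q17904 (flp_c L710631) q19496, e3 q17905 (flp_c L710642) q19497, e3 q17906 (flp_c L710653) q19498, e3 q17907 (flp_c L710665) q19499, e3 q17908 L693037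 q15730, e3 q17909 L693047 q15731, e3 q17910 (flp_c L705878) q19026, e3 q17911 (flp_c L709845) q19411, e3 q17912 (flp_c L709928) q19419, e3 q17913 (flp_c L713735) q19905, e3 q17914 (flp_c L710713) q19504, e3 q17915 (flp_c L710726) q19505, e3 q17916 (flp_c L710737) q19506, e3 q17917 (flp_c L710747) q19507, e3 q17918 (flp_c L710758) q19508, e3 q17919 (flp_c L710767) q19509, trivial⟩ (by decide +kernel)

theorem ce_c_280 : ∀ r, r < 64 → sm gc (Qf (17920 + r)) = Qf (tab Gen.c (17920 + r)) :=
  edges_tab (sm gc) Qf (tab Gen.c) 17920 [(17920, 18350), (17921, 15741), (17922, 15742), (17923, 15743), (17924, 19402), (17925, 19028), (17926, 19915), (17927, 19916), (17928, 19518), (17929, 19519), (17930, 19520), (17931, 19521), (17932, 19924), (17933, 15755), (17934, 15756), (17935, 18351), (17936, 19406), (17937, 19925), (17938, 15954), (17939, 18349), (17940, 19020), (17941, 19710), (17942, 19711), (17943, 19022), (17944, 19025), (17945, 19027), (17946, 18983), (17947, 15781), (17948, 19930), (17949, 17949), (17950, 17950), (17951,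 15784), (17952, 15785), (17953, 19934), (17954, 19935), (17955, 17955), (17956, 17956), (17957, 17957), (17958, 15800), (17959, 15789), (17960, 15790), (17961, 19943), (17962, 15792), (17963, 17963), (17964, 19933), (17965, 15796), (17966, 17966), (17967, 19946), (17968, 17968), (17969, 19941), (17970, 19942), (17971, 17971), (17972, 17972), (17973, 19021), (17974, 19024), (17975, 17975), (17976, 18493), (17977, 18495), (17978, 15816), (17979, 18532), (17980, 17980), (17981, 17981), (17982, 18080), (17983, 15882)]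
    ⟨e3 q17920 (flp_c L698263) q18350, e3 q17921 L693141 q15741, e3 q17922 L693149 q15742, e3 q17923 L693159 q15743, e3 q17924 (flp_c L709746) q19402, e3 q17925 (flp_c L705900) q19028, e3 q17926 (flp_c L713813) q19915, e3 q17927 (flp_c L713823) q19916, e3 q17928 (flp_c L710838) q19518, e3 q17929 (flp_c L710853) q19519, e3 q17930 (flp_c L710867) q19520, e3 q17931 (flp_c L710880) q19521, e3 q17932 L713879 q19924, e3 q17933 L693229 q15755, e3 q17934 L693238 q15756, e3 q17935 (flp_c L698280) q18351, e3 q17936 (flp_c L709781) q19406, e3 q17937 (flp_c L713888) q19925, e3 q17938 L693263 q15954, e3 q17939 (flp_c L698251) q18349, e3 q17940 (flp_c L705809) q19020, e3 q17941 (flp_c L712291) q19710, e3 q17942 (flp_c L712298) q19711, e3 q17943 (flp_c L705831) q19022, e3 q17944 (flp_c L705866) q19025, e3 q17945 (flp_c L705891) q19027, e3 q17946 (flp_c L705418) q18983, e3 q17947 L693333 q15781, e3 q17948 (flp_c L713925) q19930, e3 q17949 L693348 q17949, e3 q17950 L693362 q17950, e3 q17951 L693365 q15784, e3 q17952 L693373 q15785, e3 q17953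 (flp_c L713965) q19934, e3 q17954 (flp_c L713974) q19935, e3 q17955 L693399 q17955, e3 q17956 L693411 q17956, e3 q17957 L693418 q17957, e3 q17958 L693424 q15800, e3 q17959 L693428 q15789, e3 q17960 L693435 q15790, e3 q17961 (flp_c L714037) q19943, e3 q17962 L693449 q15792, e3 q17963 L693458 q17963, e3 q17964 (flp_c L713961) q19933, e3 q17965 L693472 q15796, e3 q17966 L693483 q17966, e3 q17967 L714055 q19946, e3 q17968 L693495 q17968, e3 q17969 (flp_c L714024) q19941, e3 q17970 (flp_c L714030) q19942, e3 q17971 L693513 q17971, e3 q17972 L693522 q17972, e3 q17973 (flp_c L705821) q19021, e3 q17974 (flp_c L705855) q19024, e3 q17975 L693542 q17975, e3 q17976 (flp_c L699963) q18493, e3 q17977 (flp_c L699991) q18495, e3 q17978 (flp_c L693566) q15816, e3 q17979 (flp_c L700524) q18532, e3 q17980 L693584 q17980, e3 q17981 L693597 q17981, e3 q17982 (flp_c L694450) q18080, e3 q17983 L693621 q15882, trivial⟩ (by decide +kernel)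

theorem ce_c_281 : ∀ r, r < 64 → sm gc (Qf (17984 + r)) = Qf (tab Gen.c (17984 + r)) :=
  edges_tab (sm gc) Qf (tab Gen.c) 17984 [(17984, 15830), (17985, 15826), (17986, 15828), (17987, 17987), (17988, 17988), (17989, 15841), (17990, 17990), (17991, 17991), (17992, 18658), (17993, 18139), (17994, 18997), (17995, 15871), (17996, 15955), (17997, 15956), (17998, 19543), (17999, 18603), (18000, 15861), (18001, 18710), (18002, 18002), (18003, 18003), (18004, 18096), (18005, 18989), (18006, 19958), (18007, 15872), (18008, 19960), (18009, 15879), (18010, 15875), (18011, 15877), (18012, 18012), (18013, 18907), (18014, 18102), (18015, 18103), (18016, 18016), (18017, 18100), (18018, 18101), (18019, 18019), (18020, 19325), (18021, 18105), (18022, 18022), (18023, 19162), (18024, 18385), (18025, 18424), (18026, 18026), (18027, 18027), (18028, 18028), (18029, 18029), (18030, 18030), (18031, 18031), (18032, 18032), (18033, 18337), (18034, 18325), (18035, 18340), (18036, 18330), (18037, 18346), (18038, 15921), (18039, 15922), (18040, 19981),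 (18041, 18041), (18042, 19979), (18043, 19984), (18044, 15923), (18045, 18045), (18046, 18046), (18047, 15929)]
    ⟨e3 q17984 (flp_c L693637) q15830, e3 q17985 (flp_c L693641) q15826, e3 q17986 L693660 q15828, e3 q17987 L693673 q17987, e3 q17988 L693681 q17988, e3 q17989 L693686 q15841, e3 q17990 L693696 q17990, e3 q17991 L693704 q17991, e3 q17992 (flp_c L702048) q18658, e3 q17993 (flp_c L695390) q18139, e3 q17994 (flp_c L705578) q18997, e3 q17995 L693726 q15871, e3 q17996 L693734 q15955, e3 q17997 L693740 q15956, e3 q17998 (flp_c L711043) q19543, e3 q17999 (flp_c L701389) q18603, e3 q18000 (flp_c L693754) q15861, e3 q18001 (flp_c L702594) q18710, e3 q18002 L693771 q18002, e3 q18003 L693775 q18003, e3 q18004 (flp_c L694709) q18096, e3 q18005 (flp_c L705480) q18989, e3 q18006 L714121 q19958, e3 q18007 (flp_c L693807) q15872, e3 q18008 (flp_c L714145) q19960, e3 q18009 (flp_c L693833) q15879, e3 q18010 (flp_c L693837) q15875, e3 q18011 L693856 q15877, e3 q18012 L693867 q18012, e3 q18013 (flp_c L704566) q18907, e3 q18014 (flp_c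 L694797) q18102, e3 q18015 (flp_c L694811) q18103, e3 q18016 L693910 q18016, e3 q18017 (flp_c L694766) q18100, e3 q18018 (flp_c L694780) q18101, e3 q18019 L693944 q18019, e3 q18020 (flp_c L708926) q19325, e3 q18021 (flp_c L694839) q18105, e3 q18022 L693969 q18022, e3 q18023 (flp_c L707181) q19162, e3 q18024 (flp_c L698687) q18385, e3 q18025 (flp_c L699130) q18424, e3 q18026 L693998 q18026, e3 q18027 L694008 q18027, e3 q18028 L694018 q18028, e3 q18029 L694025 q18029, e3 q18030 L694035 q18030, e3 q18031 L694044 q18031, e3 q18032 L694055 q18032, e3 q18033 (flp_c L698103) q18337, e3 q18034 L697950 q18325, e3 q18035 (flp_c L698136) q18340, e3 q18036 (flp_c L698000) q18330, e3 q18037 (flp_c L698210) q18346, e3 q18038 L694091 q15921, e3 q18039 L694100 q15922, e3 q18040 L714323 q19981, e3 q18041 L694115 q18041, e3 q18042 (flp_c L714310) q19979, e3 q18043 L714353 q19984, e3 q18044 (flp_c L694141) q15923, e3 q18045 L694154 q18045, e3 q18046 L694164 q18046, e3 q18047 L694173 q15929, trivial⟩ (by decide +kernel)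

theorem ce_c_282 : ∀ r, r < 64 → sm gc (Qf (18048 + r)) = Qf (tab Gen.c (18048 + r)) :=
  edges_tab (sm gc) Qf (tab Gen.c) 18048 [(18048, 19424), (18049, 18049), (18050, 18050), (18051, 18051), (18052, 18052), (18053, 19990), (18054, 15941), (18055, 15942), (18056, 19421), (18057, 19427), (18058, 18058), (18059, 18059), (18060, 18060), (18061, 18061), (18062, 18062), (18063, 19428), (18064, 15949), (18065, 18365), (18066, 19954), (18067, 18970), (18068, 15962), (18069, 19996), (18070, 19843), (18071, 15965), (18072, 18072), (18073, 18930), (18074, 15972), (18075, 15974), (18076, 18076), (18077, 18984), (18078, 16056), (18079, 16057), (18080, 17982), (18081, 16117), (18082, 16150), (18083, 16153), (18084, 16154), (18085, 15989), (18086, 18086), (18087, 16280), (18088, 16281), (18089, 16853), (18090, 16350), (18091, 16351), (18092, 16352), (18093, 16354), (18094, 16355), (18095, 16358), (18096, 18004), (18097, 16004), (18098, 17288), (18099, 16016), (18100, 18017), (18101, 18018), (18102, 18014), (18103, 18015), (18104, 18104),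 (18105, 18021), (18106, 20009), (18107, 16019), (18108, 16520), (18109, 17543), (18110, 16504), (18111, 17202)]
    ⟨e3 q18048 (flp_c L709985) q19424, e3 q18049 L694190 q18049, e3 q18050 L694197 q18050, e3 q18051 L694207 q18051, e3 q18052 L694216 q18052, e3 q18053 L714406 q19990, e3 q18054 L694229 q15941, e3 q18055 L694237 q15942, e3 q18056 (flp_c L709954) q19421, e3 q18057 (flp_c L710009) q19427, e3 q18058 L694258 q18058, e3 q18059 L694268 q18059, e3 q18060 L694278 q18060, e3 q18061 L694290 q18061, e3 q18062 L694299 q18062, e3 q18063 (flp_c L710019) q19428, e3 q18064 (flp_c L694312) q15949, e3 q18065 (flp_c L698478) q18365, e3 q18066 (flp_c L714100) q19954, e3 q18067 (flp_c L705277) q18970, e3 q18068 L694338 q15962, e3 q18069 (flp_c L714453) q19996, e3 q18070 (flp_c L713273) q19843, e3 q18071 L694357 q15965, e3 q18072 L694362 q18072, e3 q18073 (flp_c L704839) q18930, e3 q18074 L694379 q15972, e3 q18075 L694386 q15974, e3 q18076 L694396 q18076, e3 q18077 (flp_c L705431) q18984, e3 q18078 L694409 q16056, e3 q18079 L694426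 q16057, e3 q18080 L694450 q17982, e3 q18081 L694460 q16117, e3 q18082 L694478 q16150, e3 q18083 L694497 q16153, e3 q18084 L694515 q16154, e3 q18085 (flp_c L694528) q15989, e3 q18086 L694556 q18086, e3 q18087 L694565 q16280, e3 q18088 L694581 q16281, e3 q18089 L694604 q16853, e3 q18090 L694614 q16350, e3 q18091 L694630 q16351, e3 q18092 L694645 q16352, e3 q18093 L694661 q16354, e3 q18094 L694675 q16355, e3 q18095 L694687 q16358, e3 q18096 L694709 q18004, e3 q18097 (flp_c L694712) q16004, e3 q18098 L694734 q17288, e3 q18099 L694748 q16016, e3 q18100 L694766 q18017, e3 q18101 L694780 q18018, e3 q18102 L694797 q18014, e3 q18103 L694811 q18015, e3 q18104 L694830 q18104, e3 q18105 L694839 q18021, e3 q18106 L714612 q20009, e3 q18107 (flp_c L694858) q16019, e3 q18108 L694877 q16520, e3 q18109 L694894 q17543, e3 q18110 L694910 q16504, e3 q18111 L694928 q17202, trivial⟩ (by decide +kernel)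

theorem ce_c_283 : ∀ r, r < 64 → sm gc (Qf (18112 + r)) = Qf (tab Gen.c (18112 + r)) :=
  edges_tab (sm gc) Qf (tab Gen.c) 18112 [(18112, 16027), (18113, 16028), (18114, 20014), (18115, 20015), (18116, 18116), (18117, 18117), (18118, 17530), (18119, 17201), (18120, 16403), (18121, 17546), (18122, 17196), (18123, 17199), (18124, 17200), (18125, 17197), (18126, 16051), (18127, 16472), (18128, 17525), (18129, 17526), (18130, 16457), (18131, 17528), (18132, 20025), (18133, 17675), (18134, 17233), (18135, 16804), (18136, 17687), (18137, 16612), (18138, 16063), (18139, 17993), (18140, 17685), (18141, 17241), (18142, 16085), (18143, 16067), (18144, 20034), (18145, 20035), (18146, 16769), (18147, 17280), (18148, 16625), (18149, 16072), (18150, 16073), (18151, 20045), (18152, 20046), (18153, 20047), (18154, 16630), (18155, 16631), (18156, 16632), (18157, 16077), (18158, 16078), (18159, 20053), (18160, 18160), (18161, 18161), (18162, 18162), (18163, 18163), (18164, 20058), (18165, 16087), (18166, 16093), (18167, 16094), (18168, 16095),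 (18169, 16096), (18170, 20059), (18171, 20060), (18172, 17636), (18173, 18173), (18174, 17641), (18175, 17643)]
    ⟨e3 q18112 L694944 q16027, e3 q18113 L694961 q16028, e3 q18114 (flp_c L714706) q20014, e3 q18115 (flp_c L714723) q20015, e3 q18116 L695003 q18116, e3 q18117 L695020 q18117, e3 q18118 L695036 q17530, e3 q18119 L695052 q17201, e3 q18120 L695072 q16403, e3 q18121 L695091 q17546, e3 q18122 L695110 q17196, e3 q18123 L695128 q17199, e3 q18124 L695145 q17200, e3 q18125 L695159 q17197, e3 q18126 L695173 q16051, e3 q18127 L695193 q16472, e3 q18128 L695211 q17525, e3 q18129 L695227 q17526, e3 q18130 L695241 q16457, e3 q18131 L695259 q17528, e3 q18132 L714883 q20025, e3 q18133 L695293 q17675, e3 q18134 L695303 q17233, e3 q18135 L695321 q16804, e3 q18136 L695336 q17687, e3 q18137 L695360 q16612, e3 q18138 L695370 q16063, e3 q18139 L695390 q17993, e3 q18140 L695403 q17685, e3 q18141 L695423 q17241, e3 q18142 L695433 q16085, e3 q18143 (flp_c L695445) q16067, e3 q18144 (flp_c L715026) q20034, e3 q18145 (flp_c L715042) q20035,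 e3 q18146 L695489 q16769, e3 q18147 L695505 q17280, e3 q18148 L695525 q16625, e3 q18149 L695531 q16072, e3 q18150 L695544 q16073, e3 q18151 (flp_c L715187) q20045, e3 q18152 (flp_c L715200) q20046, e3 q18153 (flp_c L715213) q20047, e3 q18154 L695586 q16630, e3 q18155 L695606 q16631, e3 q18156 L695619 q16632, e3 q18157 L695631 q16077, e3 q18158 L695642 q16078, e3 q18159 (flp_c L715294) q20053, e3 q18160 L695666 q18160, e3 q18161 L695680 q18161, e3 q18162 L695695 q18162, e3 q18163 L695708 q18163, e3 q18164 L715362 q20058, e3 q18165 L695733 q16087, e3 q18166 L695747 q16093, e3 q18167 L695764 q16094, e3 q18168 L695781 q16095, e3 q18169 L695792 q16096, e3 q18170 (flp_c L715380) q20059, e3 q18171 (flp_c L715397) q20060, e3 q18172 L695851 q17636, e3 q18173 L695859 q18173, e3 q18174 L695876 q17641, e3 q18175 L695892 q17643, trivial⟩ (by decide +kernel)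

theorem ce_c_284 : ∀ r, r < 64 → sm gc (Qf (18176 + r)) = Qf (tab Gen.c (18176 + r)) :=
  edges_tab (sm gc) Qf (tab Gen.c) 18176 [(18176, 17644), (18177, 16673), (18178, 17235), (18179, 17236), (18180, 17237), (18181, 17238), (18182, 17239), (18183, 17240), (18184, 16669), (18185, 16834), (18186, 16556), (18187, 17721), (18188, 17212), (18189, 17234), (18190, 17226), (18191, 17227), (18192, 17214), (18193, 17228), (18194, 17229), (18195, 17230), (18196, 16566), (18197, 16568), (18198, 17231), (18199, 17217), (18200, 17218), (18201, 16132), (18202, 16133), (18203, 17617), (18204, 20085), (18205, 20086), (18206, 17219), (18207, 16138), (18208, 17615), (18209, 17618), (18210, 17623), (18211, 16799), (18212, 16143), (18213, 16144), (18214, 16145), (18215, 20042), (18216, 20094), (18217, 20095), (18218, 20099), (18219, 16663), (18220, 17628), (18221, 17629), (18222, 20103), (18223, 16670), (18224, 17719), (18225, 17707), (18226, 16152), (18227, 18227), (18228, 20108), (18229, 18229), (18230, 18230), (18231, 20113), (18232, 18232),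 (18233, 16160), (18234, 20116), (18235, 20117), (18236, 16162), (18237, 17359), (18238, 20121), (18239, 16166)]
    ⟨e3 q18176 L695910 q17644, e3 q18177 L695924 q16673, e3 q18178 L695939 q17235, e3 q18179 L695955 q17236, e3 q18180 L695969 q17237, e3 q18181 L695987 q17238, e3 q18182 L696005 q17239, e3 q18183 L696019 q17240, e3 q18184 L696035 q16669, e3 q18185 L696058 q16834, e3 q18186 L696068 q16556, e3 q18187 L696088 q17721, e3 q18188 L696113 q17212, e3 q18189 L696123 q17234, e3 q18190 L696141 q17226, e3 q18191 L696155 q17227, e3 q18192 L696169 q17214, e3 q18193 L696185 q17228, e3 q18194 L696198 q17229, e3 q18195 L696213 q17230, e3 q18196 L696225 q16566, e3 q18197 L696238 q16568, e3 q18198 L696253 q17231, e3 q18199 L696265 q17217, e3 q18200 L696279 q17218, e3 q18201 L696293 q16132, e3 q18202 L696311 q16133, e3 q18203 L696327 q17617, e3 q18204 (flp_c L715799) q20085, e3 q18205 (flp_c L715817) q20086, e3 q18206 L696359 q17219, e3 q18207 L696373 q16138, e3 q18208 L696391 q17615, e3 q18209 L696403 q17618, e3 q18210 L696417 q17623,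 e3 q18211 L696431 q16799, e3 q18212 L696451 q16143, e3 q18213 L696467 q16144, e3 q18214 L696483 q16145, e3 q18215 (flp_c L715138) q20042, e3 q18216 (flp_c L715927) q20094, e3 q18217 (flp_c L715943) q20095, e3 q18218 L715989 q20099, e3 q18219 L696537 q16663, e3 q18220 L696552 q17628, e3 q18221 L696566 q17629, e3 q18222 L716047 q20103, e3 q18223 L696592 q16670, e3 q18224 L696608 q17719, e3 q18225 L696626 q17707, e3 q18226 (flp_c L696628) q16152, e3 q18227 L696643 q18227, e3 q18228 L716117 q20108, e3 q18229 L696668 q18229, e3 q18230 L696682 q18230, e3 q18231 L716183 q20113, e3 q18232 L696708 q18232, e3 q18233 (flp_c L696715) q16160, e3 q18234 (flp_c L716226) q20116, e3 q18235 (flp_c L716240) q20117, e3 q18236 (flp_c L696750) q16162, e3 q18237 L696770 q17359, e3 q18238 (flp_c L716291) q20121, e3 q18239 L696795 q16166, trivial⟩ (by decide +kernel)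

theorem ce_c_285 : ∀ r, r < 64 → sm gc (Qf (18240 + r)) = Qf (tab Gen.c (18240 + r)) :=
  edges_tab (sm gc) Qf (tab Gen.c) 18240 [(18240, 17353), (18241, 17365), (18242, 20125), (18243, 16169), (18244, 17371), (18245, 17486), (18246, 16195), (18247, 16171), (18248, 20132), (18249, 20133), (18250, 16899), (18251, 16174), (18252, 16175), (18253, 20140), (18254, 20141), (18255, 20142), (18256, 16177), (18257, 16178), (18258, 20145), (18259, 20146), (18260, 20147), (18261, 16909), (18262, 16182), (18263, 16183), (18264, 16184), (18265, 20152), (18266, 20153), (18267, 16916), (18268, 16188), (18269, 16342), (18270, 20160), (18271, 18271), (18272, 18272), (18273, 18273), (18274, 18274), (18275, 20165), (18276, 16194), (18277, 16197), (18278, 20167), (18279, 16212), (18280, 16213), (18281, 16311), (18282, 16201), (18283, 16202), (18284, 20173), (18285, 16204), (18286, 16218), (18287, 16374), (18288, 16220), (18289, 16878), (18290, 16377), (18291, 16211), (18292, 20169), (18293, 20170), (18294, 16216), (18295, 16386), (18296, 16389),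 (18297, 16877), (18298, 16392), (18299, 17155), (18300, 16913), (18301, 17785), (18302, 16918), (18303, 17786)]
    ⟨e3 q18240 L696808 q17353, e3 q18241 L696821 q17365, e3 q18242 (flp_c L716345) q20125, e3 q18243 L696846 q16169, e3 q18244 L696861 q17371, e3 q18245 L696881 q17486, e3 q18246 L696889 q16195, e3 q18247 (flp_c L696900) q16171, e3 q18248 (flp_c L716445) q20132, e3 q18249 (flp_c L716459) q20133, e3 q18250 L696946 q16899, e3 q18251 L696954 q16174, e3 q18252 L696962 q16175, e3 q18253 (flp_c L716551) q20140, e3 q18254 (flp_c L716563) q20141, e3 q18255 (flp_c L716573) q20142, e3 q18256 L697008 q16177, e3 q18257 L697022 q16178, e3 q18258 (flp_c L716607) q20145, e3 q18259 (flp_c L716620) q20146, e3 q18260 (flp_c L716634) q20147, e3 q18261 L697069 q16909, e3 q18262 L697085 q16182, e3 q18263 L697098 q16183, e3 q18264 L697109 q16184, e3 q18265 (flp_c L716695) q20152, e3 q18266 (flp_c L716708) q20153, e3 q18267 L697141 q16916, e3 q18268 L697156 q16188, e3 q18269 L697172 q16342, e3 q18270 L716788 q20160, e3 q18271 L697195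 q18271, e3 q18272 L697208 q18272, e3 q18273 L697219 q18273, e3 q18274 L697232 q18274, e3 q18275 L716850 q20165, e3 q18276 (flp_c L697249) q16194, e3 q18277 L697266 q16197, e3 q18278 (flp_c L716879) q20167, e3 q18279 L697299 q16212, e3 q18280 L697313 q16213, e3 q18281 L697330 q16311, e3 q18282 L697336 q16201, e3 q18283 L697349 q16202, e3 q18284 (flp_c L716962) q20173, e3 q18285 L697378 q16204, e3 q18286 L697391 q16218, e3 q18287 L697406 q16374, e3 q18288 L697414 q16220, e3 q18289 L697435 q16878, e3 q18290 L697445 q16377, e3 q18291 L697455 q16211, e3 q18292 (flp_c L716909) q20169, e3 q18293 (flp_c L716924) q20170, e3 q18294 L697499 q16216, e3 q18295 L697521 q16386, e3 q18296 L697538 q16389, e3 q18297 (flp_c L697557) q16877, e3 q18298 L697566 q16392, e3 q18299 L697584 q17155, e3 q18300 L697604 q16913, e3 q18301 L697614 q17785, e3 q18302 L697633 q16918, e3 q18303 L697645 q17786, trivial⟩ (by decide +kernel)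

theorem ce_c_286 : ∀ r, r < 64 → sm gc (Qf (18304 + r)) = Qf (tab Gen.c (18304 + r)) :=
  edges_tab (sm gc) Qf (tab Gen.c) 18304 [(18304, 16919), (18305, 16920), (18306, 18306), (18307, 20188), (18308, 18308), (18309, 16231), (18310, 20191), (18311, 20192), (18312, 16233), (18313, 20196), (18314, 16237), (18315, 16942), (18316, 16946), (18317, 20198), (18318, 16240), (18319, 16947), (18320, 17712), (18321, 17332), (18322, 17324), (18323, 17494), (18324, 18324), (18325, 18034), (18326, 18326), (18327, 16248), (18328, 20209), (18329, 20210), (18330, 18036), (18331, 16254), (18332, 16978), (18333, 16989), (18334, 20215), (18335, 16257), (18336, 16995), (18337, 18033), (18338, 16282), (18339, 17892), (18340, 18035), (18341, 16262), (18342, 16263), (18343, 17879), (18344, 20224), (18345, 20225), (18346, 18037), (18347, 16268), (18348, 17186), (18349, 17939), (18350, 17920), (18351, 17935), (18352, 17193), (18353, 17146), (18354, 17098), (18355, 17474), (18356, 16664), (18357, 17152), (18358, 17508), (18359, 17502), (18360, 17154),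 (18361, 16391), (18362, 16376), (18363, 20001), (18364, 16284), (18365, 18065), (18366, 20243), (18367, 18367)]
    ⟨e3 q18304 L697659 q16919, e3 q18305 L697673 q16920, e3 q18306 L697690 q18306, e3 q18307 L717181 q20188, e3 q18308 L697714 q18308, e3 q18309 (flp_c L697723) q16231, e3 q18310 (flp_c L717224) q20191, e3 q18311 (flp_c L717238) q20192, e3 q18312 (flp_c L697756) q16233, e3 q18313 (flp_c L717291) q20196, e3 q18314 L697789 q16237, e3 q18315 L697802 q16942, e3 q18316 L697818 q16946, e3 q18317 (flp_c L717318) q20198, e3 q18318 L697844 q16240, e3 q18319 L697859 q16947, e3 q18320 L697874 q17712, e3 q18321 L697890 q17332, e3 q18322 L697909 q17324, e3 q18323 (flp_c L697924) q17494, e3 q18324 L697932 q18324, e3 q18325 (flp_c L697950) q18034, e3 q18326 L697956 q18326, e3 q18327 (flp_c L697963) q16248, e3 q18328 (flp_c L717480) q20209, e3 q18329 (flp_c L717496) q20210, e3 q18330 L698000 q18036, e3 q18331 L698015 q16254, e3 q18332 L698030 q16978, e3 q18333 L698045 q16989, e3 q18334 (flp_c L717562) q20215, e3 q18335 L698070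 q16257, e3 q18336 L698085 q16995, e3 q18337 L698103 q18033, e3 q18338 L698109 q16282, e3 q18339 L698124 q17892, e3 q18340 L698136 q18035, e3 q18341 L698150 q16262, e3 q18342 L698166 q16263, e3 q18343 L698180 q17879, e3 q18344 (flp_c L717692) q20224, e3 q18345 (flp_c L717710) q20225, e3 q18346 L698210 q18037, e3 q18347 L698225 q16268, e3 q18348 L698239 q17186, e3 q18349 L698251 q17939, e3 q18350 L698263 q17920, e3 q18351 L698280 q17935, e3 q18352 L698292 q17193, e3 q18353 L698307 q17146, e3 q18354 L698321 q17098, e3 q18355 L698335 q17474, e3 q18356 L698347 q16664, e3 q18357 L698362 q17152, e3 q18358 L698374 q17508, e3 q18359 L698392 q17502, e3 q18360 L698402 q17154, e3 q18361 L698415 q16391, e3 q18362 L698432 q16376, e3 q18363 (flp_c L714484) q20001, e3 q18364 L698456 q16284, e3 q18365 L698478 q18065, e3 q18366 L717956 q20243, e3 q18367 L698497 q18367, trivial⟩ (by decide +kernel)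

theorem ce_c_287 : ∀ r, r < 64 → sm gc (Qf (18368 + r)) = Qf (tab Gen.c (18368 + r)) :=
  edges_tab (sm gc) Qf (tab Gen.c) 18368 [(18368, 16288), (18369, 20247), (18370, 20248), (18371, 20171), (18372, 18372), (18373, 16291), (18374, 20255), (18375, 20256), (18376, 17027), (18377, 16294), (18378, 16295), (18379, 20263), (18380, 20264), (18381, 20265), (18382, 17033), (18383, 16298), (18384, 17822), (18385, 18024), (18386, 20270), (18387, 17039), (18388, 16302), (18389, 16303), (18390, 16304), (18391, 17803), (18392, 20275), (18393, 20276), (18394, 17046), (18395, 16310), (18396, 20128), (18397, 17810), (18398, 17813), (18399, 17815), (18400, 20287), (18401, 20139), (18402, 20172), (18403, 17057), (18404, 16314), (18405, 16315), (18406, 17806), (18407, 20294), (18408, 20295), (18409, 17063), (18410, 17064), (18411, 17065), (18412, 17298), (18413, 16319), (18414, 16320), (18415, 16321), (18416, 20307), (18417, 20308), (18418, 20309), (18419, 17073), (18420, 17075), (18421, 16326), (18422, 17013), (18423, 17823), (18424, 18025),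 (18425, 17082), (18426, 17083), (18427, 17084), (18428, 17085), (18429, 16333), (18430, 16334), (18431, 16335)]
    ⟨e3 q18368 (flp_c L698505) q16288, e3 q18369 (flp_c L718005) q20247, e3 q18370 (flp_c L718015) q20248, e3 q18371 (flp_c L716937) q20171, e3 q18372 L698549 q18372, e3 q18373 (flp_c L698557) q16291, e3 q18374 (flp_c L718091) q20255, e3 q18375 (flp_c L718103) q20256, e3 q18376 L698597 q17027, e3 q18377 L698601 q16294, e3 q18378 L698609 q16295, e3 q18379 (flp_c L718180) q20263, e3 q18380 (flp_c L718192) q20264, e3 q18381 (flp_c L718200) q20265, e3 q18382 L698654 q17033, e3 q18383 L698660 q16298, e3 q18384 L698674 q17822, e3 q18385 L698687 q18024, e3 q18386 (flp_c L718260) q20270, e3 q18387 L698710 q17039, e3 q18388 L698723 q16302, e3 q18389 L698739 q16303, e3 q18390 L698751 q16304, e3 q18391 L698763 q17803, e3 q18392 (flp_c L718331) q20275, e3 q18393 (flp_c L718347) q20276, e3 q18394 L698793 q17046, e3 q18395 L698808 q16310, e3 q18396 (flp_c L716391) q20128, e3 q18397 L698833 q17810, e3 q18398 L698847 q17813, e3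 q18399 L698860 q17815, e3 q18400 L718485 q20287, e3 q18401 (flp_c L716541) q20139, e3 q18402 (flp_c L716949) q20172, e3 q18403 L698904 q17057, e3 q18404 L698910 q16314, e3 q18405 L698922 q16315, e3 q18406 L698936 q17806, e3 q18407 (flp_c L718569) q20294, e3 q18408 (flp_c L718583) q20295, e3 q18409 L698962 q17063, e3 q18410 L698978 q17064, e3 q18411 L698986 q17065, e3 q18412 L699002 q17298, e3 q18413 L699012 q16319, e3 q18414 L699022 q16320, e3 q18415 L699030 q16321, e3 q18416 (flp_c L718741) q20307, e3 q18417 (flp_c L718755) q20308, e3 q18418 (flp_c L718767) q20309, e3 q18419 L699062 q17073, e3 q18420 L699079 q17075, e3 q18421 L699092 q16326, e3 q18422 L699105 q17013, e3 q18423 L699116 q17823, e3 q18424 L699130 q18025, e3 q18425 L699143 q17082, e3 q18426 L699157 q17083, e3 q18427 L699173 q17084, e3 q18428 L699187 q17085, e3 q18429 L699197 q16333, e3 q18430 L699209 q16334, e3 q18431 L699221 q16335, trivial⟩ (by decide +kernel)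

theorem ce_c_288 : ∀ r, r < 64 → sm gc (Qf (18432 + r)) = Qf (tab Gen.c (18432 + r)) :=
  edges_tab (sm gc) Qf (tab Gen.c) 18432 [(18432, 20154), (18433, 20326), (18434, 20327), (18435, 20328), (18436, 20333), (18437, 17094), (18438, 17097), (18439, 20236), (18440, 16343), (18441, 16344), (18442, 16345), (18443, 20159), (18444, 20336), (18445, 20337), (18446, 20334), (18447, 16346), (18448, 16733), (18449, 16737), (18450, 17631), (18451, 20345), (18452, 20002), (18453, 20003), (18454, 20348), (18455, 16353), (18456, 20004), (18457, 20352), (18458, 16356), (18459, 17119), (18460, 16378), (18461, 16379), (18462, 16361), (18463, 16381), (18464, 16382), (18465, 17745), (18466, 16383), (18467, 16384), (18468, 17292), (18469, 17299), (18470, 16368), (18471, 20174), (18472, 16387), (18473, 16388), (18474, 20175), (18475, 16390), (18476, 20241), (18477, 20177), (18478, 16931), (18479, 20166), (18480, 20353), (18481, 20354), (18482, 16668), (18483, 20357), (18484, 20358), (18485, 20361), (18486, 20238), (18487, 20367), (18488, 20240),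 (18489, 16553), (18490, 16425), (18491, 16449), (18492, 16451), (18493, 17976), (18494, 16400), (18495, 17977)]
    ⟨e3 q18432 (flp_c L716722) q20154, e3 q18433 (flp_c L718961) q20326, e3 q18434 (flp_c L718977) q20327, e3 q18435 (flp_c L718989) q20328, e3 q18436 L719033 q20333, e3 q18437 L699275 q17094, e3 q18438 L699290 q17097, e3 q18439 (flp_c L717866) q20236, e3 q18440 L699316 q16343, e3 q18441 L699331 q16344, e3 q18442 L699345 q16345, e3 q18443 (flp_c L716783) q20159, e3 q18444 (flp_c L719083) q20336, e3 q18445 (flp_c L719098) q20337, e3 q18446 (flp_c L719054) q20334, e3 q18447 (flp_c L699393) q16346, e3 q18448 L699408 q16733, e3 q18449 L699422 q16737, e3 q18450 L699435 q17631, e3 q18451 L719195 q20345, e3 q18452 (flp_c L714501) q20002, e3 q18453 (flp_c L714518) q20003, e3 q18454 L719225 q20348, e3 q18455 (flp_c L699478) q16353, e3 q18456 (flp_c L714534) q20004, e3 q18457 L719260 q20352, e3 q18458 (flp_c L699504) q16356, e3 q18459 L699528 q17119, e3 q18460 L699532 q16378, e3 q18461 L699549 q16379, e3 q18462 L699561 q16361,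 e3 q18463 L699576 q16381, e3 q18464 L699591 q16382, e3 q18465 L699607 q17745, e3 q18466 L699613 q16383, e3 q18467 L699627 q16384, e3 q18468 L699638 q17292, e3 q18469 L699651 q17299, e3 q18470 L699665 q16368, e3 q18471 (flp_c L716981) q20174, e3 q18472 L699689 q16387, e3 q18473 L699700 q16388, e3 q18474 (flp_c L716993) q20175, e3 q18475 L699722 q16390, e3 q18476 (flp_c L717937) q20241, e3 q18477 (flp_c L717016) q20177, e3 q18478 L699751 q16931, e3 q18479 (flp_c L716871) q20166, e3 q18480 (flp_c L719279) q20353, e3 q18481 (flp_c L719293) q20354, e3 q18482 L699807 q16668, e3 q18483 (flp_c L719333) q20357, e3 q18484 (flp_c L719349) q20358, e3 q18485 (flp_c L719389) q20361, e3 q18486 (flp_c L717894) q20238, e3 q18487 (flp_c L719458) q20367, e3 q18488 (flp_c L717920) q20240, e3 q18489 L699888 q16553, e3 q18490 L699906 q16425, e3 q18491 L699923 q16449, e3 q18492 L699939 q16451, e3 q18493 L699963 q17976, e3 q18494 L699973 q16400, e3 q18495 L699991 q17977, trivial⟩ (by decide +kernel)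

theorem ce_c_289 : ∀ r, r < 64 → sm gc (Qf (18496 + r)) = Qf (tab Gen.c (18496 + r)) :=
  edges_tab (sm gc) Qf (tab Gen.c) 18496 [(18496, 18496), (18497, 16507), (18498, 18498), (18499, 17533), (18500, 16435), (18501, 18501), (18502, 16413), (18503, 16432), (18504, 20379), (18505, 16427), (18506, 16445), (18507, 16428), (18508, 16429), (18509, 16446), (18510, 16422), (18511, 16442), (18512, 20384), (18513, 16454), (18514, 16431), (18515, 20380), (18516, 16494), (18517, 16436), (18518, 16461), (18519, 20378), (18520, 20390), (18521, 17535), (18522, 16589), (18523, 20385), (18524, 16508), (18525, 16447), (18526, 20382), (18527, 20383), (18528, 17552), (18529, 20400), (18530, 16458), (18531, 16531), (18532, 17979), (18533, 17537), (18534, 20391), (18535, 16479), (18536, 16464), (18537, 20406), (18538, 16720), (18539, 18539), (18540, 16466), (18541, 20408), (18542, 16477), (18543, 16469), (18544, 16470), (18545, 20411), (18546, 20412), (18547, 20021), (18548, 17595), (18549, 16478), (18550, 16499), (18551, 20410), (18552, 20416),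 (18553, 20405), (18554, 16482), (18555, 16483), (18556, 20420), (18557, 18557), (18558, 18558), (18559, 20424)]
    ⟨e3 q18496 L700009 q18496, e3 q18497 L700038 q16507, e3 q18498 L700046 q18498, e3 q18499 L700063 q17533, e3 q18500 L700087 q16435, e3 q18501 L700097 q18501, e3 q18502 (flp_c L700107) q16413, e3 q18503 L700130 q16432, e3 q18504 (flp_c L719622) q20379, e3 q18505 L700159 q16427, e3 q18506 L700182 q16445, e3 q18507 L700194 q16428, e3 q18508 L700209 q16429, e3 q18509 L700225 q16446, e3 q18510 L700239 q16422, e3 q18511 L700257 q16442, e3 q18512 (flp_c L719700) q20384, e3 q18513 L700285 q16454, e3 q18514 L700302 q16431, e3 q18515 (flp_c L719639) q20380, e3 q18516 L700340 q16494, e3 q18517 L700344 q16436, e3 q18518 L700357 q16461, e3 q18519 (flp_c L719604) q20378, e3 q18520 (flp_c L719793) q20390, e3 q18521 L700389 q17535, e3 q18522 L700407 q16589, e3 q18523 (flp_c L719716) q20385, e3 q18524 L700429 q16508, e3 q18525 L700441 q16447, e3 q18526 (flp_c L719670) q20382, e3 q18527 (flp_c L719686) q20383, e3 q18528 L700475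 q17552, e3 q18529 L719925 q20400, e3 q18530 L700499 q16458, e3 q18531 L700517 q16531, e3 q18532 L700524 q17979, e3 q18533 L700543 q17537, e3 q18534 (flp_c L719807) q20391, e3 q18535 L700580 q16479, e3 q18536 L700586 q16464, e3 q18537 (flp_c L720023) q20406, e3 q18538 L700615 q16720, e3 q18539 L700623 q18539, e3 q18540 (flp_c L700633) q16466, e3 q18541 (flp_c L720055) q20408, e3 q18542 L700671 q16477, e3 q18543 L700681 q16469, e3 q18544 L700697 q16470, e3 q18545 (flp_c L720097) q20411, e3 q18546 (flp_c L720113) q20412, e3 q18547 (flp_c L714826) q20021, e3 q18548 L700739 q17595, e3 q18549 L700753 q16478, e3 q18550 L700767 q16499, e3 q18551 (flp_c L720080) q20410, e3 q18552 (flp_c L720159) q20416, e3 q18553 (flp_c L720008) q20405, e3 q18554 L700813 q16482, e3 q18555 L700824 q16483, e3 q18556 (flp_c L720207) q20420, e3 q18557 L700844 q18557, e3 q18558 L700858 q18558, e3 q18559 L720246 q20424, trivial⟩ (by decide +kernel)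

theorem ce_c_290 : ∀ r, r < 64 → sm gc (Qf (18560 + r)) = Qf (tab Gen.c (18560 + r)) :=
  edges_tab (sm gc) Qf (tab Gen.c) 18560 [(18560, 18560), (18561, 16490), (18562, 18562), (18563, 20387), (18564, 20389), (18565, 17579), (18566, 16500), (18567, 20417), (18568, 20429), (18569, 17198), (18570, 16505), (18571, 16506), (18572, 20012), (18573, 20432), (18574, 20376), (18575, 20395), (18576, 17597), (18577, 16512), (18578, 16513), (18579, 20437), (18580, 17511), (18581, 17510), (18582, 17518), (18583, 16521), (18584, 16522), (18585, 20396), (18586, 20010), (18587, 20443), (18588, 20448), (18589, 20426), (18590, 20449), (18591, 16527), (18592, 20386), (18593, 16532), (18594, 17548), (18595, 20402), (18596, 16593), (18597, 16639), (18598, 16641), (18599, 16642), (18600, 16644), (18601, 16875), (18602, 16547), (18603, 17999), (18604, 17283), (18605, 18605), (18606, 20077), (18607, 18607), (18608, 20043), (18609, 18609), (18610, 20080), (18611, 20081), (18612, 18612), (18613, 20460), (18614, 18614), (18615, 16610), (18616, 18616),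 (18617, 16573), (18618, 16607), (18619, 20464), (18620, 16577), (18621, 17680), (18622, 20468), (18623, 16595)]
    ⟨e3 q18560 L700879 q18560, e3 q18561 L700895 q16490, e3 q18562 L700909 q18562, e3 q18563 (flp_c L719756) q20387, e3 q18564 (flp_c L719780) q20389, e3 q18565 L700943 q17579, e3 q18566 L700959 q16500, e3 q18567 (flp_c L720171) q20417, e3 q18568 (flp_c L720319) q20429, e3 q18569 L700989 q17198, e3 q18570 L701004 q16505, e3 q18571 L701014 q16506, e3 q18572 (flp_c L714670) q20012, e3 q18573 (flp_c L720361) q20432, e3 q18574 (flp_c L719568) q20376, e3 q18575 (flp_c L719868) q20395, e3 q18576 L701058 q17597, e3 q18577 L701070 q16512, e3 q18578 L701083 q16513, e3 q18579 (flp_c L720407) q20437, e3 q18580 L701103 q17511, e3 q18581 L701121 q17510, e3 q18582 L701134 q17518, e3 q18583 L701144 q16521, e3 q18584 L701155 q16522, e3 q18585 (flp_c L719882) q20396, e3 q18586 (flp_c L714635) q20010, e3 q18587 (flp_c L720483) q20443, e3 q18588 L720524 q20448, e3 q18589 (flp_c L720275) q20426, e3 q18590 L720530 q20449, e3 q18591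 (flp_c L701213) q16527, e3 q18592 (flp_c L719739) q20386, e3 q18593 L701232 q16532, e3 q18594 L701253 q17548, e3 q18595 (flp_c L719965) q20402, e3 q18596 L701267 q16593, e3 q18597 L701284 q16639, e3 q18598 L701301 q16641, e3 q18599 L701318 q16642, e3 q18600 L701334 q16644, e3 q18601 L701353 q16875, e3 q18602 L701370 q16547, e3 q18603 L701389 q17999, e3 q18604 L701406 q17283, e3 q18605 L701421 q18605, e3 q18606 (flp_c L715687) q20077, e3 q18607 L701448 q18607, e3 q18608 (flp_c L715160) q20043, e3 q18609 L701475 q18609, e3 q18610 (flp_c L715731) q20080, e3 q18611 (flp_c L715744) q20081, e3 q18612 L701510 q18612, e3 q18613 L720688 q20460, e3 q18614 L701537 q18614, e3 q18615 (flp_c L701556) q16610, e3 q18616 L701564 q18616, e3 q18617 (flp_c L701572) q16573, e3 q18618 L701593 q16607, e3 q18619 (flp_c L720747) q20464, e3 q18620 L701616 q16577, e3 q18621 L701629 q17680, e3 q18622 (flp_c L720802) q20468, e3 q18623 L701652 q16595, trivial⟩ (by decide +kernel)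

theorem ce_c_291 : ∀ r, r < 64 → sm gc (Qf (18624 + r)) = Qf (tab Gen.c (18624 + r)) :=
  edges_tab (sm gc) Qf (tab Gen.c) 18624 [(18624, 16627), (18625, 16596), (18626, 16580), (18627, 20474), (18628, 20475), (18629, 16628), (18630, 16586), (18631, 16619), (18632, 16624), (18633, 20480), (18634, 16770), (18635, 16590), (18636, 20394), (18637, 16649), (18638, 16655), (18639, 17606), (18640, 20471), (18641, 16598), (18642, 20488), (18643, 16600), (18644, 16747), (18645, 20490), (18646, 18646), (18647, 20465), (18648, 18648), (18649, 16605), (18650, 20496), (18651, 20497), (18652, 20466), (18653, 17269), (18654, 16611), (18655, 20458), (18656, 20463), (18657, 20503), (18658, 17992), (18659, 16616), (18660, 16617), (18661, 16682), (18662, 17678), (18663, 20508), (18664, 17650), (18665, 16647), (18666, 20476), (18667, 20481), (18668, 16772), (18669, 16622), (18670, 16623), (18671, 20472), (18672, 20520), (18673, 20521), (18674, 20482), (18675, 20044), (18676, 16629), (18677, 20470), (18678, 20473), (18679, 20479), (18680, 20050),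 (18681, 20051), (18682, 20052), (18683, 16636), (18684, 16637), (18685, 16638), (18686, 16803), (18687, 20533)]
    ⟨e3 q18624 L701670 q16627, e3 q18625 L701676 q16596, e3 q18626 (flp_c L701686) q16580, e3 q18627 (flp_c L720886) q20474, e3 q18628 (flp_c L720900) q20475, e3 q18629 L701720 q16628, e3 q18630 L701734 q16586, e3 q18631 L701750 q16619, e3 q18632 L701762 q16624, e3 q18633 (flp_c L720964) q20480, e3 q18634 L701786 q16770, e3 q18635 L701798 q16590, e3 q18636 (flp_c L719850) q20394, e3 q18637 L701814 q16649, e3 q18638 L701830 q16655, e3 q18639 L701846 q17606, e3 q18640 (flp_c L720846) q20471, e3 q18641 L701871 q16598, e3 q18642 (flp_c L721080) q20488, e3 q18643 L701901 q16600, e3 q18644 L701919 q16747, e3 q18645 L721106 q20490, e3 q18646 L701940 q18646, e3 q18647 (flp_c L720762) q20465, e3 q18648 L701964 q18648, e3 q18649 (flp_c L701973) q16605, e3 q18650 (flp_c L721176) q20496, e3 q18651 (flp_c L721184) q20497, e3 q18652 (flp_c L720777) q20466, e3 q18653 L702015 q17269, e3 q18654 L702019 q16611, e3 q18655 (flp_c L720669)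 q20458, e3 q18656 (flp_c L720731) q20463, e3 q18657 (flp_c L721238) q20503, e3 q18658 L702048 q17992, e3 q18659 L702057 q16616, e3 q18660 L702067 q16617, e3 q18661 L702079 q16682, e3 q18662 L702094 q17678, e3 q18663 (flp_c L721286) q20508, e3 q18664 L702117 q17650, e3 q18665 L702125 q16647, e3 q18666 (flp_c L720916) q20476, e3 q18667 (flp_c L720978) q20481, e3 q18668 L702161 q16772, e3 q18669 L702165 q16622, e3 q18670 L702171 q16623, e3 q18671 (flp_c L720862) q20472, e3 q18672 (flp_c L721427) q20520, e3 q18673 (flp_c L721435) q20521, e3 q18674 (flp_c L720992) q20482, e3 q18675 (flp_c L715173) q20044, e3 q18676 L702217 q16629, e3 q18677 (flp_c L720836) q20470, e3 q18678 (flp_c L720874) q20473, e3 q18679 (flp_c L720950) q20479, e3 q18680 (flp_c L715251) q20050, e3 q18681 (flp_c L715267) q20051, e3 q18682 (flp_c L715280) q20052, e3 q18683 L702279 q16636, e3 q18684 L702293 q16637, e3 q18685 L702301 q16638, e3 q18686 L702309 q16803, e3 q18687 (flp_c L721549) q20533, trivial⟩ (by decide +kernel)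

theorem ce_c_292 : ∀ r, r < 64 → sm gc (Qf (18688 + r)) = Qf (tab Gen.c (18688 + r)) :=
  edges_tab (sm gc) Qf (tab Gen.c) 18688 [(18688, 20534), (18689, 20538), (18690, 17711), (18691, 20451), (18692, 20541), (18693, 17718), (18694, 17709), (18695, 16645), (18696, 16876), (18697, 20486), (18698, 16665), (18699, 16939), (18700, 16653), (18701, 16654), (18702, 20545), (18703, 16671), (18704, 16832), (18705, 20065), (18706, 16835), (18707, 20100), (18708, 20237), (18709, 20543), (18710, 18001), (18711, 17655), (18712, 17281), (18713, 17282), (18714, 17667), (18715, 17679), (18716, 20504), (18717, 18717), (18718, 16680), (18719, 20556), (18720, 20557), (18721, 20510), (18722, 16713), (18723, 16685), (18724, 20562), (18725, 16721), (18726, 16688), (18727, 18727), (18728, 20567), (18729, 18729), (18730, 20570), (18731, 18731), (18732, 16692), (18733, 20574), (18734, 20575), (18735, 16694), (18736, 20579), (18737, 16711), (18738, 16697), (18739, 16698), (18740, 20582), (18741, 20583), (18742, 20584), (18743, 17625), (18744, 16702),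 (18745, 16703), (18746, 20588), (18747, 20090), (18748, 16731), (18749, 16705), (18750, 20593), (18751, 20594)]
    ⟨e3 q18688 (flp_c L721563) q20534, e3 q18689 L721607 q20538, e3 q18690 L702347 q17711, e3 q18691 (flp_c L720559) q20451, e3 q18692 L721643 q20541, e3 q18693 L702377 q17718, e3 q18694 L702393 q17709, e3 q18695 (flp_c L702397) q16645, e3 q18696 L702416 q16876, e3 q18697 (flp_c L721048) q20486, e3 q18698 L702445 q16665, e3 q18699 L702463 q16939, e3 q18700 L702471 q16653, e3 q18701 L702483 q16654, e3 q18702 (flp_c L721706) q20545, e3 q18703 L702511 q16671, e3 q18704 L702525 q16832, e3 q18705 (flp_c L715493) q20065, e3 q18706 L702544 q16835, e3 q18707 (flp_c L716007) q20100, e3 q18708 (flp_c L717878) q20237, e3 q18709 (flp_c L721679) q20543, e3 q18710 L702594 q18001, e3 q18711 L702615 q17655, e3 q18712 L702625 q17281, e3 q18713 L702641 q17282, e3 q18714 L702652 q17667, e3 q18715 L702664 q17679, e3 q18716 (flp_c L721250) q20504, e3 q18717 L702686 q18717, e3 q18718 (flp_c L702693) q16680, e3 q18719 (flp_c L721855)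 q20556, e3 q18720 (flp_c L721865) q20557, e3 q18721 (flp_c L721309) q20510, e3 q18722 L702749 q16713, e3 q18723 L702755 q16685, e3 q18724 (flp_c L721921) q20562, e3 q18725 L702772 q16721, e3 q18726 L702781 q16688, e3 q18727 L702793 q18727, e3 q18728 L721979 q20567, e3 q18729 L702818 q18729, e3 q18730 L722016 q20570, e3 q18731 L702840 q18731, e3 q18732 (flp_c L702845) q16692, e3 q18733 (flp_c L722066) q20574, e3 q18734 (flp_c L722076) q20575, e3 q18735 (flp_c L702874) q16694, e3 q18736 (flp_c L722115) q20579, e3 q18737 L702908 q16711, e3 q18738 L702918 q16697, e3 q18739 L702932 q16698, e3 q18740 (flp_c L722153) q20582, e3 q18741 (flp_c L722169) q20583, e3 q18742 (flp_c L722183) q20584, e3 q18743 L702967 q17625, e3 q18744 L702980 q16702, e3 q18745 L702992 q16703, e3 q18746 (flp_c L722226) q20588, e3 q18747 (flp_c L715875) q20090, e3 q18748 L703018 q16731, e3 q18749 (flp_c L703026) q16705, e3 q18750 (flp_c L722276) q20593, e3 q18751 (flp_c L722284) q20594, trivial⟩ (by decide +kernel)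

theorem ce_c_293 : ∀ r, r < 64 → sm gc (Qf (18752 + r)) = Qf (tab Gen.c (18752 + r)) :=
  edges_tab (sm gc) Qf (tab Gen.c) 18752 [(18752, 20555), (18753, 16708), (18754, 16709), (18755, 20601), (18756, 20602), (18757, 20603), (18758, 16712), (18759, 20573), (18760, 20581), (18761, 20606), (18762, 16758), (18763, 20561), (18764, 16716), (18765, 16717), (18766, 16718), (18767, 20611), (18768, 20612), (18769, 17613), (18770, 20407), (18771, 20563), (18772, 16724), (18773, 20484), (18774, 20621), (18775, 18775), (18776, 18776), (18777, 18777), (18778, 18778), (18779, 20625), (18780, 16730), (18781, 18781), (18782, 16734), (18783, 20342), (18784, 20627), (18785, 18785), (18786, 16738), (18787, 20343), (18788, 18788), (18789, 16741), (18790, 18790), (18791, 18791), (18792, 20489), (18793, 18793), (18794, 20634), (18795, 17634), (18796, 20636), (18797, 18797), (18798, 16749), (18799, 20640), (18800, 20641), (18801, 20495), (18802, 18802), (18803, 16752), (18804, 20647), (18805, 20648), (18806, 17222), (18807, 16755), (18808, 16756),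 (18809, 20655), (18810, 20656), (18811, 20657), (18812, 16759), (18813, 20598), (18814, 20609), (18815, 20661)]
    ⟨e3 q18752 (flp_c L721849) q20555, e3 q18753 L703066 q16708, e3 q18754 L703074 q16709, e3 q18755 (flp_c L722360) q20601, e3 q18756 (flp_c L722368) q20602, e3 q18757 (flp_c L722378) q20603, e3 q18758 L703112 q16712, e3 q18759 (flp_c L722060) q20573, e3 q18760 (flp_c L722138) q20581, e3 q18761 (flp_c L722406) q20606, e3 q18762 L703152 q16758, e3 q18763 (flp_c L721908) q20561, e3 q18764 L703178 q16716, e3 q18765 L703185 q16717, e3 q18766 L703196 q16718, e3 q18767 (flp_c L722462) q20611, e3 q18768 (flp_c L722471) q20612, e3 q18769 L703222 q17613, e3 q18770 (flp_c L720037) q20407, e3 q18771 (flp_c L721933) q20563, e3 q18772 L703249 q16724, e3 q18773 (flp_c L721024) q20484, e3 q18774 L722548 q20621, e3 q18775 L703273 q18775, e3 q18776 L703287 q18776, e3 q18777 L703300 q18777, e3 q18778 L703312 q18778, e3 q18779 L722594 q20625, e3 q18780 (flp_c L703325) q16730, e3 q18781 L703348 q18781, e3 q18782 L703353 q16734, e3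 q18783 (flp_c L719161) q20342, e3 q18784 (flp_c L722631) q20627, e3 q18785 L703385 q18785, e3 q18786 L703396 q16738, e3 q18787 (flp_c L719176) q20343, e3 q18788 L703422 q18788, e3 q18789 L703436 q16741, e3 q18790 L703450 q18790, e3 q18791 L703460 q18791, e3 q18792 (flp_c L721102) q20489, e3 q18793 L703480 q18793, e3 q18794 L722710 q20634, e3 q18795 L703496 q17634, e3 q18796 L722734 q20636, e3 q18797 L703515 q18797, e3 q18798 (flp_c L703523) q16749, e3 q18799 (flp_c L722781) q20640, e3 q18800 (flp_c L722789) q20641, e3 q18801 (flp_c L721172) q20495, e3 q18802 L703566 q18802, e3 q18803 (flp_c L703577) q16752, e3 q18804 (flp_c L722853) q20647, e3 q18805 (flp_c L722863) q20648, e3 q18806 L703613 q17222, e3 q18807 L703619 q16755, e3 q18808 L703627 q16756, e3 q18809 (flp_c L722934) q20655, e3 q18810 (flp_c L722942) q20656, e3 q18811 (flp_c L722950) q20657, e3 q18812 L703658 q16759, e3 q18813 (flp_c L722324) q20598, e3 q18814 (flp_c L722442) q20609, e3 q18815 (flp_c L722988) q20661, trivial⟩ (by decide +kernel)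

theorem ce_c_294 : ∀ r, r < 64 → sm gc (Qf (18816 + r)) = Qf (tab Gen.c (18816 + r)) :=
  edges_tab (sm gc) Qf (tab Gen.c) 18816 [(18816, 17224), (18817, 16763), (18818, 16764), (18819, 16765), (18820, 20039), (18821, 20665), (18822, 20666), (18823, 17225), (18824, 16771), (18825, 20509), (18826, 20040), (18827, 20483), (18828, 20676), (18829, 20517), (18830, 20518), (18831, 16775), (18832, 16776), (18833, 20681), (18834, 20682), (18835, 20683), (18836, 17557), (18837, 17582), (18838, 17583), (18839, 17066), (18840, 16780), (18841, 16781), (18842, 16782), (18843, 20695), (18844, 20696), (18845, 20697), (18846, 16785), (18847, 16786), (18848, 16787), (18849, 20703), (18850, 20704), (18851, 17562), (18852, 17553), (18853, 17555), (18854, 17589), (18855, 16794), (18856, 16795), (18857, 16796), (18858, 20526), (18859, 20028), (18860, 20712), (18861, 20713), (18862, 20719), (18863, 17581), (18864, 17556), (18865, 20070), (18866, 16805), (18867, 16806), (18868, 20724), (18869, 20535), (18870, 20029), (18871, 20722), (18872, 20721),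 (18873, 16807), (18874, 18874), (18875, 20633), (18876, 18876), (18877, 18877), (18878, 20731), (18879, 16813)]
    ⟨e3 q18816 L703697 q17224, e3 q18817 L703710 q16763, e3 q18818 L703720 q16764, e3 q18819 L703730 q16765, e3 q18820 (flp_c L715094) q20039, e3 q18821 (flp_c L723037) q20665, e3 q18822 (flp_c L723047) q20666, e3 q18823 L703762 q17225, e3 q18824 L703774 q16771, e3 q18825 (flp_c L721300) q20509, e3 q18826 (flp_c L715110) q20040, e3 q18827 (flp_c L721006) q20483, e3 q18828 L723129 q20676, e3 q18829 (flp_c L721389) q20517, e3 q18830 (flp_c L721399) q20518, e3 q18831 L703827 q16775, e3 q18832 L703835 q16776, e3 q18833 (flp_c L723170) q20681, e3 q18834 (flp_c L723180) q20682, e3 q18835 (flp_c L723190) q20683, e3 q18836 L703869 q17557, e3 q18837 L703885 q17582, e3 q18838 L703895 q17583, e3 q18839 L703909 q17066, e3 q18840 L703915 q16780, e3 q18841 L703921 q16781, e3 q18842 L703929 q16782, e3 q18843 (flp_c L723319) q20695, e3 q18844 (flp_c L723327) q20696, e3 q18845 (flp_c L723335) q20697, e3 q18846 L703961 q16785, e3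 q18847 L703970 q16786, e3 q18848 L703983 q16787, e3 q18849 (flp_c L723383) q20703, e3 q18850 (flp_c L723394) q20704, e3 q18851 L704013 q17562, e3 q18852 L704029 q17553, e3 q18853 L704042 q17555, e3 q18854 L704055 q17589, e3 q18855 L704063 q16794, e3 q18856 L704070 q16795, e3 q18857 L704077 q16796, e3 q18858 (flp_c L721479) q20526, e3 q18859 (flp_c L714934) q20028, e3 q18860 (flp_c L723487) q20712, e3 q18861 (flp_c L723496) q20713, e3 q18862 L723531 q20719, e3 q18863 L704117 q17581, e3 q18864 L704131 q17556, e3 q18865 (flp_c L715577) q20070, e3 q18866 L704147 q16805, e3 q18867 L704156 q16806, e3 q18868 L723577 q20724, e3 q18869 (flp_c L721577) q20535, e3 q18870 (flp_c L714949) q20029, e3 q18871 (flp_c L723560) q20722, e3 q18872 (flp_c L723552) q20721, e3 q18873 (flp_c L704191) q16807, e3 q18874 L704199 q18874, e3 q18875 (flp_c L722702) q20633, e3 q18876 L704218 q18876, e3 q18877 L704229 q18877, e3 q18878 L723633 q20731, e3 q18879 (flp_c L704244) q16813, trivial⟩ (by decide +kernel)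

theorem ce_c_295 : ∀ r, r < 64 → sm gc (Qf (18880 + r)) = Qf (tab Gen.c (18880 + r)) :=
  edges_tab (sm gc) Qf (tab Gen.c) 18880 [(18880, 20734), (18881, 16816), (18882, 20105), (18883, 17128), (18884, 16820), (18885, 16821), (18886, 20737), (18887, 16837), (18888, 16838), (18889, 17778), (18890, 16839), (18891, 16840), (18892, 17137), (18893, 17138), (18894, 16828), (18895, 20546), (18896, 20750), (18897, 20487), (18898, 16843), (18899, 17703), (18900, 20548), (18901, 20740), (18902, 20741), (18903, 20744), (18904, 16926), (18905, 16927), (18906, 16930), (18907, 18013), (18908, 20359), (18909, 18909), (18910, 16855), (18911, 20756), (18912, 20757), (18913, 16857), (18914, 20760), (18915, 16860), (18916, 20762), (18917, 16862), (18918, 17731), (18919, 16879), (18920, 17733), (18921, 17734), (18922, 17735), (18923, 17736), (18924, 17737), (18925, 17738), (18926, 17739), (18927, 17740), (18928, 17741), (18929, 20157), (18930, 18073), (18931, 20179), (18932, 20176), (18933, 20739), (18934, 17156), (18935, 16881), (18936, 20777),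 (18937, 20778), (18938, 17722), (18939, 17158), (18940, 17724), (18941, 17725), (18942, 17336), (18943, 17726)]
    ⟨e3 q18880 L723652 q20734, e3 q18881 (flp_c L704259) q16816, e3 q18882 (flp_c L716084) q20105, e3 q18883 L704284 q17128, e3 q18884 L704290 q16820, e3 q18885 L704301 q16821, e3 q18886 (flp_c L723693) q20737, e3 q18887 L704324 q16837, e3 q18888 L704336 q16838, e3 q18889 L704353 q17778, e3 q18890 L704359 q16839, e3 q18891 L704372 q16840, e3 q18892 L704383 q17137, e3 q18893 L704391 q17138, e3 q18894 L704400 q16828, e3 q18895 (flp_c L721724) q20546, e3 q18896 L723829 q20750, e3 q18897 (flp_c L721070) q20487, e3 q18898 L704442 q16843, e3 q18899 L704459 q17703, e3 q18900 (flp_c L721747) q20548, e3 q18901 (flp_c L723729) q20740, e3 q18902 (flp_c L723742) q20741, e3 q18903 (flp_c L723780) q20744, e3 q18904 L704514 q16926, e3 q18905 L704529 q16927, e3 q18906 L704543 q16930, e3 q18907 L704566 q18013, e3 q18908 (flp_c L719362) q20359, e3 q18909 L704587 q18909, e3 q18910 (flp_c L704594) q16855, e3 q18911 (flp_c L723908)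 q20756, e3 q18912 (flp_c L723924) q20757, e3 q18913 (flp_c L704629) q16857, e3 q18914 (flp_c L723961) q20760, e3 q18915 L704660 q16860, e3 q18916 (flp_c L723988) q20762, e3 q18917 L704685 q16862, e3 q18918 L704703 q17731, e3 q18919 L704711 q16879, e3 q18920 L704724 q17733, e3 q18921 L704734 q17734, e3 q18922 L704746 q17735, e3 q18923 L704756 q17736, e3 q18924 L704766 q17737, e3 q18925 L704780 q17738, e3 q18926 L704793 q17739, e3 q18927 L704806 q17740, e3 q18928 L704816 q17741, e3 q18929 (flp_c L716759) q20157, e3 q18930 L704839 q18073, e3 q18931 L717055 q20179, e3 q18932 (flp_c L717006) q20176, e3 q18933 (flp_c L723721) q20739, e3 q18934 L704874 q17156, e3 q18935 (flp_c L704883) q16881, e3 q18936 (flp_c L724158) q20777, e3 q18937 (flp_c L724168) q20778, e3 q18938 L704918 q17722, e3 q18939 L704926 q17158, e3 q18940 L704939 q17724, e3 q18941 L704949 q17725, e3 q18942 L704961 q17336, e3 q18943 L704971 q17726, trivial⟩ (by decide +kernel)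

theorem ce_c_296 : ∀ r, r < 64 → sm gc (Qf (18944 + r)) = Qf (tab Gen.c (18944 + r)) :=
  edges_tab (sm gc) Qf (tab Gen.c) 18944 [(18944, 17727), (18945, 17334), (18946, 17338), (18947, 17728), (18948, 17337), (18949, 17339), (18950, 17478), (18951, 16894), (18952, 20793), (18953, 20794), (18954, 16897), (18955, 16898), (18956, 17729), (18957, 20798), (18958, 20799), (18959, 20137), (18960, 20138), (18961, 20519), (18962, 16902), (18963, 16903), (18964, 16904), (18965, 20182), (18966, 20805), (18967, 20806), (18968, 16908), (18969, 17730), (18970, 18067), (18971, 20151), (18972, 16914), (18973, 16915), (18974, 20180), (18975, 20183), (18976, 20813), (18977, 20817), (18978, 20184), (18979, 20185), (18980, 20335), (18981, 16921), (18982, 17157), (18983, 17946), (18984, 18077), (18985, 17714), (18986, 20753), (18987, 20824), (18988, 16928), (18989, 18005), (18990, 20370), (18991, 16935), (18992, 20544), (18993, 17695), (18994, 17716), (18995, 20193), (18996, 20199), (18997, 17994), (18998, 20200), (18999, 20742), (19000, 19000),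 (19001, 16949), (19002, 20835), (19003, 20836), (19004, 16952), (19005, 16953), (19006, 20840), (19007, 20841)]
    ⟨e3 q18944 L704981 q17727, e3 q18945 L704995 q17334, e3 q18946 L705006 q17338, e3 q18947 L705018 q17728, e3 q18948 L705031 q17337, e3 q18949 L705040 q17339, e3 q18950 L705055 q17478, e3 q18951 (flp_c L705060) q16894, e3 q18952 (flp_c L724337) q20793, e3 q18953 (flp_c L724353) q20794, e3 q18954 L705096 q16897, e3 q18955 L705112 q16898, e3 q18956 L705122 q17729, e3 q18957 (flp_c L724394) q20798, e3 q18958 (flp_c L724410) q20799, e3 q18959 (flp_c L716507) q20137, e3 q18960 (flp_c L716523) q20138, e3 q18961 (flp_c L721419) q20519, e3 q18962 L705194 q16902, e3 q18963 L705208 q16903, e3 q18964 L705218 q16904, e3 q18965 (flp_c L717097) q20182, e3 q18966 (flp_c L724490) q20805, e3 q18967 (flp_c L724504) q20806, e3 q18968 L705254 q16908, e3 q18969 L705267 q17730, e3 q18970 L705277 q18067, e3 q18971 (flp_c L716679) q20151, e3 q18972 L705306 q16914, e3 q18973 L705320 q16915, e3 q18974 (flp_c L717069) q20180, e3 q18975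 (flp_c L717113) q20183, e3 q18976 (flp_c L724571) q20813, e3 q18977 L724607 q20817, e3 q18978 (flp_c L717127) q20184, e3 q18979 (flp_c L717142) q20185, e3 q18980 (flp_c L719066) q20335, e3 q18981 (flp_c L705394) q16921, e3 q18982 L705409 q17157, e3 q18983 L705418 q17946, e3 q18984 L705431 q18077, e3 q18985 L705441 q17714, e3 q18986 (flp_c L723867) q20753, e3 q18987 L724685 q20824, e3 q18988 (flp_c L705463) q16928, e3 q18989 L705480 q18005, e3 q18990 (flp_c L719490) q20370, e3 q18991 L705501 q16935, e3 q18992 (flp_c L721692) q20544, e3 q18993 L705536 q17695, e3 q18994 L705544 q17716, e3 q18995 (flp_c L717251) q20193, e3 q18996 (flp_c L717332) q20199, e3 q18997 L705578 q17994, e3 q18998 (flp_c L717348) q20200, e3 q18999 (flp_c L723755) q20742, e3 q19000 L705610 q19000, e3 q19001 (flp_c L705616) q16949, e3 q19002 (flp_c L724811) q20835, e3 q19003 (flp_c L724821) q20836, e3 q19004 L705645 q16952, e3 q19005 L705651 q16953, e3 q19006 (flp_c L724855) q20840, e3 q19007 (flp_c L724863) q20841, trivial⟩ (by decide +kernel)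

theorem ce_c_297 : ∀ r, r < 64 → sm gc (Qf (19008 + r)) = Qf (tab Gen.c (19008 + r)) :=
  edges_tab (sm gc) Qf (tab Gen.c) 19008 [(19008, 16955), (19009, 20843), (19010, 16957), (19011, 20763), (19012, 17491), (19013, 17159), (19014, 16960), (19015, 20847), (19016, 20848), (19017, 17134), (19018, 17151), (19019, 17888), (19020, 17940), (19021, 17973), (19022, 17943), (19023, 17898), (19024, 17974), (19025, 17944), (19026, 17910), (19027, 17945), (19028, 17925), (19029, 20864), (19030, 16973), (19031, 20865), (19032, 20866), (19033, 16976), (19034, 16977), (19035, 20871), (19036, 20872), (19037, 20873), (19038, 20211), (19039, 20216), (19040, 20296), (19041, 16981), (19042, 16982), (19043, 16983), (19044, 20883), (19045, 20884), (19046, 16986), (19047, 16987), (19048, 16988), (19049, 20887), (19050, 20888), (19051, 20889), (19052, 20217), (19053, 16993), (19054, 16994), (19055, 20893), (19056, 20896), (19057, 20897), (19058, 16997), (19059, 19059), (19060, 19060), (19061, 20900), (19062, 20901), (19063, 17002), (19064, 17005),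 (19065, 17006), (19066, 20903), (19067, 20318), (19068, 17009), (19069, 19069), (19070, 19070), (19071, 20907)]
    ⟨e3 q19008 L705678 q16955, e3 q19009 (flp_c L724881) q20843, e3 q19010 L705693 q16957, e3 q19011 (flp_c L724007) q20763, e3 q19012 L705714 q17491, e3 q19013 L705722 q17159, e3 q19014 (flp_c L705733) q16960, e3 q19015 (flp_c L724928) q20847, e3 q19016 (flp_c L724942) q20848, e3 q19017 L705774 q17134, e3 q19018 L705784 q17151, e3 q19019 L705799 q17888, e3 q19020 L705809 q17940, e3 q19021 L705821 q17973, e3 q19022 L705831 q17943, e3 q19023 L705841 q17898, e3 q19024 L705855 q17974, e3 q19025 L705866 q17944, e3 q19026 L705878 q17910, e3 q19027 L705891 q17945, e3 q19028 L705900 q17925, e3 q19029 L725121 q20864, e3 q19030 (flp_c L705918) q16973, e3 q19031 (flp_c L725139) q20865, e3 q19032 (flp_c L725153) q20866, e3 q19033 L705958 q16976, e3 q19034 L705970 q16977, e3 q19035 (flp_c L725206) q20871, e3 q19036 (flp_c L725220) q20872, e3 q19037 (flp_c L725232) q20873, e3 q19038 (flp_c L717511) q20211, e3 q19039 (flp_c L717578)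 q20216, e3 q19040 (flp_c L718595) q20296, e3 q19041 L706036 q16981, e3 q19042 L706046 q16982, e3 q19043 L706056 q16983, e3 q19044 (flp_c L725337) q20883, e3 q19045 (flp_c L725347) q20884, e3 q19046 L706088 q16986, e3 q19047 L706101 q16987, e3 q19048 L706115 q16988, e3 q19049 (flp_c L725375) q20887, e3 q19050 (flp_c L725387) q20888, e3 q19051 (flp_c L725400) q20889, e3 q19052 (flp_c L717593) q20217, e3 q19053 L706166 q16993, e3 q19054 L706175 q16994, e3 q19055 (flp_c L725439) q20893, e3 q19056 L725464 q20896, e3 q19057 L725472 q20897, e3 q19058 (flp_c L706207) q16997, e3 q19059 L706218 q19059, e3 q19060 L706226 q19060, e3 q19061 L725502 q20900, e3 q19062 L725513 q20901, e3 q19063 (flp_c L706247) q17002, e3 q19064 L706261 q17005, e3 q19065 L706277 q17006, e3 q19066 (flp_c L725532) q20903, e3 q19067 (flp_c L718854) q20318, e3 q19068 L706318 q17009, e3 q19069 L706333 q19069, e3 q19070 L706347 q19070, e3 q19071 L725584 q20907, trivial⟩ (by decide +kernel)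

theorem ce_c_298 : ∀ r, r < 64 → sm gc (Qf (19072 + r)) = Qf (tab Gen.c (19072 + r)) :=
  edges_tab (sm gc) Qf (tab Gen.c) 19072 [(19072, 19072), (19073, 20271), (19074, 20319), (19075, 20356), (19076, 17165), (19077, 17017), (19078, 20914), (19079, 20915), (19080, 20246), (19081, 17020), (19082, 17021), (19083, 20923), (19084, 20924), (19085, 20925), (19086, 17022), (19087, 20929), (19088, 20930), (19089, 20254), (19090, 17025), (19091, 17026), (19092, 20936), (19093, 20937), (19094, 20938), (19095, 20260), (19096, 20261), (19097, 20922), (19098, 17030), (19099, 17031), (19100, 17032), (19101, 20948), (19102, 20949), (19103, 20950), (19104, 20269), (19105, 17036), (19106, 17037), (19107, 17038), (19108, 20956), (19109, 20957), (19110, 20958), (19111, 20274), (19112, 17043), (19113, 17044), (19114, 17045), (19115, 20963), (19116, 20964), (19117, 20965), (19118, 20970), (19119, 17050), (19120, 17051), (19121, 17052), (19122, 17479), (19123, 20971), (19124, 20972), (19125, 20975), (19126, 17053), (19127, 20168), (19128, 17055),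 (19129, 17056), (19130, 20980), (19131, 20981), (19132, 20982), (19133, 20291), (19134, 20292), (19135, 20293)]
    ⟨e3 q19072 L706371 q19072, e3 q19073 (flp_c L718275) q20271, e3 q19074 (flp_c L718869) q20319, e3 q19075 (flp_c L719323) q20356, e3 q19076 L706423 q17165, e3 q19077 (flp_c L706433) q17017, e3 q19078 (flp_c L725672) q20914, e3 q19079 (flp_c L725682) q20915, e3 q19080 (flp_c L717999) q20246, e3 q19081 L706464 q17020, e3 q19082 L706470 q17021, e3 q19083 (flp_c L725749) q20923, e3 q19084 (flp_c L725754) q20924, e3 q19085 (flp_c L725762) q20925, e3 q19086 (flp_c L706495) q17022, e3 q19087 (flp_c L725795) q20929, e3 q19088 (flp_c L725809) q20930, e3 q19089 (flp_c L718085) q20254, e3 q19090 L706541 q17025, e3 q19091 L706553 q17026, e3 q19092 (flp_c L725870) q20936, e3 q19093 (flp_c L725884) q20937, e3 q19094 (flp_c L725896) q20938, e3 q19095 (flp_c L718148) q20260, e3 q19096 (flp_c L718162) q20261, e3 q19097 (flp_c L725743) q20922, e3 q19098 L706615 q17030, e3 q19099 L706625 q17031, e3 q19100 L706635 q17032, e3 q19101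 (flp_c L726000) q20948, e3 q19102 (flp_c L726012) q20949, e3 q19103 (flp_c L726022) q20950, e3 q19104 (flp_c L718248) q20269, e3 q19105 L706682 q17036, e3 q19106 L706694 q17037, e3 q19107 L706707 q17038, e3 q19108 (flp_c L726079) q20956, e3 q19109 (flp_c L726092) q20957, e3 q19110 (flp_c L726104) q20958, e3 q19111 (flp_c L718317) q20274, e3 q19112 L706754 q17043, e3 q19113 L706766 q17044, e3 q19114 L706776 q17045, e3 q19115 (flp_c L726153) q20963, e3 q19116 (flp_c L726169) q20964, e3 q19117 (flp_c L726181) q20965, e3 q19118 L726223 q20970, e3 q19119 L706817 q17050, e3 q19120 L706832 q17051, e3 q19121 L706846 q17052, e3 q19122 (flp_c L706866) q17479, e3 q19123 (flp_c L726240) q20971, e3 q19124 (flp_c L726255) q20972, e3 q19125 L726279 q20975, e3 q19126 (flp_c L706892) q17053, e3 q19127 (flp_c L716901) q20168, e3 q19128 L706915 q17055, e3 q19129 L706923 q17056, e3 q19130 (flp_c L726346) q20980, e3 q19131 (flp_c L726353) q20981, e3 q19132 (flp_c L726363) q20982, e3 q19133 (flp_c L718527) q20291, e3 q19134 (flp_c L718545) q20292,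 e3 q19135 (flp_c L718557) q20293, trivial⟩ (by decide +kernel)

theorem ce_c_299 : ∀ r, r < 64 → sm gc (Qf (19136 + r)) = Qf (tab Gen.c (19136 + r)) :=
  edges_tab (sm gc) Qf (tab Gen.c) 19136 [(19136, 20680), (19137, 17060), (19138, 17061), (19139, 17062), (19140, 20995), (19141, 20996), (19142, 20997), (19143, 20299), (19144, 20300), (19145, 20852), (19146, 20302), (19147, 20303), (19148, 20304), (19149, 20692), (19150, 20693), (19151, 20694), (19152, 17070), (19153, 17071), (19154, 17072), (19155, 17793), (19156, 21016), (19157, 21017), (19158, 21018), (19159, 21024), (19160, 20315), (19161, 17820), (19162, 18023), (19163, 20316), (19164, 17079), (19165, 17080), (19166, 17081), (19167, 17794), (19168, 21029), (19169, 21030), (19170, 21031), (19171, 21037), (19172, 20322), (19173, 17838), (19174, 20323), (19175, 20324), (19176, 20235), (19177, 17090), (19178, 17091), (19179, 17092), (19180, 21045), (19181, 17297), (19182, 21042), (19183, 21043), (19184, 21050), (19185, 17093), (19186, 17848), (19187, 17854), (19188, 17864),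 (19189, 20286), (19190, 17104), (19191, 17105), (19192, 20976), (19193, 17102), (19194, 17426), (19195, 21055), (19196, 21059), (19197, 17106), (19198, 20341), (19199, 19199)]
    ⟨e3 q19136 (flp_c L723162) q20680, e3 q19137 L706990 q17060, e3 q19138 L706998 q17061, e3 q19139 L707006 q17062, e3 q19140 (flp_c L726491) q20995, e3 q19141 (flp_c L726497) q20996, e3 q19142 (flp_c L726507) q20997, e3 q19143 (flp_c L718631) q20299, e3 q19144 (flp_c L718645) q20300, e3 q19145 (flp_c L724983) q20852, e3 q19146 (flp_c L718673) q20302, e3 q19147 (flp_c L718689) q20303, e3 q19148 (flp_c L718699) q20304, e3 q19149 (flp_c L723294) q20692, e3 q19150 (flp_c L723301) q20693, e3 q19151 (flp_c L723309) q20694, e3 q19152 L707097 q17070, e3 q19153 L707105 q17071, e3 q19154 L707113 q17072, e3 q19155 L707129 q17793, e3 q19156 (flp_c L726659) q21016, e3 q19157 (flp_c L726667) q21017, e3 q19158 (flp_c L726677) q21018, e3 q19159 L726719 q21024, e3 q19160 (flp_c L718819) q20315, e3 q19161 L707172 q17820, e3 q19162 L707181 q18023, e3 q19163 (flp_c L718832)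 q20316, e3 q19164 L707198 q17079, e3 q19165 L707204 q17080, e3 q19166 L707213 q17081, e3 q19167 L707229 q17794, e3 q19168 (flp_c L726771) q21029, e3 q19169 (flp_c L726781) q21030, e3 q19170 (flp_c L726789) q21031, e3 q19171 L726836 q21037, e3 q19172 (flp_c L718905) q20322, e3 q19173 L707272 q17838, e3 q19174 (flp_c L718919) q20323, e3 q19175 (flp_c L718935) q20324, e3 q19176 (flp_c L717847) q20235, e3 q19177 L707306 q17090, e3 q19178 L707313 q17091, e3 q19179 L707322 q17092, e3 q19180 L726908 q21045, e3 q19181 L707335 q17297, e3 q19182 (flp_c L726888) q21042, e3 q19183 (flp_c L726897) q21043, e3 q19184 L726956 q21050, e3 q19185 (flp_c L707363) q17093, e3 q19186 L707375 q17848, e3 q19187 L707389 q17854, e3 q19188 L707402 q17864, e3 q19189 (flp_c L718480) q20286, e3 q19190 L707419 q17104, e3 q19191 L707429 q17105, e3 q19192 (flp_c L726305) q20976, e3 q19193 (flp_c L707441) q17102, e3 q19194 L707455 q17426, e3 q19195 (flp_c L727002) q21055, e3 q19196 L727031 q21059, e3 q19197 (flp_c L707476) q17106, e3 q19198 (flp_c L719153)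 q20341, e3 q19199 L707496 q19199, trivial⟩ (by decide +kernel)

theorem ce_c_300 : ∀ r, r < 64 → sm gc (Qf (19200 + r)) = Qf (tab Gen.c (19200 + r)) :=
  edges_tab (sm gc) Qf (tab Gen.c) 19200 [(19200, 19200), (19201, 21063), (19202, 17111), (19203, 19203), (19204, 21067), (19205, 17114), (19206, 21070), (19207, 20350), (19208, 21072), (19209, 17117), (19210, 17396), (19211, 17131), (19212, 20230), (19213, 17123), (19214, 17124), (19215, 17148), (19216, 17781), (19217, 20735), (19218, 20736), (19219, 17791), (19220, 17149), (19221, 17150), (19222, 20853), (19223, 20231), (19224, 20746), (19225, 20747), (19226, 21082), (19227, 17792), (19228, 17141), (19229, 17153), (19230, 20234), (19231, 17296), (19232, 17295), (19233, 20181), (19234, 20820), (19235, 17161), (19236, 21085), (19237, 19237), (19238, 19238), (19239, 17167), (19240, 21087), (19241, 19241), (19242, 19242), (19243, 19243), (19244, 17178), (19245, 17171), (19246, 17172), (19247, 21092), (19248, 19248), (19249, 19249), (19250, 20278), (19251, 19251), (19252, 21038),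 (19253, 21091), (19254, 19254), (19255, 19255), (19256, 17790), (19257, 20226), (19258, 19258), (19259, 21098), (19260, 17189), (19261, 21100), (19262, 17294), (19263, 20019)]
    ⟨e3 q19200 L707504 q19200, e3 q19201 L727071 q21063, e3 q19202 (flp_c L707516) q17111, e3 q19203 L707527 q19203, e3 q19204 L727100 q21067, e3 q19205 (flp_c L707542) q17114, e3 q19206 (flp_c L727125) q21070, e3 q19207 (flp_c L719248) q20350, e3 q19208 L727140 q21072, e3 q19209 (flp_c L707565) q17117, e3 q19210 L707577 q17396, e3 q19211 L707594 q17131, e3 q19212 (flp_c L717778) q20230, e3 q19213 L707621 q17123, e3 q19214 L707639 q17124, e3 q19215 L707656 q17148, e3 q19216 L707677 q17781, e3 q19217 (flp_c L723670) q20735, e3 q19218 (flp_c L723682) q20736, e3 q19219 L707711 q17791, e3 q19220 L707717 q17149, e3 q19221 L707734 q17150, e3 q19222 (flp_c L724999) q20853, e3 q19223 (flp_c L717794) q20231, e3 q19224 (flp_c L723805) q20746, e3 q19225 (flp_c L723813) q20747, e3 q19226 L727243 q21082, e3 q19227 L707790 q17792, e3 q19228 (flp_c L707796) q17141,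 e3 q19229 L707815 q17153, e3 q19230 (flp_c L717832) q20234, e3 q19231 L707836 q17296, e3 q19232 L707848 q17295, e3 q19233 (flp_c L717079) q20181, e3 q19234 (flp_c L724644) q20820, e3 q19235 L707889 q17161, e3 q19236 (flp_c L727284) q21085, e3 q19237 L707920 q19237, e3 q19238 L707942 q19238, e3 q19239 L707947 q17167, e3 q19240 (flp_c L727312) q21087, e3 q19241 L707967 q19241, e3 q19242 L707984 q19242, e3 q19243 L707996 q19243, e3 q19244 L708010 q17178, e3 q19245 L708016 q17171, e3 q19246 L708028 q17172, e3 q19247 (flp_c L727376) q21092, e3 q19248 L708056 q19248, e3 q19249 L708071 q19249, e3 q19250 (flp_c L718372) q20278, e3 q19251 L708100 q19251, e3 q19252 (flp_c L726851) q21038, e3 q19253 (flp_c L727362) q21091, e3 q19254 L708139 q19254, e3 q19255 L708156 q19255, e3 q19256 L708168 q17790, e3 q19257 (flp_c L717724) q20226, e3 q19258 L708190 q19258, e3 q19259 L727442 q21098, e3 q19260 (flp_c L708209) q17189, e3 q19261 (flp_c L727472) q21100, e3 q19262 L708234 q17294, e3 q19263 (flp_c L714788) q20019, trivial⟩ (by decide +kernel)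

theorem ce_c_301 : ∀ r, r < 64 → sm gc (Qf (19264 + r)) = Qf (tab Gen.c (19264 + r)) :=
  edges_tab (sm gc) Qf (tab Gen.c) 19264 [(19264, 20431), (19265, 20020), (19266, 20013), (19267, 17204), (19268, 17538), (19269, 17539), (19270, 17210), (19271, 17211), (19272, 21103), (19273, 20071), (19274, 20072), (19275, 20076), (19276, 17216), (19277, 20083), (19278, 20084), (19279, 17268), (19280, 20652), (19281, 20653), (19282, 20664), (19283, 20073), (19284, 20074), (19285, 20075), (19286, 20078), (19287, 20079), (19288, 20066), (19289, 20067), (19290, 20068), (19291, 20069), (19292, 20032), (19293, 20033), (19294, 17244), (19295, 17245), (19296, 21117), (19297, 21118), (19298, 17656), (19299, 17657), (19300, 17442), (19301, 17249), (19302, 17250), (19303, 17251), (19304, 21125), (19305, 21126), (19306, 21127), (19307, 17665), (19308, 17254), (19309, 17668), (19310, 17669), (19311, 17670), (19312, 17260), (19313, 17261), (19314, 17262), (19315, 20041), (19316, 21134), (19317, 21135), (19318, 17681), (19319, 17270), (19320, 17271),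 (19321, 20671), (19322, 20502), (19323, 21139), (19324, 17495), (19325, 18020), (19326, 20005), (19327, 17290)]
    ⟨e3 q19264 (flp_c L720345) q20431, e3 q19265 (flp_c L714808) q20020, e3 q19266 (flp_c L714688) q20013, e3 q19267 L708302 q17204, e3 q19268 L708316 q17538, e3 q19269 L708329 q17539, e3 q19270 L708341 q17210, e3 q19271 L708352 q17211, e3 q19272 (flp_c L727505) q21103, e3 q19273 (flp_c L715589) q20071, e3 q19274 (flp_c L715607) q20072, e3 q19275 (flp_c L715669) q20076, e3 q19276 L708418 q17216, e3 q19277 (flp_c L715771) q20083, e3 q19278 (flp_c L715787) q20084, e3 q19279 L708458 q17268, e3 q19280 (flp_c L722900) q20652, e3 q19281 (flp_c L722916) q20653, e3 q19282 (flp_c L723023) q20664, e3 q19283 (flp_c L715623) q20073, e3 q19284 (flp_c L715641) q20074, e3 q19285 (flp_c L715655) q20075, e3 q19286 (flp_c L715702) q20078, e3 q19287 (flp_c L715715) q20079, e3 q19288 (flp_c L715501) q20066, e3 q19289 (flp_c L715517) q20067, e3 q19290 (flp_c L715535) q20068, e3 q19291 (flp_c L715553) q20069, e3 q19292 (flp_c L714994)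 q20032, e3 q19293 (flp_c L715010) q20033, e3 q19294 L708628 q17244, e3 q19295 L708638 q17245, e3 q19296 (flp_c L727672) q21117, e3 q19297 (flp_c L727682) q21118, e3 q19298 L708672 q17656, e3 q19299 L708682 q17657, e3 q19300 L708698 q17442, e3 q19301 L708704 q17249, e3 q19302 L708714 q17250, e3 q19303 L708720 q17251, e3 q19304 (flp_c L727773) q21125, e3 q19305 (flp_c L727785) q21126, e3 q19306 (flp_c L727795) q21127, e3 q19307 L708756 q17665, e3 q19308 L708768 q17254, e3 q19309 L708782 q17668, e3 q19310 L708793 q17669, e3 q19311 L708806 q17670, e3 q19312 L708812 q17260, e3 q19313 L708821 q17261, e3 q19314 L708830 q17262, e3 q19315 (flp_c L715126) q20041, e3 q19316 (flp_c L727868) q21134, e3 q19317 (flp_c L727877) q21135, e3 q19318 L708872 q17681, e3 q19319 L708878 q17270, e3 q19320 L708885 q17271, e3 q19321 (flp_c L723092) q20671, e3 q19322 (flp_c L721229) q20502, e3 q19323 (flp_c L727911) q21139, e3 q19324 L708914 q17495, e3 q19325 L708926 q18020, e3 q19326 (flp_c L714549) q20005, e3 q19327 (flp_c L708945) q17290, trivial⟩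 (by decide +kernel)

theorem ce_c_302 : ∀ r, r < 64 → sm gc (Qf (19328 + r)) = Qf (tab Gen.c (19328 + r)) :=
  edges_tab (sm gc) Qf (tab Gen.c) 19328 [(19328, 21143), (19329, 21144), (19330, 20305), (19331, 20363), (19332, 21084), (19333, 21047), (19334, 21033), (19335, 20306), (19336, 20364), (19337, 17420), (19338, 17751), (19339, 17752), (19340, 17303), (19341, 17304), (19342, 21155), (19343, 17427), (19344, 17760), (19345, 17307), (19346, 17428), (19347, 17769), (19348, 17465), (19349, 17429), (19350, 20202), (19351, 17326), (19352, 17327), (19353, 17497), (19354, 17329), (19355, 17330), (19356, 17500), (19357, 17331), (19358, 20204), (19359, 17503), (19360, 21163), (19361, 20203), (19362, 21166), (19363, 20784), (19364, 20789), (19365, 20787), (19366, 20791), (19367, 20790), (19368, 17341), (19369, 17342), (19370, 21174), (19371, 21175), (19372, 17344), (19373, 21177), (19374, 17346), (19375, 17869), (19376, 17348), (19377, 21180), (19378, 21181), (19379, 20122), (19380, 17351), (19381, 17352), (19382, 21188), (19383,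 21189), (19384, 21190), (19385, 20118), (19386, 20126), (19387, 17883), (19388, 17356), (19389, 17357), (19390, 17358), (19391, 21198)]
    ⟨e3 q19328 (flp_c L727951) q21143, e3 q19329 (flp_c L727963) q21144, e3 q19330 (flp_c L718709) q20305, e3 q19331 (flp_c L719413) q20363, e3 q19332 (flp_c L727272) q21084, e3 q19333 (flp_c L726936) q21047, e3 q19334 (flp_c L726805) q21033, e3 q19335 (flp_c L718723) q20306, e3 q19336 (flp_c L719426) q20364, e3 q19337 L709071 q17420, e3 q19338 L709087 q17751, e3 q19339 L709095 q17752, e3 q19340 L709105 q17303, e3 q19341 L709115 q17304, e3 q19342 (flp_c L728100) q21155, e3 q19343 L709131 q17427, e3 q19344 L709148 q17760, e3 q19345 L709161 q17307, e3 q19346 L709174 q17428, e3 q19347 L709186 q17769, e3 q19348 L709198 q17465, e3 q19349 L709208 q17429, e3 q19350 (flp_c L717385) q20202, e3 q19351 L709230 q17326, e3 q19352 L709240 q17327, e3 q19353 L709252 q17497, e3 q19354 L709260 q17329, e3 q19355 L709271 q17330, e3 q19356 L709287 q17500, e3 q19357 L709295 q17331, e3 q19358 (flp_c L717419) q20204,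 e3 q19359 L709313 q17503, e3 q19360 (flp_c L728191) q21163, e3 q19361 (flp_c L717397) q20203, e3 q19362 (flp_c L728218) q21166, e3 q19363 (flp_c L724230) q20784, e3 q19364 (flp_c L724288) q20789, e3 q19365 (flp_c L724266) q20787, e3 q19366 (flp_c L724312) q20791, e3 q19367 (flp_c L724299) q20790, e3 q19368 L709419 q17341, e3 q19369 L709427 q17342, e3 q19370 (flp_c L728304) q21174, e3 q19371 (flp_c L728312) q21175, e3 q19372 L709452 q17344, e3 q19373 (flp_c L728330) q21177, e3 q19374 L709479 q17346, e3 q19375 L709492 q17869, e3 q19376 (flp_c L709495) q17348, e3 q19377 (flp_c L728365) q21180, e3 q19378 (flp_c L728377) q21181, e3 q19379 (flp_c L716305) q20122, e3 q19380 L709533 q17351, e3 q19381 L709541 q17352, e3 q19382 (flp_c L728440) q21188, e3 q19383 (flp_c L728452) q21189, e3 q19384 (flp_c L728462) q21190, e3 q19385 (flp_c L716253) q20118, e3 q19386 (flp_c L716359) q20126, e3 q19387 L709603 q17883, e3 q19388 L709611 q17356, e3 q19389 L709619 q17357, e3 q19390 L709627 q17358, e3 q19391 (flp_c L728541) q21198, trivial⟩ (by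 decide +kernel)

theorem ce_c_303 : ∀ r, r < 64 → sm gc (Qf (19392 + r)) = Qf (tab Gen.c (19392 + r)) :=
  edges_tab (sm gc) Qf (tab Gen.c) 19392 [(19392, 21199), (19393, 20123), (19394, 17362), (19395, 17363), (19396, 17364), (19397, 21204), (19398, 21205), (19399, 20127), (19400, 17369), (19401, 17370), (19402, 17924), (19403, 21209), (19404, 21060), (19405, 17774), (19406, 17936), (19407, 19407), (19408, 17376), (19409, 21214), (19410, 19410), (19411, 17911), (19412, 17380), (19413, 17381), (19414, 21217), (19415, 19415), (19416, 20639), (19417, 19417), (19418, 19418), (19419, 17912), (19420, 17388), (19421, 18056), (19422, 19422), (19423, 19423), (19424, 18048), (19425, 19425), (19426, 21071), (19427, 18057), (19428, 18063), (19429, 17825), (19430, 17399), (19431, 17400), (19432, 21235), (19433, 21236), (19434, 17401), (19435, 21238), (19436, 21239), (19437, 17833), (19438, 17404), (19439, 17405), (19440, 21245), (19441, 21246), (19442, 17839), (19443, 17840), (19444, 21234), (19445, 17409), (19446, 17410), (19447, 17411),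 (19448, 21151), (19449, 21255), (19450, 21256), (19451, 17850), (19452, 17414), (19453, 17855), (19454, 17856), (19455, 17857)]
    ⟨e3 q19392 (flp_c L728551) q21199, e3 q19393 (flp_c L716318) q20123, e3 q19394 L709660 q17362, e3 q19395 L709671 q17363, e3 q19396 L709683 q17364, e3 q19397 (flp_c L728592) q21204, e3 q19398 (flp_c L728603) q21205, e3 q19399 (flp_c L716372) q20127, e3 q19400 L709725 q17369, e3 q19401 L709734 q17370, e3 q19402 L709746 q17924, e3 q19403 (flp_c L728649) q21209, e3 q19404 (flp_c L727043) q21060, e3 q19405 L709774 q17774, e3 q19406 L709781 q17936, e3 q19407 L709798 q19407, e3 q19408 L709803 q17376, e3 q19409 (flp_c L728701) q21214, e3 q19410 L709831 q19410, e3 q19411 L709845 q17911, e3 q19412 L709851 q17380, e3 q19413 L709864 q17381, e3 q19414 (flp_c L728738) q21217, e3 q19415 L709892 q19415, e3 q19416 (flp_c L722777) q20639, e3 q19417 L709908 q19417, e3 q19418 L709918 q19418, e3 q19419 L709928 q17912, e3 q19420 L709939 q17388, e3 q19421 L709954 q18056, e3 q19422 L709962 q19422, e3 q19423 L709971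 q19423, e3 q19424 L709985 q18048, e3 q19425 L709993 q19425, e3 q19426 (flp_c L727130) q21071, e3 q19427 L710009 q18057, e3 q19428 L710019 q18063, e3 q19429 L710035 q17825, e3 q19430 L710039 q17399, e3 q19431 L710049 q17400, e3 q19432 (flp_c L728920) q21235, e3 q19433 (flp_c L728930) q21236, e3 q19434 (flp_c L710078) q17401, e3 q19435 (flp_c L728952) q21238, e3 q19436 (flp_c L728960) q21239, e3 q19437 L710114 q17833, e3 q19438 L710118 q17404, e3 q19439 L710128 q17405, e3 q19440 (flp_c L729019) q21245, e3 q19441 (flp_c L729029) q21246, e3 q19442 L710161 q17839, e3 q19443 L710169 q17840, e3 q19444 (flp_c L728915) q21234, e3 q19445 L710179 q17409, e3 q19446 L710189 q17410, e3 q19447 L710195 q17411, e3 q19448 (flp_c L728056) q21151, e3 q19449 (flp_c L729110) q21255, e3 q19450 (flp_c L729120) q21256, e3 q19451 L710237 q17850, e3 q19452 L710247 q17414, e3 q19453 L710262 q17855, e3 q19454 L710278 q17856, e3 q19455 L710292 q17857, trivial⟩ (by decide +kernel)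

theorem ce_c_304 : ∀ r, r < 64 → sm gc (Qf (19456 + r)) = Qf (tab Gen.c (19456 + r)) :=
  edges_tab (sm gc) Qf (tab Gen.c) 19456 [(19456, 17421), (19457, 17422), (19458, 21046), (19459, 21152), (19460, 21266), (19461, 17865), (19462, 20219), (19463, 21158), (19464, 21161), (19465, 17431), (19466, 17432), (19467, 21269), (19468, 21270), (19469, 21271), (19470, 17877), (19471, 17878), (19472, 20130), (19473, 17436), (19474, 17437), (19475, 17438), (19476, 21280), (19477, 21281), (19478, 17886), (19479, 17887), (19480, 20845), (19481, 17889), (19482, 17890), (19483, 17891), (19484, 21123), (19485, 20205), (19486, 21124), (19487, 17446), (19488, 17447), (19489, 17448), (19490, 21156), (19491, 21300), (19492, 21301), (19493, 21302), (19494, 21308), (19495, 17903), (19496, 17904), (19497, 17905), (19498, 17906), (19499, 17907), (19500, 17455), (19501, 17456), (19502, 21160), (19503, 21315), (19504, 17914), (19505, 17915), (19506, 17916), (19507, 17917), (19508, 17918), (19509, 17919), (19510, 20233), (19511, 17466), (19512, 17467),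 (19513, 17468), (19514, 20792), (19515, 20966), (19516, 21323), (19517, 21324), (19518, 17928), (19519, 17929)]
    ⟨e3 q19456 L710300 q17421, e3 q19457 L710310 q17422, e3 q19458 (flp_c L726923) q21046, e3 q19459 (flp_c L728070) q21152, e3 q19460 (flp_c L729227) q21266, e3 q19461 L710355 q17865, e3 q19462 (flp_c L717630) q20219, e3 q19463 (flp_c L728132) q21158, e3 q19464 (flp_c L728169) q21161, e3 q19465 L710395 q17431, e3 q19466 L710401 q17432, e3 q19467 (flp_c L729260) q21269, e3 q19468 (flp_c L729265) q21270, e3 q19469 (flp_c L729273) q21271, e3 q19470 L710432 q17877, e3 q19471 L710440 q17878, e3 q19472 (flp_c L716414) q20130, e3 q19473 L710456 q17436, e3 q19474 L710466 q17437, e3 q19475 L710474 q17438, e3 q19476 (flp_c L729350) q21280, e3 q19477 (flp_c L729360) q21281, e3 q19478 L710504 q17886, e3 q19479 L710510 q17887, e3 q19480 (flp_c L724899) q20845, e3 q19481 L710526 q17889, e3 q19482 L710534 q17890, e3 q19483 L710542 q17891, e3 q19484 (flp_c L727746) q21123, e3 q19485 (flp_c L717429) q20205, e3 q19486 (flp_c L727761)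 q21124, e3 q19487 L710563 q17446, e3 q19488 L710569 q17447, e3 q19489 L710577 q17448, e3 q19490 (flp_c L728112) q21156, e3 q19491 (flp_c L729516) q21300, e3 q19492 (flp_c L729522) q21301, e3 q19493 (flp_c L729530) q21302, e3 q19494 L729564 q21308, e3 q19495 L710619 q17903, e3 q19496 L710631 q17904, e3 q19497 L710642 q17905, e3 q19498 L710653 q17906, e3 q19499 L710665 q17907, e3 q19500 L710672 q17455, e3 q19501 L710681 q17456, e3 q19502 (flp_c L728159) q21160, e3 q19503 (flp_c L729639) q21315, e3 q19504 L710713 q17914, e3 q19505 L710726 q17915, e3 q19506 L710737 q17916, e3 q19507 L710747 q17917, e3 q19508 L710758 q17918, e3 q19509 L710767 q17919, e3 q19510 (flp_c L717820) q20233, e3 q19511 L710783 q17466, e3 q19512 L710790 q17467, e3 q19513 L710799 q17468, e3 q19514 (flp_c L724326) q20792, e3 q19515 L726199 q20966, e3 q19516 (flp_c L729719) q21323, e3 q19517 (flp_c L729728) q21324, e3 q19518 L710838 q17928, e3 q19519 L710853 q17929, trivial⟩ (by decide +kernel)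

theorem ce_c_305 : ∀ r, r < 64 → sm gc (Qf (19520 + r)) = Qf (tab Gen.c (19520 + r)) :=
  edges_tab (sm gc) Qf (tab Gen.c) 19520 [(19520, 17930), (19521, 17931), (19522, 21057), (19523, 17480), (19524, 17481), (19525, 20201), (19526, 21331), (19527, 17484), (19528, 17504), (19529, 20111), (19530, 20131), (19531, 17489), (19532, 20365), (19533, 17506), (19534, 20565), (19535, 20846), (19536, 17507), (19537, 20239), (19538, 20206), (19539, 21142), (19540, 21333), (19541, 21165), (19542, 17509), (19543, 17998), (19544, 21168), (19545, 21169), (19546, 20441), (19547, 20440), (19548, 17513), (19549, 19549), (19550, 17529), (19551, 17517), (19552, 17521), (19553, 17542), (19554, 17551), (19555, 17524), (19556, 20022), (19557, 21348), (19558, 21350), (19559, 20018), (19560, 21351), (19561, 17534), (19562, 20377), (19563, 20393), (19564, 20442), (19565, 20403), (19566, 21102), (19567, 21359), (19568, 17544), (19569, 20011), (19570, 21353), (19571, 17550), (19572, 20401), (19573, 20024), (19574, 20399), (19575, 21354), (19576, 20689),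 (19577, 20709), (19578, 20710), (19579, 20686), (19580, 20687), (19581, 17560), (19582, 17561), (19583, 21369)]
    ⟨e3 q19520 L710867 q17930, e3 q19521 L710880 q17931, e3 q19522 (flp_c L727016) q21057, e3 q19523 L710897 q17480, e3 q19524 L710905 q17481, e3 q19525 (flp_c L717369) q20201, e3 q19526 (flp_c L729793) q21331, e3 q19527 L710924 q17484, e3 q19528 L710934 q17504, e3 q19529 L716165 q20111, e3 q19530 (flp_c L716430) q20131, e3 q19531 L710956 q17489, e3 q19532 (flp_c L719445) q20365, e3 q19533 L710975 q17506, e3 q19534 (flp_c L721961) q20565, e3 q19535 (flp_c L724913) q20846, e3 q19536 L710997 q17507, e3 q19537 (flp_c L717912) q20239, e3 q19538 (flp_c L717443) q20206, e3 q19539 (flp_c L727940) q21142, e3 q19540 (flp_c L729809) q21333, e3 q19541 (flp_c L728209) q21165, e3 q19542 L711028 q17509, e3 q19543 L711043 q17998, e3 q19544 (flp_c L728240) q21168, e3 q19545 (flp_c L728252) q21169, e3 q19546 (flp_c L720457) q20441, e3 q19547 (flp_c L720439) q20440, e3 q19548 L711092 q17513, e3 q19549 L711102 q19549, e3 q19550 L711116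 q17529, e3 q19551 L711120 q17517, e3 q19552 L711128 q17521, e3 q19553 L711138 q17542, e3 q19554 L711144 q17551, e3 q19555 L711154 q17524, e3 q19556 (flp_c L714844) q20022, e3 q19557 (flp_c L729898) q21348, e3 q19558 (flp_c L729917) q21350, e3 q19559 (flp_c L714768) q20018, e3 q19560 (flp_c L729929) q21351, e3 q19561 L711200 q17534, e3 q19562 (flp_c L719586) q20377, e3 q19563 (flp_c L719830) q20393, e3 q19564 (flp_c L720477) q20442, e3 q19565 (flp_c L719980) q20403, e3 q19566 (flp_c L727491) q21102, e3 q19567 (flp_c L729992) q21359, e3 q19568 L711244 q17544, e3 q19569 (flp_c L714652) q20011, e3 q19570 (flp_c L729939) q21353, e3 q19571 L711271 q17550, e3 q19572 (flp_c L719955) q20401, e3 q19573 (flp_c L714879) q20024, e3 q19574 (flp_c L719921) q20399, e3 q19575 (flp_c L729947) q21354, e3 q19576 (flp_c L723260) q20689, e3 q19577 (flp_c L723450) q20709, e3 q19578 (flp_c L723463) q20710, e3 q19579 (flp_c L723218) q20686, e3 q19580 (flp_c L723232) q20687, e3 q19581 L711375 q17560, e3 q19582 L711381 q17561, e3 q19583 (flp_c L730089)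 q21369, trivial⟩ (by decide +kernel)

theorem ce_c_306 : ∀ r, r < 64 → sm gc (Qf (19584 + r)) = Qf (tab Gen.c (19584 + r)) :=
  edges_tab (sm gc) Qf (tab Gen.c) 19584 [(19584, 21370), (19585, 20708), (19586, 17564), (19587, 17627), (19588, 19588), (19589, 17568), (19590, 19590), (19591, 17632), (19592, 20635), (19593, 17635), (19594, 17575), (19595, 17576), (19596, 21379), (19597, 21380), (19598, 17578), (19599, 20428), (19600, 17646), (19601, 20690), (19602, 20691), (19603, 17753), (19604, 17586), (19605, 17587), (19606, 17588), (19607, 21389), (19608, 21390), (19609, 17593), (19610, 17594), (19611, 17674), (19612, 21394), (19613, 20415), (19614, 17626), (19615, 20485), (19616, 20082), (19617, 17686), (19618, 17764), (19619, 17783), (19620, 17603), (19621, 17701), (19622, 17706), (19623, 17710), (19624, 17609), (19625, 17610), (19626, 21407), (19627, 21408), (19628, 17612), (19629, 20616), (19630, 20720), (19631, 20087), (19632, 20091), (19633, 20088), (19634, 20092), (19635, 17621), (19636, 17622), (19637, 21415), (19638,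 21372), (19639, 20587), (19640, 20620), (19641, 21373), (19642, 20101), (19643, 21375), (19644, 21377), (19645, 20061), (19646, 20062), (19647, 21277)]
    ⟨e3 q19584 (flp_c L730097) q21370, e3 q19585 (flp_c L723434) q20708, e3 q19586 L711423 q17564, e3 q19587 L711431 q17627, e3 q19588 L711439 q19588, e3 q19589 L711446 q17568, e3 q19590 L711457 q19590, e3 q19591 L711469 q17632, e3 q19592 (flp_c L722728) q20635, e3 q19593 L711484 q17635, e3 q19594 L711490 q17575, e3 q19595 L711496 q17576, e3 q19596 (flp_c L730170) q21379, e3 q19597 (flp_c L730176) q21380, e3 q19598 L711515 q17578, e3 q19599 (flp_c L720301) q20428, e3 q19600 L711531 q17646, e3 q19601 (flp_c L723272) q20690, e3 q19602 (flp_c L723284) q20691, e3 q19603 L711552 q17753, e3 q19604 L711558 q17586, e3 q19605 L711564 q17587, e3 q19606 L711570 q17588, e3 q19607 (flp_c L730242) q21389, e3 q19608 (flp_c L730250) q21390, e3 q19609 L711590 q17593, e3 q19610 L711597 q17594, e3 q19611 L711607 q17674, e3 q19612 (flp_c L730278) q21394, e3 q19613 (flp_c L720145) q20415, e3 q19614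 L711625 q17626, e3 q19615 (flp_c L721036) q20485, e3 q19616 (flp_c L715762) q20082, e3 q19617 L711640 q17686, e3 q19618 L711646 q17764, e3 q19619 L711654 q17783, e3 q19620 L711661 q17603, e3 q19621 L711672 q17701, e3 q19622 L711676 q17706, e3 q19623 L711684 q17710, e3 q19624 L711692 q17609, e3 q19625 L711700 q17610, e3 q19626 (flp_c L730358) q21407, e3 q19627 (flp_c L730366) q21408, e3 q19628 L711723 q17612, e3 q19629 (flp_c L722505) q20616, e3 q19630 (flp_c L723545) q20720, e3 q19631 (flp_c L715835) q20087, e3 q19632 (flp_c L715889) q20091, e3 q19633 (flp_c L715851) q20088, e3 q19634 (flp_c L715903) q20092, e3 q19635 L711780 q17621, e3 q19636 L711788 q17622, e3 q19637 (flp_c L730424) q21415, e3 q19638 (flp_c L730113) q21372, e3 q19639 (flp_c L722212) q20587, e3 q19640 (flp_c L722544) q20620, e3 q19641 (flp_c L730121) q21373, e3 q19642 (flp_c L716025) q20101, e3 q19643 (flp_c L730144) q21375, e3 q19644 (flp_c L730159) q21377, e3 q19645 (flp_c L715416) q20061, e3 q19646 (flp_c L715434) q20062, e3 q19647 (flp_c L729327) q21277,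 trivial⟩ (by decide +kernel)

theorem ce_c_307 : ∀ r, r < 64 → sm gc (Qf (19648 + r)) = Qf (tab Gen.c (19648 + r)) :=
  edges_tab (sm gc) Qf (tab Gen.c) 19648 [(19648, 17639), (19649, 17640), (19650, 21425), (19651, 20063), (19652, 21382), (19653, 20064), (19654, 21140), (19655, 21384), (19656, 17648), (19657, 17649), (19658, 20454), (19659, 21431), (19660, 21432), (19661, 20513), (19662, 20514), (19663, 17653), (19664, 17654), (19665, 21437), (19666, 20550), (19667, 20551), (19668, 20828), (19669, 21120), (19670, 21121), (19671, 21122), (19672, 17893), (19673, 17894), (19674, 17662), (19675, 17663), (19676, 17664), (19677, 21391), (19678, 20026), (19679, 21448), (19680, 21449), (19681, 21455), (19682, 21131), (19683, 20711), (19684, 20552), (19685, 21132), (19686, 21133), (19687, 21459), (19688, 17676), (19689, 17677), (19690, 20030), (19691, 21396), (19692, 20027), (19693, 21461), (19694, 20511), (19695, 20098), (19696, 20469), (19697, 20507), (19698, 17682), (19699, 20537), (19700, 17688), (19701, 20031), (19702, 21399),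 (19703, 17691), (19704, 17713), (19705, 20745), (19706, 17715), (19707, 20829), (19708, 17717), (19709, 21465), (19710, 17941), (19711, 17942)]
    ⟨e3 q19648 L711870 q17639, e3 q19649 L711876 q17640, e3 q19650 (flp_c L730488) q21425, e3 q19651 (flp_c L715450) q20063, e3 q19652 (flp_c L730194) q21382, e3 q19653 (flp_c L715468) q20064, e3 q19654 (flp_c L727921) q21140, e3 q19655 (flp_c L730206) q21384, e3 q19656 L711925 q17648, e3 q19657 L711931 q17649, e3 q19658 (flp_c L720609) q20454, e3 q19659 (flp_c L730530) q21431, e3 q19660 (flp_c L730538) q21432, e3 q19661 (flp_c L721343) q20513, e3 q19662 (flp_c L721359) q20514, e3 q19663 L711971 q17653, e3 q19664 L711979 q17654, e3 q19665 (flp_c L730572) q21437, e3 q19666 (flp_c L721778) q20550, e3 q19667 (flp_c L721792) q20551, e3 q19668 (flp_c L724729) q20828, e3 q19669 (flp_c L727706) q21120, e3 q19670 (flp_c L727720) q21121, e3 q19671 (flp_c L727732) q21122, e3 q19672 L712029 q17893, e3 q19673 L712035 q17894, e3 q19674 L712043 q17662, e3 q19675 L712049 q17663, e3 q19676 L712057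 q17664, e3 q19677 (flp_c L730258) q21391, e3 q19678 (flp_c L714902) q20026, e3 q19679 (flp_c L730648) q21448, e3 q19680 (flp_c L730656) q21449, e3 q19681 L730688 q21455, e3 q19682 (flp_c L727831) q21131, e3 q19683 (flp_c L723481) q20711, e3 q19684 (flp_c L721806) q20552, e3 q19685 (flp_c L727845) q21132, e3 q19686 (flp_c L727856) q21133, e3 q19687 L730714 q21459, e3 q19688 L712135 q17676, e3 q19689 L712145 q17677, e3 q19690 (flp_c L714964) q20030, e3 q19691 (flp_c L730289) q21396, e3 q19692 (flp_c L714918) q20027, e3 q19693 (flp_c L730730) q21461, e3 q19694 (flp_c L721324) q20511, e3 q19695 (flp_c L715985) q20098, e3 q19696 (flp_c L720816) q20469, e3 q19697 (flp_c L721276) q20507, e3 q19698 (flp_c L712201) q17682, e3 q19699 L721605 q20537, e3 q19700 L712213 q17688, e3 q19701 (flp_c L714980) q20031, e3 q19702 (flp_c L730307) q21399, e3 q19703 L712229 q17691, e3 q19704 L712240 q17713, e3 q19705 (flp_c L723801) q20745, e3 q19706 L712258 q17715, e3 q19707 (flp_c L724743) q20829, e3 q19708 L712275 q17717, e3 q19709 (flp_c L730759)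 q21465, e3 q19710 L712291 q17941, e3 q19711 L712298 q17942, trivial⟩ (by decide +kernel)

theorem ce_c_308 : ∀ r, r < 64 → sm gc (Qf (19712 + r)) = Qf (tab Gen.c (19712 + r)) :=
  edges_tab (sm gc) Qf (tab Gen.c) 19712 [(19712, 21334), (19713, 21403), (19714, 20547), (19715, 20104), (19716, 17705), (19717, 20542), (19718, 21404), (19719, 21405), (19720, 20539), (19721, 20822), (19722, 20782), (19723, 20783), (19724, 20785), (19725, 20786), (19726, 20788), (19727, 20800), (19728, 20811), (19729, 20764), (19730, 20765), (19731, 20766), (19732, 20767), (19733, 20768), (19734, 20769), (19735, 20770), (19736, 20771), (19737, 17743), (19738, 17744), (19739, 21489), (19740, 21490), (19741, 21491), (19742, 20301), (19743, 20360), (19744, 20688), (19745, 17748), (19746, 17749), (19747, 17750), (19748, 21387), (19749, 21500), (19750, 21501), (19751, 20988), (19752, 17804), (19753, 21153), (19754, 21154), (19755, 21386), (19756, 21388), (19757, 17757), (19758, 17758), (19759, 21511), (19760, 21514), (19761, 17798), (19762, 17811), (19763,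 21159), (19764, 17765), (19765, 17766), (19766, 21400), (19767, 21517), (19768, 17805), (19769, 17814), (19770, 17772), (19771, 21210), (19772, 20282), (19773, 20743), (19774, 21074), (19775, 21401)]
    ⟨e3 q19712 (flp_c L729820) q21334, e3 q19713 (flp_c L730330) q21403, e3 q19714 (flp_c L721737) q20547, e3 q19715 (flp_c L716069) q20104, e3 q19716 (flp_c L712324) q17705, e3 q19717 (flp_c L721669) q20542, e3 q19718 (flp_c L730335) q21404, e3 q19719 (flp_c L730341) q21405, e3 q19720 (flp_c L721627) q20539, e3 q19721 (flp_c L724667) q20822, e3 q19722 (flp_c L724205) q20782, e3 q19723 (flp_c L724217) q20783, e3 q19724 (flp_c L724242) q20785, e3 q19725 (flp_c L724252) q20786, e3 q19726 (flp_c L724276) q20788, e3 q19727 (flp_c L724422) q20800, e3 q19728 (flp_c L724548) q20811, e3 q19729 (flp_c L724016) q20764, e3 q19730 (flp_c L724028) q20765, e3 q19731 (flp_c L724041) q20766, e3 q19732 (flp_c L724051) q20767, e3 q19733 (flp_c L724065) q20768, e3 q19734 (flp_c L724075) q20769, e3 q19735 (flp_c L724087) q20770, e3 q19736 (flp_c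 L724100) q20771, e3 q19737 L712489 q17743, e3 q19738 L712495 q17744, e3 q19739 (flp_c L730919) q21489, e3 q19740 (flp_c L730924) q21490, e3 q19741 (flp_c L730932) q21491, e3 q19742 (flp_c L718663) q20301, e3 q19743 (flp_c L719375) q20360, e3 q19744 (flp_c L723250) q20688, e3 q19745 L712542 q17748, e3 q19746 L712550 q17749, e3 q19747 L712558 q17750, e3 q19748 (flp_c L730226) q21387, e3 q19749 (flp_c L731000) q21500, e3 q19750 (flp_c L731010) q21501, e3 q19751 (flp_c L726428) q20988, e3 q19752 L712604 q17804, e3 q19753 (flp_c L728082) q21153, e3 q19754 (flp_c L728092) q21154, e3 q19755 (flp_c L730219) q21386, e3 q19756 (flp_c L730234) q21388, e3 q19757 L712633 q17757, e3 q19758 L712641 q17758, e3 q19759 (flp_c L731092) q21511, e3 q19760 L731106 q21514, e3 q19761 L712661 q17798, e3 q19762 L712670 q17811, e3 q19763 (flp_c L728145) q21159, e3 q19764 L712687 q17765, e3 q19765 L712696 q17766, e3 q19766 (flp_c L730313) q21400, e3 q19767 (flp_c L731134) q21517, e3 q19768 L712724 q17805, e3 q19769 L712733 q17814, e3 q19770 L712741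 q17772, e3 q19771 (flp_c L728659) q21210, e3 q19772 (flp_c L718422) q20282, e3 q19773 (flp_c L723767) q20743, e3 q19774 (flp_c L727176) q21074, e3 q19775 (flp_c L730321) q21401, trivial⟩ (by decide +kernel)

theorem ce_c_309 : ∀ r, r < 64 → sm gc (Qf (19776 + r)) = Qf (tab Gen.c (19776 + r)) :=
  edges_tab (sm gc) Qf (tab Gen.c) 19776 [(19776, 17788), (19777, 17789), (19778, 21525), (19779, 21526), (19780, 21077), (19781, 20998), (19782, 21020), (19783, 17796), (19784, 17797), (19785, 21295), (19786, 21530), (19787, 21531), (19788, 21495), (19789, 21515), (19790, 17801), (19791, 17802), (19792, 21536), (19793, 20266), (19794, 20279), (19795, 20989), (19796, 21507), (19797, 21520), (19798, 20257), (19799, 20297), (19800, 17809), (19801, 21545), (19802, 20284), (19803, 21516), (19804, 20285), (19805, 21026), (19806, 20272), (19807, 20320), (19808, 21231), (19809, 21232), (19810, 21233), (19811, 17841), (19812, 17828), (19813, 17829), (19814, 21556), (19815, 17831), (19816, 17832), (19817, 21559), (19818, 21560), (19819, 21561),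 (19820, 21242), (19821, 21243), (19822, 21252), (19823, 17836), (19824, 17837), (19825, 21567), (19826, 21007), (19827, 21039), (19828, 21571), (19829, 21249), (19830, 21250), (19831, 21251), (19832, 21244), (19833, 21554), (19834, 21555), (19835, 17845), (19836, 17846), (19837, 17847), (19838, 21581), (19839, 21582)]
    ⟨e3 q19776 L712781 q17788, e3 q19777 L712787 q17789, e3 q19778 (flp_c L731195) q21525, e3 q19779 (flp_c L731203) q21526, e3 q19780 (flp_c L727200) q21077, e3 q19781 (flp_c L726523) q20998, e3 q19782 (flp_c L726691) q21020, e3 q19783 L712837 q17796, e3 q19784 L712845 q17797, e3 q19785 (flp_c L729487) q21295, e3 q19786 (flp_c L731233) q21530, e3 q19787 (flp_c L731243) q21531, e3 q19788 (flp_c L730961) q21495, e3 q19789 (flp_c L731114) q21515, e3 q19790 L712892 q17801, e3 q19791 L712902 q17802, e3 q19792 (flp_c L731283) q21536, e3 q19793 (flp_c L718214) q20266, e3 q19794 (flp_c L718387) q20279, e3 q19795 (flp_c L726438) q20989, e3 q19796 (flp_c L731067) q21507, e3 q19797 (flp_c L731159) q21520, e3 q19798 (flp_c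 L718116) q20257, e3 q19799 (flp_c L718607) q20297, e3 q19800 L712968 q17809, e3 q19801 L731341 q21545, e3 q19802 (flp_c L718447) q20284, e3 q19803 (flp_c L731125) q21516, e3 q19804 (flp_c L718461) q20285, e3 q19805 (flp_c L726738) q21026, e3 q19806 (flp_c L718289) q20272, e3 q19807 (flp_c L718882) q20320, e3 q19808 (flp_c L728875) q21231, e3 q19809 (flp_c L728890) q21232, e3 q19810 (flp_c L728902) q21233, e3 q19811 L713048 q17841, e3 q19812 L713054 q17828, e3 q19813 L713060 q17829, e3 q19814 (flp_c L731424) q21556, e3 q19815 L713070 q17831, e3 q19816 L713078 q17832, e3 q19817 (flp_c L731440) q21559, e3 q19818 (flp_c L731447) q21560, e3 q19819 (flp_c L731455) q21561, e3 q19820 (flp_c L728989) q21242, e3 q19821 (flp_c L729001) q21243, e3 q19822 (flp_c L729090) q21252, e3 q19823 L713129 q17836, e3 q19824 L713137 q17837, e3 q19825 (flp_c L731505) q21567, e3 q19826 (flp_c L726590) q21007, e3 q19827 (flp_c L726866) q21039, e3 q19828 L731533 q21571, e3 q19829 (flp_c L729060) q21249, e3 q19830 (flp_c L729074) q21250, e3 q19831 (flp_c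 L729082) q21251, e3 q19832 (flp_c L729014) q21244, e3 q19833 (flp_c L731410) q21554, e3 q19834 (flp_c L731416) q21555, e3 q19835 L713214 q17845, e3 q19836 L713222 q17846, e3 q19837 L713230 q17847, e3 q19838 (flp_c L731599) q21581, e3 q19839 (flp_c L731607) q21582, trivial⟩ (by decide +kernel)

theorem ce_c_310 : ∀ r, r < 64 → sm gc (Qf (19840 + r)) = Qf (tab Gen.c (19840 + r)) :=
  edges_tab (sm gc) Qf (tab Gen.c) 19840 [(19840, 21583), (19841, 21588), (19842, 21053), (19843, 18070), (19844, 21261), (19845, 17853), (19846, 21054), (19847, 21263), (19848, 21264), (19849, 17861), (19850, 17862), (19851, 17863), (19852, 21178), (19853, 21594), (19854, 21595), (19855, 21598), (19856, 17870), (19857, 17871), (19858, 20218), (19859, 21599), (19860, 17874), (19861, 17875), (19862, 17876), (19863, 21196), (19864, 21601), (19865, 21602), (19866, 21274), (19867, 21275), (19868, 21276), (19869, 20227), (19870, 17884), (19871, 17885), (19872, 20856), (19873, 21187), (19874, 21197), (19875, 21609), (19876, 21615), (19877, 21285), (19878,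 21286), (19879, 21287), (19880, 20854), (19881, 20855), (19882, 21291), (19883, 21292), (19884, 21293), (19885, 20232), (19886, 20220), (19887, 20207), (19888, 20222), (19889, 21446), (19890, 21447), (19891, 17899), (19892, 17900), (19893, 17901), (19894, 21632), (19895, 20858), (19896, 21629), (19897, 21630), (19898, 21637), (19899, 17902), (19900, 21309), (19901, 21310), (19902, 21311), (19903, 21312)]
    ⟨e3 q19840 (flp_c L731615) q21583, e3 q19841 L731647 q21588, e3 q19842 (flp_c L726978) q21053, e3 q19843 L713273 q18070, e3 q19844 (flp_c L729167) q21261, e3 q19845 L713294 q17853, e3 q19846 (flp_c L726992) q21054, e3 q19847 (flp_c L729190) q21263, e3 q19848 (flp_c L729206) q21264, e3 q19849 L713330 q17861, e3 q19850 L713339 q17862, e3 q19851 L713348 q17863, e3 q19852 (flp_c L728347) q21178, e3 q19853 (flp_c L731702) q21594, e3 q19854 (flp_c L731711) q21595, e3 q19855 L731734 q21598, e3 q19856 L713387 q17870, e3 q19857 L713395 q17871, e3 q19858 (flp_c L717614) q20218, e3 q19859 (flp_c L731744) q21599, e3 q19860 L713418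 q17874, e3 q19861 L713423 q17875, e3 q19862 L713431 q17876, e3 q19863 (flp_c L728518) q21196, e3 q19864 (flp_c L731760) q21601, e3 q19865 (flp_c L731767) q21602, e3 q19866 (flp_c L729297) q21274, e3 q19867 (flp_c L729309) q21275, e3 q19868 (flp_c L729319) q21276, e3 q19869 (flp_c L717738) q20227, e3 q19870 L713494 q17884, e3 q19871 L713504 q17885, e3 q19872 (flp_c L725034) q20856, e3 q19873 (flp_c L728432) q21187, e3 q19874 (flp_c L728529) q21197, e3 q19875 (flp_c L731819) q21609, e3 q19876 L731859 q21615, e3 q19877 (flp_c L729398) q21285, e3 q19878 (flp_c L729410) q21286, e3 q19879 (flp_c L729418) q21287, e3 q19880 (flp_c L725012) q20854, e3 q19881 (flp_c L725024) q20855, e3 q19882 (flp_c L729449) q21291, e3 q19883 (flp_c L729461) q21292, e3 q19884 (flp_c L729471) q21293, e3 q19885 (flp_c L717806) q20232, e3 q19886 (flp_c L717639) q20220, e3 q19887 (flp_c L717454) q20207, e3 q19888 (flp_c L717664) q20222, e3 q19889 (flp_c L730636) q21446, e3 q19890 (flp_c L730642) q21447, e3 q19891 L713642 q17899, e3 q19892 L713648 q17900,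 e3 q19893 L713656 q17901, e3 q19894 L731973 q21632, e3 q19895 (flp_c L725058) q20858, e3 q19896 (flp_c L731955) q21629, e3 q19897 (flp_c L731963) q21630, e3 q19898 L731997 q21637, e3 q19899 (flp_c L713684) q17902, e3 q19900 (flp_c L729572) q21309, e3 q19901 (flp_c L729585) q21310, e3 q19902 (flp_c L729597) q21311, e3 q19903 (flp_c L729606) q21312, trivial⟩ (by decide +kernel)

theorem ce_c_311 : ∀ r, r < 64 → sm gc (Qf (19904 + r)) = Qf (tab Gen.c (19904 + r)) :=
  edges_tab (sm gc) Qf (tab Gen.c) 19904 [(19904, 21313), (19905, 17913), (19906, 21206), (19907, 20861), (19908, 21216), (19909, 21223), (19910, 21318), (19911, 21319), (19912, 21320), (19913, 21321), (19914, 21650), (19915, 17926), (19916, 17927), (19917, 21200), (19918, 21211), (19919, 20862), (19920, 21651), (19921, 21329), (19922, 21330), (19923, 21212), (19924, 17932), (19925, 17937), (19926, 20229), (19927, 21472), (19928, 20857), (19929, 20860), (19930, 17948), (19931, 19931), (19932, 19932), (19933, 17964), (19934, 17953), (19935, 17954), (19936, 21663),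 (19937, 19937), (19938, 20959), (19939, 19939), (19940, 19940), (19941, 17969), (19942, 17970), (19943, 17961), (19944, 20821), (19945, 21662), (19946, 17967), (19947, 21673), (19948, 21668), (19949, 21669), (19950, 20859), (19951, 19951), (19952, 20832), (19953, 21167), (19954, 18066), (19955, 21314), (19956, 20549), (19957, 19957), (19958, 18006), (19959, 20008), (19960, 18008), (19961, 20007), (19962, 20006), (19963, 19963), (19964, 19964), (19965, 19965), (19966, 21027), (19967, 20273)]
    ⟨e3 q19904 (flp_c L729617) q21313, e3 q19905 L713735 q17913, e3 q19906 (flp_c L728619) q21206, e3 q19907 (flp_c L725091) q20861, e3 q19908 (flp_c L728725) q21216, e3 q19909 (flp_c L728804) q21223, e3 q19910 (flp_c L729668) q21318, e3 q19911 (flp_c L729681) q21319, e3 q19912 (flp_c L729695) q21320, e3 q19913 (flp_c L729706) q21321, e3 q19914 L732097 q21650, e3 q19915 L713813 q17926, e3 q19916 L713823 q17927, e3 q19917 (flp_c L728561) q21200, e3 q19918 (flp_c L728666) q21211, e3 q19919 (flp_c L725104) q20862, e3 q19920 (flp_c L732107)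 q21651, e3 q19921 (flp_c L729769) q21329, e3 q19922 (flp_c L729783) q21330, e3 q19923 (flp_c L728676) q21212, e3 q19924 (flp_c L713879) q17932, e3 q19925 L713888 q17937, e3 q19926 (flp_c L717766) q20229, e3 q19927 (flp_c L730802) q21472, e3 q19928 (flp_c L725048) q20857, e3 q19929 (flp_c L725080) q20860, e3 q19930 L713925 q17948, e3 q19931 L713936 q19931, e3 q19932 L713949 q19932, e3 q19933 L713961 q17964, e3 q19934 L713965 q17953, e3 q19935 L713974 q17954, e3 q19936 (flp_c L732212) q21663, e3 q19937 L713996 q19937, e3 q19938 (flp_c L726117) q20959, e3 q19939 L714010 q19939, e3 q19940 L714018 q19940, e3 q19941 L714024 q17969, e3 q19942 L714030 q17970, e3 q19943 L714037 q17961, e3 q19944 (flp_c L724659) q20821, e3 q19945 (flp_c L732203) q21662, e3 q19946 (flp_c L714055) q17967, e3 q19947 (flp_c L732280) q21673, e3 q19948 (flp_c L732257) q21668, e3 q19949 (flp_c L732263) q21669, e3 q19950 (flp_c L725070) q20859, e3 q19951 L714085 q19951, e3 q19952 (flp_c L724777) q20832, e3 q19953 (flp_c L728234) q21167, e3 q19954 L714100 q18066,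 e3 q19955 (flp_c L729633) q21314, e3 q19956 (flp_c L721761) q20549, e3 q19957 L714117 q19957, e3 q19958 (flp_c L714121) q18006, e3 q19959 (flp_c L714607) q20008, e3 q19960 L714145 q18008, e3 q19961 (flp_c L714583) q20007, e3 q19962 (flp_c L714566) q20006, e3 q19963 L714182 q19963, e3 q19964 L714193 q19964, e3 q19965 L714204 q19965, e3 q19966 (flp_c L726749) q21027, e3 q19967 (flp_c L718302) q20273, trivial⟩ (by decide +kernel)

theorem ce_c_312 : ∀ r, r < 64 → sm gc (Qf (19968 + r)) = Qf (tab Gen.c (19968 + r)) :=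
  edges_tab (sm gc) Qf (tab Gen.c) 19968 [(19968, 19968), (19969, 19969), (19970, 19970), (19971, 19971), (19972, 21228), (19973, 20106), (19974, 20221), (19975, 20208), (19976, 20223), (19977, 20214), (19978, 21657), (19979, 18042), (19980, 21688), (19981, 18040), (19982, 21691), (19983, 19983), (19984, 18043), (19985, 19985), (19986, 21218), (19987, 19987), (19988, 19988), (19989, 21695), (19990, 18053), (19991, 20242), (19992, 21225), (19993, 21230), (19994, 19994), (19995, 21229), (19996, 18069), (19997, 21590), (19998, 20812), (19999, 20773), (20000, 21701), (20001, 18363), (20002, 18452), (20003, 18453), (20004, 18456), (20005, 19326), (20006, 19962), (20007, 19961), (20008, 19959), (20009, 18106), (20010, 18586), (20011, 19569), (20012, 18572), (20013, 19266), (20014, 18114), (20015, 18115), (20016, 21705), (20017, 21707), (20018, 19559), (20019, 19263), (20020, 19265), (20021, 18547), (20022, 19556), (20023, 21711), (20024, 19573), (20025, 18132), (20026, 19678), (20027, 19692), (20028, 18859), (20029, 18870), (20030,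 19690), (20031, 19701)]
    ⟨e3 q19968 L714224 q19968, e3 q19969 L714235 q19969, e3 q19970 L714246 q19970, e3 q19971 L714256 q19971, e3 q19972 (flp_c L728848) q21228, e3 q19973 L716099 q20106, e3 q19974 (flp_c L717651) q20221, e3 q19975 (flp_c L717466) q20208, e3 q19976 (flp_c L717678) q20223, e3 q19977 (flp_c L717545) q20214, e3 q19978 (flp_c L732153) q21657, e3 q19979 L714310 q18042, e3 q19980 L732386 q21688, e3 q19981 (flp_c L714323) q18040, e3 q19982 (flp_c L732412) q21691, e3 q19983 L714345 q19983, e3 q19984 (flp_c L714353) q18043, e3 q19985 L714373 q19985, e3 q19986 (flp_c L728757) q21218, e3 q19987 L714385 q19987, e3 q19988 L714393 q19988, e3 q19989 L732442 q21695, e3 q19990 (flp_c L714406) q18053, e3 q19991 (flp_c L717954) q20242, e3 q19992 (flp_c L728821) q21225, e3 q19993 (flp_c L728869) q21230, e3 q19994 L714435 q19994, e3 q19995 (flp_c L728859) q21229, e3 q19996 L714453 q18069, e3 q19997 (flp_c L731666) q21590, e3 q19998 (flp_c L724559) q20812, e3 q19999 (flp_c L724126) q20773, e3 q20000 L732477 q21701, e3 q20001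 L714484 q18363, e3 q20002 L714501 q18452, e3 q20003 L714518 q18453, e3 q20004 L714534 q18456, e3 q20005 L714549 q19326, e3 q20006 L714566 q19962, e3 q20007 L714583 q19961, e3 q20008 L714607 q19959, e3 q20009 (flp_c L714612) q18106, e3 q20010 L714635 q18586, e3 q20011 L714652 q19569, e3 q20012 L714670 q18572, e3 q20013 L714688 q19266, e3 q20014 L714706 q18114, e3 q20015 L714723 q18115, e3 q20016 (flp_c L732544) q21705, e3 q20017 L732574 q21707, e3 q20018 L714768 q19559, e3 q20019 L714788 q19263, e3 q20020 L714808 q19265, e3 q20021 L714826 q18547, e3 q20022 L714844 q19556, e3 q20023 L732647 q21711, e3 q20024 L714879 q19573, e3 q20025 (flp_c L714883) q18132, e3 q20026 L714902 q19678, e3 q20027 L714918 q19692, e3 q20028 L714934 q18859, e3 q20029 L714949 q18870, e3 q20030 L714964 q19690, e3 q20031 L714980 q19701, trivial⟩ (by decide +kernel)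

theorem ce_c_313 : ∀ r, r < 64 → sm gc (Qf (20032 + r)) = Qf (tab Gen.c (20032 + r)) :=
  edges_tab (sm gc) Qf (tab Gen.c) 20032 [(20032, 19292), (20033, 19293), (20034, 18144), (20035, 18145), (20036, 21722), (20037, 21723), (20038, 21724), (20039, 18820), (20040, 18826), (20041, 19315), (20042, 18215), (20043, 18608), (20044, 18675), (20045, 18151), (20046, 18152), (20047, 18153), (20048, 21733), (20049, 21734), (20050, 18680), (20051, 18681), (20052, 18682), (20053, 18159), (20054, 21739), (20055, 20055), (20056, 20056), (20057, 21741), (20058, 18164), (20059, 18170), (20060, 18171), (20061, 19645), (20062, 19646), (20063, 19651), (20064, 19653), (20065, 18705), (20066, 19288), (20067, 19289), (20068, 19290), (20069, 19291), (20070, 18865), (20071, 19273), (20072, 19274), (20073, 19283), (20074, 19284), (20075, 19285), (20076, 19275), (20077, 18606), (20078, 19286), (20079, 19287), (20080, 18610), (20081, 18611), (20082, 19616), (20083, 19277), (20084, 19278), (20085, 18204), (20086, 18205), (20087, 19631), (20088, 19633),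 (20089, 21757), (20090, 18747), (20091, 19632), (20092, 19634), (20093, 21765), (20094, 18216), (20095, 18217)]
    ⟨e3 q20032 L714994 q19292, e3 q20033 L715010 q19293, e3 q20034 L715026 q18144, e3 q20035 L715042 q18145, e3 q20036 (flp_c L732836) q21722, e3 q20037 (flp_c L732854) q21723, e3 q20038 (flp_c L732870) q21724, e3 q20039 L715094 q18820, e3 q20040 L715110 q18826, e3 q20041 L715126 q19315, e3 q20042 L715138 q18215, e3 q20043 L715160 q18608, e3 q20044 L715173 q18675, e3 q20045 L715187 q18151, e3 q20046 L715200 q18152, e3 q20047 L715213 q18153, e3 q20048 (flp_c L733010) q21733, e3 q20049 (flp_c L733023) q21734, e3 q20050 L715251 q18680, e3 q20051 L715267 q18681, e3 q20052 L715280 q18682, e3 q20053 L715294 q18159, e3 q20054 L733095 q21739, e3 q20055 L715322 q20055, e3 q20056 L715339 q20056, e3 q20057 L733124 q21741, e3 q20058 (flp_c L715362) q18164, e3 q20059 L715380 q18170, e3 q20060 L715397 q18171, e3 q20061 L715416 q19645, e3 q20062 L715434 q19646, e3 q20063 L715450 q19651, e3 q20064 L715468 q19653, e3 q20065 L715493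 q18705, e3 q20066 L715501 q19288, e3 q20067 L715517 q19289, e3 q20068 L715535 q19290, e3 q20069 L715553 q19291, e3 q20070 L715577 q18865, e3 q20071 L715589 q19273, e3 q20072 L715607 q19274, e3 q20073 L715623 q19283, e3 q20074 L715641 q19284, e3 q20075 L715655 q19285, e3 q20076 L715669 q19275, e3 q20077 L715687 q18606, e3 q20078 L715702 q19286, e3 q20079 L715715 q19287, e3 q20080 L715731 q18610, e3 q20081 L715744 q18611, e3 q20082 L715762 q19616, e3 q20083 L715771 q19277, e3 q20084 L715787 q19278, e3 q20085 L715799 q18204, e3 q20086 L715817 q18205, e3 q20087 L715835 q19631, e3 q20088 L715851 q19633, e3 q20089 (flp_c L733393) q21757, e3 q20090 L715875 q18747, e3 q20091 L715889 q19632, e3 q20092 L715903 q19634, e3 q20093 L733501 q21765, e3 q20094 L715927 q18216, e3 q20095 L715943 q18217, trivial⟩ (by decide +kernel)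

theorem ce_c_314 : ∀ r, r < 64 → sm gc (Qf (20096 + r)) = Qf (tab Gen.c (20096 + r)) :=
  edges_tab (sm gc) Qf (tab Gen.c) 20096 [(20096, 21729), (20097, 21766), (20098, 19695), (20099, 18218), (20100, 18707), (20101, 19642), (20102, 21771), (20103, 18222), (20104, 19715), (20105, 18882), (20106, 19973), (20107, 20107), (20108, 18228), (20109, 21777), (20110, 21778), (20111, 19529), (20112, 20112), (20113, 18231), (20114, 21784), (20115, 21785), (20116, 18234), (20117, 18235), (20118, 19385), (20119, 21790), (20120, 21791), (20121, 18238), (20122, 19379), (20123, 19393), (20124, 21794), (20125, 18242), (20126, 19386), (20127, 19399), (20128, 18396), (20129, 21802), (20130, 19472), (20131, 19530), (20132, 18248), (20133, 18249), (20134, 21805), (20135, 21806), (20136, 21807), (20137, 18959), (20138, 18960), (20139, 18401), (20140, 18253), (20141, 18254), (20142, 18255), (20143, 21817), (20144, 21818), (20145, 18258), (20146, 18259), (20147, 18260), (20148, 21776), (20149, 21822), (20150, 21823), (20151, 18971), (20152, 18265),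 (20153, 18266), (20154, 18432), (20155, 21829), (20156, 21833), (20157, 18929), (20158, 21834), (20159, 18443)]
    ⟨e3 q20096 (flp_c L732946) q21729, e3 q20097 (flp_c L733521) q21766, e3 q20098 L715985 q19695, e3 q20099 (flp_c L715989) q18218, e3 q20100 L716007 q18707, e3 q20101 L716025 q19642, e3 q20102 L733594 q21771, e3 q20103 (flp_c L716047) q18222, e3 q20104 L716069 q19715, e3 q20105 L716084 q18882, e3 q20106 (flp_c L716099) q19973, e3 q20107 L716107 q20107, e3 q20108 (flp_c L716117) q18228, e3 q20109 (flp_c L733682) q21777, e3 q20110 (flp_c L733694) q21778, e3 q20111 (flp_c L716165) q19529, e3 q20112 L716173 q20112, e3 q20113 (flp_c L716183) q18231, e3 q20114 (flp_c L733779) q21784, e3 q20115 (flp_c L733795) q21785, e3 q20116 L716226 q18234, e3 q20117 L716240 q18235, e3 q20118 L716253 q19385, e3 q20119 (flp_c L733859) q21790, e3 q20120 (flp_c L733873) q21791, e3 q20121 L716291 q18238, e3 q20122 L716305 q19379, e3 q20123 L716318 q19393, e3 q20124 (flp_c L733913) q21794, e3 q20125 L716345 q18242, e3 q20126 L716359 q19386,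 e3 q20127 L716372 q19399, e3 q20128 L716391 q18396, e3 q20129 L734020 q21802, e3 q20130 L716414 q19472, e3 q20131 L716430 q19530, e3 q20132 L716445 q18248, e3 q20133 L716459 q18249, e3 q20134 (flp_c L734075) q21805, e3 q20135 (flp_c L734091) q21806, e3 q20136 (flp_c L734107) q21807, e3 q20137 L716507 q18959, e3 q20138 L716523 q18960, e3 q20139 L716541 q18401, e3 q20140 L716551 q18253, e3 q20141 L716563 q18254, e3 q20142 L716573 q18255, e3 q20143 (flp_c L734246) q21817, e3 q20144 (flp_c L734258) q21818, e3 q20145 L716607 q18258, e3 q20146 L716620 q18259, e3 q20147 L716634 q18260, e3 q20148 (flp_c L733676) q21776, e3 q20149 (flp_c L734304) q21822, e3 q20150 (flp_c L734317) q21823, e3 q20151 L716679 q18971, e3 q20152 L716695 q18265, e3 q20153 L716708 q18266, e3 q20154 L716722 q18432, e3 q20155 (flp_c L734399) q21829, e3 q20156 L734442 q21833, e3 q20157 L716759 q18929, e3 q20158 L734452 q21834, e3 q20159 L716783 q18443, trivial⟩ (by decide +kernel)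

theorem ce_c_315 : ∀ r, r < 64 → sm gc (Qf (20160 + r)) = Qf (tab Gen.c (20160 + r)) :=
  edges_tab (sm gc) Qf (tab Gen.c) 20160 [(20160, 18270), (20161, 20161), (20162, 20162), (20163, 21839), (20164, 21840), (20165, 18275), (20166, 18479), (20167, 18278), (20168, 19127), (20169, 18292), (20170, 18293), (20171, 18371), (20172, 18402), (20173, 18284), (20174, 18471), (20175, 18474), (20176, 18932), (20177, 18477), (20178, 21846), (20179, 18931), (20180, 18974), (20181, 19233), (20182, 18965), (20183, 18975), (20184, 18978), (20185, 18979), (20186, 21859), (20187, 20187), (20188, 18307), (20189, 21862), (20190, 21863), (20191, 18310), (20192, 18311), (20193, 18995), (20194, 21867), (20195, 21868), (20196, 18313), (20197, 21871), (20198, 18317), (20199, 18996), (20200, 18998), (20201, 19525), (20202, 19350), (20203, 19361), (20204, 19358), (20205, 19485), (20206, 19538), (20207, 19887), (20208, 19975), (20209, 18328), (20210, 18329), (20211, 19038), (20212, 21882), (20213, 21883), (20214, 19977), (20215, 18334), (20216, 19039),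 (20217, 19052), (20218, 19858), (20219, 19462), (20220, 19886), (20221, 19974), (20222, 19888), (20223, 19976)]
    ⟨e3 q20160 (flp_c L716788) q18270, e3 q20161 L716805 q20161, e3 q20162 L716819 q20162, e3 q20163 L734527 q21839, e3 q20164 L734540 q21840, e3 q20165 (flp_c L716850) q18275, e3 q20166 L716871 q18479, e3 q20167 L716879 q18278, e3 q20168 L716901 q19127, e3 q20169 L716909 q18292, e3 q20170 L716924 q18293, e3 q20171 L716937 q18371, e3 q20172 L716949 q18402, e3 q20173 L716962 q18284, e3 q20174 L716981 q18471, e3 q20175 L716993 q18474, e3 q20176 L717006 q18932, e3 q20177 L717016 q18477, e3 q20178 (flp_c L734625) q21846, e3 q20179 (flp_c L717055) q18931, e3 q20180 L717069 q18974, e3 q20181 L717079 q19233, e3 q20182 L717097 q18965, e3 q20183 L717113 q18975, e3 q20184 L717127 q18978, e3 q20185 L717142 q18979, e3 q20186 L734800 q21859, e3 q20187 L717171 q20187, e3 q20188 (flp_c L717181) q18307, e3 q20189 (flp_c L734847) q21862, e3 q20190 (flp_c L734863) q21863, e3 q20191 L717224 q18310, e3 q20192 L717238 q18311, e3 q20193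 L717251 q18995, e3 q20194 (flp_c L734919) q21867, e3 q20195 (flp_c L734933) q21868, e3 q20196 L717291 q18313, e3 q20197 (flp_c L734975) q21871, e3 q20198 L717318 q18317, e3 q20199 L717332 q18996, e3 q20200 L717348 q18998, e3 q20201 L717369 q19525, e3 q20202 L717385 q19350, e3 q20203 L717397 q19361, e3 q20204 L717419 q19358, e3 q20205 L717429 q19485, e3 q20206 L717443 q19538, e3 q20207 L717454 q19887, e3 q20208 L717466 q19975, e3 q20209 L717480 q18328, e3 q20210 L717496 q18329, e3 q20211 L717511 q19038, e3 q20212 (flp_c L735143) q21882, e3 q20213 (flp_c L735159) q21883, e3 q20214 L717545 q19977, e3 q20215 L717562 q18334, e3 q20216 L717578 q19039, e3 q20217 L717593 q19052, e3 q20218 L717614 q19858, e3 q20219 L717630 q19462, e3 q20220 L717639 q19886, e3 q20221 L717651 q19974, e3 q20222 L717664 q19888, e3 q20223 L717678 q19976, trivial⟩ (by decide +kernel)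

theorem ce_c_316 : ∀ r, r < 64 → sm gc (Qf (20224 + r)) = Qf (tab Gen.c (20224 + r)) :=
  edges_tab (sm gc) Qf (tab Gen.c) 20224 [(20224, 18344), (20225, 18345), (20226, 19257), (20227, 19869), (20228, 21893), (20229, 19926), (20230, 19212), (20231, 19223), (20232, 19885), (20233, 19510), (20234, 19230), (20235, 19176), (20236, 18439), (20237, 18708), (20238, 18486), (20239, 19537), (20240, 18488), (20241, 18476), (20242, 19991), (20243, 18366), (20244, 21910), (20245, 21911), (20246, 19080), (20247, 18369), (20248, 18370), (20249, 21919), (20250, 21920), (20251, 21921), (20252, 21815), (20253, 21848), (20254, 19089), (20255, 18374), (20256, 18375), (20257, 19798), (20258, 21930), (20259, 21931), (20260, 19095), (20261, 19096), (20262, 21918), (20263, 18379), (20264, 18380), (20265, 18381), (20266, 19793), (20267, 21941), (20268, 21942), (20269, 19104), (20270, 18386), (20271, 19073), (20272, 19806), (20273, 19967), (20274, 19111), (20275, 18392), (20276, 18393), (20277, 21798), (20278, 19250), (20279, 19794), (20280, 21954),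 (20281, 21959), (20282, 19772), (20283, 21801), (20284, 19802), (20285, 19804), (20286, 19189), (20287, 18400)]
    ⟨e3 q20224 L717692 q18344, e3 q20225 L717710 q18345, e3 q20226 L717724 q19257, e3 q20227 L717738 q19869, e3 q20228 (flp_c L735303) q21893, e3 q20229 L717766 q19926, e3 q20230 L717778 q19212, e3 q20231 L717794 q19223, e3 q20232 L717806 q19885, e3 q20233 L717820 q19510, e3 q20234 L717832 q19230, e3 q20235 L717847 q19176, e3 q20236 L717866 q18439, e3 q20237 L717878 q18708, e3 q20238 L717894 q18486, e3 q20239 L717912 q19537, e3 q20240 L717920 q18488, e3 q20241 L717937 q18476, e3 q20242 L717954 q19991, e3 q20243 (flp_c L717956) q18366, e3 q20244 (flp_c L735548) q21910, e3 q20245 (flp_c L735560) q21911, e3 q20246 L717999 q19080, e3 q20247 L718005 q18369, e3 q20248 L718015 q18370, e3 q20249 (flp_c L735653) q21919, e3 q20250 (flp_c L735664) q21920, e3 q20251 (flp_c L735674) q21921, e3 q20252 (flp_c L734218) q21815, e3 q20253 (flp_c L734654) q21848, e3 q20254 L718085 q19089, e3 q20255 L718091 q18374, e3 q20256 L718103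 q18375, e3 q20257 L718116 q19798, e3 q20258 (flp_c L735782) q21930, e3 q20259 (flp_c L735794) q21931, e3 q20260 L718148 q19095, e3 q20261 L718162 q19096, e3 q20262 (flp_c L735644) q21918, e3 q20263 L718180 q18379, e3 q20264 L718192 q18380, e3 q20265 L718200 q18381, e3 q20266 L718214 q19793, e3 q20267 (flp_c L735931) q21941, e3 q20268 (flp_c L735943) q21942, e3 q20269 L718248 q19104, e3 q20270 L718260 q18386, e3 q20271 L718275 q19073, e3 q20272 L718289 q19806, e3 q20273 L718302 q19967, e3 q20274 L718317 q19111, e3 q20275 L718331 q18392, e3 q20276 L718347 q18393, e3 q20277 (flp_c L733974) q21798, e3 q20278 L718372 q19250, e3 q20279 L718387 q19794, e3 q20280 (flp_c L736098) q21954, e3 q20281 L736161 q21959, e3 q20282 L718422 q19772, e3 q20283 (flp_c L734010) q21801, e3 q20284 L718447 q19802, e3 q20285 L718461 q19804, e3 q20286 L718480 q19189, e3 q20287 (flp_c L718485) q18400, trivial⟩ (by decide +kernel)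

theorem ce_c_317 : ∀ r, r < 64 → sm gc (Qf (20288 + r)) = Qf (tab Gen.c (20288 + r)) :=
  edges_tab (sm gc) Qf (tab Gen.c) 20288 [(20288, 21814), (20289, 21816), (20290, 21849), (20291, 19133), (20292, 19134), (20293, 19135), (20294, 18407), (20295, 18408), (20296, 19040), (20297, 19799), (20298, 21969), (20299, 19143), (20300, 19144), (20301, 19742), (20302, 19146), (20303, 19147), (20304, 19148), (20305, 19330), (20306, 19335), (20307, 18416), (20308, 18417), (20309, 18418), (20310, 21819), (20311, 21985), (20312, 21986), (20313, 21987), (20314, 21993), (20315, 19160), (20316, 19163), (20317, 21824), (20318, 19067), (20319, 19074), (20320, 19807), (20321, 22000), (20322, 19172), (20323, 19174), (20324, 19175), (20325, 21903), (20326, 18433), (20327, 18434), (20328, 18435), (20329, 21831), (20330, 22004), (20331, 22005), (20332, 22009), (20333, 18436), (20334, 18446), (20335, 18980), (20336, 18444), (20337, 18445), (20338, 21836), (20339, 22012), (20340, 22001), (20341, 19198), (20342, 18783), (20343, 18787), (20344, 22017),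 (20345, 18451), (20346, 21702), (20347, 22021), (20348, 18454), (20349, 22024), (20350, 19207), (20351, 22025)]
    ⟨e3 q20288 (flp_c L734205) q21814, e3 q20289 (flp_c L734230) q21816, e3 q20290 (flp_c L734666) q21849, e3 q20291 L718527 q19133, e3 q20292 L718545 q19134, e3 q20293 L718557 q19135, e3 q20294 L718569 q18407, e3 q20295 L718583 q18408, e3 q20296 L718595 q19040, e3 q20297 L718607 q19799, e3 q20298 (flp_c L736298) q21969, e3 q20299 L718631 q19143, e3 q20300 L718645 q19144, e3 q20301 L718663 q19742, e3 q20302 L718673 q19146, e3 q20303 L718689 q19147, e3 q20304 L718699 q19148, e3 q20305 L718709 q19330, e3 q20306 L718723 q19335, e3 q20307 L718741 q18416, e3 q20308 L718755 q18417, e3 q20309 L718767 q18418, e3 q20310 (flp_c L734272) q21819, e3 q20311 (flp_c L736518) q21985, e3 q20312 (flp_c L736536) q21986, e3 q20313 (flp_c L736550) q21987, e3 q20314 L736594 q21993, e3 q20315 L718819 q19160, e3 q20316 L718832 q19163, e3 q20317 (flp_c L734335) q21824, e3 q20318 L718854 q19067, e3 q20319 L718869 q19074, e3 q20320 L718882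 q19807, e3 q20321 L736671 q22000, e3 q20322 L718905 q19172, e3 q20323 L718919 q19174, e3 q20324 L718935 q19175, e3 q20325 (flp_c L735450) q21903, e3 q20326 L718961 q18433, e3 q20327 L718977 q18434, e3 q20328 L718989 q18435, e3 q20329 (flp_c L734424) q21831, e3 q20330 (flp_c L736738) q22004, e3 q20331 (flp_c L736754) q22005, e3 q20332 L736790 q22009, e3 q20333 (flp_c L719033) q18436, e3 q20334 L719054 q18446, e3 q20335 L719066 q18980, e3 q20336 L719083 q18444, e3 q20337 L719098 q18445, e3 q20338 (flp_c L734490) q21836, e3 q20339 (flp_c L736826) q22012, e3 q20340 (flp_c L736692) q22001, e3 q20341 L719153 q19198, e3 q20342 L719161 q18783, e3 q20343 L719176 q18787, e3 q20344 L736892 q22017, e3 q20345 (flp_c L719195) q18451, e3 q20346 (flp_c L732487) q21702, e3 q20347 L736939 q22021, e3 q20348 (flp_c L719225) q18454, e3 q20349 (flp_c L736976) q22024, e3 q20350 L719248 q19207, e3 q20351 L736979 q22025, trivial⟩ (by decide +kernel)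

theorem ce_c_318 : ∀ r, r < 64 → sm gc (Qf (20352 + r)) = Qf (tab Gen.c (20352 + r)) :=
  edges_tab (sm gc) Qf (tab Gen.c) 20352 [(20352, 18457), (20353, 18480), (20354, 18481), (20355, 21843), (20356, 19075), (20357, 18483), (20358, 18484), (20359, 18908), (20360, 19743), (20361, 18485), (20362, 21905), (20363, 19331), (20364, 19336), (20365, 19532), (20366, 21851), (20367, 18487), (20368, 21907), (20369, 21852), (20370, 18990), (20371, 21853), (20372, 21842), (20373, 22026), (20374, 21904), (20375, 22030), (20376, 18574), (20377, 19562), (20378, 18519), (20379, 18504), (20380, 18515), (20381, 22045), (20382, 18526), (20383, 18527), (20384, 18512), (20385, 18523), (20386, 18592), (20387, 18563), (20388, 22046), (20389, 18564), (20390, 18520), (20391, 18534), (20392, 22044), (20393, 19563), (20394, 18636), (20395, 18575), (20396, 18585), (20397, 22047), (20398, 22057), (20399, 19574), (20400, 18529), (20401, 19572), (20402, 18595), (20403, 19565), (20404, 22052), (20405, 18553), (20406, 18537), (20407, 18770), (20408, 18541),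 (20409, 22061), (20410, 18551), (20411, 18545), (20412, 18546), (20413, 22063), (20414, 21709), (20415, 19613)]
    ⟨e3 q20352 (flp_c L719260) q18457, e3 q20353 L719279 q18480, e3 q20354 L719293 q18481, e3 q20355 (flp_c L734588) q21843, e3 q20356 L719323 q19075, e3 q20357 L719333 q18483, e3 q20358 L719349 q18484, e3 q20359 L719362 q18908, e3 q20360 L719375 q19743, e3 q20361 L719389 q18485, e3 q20362 (flp_c L735484) q21905, e3 q20363 L719413 q19331, e3 q20364 L719426 q19336, e3 q20365 L719445 q19532, e3 q20366 (flp_c L734689) q21851, e3 q20367 L719458 q18487, e3 q20368 (flp_c L735509) q21907, e3 q20369 (flp_c L734700) q21852, e3 q20370 L719490 q18990, e3 q20371 (flp_c L734713) q21853, e3 q20372 (flp_c L734573) q21842, e3 q20373 (flp_c L736999) q22026, e3 q20374 (flp_c L735462) q21904, e3 q20375 (flp_c L737050) q22030, e3 q20376 L719568 q18574, e3 q20377 L719586 q19562, e3 q20378 L719604 q18519, e3 q20379 L719622 q18504, e3 q20380 L719639 q18515, e3 q20381 (flp_c L737251) q22045, e3 q20382 L719670 q18526, e3 q20383 L719686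 q18527, e3 q20384 L719700 q18512, e3 q20385 L719716 q18523, e3 q20386 L719739 q18592, e3 q20387 L719756 q18563, e3 q20388 (flp_c L737269) q22046, e3 q20389 L719780 q18564, e3 q20390 L719793 q18520, e3 q20391 L719807 q18534, e3 q20392 (flp_c L737231) q22044, e3 q20393 L719830 q19563, e3 q20394 L719850 q18636, e3 q20395 L719868 q18575, e3 q20396 L719882 q18585, e3 q20397 (flp_c L737287) q22047, e3 q20398 L737445 q22057, e3 q20399 L719921 q19574, e3 q20400 (flp_c L719925) q18529, e3 q20401 L719955 q19572, e3 q20402 L719965 q18595, e3 q20403 L719980 q19565, e3 q20404 (flp_c L737372) q22052, e3 q20405 L720008 q18553, e3 q20406 L720023 q18537, e3 q20407 L720037 q18770, e3 q20408 L720055 q18541, e3 q20409 (flp_c L737520) q22061, e3 q20410 L720080 q18551, e3 q20411 L720097 q18545, e3 q20412 L720113 q18546, e3 q20413 (flp_c L737556) q22063, e3 q20414 (flp_c L732613) q21709, e3 q20415 L720145 q19613, trivial⟩ (by decide +kernel)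

theorem ce_c_319 : ∀ r, r < 64 → sm gc (Qf (20416 + r)) = Qf (tab Gen.c (20416 + r)) :=
  edges_tab (sm gc) Qf (tab Gen.c) 20416 [(20416, 18552), (20417, 18567), (20418, 22062), (20419, 22058), (20420, 18556), (20421, 22048), (20422, 22070), (20423, 20423), (20424, 18559), (20425, 22071), (20426, 18589), (20427, 22050), (20428, 19599), (20429, 18568), (20430, 22066), (20431, 19264), (20432, 18573), (20433, 22051), (20434, 21704), (20435, 22079), (20436, 22043), (20437, 18579), (20438, 22049), (20439, 22069), (20440, 19547), (20441, 19546), (20442, 19564), (20443, 18587), (20444, 22085), (20445, 22055), (20446, 21703), (20447, 22083), (20448, 18588), (20449, 18590), (20450, 21712), (20451, 18691), (20452, 21730), (20453, 20453), (20454, 19658), (20455, 21751), (20456, 21731), (20457, 21754), (20458, 18655), (20459, 20459), (20460, 18613), (20461, 22095), (20462, 22096), (20463, 18656), (20464, 18619), (20465, 18647), (20466, 18652), (20467, 22101), (20468, 18622), (20469, 19696), (20470, 18677), (20471, 18640), (20472, 18671),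 (20473, 18678), (20474, 18627), (20475, 18628), (20476, 18666), (20477, 22110), (20478, 22111), (20479, 18679)]
    ⟨e3 q20416 L720159 q18552, e3 q20417 L720171 q18567, e3 q20418 (flp_c L737538) q22062, e3 q20419 (flp_c L737469) q22058, e3 q20420 L720207 q18556, e3 q20421 (flp_c L737313) q22048, e3 q20422 L737643 q22070, e3 q20423 L720237 q20423, e3 q20424 (flp_c L720246) q18559, e3 q20425 L737657 q22071, e3 q20426 L720275 q18589, e3 q20427 (flp_c L737343) q22050, e3 q20428 L720301 q19599, e3 q20429 L720319 q18568, e3 q20430 (flp_c L737596) q22066, e3 q20431 L720345 q19264, e3 q20432 L720361 q18573, e3 q20433 (flp_c L737363) q22051, e3 q20434 (flp_c L732524) q21704, e3 q20435 L737764 q22079, e3 q20436 (flp_c L737211) q22043, e3 q20437 L720407 q18579, e3 q20438 (flp_c L737331) q22049, e3 q20439 (flp_c L737635) q22069, e3 q20440 L720439 q19547, e3 q20441 L720457 q19546, e3 q20442 L720477 q19564, e3 q20443 L720483 q18587, e3 q20444 L737835 q22085, e3 q20445 (flp_c L737417) q22055, e3 q20446 (flp_c L732506) q21703, e3 q20447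 (flp_c L737812) q22083, e3 q20448 (flp_c L720524) q18588, e3 q20449 (flp_c L720530) q18590, e3 q20450 (flp_c L732678) q21712, e3 q20451 L720559 q18691, e3 q20452 (flp_c L732964) q21730, e3 q20453 L720592 q20453, e3 q20454 L720609 q19658, e3 q20455 (flp_c L733304) q21751, e3 q20456 (flp_c L732981) q21731, e3 q20457 (flp_c L733348) q21754, e3 q20458 L720669 q18655, e3 q20459 L720677 q20459, e3 q20460 (flp_c L720688) q18613, e3 q20461 (flp_c L737975) q22095, e3 q20462 (flp_c L737991) q22096, e3 q20463 L720731 q18656, e3 q20464 L720747 q18619, e3 q20465 L720762 q18647, e3 q20466 L720777 q18652, e3 q20467 (flp_c L738066) q22101, e3 q20468 L720802 q18622, e3 q20469 L720816 q19696, e3 q20470 L720836 q18677, e3 q20471 L720846 q18640, e3 q20472 L720862 q18671, e3 q20473 L720874 q18678, e3 q20474 L720886 q18627, e3 q20475 L720900 q18628, e3 q20476 L720916 q18666, e3 q20477 (flp_c L738201) q22110, e3 q20478 (flp_c L738217) q22111, e3 q20479 L720950 q18679, trivial⟩ (by decide +kernel)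

theorem ce_c_320 : ∀ r, r < 64 → sm gc (Qf (20480 + r)) = Qf (tab Gen.c (20480 + r)) :=
  edges_tab (sm gc) Qf (tab Gen.c) 20480 [(20480, 18633), (20481, 18667), (20482, 18674), (20483, 18827), (20484, 18773), (20485, 19615), (20486, 18697), (20487, 18897), (20488, 18642), (20489, 18792), (20490, 18645), (20491, 22119), (20492, 22120), (20493, 22097), (20494, 22102), (20495, 18801), (20496, 18650), (20497, 18651), (20498, 22093), (20499, 22129), (20500, 22130), (20501, 22103), (20502, 19322), (20503, 18657), (20504, 18716), (20505, 22094), (20506, 22100), (20507, 19697), (20508, 18663), (20509, 18825), (20510, 18721), (20511, 19694), (20512, 22143), (20513, 19661), (20514, 19662), (20515, 22112), (20516, 22115), (20517, 18829), (20518, 18830), (20519, 18961), (20520, 18672), (20521, 18673), (20522, 22106), (20523, 22108), (20524, 22150), (20525, 21732), (20526, 18858), (20527, 22107), (20528, 22109), (20529, 22159), (20530, 21737), (20531, 21738), (20532, 21744), (20533, 18687), (20534, 18688), (20535, 18869), (20536, 22160),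 (20537, 19699), (20538, 18689), (20539, 19720), (20540, 22163), (20541, 18692), (20542, 19717), (20543, 18709)]
    ⟨e3 q20480 L720964 q18633, e3 q20481 L720978 q18667, e3 q20482 L720992 q18674, e3 q20483 L721006 q18827, e3 q20484 L721024 q18773, e3 q20485 L721036 q19615, e3 q20486 L721048 q18697, e3 q20487 L721070 q18897, e3 q20488 L721080 q18642, e3 q20489 L721102 q18792, e3 q20490 (flp_c L721106) q18645, e3 q20491 (flp_c L738331) q22119, e3 q20492 (flp_c L738341) q22120, e3 q20493 (flp_c L738006) q22097, e3 q20494 (flp_c L738082) q22102, e3 q20495 L721172 q18801, e3 q20496 L721176 q18650, e3 q20497 L721184 q18651, e3 q20498 (flp_c L737941) q22093, e3 q20499 (flp_c L738455) q22129, e3 q20500 (flp_c L738463) q22130, e3 q20501 (flp_c L738097) q22103, e3 q20502 L721229 q19322, e3 q20503 L721238 q18657, e3 q20504 L721250 q18716, e3 q20505 (flp_c L737959) q22094, e3 q20506 (flp_c L738048) q22100, e3 q20507 L721276 q19697, e3 q20508 L721286 q18663, e3 q20509 L721300 q18825, e3 q20510 L721309 q18721, e3 q20511 L721324 q19694,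 e3 q20512 L738615 q22143, e3 q20513 L721343 q19661, e3 q20514 L721359 q19662, e3 q20515 (flp_c L738231) q22112, e3 q20516 (flp_c L738273) q22115, e3 q20517 L721389 q18829, e3 q20518 L721399 q18830, e3 q20519 L721419 q18961, e3 q20520 L721427 q18672, e3 q20521 L721435 q18673, e3 q20522 (flp_c L738143) q22106, e3 q20523 (flp_c L738175) q22108, e3 q20524 (flp_c L738710) q22150, e3 q20525 (flp_c L732994) q21732, e3 q20526 L721479 q18858, e3 q20527 (flp_c L738161) q22107, e3 q20528 (flp_c L738189) q22109, e3 q20529 L738806 q22159, e3 q20530 (flp_c L733065) q21737, e3 q20531 (flp_c L733083) q21738, e3 q20532 (flp_c L733188) q21744, e3 q20533 L721549 q18687, e3 q20534 L721563 q18688, e3 q20535 L721577 q18869, e3 q20536 (flp_c L738828) q22160, e3 q20537 (flp_c L721605) q19699, e3 q20538 (flp_c L721607) q18689, e3 q20539 L721627 q19720, e3 q20540 L738869 q22163, e3 q20541 (flp_c L721643) q18692, e3 q20542 L721669 q19717, e3 q20543 L721679 q18709, trivial⟩ (by decide +kernel)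

theorem ce_c_321 : ∀ r, r < 64 → sm gc (Qf (20544 + r)) = Qf (tab Gen.c (20544 + r)) :=
  edges_tab (sm gc) Qf (tab Gen.c) 20544 [(20544, 18992), (20545, 18702), (20546, 18895), (20547, 19714), (20548, 18900), (20549, 19956), (20550, 19666), (20551, 19667), (20552, 19684), (20553, 22131), (20554, 22136), (20555, 18752), (20556, 18719), (20557, 18720), (20558, 22177), (20559, 22178), (20560, 22141), (20561, 18763), (20562, 18724), (20563, 18771), (20564, 21755), (20565, 19534), (20566, 20566), (20567, 18728), (20568, 22184), (20569, 22185), (20570, 18730), (20571, 22189), (20572, 22190), (20573, 18759), (20574, 18733), (20575, 18734), (20576, 22196), (20577, 22197), (20578, 22198), (20579, 18736), (20580, 22201), (20581, 18760), (20582, 18740), (20583, 18741), (20584, 18742), (20585, 22203), (20586, 22204), (20587, 19639), (20588, 18746), (20589, 22104), (20590, 22210), (20591, 21758), (20592, 21762), (20593, 18750), (20594, 18751), (20595, 22193), (20596, 22213), (20597, 22214), (20598, 18813), (20599, 22174), (20600, 22175),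 (20601, 18755), (20602, 18756), (20603, 18757), (20604, 22221), (20605, 22222), (20606, 18761), (20607, 22194)]
    ⟨e3 q20544 L721692 q18992, e3 q20545 L721706 q18702, e3 q20546 L721724 q18895, e3 q20547 L721737 q19714, e3 q20548 L721747 q18900, e3 q20549 L721761 q19956, e3 q20550 L721778 q19666, e3 q20551 L721792 q19667, e3 q20552 L721806 q19684, e3 q20553 (flp_c L738477) q22131, e3 q20554 (flp_c L738530) q22136, e3 q20555 L721849 q18752, e3 q20556 L721855 q18719, e3 q20557 L721865 q18720, e3 q20558 (flp_c L739057) q22177, e3 q20559 (flp_c L739067) q22178, e3 q20560 (flp_c L738590) q22141, e3 q20561 L721908 q18763, e3 q20562 L721921 q18724, e3 q20563 L721933 q18771, e3 q20564 (flp_c L733368) q21755, e3 q20565 L721961 q19534, e3 q20566 L721969 q20566, e3 q20567 (flp_c L721979) q18728, e3 q20568 (flp_c L739145) q22184, e3 q20569 (flp_c L739159) q22185, e3 q20570 (flp_c L722016) q18730, e3 q20571 (flp_c L739211) q22189, e3 q20572 (flp_c L739229) q22190, e3 q20573 L722060 q18759, e3 q20574 L722066 q18733, e3 q20575 L722076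 q18734, e3 q20576 (flp_c L739302) q22196, e3 q20577 (flp_c L739318) q22197, e3 q20578 (flp_c L739328) q22198, e3 q20579 L722115 q18736, e3 q20580 (flp_c L739360) q22201, e3 q20581 L722138 q18760, e3 q20582 L722153 q18740, e3 q20583 L722169 q18741, e3 q20584 L722183 q18742, e3 q20585 (flp_c L739392) q22203, e3 q20586 (flp_c L739408) q22204, e3 q20587 L722212 q19639, e3 q20588 L722226 q18746, e3 q20589 (flp_c L738117) q22104, e3 q20590 L739476 q22210, e3 q20591 (flp_c L733411) q21758, e3 q20592 (flp_c L733467) q21762, e3 q20593 L722276 q18750, e3 q20594 L722284 q18751, e3 q20595 (flp_c L739260) q22193, e3 q20596 (flp_c L739515) q22213, e3 q20597 (flp_c L739525) q22214, e3 q20598 L722324 q18813, e3 q20599 (flp_c L739013) q22174, e3 q20600 (flp_c L739029) q22175, e3 q20601 L722360 q18755, e3 q20602 L722368 q18756, e3 q20603 L722378 q18757, e3 q20604 (flp_c L739609) q22221, e3 q20605 (flp_c L739619) q22222, e3 q20606 L722406 q18761, e3 q20607 (flp_c L739276) q22194, trivial⟩ (by decide +kernel)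

theorem ce_c_322 : ∀ r, r < 64 → sm gc (Qf (20608 + r)) = Qf (tab Gen.c (20608 + r)) :=
  edges_tab (sm gc) Qf (tab Gen.c) 20608 [(20608, 22202), (20609, 18814), (20610, 22180), (20611, 18767), (20612, 18768), (20613, 22114), (20614, 22229), (20615, 22233), (20616, 19629), (20617, 22060), (20618, 22234), (20619, 22236), (20620, 19640), (20621, 18774), (20622, 20622), (20623, 20623), (20624, 22239), (20625, 18779), (20626, 20626), (20627, 18784), (20628, 22015), (20629, 20629), (20630, 22118), (20631, 20631), (20632, 22243), (20633, 18875), (20634, 18794), (20635, 19592), (20636, 18796), (20637, 22246), (20638, 22247), (20639, 19416), (20640, 18799), (20641, 18800), (20642, 22254), (20643, 22255), (20644, 22256), (20645, 22126), (20646, 22127), (20647, 18804), (20648, 18805), (20649, 22215), (20650, 22262), (20651, 22263), (20652, 19280), (20653, 19281), (20654, 22253), (20655, 18809), (20656, 18810), (20657, 18811), (20658, 21719), (20659, 22271), (20660, 22272), (20661, 18815), (20662, 22218), (20663, 22227), (20664, 19282),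 (20665, 18821), (20666, 18822), (20667, 22135), (20668, 21727), (20669, 22281), (20670, 22286), (20671, 19321)]
    ⟨e3 q20608 (flp_c L739376) q22202, e3 q20609 L722442 q18814, e3 q20610 (flp_c L739089) q22180, e3 q20611 L722462 q18767, e3 q20612 L722471 q18768, e3 q20613 (flp_c L738261) q22114, e3 q20614 (flp_c L739691) q22229, e3 q20615 L739724 q22233, e3 q20616 L722505 q19629, e3 q20617 (flp_c L737500) q22060, e3 q20618 L739738 q22234, e3 q20619 L739770 q22236, e3 q20620 L722544 q19640, e3 q20621 (flp_c L722548) q18774, e3 q20622 L722564 q20622, e3 q20623 L722579 q20623, e3 q20624 L739816 q22239, e3 q20625 (flp_c L722594) q18779, e3 q20626 L722614 q20626, e3 q20627 L722631 q18784, e3 q20628 (flp_c L736870) q22015, e3 q20629 L722657 q20629, e3 q20630 (flp_c L738325) q22118, e3 q20631 L722682 q20631, e3 q20632 L739853 q22243, e3 q20633 L722702 q18875, e3 q20634 (flp_c L722710) q18794, e3 q20635 L722728 q19592, e3 q20636 (flp_c L722734) q18796, e3 q20637 (flp_c L739895) q22246, e3 q20638 (flp_c L739907) q22247, e3 q20639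 L722777 q19416, e3 q20640 L722781 q18799, e3 q20641 L722789 q18800, e3 q20642 (flp_c L739978) q22254, e3 q20643 (flp_c L739987) q22255, e3 q20644 (flp_c L739995) q22256, e3 q20645 (flp_c L738415) q22126, e3 q20646 (flp_c L738431) q22127, e3 q20647 L722853 q18804, e3 q20648 L722863 q18805, e3 q20649 (flp_c L739537) q22215, e3 q20650 (flp_c L740066) q22262, e3 q20651 (flp_c L740076) q22263, e3 q20652 L722900 q19280, e3 q20653 L722916 q19281, e3 q20654 (flp_c L739973) q22253, e3 q20655 L722934 q18809, e3 q20656 L722942 q18810, e3 q20657 L722950 q18811, e3 q20658 (flp_c L732784) q21719, e3 q20659 (flp_c L740167) q22271, e3 q20660 (flp_c L740175) q22272, e3 q20661 L722988 q18815, e3 q20662 (flp_c L739577) q22218, e3 q20663 (flp_c L739667) q22227, e3 q20664 L723023 q19282, e3 q20665 L723037 q18821, e3 q20666 L723047 q18822, e3 q20667 (flp_c L738521) q22135, e3 q20668 (flp_c L732912) q21727, e3 q20669 (flp_c L740269) q22281, e3 q20670 L740309 q22286, e3 q20671 L723092 q19321, trivial⟩ (by decide +kernel)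

theorem ce_c_323 : ∀ r, r < 64 → sm gc (Qf (20672 + r)) = Qf (tab Gen.c (20672 + r)) :=
  edges_tab (sm gc) Qf (tab Gen.c) 20672 [(20672, 22235), (20673, 22140), (20674, 21728), (20675, 22287), (20676, 18828), (20677, 22088), (20678, 22147), (20679, 22148), (20680, 19136), (20681, 18833), (20682, 18834), (20683, 18835), (20684, 22294), (20685, 22295), (20686, 19579), (20687, 19580), (20688, 19744), (20689, 19576), (20690, 19601), (20691, 19602), (20692, 19149), (20693, 19150), (20694, 19151), (20695, 18843), (20696, 18844), (20697, 18845), (20698, 22151), (20699, 21713), (20700, 22312), (20701, 22313), (20702, 22319), (20703, 18849), (20704, 18850), (20705, 22116), (20706, 22320), (20707, 22231), (20708, 19585), (20709, 19577), (20710, 19578), (20711, 19683), (20712, 18860), (20713, 18861), (20714, 22328), (20715, 22156), (20716, 21716), (20717, 22326), (20718, 22333), (20719, 18862), (20720, 19630), (20721, 18872), (20722, 18871), (20723, 22336), (20724, 18868), (20725, 22208), (20726, 21769), (20727, 21717), (20728, 22325),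 (20729, 22245), (20730, 22339), (20731, 18878), (20732, 22342), (20733, 21773), (20734, 18880), (20735, 19217)]
    ⟨e3 q20672 (flp_c L739760) q22235, e3 q20673 (flp_c L738575) q22140, e3 q20674 (flp_c L732928) q21728, e3 q20675 (flp_c L740322) q22287, e3 q20676 (flp_c L723129) q18828, e3 q20677 (flp_c L737865) q22088, e3 q20678 (flp_c L738672) q22147, e3 q20679 (flp_c L738684) q22148, e3 q20680 L723162 q19136, e3 q20681 L723170 q18833, e3 q20682 L723180 q18834, e3 q20683 L723190 q18835, e3 q20684 (flp_c L740399) q22294, e3 q20685 (flp_c L740411) q22295, e3 q20686 L723218 q19579, e3 q20687 L723232 q19580, e3 q20688 L723250 q19744, e3 q20689 L723260 q19576, e3 q20690 L723272 q19601, e3 q20691 L723284 q19602, e3 q20692 L723294 q19149, e3 q20693 L723301 q19150, e3 q20694 L723309 q19151, e3 q20695 L723319 q18843, e3 q20696 L723327 q18844, e3 q20697 L723335 q18845, e3 q20698 (flp_c L738722) q22151, e3 q20699 (flp_c L732686) q21713, e3 q20700 (flp_c L740600) q22312, e3 q20701 (flp_c L740610) q22313, e3 q20702 L740650 q22319, e3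 q20703 L723383 q18849, e3 q20704 L723394 q18850, e3 q20705 (flp_c L738291) q22116, e3 q20706 (flp_c L740660) q22320, e3 q20707 (flp_c L739708) q22231, e3 q20708 L723434 q19585, e3 q20709 L723450 q19577, e3 q20710 L723463 q19578, e3 q20711 L723481 q19683, e3 q20712 L723487 q18860, e3 q20713 L723496 q18861, e3 q20714 L740739 q22328, e3 q20715 (flp_c L738778) q22156, e3 q20716 (flp_c L732738) q21716, e3 q20717 (flp_c L740728) q22326, e3 q20718 L740775 q22333, e3 q20719 (flp_c L723531) q18862, e3 q20720 L723545 q19630, e3 q20721 L723552 q18872, e3 q20722 L723560 q18871, e3 q20723 (flp_c L740799) q22336, e3 q20724 (flp_c L723577) q18868, e3 q20725 (flp_c L739456) q22208, e3 q20726 (flp_c L733577) q21769, e3 q20727 (flp_c L732753) q21717, e3 q20728 (flp_c L740718) q22325, e3 q20729 (flp_c L739885) q22245, e3 q20730 L740828 q22339, e3 q20731 (flp_c L723633) q18878, e3 q20732 (flp_c L740861) q22342, e3 q20733 (flp_c L733631) q21773, e3 q20734 (flp_c L723652) q18880, e3 q20735 L723670 q19217, trivial⟩ (by decide +kernel)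

theorem ce_c_324 : ∀ r, r < 64 → sm gc (Qf (20736 + r)) = Qf (tab Gen.c (20736 + r)) :=
  edges_tab (sm gc) Qf (tab Gen.c) 20736 [(20736, 19218), (20737, 18886), (20738, 22117), (20739, 18933), (20740, 18901), (20741, 18902), (20742, 18999), (20743, 19773), (20744, 18903), (20745, 19705), (20746, 19224), (20747, 19225), (20748, 22355), (20749, 22168), (20750, 18896), (20751, 22169), (20752, 22348), (20753, 18986), (20754, 21978), (20755, 22031), (20756, 18911), (20757, 18912), (20758, 22360), (20759, 22361), (20760, 18914), (20761, 22363), (20762, 18916), (20763, 19011), (20764, 19729), (20765, 19730), (20766, 19731), (20767, 19732), (20768, 19733), (20769, 19734), (20770, 19735), (20771, 19736), (20772, 21828), (20773, 19999), (20774, 21847), (20775, 22299), (20776, 22347), (20777, 18936), (20778, 18937), (20779, 22266), (20780, 22376), (20781, 22377), (20782, 19722), (20783, 19723), (20784, 19363), (20785, 19724), (20786, 19725), (20787, 19365), (20788, 19726), (20789, 19364), (20790, 19367), (20791, 19366), (20792, 19514),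 (20793, 18952), (20794, 18953), (20795, 21866), (20796, 22390), (20797, 22391), (20798, 18957), (20799, 18958)]
    ⟨e3 q20736 L723682 q19218, e3 q20737 L723693 q18886, e3 q20738 (flp_c L738310) q22117, e3 q20739 L723721 q18933, e3 q20740 L723729 q18901, e3 q20741 L723742 q18902, e3 q20742 L723755 q18999, e3 q20743 L723767 q19773, e3 q20744 L723780 q18903, e3 q20745 L723801 q19705, e3 q20746 L723805 q19224, e3 q20747 L723813 q19225, e3 q20748 L740995 q22355, e3 q20749 (flp_c L738935) q22168, e3 q20750 (flp_c L723829) q18896, e3 q20751 (flp_c L738946) q22169, e3 q20752 (flp_c L740923) q22348, e3 q20753 L723867 q18986, e3 q20754 (flp_c L736418) q21978, e3 q20755 (flp_c L737067) q22031, e3 q20756 L723908 q18911, e3 q20757 L723924 q18912, e3 q20758 (flp_c L741049) q22360, e3 q20759 (flp_c L741065) q22361, e3 q20760 L723961 q18914, e3 q20761 (flp_c L741091) q22363, e3 q20762 L723988 q18916, e3 q20763 L724007 q19011, e3 q20764 L724016 q19729, e3 q20765 L724028 q19730, e3 q20766 L724041 q19731, e3 q20767 L724051 q19732, e3 q20768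 L724065 q19733, e3 q20769 L724075 q19734, e3 q20770 L724087 q19735, e3 q20771 L724100 q19736, e3 q20772 (flp_c L734387) q21828, e3 q20773 L724126 q19999, e3 q20774 (flp_c L734648) q21847, e3 q20775 (flp_c L740455) q22299, e3 q20776 (flp_c L740908) q22347, e3 q20777 L724158 q18936, e3 q20778 L724168 q18937, e3 q20779 (flp_c L740114) q22266, e3 q20780 (flp_c L741242) q22376, e3 q20781 (flp_c L741254) q22377, e3 q20782 L724205 q19722, e3 q20783 L724217 q19723, e3 q20784 L724230 q19363, e3 q20785 L724242 q19724, e3 q20786 L724252 q19725, e3 q20787 L724266 q19365, e3 q20788 L724276 q19726, e3 q20789 L724288 q19364, e3 q20790 L724299 q19367, e3 q20791 L724312 q19366, e3 q20792 L724326 q19514, e3 q20793 L724337 q18952, e3 q20794 L724353 q18953, e3 q20795 (flp_c L734908) q21866, e3 q20796 (flp_c L741407) q22390, e3 q20797 (flp_c L741423) q22391, e3 q20798 L724394 q18957, e3 q20799 L724410 q18958, trivial⟩ (by decide +kernel)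

theorem ce_c_325 : ∀ r, r < 64 → sm gc (Qf (20800 + r)) = Qf (tab Gen.c (20800 + r)) :=
  edges_tab (sm gc) Qf (tab Gen.c) 20800 [(20800, 19727), (20801, 22394), (20802, 21812), (20803, 21813), (20804, 22149), (20805, 18966), (20806, 18967), (20807, 21854), (20808, 21856), (20809, 22399), (20810, 22404), (20811, 19728), (20812, 19998), (20813, 18976), (20814, 21855), (20815, 21857), (20816, 22408), (20817, 18977), (20818, 21858), (20819, 22003), (20820, 19234), (20821, 19944), (20822, 19721), (20823, 22041), (20824, 18987), (20825, 22415), (20826, 22039), (20827, 22166), (20828, 19668), (20829, 19707), (20830, 21869), (20831, 21873), (20832, 19952), (20833, 22303), (20834, 22349), (20835, 19002), (20836, 19003), (20837, 22421), (20838, 22422), (20839, 22176), (20840, 19006), (20841, 19007), (20842, 22425), (20843, 19009), (20844, 22364), (20845, 19480), (20846, 19535), (20847, 19015), (20848, 19016), (20849, 22432), (20850, 22433), (20851, 22434), (20852, 19145), (20853, 19222), (20854, 19880), (20855, 19881), (20856, 19872),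 (20857, 19928), (20858, 19895), (20859, 19950), (20860, 19929), (20861, 19907), (20862, 19919), (20863, 22449)]
    ⟨e3 q20800 L724422 q19727, e3 q20801 (flp_c L741459) q22394, e3 q20802 (flp_c L734173) q21812, e3 q20803 (flp_c L734189) q21813, e3 q20804 (flp_c L738696) q22149, e3 q20805 L724490 q18966, e3 q20806 L724504 q18967, e3 q20807 (flp_c L734723) q21854, e3 q20808 (flp_c L734757) q21856, e3 q20809 (flp_c L741523) q22399, e3 q20810 L741571 q22404, e3 q20811 L724548 q19728, e3 q20812 L724559 q19998, e3 q20813 L724571 q18976, e3 q20814 (flp_c L734741) q21855, e3 q20815 (flp_c L734773) q21857, e3 q20816 L741607 q22408, e3 q20817 (flp_c L724607) q18977, e3 q20818 (flp_c L734789) q21858, e3 q20819 (flp_c L736722) q22003, e3 q20820 L724644 q19234, e3 q20821 L724659 q19944, e3 q20822 L724667 q19721, e3 q20823 (flp_c L737185) q22041, e3 q20824 (flp_c L724685) q18987, e3 q20825 (flp_c L741675) q22415, e3 q20826 (flp_c L737162) q22039, e3 q20827 (flp_c L738910) q22166, e3 q20828 L724729 q19668, e3 q20829 L724743 q19707, e3 q20830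 (flp_c L734947) q21869, e3 q20831 (flp_c L735005) q21873, e3 q20832 L724777 q19952, e3 q20833 (flp_c L740504) q22303, e3 q20834 (flp_c L740937) q22349, e3 q20835 L724811 q19002, e3 q20836 L724821 q19003, e3 q20837 (flp_c L741747) q22421, e3 q20838 (flp_c L741757) q22422, e3 q20839 (flp_c L739048) q22176, e3 q20840 L724855 q19006, e3 q20841 L724863 q19007, e3 q20842 (flp_c L741784) q22425, e3 q20843 L724881 q19009, e3 q20844 (flp_c L741110) q22364, e3 q20845 L724899 q19480, e3 q20846 L724913 q19535, e3 q20847 L724928 q19015, e3 q20848 L724942 q19016, e3 q20849 (flp_c L741863) q22432, e3 q20850 (flp_c L741876) q22433, e3 q20851 (flp_c L741892) q22434, e3 q20852 L724983 q19145, e3 q20853 L724999 q19222, e3 q20854 L725012 q19880, e3 q20855 L725024 q19881, e3 q20856 L725034 q19872, e3 q20857 L725048 q19928, e3 q20858 L725058 q19895, e3 q20859 L725070 q19950, e3 q20860 L725080 q19929, e3 q20861 L725091 q19907, e3 q20862 L725104 q19919, e3 q20863 L742063 q22449, trivial⟩ (by decide +kernel)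

theorem ce_c_326 : ∀ r, r < 64 → sm gc (Qf (20864 + r)) = Qf (tab Gen.c (20864 + r)) :=
  edges_tab (sm gc) Qf (tab Gen.c) 20864 [(20864, 19029), (20865, 19031), (20866, 19032), (20867, 22450), (20868, 22451), (20869, 22452), (20870, 21971), (20871, 19035), (20872, 19036), (20873, 19037), (20874, 22457), (20875, 22458), (20876, 22459), (20877, 22463), (20878, 21884), (20879, 21887), (20880, 21962), (20881, 21932), (20882, 21972), (20883, 19044), (20884, 19045), (20885, 22470), (20886, 22473), (20887, 19049), (20888, 19050), (20889, 19051), (20890, 22474), (20891, 22475), (20892, 22479), (20893, 19055), (20894, 22481), (20895, 22482), (20896, 19056), (20897, 19057), (20898, 20898), (20899, 22485), (20900, 19061), (20901, 19062), (20902, 22487), (20903, 19066), (20904, 21997), (20905, 21844), (20906, 20906), (20907, 19071), (20908, 22490), (20909, 21950), (20910, 21998), (20911, 21975), (20912, 22029), (20913, 21909), (20914, 19078), (20915, 19079), (20916, 22497), (20917, 22498), (20918, 22499), (20919, 21915), (20920, 21916),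 (20921, 21917), (20922, 19097), (20923, 19083), (20924, 19084), (20925, 19085), (20926, 22512), (20927, 22513)]
    ⟨e3 q20864 (flp_c L725121) q19029, e3 q20865 L725139 q19031, e3 q20866 L725153 q19032, e3 q20867 (flp_c L742082) q22450, e3 q20868 (flp_c L742097) q22451, e3 q20869 (flp_c L742111) q22452, e3 q20870 (flp_c L736322) q21971, e3 q20871 L725206 q19035, e3 q20872 L725220 q19036, e3 q20873 L725232 q19037, e3 q20874 (flp_c L742172) q22457, e3 q20875 (flp_c L742184) q22458, e3 q20876 (flp_c L742198) q22459, e3 q20877 L742230 q22463, e3 q20878 (flp_c L735175) q21884, e3 q20879 (flp_c L735218) q21887, e3 q20880 (flp_c L736210) q21962, e3 q20881 (flp_c L735808) q21932, e3 q20882 (flp_c L736338) q21972, e3 q20883 L725337 q19044, e3 q20884 L725347 q19045, e3 q20885 (flp_c L742318) q22470, e3 q20886 L742342 q22473, e3 q20887 L725375 q19049, e3 q20888 L725387 q19050, e3 q20889 L725400 q19051, e3 q20890 (flp_c L742354) q22474, e3 q20891 (flp_c L742366) q22475, e3 q20892 L742405 q22479, e3 q20893 L725439 q19055, e3 q20894 L742425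 q22481, e3 q20895 L742438 q22482, e3 q20896 (flp_c L725464) q19056, e3 q20897 (flp_c L725472) q19057, e3 q20898 L725488 q20898, e3 q20899 L742460 q22485, e3 q20900 (flp_c L725502) q19061, e3 q20901 (flp_c L725513) q19062, e3 q20902 (flp_c L742481) q22487, e3 q20903 L725532 q19066, e3 q20904 (flp_c L736639) q21997, e3 q20905 (flp_c L734596) q21844, e3 q20906 L725574 q20906, e3 q20907 (flp_c L725584) q19071, e3 q20908 (flp_c L742514) q22490, e3 q20909 (flp_c L736043) q21950, e3 q20910 (flp_c L736654) q21998, e3 q20911 (flp_c L736378) q21975, e3 q20912 (flp_c L737034) q22029, e3 q20913 (flp_c L735542) q21909, e3 q20914 L725672 q19078, e3 q20915 L725682 q19079, e3 q20916 (flp_c L742611) q22497, e3 q20917 (flp_c L742624) q22498, e3 q20918 (flp_c L742636) q22499, e3 q20919 (flp_c L735606) q21915, e3 q20920 (flp_c L735622) q21916, e3 q20921 (flp_c L735632) q21917, e3 q20922 L725743 q19097, e3 q20923 L725749 q19083, e3 q20924 L725754 q19084, e3 q20925 L725762 q19085, e3 q20926 (flp_c L742780) q22512, e3 q20927 (flp_c L742789) q22513,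 trivial⟩ (by decide +kernel)

theorem ce_c_327 : ∀ r, r < 64 → sm gc (Qf (20928 + r)) = Qf (tab Gen.c (20928 + r)) :=
  edges_tab (sm gc) Qf (tab Gen.c) 20928 [(20928, 22514), (20929, 19087), (20930, 19088), (20931, 21935), (20932, 22519), (20933, 22520), (20934, 21927), (20935, 21928), (20936, 19092), (20937, 19093), (20938, 19094), (20939, 22526), (20940, 22527), (20941, 22528), (20942, 21944), (20943, 21936), (20944, 21937), (20945, 22509), (20946, 22510), (20947, 22511), (20948, 19101), (20949, 19102), (20950, 19103), (20951, 22505), (20952, 22539), (20953, 22540), (20954, 22545), (20955, 21948), (20956, 19108), (20957, 19109), (20958, 19110), (20959, 19938), (20960, 22546), (20961, 22547), (20962, 22552), (20963, 19115), (20964, 19116), (20965, 19117), (20966, 19515), (20967, 22553), (20968, 22554), (20969, 22558), (20970, 19118), (20971, 19123), (20972, 19124), (20973, 22561), (20974, 22563), (20975, 19125), (20976, 19192), (20977, 21811), (20978, 21845), (20979, 21895), (20980, 19130), (20981, 19131), (20982, 19132),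 (20983, 22567), (20984, 22568), (20985, 22569), (20986, 21965), (20987, 21966), (20988, 19751), (20989, 19795), (20990, 21967), (20991, 21968)]
    ⟨e3 q20928 (flp_c L742796) q22514, e3 q20929 L725795 q19087, e3 q20930 L725809 q19088, e3 q20931 L735855 q21935, e3 q20932 (flp_c L742835) q22519, e3 q20933 (flp_c L742849) q22520, e3 q20934 (flp_c L735742) q21927, e3 q20935 (flp_c L735758) q21928, e3 q20936 L725870 q19092, e3 q20937 L725884 q19093, e3 q20938 L725896 q19094, e3 q20939 (flp_c L742920) q22526, e3 q20940 (flp_c L742936) q22527, e3 q20941 (flp_c L742950) q22528, e3 q20942 (flp_c L735966) q21944, e3 q20943 (flp_c L735863) q21936, e3 q20944 (flp_c L735877) q21937, e3 q20945 (flp_c L742738) q22509, e3 q20946 (flp_c L742754) q22510, e3 q20947 (flp_c L742768) q22511, e3 q20948 L726000 q19101, e3 q20949 L726012 q19102, e3 q20950 L726022 q19103, e3 q20951 (flp_c L742702) q22505, e3 q20952 (flp_c L743072) q22539, e3 q20953 (flp_c L743084) q22540, e3 q20954 L743126 q22545, e3 q20955 (flp_c L736018) q21948, e3 q20956 L726079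 q19108, e3 q20957 L726092 q19109, e3 q20958 L726104 q19110, e3 q20959 L726117 q19938, e3 q20960 (flp_c L743138) q22546, e3 q20961 (flp_c L743151) q22547, e3 q20962 L743202 q22552, e3 q20963 L726153 q19115, e3 q20964 L726169 q19116, e3 q20965 L726181 q19117, e3 q20966 (flp_c L726199) q19515, e3 q20967 (flp_c L743220) q22553, e3 q20968 (flp_c L743236) q22554, e3 q20969 L743273 q22558, e3 q20970 (flp_c L726223) q19118, e3 q20971 L726240 q19123, e3 q20972 L726255 q19124, e3 q20973 (flp_c L743306) q22561, e3 q20974 L743325 q22563, e3 q20975 (flp_c L726279) q19125, e3 q20976 L726305 q19192, e3 q20977 (flp_c L734163) q21811, e3 q20978 (flp_c L734610) q21845, e3 q20979 (flp_c L735335) q21895, e3 q20980 L726346 q19130, e3 q20981 L726353 q19131, e3 q20982 L726363 q19132, e3 q20983 (flp_c L743381) q22567, e3 q20984 (flp_c L743392) q22568, e3 q20985 (flp_c L743401) q22569, e3 q20986 (flp_c L736242) q21965, e3 q20987 (flp_c L736260) q21966, e3 q20988 L726428 q19751, e3 q20989 L726438 q19795, e3 q20990 (flp_c L736274) q21967, e3 q20991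 (flp_c L736288) q21968, trivial⟩ (by decide +kernel)

theorem ce_c_328 : ∀ r, r < 64 → sm gc (Qf (20992 + r)) = Qf (tab Gen.c (20992 + r)) :=
  edges_tab (sm gc) Qf (tab Gen.c) 20992 [(20992, 22291), (20993, 22292), (20994, 22293), (20995, 19140), (20996, 19141), (20997, 19142), (20998, 19781), (20999, 22586), (21000, 22587), (21001, 22588), (21002, 22594), (21003, 21976), (21004, 21977), (21005, 22437), (21006, 22438), (21007, 19826), (21008, 21980), (21009, 21981), (21010, 21900), (21011, 21889), (21012, 22308), (21013, 22309), (21014, 22310), (21015, 22311), (21016, 19156), (21017, 19157), (21018, 19158), (21019, 22613), (21020, 19782), (21021, 22610), (21022, 22611), (21023, 22618), (21024, 19159), (21025, 21994), (21026, 19805), (21027, 19966), (21028, 21902), (21029, 19168), (21030, 19169), (21031, 19170), (21032, 22626), (21033, 19334), (21034, 22623), (21035, 22624), (21036, 22630), (21037, 19171), (21038, 19252), (21039, 19827), (21040, 22002), (21041, 21961), (21042, 19182), (21043, 19183), (21044, 22638), (21045,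 19180), (21046, 19458), (21047, 19333), (21048, 22636), (21049, 22642), (21050, 19184), (21051, 22645), (21052, 22011), (21053, 19842), (21054, 19846), (21055, 19195)]
    ⟨e3 q20992 (flp_c L740362) q22291, e3 q20993 (flp_c L740375) q22292, e3 q20994 (flp_c L740387) q22293, e3 q20995 L726491 q19140, e3 q20996 L726497 q19141, e3 q20997 L726507 q19142, e3 q20998 L726523 q19781, e3 q20999 (flp_c L743600) q22586, e3 q21000 (flp_c L743610) q22587, e3 q21001 (flp_c L743618) q22588, e3 q21002 L743662 q22594, e3 q21003 (flp_c L736390) q21976, e3 q21004 (flp_c L736404) q21977, e3 q21005 (flp_c L741922) q22437, e3 q21006 (flp_c L741937) q22438, e3 q21007 L726590 q19826, e3 q21008 (flp_c L736452) q21980, e3 q21009 (flp_c L736468) q21981, e3 q21010 (flp_c L735405) q21900, e3 q21011 (flp_c L735249) q21889, e3 q21012 (flp_c L740568) q22308, e3 q21013 (flp_c L740575) q22309, e3 q21014 (flp_c L740584) q22310, e3 q21015 (flp_c L740592) q22311, e3 q21016 L726659 q19156, e3 q21017 L726667 q19157, e3 q21018 L726677 q19158, e3 q21019 L743815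 q22613, e3 q21020 L726691 q19782, e3 q21021 (flp_c L743793) q22610, e3 q21022 (flp_c L743803) q22611, e3 q21023 L743857 q22618, e3 q21024 (flp_c L726719) q19159, e3 q21025 (flp_c L736604) q21994, e3 q21026 L726738 q19805, e3 q21027 L726749 q19966, e3 q21028 (flp_c L735431) q21902, e3 q21029 L726771 q19168, e3 q21030 L726781 q19169, e3 q21031 L726789 q19170, e3 q21032 L743913 q22626, e3 q21033 L726805 q19334, e3 q21034 (flp_c L743891) q22623, e3 q21035 (flp_c L743901) q22624, e3 q21036 L743953 q22630, e3 q21037 (flp_c L726836) q19171, e3 q21038 L726851 q19252, e3 q21039 L726866 q19827, e3 q21040 (flp_c L736704) q22002, e3 q21041 (flp_c L736199) q21961, e3 q21042 L726888 q19182, e3 q21043 L726897 q19183, e3 q21044 L744027 q22638, e3 q21045 (flp_c L726908) q19180, e3 q21046 L726923 q19458, e3 q21047 L726936 q19333, e3 q21048 (flp_c L744014) q22636, e3 q21049 L744058 q22642, e3 q21050 (flp_c L726956) q19184, e3 q21051 (flp_c L744084) q22645, e3 q21052 (flp_c L736818) q22011, e3 q21053 L726978 q19842, e3 q21054 L726992 q19846,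 e3 q21055 L727002 q19195, trivial⟩ (by decide +kernel)

theorem ce_c_329 : ∀ r, r < 64 → sm gc (Qf (21056 + r)) = Qf (tab Gen.c (21056 + r)) :=
  edges_tab (sm gc) Qf (tab Gen.c) 21056 [(21056, 22560), (21057, 19522), (21058, 22650), (21059, 19196), (21060, 19404), (21061, 21061), (21062, 22652), (21063, 19201), (21064, 22655), (21065, 22019), (21066, 22657), (21067, 19204), (21068, 22659), (21069, 22023), (21070, 19206), (21071, 19426), (21072, 19208), (21073, 21899), (21074, 19774), (21075, 22343), (21076, 22344), (21077, 19780), (21078, 22439), (21079, 21896), (21080, 22353), (21081, 22665), (21082, 19226), (21083, 22667), (21084, 19332), (21085, 19236), (21086, 21086), (21087, 19240), (21088, 21088), (21089, 21089), (21090, 21090), (21091, 19253), (21092, 19247), (21093, 22411), (21094, 21956), (21095, 22633), (21096, 22675), (21097, 22679), (21098, 19259), (21099, 22681), (21100, 19261), (21101, 22682), (21102, 19566), (21103, 19272), (21104, 22075), (21105, 21747), (21106, 21748), (21107, 21756), (21108, 22267), (21109,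 22268), (21110, 21749), (21111, 21750), (21112, 21752), (21113, 21745), (21114, 21746), (21115, 21720), (21116, 21721), (21117, 19296), (21118, 19297), (21119, 22692)]
    ⟨e3 q21056 (flp_c L743298) q22560, e3 q21057 L727016 q19522, e3 q21058 L744130 q22650, e3 q21059 (flp_c L727031) q19196, e3 q21060 L727043 q19404, e3 q21061 L727056 q21061, e3 q21062 L744149 q22652, e3 q21063 (flp_c L727071) q19201, e3 q21064 (flp_c L744171) q22655, e3 q21065 (flp_c L736928) q22019, e3 q21066 L744191 q22657, e3 q21067 (flp_c L727100) q19204, e3 q21068 (flp_c L744214) q22659, e3 q21069 (flp_c L736970) q22023, e3 q21070 L727125 q19206, e3 q21071 L727130 q19426, e3 q21072 (flp_c L727140) q19208, e3 q21073 (flp_c L735389) q21899, e3 q21074 L727176 q19774, e3 q21075 (flp_c L740870) q22343, e3 q21076 (flp_c L740882) q22344, e3 q21077 L727200 q19780, e3 q21078 (flp_c L741953) q22439, e3 q21079 (flp_c L735353) q21896, e3 q21080 (flp_c L740981) q22353, e3 q21081 L744270 q22665, e3 q21082 (flp_c L727243) q19226, e3 q21083 (flp_c L744297) q22667,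 e3 q21084 L727272 q19332, e3 q21085 L727284 q19236, e3 q21086 L727300 q21086, e3 q21087 L727312 q19240, e3 q21088 L727326 q21088, e3 q21089 L727340 q21089, e3 q21090 L727353 q21090, e3 q21091 L727362 q19253, e3 q21092 L727376 q19247, e3 q21093 (flp_c L741644) q22411, e3 q21094 (flp_c L736129) q21956, e3 q21095 (flp_c L743982) q22633, e3 q21096 (flp_c L744396) q22675, e3 q21097 L744437 q22679, e3 q21098 (flp_c L727442) q19259, e3 q21099 (flp_c L744467) q22681, e3 q21100 L727472 q19261, e3 q21101 (flp_c L744479) q22682, e3 q21102 L727491 q19566, e3 q21103 L727505 q19272, e3 q21104 (flp_c L737725) q22075, e3 q21105 (flp_c L733236) q21747, e3 q21106 (flp_c L733254) q21748, e3 q21107 (flp_c L733379) q21756, e3 q21108 (flp_c L740123) q22267, e3 q21109 (flp_c L740139) q22268, e3 q21110 (flp_c L733272) q21749, e3 q21111 (flp_c L733290) q21750, e3 q21112 (flp_c L733319) q21752, e3 q21113 (flp_c L733198) q21745, e3 q21114 (flp_c L733216) q21746, e3 q21115 (flp_c L732802) q21720, e3 q21116 (flp_c L732818) q21721, e3 q21117 L727672 q19296,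 e3 q21118 L727682 q19297, e3 q21119 (flp_c L744598) q22692, trivial⟩ (by decide +kernel)

theorem ce_c_330 : ∀ r, r < 64 → sm gc (Qf (21120 + r)) = Qf (tab Gen.c (21120 + r)) :=
  edges_tab (sm gc) Qf (tab Gen.c) 21120 [(21120, 19669), (21121, 19670), (21122, 19671), (21123, 19484), (21124, 19486), (21125, 19304), (21126, 19305), (21127, 19306), (21128, 22698), (21129, 22699), (21130, 22703), (21131, 19682), (21132, 19685), (21133, 19686), (21134, 19316), (21135, 19317), (21136, 22280), (21137, 22706), (21138, 22139), (21139, 19323), (21140, 19654), (21141, 22134), (21142, 19539), (21143, 19328), (21144, 19329), (21145, 22709), (21146, 22710), (21147, 21983), (21148, 22035), (21149, 22615), (21150, 21984), (21151, 19448), (21152, 19459), (21153, 19753), (21154, 19754), (21155, 19342), (21156, 19490), (21157, 22721), (21158, 19463), (21159, 19763), (21160, 19502), (21161, 19464), (21162, 21874), (21163, 19360), (21164, 21875), (21165, 19541), (21166, 19362), (21167, 19953), (21168, 19544), (21169, 19545), (21170, 22383), (21171,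 22387), (21172, 22385), (21173, 21939), (21174, 19370), (21175, 19371), (21176, 22730), (21177, 19373), (21178, 19852), (21179, 21795), (21180, 19377), (21181, 19378), (21182, 22603), (21183, 22736)]
    ⟨e3 q21120 L727706 q19669, e3 q21121 L727720 q19670, e3 q21122 L727732 q19671, e3 q21123 L727746 q19484, e3 q21124 L727761 q19486, e3 q21125 L727773 q19304, e3 q21126 L727785 q19305, e3 q21127 L727795 q19306, e3 q21128 (flp_c L744677) q22698, e3 q21129 (flp_c L744689) q22699, e3 q21130 L744723 q22703, e3 q21131 L727831 q19682, e3 q21132 L727845 q19685, e3 q21133 L727856 q19686, e3 q21134 L727868 q19316, e3 q21135 L727877 q19317, e3 q21136 (flp_c L740262) q22280, e3 q21137 (flp_c L744752) q22706, e3 q21138 (flp_c L738564) q22139, e3 q21139 L727911 q19323, e3 q21140 L727921 q19654, e3 q21141 (flp_c L738507) q22134, e3 q21142 L727940 q19539, e3 q21143 L727951 q19328, e3 q21144 L727963 q19329, e3 q21145 (flp_c L744782) q22709, e3 q21146 (flp_c L744794) q22710, e3 q21147 (flp_c L736488) q21983, e3 q21148 (flp_c L737112) q22035,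 e3 q21149 (flp_c L743835) q22615, e3 q21150 (flp_c L736502) q21984, e3 q21151 L728056 q19448, e3 q21152 L728070 q19459, e3 q21153 L728082 q19753, e3 q21154 L728092 q19754, e3 q21155 L728100 q19342, e3 q21156 L728112 q19490, e3 q21157 L744914 q22721, e3 q21158 L728132 q19463, e3 q21159 L728145 q19763, e3 q21160 L728159 q19502, e3 q21161 L728169 q19464, e3 q21162 (flp_c L735027) q21874, e3 q21163 L728191 q19360, e3 q21164 (flp_c L735046) q21875, e3 q21165 L728209 q19541, e3 q21166 L728218 q19362, e3 q21167 L728234 q19953, e3 q21168 L728240 q19544, e3 q21169 L728252 q19545, e3 q21170 (flp_c L741322) q22383, e3 q21171 (flp_c L741368) q22387, e3 q21172 (flp_c L741346) q22385, e3 q21173 (flp_c L735907) q21939, e3 q21174 L728304 q19370, e3 q21175 L728312 q19371, e3 q21176 (flp_c L745008) q22730, e3 q21177 L728330 q19373, e3 q21178 L728347 q19852, e3 q21179 (flp_c L733928) q21795, e3 q21180 L728365 q19377, e3 q21181 L728377 q19378, e3 q21182 (flp_c L743744) q22603, e3 q21183 (flp_c L745074) q22736, trivial⟩ (by decide +kernel)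

theorem ce_c_331 : ∀ r, r < 64 → sm gc (Qf (21184 + r)) = Qf (tab Gen.c (21184 + r)) :=
  edges_tab (sm gc) Qf (tab Gen.c) 21184 [(21184, 22737), (21185, 21786), (21186, 21796), (21187, 19873), (21188, 19382), (21189, 19383), (21190, 19384), (21191, 22744), (21192, 22745), (21193, 22251), (21194, 21792), (21195, 21799), (21196, 19863), (21197, 19874), (21198, 19391), (21199, 19392), (21200, 19917), (21201, 22754), (21202, 22758), (21203, 21797), (21204, 19397), (21205, 19398), (21206, 19906), (21207, 22760), (21208, 22646), (21209, 19403), (21210, 19771), (21211, 19918), (21212, 19923), (21213, 21213), (21214, 19409), (21215, 21215), (21216, 19908), (21217, 19414), (21218, 19986), (21219, 21219), (21220, 22252), (21221, 21221), (21222, 22660), (21223, 19909), (21224, 22767), (21225, 19992), (21226, 21226), (21227, 22656), (21228, 19972), (21229, 19995), (21230, 19993), (21231, 19808), (21232, 19809), (21233, 19810), (21234, 19444), (21235, 19432), (21236, 19433), (21237, 22785), (21238, 19435), (21239, 19436), (21240, 22789),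 (21241, 22790), (21242, 19820), (21243, 19821), (21244, 19832), (21245, 19440), (21246, 19441), (21247, 22797)]
    ⟨e3 q21184 (flp_c L745088) q22737, e3 q21185 (flp_c L733810) q21786, e3 q21186 (flp_c L733942) q21796, e3 q21187 L728432 q19873, e3 q21188 L728440 q19382, e3 q21189 L728452 q19383, e3 q21190 L728462 q19384, e3 q21191 (flp_c L745155) q22744, e3 q21192 (flp_c L745167) q22745, e3 q21193 (flp_c L739953) q22251, e3 q21194 (flp_c L733887) q21792, e3 q21195 (flp_c L733983) q21799, e3 q21196 L728518 q19863, e3 q21197 L728529 q19874, e3 q21198 L728541 q19391, e3 q21199 L728551 q19392, e3 q21200 L728561 q19917, e3 q21201 (flp_c L745262) q22754, e3 q21202 L745290 q22758, e3 q21203 (flp_c L733955) q21797, e3 q21204 L728592 q19397, e3 q21205 L728603 q19398, e3 q21206 L728619 q19906, e3 q21207 (flp_c L745309) q22760, e3 q21208 (flp_c L744090) q22646, e3 q21209 L728649 q19403, e3 q21210 L728659 q19771, e3 q21211 L728666 q19918, e3 q21212 L728676 q19923, e3 q21213 L728689 q21213, e3 q21214 L728701 q19409, e3 q21215 L728715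 q21215, e3 q21216 L728725 q19908, e3 q21217 L728738 q19414, e3 q21218 L728757 q19986, e3 q21219 L728765 q21219, e3 q21220 (flp_c L739963) q22252, e3 q21221 L728784 q21221, e3 q21222 (flp_c L744223) q22660, e3 q21223 L728804 q19909, e3 q21224 (flp_c L745392) q22767, e3 q21225 L728821 q19992, e3 q21226 L728830 q21226, e3 q21227 (flp_c L744180) q22656, e3 q21228 L728848 q19972, e3 q21229 L728859 q19995, e3 q21230 L728869 q19993, e3 q21231 L728875 q19808, e3 q21232 L728890 q19809, e3 q21233 L728902 q19810, e3 q21234 L728915 q19444, e3 q21235 L728920 q19432, e3 q21236 L728930 q19433, e3 q21237 (flp_c L745567) q22785, e3 q21238 L728952 q19435, e3 q21239 L728960 q19436, e3 q21240 (flp_c L745607) q22789, e3 q21241 (flp_c L745615) q22790, e3 q21242 L728989 q19820, e3 q21243 L729001 q19821, e3 q21244 L729014 q19832, e3 q21245 L729019 q19440, e3 q21246 L729029 q19441, e3 q21247 (flp_c L745689) q22797, trivial⟩ (by decide +kernel)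

theorem ce_c_332 : ∀ r, r < 64 → sm gc (Qf (21248 + r)) = Qf (tab Gen.c (21248 + r)) :=
  edges_tab (sm gc) Qf (tab Gen.c) 21248 [(21248, 22521), (21249, 19829), (21250, 19830), (21251, 19831), (21252, 19822), (21253, 21881), (21254, 22784), (21255, 19449), (21256, 19450), (21257, 22640), (21258, 22715), (21259, 22807), (21260, 22812), (21261, 19844), (21262, 22627), (21263, 19847), (21264, 19848), (21265, 21888), (21266, 19460), (21267, 22716), (21268, 22722), (21269, 19467), (21270, 19468), (21271, 19469), (21272, 22815), (21273, 22816), (21274, 19866), (21275, 19867), (21276, 19868), (21277, 19647), (21278, 21782), (21279, 21803), (21280, 19476), (21281, 19477), (21282, 22036), (21283, 22827), (21284, 22831), (21285, 19877), (21286, 19878), (21287, 19879), (21288, 22429), (21289, 22182), (21290, 22430), (21291, 19882), (21292, 19883), (21293, 19884), (21294, 21901), (21295, 19785), (21296, 21876), (21297, 22696), (21298, 21877), (21299, 22697), (21300, 19491), (21301, 19492), (21302, 19493), (21303, 22849), (21304, 22720),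 (21305, 22846), (21306, 22847), (21307, 22854), (21308, 19494), (21309, 19900), (21310, 19901), (21311, 19902)]
    ⟨e3 q21248 (flp_c L742862) q22521, e3 q21249 L729060 q19829, e3 q21250 L729074 q19830, e3 q21251 L729082 q19831, e3 q21252 L729090 q19822, e3 q21253 (flp_c L735132) q21881, e3 q21254 (flp_c L745556) q22784, e3 q21255 L729110 q19449, e3 q21256 L729120 q19450, e3 q21257 (flp_c L744043) q22640, e3 q21258 (flp_c L744860) q22715, e3 q21259 (flp_c L745784) q22807, e3 q21260 L745827 q22812, e3 q21261 L729167 q19844, e3 q21262 (flp_c L743929) q22627, e3 q21263 L729190 q19847, e3 q21264 L729206 q19848, e3 q21265 (flp_c L735240) q21888, e3 q21266 L729227 q19460, e3 q21267 (flp_c L744874) q22716, e3 q21268 (flp_c L744928) q22722, e3 q21269 L729260 q19467, e3 q21270 L729265 q19468, e3 q21271 L729273 q19469, e3 q21272 (flp_c L745861) q22815, e3 q21273 (flp_c L745868) q22816, e3 q21274 L729297 q19866, e3 q21275 L729309 q19867, e3 q21276 L729319 q19868, e3 q21277 L729327 q19647, e3 q21278 (flp_c L733746) q21782, e3 q21279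 (flp_c L734042) q21803, e3 q21280 L729350 q19476, e3 q21281 L729360 q19477, e3 q21282 (flp_c L737132) q22036, e3 q21283 (flp_c L745966) q22827, e3 q21284 L745998 q22831, e3 q21285 L729398 q19877, e3 q21286 L729410 q19878, e3 q21287 L729418 q19879, e3 q21288 (flp_c L741819) q22429, e3 q21289 (flp_c L739114) q22182, e3 q21290 (flp_c L741832) q22430, e3 q21291 L729449 q19882, e3 q21292 L729461 q19883, e3 q21293 L729471 q19884, e3 q21294 (flp_c L735421) q21901, e3 q21295 L729487 q19785, e3 q21296 (flp_c L735054) q21876, e3 q21297 (flp_c L744650) q22696, e3 q21298 (flp_c L735071) q21877, e3 q21299 (flp_c L744667) q22697, e3 q21300 L729516 q19491, e3 q21301 L729522 q19492, e3 q21302 L729530 q19493, e3 q21303 L746132 q22849, e3 q21304 (flp_c L744910) q22720, e3 q21305 (flp_c L746114) q22846, e3 q21306 (flp_c L746122) q22847, e3 q21307 L746160 q22854, e3 q21308 (flp_c L729564) q19494, e3 q21309 L729572 q19900, e3 q21310 L729585 q19901, e3 q21311 L729597 q19902, trivial⟩ (by decide +kernel)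

theorem ce_c_333 : ∀ r, r < 64 → sm gc (Qf (21312 + r)) = Qf (tab Gen.c (21312 + r)) :=
  edges_tab (sm gc) Qf (tab Gen.c) 21312 [(21312, 19903), (21313, 19904), (21314, 19955), (21315, 19503), (21316, 22388), (21317, 22548), (21318, 19910), (21319, 19911), (21320, 19912), (21321, 19913), (21322, 22649), (21323, 19516), (21324, 19517), (21325, 22389), (21326, 22555), (21327, 22866), (21328, 21835), (21329, 19921), (21330, 19922), (21331, 19526), (21332, 21872), (21333, 19540), (21334, 19712), (21335, 21783), (21336, 21804), (21337, 21850), (21338, 22037), (21339, 22183), (21340, 22431), (21341, 22351), (21342, 21906), (21343, 21878), (21344, 22817), (21345, 22871), (21346, 22725), (21347, 22726), (21348, 19557), (21349, 22072), (21350, 19558), (21351, 19560), (21352, 21708), (21353, 19570), (21354, 19575), (21355, 22082), (21356, 22884), (21357, 22684), (21358, 22885), (21359, 19567), (21360, 22059), (21361, 22054), (21362, 21710), (21363, 22056), (21364, 22887), (21365, 22305), (21366, 22323), (21367, 22300), (21368, 22301),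 (21369, 19583), (21370, 19584), (21371, 22890), (21372, 19638), (21373, 19641), (21374, 21374), (21375, 19643)]
    ⟨e3 q21312 L729606 q19903, e3 q21313 L729617 q19904, e3 q21314 L729633 q19955, e3 q21315 L729639 q19503, e3 q21316 (flp_c L741385) q22388, e3 q21317 L743172 q22548, e3 q21318 L729668 q19910, e3 q21319 L729681 q19911, e3 q21320 L729695 q19912, e3 q21321 L729706 q19913, e3 q21322 (flp_c L744123) q22649, e3 q21323 L729719 q19516, e3 q21324 L729728 q19517, e3 q21325 (flp_c L741398) q22389, e3 q21326 L743254 q22555, e3 q21327 (flp_c L746281) q22866, e3 q21328 (flp_c L734474) q21835, e3 q21329 L729769 q19921, e3 q21330 L729783 q19922, e3 q21331 L729793 q19526, e3 q21332 (flp_c L734994) q21872, e3 q21333 L729809 q19540, e3 q21334 L729820 q19712, e3 q21335 (flp_c L733764) q21783, e3 q21336 (flp_c L734060) q21804, e3 q21337 (flp_c L734683) q21850, e3 q21338 (flp_c L737140) q22037, e3 q21339 (flp_c L739130) q22183, e3 q21340 (flp_c L741848) q22431, e3 q21341 (flp_c L740966) q22351, e3 q21342 (flp_c L735490) q21906, e3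 q21343 (flp_c L735085) q21878, e3 q21344 (flp_c L745879) q22817, e3 q21345 (flp_c L746320) q22871, e3 q21346 (flp_c L744957) q22725, e3 q21347 (flp_c L744966) q22726, e3 q21348 L729898 q19557, e3 q21349 (flp_c L737679) q22072, e3 q21350 L729917 q19558, e3 q21351 L729929 q19560, e3 q21352 (flp_c L732604) q21708, e3 q21353 L729939 q19570, e3 q21354 L729947 q19575, e3 q21355 (flp_c L737805) q22082, e3 q21356 (flp_c L746408) q22884, e3 q21357 (flp_c L744509) q22684, e3 q21358 (flp_c L746416) q22885, e3 q21359 L729992 q19567, e3 q21360 (flp_c L737491) q22059, e3 q21361 (flp_c L737405) q22054, e3 q21362 (flp_c L732641) q21710, e3 q21363 (flp_c L737439) q22056, e3 q21364 (flp_c L746432) q22887, e3 q21365 (flp_c L740532) q22305, e3 q21366 (flp_c L740691) q22323, e3 q21367 (flp_c L740463) q22300, e3 q21368 (flp_c L740477) q22301, e3 q21369 L730089 q19583, e3 q21370 L730097 q19584, e3 q21371 (flp_c L746470) q22890, e3 q21372 L730113 q19638, e3 q21373 L730121 q19641, e3 q21374 L730131 q21374, e3 q21375 L730144 q19643, trivial⟩ (by decide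 +kernel)

theorem ce_c_334 : ∀ r, r < 64 → sm gc (Qf (21376 + r)) = Qf (tab Gen.c (21376 + r)) :=
  edges_tab (sm gc) Qf (tab Gen.c) 21376 [(21376, 22244), (21377, 19644), (21378, 22373), (21379, 19596), (21380, 19597), (21381, 22899), (21382, 19652), (21383, 22105), (21384, 19655), (21385, 22306), (21386, 19755), (21387, 19748), (21388, 19756), (21389, 19607), (21390, 19608), (21391, 19677), (21392, 22908), (21393, 22912), (21394, 19612), (21395, 21753), (21396, 19691), (21397, 22237), (21398, 21718), (21399, 19702), (21400, 19766), (21401, 19775), (21402, 22669), (21403, 19713), (21404, 19718), (21405, 19719), (21406, 22742), (21407, 19626), (21408, 19627), (21409, 22923), (21410, 22324), (21411, 22209), (21412, 21759), (21413, 21763), (21414, 21760), (21415, 19637), (21416, 22891), (21417, 22930), (21418, 22893), (21419, 22895), (21420, 22896), (21421, 21742), (21422, 21743), (21423, 22823), (21424, 22824), (21425, 19650), (21426, 22900), (21427, 22939), (21428, 22708), (21429, 22902), (21430, 22142), (21431, 19659), (21432,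 19660), (21433, 22090), (21434, 22942), (21435, 22144), (21436, 22145), (21437, 19665), (21438, 22307), (21439, 22950)]
    ⟨e3 q21376 (flp_c L739873) q22244, e3 q21377 L730159 q19644, e3 q21378 (flp_c L741212) q22373, e3 q21379 L730170 q19596, e3 q21380 L730176 q19597, e3 q21381 (flp_c L746542) q22899, e3 q21382 L730194 q19652, e3 q21383 (flp_c L738132) q22105, e3 q21384 L730206 q19655, e3 q21385 (flp_c L740544) q22306, e3 q21386 L730219 q19755, e3 q21387 L730226 q19748, e3 q21388 L730234 q19756, e3 q21389 L730242 q19607, e3 q21390 L730250 q19608, e3 q21391 L730258 q19677, e3 q21392 (flp_c L746614) q22908, e3 q21393 L746636 q22912, e3 q21394 L730278 q19612, e3 q21395 (flp_c L733339) q21753, e3 q21396 L730289 q19691, e3 q21397 (flp_c L739791) q22237, e3 q21398 (flp_c L732773) q21718, e3 q21399 L730307 q19702, e3 q21400 L730313 q19766, e3 q21401 L730321 q19775, e3 q21402 (flp_c L744328) q22669, e3 q21403 L730330 q19713, e3 q21404 L730335 q19718, e3 q21405 L730341 q19719, e3 q21406 (flp_c L745130) q22742, e3 q21407 L730358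 q19626, e3 q21408 L730366 q19627, e3 q21409 (flp_c L746715) q22923, e3 q21410 (flp_c L740711) q22324, e3 q21411 (flp_c L739467) q22209, e3 q21412 (flp_c L733429) q21759, e3 q21413 (flp_c L733483) q21763, e3 q21414 (flp_c L733445) q21760, e3 q21415 L730424 q19637, e3 q21416 (flp_c L746480) q22891, e3 q21417 L746762 q22930, e3 q21418 (flp_c L746496) q22893, e3 q21419 (flp_c L746517) q22895, e3 q21420 (flp_c L746524) q22896, e3 q21421 (flp_c L733144) q21742, e3 q21422 (flp_c L733162) q21743, e3 q21423 (flp_c L745932) q22823, e3 q21424 (flp_c L745943) q22824, e3 q21425 L730488 q19650, e3 q21426 (flp_c L746554) q22900, e3 q21427 L746815 q22939, e3 q21428 (flp_c L744775) q22708, e3 q21429 (flp_c L746565) q22902, e3 q21430 (flp_c L738610) q22142, e3 q21431 L730530 q19659, e3 q21432 L730538 q19660, e3 q21433 (flp_c L737897) q22090, e3 q21434 (flp_c L746835) q22942, e3 q21435 (flp_c L738634) q22144, e3 q21436 (flp_c L738650) q22145, e3 q21437 L730572 q19665, e3 q21438 (flp_c L740562) q22307, e3 q21439 L746889 q22950, trivial⟩ (by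 decide +kernel)

theorem ce_c_335 : ∀ r, r < 64 → sm gc (Qf (21440 + r)) = Qf (tab Gen.c (21440 + r)) :=
  edges_tab (sm gc) Qf (tab Gen.c) 21440 [(21440, 22170), (21441, 22171), (21442, 22416), (21443, 22694), (21444, 22695), (21445, 22943), (21446, 19889), (21447, 19890), (21448, 19679), (21449, 19680), (21450, 22961), (21451, 22910), (21452, 21714), (21453, 22959), (21454, 22966), (21455, 19681), (21456, 22155), (21457, 21768), (21458, 22704), (21459, 19687), (21460, 22161), (21461, 19693), (21462, 21715), (21463, 22915), (21464, 22916), (21465, 19709), (21466, 22165), (21467, 22352), (21468, 21770), (21469, 22417), (21470, 22033), (21471, 22970), (21472, 19927), (21473, 22822), (21474, 22872), (21475, 22920), (21476, 22162), (21477, 22921), (21478, 22380), (21479, 22381), (21480, 22382), (21481, 22384), (21482, 22982), (21483, 22395), (21484, 22365), (21485, 22366), (21486, 22367), (21487, 22368), (21488, 22987), (21489, 19739), (21490, 19740), (21491, 19741), (21492, 22904), (21493, 22988), (21494, 22989), (21495, 19788),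 (21496, 21979), (21497, 22032), (21498, 22302), (21499, 22304), (21500, 19749), (21501, 19750), (21502, 22906), (21503, 22997)]
    ⟨e3 q21440 (flp_c L738959) q22170, e3 q21441 (flp_c L738973) q22171, e3 q21442 (flp_c L741686) q22416, e3 q21443 (flp_c L744624) q22694, e3 q21444 (flp_c L744638) q22695, e3 q21445 (flp_c L746847) q22943, e3 q21446 L730636 q19889, e3 q21447 L730642 q19890, e3 q21448 L730648 q19679, e3 q21449 L730656 q19680, e3 q21450 L746957 q22961, e3 q21451 (flp_c L746624) q22910, e3 q21452 (flp_c L732704) q21714, e3 q21453 (flp_c L746947) q22959, e3 q21454 L746983 q22966, e3 q21455 (flp_c L730688) q19681, e3 q21456 (flp_c L738766) q22155, e3 q21457 (flp_c L733557) q21768, e3 q21458 (flp_c L744731) q22704, e3 q21459 (flp_c L730714) q19687, e3 q21460 L738852 q22161, e3 q21461 L730730 q19693, e3 q21462 (flp_c L732720) q21715, e3 q21463 (flp_c L746656) q22915, e3 q21464 (flp_c L746662) q22916, e3 q21465 L730759 q19709, e3 q21466 (flp_c L738904) q22165, e3 q21467 (flp_c L740972) q22352, e3 q21468 (flp_c L733592)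 q21770, e3 q21469 (flp_c L741700) q22417, e3 q21470 (flp_c L737099) q22033, e3 q21471 (flp_c L747007) q22970, e3 q21472 L730802 q19927, e3 q21473 (flp_c L745926) q22822, e3 q21474 (flp_c L746329) q22872, e3 q21475 (flp_c L746687) q22920, e3 q21476 (flp_c L738867) q22162, e3 q21477 (flp_c L746694) q22921, e3 q21478 (flp_c L741282) q22380, e3 q21479 (flp_c L741295) q22381, e3 q21480 (flp_c L741307) q22382, e3 q21481 (flp_c L741334) q22384, e3 q21482 L747085 q22982, e3 q21483 (flp_c L741471) q22395, e3 q21484 (flp_c L741119) q22365, e3 q21485 (flp_c L741131) q22366, e3 q21486 (flp_c L741146) q22367, e3 q21487 (flp_c L741158) q22368, e3 q21488 L747121 q22987, e3 q21489 L730919 q19739, e3 q21490 L730924 q19740, e3 q21491 L730932 q19741, e3 q21492 (flp_c L746582) q22904, e3 q21493 (flp_c L747129) q22988, e3 q21494 (flp_c L747136) q22989, e3 q21495 L730961 q19788, e3 q21496 (flp_c L736434) q21979, e3 q21497 (flp_c L737080) q22032, e3 q21498 (flp_c L740493) q22302, e3 q21499 (flp_c L740516) q22304, e3 q21500 L731000 q19749, e3 q21501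 L731010 q19750, e3 q21502 (flp_c L746600) q22906, e3 q21503 (flp_c L747199) q22997, trivial⟩ (by decide +kernel)

theorem ce_c_336 : ∀ r, r < 64 → sm gc (Qf (21504 + r)) = Qf (tab Gen.c (21504 + r)) :=
  edges_tab (sm gc) Qf (tab Gen.c) 21504 [(21504, 23001), (21505, 22576), (21506, 22577), (21507, 19796), (21508, 22717), (21509, 22905), (21510, 22907), (21511, 19759), (21512, 23009), (21513, 23010), (21514, 19760), (21515, 19789), (21516, 19803), (21517, 19767), (21518, 22761), (21519, 22917), (21520, 19797), (21521, 21953), (21522, 22764), (21523, 22350), (21524, 22570), (21525, 19778), (21526, 19779), (21527, 23017), (21528, 22590), (21529, 23021), (21530, 19786), (21531, 19787), (21532, 22841), (21533, 23022), (21534, 22993), (21535, 23012), (21536, 19792), (21537, 23027), (21538, 21945), (21539, 21957), (21540, 22578), (21541, 23004), (21542, 21933), (21543, 21973), (21544, 23033), (21545, 19801), (21546, 21960), (21547, 22621), (21548, 21951), (21549, 22535), (21550, 22781), (21551, 22529), (21552, 22782), (21553, 22783),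 (21554, 19833), (21555, 19834), (21556, 19814), (21557, 22405), (21558, 23044), (21559, 19817), (21560, 19818), (21561, 19819), (21562, 23045), (21563, 23046), (21564, 22793), (21565, 22794), (21566, 22804), (21567, 19825)]
    ⟨e3 q21504 L747229 q23001, e3 q21505 (flp_c L743480) q22576, e3 q21506 (flp_c L743497) q22577, e3 q21507 L731067 q19796, e3 q21508 (flp_c L744886) q22717, e3 q21509 (flp_c L746591) q22905, e3 q21510 (flp_c L746608) q22907, e3 q21511 L731092 q19759, e3 q21512 L747285 q23009, e3 q21513 L747289 q23010, e3 q21514 (flp_c L731106) q19760, e3 q21515 L731114 q19789, e3 q21516 L731125 q19803, e3 q21517 L731134 q19767, e3 q21518 (flp_c L745326) q22761, e3 q21519 (flp_c L746668) q22917, e3 q21520 L731159 q19797, e3 q21521 (flp_c L736087) q21953, e3 q21522 (flp_c L745356) q22764, e3 q21523 (flp_c L740949) q22350, e3 q21524 (flp_c L743422) q22570, e3 q21525 L731195 q19778, e3 q21526 L731203 q19779, e3 q21527 (flp_c L747336) q23017, e3 q21528 (flp_c L743634) q22590, e3 q21529 L747362 q23021, e3 q21530 L731233 q19786,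 e3 q21531 L731243 q19787, e3 q21532 (flp_c L746083) q22841, e3 q21533 (flp_c L747372) q23022, e3 q21534 (flp_c L747166) q22993, e3 q21535 (flp_c L747301) q23012, e3 q21536 L731283 q19792, e3 q21537 L747405 q23027, e3 q21538 (flp_c L735984) q21945, e3 q21539 (flp_c L736144) q21957, e3 q21540 (flp_c L743511) q22578, e3 q21541 (flp_c L747262) q23004, e3 q21542 (flp_c L735822) q21933, e3 q21543 (flp_c L736352) q21973, e3 q21544 L747443 q23033, e3 q21545 (flp_c L731341) q19801, e3 q21546 (flp_c L736180) q21960, e3 q21547 (flp_c L743873) q22621, e3 q21548 (flp_c L736057) q21951, e3 q21549 (flp_c L743022) q22535, e3 q21550 (flp_c L745523) q22781, e3 q21551 (flp_c L742962) q22529, e3 q21552 (flp_c L745534) q22782, e3 q21553 (flp_c L745546) q22783, e3 q21554 L731410 q19833, e3 q21555 L731416 q19834, e3 q21556 L731424 q19814, e3 q21557 (flp_c L741583) q22405, e3 q21558 L747511 q23044, e3 q21559 L731440 q19817, e3 q21560 L731447 q19818, e3 q21561 L731455 q19819, e3 q21562 (flp_c L747517) q23045, e3 q21563 (flp_c L747524) q23046, e3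 q21564 (flp_c L745645) q22793, e3 q21565 (flp_c L745657) q22794, e3 q21566 (flp_c L745764) q22804, e3 q21567 L731505 q19825, trivial⟩ (by decide +kernel)

theorem ce_c_337 : ∀ r, r < 64 → sm gc (Qf (21568 + r)) = Qf (tab Gen.c (21568 + r)) :=
  edges_tab (sm gc) Qf (tab Gen.c) 21568 [(21568, 23052), (21569, 22599), (21570, 22634), (21571, 19828), (21572, 22500), (21573, 23054), (21574, 22801), (21575, 22802), (21576, 22788), (21577, 22795), (21578, 22796), (21579, 23040), (21580, 23041), (21581, 19838), (21582, 19839), (21583, 19840), (21584, 23068), (21585, 23065), (21586, 23066), (21587, 23071), (21588, 19841), (21589, 22647), (21590, 19997), (21591, 22733), (21592, 22814), (21593, 23075), (21594, 19853), (21595, 19854), (21596, 22731), (21597, 23076), (21598, 19855), (21599, 19859), (21600, 21886), (21601, 19864), (21602, 19865), (21603, 22752), (21604, 23080), (21605, 23084), (21606, 22820), (21607, 22821), (21608, 21897), (21609, 19875), (21610, 23089), (21611, 22442), (21612, 22743), (21613, 22753), (21614, 23094),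 (21615, 19876), (21616, 22832), (21617, 22833), (21618, 22440), (21619, 22441), (21620, 22837), (21621, 22838), (21622, 23101), (21623, 21774), (21624, 21890), (21625, 21879), (21626, 21892), (21627, 22957), (21628, 23107), (21629, 19896), (21630, 19897), (21631, 23110)]
    ⟨e3 q21568 L747567 q23052, e3 q21569 (flp_c L743708) q22599, e3 q21570 (flp_c L743997) q22634, e3 q21571 (flp_c L731533) q19828, e3 q21572 (flp_c L742643) q22500, e3 q21573 (flp_c L747583) q23054, e3 q21574 (flp_c L745733) q22801, e3 q21575 (flp_c L745747) q22802, e3 q21576 (flp_c L745602) q22788, e3 q21577 (flp_c L745667) q22795, e3 q21578 (flp_c L745678) q22796, e3 q21579 (flp_c L747495) q23040, e3 q21580 (flp_c L747501) q23041, e3 q21581 L731599 q19838, e3 q21582 L731607 q19839, e3 q21583 L731615 q19840, e3 q21584 L747678 q23068, e3 q21585 (flp_c L747656) q23065, e3 q21586 (flp_c L747664) q23066, e3 q21587 L747698 q23071, e3 q21588 (flp_c L731647) q19841, e3 q21589 (flp_c L744106) q22647, e3 q21590 L731666 q19997, e3 q21591 (flp_c L745042) q22733,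 e3 q21592 (flp_c L745849) q22814, e3 q21593 L747729 q23075, e3 q21594 L731702 q19853, e3 q21595 L731711 q19854, e3 q21596 (flp_c L745022) q22731, e3 q21597 (flp_c L747740) q23076, e3 q21598 (flp_c L731734) q19855, e3 q21599 L731744 q19859, e3 q21600 (flp_c L735207) q21886, e3 q21601 L731760 q19864, e3 q21602 L731767 q19865, e3 q21603 (flp_c L745239) q22752, e3 q21604 (flp_c L747774) q23080, e3 q21605 L747794 q23084, e3 q21606 (flp_c L745900) q22820, e3 q21607 (flp_c L745912) q22821, e3 q21608 (flp_c L735367) q21897, e3 q21609 L731819 q19875, e3 q21610 L747834 q23089, e3 q21611 (flp_c L741990) q22442, e3 q21612 (flp_c L745141) q22743, e3 q21613 (flp_c L745252) q22753, e3 q21614 L747872 q23094, e3 q21615 (flp_c L731859) q19876, e3 q21616 (flp_c L746008) q22832, e3 q21617 (flp_c L746020) q22833, e3 q21618 (flp_c L741968) q22440, e3 q21619 (flp_c L741978) q22441, e3 q21620 (flp_c L746051) q22837, e3 q21621 (flp_c L746063) q22838, e3 q21622 L747918 q23101, e3 q21623 (flp_c L733639) q21774, e3 q21624 (flp_c L735262) q21890, e3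 q21625 (flp_c L735098) q21879, e3 q21626 (flp_c L735289) q21892, e3 q21627 (flp_c L746935) q22957, e3 q21628 L747950 q23107, e3 q21629 L731955 q19896, e3 q21630 L731963 q19897, e3 q21631 L747966 q23110, trivial⟩ (by decide +kernel)

theorem ce_c_338 : ∀ r, r < 64 → sm gc (Qf (21632 + r)) = Qf (tab Gen.c (21632 + r)) :=
  edges_tab (sm gc) Qf (tab Gen.c) 21632 [(21632, 19894), (21633, 23113), (21634, 22443), (21635, 23108), (21636, 23116), (21637, 19898), (21638, 22855), (21639, 22856), (21640, 22857), (21641, 22858), (21642, 23121), (21643, 22746), (21644, 22762), (21645, 22446), (21646, 22769), (21647, 22862), (21648, 22864), (21649, 23126), (21650, 19914), (21651, 19920), (21652, 21894), (21653, 22756), (21654, 22765), (21655, 22869), (21656, 22763), (21657, 19978), (21658, 22445), (21659, 22167), (21660, 21660), (21661, 21661), (21662, 19945), (21663, 19936), (21664, 21664), (21665, 22549), (21666, 21666), (21667, 23139), (21668, 19948), (21669, 19949), (21670, 22016), (21671, 22412), (21672, 23134), (21673, 19947), (21674,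 23144), (21675, 23141), (21676, 22723), (21677, 22813), (21678, 21678), (21679, 21679), (21680, 21680), (21681, 22779), (21682, 21775), (21683, 21891), (21684, 21880), (21685, 23128), (21686, 23079), (21687, 22770), (21688, 19980), (21689, 23152), (21690, 22778), (21691, 19982), (21692, 23154), (21693, 22771), (21694, 22780), (21695, 19989)]
    ⟨e3 q21632 (flp_c L731973) q19894, e3 q21633 (flp_c L747982) q23113, e3 q21634 (flp_c L742002) q22443, e3 q21635 (flp_c L747956) q23108, e3 q21636 L747992 q23116, e3 q21637 (flp_c L731997) q19898, e3 q21638 (flp_c L746166) q22855, e3 q21639 (flp_c L746174) q22856, e3 q21640 (flp_c L746187) q22857, e3 q21641 (flp_c L746200) q22858, e3 q21642 L748020 q23121, e3 q21643 (flp_c L745181) q22746, e3 q21644 (flp_c L745333) q22762, e3 q21645 (flp_c L742034) q22446, e3 q21646 (flp_c L745407) q22769, e3 q21647 (flp_c L746239) q22862, e3 q21648 (flp_c L746264) q22864, e3 q21649 L748062 q23126, e3 q21650 (flp_c L732097) q19914, e3 q21651 L732107 q19920, e3 q21652 (flp_c L735325) q21894, e3 q21653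 (flp_c L745276) q22756, e3 q21654 (flp_c L745363) q22765, e3 q21655 (flp_c L746303) q22869, e3 q21656 (flp_c L745344) q22763, e3 q21657 L732153 q19978, e3 q21658 (flp_c L742024) q22445, e3 q21659 (flp_c L738931) q22167, e3 q21660 L732179 q21660, e3 q21661 L732193 q21661, e3 q21662 L732203 q19945, e3 q21663 L732212 q19936, e3 q21664 L732226 q21664, e3 q21665 (flp_c L743178) q22549, e3 q21666 L732243 q21666, e3 q21667 L748162 q23139, e3 q21668 L732257 q19948, e3 q21669 L732263 q19949, e3 q21670 (flp_c L736890) q22016, e3 q21671 (flp_c L741648) q22412, e3 q21672 (flp_c L748129) q23134, e3 q21673 L732280 q19947, e3 q21674 (flp_c L748192) q23144, e3 q21675 (flp_c L748175) q23141, e3 q21676 (flp_c L744944) q22723, e3 q21677 (flp_c L745840) q22813, e3 q21678 L732311 q21678, e3 q21679 L732323 q21679, e3 q21680 L732335 q21680, e3 q21681 (flp_c L745501) q22779, e3 q21682 (flp_c L733655) q21775, e3 q21683 (flp_c L735276) q21891, e3 q21684 (flp_c L735110) q21880, e3 q21685 (flp_c L748080) q23128, e3 q21686 (flp_c L747769) q23079, e3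 q21687 (flp_c L745424) q22770, e3 q21688 (flp_c L732386) q19980, e3 q21689 (flp_c L748248) q23152, e3 q21690 (flp_c L745490) q22778, e3 q21691 L732412 q19982, e3 q21692 (flp_c L748266) q23154, e3 q21693 (flp_c L745430) q22771, e3 q21694 (flp_c L745511) q22780, e3 q21695 (flp_c L732442) q19989, trivial⟩ (by decide +kernel)

theorem ce_c_339 : ∀ r, r < 64 → sm gc (Qf (21696 + r)) = Qf (tab Gen.c (21696 + r)) :=
  edges_tab (sm gc) Qf (tab Gen.c) 21696 [(21696, 23156), (21697, 21908), (21698, 22777), (21699, 22370), (21700, 23157), (21701, 20000), (21702, 20346), (21703, 20446), (21704, 20434), (21705, 20016), (21706, 23159), (21707, 20017), (21708, 21352), (21709, 20414), (21710, 21362), (21711, 20023), (21712, 20450), (21713, 20699), (21714, 21452), (21715, 21462), (21716, 20716), (21717, 20727), (21718, 21398), (21719, 20658), (21720, 21115), (21721, 21116), (21722, 20036), (21723, 20037), (21724, 20038), (21725, 23167), (21726, 23168), (21727, 20668), (21728, 20674), (21729, 20096), (21730, 20452), (21731, 20456), (21732,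 20525), (21733, 20048), (21734, 20049), (21735, 23175), (21736, 23177), (21737, 20530), (21738, 20531), (21739, 20054), (21740, 23178), (21741, 20057), (21742, 21421), (21743, 21422), (21744, 20532), (21745, 21113), (21746, 21114), (21747, 21105), (21748, 21106), (21749, 21110), (21750, 21111), (21751, 20455), (21752, 21112), (21753, 21395), (21754, 20457), (21755, 20564), (21756, 21107), (21757, 20089), (21758, 20591), (21759, 21412)]
    ⟨e3 q21696 (flp_c L748281) q23156, e3 q21697 (flp_c L735519) q21908, e3 q21698 (flp_c L745479) q22777, e3 q21699 (flp_c L741185) q22370, e3 q21700 L748286 q23157, e3 q21701 (flp_c L732477) q20000, e3 q21702 L732487 q20346, e3 q21703 L732506 q20446, e3 q21704 L732524 q20434, e3 q21705 L732544 q20016, e3 q21706 L748310 q23159, e3 q21707 (flp_c L732574) q20017, e3 q21708 L732604 q21352, e3 q21709 L732613 q20414, e3 q21710 L732641 q21362, e3 q21711 (flp_c L732647) q20023, e3 q21712 L732678 q20450, e3 q21713 L732686 q20699, e3 q21714 L732704 q21452, e3 q21715 L732720 q21462, e3 q21716 L732738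 q20716, e3 q21717 L732753 q20727, e3 q21718 L732773 q21398, e3 q21719 L732784 q20658, e3 q21720 L732802 q21115, e3 q21721 L732818 q21116, e3 q21722 L732836 q20036, e3 q21723 L732854 q20037, e3 q21724 L732870 q20038, e3 q21725 (flp_c L748457) q23167, e3 q21726 (flp_c L748475) q23168, e3 q21727 L732912 q20668, e3 q21728 L732928 q20674, e3 q21729 L732946 q20096, e3 q21730 L732964 q20452, e3 q21731 L732981 q20456, e3 q21732 L732994 q20525, e3 q21733 L733010 q20048, e3 q21734 L733023 q20049, e3 q21735 (flp_c L748586) q23175, e3 q21736 L748612 q23177, e3 q21737 L733065 q20530, e3 q21738 L733083 q20531, e3 q21739 (flp_c L733095) q20054, e3 q21740 L748630 q23178, e3 q21741 (flp_c L733124) q20057, e3 q21742 L733144 q21421, e3 q21743 L733162 q21422, e3 q21744 L733188 q20532, e3 q21745 L733198 q21113, e3 q21746 L733216 q21114, e3 q21747 L733236 q21105, e3 q21748 L733254 q21106, e3 q21749 L733272 q21110, e3 q21750 L733290 q21111, e3 q21751 L733304 q20455, e3 q21752 L733319 q21112, e3 q21753 L733339 q21395, e3 q21754 L733348 q20457, e3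 q21755 L733368 q20564, e3 q21756 L733379 q21107, e3 q21757 L733393 q20089, e3 q21758 L733411 q20591, e3 q21759 L733429 q21412, trivial⟩ (by decide +kernel)

theorem ce_c_340 : ∀ r, r < 64 → sm gc (Qf (21760 + r)) = Qf (tab Gen.c (21760 + r)) :=
  edges_tab (sm gc) Qf (tab Gen.c) 21760 [(21760, 21414), (21761, 23193), (21762, 20592), (21763, 21413), (21764, 23196), (21765, 20093), (21766, 20097), (21767, 23172), (21768, 21457), (21769, 20726), (21770, 21468), (21771, 20102), (21772, 23201), (21773, 20733), (21774, 21623), (21775, 21682), (21776, 20148), (21777, 20109), (21778, 20110), (21779, 23208), (21780, 23209), (21781, 23210), (21782, 21278), (21783, 21335), (21784, 20114), (21785, 20115), (21786, 21185), (21787, 23216), (21788, 23217), (21789, 23207), (21790, 20119), (21791, 20120), (21792, 21194), (21793, 23223), (21794, 20124), (21795, 21179), (21796, 21186), (21797, 21203), (21798, 20277), (21799, 21195), (21800, 23233), (21801, 20283), (21802, 20129), (21803, 21279), (21804, 21336), (21805, 20134), (21806, 20135),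 (21807, 20136), (21808, 23205), (21809, 23235), (21810, 23236), (21811, 20977), (21812, 20802), (21813, 20803), (21814, 20288), (21815, 20252), (21816, 20289), (21817, 20143), (21818, 20144), (21819, 20310), (21820, 23249), (21821, 23253), (21822, 20149), (21823, 20150)]
    ⟨e3 q21760 L733445 q21414, e3 q21761 L748865 q23193, e3 q21762 L733467 q20592, e3 q21763 L733483 q21413, e3 q21764 L748903 q23196, e3 q21765 (flp_c L733501) q20093, e3 q21766 L733521 q20097, e3 q21767 (flp_c L748533) q23172, e3 q21768 L733557 q21457, e3 q21769 L733577 q20726, e3 q21770 L733592 q21468, e3 q21771 (flp_c L733594) q20102, e3 q21772 (flp_c L748983) q23201, e3 q21773 L733631 q20733, e3 q21774 L733639 q21623, e3 q21775 L733655 q21682, e3 q21776 L733676 q20148, e3 q21777 L733682 q20109, e3 q21778 L733694 q20110, e3 q21779 (flp_c L749095) q23208, e3 q21780 (flp_c L749110) q23209, e3 q21781 (flp_c L749122) q23210, e3 q21782 L733746 q21278, e3 q21783 L733764 q21335, e3 q21784 L733779 q20114, e3 q21785 L733795 q20115, e3 q21786 L733810 q21185, e3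 q21787 (flp_c L749214) q23216, e3 q21788 (flp_c L749230) q23217, e3 q21789 (flp_c L749082) q23207, e3 q21790 L733859 q20119, e3 q21791 L733873 q20120, e3 q21792 L733887 q21194, e3 q21793 (flp_c L749320) q23223, e3 q21794 L733913 q20124, e3 q21795 L733928 q21179, e3 q21796 L733942 q21186, e3 q21797 L733955 q21203, e3 q21798 L733974 q20277, e3 q21799 L733983 q21195, e3 q21800 L749457 q23233, e3 q21801 L734010 q20283, e3 q21802 (flp_c L734020) q20129, e3 q21803 L734042 q21279, e3 q21804 L734060 q21336, e3 q21805 L734075 q20134, e3 q21806 L734091 q20135, e3 q21807 L734107 q20136, e3 q21808 (flp_c L749046) q23205, e3 q21809 (flp_c L749494) q23235, e3 q21810 (flp_c L749510) q23236, e3 q21811 L734163 q20977, e3 q21812 L734173 q20802, e3 q21813 L734189 q20803, e3 q21814 L734205 q20288, e3 q21815 L734218 q20252, e3 q21816 L734230 q20289, e3 q21817 L734246 q20143, e3 q21818 L734258 q20144, e3 q21819 L734272 q20310, e3 q21820 (flp_c L749708) q23249, e3 q21821 L749744 q23253, e3 q21822 L734304 q20149, e3 q21823 L734317 q20150, trivial⟩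 (by decide +kernel)

theorem ce_c_341 : ∀ r, r < 64 → sm gc (Qf (21824 + r)) = Qf (tab Gen.c (21824 + r)) :=
  edges_tab (sm gc) Qf (tab Gen.c) 21824 [(21824, 20317), (21825, 23206), (21826, 23254), (21827, 23259), (21828, 20772), (21829, 20155), (21830, 23261), (21831, 20329), (21832, 23264), (21833, 20156), (21834, 20158), (21835, 21328), (21836, 20338), (21837, 21837), (21838, 23268), (21839, 20163), (21840, 20164), (21841, 23271), (21842, 20372), (21843, 20355), (21844, 20905), (21845, 20978), (21846, 20178), (21847, 20774), (21848, 20253), (21849, 20290), (21850, 21337), (21851, 20366), (21852, 20369), (21853, 20371), (21854, 20807), (21855, 20814), (21856, 20808), (21857, 20815), (21858, 20818), (21859, 20186), (21860, 23285), (21861, 23286), (21862, 20189), (21863, 20190), (21864, 23290), (21865, 23291), (21866, 20795), (21867, 20194), (21868, 20195), (21869, 20830), (21870, 23294), (21871, 20197), (21872, 21332), (21873, 20831), (21874, 21162), (21875, 21164), (21876, 21296), (21877, 21298), (21878, 21343), (21879,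 21625), (21880, 21684), (21881, 21253), (21882, 20212), (21883, 20213), (21884, 20878), (21885, 23305), (21886, 21600), (21887, 20879)]
    ⟨e3 q21824 L734335 q20317, e3 q21825 (flp_c L749064) q23206, e3 q21826 (flp_c L749758) q23254, e3 q21827 L749814 q23259, e3 q21828 L734387 q20772, e3 q21829 L734399 q20155, e3 q21830 L749840 q23261, e3 q21831 L734424 q20329, e3 q21832 L749880 q23264, e3 q21833 (flp_c L734442) q20156, e3 q21834 (flp_c L734452) q20158, e3 q21835 L734474 q21328, e3 q21836 L734490 q20338, e3 q21837 L734507 q21837, e3 q21838 L749932 q23268, e3 q21839 (flp_c L734527) q20163, e3 q21840 (flp_c L734540) q20164, e3 q21841 (flp_c L749975) q23271, e3 q21842 L734573 q20372, e3 q21843 L734588 q20355, e3 q21844 L734596 q20905, e3 q21845 L734610 q20978, e3 q21846 L734625 q20178, e3 q21847 L734648 q20774, e3 q21848 L734654 q20253, e3 q21849 L734666 q20290, e3 q21850 L734683 q21337, e3 q21851 L734689 q20366, e3 q21852 L734700 q20369, e3 q21853 L734713 q20371, e3 q21854 L734723 q20807, e3 q21855 L734741 q20814, e3 q21856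 L734757 q20808, e3 q21857 L734773 q20815, e3 q21858 L734789 q20818, e3 q21859 (flp_c L734800) q20186, e3 q21860 (flp_c L750173) q23285, e3 q21861 (flp_c L750191) q23286, e3 q21862 L734847 q20189, e3 q21863 L734863 q20190, e3 q21864 (flp_c L750251) q23290, e3 q21865 (flp_c L750267) q23291, e3 q21866 L734908 q20795, e3 q21867 L734919 q20194, e3 q21868 L734933 q20195, e3 q21869 L734947 q20830, e3 q21870 (flp_c L750310) q23294, e3 q21871 L734975 q20197, e3 q21872 L734994 q21332, e3 q21873 L735005 q20831, e3 q21874 L735027 q21162, e3 q21875 L735046 q21164, e3 q21876 L735054 q21296, e3 q21877 L735071 q21298, e3 q21878 L735085 q21343, e3 q21879 L735098 q21625, e3 q21880 L735110 q21684, e3 q21881 L735132 q21253, e3 q21882 L735143 q20212, e3 q21883 L735159 q20213, e3 q21884 L735175 q20878, e3 q21885 (flp_c L750482) q23305, e3 q21886 L735207 q21600, e3 q21887 L735218 q20879, trivial⟩ (by decide +kernel)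

theorem ce_c_342 : ∀ r, r < 64 → sm gc (Qf (21888 + r)) = Qf (tab Gen.c (21888 + r)) :=
  edges_tab (sm gc) Qf (tab Gen.c) 21888 [(21888, 21265), (21889, 21011), (21890, 21624), (21891, 21683), (21892, 21626), (21893, 20228), (21894, 21652), (21895, 20979), (21896, 21079), (21897, 21608), (21898, 23318), (21899, 21073), (21900, 21010), (21901, 21294), (21902, 21028), (21903, 20325), (21904, 20374), (21905, 20362), (21906, 21342), (21907, 20368), (21908, 21697), (21909, 20913), (21910, 20244), (21911, 20245), (21912, 23328), (21913, 23329), (21914, 23330), (21915, 20919), (21916, 20920), (21917, 20921), (21918, 20262), (21919, 20249), (21920, 20250), (21921, 20251), (21922, 23339), (21923, 23340), (21924, 23245), (21925, 23247), (21926, 23277), (21927, 20934), (21928, 20935), (21929, 23327), (21930, 20258), (21931, 20259), (21932, 20881), (21933, 21542), (21934, 23350), (21935, 20931), (21936, 20943), (21937, 20944), (21938, 23241), (21939, 21173), (21940, 23338), (21941, 20267), (21942, 20268), (21943, 23224), (21944, 20942),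 (21945, 21538), (21946, 23361), (21947, 23367), (21948, 20955), (21949, 23227), (21950, 20909), (21951, 21548)]
    ⟨e3 q21888 L735240 q21265, e3 q21889 L735249 q21011, e3 q21890 L735262 q21624, e3 q21891 L735276 q21683, e3 q21892 L735289 q21626, e3 q21893 L735303 q20228, e3 q21894 L735325 q21652, e3 q21895 L735335 q20979, e3 q21896 L735353 q21079, e3 q21897 L735367 q21608, e3 q21898 L750669 q23318, e3 q21899 L735389 q21073, e3 q21900 L735405 q21010, e3 q21901 L735421 q21294, e3 q21902 L735431 q21028, e3 q21903 L735450 q20325, e3 q21904 L735462 q20374, e3 q21905 L735484 q20362, e3 q21906 L735490 q21342, e3 q21907 L735509 q20368, e3 q21908 L735519 q21697, e3 q21909 L735542 q20913, e3 q21910 L735548 q20244, e3 q21911 L735560 q20245, e3 q21912 (flp_c L750823) q23328, e3 q21913 (flp_c L750838) q23329, e3 q21914 (flp_c L750850) q23330, e3 q21915 L735606 q20919, e3 q21916 L735622 q20920, e3 q21917 L735632 q20921, e3 q21918 L735644 q20262, e3 q21919 L735653 q20249, e3 q21920 L735664 q20250, e3 q21921 L735674 q20251, e3 q21922 (flp_c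 L750969) q23339, e3 q21923 (flp_c L750980) q23340, e3 q21924 (flp_c L749650) q23245, e3 q21925 (flp_c L749682) q23247, e3 q21926 (flp_c L750057) q23277, e3 q21927 L735742 q20934, e3 q21928 L735758 q20935, e3 q21929 (flp_c L750810) q23327, e3 q21930 L735782 q20258, e3 q21931 L735794 q20259, e3 q21932 L735808 q20881, e3 q21933 L735822 q21542, e3 q21934 (flp_c L751106) q23350, e3 q21935 (flp_c L735855) q20931, e3 q21936 L735863 q20943, e3 q21937 L735877 q20944, e3 q21938 (flp_c L749578) q23241, e3 q21939 L735907 q21173, e3 q21940 (flp_c L750958) q23338, e3 q21941 L735931 q20267, e3 q21942 L735943 q20268, e3 q21943 (flp_c L749342) q23224, e3 q21944 L735966 q20942, e3 q21945 L735984 q21538, e3 q21946 (flp_c L751257) q23361, e3 q21947 L751324 q23367, e3 q21948 L736018 q20955, e3 q21949 (flp_c L749384) q23227, e3 q21950 L736043 q20909, e3 q21951 L736057 q21548, trivial⟩ (by decide +kernel)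

theorem ce_c_343 : ∀ r, r < 64 → sm gc (Qf (21952 + r)) = Qf (tab Gen.c (21952 + r)) :=
  edges_tab (sm gc) Qf (tab Gen.c) 21952 [(21952, 23372), (21953, 21521), (21954, 20280), (21955, 23231), (21956, 21094), (21957, 21539), (21958, 23376), (21959, 20281), (21960, 21546), (21961, 21041), (21962, 20880), (21963, 23246), (21964, 23248), (21965, 20986), (21966, 20987), (21967, 20990), (21968, 20991), (21969, 20298), (21970, 23237), (21971, 20870), (21972, 20882), (21973, 21543), (21974, 23392), (21975, 20911), (21976, 21003), (21977, 21004), (21978, 20754), (21979, 21496), (21980, 21008), (21981, 21009), (21982, 23320), (21983, 21147), (21984, 21150), (21985, 20311), (21986, 20312), (21987, 20313), (21988, 23406), (21989, 23251), (21990, 23403), (21991, 23404), (21992, 23411), (21993, 20314), (21994, 21025), (21995, 23322), (21996, 23256), (21997, 20904), (21998, 20910), (21999, 23419), (22000, 20321), (22001, 20340), (22002, 21040), (22003, 20819), (22004, 20330), (22005, 20331), (22006, 23263), (22007, 23423), (22008, 23395),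 (22009, 20332), (22010, 23428), (22011, 21052), (22012, 20339), (22013, 23266), (22014, 23414), (22015, 20628)]
    ⟨e3 q21952 L751388 q23372, e3 q21953 L736087 q21521, e3 q21954 L736098 q20280, e3 q21955 (flp_c L749435) q23231, e3 q21956 L736129 q21094, e3 q21957 L736144 q21539, e3 q21958 L751446 q23376, e3 q21959 (flp_c L736161) q20281, e3 q21960 L736180 q21546, e3 q21961 L736199 q21041, e3 q21962 L736210 q20880, e3 q21963 (flp_c L749667) q23246, e3 q21964 (flp_c L749694) q23248, e3 q21965 L736242 q20986, e3 q21966 L736260 q20987, e3 q21967 L736274 q20990, e3 q21968 L736288 q20991, e3 q21969 L736298 q20298, e3 q21970 (flp_c L749530) q23237, e3 q21971 L736322 q20870, e3 q21972 L736338 q20882, e3 q21973 L736352 q21543, e3 q21974 L751647 q23392, e3 q21975 L736378 q20911, e3 q21976 L736390 q21003, e3 q21977 L736404 q21004, e3 q21978 L736418 q20754, e3 q21979 L736434 q21496, e3 q21980 L736452 q21008, e3 q21981 L736468 q21009, e3 q21982 (flp_c L750705) q23320, e3 q21983 L736488 q21147, e3 q21984 L736502 q21150, e3 q21985 L736518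 q20311, e3 q21986 L736536 q20312, e3 q21987 L736550 q20313, e3 q21988 L751839 q23406, e3 q21989 (flp_c L749728) q23251, e3 q21990 (flp_c L751799) q23403, e3 q21991 (flp_c L751817) q23404, e3 q21992 L751877 q23411, e3 q21993 (flp_c L736594) q20314, e3 q21994 L736604 q21025, e3 q21995 (flp_c L750732) q23322, e3 q21996 (flp_c L749784) q23256, e3 q21997 L736639 q20904, e3 q21998 L736654 q20910, e3 q21999 L751965 q23419, e3 q22000 (flp_c L736671) q20321, e3 q22001 L736692 q20340, e3 q22002 L736704 q21040, e3 q22003 L736722 q20819, e3 q22004 L736738 q20330, e3 q22005 L736754 q20331, e3 q22006 (flp_c L749876) q23263, e3 q22007 (flp_c L752028) q23423, e3 q22008 (flp_c L751697) q23395, e3 q22009 (flp_c L736790) q20332, e3 q22010 (flp_c L752094) q23428, e3 q22011 L736818 q21052, e3 q22012 L736826 q20339, e3 q22013 (flp_c L749918) q23266, e3 q22014 (flp_c L751904) q23414, e3 q22015 L736870 q20628, trivial⟩ (by decide +kernel)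

theorem ce_c_344 : ∀ r, r < 64 → sm gc (Qf (22016 + r)) = Qf (tab Gen.c (22016 + r)) :=
  edges_tab (sm gc) Qf (tab Gen.c) 22016 [(22016, 21670), (22017, 20344), (22018, 23432), (22019, 21065), (22020, 23433), (22021, 20347), (22022, 23435), (22023, 21069), (22024, 20349), (22025, 20351), (22026, 20373), (22027, 23323), (22028, 23272), (22029, 20912), (22030, 20375), (22031, 20755), (22032, 21497), (22033, 21470), (22034, 23324), (22035, 21148), (22036, 21282), (22037, 21338), (22038, 23280), (22039, 20826), (22040, 23281), (22041, 20823), (22042, 23270), (22043, 20436), (22044, 20392), (22045, 20381), (22046, 20388), (22047, 20397), (22048, 20421), (22049, 20438), (22050, 20427), (22051, 20433), (22052, 20404), (22053, 23456), (22054, 21361), (22055, 20445), (22056, 21363), (22057, 20398), (22058, 20419), (22059, 21360), (22060, 20617), (22061, 20409), (22062, 20418), (22063, 20413), (22064, 23451), (22065, 23459), (22066, 20430), (22067, 23460), (22068, 23462), (22069, 20439), (22070, 20422), (22071, 20425), (22072, 21349),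 (22073, 23452), (22074, 23458), (22075, 21104), (22076, 23461), (22077, 23454), (22078, 23464), (22079, 20435)]
    ⟨e3 q22016 L736890 q21670, e3 q22017 (flp_c L736892) q20344, e3 q22018 (flp_c L752144) q23432, e3 q22019 L736928 q21065, e3 q22020 L752153 q23433, e3 q22021 (flp_c L736939) q20347, e3 q22022 (flp_c L752185) q23435, e3 q22023 L736970 q21069, e3 q22024 L736976 q20349, e3 q22025 (flp_c L736979) q20351, e3 q22026 L736999 q20373, e3 q22027 (flp_c L750751) q23323, e3 q22028 (flp_c L749988) q23272, e3 q22029 L737034 q20912, e3 q22030 L737050 q20375, e3 q22031 L737067 q20755, e3 q22032 L737080 q21497, e3 q22033 L737099 q21470, e3 q22034 (flp_c L750759) q23324, e3 q22035 L737112 q21148, e3 q22036 L737132 q21282, e3 q22037 L737140 q21338, e3 q22038 (flp_c L750098) q23280, e3 q22039 L737162 q20826, e3 q22040 (flp_c L750109) q23281, e3 q22041 L737185 q20823, e3 q22042 (flp_c L749969) q23270, e3 q22043 L737211 q20436, e3 q22044 L737231 q20392, e3 q22045 L737251 q20381, e3 q22046 L737269 q20388, e3 q22047 L737287 q20397,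 e3 q22048 L737313 q20421, e3 q22049 L737331 q20438, e3 q22050 L737343 q20427, e3 q22051 L737363 q20433, e3 q22052 L737372 q20404, e3 q22053 L752479 q23456, e3 q22054 L737405 q21361, e3 q22055 L737417 q20445, e3 q22056 L737439 q21363, e3 q22057 (flp_c L737445) q20398, e3 q22058 L737469 q20419, e3 q22059 L737491 q21360, e3 q22060 L737500 q20617, e3 q22061 L737520 q20409, e3 q22062 L737538 q20418, e3 q22063 L737556 q20413, e3 q22064 (flp_c L752398) q23451, e3 q22065 L752536 q23459, e3 q22066 L737596 q20430, e3 q22067 L752555 q23460, e3 q22068 L752595 q23462, e3 q22069 L737635 q20439, e3 q22070 (flp_c L737643) q20422, e3 q22071 (flp_c L737657) q20425, e3 q22072 L737679 q21349, e3 q22073 (flp_c L752417) q23452, e3 q22074 (flp_c L752523) q23458, e3 q22075 L737725 q21104, e3 q22076 (flp_c L752581) q23461, e3 q22077 (flp_c L752447) q23454, e3 q22078 (flp_c L752639) q23464, e3 q22079 (flp_c L737764) q20435, trivial⟩ (by decide +kernel)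

theorem ce_c_345 : ∀ r, r < 64 → sm gc (Qf (22080 + r)) = Qf (tab Gen.c (22080 + r)) :=
  edges_tab (sm gc) Qf (tab Gen.c) 22080 [(22080, 23455), (22081, 23463), (22082, 21355), (22083, 20447), (22084, 23465), (22085, 20444), (22086, 23457), (22087, 23160), (22088, 20677), (22089, 23173), (22090, 21433), (22091, 23185), (22092, 23174), (22093, 20498), (22094, 20505), (22095, 20461), (22096, 20462), (22097, 20493), (22098, 23471), (22099, 23472), (22100, 20506), (22101, 20467), (22102, 20494), (22103, 20501), (22104, 20589), (22105, 21383), (22106, 20522), (22107, 20527), (22108, 20523), (22109, 20528), (22110, 20477), (22111, 20478), (22112, 20515), (22113, 23481), (22114, 20613), (22115, 20516), (22116, 20705), (22117, 20738), (22118, 20630), (22119, 20491), (22120, 20492), (22121, 23489), (22122, 23490), (22123, 23491), (22124, 23473), (22125, 23476), (22126, 20645), (22127, 20646), (22128, 23488), (22129, 20499), (22130, 20500), (22131, 20553), (22132, 23469), (22133, 23498), (22134, 21141), (22135, 20667), (22136, 20554),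 (22137, 23470), (22138, 23507), (22139, 21138), (22140, 20673), (22141, 20560), (22142, 21430), (22143, 20512)]
    ⟨e3 q22080 (flp_c L752474) q23455, e3 q22081 (flp_c L752620) q23463, e3 q22082 L737805 q21355, e3 q22083 L737812 q20447, e3 q22084 (flp_c L752658) q23465, e3 q22085 (flp_c L737835) q20444, e3 q22086 (flp_c L752512) q23457, e3 q22087 (flp_c L748348) q23160, e3 q22088 L737865 q20677, e3 q22089 (flp_c L748553) q23173, e3 q22090 L737897 q21433, e3 q22091 (flp_c L748747) q23185, e3 q22092 (flp_c L748570) q23174, e3 q22093 L737941 q20498, e3 q22094 L737959 q20505, e3 q22095 L737975 q20461, e3 q22096 L737991 q20462, e3 q22097 L738006 q20493, e3 q22098 (flp_c L752763) q23471, e3 q22099 (flp_c L752779) q23472, e3 q22100 L738048 q20506, e3 q22101 L738066 q20467, e3 q22102 L738082 q20494, e3 q22103 L738097 q20501, e3 q22104 L738117 q20589, e3 q22105 L738132 q21383, e3 q22106 L738143 q20522, e3 q22107 L738161 q20527, e3 q22108 L738175 q20523, e3 q22109 L738189 q20528, e3 q22110 L738201 q20477, e3 q22111 L738217 q20478,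 e3 q22112 L738231 q20515, e3 q22113 (flp_c L752921) q23481, e3 q22114 L738261 q20613, e3 q22115 L738273 q20516, e3 q22116 L738291 q20705, e3 q22117 L738310 q20738, e3 q22118 L738325 q20630, e3 q22119 L738331 q20491, e3 q22120 L738341 q20492, e3 q22121 (flp_c L753046) q23489, e3 q22122 (flp_c L753061) q23490, e3 q22123 (flp_c L753071) q23491, e3 q22124 (flp_c L752795) q23473, e3 q22125 (flp_c L752842) q23476, e3 q22126 L738415 q20645, e3 q22127 L738431 q20646, e3 q22128 (flp_c L753033) q23488, e3 q22129 L738455 q20499, e3 q22130 L738463 q20500, e3 q22131 L738477 q20553, e3 q22132 (flp_c L752727) q23469, e3 q22133 (flp_c L753162) q23498, e3 q22134 L738507 q21141, e3 q22135 L738521 q20667, e3 q22136 L738530 q20554, e3 q22137 (flp_c L752745) q23470, e3 q22138 L753272 q23507, e3 q22139 L738564 q21138, e3 q22140 L738575 q20673, e3 q22141 L738590 q20560, e3 q22142 L738610 q21430, e3 q22143 (flp_c L738615) q20512, trivial⟩ (by decide +kernel)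

theorem ce_c_346 : ∀ r, r < 64 → sm gc (Qf (22144 + r)) = Qf (tab Gen.c (22144 + r)) :=
  edges_tab (sm gc) Qf (tab Gen.c) 22144 [(22144, 21435), (22145, 21436), (22146, 23483), (22147, 20678), (22148, 20679), (22149, 20804), (22150, 20524), (22151, 20698), (22152, 23478), (22153, 23480), (22154, 23518), (22155, 21456), (22156, 20715), (22157, 23479), (22158, 23521), (22159, 20529), (22160, 20536), (22161, 21460), (22162, 21476), (22163, 20540), (22164, 23524), (22165, 21466), (22166, 20827), (22167, 21659), (22168, 20749), (22169, 20751), (22170, 21440), (22171, 21441), (22172, 23500), (22173, 23505), (22174, 20599), (22175, 20600), (22176, 20839), (22177, 20558), (22178, 20559), (22179, 23535), (22180, 20610), (22181, 23187), (22182, 21289), (22183, 21339), (22184, 20568), (22185, 20569), (22186, 23541), (22187, 23542), (22188, 23543), (22189, 20571), (22190, 20572), (22191, 23546), (22192, 23547), (22193, 20595), (22194, 20607), (22195, 23540), (22196, 20576), (22197, 20577), (22198, 20578), (22199, 23552), (22200, 23553),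 (22201, 20580), (22202, 20608), (22203, 20585), (22204, 20586), (22205, 23475), (22206, 23558), (22207, 23561)]
    ⟨e3 q22144 L738634 q21435, e3 q22145 L738650 q21436, e3 q22146 (flp_c L752953) q23483, e3 q22147 L738672 q20678, e3 q22148 L738684 q20679, e3 q22149 L738696 q20804, e3 q22150 L738710 q20524, e3 q22151 L738722 q20698, e3 q22152 (flp_c L752875) q23478, e3 q22153 (flp_c L752909) q23480, e3 q22154 L753406 q23518, e3 q22155 L738766 q21456, e3 q22156 L738778 q20715, e3 q22157 (flp_c L752893) q23479, e3 q22158 L753444 q23521, e3 q22159 (flp_c L738806) q20529, e3 q22160 L738828 q20536, e3 q22161 (flp_c L738852) q21460, e3 q22162 L738867 q21476, e3 q22163 (flp_c L738869) q20540, e3 q22164 (flp_c L753489) q23524, e3 q22165 L738904 q21466, e3 q22166 L738910 q20827, e3 q22167 L738931 q21659, e3 q22168 L738935 q20749, e3 q22169 L738946 q20751, e3 q22170 L738959 q21440, e3 q22171 L738973 q21441, e3 q22172 (flp_c L753187) q23500, e3 q22173 (flp_c L753255) q23505, e3 q22174 L739013 q20599, e3 q22175 L739029 q20600, e3 q22176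 L739048 q20839, e3 q22177 L739057 q20558, e3 q22178 L739067 q20559, e3 q22179 (flp_c L753653) q23535, e3 q22180 L739089 q20610, e3 q22181 (flp_c L748784) q23187, e3 q22182 L739114 q21289, e3 q22183 L739130 q21339, e3 q22184 L739145 q20568, e3 q22185 L739159 q20569, e3 q22186 (flp_c L753736) q23541, e3 q22187 (flp_c L753753) q23542, e3 q22188 (flp_c L753767) q23543, e3 q22189 L739211 q20571, e3 q22190 L739229 q20572, e3 q22191 (flp_c L753807) q23546, e3 q22192 (flp_c L753825) q23547, e3 q22193 L739260 q20595, e3 q22194 L739276 q20607, e3 q22195 (flp_c L753723) q23540, e3 q22196 L739302 q20576, e3 q22197 L739318 q20577, e3 q22198 L739328 q20578, e3 q22199 (flp_c L753894) q23552, e3 q22200 (flp_c L753910) q23553, e3 q22201 L739360 q20580, e3 q22202 L739376 q20608, e3 q22203 L739392 q20585, e3 q22204 L739408 q20586, e3 q22205 (flp_c L752831) q23475, e3 q22206 (flp_c L753970) q23558, e3 q22207 L754008 q23561, trivial⟩ (by decide +kernel)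

theorem ce_c_347 : ∀ r, r < 64 → sm gc (Qf (22208 + r)) = Qf (tab Gen.c (22208 + r)) :=
  edges_tab (sm gc) Qf (tab Gen.c) 22208 [(22208, 20725), (22209, 21411), (22210, 20590), (22211, 23190), (22212, 23194), (22213, 20596), (22214, 20597), (22215, 20649), (22216, 23549), (22217, 23563), (22218, 20662), (22219, 23532), (22220, 23533), (22221, 20604), (22222, 20605), (22223, 23482), (22224, 23570), (22225, 23574), (22226, 23550), (22227, 20663), (22228, 23575), (22229, 20614), (22230, 23578), (22231, 20707), (22232, 23581), (22233, 20615), (22234, 20618), (22235, 20672), (22236, 20619), (22237, 21397), (22238, 22238), (22239, 20624), (22240, 23583), (22241, 23584), (22242, 23487), (22243, 20632), (22244, 21376), (22245, 20729), (22246, 20637), (22247, 20638), (22248, 23589), (22249, 23590), (22250, 23591), (22251, 21193), (22252, 21220), (22253, 20654), (22254, 20642), (22255, 20643), (22256, 20644), (22257, 23598), (22258, 23599), (22259, 23495), (22260, 23496), (22261, 23588), (22262, 20650), (22263, 20651), (22264, 23564),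 (22265, 23606), (22266, 20779), (22267, 21108), (22268, 21109), (22269, 23596), (22270, 23597), (22271, 20659)]
    ⟨e3 q22208 L739456 q20725, e3 q22209 L739467 q21411, e3 q22210 (flp_c L739476) q20590, e3 q22211 (flp_c L748825) q23190, e3 q22212 (flp_c L748877) q23194, e3 q22213 L739515 q20596, e3 q22214 L739525 q20597, e3 q22215 L739537 q20649, e3 q22216 (flp_c L753849) q23549, e3 q22217 (flp_c L754039) q23563, e3 q22218 L739577 q20662, e3 q22219 (flp_c L753608) q23532, e3 q22220 (flp_c L753624) q23533, e3 q22221 L739609 q20604, e3 q22222 L739619 q20605, e3 q22223 (flp_c L752943) q23482, e3 q22224 (flp_c L754123) q23570, e3 q22225 L754151 q23574, e3 q22226 (flp_c L753865) q23550, e3 q22227 L739667 q20663, e3 q22228 L754159 q23575, e3 q22229 L739691 q20614, e3 q22230 L754206 q23578, e3 q22231 L739708 q20707, e3 q22232 L754250 q23581, e3 q22233 (flp_c L739724) q20615, e3 q22234 (flp_c L739738) q20618, e3 q22235 L739760 q20672, e3 q22236 (flp_c L739770) q20619, e3 q22237 L739791 q21397, e3 q22238 L739806 q22238, e3 q22239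 (flp_c L739816) q20624, e3 q22240 (flp_c L754274) q23583, e3 q22241 L754281 q23584, e3 q22242 (flp_c L753012) q23487, e3 q22243 (flp_c L739853) q20632, e3 q22244 L739873 q21376, e3 q22245 L739885 q20729, e3 q22246 L739895 q20637, e3 q22247 L739907 q20638, e3 q22248 (flp_c L754354) q23589, e3 q22249 (flp_c L754369) q23590, e3 q22250 (flp_c L754381) q23591, e3 q22251 L739953 q21193, e3 q22252 L739963 q21220, e3 q22253 L739973 q20654, e3 q22254 L739978 q20642, e3 q22255 L739987 q20643, e3 q22256 L739995 q20644, e3 q22257 (flp_c L754462) q23598, e3 q22258 (flp_c L754471) q23599, e3 q22259 (flp_c L753121) q23495, e3 q22260 (flp_c L753137) q23496, e3 q22261 (flp_c L754341) q23588, e3 q22262 L740066 q20650, e3 q22263 L740076 q20651, e3 q22264 (flp_c L754051) q23564, e3 q22265 (flp_c L754556) q23606, e3 q22266 L740114 q20779, e3 q22267 L740123 q21108, e3 q22268 L740139 q21109, e3 q22269 (flp_c L754440) q23596, e3 q22270 (flp_c L754453) q23597, e3 q22271 L740167 q20659, trivial⟩ (by decide +kernel)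

theorem ce_c_348 : ∀ r, r < 64 → sm gc (Qf (22272 + r)) = Qf (tab Gen.c (22272 + r)) :=
  edges_tab (sm gc) Qf (tab Gen.c) 22272 [(22272, 20660), (22273, 23499), (22274, 23165), (22275, 23615), (22276, 23620), (22277, 23477), (22278, 23567), (22279, 23559), (22280, 21136), (22281, 20669), (22282, 23576), (22283, 23504), (22284, 23171), (22285, 23626), (22286, 20670), (22287, 20675), (22288, 23622), (22289, 23466), (22290, 23511), (22291, 20992), (22292, 20993), (22293, 20994), (22294, 20684), (22295, 20685), (22296, 23485), (22297, 23634), (22298, 23638), (22299, 20775), (22300, 21367), (22301, 21368), (22302, 21498), (22303, 20833), (22304, 21499), (22305, 21365), (22306, 21385), (22307, 21438), (22308, 21012), (22309, 21013), (22310, 21014), (22311, 21015), (22312, 20700), (22313, 20701), (22314, 23653), (22315, 23515), (22316, 23161), (22317, 23651), (22318, 23658), (22319, 20702), (22320, 20706), (22321, 23579), (22322, 23580), (22323, 21366), (22324, 21410), (22325, 20728), (22326, 20717), (22327, 23667), (22328, 20714),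 (22329, 23557), (22330, 23519), (22331, 23163), (22332, 23665), (22333, 20718), (22334, 23672), (22335, 23198)]
    ⟨e3 q22272 L740175 q20660, e3 q22273 (flp_c L753178) q23499, e3 q22274 (flp_c L748423) q23165, e3 q22275 (flp_c L754661) q23615, e3 q22276 L754700 q23620, e3 q22277 (flp_c L752864) q23477, e3 q22278 (flp_c L754089) q23567, e3 q22279 (flp_c L753988) q23559, e3 q22280 L740262 q21136, e3 q22281 L740269 q20669, e3 q22282 (flp_c L754183) q23576, e3 q22283 (flp_c L753238) q23504, e3 q22284 (flp_c L748515) q23171, e3 q22285 L754764 q23626, e3 q22286 (flp_c L740309) q20670, e3 q22287 L740322 q20675, e3 q22288 (flp_c L754723) q23622, e3 q22289 (flp_c L752677) q23466, e3 q22290 (flp_c L753334) q23511, e3 q22291 L740362 q20992, e3 q22292 L740375 q20993, e3 q22293 L740387 q20994, e3 q22294 L740399 q20684, e3 q22295 L740411 q20685, e3 q22296 (flp_c L752985) q23485, e3 q22297 (flp_c L754848) q23634, e3 q22298 L754880 q23638, e3 q22299 L740455 q20775, e3 q22300 L740463 q21367, e3 q22301 L740477 q21368, e3 q22302 L740493 q21498,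 e3 q22303 L740504 q20833, e3 q22304 L740516 q21499, e3 q22305 L740532 q21365, e3 q22306 L740544 q21385, e3 q22307 L740562 q21438, e3 q22308 L740568 q21012, e3 q22309 L740575 q21013, e3 q22310 L740584 q21014, e3 q22311 L740592 q21015, e3 q22312 L740600 q20700, e3 q22313 L740610 q20701, e3 q22314 L755039 q23653, e3 q22315 (flp_c L753380) q23515, e3 q22316 (flp_c L748356) q23161, e3 q22317 (flp_c L755027) q23651, e3 q22318 L755073 q23658, e3 q22319 (flp_c L740650) q20702, e3 q22320 L740660 q20706, e3 q22321 (flp_c L754229) q23579, e3 q22322 (flp_c L754244) q23580, e3 q22323 L740691 q21366, e3 q22324 L740711 q21410, e3 q22325 L740718 q20728, e3 q22326 L740728 q20717, e3 q22327 L755163 q23667, e3 q22328 (flp_c L740739) q20714, e3 q22329 (flp_c L753959) q23557, e3 q22330 (flp_c L753420) q23519, e3 q22331 (flp_c L748390) q23163, e3 q22332 (flp_c L755144) q23665, e3 q22333 (flp_c L740775) q20718, e3 q22334 (flp_c L755198) q23672, e3 q22335 (flp_c L748945) q23198, trivial⟩ (by decide +kernel)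

theorem ce_c_349 : ∀ r, r < 64 → sm gc (Qf (22336 + r)) = Qf (tab Gen.c (22336 + r)) :=
  edges_tab (sm gc) Qf (tab Gen.c) 22336 [(22336, 20723), (22337, 23664), (22338, 23586), (22339, 20730), (22340, 23673), (22341, 23200), (22342, 20732), (22343, 21075), (22344, 21076), (22345, 23275), (22346, 23486), (22347, 20776), (22348, 20752), (22349, 20834), (22350, 21523), (22351, 21341), (22352, 21467), (22353, 21080), (22354, 23685), (22355, 20748), (22356, 23687), (22357, 23528), (22358, 23396), (22359, 23442), (22360, 20758), (22361, 20759), (22362, 23690), (22363, 20761), (22364, 20844), (22365, 21484), (22366, 21485), (22367, 21486), (22368, 21487), (22369, 23697), (22370, 21699), (22371, 23244), (22372, 23276), (22373, 21378), (22374, 23639), (22375, 23679), (22376, 20780), (22377, 20781), (22378, 23610), (22379, 23701), (22380, 21478), (22381, 21479), (22382, 21480), (22383, 21170), (22384, 21481), (22385, 21172), (22386, 23710), (22387, 21171), (22388, 21316), (22389, 21325), (22390, 20796), (22391, 20797), (22392, 23293),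 (22393, 23713), (22394, 20801), (22395, 21483), (22396, 23718), (22397, 23243), (22398, 23513), (22399, 20809)]
    ⟨e3 q22336 L740799 q20723, e3 q22337 (flp_c L755129) q23664, e3 q22338 (flp_c L754310) q23586, e3 q22339 (flp_c L740828) q20730, e3 q22340 (flp_c L755206) q23673, e3 q22341 (flp_c L748977) q23200, e3 q22342 L740861 q20732, e3 q22343 L740870 q21075, e3 q22344 L740882 q21076, e3 q22345 (flp_c L750036) q23275, e3 q22346 (flp_c L752995) q23486, e3 q22347 L740908 q20776, e3 q22348 L740923 q20752, e3 q22349 L740937 q20834, e3 q22350 L740949 q21523, e3 q22351 L740966 q21341, e3 q22352 L740972 q21467, e3 q22353 L740981 q21080, e3 q22354 L755337 q23685, e3 q22355 (flp_c L740995) q20748, e3 q22356 (flp_c L755362) q23687, e3 q22357 (flp_c L753550) q23528, e3 q22358 (flp_c L751707) q23396, e3 q22359 (flp_c L752269) q23442, e3 q22360 L741049 q20758, e3 q22361 L741065 q20759, e3 q22362 (flp_c L755393) q23690, e3 q22363 L741091 q20761, e3 q22364 L741110 q20844, e3 q22365 L741119 q21484, e3 q22366 L741131 q21485, e3 q22367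 L741146 q21486, e3 q22368 L741158 q21487, e3 q22369 L755478 q23697, e3 q22370 L741185 q21699, e3 q22371 (flp_c L749640) q23244, e3 q22372 (flp_c L750044) q23276, e3 q22373 L741212 q21378, e3 q22374 (flp_c L754892) q23639, e3 q22375 (flp_c L755269) q23679, e3 q22376 L741242 q20780, e3 q22377 L741254 q20781, e3 q22378 (flp_c L754599) q23610, e3 q22379 (flp_c L755525) q23701, e3 q22380 L741282 q21478, e3 q22381 L741295 q21479, e3 q22382 L741307 q21480, e3 q22383 L741322 q21170, e3 q22384 L741334 q21481, e3 q22385 L741346 q21172, e3 q22386 L755620 q23710, e3 q22387 L741368 q21171, e3 q22388 L741385 q21316, e3 q22389 L741398 q21325, e3 q22390 L741407 q20796, e3 q22391 L741423 q20797, e3 q22392 (flp_c L750293) q23293, e3 q22393 (flp_c L755662) q23713, e3 q22394 L741459 q20801, e3 q22395 L741471 q21483, e3 q22396 L755711 q23718, e3 q22397 (flp_c L749614) q23243, e3 q22398 (flp_c L753362) q23513, e3 q22399 L741523 q20809, trivial⟩ (by decide +kernel)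

theorem ce_c_350 : ∀ r, r < 64 → sm gc (Qf (22400 + r)) = Qf (tab Gen.c (22400 + r)) :=
  edges_tab (sm gc) Qf (tab Gen.c) 22400 [(22400, 23722), (22401, 23282), (22402, 23284), (22403, 23725), (22404, 20810), (22405, 21557), (22406, 23283), (22407, 23422), (22408, 20816), (22409, 23731), (22410, 23415), (22411, 21093), (22412, 21671), (22413, 23441), (22414, 23445), (22415, 20825), (22416, 21442), (22417, 21469), (22418, 23296), (22419, 23642), (22420, 23681), (22421, 20837), (22422, 20838), (22423, 23738), (22424, 23534), (22425, 20842), (22426, 23691), (22427, 23744), (22428, 23693), (22429, 21288), (22430, 21290), (22431, 21340), (22432, 20849), (22433, 20850), (22434, 20851), (22435, 23747), (22436, 23748), (22437, 21005), (22438, 21006), (22439, 21078), (22440, 21618), (22441, 21619), (22442, 21611), (22443, 21634), (22444, 23758), (22445, 21658), (22446, 21645), (22447, 23761), (22448, 23762), (22449, 20863), (22450, 20867), (22451, 20868), (22452, 20869), (22453, 23764), (22454, 23765), (22455, 23379), (22456, 23389),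 (22457, 20874), (22458, 20875), (22459, 20876), (22460, 23770), (22461, 23771), (22462, 23775), (22463, 20877)]
    ⟨e3 q22400 L755769 q23722, e3 q22401 (flp_c L750121) q23282, e3 q22402 (flp_c L750157) q23284, e3 q22403 L755801 q23725, e3 q22404 (flp_c L741571) q20810, e3 q22405 L741583 q21557, e3 q22406 (flp_c L750139) q23283, e3 q22407 (flp_c L752012) q23422, e3 q22408 (flp_c L741607) q20816, e3 q22409 (flp_c L755849) q23731, e3 q22410 (flp_c L751916) q23415, e3 q22411 L741644 q21093, e3 q22412 L741648 q21671, e3 q22413 (flp_c L752261) q23441, e3 q22414 (flp_c L752312) q23445, e3 q22415 L741675 q20825, e3 q22416 L741686 q21442, e3 q22417 L741700 q21469, e3 q22418 (flp_c L750341) q23296, e3 q22419 (flp_c L754939) q23642, e3 q22420 (flp_c L755294) q23681, e3 q22421 L741747 q20837, e3 q22422 L741757 q20838, e3 q22423 (flp_c L755930) q23738, e3 q22424 (flp_c L753638) q23534, e3 q22425 L741784 q20842, e3 q22426 (flp_c L755415) q23691, e3 q22427 L755973 q23744, e3 q22428 (flp_c L755441) q23693, e3 q22429 L741819 q21288, e3 q22430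 L741832 q21290, e3 q22431 L741848 q21340, e3 q22432 L741863 q20849, e3 q22433 L741876 q20850, e3 q22434 L741892 q20851, e3 q22435 (flp_c L756012) q23747, e3 q22436 (flp_c L756027) q23748, e3 q22437 L741922 q21005, e3 q22438 L741937 q21006, e3 q22439 L741953 q21078, e3 q22440 L741968 q21618, e3 q22441 L741978 q21619, e3 q22442 L741990 q21611, e3 q22443 L742002 q21634, e3 q22444 L756140 q23758, e3 q22445 L742024 q21658, e3 q22446 L742034 q21645, e3 q22447 L756174 q23761, e3 q22448 L756188 q23762, e3 q22449 (flp_c L742063) q20863, e3 q22450 L742082 q20867, e3 q22451 L742097 q20868, e3 q22452 L742111 q20869, e3 q22453 (flp_c L756214) q23764, e3 q22454 (flp_c L756229) q23765, e3 q22455 (flp_c L751490) q23379, e3 q22456 (flp_c L751613) q23389, e3 q22457 L742172 q20874, e3 q22458 L742184 q20875, e3 q22459 L742198 q20876, e3 q22460 (flp_c L756287) q23770, e3 q22461 (flp_c L756299) q23771, e3 q22462 L756337 q23775, e3 q22463 (flp_c L742230) q20877, trivial⟩ (by decide +kernel)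

theorem ce_c_351 : ∀ r, r < 64 → sm gc (Qf (22464 + r)) = Qf (tab Gen.c (22464 + r)) :=
  edges_tab (sm gc) Qf (tab Gen.c) 22464 [(22464, 23776), (22465, 23307), (22466, 23344), (22467, 23380), (22468, 23352), (22469, 23390), (22470, 20885), (22471, 23784), (22472, 23785), (22473, 20886), (22474, 20890), (22475, 20891), (22476, 23790), (22477, 23788), (22478, 23792), (22479, 20892), (22480, 23794), (22481, 20894), (22482, 20895), (22483, 23796), (22484, 23797), (22485, 20899), (22486, 23799), (22487, 20902), (22488, 23417), (22489, 23273), (22490, 20908), (22491, 23802), (22492, 23370), (22493, 23393), (22494, 23440), (22495, 23325), (22496, 23326), (22497, 20916), (22498, 20917), (22499, 20918), (22500, 21572), (22501, 23806), (22502, 23807), (22503, 23334), (22504, 23335), (22505, 20951), (22506, 23221), (22507, 23336), (22508, 23337), (22509, 20945), (22510, 20946), (22511, 20947), (22512, 20926), (22513, 20927), (22514, 20928), (22515, 23702), (22516, 23821), (22517, 23822), (22518, 23827), (22519, 20932), (22520, 20933),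 (22521, 21248), (22522, 23355), (22523, 23828), (22524, 23347), (22525, 23348), (22526, 20939), (22527, 20940)]
    ⟨e3 q22464 (flp_c L756347) q23776, e3 q22465 (flp_c L750517) q23307, e3 q22466 (flp_c L751025) q23344, e3 q22467 (flp_c L751507) q23380, e3 q22468 (flp_c L751133) q23352, e3 q22469 (flp_c L751629) q23390, e3 q22470 L742318 q20885, e3 q22471 L756435 q23784, e3 q22472 L756447 q23785, e3 q22473 (flp_c L742342) q20886, e3 q22474 L742354 q20890, e3 q22475 L742366 q20891, e3 q22476 L756489 q23790, e3 q22477 (flp_c L756469) q23788, e3 q22478 L756512 q23792, e3 q22479 (flp_c L742405) q20892, e3 q22480 L756530 q23794, e3 q22481 (flp_c L742425) q20894, e3 q22482 (flp_c L742438) q20895, e3 q22483 (flp_c L756554) q23796, e3 q22484 L756558 q23797, e3 q22485 (flp_c L742460) q20899, e3 q22486 (flp_c L756578) q23799, e3 q22487 L742481 q20902, e3 q22488 (flp_c L751943) q23417, e3 q22489 (flp_c L750003) q23273, e3 q22490 L742514 q20908, e3 q22491 (flp_c L756610) q23802, e3 q22492 (flp_c L751366) q23370, e3 q22493 (flp_c L751657)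 q23393, e3 q22494 (flp_c L752238) q23440, e3 q22495 (flp_c L750774) q23325, e3 q22496 (flp_c L750792) q23326, e3 q22497 L742611 q20916, e3 q22498 L742624 q20917, e3 q22499 L742636 q20918, e3 q22500 L742643 q21572, e3 q22501 (flp_c L756666) q23806, e3 q22502 (flp_c L756681) q23807, e3 q22503 (flp_c L750907) q23334, e3 q22504 (flp_c L750925) q23335, e3 q22505 L742702 q20951, e3 q22506 (flp_c L749290) q23221, e3 q22507 (flp_c L750937) q23336, e3 q22508 (flp_c L750947) q23337, e3 q22509 L742738 q20945, e3 q22510 L742754 q20946, e3 q22511 L742768 q20947, e3 q22512 L742780 q20926, e3 q22513 L742789 q20927, e3 q22514 L742796 q20928, e3 q22515 (flp_c L755538) q23702, e3 q22516 (flp_c L756837) q23821, e3 q22517 (flp_c L756846) q23822, e3 q22518 L756878 q23827, e3 q22519 L742835 q20932, e3 q22520 L742849 q20933, e3 q22521 L742862 q21248, e3 q22522 (flp_c L751171) q23355, e3 q22523 (flp_c L756888) q23828, e3 q22524 (flp_c L751065) q23347, e3 q22525 (flp_c L751081) q23348, e3 q22526 L742920 q20939, e3 q22527 L742936 q20940, trivial⟩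 (by decide +kernel)

theorem ce_c_352 : ∀ r, r < 64 → sm gc (Qf (22528 + r)) = Qf (tab Gen.c (22528 + r)) :=
  edges_tab (sm gc) Qf (tab Gen.c) 22528 [(22528, 20941), (22529, 21551), (22530, 23833), (22531, 23834), (22532, 23839), (22533, 23364), (22534, 23356), (22535, 21549), (22536, 23818), (22537, 23819), (22538, 23820), (22539, 20952), (22540, 20953), (22541, 23848), (22542, 23814), (22543, 23846), (22544, 23851), (22545, 20954), (22546, 20960), (22547, 20961), (22548, 21317), (22549, 21665), (22550, 23854), (22551, 23858), (22552, 20962), (22553, 20967), (22554, 20968), (22555, 21326), (22556, 23861), (22557, 23864), (22558, 20969), (22559, 23867), (22560, 21056), (22561, 20973), (22562, 23868), (22563, 20974), (22564, 23242), (22565, 23274), (22566, 23315), (22567, 20983), (22568, 20984), (22569, 20985), (22570, 21524), (22571, 23871), (22572, 23872), (22573, 23877), (22574, 23383), (22575, 23384), (22576, 21505), (22577, 21506), (22578, 21540), (22579, 23385), (22580, 23319), (22581, 23531), (22582, 23630), (22583,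 23631), (22584, 23632), (22585, 23633), (22586, 20999), (22587, 21000), (22588, 21001), (22589, 23890), (22590, 21528), (22591, 23887)]
    ⟨e3 q22528 L742950 q20941, e3 q22529 L742962 q21551, e3 q22530 (flp_c L756944) q23833, e3 q22531 (flp_c L756960) q23834, e3 q22532 L757010 q23839, e3 q22533 (flp_c L751288) q23364, e3 q22534 (flp_c L751188) q23356, e3 q22535 L743022 q21549, e3 q22536 (flp_c L756797) q23818, e3 q22537 (flp_c L756813) q23819, e3 q22538 (flp_c L756827) q23820, e3 q22539 L743072 q20952, e3 q22540 L743084 q20953, e3 q22541 L757112 q23848, e3 q22542 (flp_c L756751) q23814, e3 q22543 (flp_c L757094) q23846, e3 q22544 L757142 q23851, e3 q22545 (flp_c L743126) q20954, e3 q22546 L743138 q20960, e3 q22547 L743151 q20961, e3 q22548 (flp_c L743172) q21317, e3 q22549 L743178 q21665, e3 q22550 (flp_c L757166) q23854, e3 q22551 L757210 q23858, e3 q22552 (flp_c L743202) q20962, e3 q22553 L743220 q20967, e3 q22554 L743236 q20968, e3 q22555 (flp_c L743254) q21326, e3 q22556 (flp_c L757248) q23861, e3 q22557 L757279 q23864,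 e3 q22558 (flp_c L743273) q20969, e3 q22559 (flp_c L757314) q23867, e3 q22560 L743298 q21056, e3 q22561 L743306 q20973, e3 q22562 L757321 q23868, e3 q22563 (flp_c L743325) q20974, e3 q22564 (flp_c L749596) q23242, e3 q22565 (flp_c L750017) q23274, e3 q22566 (flp_c L750631) q23315, e3 q22567 L743381 q20983, e3 q22568 L743392 q20984, e3 q22569 L743401 q20985, e3 q22570 L743422 q21524, e3 q22571 (flp_c L757363) q23871, e3 q22572 (flp_c L757374) q23872, e3 q22573 L757416 q23877, e3 q22574 (flp_c L751539) q23383, e3 q22575 (flp_c L751557) q23384, e3 q22576 L743480 q21505, e3 q22577 L743497 q21506, e3 q22578 L743511 q21540, e3 q22579 (flp_c L751571) q23385, e3 q22580 (flp_c L750683) q23319, e3 q22581 (flp_c L753597) q23531, e3 q22582 (flp_c L754796) q23630, e3 q22583 (flp_c L754811) q23631, e3 q22584 (flp_c L754826) q23632, e3 q22585 (flp_c L754838) q23633, e3 q22586 L743600 q20999, e3 q22587 L743610 q21000, e3 q22588 L743618 q21001, e3 q22589 L757550 q23890, e3 q22590 L743634 q21528, e3 q22591 (flp_c L757528) q23887, trivial⟩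 (by decide +kernel)

theorem ce_c_353 : ∀ r, r < 64 → sm gc (Qf (22592 + r)) = Qf (tab Gen.c (22592 + r)) :=
  edges_tab (sm gc) Qf (tab Gen.c) 22592 [(22592, 23888), (22593, 23894), (22594, 21002), (22595, 23394), (22596, 23604), (22597, 23752), (22598, 23753), (22599, 21569), (22600, 23398), (22601, 23903), (22602, 23316), (22603, 21182), (22604, 23202), (22605, 23310), (22606, 23647), (22607, 23648), (22608, 23649), (22609, 23911), (22610, 21021), (22611, 21022), (22612, 23915), (22613, 21019), (22614, 23918), (22615, 21149), (22616, 23913), (22617, 23921), (22618, 21023), (22619, 23924), (22620, 23413), (22621, 21547), (22622, 23378), (22623, 21034), (22624, 21035), (22625, 23929), (22626, 21032), (22627, 21262), (22628, 23927), (22629, 23932), (22630, 21036), (22631, 23935), (22632, 23421), (22633, 21095), (22634, 21570), (22635, 23375), (22636, 21048), (22637, 23866), (22638, 21044), (22639, 23941), (22640, 21257), (22641, 23943), (22642, 21049), (22643, 23945), (22644, 23427), (22645, 21051), (22646, 21208), (22647,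 21589), (22648, 23860), (22649, 21322), (22650, 21058), (22651, 23951), (22652, 21062), (22653, 23954), (22654, 23431), (22655, 21064)]
    ⟨e3 q22592 (flp_c L757538) q23888, e3 q22593 L757578 q23894, e3 q22594 (flp_c L743662) q21002, e3 q22595 (flp_c L751675) q23394, e3 q22596 (flp_c L754526) q23604, e3 q22597 (flp_c L756073) q23752, e3 q22598 (flp_c L756088) q23753, e3 q22599 L743708 q21569, e3 q22600 (flp_c L751739) q23398, e3 q22601 L757652 q23903, e3 q22602 (flp_c L750649) q23316, e3 q22603 L743744 q21182, e3 q22604 (flp_c L748996) q23202, e3 q22605 (flp_c L750560) q23310, e3 q22606 (flp_c L754997) q23647, e3 q22607 (flp_c L755004) q23648, e3 q22608 (flp_c L755011) q23649, e3 q22609 L757714 q23911, e3 q22610 L743793 q21021, e3 q22611 L743803 q21022, e3 q22612 L757748 q23915, e3 q22613 (flp_c L743815) q21019, e3 q22614 (flp_c L757768) q23918, e3 q22615 L743835 q21149, e3 q22616 (flp_c L757734) q23913, e3 q22617 L757790 q23921, e3 q22618 (flp_c L743857) q21023, e3 q22619 (flp_c L757808) q23924, e3 q22620 (flp_c L751891)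 q23413, e3 q22621 L743873 q21547, e3 q22622 (flp_c L751479) q23378, e3 q22623 L743891 q21034, e3 q22624 L743901 q21035, e3 q22625 L757842 q23929, e3 q22626 (flp_c L743913) q21032, e3 q22627 L743929 q21262, e3 q22628 (flp_c L757827) q23927, e3 q22629 L757867 q23932, e3 q22630 (flp_c L743953) q21036, e3 q22631 (flp_c L757890) q23935, e3 q22632 (flp_c L752004) q23421, e3 q22633 L743982 q21095, e3 q22634 L743997 q21570, e3 q22635 (flp_c L751443) q23375, e3 q22636 L744014 q21048, e3 q22637 (flp_c L757310) q23866, e3 q22638 (flp_c L744027) q21044, e3 q22639 (flp_c L757946) q23941, e3 q22640 L744043 q21257, e3 q22641 L757964 q23943, e3 q22642 (flp_c L744058) q21049, e3 q22643 (flp_c L757986) q23945, e3 q22644 (flp_c L752088) q23427, e3 q22645 L744084 q21051, e3 q22646 L744090 q21208, e3 q22647 L744106 q21589, e3 q22648 (flp_c L757240) q23860, e3 q22649 L744123 q21322, e3 q22650 (flp_c L744130) q21058, e3 q22651 L758035 q23951, e3 q22652 (flp_c L744149) q21062, e3 q22653 (flp_c L758068) q23954, e3 q22654 (flp_c L752138) q23431, e3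 q22655 L744171 q21064, trivial⟩ (by decide +kernel)

theorem ce_c_354 : ∀ r, r < 64 → sm gc (Qf (22656 + r)) = Qf (tab Gen.c (22656 + r)) :=
  edges_tab (sm gc) Qf (tab Gen.c) 22656 [(22656, 21227), (22657, 21066), (22658, 23959), (22659, 21068), (22660, 21222), (22661, 23436), (22662, 23675), (22663, 23676), (22664, 23964), (22665, 21081), (22666, 23966), (22667, 21083), (22668, 23968), (22669, 21402), (22670, 22670), (22671, 23680), (22672, 22672), (22673, 22673), (22674, 23971), (22675, 21096), (22676, 23732), (22677, 23374), (22678, 23937), (22679, 21097), (22680, 23974), (22681, 21099), (22682, 21101), (22683, 23453), (22684, 21357), (22685, 23182), (22686, 23976), (22687, 23611), (22688, 23183), (22689, 23979), (22690, 23980), (22691, 23166), (22692, 21119), (22693, 23983), (22694, 21443), (22695, 21444), (22696, 21297), (22697, 21299), (22698, 21128), (22699, 21129), (22700, 23990), (22701, 23988), (22702, 23992), (22703, 21130), (22704, 21458), (22705, 23503), (22706, 21137), (22707, 23612), (22708, 21428), (22709,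 21145), (22710, 21146), (22711, 23997), (22712, 23401), (22713, 24001), (22714, 24002), (22715, 21258), (22716, 21267), (22717, 21508), (22718, 23299), (22719, 24006)]
    ⟨e3 q22656 L744180 q21227, e3 q22657 (flp_c L744191) q21066, e3 q22658 (flp_c L758110) q23959, e3 q22659 L744214 q21068, e3 q22660 L744223 q21222, e3 q22661 (flp_c L752198) q23436, e3 q22662 (flp_c L755227) q23675, e3 q22663 (flp_c L755236) q23676, e3 q22664 L758151 q23964, e3 q22665 (flp_c L744270) q21081, e3 q22666 (flp_c L758182) q23966, e3 q22667 L744297 q21083, e3 q22668 (flp_c L758203) q23968, e3 q22669 L744328 q21402, e3 q22670 L744336 q22670, e3 q22671 (flp_c L755288) q23680, e3 q22672 L744359 q22672, e3 q22673 L744374 q22673, e3 q22674 L758239 q23971, e3 q22675 L744396 q21096, e3 q22676 (flp_c L755863) q23732, e3 q22677 (flp_c L751421) q23374, e3 q22678 (flp_c L757917) q23937, e3 q22679 (flp_c L744437) q21097, e3 q22680 (flp_c L758263) q23974, e3 q22681 L744467 q21099, e3 q22682 L744479 q21101, e3 q22683 (flp_c L752436) q23453, e3 q22684 L744509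 q21357, e3 q22685 (flp_c L748699) q23182, e3 q22686 L758285 q23976, e3 q22687 (flp_c L754616) q23611, e3 q22688 (flp_c L748717) q23183, e3 q22689 L758327 q23979, e3 q22690 L758335 q23980, e3 q22691 (flp_c L748441) q23166, e3 q22692 L744598 q21119, e3 q22693 L758365 q23983, e3 q22694 L744624 q21443, e3 q22695 L744638 q21444, e3 q22696 L744650 q21297, e3 q22697 L744667 q21299, e3 q22698 L744677 q21128, e3 q22699 L744689 q21129, e3 q22700 L758448 q23990, e3 q22701 (flp_c L758430) q23988, e3 q22702 L758462 q23992, e3 q22703 (flp_c L744723) q21130, e3 q22704 L744731 q21458, e3 q22705 (flp_c L753227) q23503, e3 q22706 L744752 q21137, e3 q22707 (flp_c L754642) q23612, e3 q22708 L744775 q21428, e3 q22709 L744782 q21145, e3 q22710 L744794 q21146, e3 q22711 (flp_c L758511) q23997, e3 q22712 (flp_c L751769) q23401, e3 q22713 L758566 q24001, e3 q22714 L758576 q24002, e3 q22715 L744860 q21258, e3 q22716 L744874 q21267, e3 q22717 L744886 q21508, e3 q22718 (flp_c L750393) q23299, e3 q22719 L758614 q24006, trivial⟩ (by decide +kernel)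

theorem ce_c_355 : ∀ r, r < 64 → sm gc (Qf (22720 + r)) = Qf (tab Gen.c (22720 + r)) :=
  edges_tab (sm gc) Qf (tab Gen.c) 22720 [(22720, 21304), (22721, 21157), (22722, 21268), (22723, 21676), (22724, 23300), (22725, 21346), (22726, 21347), (22727, 23707), (22728, 24011), (22729, 23359), (22730, 21176), (22731, 21596), (22732, 24015), (22733, 21591), (22734, 23218), (22735, 23228), (22736, 21183), (22737, 21184), (22738, 23905), (22739, 24018), (22740, 23219), (22741, 23229), (22742, 21406), (22743, 21612), (22744, 21191), (22745, 21192), (22746, 21643), (22747, 24026), (22748, 24030), (22749, 23594), (22750, 23225), (22751, 23946), (22752, 21603), (22753, 21613), (22754, 21201), (22755, 24037), (22756, 21653), (22757, 24040), (22758, 21202), (22759, 23936), (22760, 21207), (22761, 21518), (22762, 21644), (22763, 21656), (22764, 21522), (22765, 21654), (22766, 22766), (22767, 21224), (22768, 23956), (22769, 21646), (22770, 21687), (22771, 21693), (22772, 23595), (22773, 24054), (22774, 23961), (22775, 24019), (22776, 24048),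 (22777, 21698), (22778, 21690), (22779, 21681), (22780, 21694), (22781, 21550), (22782, 21552), (22783, 21553)]
    ⟨e3 q22720 L744910 q21304, e3 q22721 (flp_c L744914) q21157, e3 q22722 L744928 q21268, e3 q22723 L744944 q21676, e3 q22724 (flp_c L750403) q23300, e3 q22725 L744957 q21346, e3 q22726 L744966 q21347, e3 q22727 (flp_c L755592) q23707, e3 q22728 L758666 q24011, e3 q22729 (flp_c L751235) q23359, e3 q22730 L745008 q21176, e3 q22731 L745022 q21596, e3 q22732 L758694 q24015, e3 q22733 L745042 q21591, e3 q22734 (flp_c L749246) q23218, e3 q22735 (flp_c L749393) q23228, e3 q22736 L745074 q21183, e3 q22737 L745088 q21184, e3 q22738 (flp_c L757672) q23905, e3 q22739 (flp_c L758731) q24018, e3 q22740 (flp_c L749264) q23219, e3 q22741 (flp_c L749407) q23229, e3 q22742 L745130 q21406, e3 q22743 L745141 q21612, e3 q22744 L745155 q21191, e3 q22745 L745167 q21192, e3 q22746 L745181 q21643, e3 q22747 (flp_c L758814) q24026, e3 q22748 L758856 q24030, e3 q22749 (flp_c L754417) q23594, e3 q22750 (flp_c L749351) q23225, e3 q22751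 (flp_c L757996) q23946, e3 q22752 L745239 q21603, e3 q22753 L745252 q21613, e3 q22754 L745262 q21201, e3 q22755 L758911 q24037, e3 q22756 L745276 q21653, e3 q22757 L758933 q24040, e3 q22758 (flp_c L745290) q21202, e3 q22759 (flp_c L757900) q23936, e3 q22760 L745309 q21207, e3 q22761 L745326 q21518, e3 q22762 L745333 q21644, e3 q22763 L745344 q21656, e3 q22764 L745356 q21522, e3 q22765 L745363 q21654, e3 q22766 L745373 q22766, e3 q22767 L745392 q21224, e3 q22768 (flp_c L758079) q23956, e3 q22769 L745407 q21646, e3 q22770 L745424 q21687, e3 q22771 L745430 q21693, e3 q22772 (flp_c L754427) q23595, e3 q22773 L759076 q24054, e3 q22774 (flp_c L758133) q23961, e3 q22775 (flp_c L758748) q24019, e3 q22776 (flp_c L759014) q24048, e3 q22777 L745479 q21698, e3 q22778 L745490 q21690, e3 q22779 L745501 q21681, e3 q22780 L745511 q21694, e3 q22781 L745523 q21550, e3 q22782 L745534 q21552, e3 q22783 L745546 q21553, trivial⟩ (by decide +kernel)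

theorem ce_c_356 : ∀ r, r < 64 → sm gc (Qf (22784 + r)) = Qf (tab Gen.c (22784 + r)) :=
  edges_tab (sm gc) Qf (tab Gen.c) 22784 [(22784, 21254), (22785, 21237), (22786, 23998), (22787, 24067), (22788, 21576), (22789, 21240), (22790, 21241), (22791, 24069), (22792, 23331), (22793, 21564), (22794, 21565), (22795, 21577), (22796, 21578), (22797, 21247), (22798, 23446), (22799, 24079), (22800, 23829), (22801, 21574), (22802, 21575), (22803, 23309), (22804, 21566), (22805, 23304), (22806, 24064), (22807, 21259), (22808, 24088), (22809, 23942), (22810, 24003), (22811, 24091), (22812, 21260), (22813, 21677), (22814, 21592), (22815, 21272), (22816, 21273), (22817, 21344), (22818, 24093), (22819, 24097), (22820, 21606), (22821, 21607), (22822, 21473), (22823, 21423), (22824, 21424), (22825, 23213), (22826, 23234), (22827, 21283), (22828, 24106), (22829, 23447), (22830, 24109), (22831, 21284), (22832, 21616), (22833, 21617), (22834, 23745), (22835, 23538), (22836, 23746), (22837, 21620), (22838, 21621), (22839, 24118), (22840, 23321),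 (22841, 21532), (22842, 23301), (22843, 23986), (22844, 23302), (22845, 24124), (22846, 21305), (22847, 21306)]
    ⟨e3 q22784 L745556 q21254, e3 q22785 L745567 q21237, e3 q22786 (flp_c L758531) q23998, e3 q22787 L759203 q24067, e3 q22788 L745602 q21576, e3 q22789 L745607 q21240, e3 q22790 L745615 q21241, e3 q22791 (flp_c L759224) q24069, e3 q22792 (flp_c L750865) q23331, e3 q22793 L745645 q21564, e3 q22794 L745657 q21565, e3 q22795 L745667 q21577, e3 q22796 L745678 q21578, e3 q22797 L745689 q21247, e3 q22798 (flp_c L752331) q23446, e3 q22799 L759325 q24079, e3 q22800 (flp_c L756900) q23829, e3 q22801 L745733 q21574, e3 q22802 L745747 q21575, e3 q22803 (flp_c L750553) q23309, e3 q22804 L745764 q21566, e3 q22805 (flp_c L750465) q23304, e3 q22806 (flp_c L759181) q24064, e3 q22807 L745784 q21259, e3 q22808 L759398 q24088, e3 q22809 (flp_c L757957) q23942, e3 q22810 (flp_c L758592) q24003, e3 q22811 L759422 q24091, e3 q22812 (flp_c L745827) q21260, e3 q22813 L745840 q21677, e3 q22814 L745849 q21592, e3 q22815 L745861 q21272,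 e3 q22816 L745868 q21273, e3 q22817 L745879 q21344, e3 q22818 (flp_c L759440) q24093, e3 q22819 L759463 q24097, e3 q22820 L745900 q21606, e3 q22821 L745912 q21607, e3 q22822 L745926 q21473, e3 q22823 L745932 q21423, e3 q22824 L745943 q21424, e3 q22825 (flp_c L749162) q23213, e3 q22826 (flp_c L749478) q23234, e3 q22827 L745966 q21283, e3 q22828 L759539 q24106, e3 q22829 (flp_c L752338) q23447, e3 q22830 L759559 q24109, e3 q22831 (flp_c L745998) q21284, e3 q22832 L746008 q21616, e3 q22833 L746020 q21617, e3 q22834 (flp_c L755983) q23745, e3 q22835 (flp_c L753686) q23538, e3 q22836 (flp_c L755998) q23746, e3 q22837 L746051 q21620, e3 q22838 L746063 q21621, e3 q22839 L759638 q24118, e3 q22840 (flp_c L750713) q23321, e3 q22841 L746083 q21532, e3 q22842 (flp_c L750420) q23301, e3 q22843 (flp_c L758405) q23986, e3 q22844 (flp_c L750437) q23302, e3 q22845 L759676 q24124, e3 q22846 L746114 q21305, e3 q22847 L746122 q21306, trivial⟩ (by decide +kernel)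

theorem ce_c_357 : ∀ r, r < 64 → sm gc (Qf (22848 + r)) = Qf (tab Gen.c (22848 + r)) :=
  edges_tab (sm gc) Qf (tab Gen.c) 22848 [(22848, 24128), (22849, 21303), (22850, 24131), (22851, 23862), (22852, 24126), (22853, 24134), (22854, 21307), (22855, 21638), (22856, 21639), (22857, 21640), (22858, 21641), (22859, 23949), (22860, 23711), (22861, 23855), (22862, 21647), (22863, 23262), (22864, 21648), (22865, 23950), (22866, 21327), (22867, 23295), (22868, 23712), (22869, 21655), (22870, 23298), (22871, 21345), (22872, 21474), (22873, 23214), (22874, 23278), (22875, 23279), (22876, 23448), (22877, 23539), (22878, 23682), (22879, 23683), (22880, 24070), (22881, 24095), (22882, 24146), (22883, 24009), (22884, 21356), (22885, 21358), (22886, 23158), (22887, 21364), (22888, 23644), (22889, 23640), (22890, 21371), (22891, 21416), (22892, 24159), (22893, 21418), (22894, 23587), (22895, 21419), (22896, 21420), (22897, 23287), (22898, 23699), (22899, 21381), (22900, 21426), (22901, 24167), (22902, 21429), (22903, 24169), (22904, 21492),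 (22905, 21509), (22906, 21502), (22907, 21510), (22908, 21392), (22909, 24175), (22910, 21451), (22911, 24178)]
    ⟨e3 q22848 L759698 q24128, e3 q22849 (flp_c L746132) q21303, e3 q22850 (flp_c L759714) q24131, e3 q22851 (flp_c L757262) q23862, e3 q22852 (flp_c L759688) q24126, e3 q22853 L759726 q24134, e3 q22854 (flp_c L746160) q21307, e3 q22855 L746166 q21638, e3 q22856 L746174 q21639, e3 q22857 L746187 q21640, e3 q22858 L746200 q21641, e3 q22859 (flp_c L758018) q23949, e3 q22860 (flp_c L755642) q23711, e3 q22861 L757187 q23855, e3 q22862 L746239 q21647, e3 q22863 (flp_c L749861) q23262, e3 q22864 L746264 q21648, e3 q22865 (flp_c L758030) q23950, e3 q22866 L746281 q21327, e3 q22867 (flp_c L750332) q23295, e3 q22868 (flp_c L755649) q23712, e3 q22869 L746303 q21655, e3 q22870 (flp_c L750374) q23298, e3 q22871 L746320 q21345, e3 q22872 L746329 q21474, e3 q22873 (flp_c L749180) q23214, e3 q22874 (flp_c L750075) q23278, e3 q22875 (flp_c L750083) q23279, e3 q22876 (flp_c L752350) q23448, e3 q22877 (flp_c L753702) q23539, e3 q22878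 (flp_c L755312) q23682, e3 q22879 (flp_c L755320) q23683, e3 q22880 (flp_c L759239) q24070, e3 q22881 (flp_c L759451) q24095, e3 q22882 (flp_c L759821) q24146, e3 q22883 (flp_c L758642) q24009, e3 q22884 L746408 q21356, e3 q22885 L746416 q21358, e3 q22886 (flp_c L748305) q23158, e3 q22887 L746432 q21364, e3 q22888 (flp_c L754965) q23644, e3 q22889 (flp_c L754908) q23640, e3 q22890 L746470 q21371, e3 q22891 L746480 q21416, e3 q22892 L759920 q24159, e3 q22893 L746496 q21418, e3 q22894 (flp_c L754323) q23587, e3 q22895 L746517 q21419, e3 q22896 L746524 q21420, e3 q22897 (flp_c L750205) q23287, e3 q22898 (flp_c L755504) q23699, e3 q22899 L746542 q21381, e3 q22900 L746554 q21426, e3 q22901 L759975 q24167, e3 q22902 L746565 q21429, e3 q22903 L759988 q24169, e3 q22904 L746582 q21492, e3 q22905 L746591 q21509, e3 q22906 L746600 q21502, e3 q22907 L746608 q21510, e3 q22908 L746614 q21392, e3 q22909 L760030 q24175, e3 q22910 L746624 q21451, e3 q22911 L760046 q24178, trivial⟩ (by decide +kernel)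

theorem ce_c_358 : ∀ r, r < 64 → sm gc (Qf (22912 + r)) = Qf (tab Gen.c (22912 + r)) :=
  edges_tab (sm gc) Qf (tab Gen.c) 22912 [(22912, 21393), (22913, 23186), (22914, 23164), (22915, 21463), (22916, 21464), (22917, 21519), (22918, 23749), (22919, 23969), (22920, 21475), (22921, 21477), (22922, 24024), (22923, 21409), (22924, 23663), (22925, 24190), (22926, 23191), (22927, 24192), (22928, 24193), (22929, 24158), (22930, 21417), (22931, 24160), (22932, 24162), (22933, 23180), (22934, 23995), (22935, 24101), (22936, 24102), (22937, 24201), (22938, 24166), (22939, 21427), (22940, 23508), (22941, 24168), (22942, 21434), (22943, 21445), (22944, 23468), (22945, 24209), (22946, 23509), (22947, 23512), (22948, 24212), (22949, 23646), (22950, 21439), (22951, 23529), (22952, 23195), (22953, 23735), (22954, 23984), (22955, 24219), (22956, 24207), (22957, 21627), (22958, 24223), (22959, 21453), (22960, 24226), (22961, 21450), (22962, 24229), (22963, 24177), (22964, 23162), (22965, 24232), (22966, 21454), (22967, 23993), (22968, 23520),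 (22969, 24182), (22970, 21471), (22971, 23525), (22972, 23199), (22973, 23443), (22974, 23444), (22975, 23523)]
    ⟨e3 q22912 (flp_c L746636) q21393, e3 q22913 (flp_c L748769) q23186, e3 q22914 (flp_c L748412) q23164, e3 q22915 L746656 q21463, e3 q22916 L746662 q21464, e3 q22917 L746668 q21519, e3 q22918 (flp_c L756046) q23749, e3 q22919 (flp_c L758218) q23969, e3 q22920 L746687 q21475, e3 q22921 L746694 q21477, e3 q22922 (flp_c L758789) q24024, e3 q22923 L746715 q21409, e3 q22924 (flp_c L755120) q23663, e3 q22925 L760121 q24190, e3 q22926 (flp_c L748843) q23191, e3 q22927 L760135 q24192, e3 q22928 L760143 q24193, e3 q22929 (flp_c L759916) q24158, e3 q22930 (flp_c L746762) q21417, e3 q22931 (flp_c L759932) q24160, e3 q22932 (flp_c L759949) q24162, e3 q22933 (flp_c L748665) q23180, e3 q22934 (flp_c L758497) q23995, e3 q22935 (flp_c L759499) q24101, e3 q22936 (flp_c L759510) q24102, e3 q22937 L760189 q24201, e3 q22938 (flp_c L759970) q24166, e3 q22939 (flp_c L746815) q21427, e3 q22940 (flp_c L753301) q23508, e3 q22941 (flp_c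 L759983) q24168, e3 q22942 L746835 q21434, e3 q22943 L746847 q21445, e3 q22944 (flp_c L752711) q23468, e3 q22945 L760237 q24209, e3 q22946 (flp_c L753310) q23509, e3 q22947 (flp_c L753354) q23512, e3 q22948 L760257 q24212, e3 q22949 (flp_c L754987) q23646, e3 q22950 (flp_c L746889) q21439, e3 q22951 (flp_c L753565) q23529, e3 q22952 (flp_c L748899) q23195, e3 q22953 (flp_c L755894) q23735, e3 q22954 (flp_c L758379) q23984, e3 q22955 L760297 q24219, e3 q22956 (flp_c L760225) q24207, e3 q22957 L746935 q21627, e3 q22958 L760317 q24223, e3 q22959 L746947 q21453, e3 q22960 L760333 q24226, e3 q22961 (flp_c L746957) q21450, e3 q22962 (flp_c L760353) q24229, e3 q22963 (flp_c L760040) q24177, e3 q22964 (flp_c L748374) q23162, e3 q22965 L760365 q24232, e3 q22966 (flp_c L746983) q21454, e3 q22967 (flp_c L758476) q23993, e3 q22968 (flp_c L753440) q23520, e3 q22969 (flp_c L760068) q24182, e3 q22970 L747007 q21471, e3 q22971 (flp_c L753504) q23525, e3 q22972 (flp_c L748953) q23199, e3 q22973 (flp_c L752289) q23443, e3 q22974 (flp_c L752297)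 q23444, e3 q22975 (flp_c L753472) q23523, trivial⟩ (by decide +kernel)

theorem ce_c_359 : ∀ r, r < 64 → sm gc (Qf (22976 + r)) = Qf (tab Gen.c (22976 + r)) :=
  edges_tab (sm gc) Qf (tab Gen.c) 22976 [(22976, 24074), (22977, 24100), (22978, 24186), (22979, 23705), (22980, 23706), (22981, 24239), (22982, 21482), (22983, 24241), (22984, 23694), (22985, 24243), (22986, 24244), (22987, 21488), (22988, 21493), (22989, 21494), (22990, 24170), (22991, 24246), (22992, 24250), (22993, 21534), (22994, 23397), (22995, 23641), (22996, 23643), (22997, 21503), (22998, 24256), (22999, 24172), (23000, 24258), (23001, 21504), (23002, 23879), (23003, 23874), (23004, 21541), (23005, 24263), (23006, 24171), (23007, 24265), (23008, 24266), (23009, 21512), (23010, 21513), (23011, 24008), (23012, 21535), (23013, 23368), (23014, 24043), (23015, 23357), (23016, 24046), (23017, 21527), (23018, 23526), (23019, 24276), (23020, 24277), (23021, 21529), (23022, 21533), (23023, 24120), (23024, 24281), (23025, 24251), (23026, 24283), (23027, 21537), (23028,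 23365), (23029, 23880), (23030, 24287), (23031, 23353), (23032, 24289), (23033, 21544), (23034, 24269), (23035, 23842), (23036, 24061), (23037, 23836), (23038, 24062), (23039, 24296)]
    ⟨e3 q22976 (flp_c L759287) q24074, e3 q22977 (flp_c L759491) q24100, e3 q22978 (flp_c L760094) q24186, e3 q22979 (flp_c L755565) q23705, e3 q22980 (flp_c L755578) q23706, e3 q22981 L760407 q24239, e3 q22982 (flp_c L747085) q21482, e3 q22983 L760419 q24241, e3 q22984 (flp_c L755450) q23694, e3 q22985 L760433 q24243, e3 q22986 L760441 q24244, e3 q22987 (flp_c L747121) q21488, e3 q22988 L747129 q21493, e3 q22989 L747136 q21494, e3 q22990 (flp_c L759998) q24170, e3 q22991 (flp_c L760455) q24246, e3 q22992 L760479 q24250, e3 q22993 L747166 q21534, e3 q22994 (flp_c L751723) q23397, e3 q22995 (flp_c L754926) q23641, e3 q22996 (flp_c L754951) q23643, e3 q22997 L747199 q21503, e3 q22998 L760522 q24256, e3 q22999 (flp_c L760014) q24172, e3 q23000 L760536 q24258, e3 q23001 (flp_c L747229) q21504, e3 q23002 (flp_c L757442) q23879, e3 q23003 (flp_c L757393)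 q23874, e3 q23004 L747262 q21541, e3 q23005 L760577 q24263, e3 q23006 (flp_c L760007) q24171, e3 q23007 L760585 q24265, e3 q23008 L760589 q24266, e3 q23009 (flp_c L747285) q21512, e3 q23010 (flp_c L747289) q21513, e3 q23011 (flp_c L758634) q24008, e3 q23012 L747301 q21535, e3 q23013 (flp_c L751341) q23368, e3 q23014 (flp_c L758968) q24043, e3 q23015 (flp_c L751210) q23357, e3 q23016 (flp_c L758995) q24046, e3 q23017 L747336 q21527, e3 q23018 (flp_c L753525) q23526, e3 q23019 L760642 q24276, e3 q23020 L760648 q24277, e3 q23021 (flp_c L747362) q21529, e3 q23022 L747372 q21533, e3 q23023 (flp_c L759652) q24120, e3 q23024 L760672 q24281, e3 q23025 (flp_c L760489) q24251, e3 q23026 L760684 q24283, e3 q23027 (flp_c L747405) q21537, e3 q23028 (flp_c L751306) q23365, e3 q23029 (flp_c L757457) q23880, e3 q23030 L760708 q24287, e3 q23031 (flp_c L751147) q23353, e3 q23032 L760716 q24289, e3 q23033 (flp_c L747443) q21544, e3 q23034 (flp_c L760607) q24269, e3 q23035 (flp_c L757044) q23842, e3 q23036 (flp_c L759146) q24061, e3 q23037 (flp_c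 L756986) q23836, e3 q23038 (flp_c L759158) q24062, e3 q23039 L760762 q24296, trivial⟩ (by decide +kernel)

theorem ce_c_360 : ∀ r, r < 64 → sm gc (Qf (23040 + r)) = Qf (tab Gen.c (23040 + r)) :=
  edges_tab (sm gc) Qf (tab Gen.c) 23040 [(23040, 21579), (23041, 21580), (23042, 24300), (23043, 23728), (23044, 21558), (23045, 21562), (23046, 21563), (23047, 24303), (23048, 24306), (23049, 24073), (23050, 24084), (23051, 24309), (23052, 21568), (23053, 23901), (23054, 21573), (23055, 23809), (23056, 24312), (23057, 24081), (23058, 24316), (23059, 23215), (23060, 24068), (23061, 24075), (23062, 24076), (23063, 24298), (23064, 24322), (23065, 21585), (23066, 21586), (23067, 24325), (23068, 21584), (23069, 24323), (23070, 24329), (23071, 21587), (23072, 24092), (23073, 24332), (23074, 24333), (23075, 21593), (23076, 21597), (23077, 23306), (23078, 24014), (23079, 21686), (23080, 21604), (23081, 24338), (23082, 24034), (23083, 24340), (23084, 21605), (23085, 24098), (23086, 24344), (23087, 24345), (23088, 24346), (23089, 21610),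 (23090, 24349), (23091, 23755), (23092, 24025), (23093, 24353), (23094, 21614), (23095, 24110), (23096, 24111), (23097, 24357), (23098, 23754), (23099, 24116), (23100, 24359), (23101, 21622), (23102, 23203), (23103, 23311)]
    ⟨e3 q23040 L747495 q21579, e3 q23041 L747501 q21580, e3 q23042 L760786 q24300, e3 q23043 (flp_c L755819) q23728, e3 q23044 (flp_c L747511) q21558, e3 q23045 L747517 q21562, e3 q23046 L747524 q21563, e3 q23047 (flp_c L760800) q24303, e3 q23048 L760819 q24306, e3 q23049 (flp_c L759267) q24073, e3 q23050 (flp_c L759373) q24084, e3 q23051 L760841 q24309, e3 q23052 (flp_c L747567) q21568, e3 q23053 (flp_c L757636) q23901, e3 q23054 L747583 q21573, e3 q23055 (flp_c L756698) q23809, e3 q23056 (flp_c L760863) q24312, e3 q23057 (flp_c L759346) q24081, e3 q23058 L760888 q24316, e3 q23059 (flp_c L749203) q23215, e3 q23060 (flp_c L759215) q24068, e3 q23061 (flp_c L759292) q24075, e3 q23062 (flp_c L759303) q24076, e3 q23063 (flp_c L760776) q24298, e3 q23064 L760923 q24322, e3 q23065 L747656 q21585, e3 q23066 L747664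 q21586, e3 q23067 L760943 q24325, e3 q23068 (flp_c L747678) q21584, e3 q23069 (flp_c L760929) q24323, e3 q23070 L760969 q24329, e3 q23071 (flp_c L747698) q21587, e3 q23072 (flp_c L759436) q24092, e3 q23073 L760985 q24332, e3 q23074 L760997 q24333, e3 q23075 (flp_c L747729) q21593, e3 q23076 L747740 q21597, e3 q23077 (flp_c L750508) q23306, e3 q23078 (flp_c L758689) q24014, e3 q23079 L747769 q21686, e3 q23080 L747774 q21604, e3 q23081 L761033 q24338, e3 q23082 (flp_c L758890) q24034, e3 q23083 L761045 q24340, e3 q23084 (flp_c L747794) q21605, e3 q23085 (flp_c L759471) q24098, e3 q23086 L761066 q24344, e3 q23087 L761074 q24345, e3 q23088 L761082 q24346, e3 q23089 (flp_c L747834) q21610, e3 q23090 (flp_c L761104) q24349, e3 q23091 (flp_c L756112) q23755, e3 q23092 (flp_c L758802) q24025, e3 q23093 L761134 q24353, e3 q23094 (flp_c L747872) q21614, e3 q23095 (flp_c L759573) q24110, e3 q23096 (flp_c L759581) q24111, e3 q23097 L761154 q24357, e3 q23098 (flp_c L756102) q23754, e3 q23099 (flp_c L759622) q24116, e3 q23100 L761164 q24359,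 e3 q23101 (flp_c L747918) q21622, e3 q23102 (flp_c L749013) q23203, e3 q23103 (flp_c L750575) q23311, trivial⟩ (by decide +kernel)

theorem ce_c_361 : ∀ r, r < 64 → sm gc (Qf (23104 + r)) = Qf (tab Gen.c (23104 + r)) :=
  edges_tab (sm gc) Qf (tab Gen.c) 23104 [(23104, 23303), (23105, 24365), (23106, 24367), (23107, 21628), (23108, 21635), (23109, 24370), (23110, 21631), (23111, 24373), (23112, 24361), (23113, 21633), (23114, 24377), (23115, 24378), (23116, 21636), (23117, 24135), (23118, 24136), (23119, 24137), (23120, 24381), (23121, 21642), (23122, 24028), (23123, 24044), (23124, 23759), (23125, 24045), (23126, 21649), (23127, 24386), (23128, 21685), (23129, 23314), (23130, 24039), (23131, 24042), (23132, 23527), (23133, 23133), (23134, 21672), (23135, 23429), (23136, 24059), (23137, 23856), (23138, 23953), (23139, 21667), (23140, 24392), (23141, 21675), (23142, 23418), (23143, 23430), (23144, 21674), (23145, 24060), (23146, 24052), (23147, 23204), (23148, 24050), (23149, 24335), (23150, 24387), (23151, 24051), (23152,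 21689), (23153, 24401), (23154, 21692), (23155, 24056), (23156, 21696), (23157, 21700), (23158, 22886), (23159, 21706), (23160, 22087), (23161, 22316), (23162, 22964), (23163, 22331), (23164, 22914), (23165, 22274), (23166, 22691), (23167, 21725)]
    ⟨e3 q23104 (flp_c L750449) q23303, e3 q23105 L761198 q24365, e3 q23106 L761210 q24367, e3 q23107 (flp_c L747950) q21628, e3 q23108 L747956 q21635, e3 q23109 L761222 q24370, e3 q23110 (flp_c L747966) q21631, e3 q23111 (flp_c L761242) q24373, e3 q23112 (flp_c L761176) q24361, e3 q23113 L747982 q21633, e3 q23114 (flp_c L761260) q24377, e3 q23115 L761262 q24378, e3 q23116 (flp_c L747992) q21636, e3 q23117 (flp_c L759734) q24135, e3 q23118 (flp_c L759738) q24136, e3 q23119 (flp_c L759746) q24137, e3 q23120 L761274 q24381, e3 q23121 (flp_c L748020) q21642, e3 q23122 (flp_c L758834) q24028, e3 q23123 (flp_c L758975) q24044, e3 q23124 (flp_c L756156) q23759, e3 q23125 (flp_c L758985) q24045, e3 q23126 (flp_c L748062) q21649, e3 q23127 (flp_c L761321) q24386, e3 q23128 L748080 q21685,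 e3 q23129 (flp_c L750615) q23314, e3 q23130 (flp_c L758927) q24039, e3 q23131 (flp_c L758951) q24042, e3 q23132 (flp_c L753533) q23527, e3 q23133 L748118 q23133, e3 q23134 L748129 q21672, e3 q23135 (flp_c L752110) q23429, e3 q23136 (flp_c L759125) q24059, e3 q23137 (flp_c L757193) q23856, e3 q23138 (flp_c L758064) q23953, e3 q23139 (flp_c L748162) q21667, e3 q23140 (flp_c L761367) q24392, e3 q23141 L748175 q21675, e3 q23142 (flp_c L751961) q23418, e3 q23143 (flp_c L752118) q23430, e3 q23144 L748192 q21674, e3 q23145 (flp_c L759135) q24060, e3 q23146 (flp_c L759060) q24052, e3 q23147 (flp_c L749029) q23204, e3 q23148 (flp_c L759039) q24050, e3 q23149 (flp_c L761019) q24335, e3 q23150 (flp_c L761329) q24387, e3 q23151 (flp_c L759047) q24051, e3 q23152 L748248 q21689, e3 q23153 (flp_c L761420) q24401, e3 q23154 L748266 q21692, e3 q23155 (flp_c L759096) q24056, e3 q23156 L748281 q21696, e3 q23157 (flp_c L748286) q21700, e3 q23158 L748305 q22886, e3 q23159 (flp_c L748310) q21706, e3 q23160 L748348 q22087, e3 q23161 L748356 q22316,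 e3 q23162 L748374 q22964, e3 q23163 L748390 q22331, e3 q23164 L748412 q22914, e3 q23165 L748423 q22274, e3 q23166 L748441 q22691, e3 q23167 L748457 q21725, trivial⟩ (by decide +kernel)

theorem ce_c_362 : ∀ r, r < 64 → sm gc (Qf (23168 + r)) = Qf (tab Gen.c (23168 + r)) :=
  edges_tab (sm gc) Qf (tab Gen.c) 23168 [(23168, 21726), (23169, 24407), (23170, 24410), (23171, 22284), (23172, 21767), (23173, 22089), (23174, 22092), (23175, 21735), (23176, 24412), (23177, 21736), (23178, 21740), (23179, 24414), (23180, 22933), (23181, 24416), (23182, 22685), (23183, 22688), (23184, 24419), (23185, 22091), (23186, 22913), (23187, 22181), (23188, 24422), (23189, 24423), (23190, 22211), (23191, 22926), (23192, 24426), (23193, 21761), (23194, 22212), (23195, 22952), (23196, 21764), (23197, 24431), (23198, 22335), (23199, 22972), (23200, 22341), (23201, 21772), (23202, 22604), (23203, 23102), (23204, 23147), (23205, 21808), (23206, 21825), (23207, 21789), (23208, 21779), (23209, 21780), (23210, 21781), (23211, 24439), (23212, 24440), (23213,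 22825), (23214, 22873), (23215, 23059), (23216, 21787), (23217, 21788), (23218, 22734), (23219, 22740), (23220, 24446), (23221, 22506), (23222, 24438), (23223, 21793), (23224, 21943), (23225, 22750), (23226, 24456), (23227, 21949), (23228, 22735), (23229, 22741), (23230, 24460), (23231, 21955)]
    ⟨e3 q23168 L748475 q21726, e3 q23169 (flp_c L761518) q24407, e3 q23170 L761558 q24410, e3 q23171 L748515 q22284, e3 q23172 L748533 q21767, e3 q23173 L748553 q22089, e3 q23174 L748570 q22092, e3 q23175 L748586 q21735, e3 q23176 L761588 q24412, e3 q23177 (flp_c L748612) q21736, e3 q23178 (flp_c L748630) q21740, e3 q23179 (flp_c L761626) q24414, e3 q23180 L748665 q22933, e3 q23181 L761653 q24416, e3 q23182 L748699 q22685, e3 q23183 L748717 q22688, e3 q23184 L761705 q24419, e3 q23185 L748747 q22091, e3 q23186 L748769 q22913, e3 q23187 L748784 q22181, e3 q23188 L761747 q24422, e3 q23189 L761759 q24423, e3 q23190 L748825 q22211, e3 q23191 L748843 q22926, e3 q23192 L761809 q24426, e3 q23193 (flp_c L748865) q21761, e3 q23194 L748877 q22212,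 e3 q23195 L748899 q22952, e3 q23196 (flp_c L748903) q21764, e3 q23197 (flp_c L761879) q24431, e3 q23198 L748945 q22335, e3 q23199 L748953 q22972, e3 q23200 L748977 q22341, e3 q23201 L748983 q21772, e3 q23202 L748996 q22604, e3 q23203 L749013 q23102, e3 q23204 L749029 q23147, e3 q23205 L749046 q21808, e3 q23206 L749064 q21825, e3 q23207 L749082 q21789, e3 q23208 L749095 q21779, e3 q23209 L749110 q21780, e3 q23210 L749122 q21781, e3 q23211 (flp_c L762010) q24439, e3 q23212 (flp_c L762025) q24440, e3 q23213 L749162 q22825, e3 q23214 L749180 q22873, e3 q23215 L749203 q23059, e3 q23216 L749214 q21787, e3 q23217 L749230 q21788, e3 q23218 L749246 q22734, e3 q23219 L749264 q22740, e3 q23220 (flp_c L762117) q24446, e3 q23221 L749290 q22506, e3 q23222 (flp_c L761993) q24438, e3 q23223 L749320 q21793, e3 q23224 L749342 q21943, e3 q23225 L749351 q22750, e3 q23226 L762257 q24456, e3 q23227 L749384 q21949, e3 q23228 L749393 q22735, e3 q23229 L749407 q22741, e3 q23230 L762311 q24460, e3 q23231 L749435 q21955, trivial⟩ (by decide +kernel)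

theorem ce_c_363 : ∀ r, r < 64 → sm gc (Qf (23232 + r)) = Qf (tab Gen.c (23232 + r)) :=
  edges_tab (sm gc) Qf (tab Gen.c) 23232 [(23232, 24462), (23233, 21800), (23234, 22826), (23235, 21809), (23236, 21810), (23237, 21970), (23238, 24436), (23239, 24465), (23240, 24470), (23241, 21938), (23242, 22564), (23243, 22397), (23244, 22371), (23245, 21924), (23246, 21963), (23247, 21925), (23248, 21964), (23249, 21820), (23250, 24480), (23251, 21989), (23252, 24483), (23253, 21821), (23254, 21826), (23255, 24487), (23256, 21996), (23257, 24437), (23258, 24491), (23259, 21827), (23260, 24493), (23261, 21830), (23262, 22863), (23263, 22006), (23264, 21832), (23265, 24497), (23266, 22013), (23267, 24498), (23268, 21838), (23269, 24500), (23270, 22042), (23271, 21841), (23272, 22028), (23273, 22489), (23274, 22565), (23275, 22345), (23276, 22372), (23277, 21926), (23278, 22874), (23279, 22875), (23280, 22038), (23281, 22040), (23282, 22401), (23283, 22406), (23284, 22402), (23285, 21860), (23286, 21861), (23287, 22897), (23288, 24513),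 (23289, 24514), (23290, 21864), (23291, 21865), (23292, 24517), (23293, 22392), (23294, 21870), (23295, 22867)]
    ⟨e3 q23232 L762342 q24462, e3 q23233 (flp_c L749457) q21800, e3 q23234 L749478 q22826, e3 q23235 L749494 q21809, e3 q23236 L749510 q21810, e3 q23237 L749530 q21970, e3 q23238 (flp_c L761960) q24436, e3 q23239 (flp_c L762392) q24465, e3 q23240 L762452 q24470, e3 q23241 L749578 q21938, e3 q23242 L749596 q22564, e3 q23243 L749614 q22397, e3 q23244 L749640 q22371, e3 q23245 L749650 q21924, e3 q23246 L749667 q21963, e3 q23247 L749682 q21925, e3 q23248 L749694 q21964, e3 q23249 L749708 q21820, e3 q23250 L762594 q24480, e3 q23251 L749728 q21989, e3 q23252 L762622 q24483, e3 q23253 (flp_c L749744) q21821, e3 q23254 L749758 q21826, e3 q23255 L762663 q24487, e3 q23256 L749784 q21996, e3 q23257 (flp_c L761978) q24437, e3 q23258 L762720 q24491, e3 q23259 (flp_c L749814) q21827, e3 q23260 L762744 q24493, e3 q23261 (flp_c L749840) q21830, e3 q23262 L749861 q22863, e3 q23263 L749876 q22006, e3 q23264 (flp_c L749880) q21832,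 e3 q23265 (flp_c L762807) q24497, e3 q23266 L749918 q22013, e3 q23267 L762815 q24498, e3 q23268 (flp_c L749932) q21838, e3 q23269 (flp_c L762847) q24500, e3 q23270 L749969 q22042, e3 q23271 L749975 q21841, e3 q23272 L749988 q22028, e3 q23273 L750003 q22489, e3 q23274 L750017 q22565, e3 q23275 L750036 q22345, e3 q23276 L750044 q22372, e3 q23277 L750057 q21926, e3 q23278 L750075 q22874, e3 q23279 L750083 q22875, e3 q23280 L750098 q22038, e3 q23281 L750109 q22040, e3 q23282 L750121 q22401, e3 q23283 L750139 q22406, e3 q23284 L750157 q22402, e3 q23285 L750173 q21860, e3 q23286 L750191 q21861, e3 q23287 L750205 q22897, e3 q23288 (flp_c L763038) q24513, e3 q23289 (flp_c L763056) q24514, e3 q23290 L750251 q21864, e3 q23291 L750267 q21865, e3 q23292 (flp_c L763102) q24517, e3 q23293 L750293 q22392, e3 q23294 L750310 q21870, e3 q23295 L750332 q22867, trivial⟩ (by decide +kernel)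

theorem ce_c_364 : ∀ r, r < 64 → sm gc (Qf (23296 + r)) = Qf (tab Gen.c (23296 + r)) :=
  edges_tab (sm gc) Qf (tab Gen.c) 23296 [(23296, 22418), (23297, 24524), (23298, 22870), (23299, 22718), (23300, 22724), (23301, 22842), (23302, 22844), (23303, 23104), (23304, 22805), (23305, 21885), (23306, 23077), (23307, 22465), (23308, 24533), (23309, 22803), (23310, 22605), (23311, 23103), (23312, 24537), (23313, 24538), (23314, 23129), (23315, 22566), (23316, 22602), (23317, 24542), (23318, 21898), (23319, 22580), (23320, 21982), (23321, 22840), (23322, 21995), (23323, 22027), (23324, 22034), (23325, 22495), (23326, 22496), (23327, 21929), (23328, 21912), (23329, 21913), (23330, 21914), (23331, 22792), (23332, 24551), (23333, 24552), (23334, 22503), (23335, 22504), (23336, 22507), (23337, 22508), (23338, 21940), (23339, 21922), (23340, 21923), (23341, 24441), (23342, 24562), (23343, 24566), (23344, 22466), (23345, 24475), (23346, 24477), (23347, 22524), (23348, 22525), (23349, 24550), (23350, 21934), (23351, 24447), (23352, 22468),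 (23353, 23031), (23354, 24577), (23355, 22522), (23356, 22534), (23357, 23015), (23358, 24471), (23359, 22729)]
    ⟨e3 q23296 L750341 q22418, e3 q23297 L763201 q24524, e3 q23298 L750374 q22870, e3 q23299 L750393 q22718, e3 q23300 L750403 q22724, e3 q23301 L750420 q22842, e3 q23302 L750437 q22844, e3 q23303 L750449 q23104, e3 q23304 L750465 q22805, e3 q23305 L750482 q21885, e3 q23306 L750508 q23077, e3 q23307 L750517 q22465, e3 q23308 L763332 q24533, e3 q23309 L750553 q22803, e3 q23310 L750560 q22605, e3 q23311 L750575 q23103, e3 q23312 L763384 q24537, e3 q23313 L763398 q24538, e3 q23314 L750615 q23129, e3 q23315 L750631 q22566, e3 q23316 L750649 q22602, e3 q23317 L763460 q24542, e3 q23318 (flp_c L750669) q21898, e3 q23319 L750683 q22580, e3 q23320 L750705 q21982, e3 q23321 L750713 q22840, e3 q23322 L750732 q21995, e3 q23323 L750751 q22027, e3 q23324 L750759 q22034, e3 q23325 L750774 q22495, e3 q23326 L750792 q22496, e3 q23327 L750810 q21929, e3 q23328 L750823 q21912, e3 q23329 L750838 q21913, e3 q23330 L750850 q21914, e3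 q23331 L750865 q22792, e3 q23332 (flp_c L763597) q24551, e3 q23333 (flp_c L763612) q24552, e3 q23334 L750907 q22503, e3 q23335 L750925 q22504, e3 q23336 L750937 q22507, e3 q23337 L750947 q22508, e3 q23338 L750958 q21940, e3 q23339 L750969 q21922, e3 q23340 L750980 q21923, e3 q23341 (flp_c L762046) q24441, e3 q23342 (flp_c L763748) q24562, e3 q23343 L763786 q24566, e3 q23344 L751025 q22466, e3 q23345 (flp_c L762532) q24475, e3 q23346 (flp_c L762562) q24477, e3 q23347 L751065 q22524, e3 q23348 L751081 q22525, e3 q23349 (flp_c L763580) q24550, e3 q23350 L751106 q21934, e3 q23351 (flp_c L762143) q24447, e3 q23352 L751133 q22468, e3 q23353 L751147 q23031, e3 q23354 L763925 q24577, e3 q23355 L751171 q22522, e3 q23356 L751188 q22534, e3 q23357 L751210 q23015, e3 q23358 (flp_c L762466) q24471, e3 q23359 L751235 q22729, trivial⟩ (by decide +kernel)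

theorem ce_c_365 : ∀ r, r < 64 → sm gc (Qf (23360 + r)) = Qf (tab Gen.c (23360 + r)) :=
  edges_tab (sm gc) Qf (tab Gen.c) 23360 [(23360, 24561), (23361, 21946), (23362, 24585), (23363, 24454), (23364, 22533), (23365, 23028), (23366, 24590), (23367, 21947), (23368, 23013), (23369, 24457), (23370, 22492), (23371, 24595), (23372, 21952), (23373, 24461), (23374, 22677), (23375, 22635), (23376, 21958), (23377, 24599), (23378, 22622), (23379, 22455), (23380, 22467), (23381, 24476), (23382, 24603), (23383, 22574), (23384, 22575), (23385, 22579), (23386, 24545), (23387, 24608), (23388, 24467), (23389, 22456), (23390, 22469), (23391, 24613), (23392, 21974), (23393, 22493), (23394, 22595), (23395, 22008), (23396, 22358), (23397, 22994), (23398, 22600), (23399, 24622), (23400, 24546), (23401, 22712), (23402, 24626), (23403, 21990), (23404, 21991), (23405, 24630), (23406, 21988), (23407, 24632), (23408, 24482), (23409, 24628), (23410, 24636), (23411, 21992), (23412, 24639), (23413, 22620), (23414, 22014), (23415, 22410), (23416, 24489),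 (23417, 22488), (23418, 23142), (23419, 21999), (23420, 24646), (23421, 22632), (23422, 22407), (23423, 22007)]
    ⟨e3 q23360 (flp_c L763737) q24561, e3 q23361 L751257 q21946, e3 q23362 L764030 q24585, e3 q23363 (flp_c L762238) q24454, e3 q23364 L751288 q22533, e3 q23365 L751306 q23028, e3 q23366 L764091 q24590, e3 q23367 (flp_c L751324) q21947, e3 q23368 L751341 q23013, e3 q23369 (flp_c L762273) q24457, e3 q23370 L751366 q22492, e3 q23371 L764142 q24595, e3 q23372 (flp_c L751388) q21952, e3 q23373 (flp_c L762333) q24461, e3 q23374 L751421 q22677, e3 q23375 L751443 q22635, e3 q23376 (flp_c L751446) q21958, e3 q23377 (flp_c L764208) q24599, e3 q23378 L751479 q22622, e3 q23379 L751490 q22455, e3 q23380 L751507 q22467, e3 q23381 (flp_c L762549) q24476, e3 q23382 L764253 q24603, e3 q23383 L751539 q22574, e3 q23384 L751557 q22575, e3 q23385 L751571 q22579, e3 q23386 (flp_c L763504) q24545, e3 q23387 L764313 q24608, e3 q23388 (flp_c L762420) q24467, e3 q23389 L751613 q22456, e3 q23390 L751629 q22469, e3 q23391 L764371 q24613,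 e3 q23392 (flp_c L751647) q21974, e3 q23393 L751657 q22493, e3 q23394 L751675 q22595, e3 q23395 L751697 q22008, e3 q23396 L751707 q22358, e3 q23397 L751723 q22994, e3 q23398 L751739 q22600, e3 q23399 L764495 q24622, e3 q23400 (flp_c L763514) q24546, e3 q23401 L751769 q22712, e3 q23402 L764537 q24626, e3 q23403 L751799 q21990, e3 q23404 L751817 q21991, e3 q23405 L764597 q24630, e3 q23406 (flp_c L751839) q21988, e3 q23407 (flp_c L764619) q24632, e3 q23408 (flp_c L762616) q24482, e3 q23409 (flp_c L764569) q24628, e3 q23410 L764655 q24636, e3 q23411 (flp_c L751877) q21992, e3 q23412 (flp_c L764677) q24639, e3 q23413 L751891 q22620, e3 q23414 L751904 q22014, e3 q23415 L751916 q22410, e3 q23416 (flp_c L762701) q24489, e3 q23417 L751943 q22488, e3 q23418 L751961 q23142, e3 q23419 (flp_c L751965) q21999, e3 q23420 (flp_c L764767) q24646, e3 q23421 L752004 q22632, e3 q23422 L752012 q22407, e3 q23423 L752028 q22007, trivial⟩ (by decide +kernel)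

theorem ce_c_366 : ∀ r, r < 64 → sm gc (Qf (23424 + r)) = Qf (tab Gen.c (23424 + r)) :=
  edges_tab (sm gc) Qf (tab Gen.c) 23424 [(23424, 24496), (23425, 24605), (23426, 24618), (23427, 22644), (23428, 22010), (23429, 23135), (23430, 23143), (23431, 22654), (23432, 22018), (23433, 22020), (23434, 24653), (23435, 22022), (23436, 22661), (23437, 24433), (23438, 24547), (23439, 24503), (23440, 22494), (23441, 22413), (23442, 22359), (23443, 22973), (23444, 22974), (23445, 22414), (23446, 22798), (23447, 22829), (23448, 22876), (23449, 24501), (23450, 24510), (23451, 22064), (23452, 22073), (23453, 22683), (23454, 22077), (23455, 22080), (23456, 22053), (23457, 22086), (23458, 22074), (23459, 22065), (23460, 22067), (23461, 22076), (23462, 22068), (23463, 22081), (23464, 22078), (23465, 22084), (23466, 22289), (23467, 24411), (23468, 22944), (23469, 22132), (23470, 22137), (23471, 22098), (23472, 22099), (23473, 22124), (23474, 24665), (23475, 22205), (23476, 22125), (23477, 22277), (23478, 22152), (23479, 22157), (23480, 22153),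 (23481, 22113), (23482, 22223), (23483, 22146), (23484, 24675), (23485, 22296), (23486, 22346), (23487, 22242)]
    ⟨e3 q23424 (flp_c L762791) q24496, e3 q23425 (flp_c L764291) q24605, e3 q23426 (flp_c L764437) q24618, e3 q23427 L752088 q22644, e3 q23428 L752094 q22010, e3 q23429 L752110 q23135, e3 q23430 L752118 q23143, e3 q23431 L752138 q22654, e3 q23432 L752144 q22018, e3 q23433 (flp_c L752153) q22020, e3 q23434 (flp_c L764859) q24653, e3 q23435 L752185 q22022, e3 q23436 L752198 q22661, e3 q23437 (flp_c L761917) q24433, e3 q23438 (flp_c L763530) q24547, e3 q23439 (flp_c L762889) q24503, e3 q23440 L752238 q22494, e3 q23441 L752261 q22413, e3 q23442 L752269 q22359, e3 q23443 L752289 q22973, e3 q23444 L752297 q22974, e3 q23445 L752312 q22414, e3 q23446 L752331 q22798, e3 q23447 L752338 q22829, e3 q23448 L752350 q22876, e3 q23449 (flp_c L762862) q24501, e3 q23450 (flp_c L762991) q24510, e3 q23451 L752398 q22064, e3 q23452 L752417 q22073, e3 q23453 L752436 q22683, e3 q23454 L752447 q22077, e3 q23455 L752474 q22080, e3 q23456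 (flp_c L752479) q22053, e3 q23457 L752512 q22086, e3 q23458 L752523 q22074, e3 q23459 (flp_c L752536) q22065, e3 q23460 (flp_c L752555) q22067, e3 q23461 L752581 q22076, e3 q23462 (flp_c L752595) q22068, e3 q23463 L752620 q22081, e3 q23464 L752639 q22078, e3 q23465 L752658 q22084, e3 q23466 L752677 q22289, e3 q23467 (flp_c L761574) q24411, e3 q23468 L752711 q22944, e3 q23469 L752727 q22132, e3 q23470 L752745 q22137, e3 q23471 L752763 q22098, e3 q23472 L752779 q22099, e3 q23473 L752795 q22124, e3 q23474 (flp_c L765041) q24665, e3 q23475 L752831 q22205, e3 q23476 L752842 q22125, e3 q23477 L752864 q22277, e3 q23478 L752875 q22152, e3 q23479 L752893 q22157, e3 q23480 L752909 q22153, e3 q23481 L752921 q22113, e3 q23482 L752943 q22223, e3 q23483 L752953 q22146, e3 q23484 L765191 q24675, e3 q23485 L752985 q22296, e3 q23486 L752995 q22346, e3 q23487 L753012 q22242, trivial⟩ (by decide +kernel)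

theorem ce_c_367 : ∀ r, r < 64 → sm gc (Qf (23488 + r)) = Qf (tab Gen.c (23488 + r)) :=
  edges_tab (sm gc) Qf (tab Gen.c) 23488 [(23488, 22128), (23489, 22121), (23490, 22122), (23491, 22123), (23492, 24678), (23493, 24679), (23494, 24667), (23495, 22259), (23496, 22260), (23497, 24677), (23498, 22133), (23499, 22273), (23500, 22172), (23501, 24664), (23502, 24691), (23503, 22705), (23504, 22283), (23505, 22173), (23506, 24694), (23507, 22138), (23508, 22940), (23509, 22946), (23510, 24697), (23511, 22290), (23512, 22947), (23513, 22398), (23514, 24701), (23515, 22315), (23516, 24670), (23517, 24705), (23518, 22154), (23519, 22330), (23520, 22968), (23521, 22158), (23522, 24709), (23523, 22975), (23524, 22164), (23525, 22971), (23526, 23018), (23527, 23132), (23528, 22357), (23529, 22951), (23530, 24689), (23531, 22581), (23532, 22219), (23533, 22220), (23534, 22424), (23535, 22179), (23536, 24420), (23537, 24718), (23538, 22835), (23539, 22877), (23540, 22195), (23541, 22186), (23542, 22187), (23543, 22188), (23544, 24721),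 (23545, 24722), (23546, 22191), (23547, 22192), (23548, 24726), (23549, 22216), (23550, 22226), (23551, 24720)]
    ⟨e3 q23488 L753033 q22128, e3 q23489 L753046 q22121, e3 q23490 L753061 q22122, e3 q23491 L753071 q22123, e3 q23492 (flp_c L765240) q24678, e3 q23493 (flp_c L765255) q24679, e3 q23494 (flp_c L765076) q24667, e3 q23495 L753121 q22259, e3 q23496 L753137 q22260, e3 q23497 (flp_c L765223) q24677, e3 q23498 L753162 q22133, e3 q23499 L753178 q22273, e3 q23500 L753187 q22172, e3 q23501 (flp_c L765023) q24664, e3 q23502 L765401 q24691, e3 q23503 L753227 q22705, e3 q23504 L753238 q22283, e3 q23505 L753255 q22173, e3 q23506 L765443 q24694, e3 q23507 (flp_c L753272) q22138, e3 q23508 L753301 q22940, e3 q23509 L753310 q22946, e3 q23510 L765483 q24697, e3 q23511 L753334 q22290, e3 q23512 L753354 q22947, e3 q23513 L753362 q22398, e3 q23514 L765529 q24701, e3 q23515 L753380 q22315, e3 q23516 (flp_c L765125) q24670, e3 q23517 L765569 q24705, e3 q23518 (flp_c L753406) q22154, e3 q23519 L753420 q22330, e3 q23520 L753440 q22968,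 e3 q23521 (flp_c L753444) q22158, e3 q23522 (flp_c L765613) q24709, e3 q23523 L753472 q22975, e3 q23524 L753489 q22164, e3 q23525 L753504 q22971, e3 q23526 L753525 q23018, e3 q23527 L753533 q23132, e3 q23528 L753550 q22357, e3 q23529 L753565 q22951, e3 q23530 (flp_c L765383) q24689, e3 q23531 L753597 q22581, e3 q23532 L753608 q22219, e3 q23533 L753624 q22220, e3 q23534 L753638 q22424, e3 q23535 L753653 q22179, e3 q23536 (flp_c L761731) q24420, e3 q23537 L765732 q24718, e3 q23538 L753686 q22835, e3 q23539 L753702 q22877, e3 q23540 L753723 q22195, e3 q23541 L753736 q22186, e3 q23542 L753753 q22187, e3 q23543 L753767 q22188, e3 q23544 (flp_c L765777) q24721, e3 q23545 (flp_c L765794) q24722, e3 q23546 L753807 q22191, e3 q23547 L753825 q22192, e3 q23548 (flp_c L765853) q24726, e3 q23549 L753849 q22216, e3 q23550 L753865 q22226, e3 q23551 (flp_c L765760) q24720, trivial⟩ (by decide +kernel)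

theorem ce_c_368 : ∀ r, r < 64 → sm gc (Qf (23552 + r)) = Qf (tab Gen.c (23552 + r)) :=
  edges_tab (sm gc) Qf (tab Gen.c) 23552 [(23552, 22199), (23553, 22200), (23554, 24666), (23555, 24731), (23556, 24735), (23557, 22329), (23558, 22206), (23559, 22279), (23560, 24737), (23561, 22207), (23562, 24424), (23563, 22217), (23564, 22264), (23565, 24728), (23566, 24743), (23567, 22278), (23568, 24714), (23569, 24745), (23570, 22224), (23571, 24748), (23572, 24673), (23573, 24751), (23574, 22225), (23575, 22228), (23576, 22282), (23577, 24755), (23578, 22230), (23579, 22321), (23580, 22322), (23581, 22232), (23582, 24758), (23583, 22240), (23584, 22241), (23585, 24760), (23586, 22338), (23587, 22894), (23588, 22261), (23589, 22248), (23590, 22249), (23591, 22250), (23592, 24763), (23593, 24764), (23594, 22749), (23595, 22772), (23596, 22269), (23597, 22270), (23598, 22257), (23599, 22258), (23600, 24680), (23601, 24772), (23602, 24776), (23603, 24684), (23604, 22596), (23605, 24762), (23606, 22265), (23607, 24669), (23608, 24741),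 (23609, 24783), (23610, 22378), (23611, 22687), (23612, 22707), (23613, 24770), (23614, 24771), (23615, 22275)]
    ⟨e3 q23552 L753894 q22199, e3 q23553 L753910 q22200, e3 q23554 (flp_c L765067) q24666, e3 q23555 (flp_c L765925) q24731, e3 q23556 L765962 q24735, e3 q23557 L753959 q22329, e3 q23558 L753970 q22206, e3 q23559 L753988 q22279, e3 q23560 L765987 q24737, e3 q23561 (flp_c L754008) q22207, e3 q23562 (flp_c L761783) q24424, e3 q23563 L754039 q22217, e3 q23564 L754051 q22264, e3 q23565 (flp_c L765879) q24728, e3 q23566 L766057 q24743, e3 q23567 L754089 q22278, e3 q23568 (flp_c L765688) q24714, e3 q23569 L766073 q24745, e3 q23570 L754123 q22224, e3 q23571 L766107 q24748, e3 q23572 (flp_c L765167) q24673, e3 q23573 L766135 q24751, e3 q23574 (flp_c L754151) q22225, e3 q23575 (flp_c L754159) q22228, e3 q23576 L754183 q22282, e3 q23577 L766175 q24755, e3 q23578 (flp_c L754206) q22230, e3 q23579 L754229 q22321, e3 q23580 L754244 q22322, e3 q23581 (flp_c L754250) q22232, e3 q23582 (flp_c L766224) q24758, e3 q23583 L754274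 q22240, e3 q23584 (flp_c L754281) q22241, e3 q23585 (flp_c L766252) q24760, e3 q23586 L754310 q22338, e3 q23587 L754323 q22894, e3 q23588 L754341 q22261, e3 q23589 L754354 q22248, e3 q23590 L754369 q22249, e3 q23591 L754381 q22250, e3 q23592 (flp_c L766301) q24763, e3 q23593 (flp_c L766316) q24764, e3 q23594 L754417 q22749, e3 q23595 L754427 q22772, e3 q23596 L754440 q22269, e3 q23597 L754453 q22270, e3 q23598 L754462 q22257, e3 q23599 L754471 q22258, e3 q23600 (flp_c L765272) q24680, e3 q23601 (flp_c L766409) q24772, e3 q23602 L766443 q24776, e3 q23603 (flp_c L765320) q24684, e3 q23604 L754526 q22596, e3 q23605 (flp_c L766284) q24762, e3 q23606 L754556 q22265, e3 q23607 (flp_c L765116) q24669, e3 q23608 (flp_c L766033) q24741, e3 q23609 L766522 q24783, e3 q23610 L754599 q22378, e3 q23611 L754616 q22687, e3 q23612 L754642 q22707, e3 q23613 (flp_c L766389) q24770, e3 q23614 (flp_c L766402) q24771, e3 q23615 L754661 q22275, trivial⟩ (by decide +kernel)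

theorem ce_c_369 : ∀ r, r < 64 → sm gc (Qf (23616 + r)) = Qf (tab Gen.c (23616 + r)) :=
  edges_tab (sm gc) Qf (tab Gen.c) 23616 [(23616, 24790), (23617, 24688), (23618, 24405), (23619, 24794), (23620, 22276), (23621, 24736), (23622, 22288), (23623, 24754), (23624, 24692), (23625, 24798), (23626, 22285), (23627, 24801), (23628, 24662), (23629, 24803), (23630, 22582), (23631, 22583), (23632, 22584), (23633, 22585), (23634, 22297), (23635, 24809), (23636, 24676), (23637, 24811), (23638, 22298), (23639, 22374), (23640, 22889), (23641, 22995), (23642, 22419), (23643, 22996), (23644, 22888), (23645, 24820), (23646, 22949), (23647, 22606), (23648, 22607), (23649, 22608), (23650, 24826), (23651, 22317), (23652, 24829), (23653, 22314), (23654, 24832), (23655, 24703), (23656, 24402), (23657, 24836), (23658, 22318), (23659, 24839), (23660, 24428), (23661, 24757), (23662, 24750), (23663, 22924), (23664, 22337), (23665, 22332), (23666, 24843), (23667, 22327), (23668, 24845), (23669, 24729), (23670, 24430), (23671, 24822), (23672, 22334),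 (23673, 22340), (23674, 24432), (23675, 22662), (23676, 22663), (23677, 24505), (23678, 24506), (23679, 22375)]
    ⟨e3 q23616 L766593 q24790, e3 q23617 (flp_c L765370) q24688, e3 q23618 (flp_c L761484) q24405, e3 q23619 L766628 q24794, e3 q23620 (flp_c L754700) q22276, e3 q23621 (flp_c L765976) q24736, e3 q23622 L754723 q22288, e3 q23623 (flp_c L766163) q24754, e3 q23624 (flp_c L765415) q24692, e3 q23625 (flp_c L766661) q24798, e3 q23626 (flp_c L754764) q22285, e3 q23627 (flp_c L766697) q24801, e3 q23628 (flp_c L764989) q24662, e3 q23629 L766710 q24803, e3 q23630 L754796 q22582, e3 q23631 L754811 q22583, e3 q23632 L754826 q22584, e3 q23633 L754838 q22585, e3 q23634 L754848 q22297, e3 q23635 L766778 q24809, e3 q23636 (flp_c L765207) q24676, e3 q23637 L766792 q24811, e3 q23638 (flp_c L754880) q22298, e3 q23639 L754892 q22374, e3 q23640 L754908 q22889, e3 q23641 L754926 q22995, e3 q23642 L754939 q22419, e3 q23643 L754951 q22996, e3 q23644 L754965 q22888, e3 q23645 L766893 q24820, e3 q23646 L754987 q22949, e3 q23647 L754997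 q22606, e3 q23648 L755004 q22607, e3 q23649 L755011 q22608, e3 q23650 L766946 q24826, e3 q23651 L755027 q22317, e3 q23652 L766968 q24829, e3 q23653 (flp_c L755039) q22314, e3 q23654 (flp_c L766986) q24832, e3 q23655 (flp_c L765547) q24703, e3 q23656 (flp_c L761433) q24402, e3 q23657 L767014 q24836, e3 q23658 (flp_c L755073) q22318, e3 q23659 (flp_c L767042) q24839, e3 q23660 (flp_c L761839) q24428, e3 q23661 (flp_c L766207) q24757, e3 q23662 (flp_c L766127) q24750, e3 q23663 L755120 q22924, e3 q23664 L755129 q22337, e3 q23665 L755144 q22332, e3 q23666 (flp_c L767078) q24843, e3 q23667 (flp_c L755163) q22327, e3 q23668 (flp_c L767102) q24845, e3 q23669 (flp_c L765905) q24729, e3 q23670 (flp_c L761873) q24430, e3 q23671 (flp_c L766915) q24822, e3 q23672 L755198 q22334, e3 q23673 L755206 q22340, e3 q23674 (flp_c L761895) q24432, e3 q23675 L755227 q22662, e3 q23676 L755236 q22663, e3 q23677 (flp_c L762924) q24505, e3 q23678 (flp_c L762934) q24506, e3 q23679 L755269 q22375, trivial⟩ (by decide +kernel)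

theorem ce_c_370 : ∀ r, r < 64 → sm gc (Qf (23680 + r)) = Qf (tab Gen.c (23680 + r)) :=
  edges_tab (sm gc) Qf (tab Gen.c) 23680 [(23680, 22671), (23681, 22420), (23682, 22878), (23683, 22879), (23684, 24856), (23685, 22354), (23686, 24858), (23687, 22356), (23688, 24860), (23689, 24619), (23690, 22362), (23691, 22426), (23692, 24864), (23693, 22428), (23694, 22984), (23695, 24866), (23696, 24867), (23697, 22369), (23698, 24474), (23699, 22898), (23700, 24814), (23701, 22379), (23702, 22515), (23703, 24784), (23704, 24875), (23705, 22979), (23706, 22980), (23707, 22727), (23708, 24879), (23709, 24880), (23710, 22386), (23711, 22860), (23712, 22868), (23713, 22393), (23714, 24520), (23715, 24886), (23716, 24887), (23717, 24888), (23718, 22396), (23719, 24891), (23720, 24892), (23721, 24893), (23722, 22400), (23723, 24511), (23724, 24896), (23725, 22403), (23726, 24899), (23727, 24485), (23728, 23043), (23729, 24641), (23730, 24624), (23731, 22409), (23732, 22676), (23733, 24654), (23734, 24650), (23735, 22953), (23736, 24906),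 (23737, 24817), (23738, 22423), (23739, 24657), (23740, 24910), (23741, 24715), (23742, 24912), (23743, 24863)]
    ⟨e3 q23680 L755288 q22671, e3 q23681 L755294 q22420, e3 q23682 L755312 q22878, e3 q23683 L755320 q22879, e3 q23684 L767206 q24856, e3 q23685 (flp_c L755337) q22354, e3 q23686 (flp_c L767233) q24858, e3 q23687 L755362 q22356, e3 q23688 (flp_c L767250) q24860, e3 q23689 (flp_c L764453) q24619, e3 q23690 L755393 q22362, e3 q23691 L755415 q22426, e3 q23692 L767299 q24864, e3 q23693 L755441 q22428, e3 q23694 L755450 q22984, e3 q23695 L767321 q24866, e3 q23696 L767333 q24867, e3 q23697 (flp_c L755478) q22369, e3 q23698 (flp_c L762514) q24474, e3 q23699 L755504 q22898, e3 q23700 (flp_c L766822) q24814, e3 q23701 L755525 q22379, e3 q23702 L755538 q22515, e3 q23703 (flp_c L766534) q24784, e3 q23704 L767410 q24875, e3 q23705 L755565 q22979, e3 q23706 L755578 q22980, e3 q23707 L755592 q22727, e3 q23708 L767457 q24879, e3 q23709 L767469 q24880, e3 q23710 (flp_c L755620) q22386, e3 q23711 L755642 q22860, e3 q23712 L755649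 q22868, e3 q23713 L755662 q22393, e3 q23714 (flp_c L763147) q24520, e3 q23715 L767538 q24886, e3 q23716 L767546 q24887, e3 q23717 L767562 q24888, e3 q23718 (flp_c L755711) q22396, e3 q23719 L767584 q24891, e3 q23720 L767600 q24892, e3 q23721 L767616 q24893, e3 q23722 (flp_c L755769) q22400, e3 q23723 (flp_c L763004) q24511, e3 q23724 L767654 q24896, e3 q23725 (flp_c L755801) q22403, e3 q23726 (flp_c L767674) q24899, e3 q23727 (flp_c L762648) q24485, e3 q23728 L755819 q23043, e3 q23729 (flp_c L764691) q24641, e3 q23730 (flp_c L764515) q24624, e3 q23731 L755849 q22409, e3 q23732 L755863 q22676, e3 q23733 (flp_c L764883) q24654, e3 q23734 (flp_c L764811) q24650, e3 q23735 L755894 q22953, e3 q23736 L767738 q24906, e3 q23737 (flp_c L766861) q24817, e3 q23738 L755930 q22423, e3 q23739 (flp_c L764922) q24657, e3 q23740 L767773 q24910, e3 q23741 (flp_c L765704) q24715, e3 q23742 L767787 q24912, e3 q23743 (flp_c L767290) q24863, trivial⟩ (by decide +kernel)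

theorem ce_c_371 : ∀ r, r < 64 → sm gc (Qf (23744 + r)) = Qf (tab Gen.c (23744 + r)) :=
  edges_tab (sm gc) Qf (tab Gen.c) 23744 [(23744, 22427), (23745, 22834), (23746, 22836), (23747, 22435), (23748, 22436), (23749, 22918), (23750, 24917), (23751, 24921), (23752, 22597), (23753, 22598), (23754, 23098), (23755, 23091), (23756, 24926), (23757, 24927), (23758, 22444), (23759, 23124), (23760, 24931), (23761, 22447), (23762, 22448), (23763, 24933), (23764, 22453), (23765, 22454), (23766, 24934), (23767, 24937), (23768, 24600), (23769, 24611), (23770, 22460), (23771, 22461), (23772, 24942), (23773, 24940), (23774, 24944), (23775, 22462), (23776, 22464), (23777, 24947), (23778, 24949), (23779, 24567), (23780, 24601), (23781, 24575), (23782, 24953), (23783, 24954), (23784, 22471), (23785, 22472), (23786, 24958), (23787, 24914), (23788, 22477), (23789, 24961), (23790, 22476), (23791, 24963), (23792, 22478), (23793, 24965), (23794, 22480), (23795, 24966), (23796, 22483), (23797, 22484), (23798, 24968), (23799, 22486), (23800, 24759),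 (23801, 24504), (23802, 22491), (23803, 24616), (23804, 24548), (23805, 24549), (23806, 22501), (23807, 22502)]
    ⟨e3 q23744 (flp_c L755973) q22427, e3 q23745 L755983 q22834, e3 q23746 L755998 q22836, e3 q23747 L756012 q22435, e3 q23748 L756027 q22436, e3 q23749 L756046 q22918, e3 q23750 (flp_c L767838) q24917, e3 q23751 L767879 q24921, e3 q23752 L756073 q22597, e3 q23753 L756088 q22598, e3 q23754 L756102 q23098, e3 q23755 L756112 q23091, e3 q23756 L767942 q24926, e3 q23757 L767954 q24927, e3 q23758 (flp_c L756140) q22444, e3 q23759 L756156 q23124, e3 q23760 L767994 q24931, e3 q23761 (flp_c L756174) q22447, e3 q23762 (flp_c L756188) q22448, e3 q23763 (flp_c L768022) q24933, e3 q23764 L756214 q22453, e3 q23765 L756229 q22454, e3 q23766 (flp_c L768035) q24934, e3 q23767 L768066 q24937, e3 q23768 (flp_c L764221) q24600, e3 q23769 (flp_c L764351) q24611, e3 q23770 L756287 q22460, e3 q23771 L756299 q22461, e3 q23772 L768127 q24942, e3 q23773 (flp_c L768107) q24940, e3 q23774 L768145 q24944, e3 q23775 (flp_c L756337) q22462,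 e3 q23776 L756347 q22464, e3 q23777 (flp_c L768169) q24947, e3 q23778 L768195 q24949, e3 q23779 (flp_c L763800) q24567, e3 q23780 (flp_c L764238) q24601, e3 q23781 (flp_c L763903) q24575, e3 q23782 L768242 q24953, e3 q23783 L768252 q24954, e3 q23784 (flp_c L756435) q22471, e3 q23785 (flp_c L756447) q22472, e3 q23786 (flp_c L768290) q24958, e3 q23787 (flp_c L767803) q24914, e3 q23788 L756469 q22477, e3 q23789 L768310 q24961, e3 q23790 (flp_c L756489) q22476, e3 q23791 L768336 q24963, e3 q23792 (flp_c L756512) q22478, e3 q23793 (flp_c L768357) q24965, e3 q23794 (flp_c L756530) q22480, e3 q23795 (flp_c L768369) q24966, e3 q23796 L756554 q22483, e3 q23797 (flp_c L756558) q22484, e3 q23798 (flp_c L768384) q24968, e3 q23799 L756578 q22486, e3 q23800 (flp_c L766243) q24759, e3 q23801 (flp_c L762904) q24504, e3 q23802 L756610 q22491, e3 q23803 (flp_c L764407) q24616, e3 q23804 (flp_c L763547) q24548, e3 q23805 (flp_c L763565) q24549, e3 q23806 L756666 q22501, e3 q23807 L756681 q22502, trivial⟩ (by decide +kernel)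

theorem ce_c_372 : ∀ r, r < 64 → sm gc (Qf (23808 + r)) = Qf (tab Gen.c (23808 + r)) :=
  edges_tab (sm gc) Qf (tab Gen.c) 23808 [(23808, 24853), (23809, 23055), (23810, 24974), (23811, 24978), (23812, 24557), (23813, 24558), (23814, 22542), (23815, 24451), (23816, 24559), (23817, 24984), (23818, 22536), (23819, 22537), (23820, 22538), (23821, 22516), (23822, 22517), (23823, 24991), (23824, 24873), (23825, 24989), (23826, 24995), (23827, 22518), (23828, 22523), (23829, 22800), (23830, 24578), (23831, 25001), (23832, 24570), (23833, 22530), (23834, 22531), (23835, 25005), (23836, 23037), (23837, 25003), (23838, 25008), (23839, 22532), (23840, 24588), (23841, 25012), (23842, 23035), (23843, 24986), (23844, 24987), (23845, 25016), (23846, 22543), (23847, 25018), (23848, 22541), (23849, 24981), (23850, 25022), (23851, 22544), (23852, 25025), (23853, 24592), (23854, 22550), (23855, 22861), (23856, 23137), (23857, 25029), (23858, 22551), (23859, 25032), (23860, 22648), (23861, 22556), (23862, 22851), (23863, 25033), (23864, 22557),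 (23865, 25035), (23866, 22637), (23867, 22559), (23868, 22562), (23869, 24472), (23870, 24540), (23871, 22571)]
    ⟨e3 q23808 (flp_c L767176) q24853, e3 q23809 L756698 q23055, e3 q23810 (flp_c L768452) q24974, e3 q23811 L768486 q24978, e3 q23812 (flp_c L763684) q24557, e3 q23813 (flp_c L763702) q24558, e3 q23814 L756751 q22542, e3 q23815 (flp_c L762198) q24451, e3 q23816 (flp_c L763715) q24559, e3 q23817 L768550 q24984, e3 q23818 L756797 q22536, e3 q23819 L756813 q22537, e3 q23820 L756827 q22538, e3 q23821 L756837 q22516, e3 q23822 L756846 q22517, e3 q23823 L768624 q24991, e3 q23824 (flp_c L767396) q24873, e3 q23825 (flp_c L768611) q24989, e3 q23826 L768653 q24995, e3 q23827 (flp_c L756878) q22518, e3 q23828 L756888 q22523, e3 q23829 L756900 q22800, e3 q23830 (flp_c L763937) q24578, e3 q23831 L768703 q25001, e3 q23832 (flp_c L763840) q24570, e3 q23833 L756944 q22530, e3 q23834 L756960 q22531, e3 q23835 L768755 q25005, e3 q23836 L756986 q23037, e3 q23837 (flp_c L768731) q25003, e3 q23838 L768789 q25008, e3 q23839 (flp_c L757010)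 q22532, e3 q23840 (flp_c L764065) q24588, e3 q23841 L768825 q25012, e3 q23842 L757044 q23035, e3 q23843 (flp_c L768571) q24986, e3 q23844 (flp_c L768587) q24987, e3 q23845 L768873 q25016, e3 q23846 L757094 q22543, e3 q23847 L768897 q25018, e3 q23848 (flp_c L757112) q22541, e3 q23849 (flp_c L768523) q24981, e3 q23850 L768935 q25022, e3 q23851 (flp_c L757142) q22544, e3 q23852 (flp_c L768959) q25025, e3 q23853 (flp_c L764111) q24592, e3 q23854 L757166 q22550, e3 q23855 (flp_c L757187) q22861, e3 q23856 L757193 q23137, e3 q23857 L768998 q25029, e3 q23858 (flp_c L757210) q22551, e3 q23859 (flp_c L769030) q25032, e3 q23860 L757240 q22648, e3 q23861 L757248 q22556, e3 q23862 L757262 q22851, e3 q23863 L769039 q25033, e3 q23864 (flp_c L757279) q22557, e3 q23865 (flp_c L769065) q25035, e3 q23866 L757310 q22637, e3 q23867 L757314 q22559, e3 q23868 (flp_c L757321) q22562, e3 q23869 (flp_c L762484) q24472, e3 q23870 (flp_c L763434) q24540, e3 q23871 L757363 q22571, trivial⟩ (by decide +kernel)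

theorem ce_c_373 : ∀ r, r < 64 → sm gc (Qf (23872 + r)) = Qf (tab Gen.c (23872 + r)) :=
  edges_tab (sm gc) Qf (tab Gen.c) 23872 [(23872, 22572), (23873, 25042), (23874, 23003), (23875, 25040), (23876, 25046), (23877, 22573), (23878, 24604), (23879, 23002), (23880, 23029), (23881, 25051), (23882, 24713), (23883, 24804), (23884, 24805), (23885, 24806), (23886, 25056), (23887, 22591), (23888, 22592), (23889, 25059), (23890, 22589), (23891, 25062), (23892, 25057), (23893, 25064), (23894, 22593), (23895, 25067), (23896, 24615), (23897, 25069), (23898, 24778), (23899, 24922), (23900, 25072), (23901, 23053), (23902, 25074), (23903, 22601), (23904, 25077), (23905, 22738), (23906, 24434), (23907, 24535), (23908, 24823), (23909, 25082), (23910, 25084), (23911, 22609), (23912, 25087), (23913, 22616), (23914, 25090), (23915, 22612), (23916, 25093), (23917, 25076), (23918, 22614), (23919, 25097), (23920, 25098), (23921, 22617), (23922, 25101), (23923, 24638), (23924, 22619), (23925, 24640), (23926, 24597), (23927, 22628), (23928, 25107),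 (23929, 22625), (23930, 25109), (23931, 25110), (23932, 22629), (23933, 25113), (23934, 24645), (23935, 22631)]
    ⟨e3 q23872 L757374 q22572, e3 q23873 L769142 q25042, e3 q23874 L757393 q23003, e3 q23875 (flp_c L769127) q25040, e3 q23876 L769189 q25046, e3 q23877 (flp_c L757416) q22573, e3 q23878 (flp_c L764265) q24604, e3 q23879 L757442 q23002, e3 q23880 L757457 q23029, e3 q23881 L769228 q25051, e3 q23882 (flp_c L765671) q24713, e3 q23883 (flp_c L766724) q24804, e3 q23884 (flp_c L766739) q24805, e3 q23885 (flp_c L766752) q24806, e3 q23886 L769280 q25056, e3 q23887 L757528 q22591, e3 q23888 L757538 q22592, e3 q23889 L769304 q25059, e3 q23890 (flp_c L757550) q22589, e3 q23891 (flp_c L769328) q25062, e3 q23892 (flp_c L769290) q25057, e3 q23893 L769342 q25064, e3 q23894 (flp_c L757578) q22593, e3 q23895 (flp_c L769360) q25067, e3 q23896 (flp_c L764399) q24615, e3 q23897 L769368 q25069, e3 q23898 (flp_c L766471) q24778, e3 q23899 (flp_c L767895) q24922, e3 q23900 L769393 q25072, e3 q23901 L757636 q23053, e3 q23902 L769413 q25074,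 e3 q23903 (flp_c L757652) q22601, e3 q23904 (flp_c L769431) q25077, e3 q23905 L757672 q22738, e3 q23906 (flp_c L761927) q24434, e3 q23907 (flp_c L763363) q24535, e3 q23908 (flp_c L766927) q24823, e3 q23909 L769473 q25082, e3 q23910 L769484 q25084, e3 q23911 (flp_c L757714) q22609, e3 q23912 (flp_c L769514) q25087, e3 q23913 L757734 q22616, e3 q23914 L769536 q25090, e3 q23915 (flp_c L757748) q22612, e3 q23916 (flp_c L769558) q25093, e3 q23917 (flp_c L769427) q25076, e3 q23918 L757768 q22614, e3 q23919 (flp_c L769590) q25097, e3 q23920 L769596 q25098, e3 q23921 (flp_c L757790) q22617, e3 q23922 (flp_c L769620) q25101, e3 q23923 (flp_c L764673) q24638, e3 q23924 L757808 q22619, e3 q23925 (flp_c L764681) q24640, e3 q23926 (flp_c L764184) q24597, e3 q23927 L757827 q22628, e3 q23928 L769655 q25107, e3 q23929 (flp_c L757842) q22625, e3 q23930 (flp_c L769672) q25109, e3 q23931 L769681 q25110, e3 q23932 (flp_c L757867) q22629, e3 q23933 (flp_c L769713) q25113, e3 q23934 (flp_c L764761) q24645, e3 q23935 L757890 q22631, trivial⟩ (by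 decide +kernel)

theorem ce_c_374 : ∀ r, r < 64 → sm gc (Qf (23936 + r)) = Qf (tab Gen.c (23936 + r)) :=
  edges_tab (sm gc) Qf (tab Gen.c) 23936 [(23936, 22759), (23937, 22678), (23938, 24598), (23939, 25031), (23940, 25036), (23941, 22639), (23942, 22809), (23943, 22641), (23944, 25121), (23945, 22643), (23946, 22751), (23947, 24648), (23948, 25104), (23949, 22859), (23950, 22865), (23951, 22651), (23952, 25127), (23953, 23138), (23954, 22653), (23955, 25131), (23956, 22768), (23957, 24652), (23958, 24651), (23959, 22658), (23960, 24848), (23961, 22774), (23962, 25138), (23963, 24850), (23964, 22664), (23965, 25141), (23966, 22666), (23967, 25143), (23968, 22668), (23969, 22919), (23970, 25144), (23971, 22674), (23972, 25146), (23973, 24903), (23974, 22680), (23975, 25148), (23976, 22686), (23977, 25150), (23978, 25151), (23979, 22689), (23980, 22690), (23981, 25154), (23982, 25155), (23983, 22693), (23984, 22954), (23985, 25158), (23986, 22843), (23987, 25160), (23988, 22701), (23989, 25162), (23990, 22700), (23991, 25165),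 (23992, 22702), (23993, 22967), (23994, 24685), (23995, 22934), (23996, 24786), (23997, 22711), (23998, 22786), (23999, 25172)]
    ⟨e3 q23936 L757900 q22759, e3 q23937 L757917 q22678, e3 q23938 (flp_c L764193) q24598, e3 q23939 (flp_c L769026) q25031, e3 q23940 (flp_c L769078) q25036, e3 q23941 L757946 q22639, e3 q23942 L757957 q22809, e3 q23943 (flp_c L757964) q22641, e3 q23944 (flp_c L769776) q25121, e3 q23945 L757986 q22643, e3 q23946 L757996 q22751, e3 q23947 (flp_c L764791) q24648, e3 q23948 (flp_c L769634) q25104, e3 q23949 L758018 q22859, e3 q23950 L758030 q22865, e3 q23951 (flp_c L758035) q22651, e3 q23952 (flp_c L769831) q25127, e3 q23953 L758064 q23138, e3 q23954 L758068 q22653, e3 q23955 (flp_c L769870) q25131, e3 q23956 L758079 q22768, e3 q23957 (flp_c L764842) q24652, e3 q23958 (flp_c L764828) q24651, e3 q23959 L758110 q22658, e3 q23960 (flp_c L767123) q24848, e3 q23961 L758133 q22774, e3 q23962 L769941 q25138, e3 q23963 (flp_c L767140) q24850, e3 q23964 (flp_c L758151) q22664, e3 q23965 (flp_c L769966) q25141,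 e3 q23966 L758182 q22666, e3 q23967 (flp_c L769990) q25143, e3 q23968 L758203 q22668, e3 q23969 L758218 q22919, e3 q23970 L769997 q25144, e3 q23971 (flp_c L758239) q22674, e3 q23972 (flp_c L770025) q25146, e3 q23973 (flp_c L767708) q24903, e3 q23974 L758263 q22680, e3 q23975 L770038 q25148, e3 q23976 (flp_c L758285) q22686, e3 q23977 L770062 q25150, e3 q23978 L770076 q25151, e3 q23979 (flp_c L758327) q22689, e3 q23980 (flp_c L758335) q22690, e3 q23981 L770108 q25154, e3 q23982 L770118 q25155, e3 q23983 (flp_c L758365) q22693, e3 q23984 L758379 q22954, e3 q23985 L770152 q25158, e3 q23986 L758405 q22843, e3 q23987 L770176 q25160, e3 q23988 L758430 q22701, e3 q23989 L770200 q25162, e3 q23990 (flp_c L758448) q22700, e3 q23991 L770222 q25165, e3 q23992 (flp_c L758462) q22702, e3 q23993 L758476 q22967, e3 q23994 (flp_c L765346) q24685, e3 q23995 L758497 q22934, e3 q23996 (flp_c L766563) q24786, e3 q23997 L758511 q22711, e3 q23998 L758531 q22786, e3 q23999 L770287 q25172, trivial⟩ (by decide +kernel)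

theorem ce_c_375 : ∀ r, r < 64 → sm gc (Qf (24000 + r)) = Qf (tab Gen.c (24000 + r)) :=
  edges_tab (sm gc) Qf (tab Gen.c) 24000 [(24000, 25173), (24001, 22713), (24002, 22714), (24003, 22810), (24004, 25177), (24005, 24525), (24006, 22719), (24007, 25180), (24008, 23011), (24009, 22883), (24010, 25182), (24011, 22728), (24012, 24582), (24013, 25185), (24014, 23078), (24015, 22732), (24016, 24448), (24017, 24458), (24018, 22739), (24019, 22775), (24020, 25078), (24021, 25193), (24022, 24449), (24023, 25115), (24024, 22922), (24025, 23092), (24026, 22747), (24027, 25199), (24028, 23122), (24029, 25202), (24030, 22748), (24031, 24768), (24032, 25205), (24033, 25123), (24034, 23082), (24035, 25209), (24036, 25211), (24037, 22755), (24038, 25214), (24039, 23130), (24040, 22757), (24041, 25183), (24042, 23131), (24043, 23014), (24044, 23123), (24045, 23125), (24046, 23016), (24047, 25128), (24048, 22776), (24049, 25132), (24050, 23148), (24051, 23151), (24052, 23146), (24053, 25227), (24054, 22773), (24055, 25229), (24056, 23155),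 (24057, 25191), (24058, 25222), (24059, 23136), (24060, 23145), (24061, 23036), (24062, 23038), (24063, 25233)]
    ⟨e3 q24000 L770301 q25173, e3 q24001 (flp_c L758566) q22713, e3 q24002 (flp_c L758576) q22714, e3 q24003 L758592 q22810, e3 q24004 L770347 q25177, e3 q24005 (flp_c L763215) q24525, e3 q24006 (flp_c L758614) q22719, e3 q24007 (flp_c L770369) q25180, e3 q24008 L758634 q23011, e3 q24009 L758642 q22883, e3 q24010 L770383 q25182, e3 q24011 (flp_c L758666) q22728, e3 q24012 (flp_c L763997) q24582, e3 q24013 L770411 q25185, e3 q24014 L758689 q23078, e3 q24015 (flp_c L758694) q22732, e3 q24016 (flp_c L762152) q24448, e3 q24017 (flp_c L762289) q24458, e3 q24018 L758731 q22739, e3 q24019 L758748 q22775, e3 q24020 (flp_c L769443) q25078, e3 q24021 L770486 q25193, e3 q24022 (flp_c L762170) q24449, e3 q24023 (flp_c L769726) q25115, e3 q24024 L758789 q22922, e3 q24025 L758802 q23092, e3 q24026 L758814 q22747, e3 q24027 L770539 q25199, e3 q24028 L758834 q23122, e3 q24029 L770567 q25202, e3 q24030 (flp_c L758856) q22748, e3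 q24031 (flp_c L766365) q24768, e3 q24032 L770595 q25205, e3 q24033 (flp_c L769798) q25123, e3 q24034 L758890 q23082, e3 q24035 L770629 q25209, e3 q24036 L770649 q25211, e3 q24037 (flp_c L758911) q22755, e3 q24038 (flp_c L770671) q25214, e3 q24039 L758927 q23130, e3 q24040 (flp_c L758933) q22757, e3 q24041 (flp_c L770403) q25183, e3 q24042 L758951 q23131, e3 q24043 L758968 q23014, e3 q24044 L758975 q23123, e3 q24045 L758985 q23125, e3 q24046 L758995 q23016, e3 q24047 (flp_c L769840) q25128, e3 q24048 L759014 q22776, e3 q24049 (flp_c L769882) q25132, e3 q24050 L759039 q23148, e3 q24051 L759047 q23151, e3 q24052 L759060 q23146, e3 q24053 L770798 q25227, e3 q24054 (flp_c L759076) q22773, e3 q24055 (flp_c L770815) q25229, e3 q24056 L759096 q23155, e3 q24057 (flp_c L770472) q25191, e3 q24058 (flp_c L770744) q25222, e3 q24059 L759125 q23136, e3 q24060 L759135 q23145, e3 q24061 L759146 q23036, e3 q24062 L759158 q23038, e3 q24063 L770847 q25233, trivial⟩ (by decide +kernel)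

theorem ce_c_376 : ∀ r, r < 64 → sm gc (Qf (24064 + r)) = Qf (tab Gen.c (24064 + r)) :=
  edges_tab (sm gc) Qf (tab Gen.c) 24064 [(24064, 22806), (24065, 25236), (24066, 25171), (24067, 22787), (24068, 23060), (24069, 22791), (24070, 22880), (24071, 25242), (24072, 24554), (24073, 23049), (24074, 22976), (24075, 23061), (24076, 23062), (24077, 25248), (24078, 24659), (24079, 22799), (24080, 24999), (24081, 23057), (24082, 25253), (24083, 24534), (24084, 23050), (24085, 24529), (24086, 25257), (24087, 25259), (24088, 22808), (24089, 25261), (24090, 25262), (24091, 22811), (24092, 23072), (24093, 22818), (24094, 25266), (24095, 22881), (24096, 25269), (24097, 22819), (24098, 23085), (24099, 25273), (24100, 22977), (24101, 22935), (24102, 22936), (24103, 24444), (24104, 25278), (24105, 25280), (24106, 22828), (24107, 25283), (24108, 24660), (24109, 22830), (24110, 23095), (24111, 23096), (24112, 25289), (24113, 24915), (24114, 24719), (24115, 25292), (24116, 23099), (24117, 25295), (24118, 22839), (24119, 25298), (24120, 23023),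 (24121, 24526), (24122, 25301), (24123, 25303), (24124, 22845), (24125, 25306), (24126, 22852), (24127, 25309)]
    ⟨e3 q24064 L759181 q22806, e3 q24065 L770877 q25236, e3 q24066 (flp_c L770280) q25171, e3 q24067 (flp_c L759203) q22787, e3 q24068 L759215 q23060, e3 q24069 L759224 q22791, e3 q24070 L759239 q22880, e3 q24071 L770929 q25242, e3 q24072 (flp_c L763642) q24554, e3 q24073 L759267 q23049, e3 q24074 L759287 q22976, e3 q24075 L759292 q23061, e3 q24076 L759303 q23062, e3 q24077 L770986 q25248, e3 q24078 (flp_c L764941) q24659, e3 q24079 (flp_c L759325) q22799, e3 q24080 (flp_c L768686) q24999, e3 q24081 L759346 q23057, e3 q24082 L771036 q25253, e3 q24083 (flp_c L763348) q24534, e3 q24084 L759373 q23050, e3 q24085 (flp_c L763276) q24529, e3 q24086 L771064 q25257, e3 q24087 L771073 q25259, e3 q24088 (flp_c L759398) q22808, e3 q24089 (flp_c L771091) q25261, e3 q24090 L771095 q25262, e3 q24091 (flp_c L759422) q22811, e3 q24092 L759436 q23072, e3 q24093 L759440 q22818, e3 q24094 L771127 q25266, e3 q24095 L759451 q22881,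 e3 q24096 L771146 q25269, e3 q24097 (flp_c L759463) q22819, e3 q24098 L759471 q23085, e3 q24099 L771171 q25273, e3 q24100 L759491 q22977, e3 q24101 L759499 q22935, e3 q24102 L759510 q22936, e3 q24103 (flp_c L762082) q24444, e3 q24104 L771210 q25278, e3 q24105 L771224 q25280, e3 q24106 (flp_c L759539) q22828, e3 q24107 (flp_c L771250) q25283, e3 q24108 (flp_c L764956) q24660, e3 q24109 (flp_c L759559) q22830, e3 q24110 L759573 q23095, e3 q24111 L759581 q23096, e3 q24112 L771296 q25289, e3 q24113 (flp_c L767811) q24915, e3 q24114 (flp_c L765744) q24719, e3 q24115 L771316 q25292, e3 q24116 L759622 q23099, e3 q24117 L771340 q25295, e3 q24118 (flp_c L759638) q22839, e3 q24119 (flp_c L771360) q25298, e3 q24120 L759652 q23023, e3 q24121 (flp_c L763233) q24526, e3 q24122 L771378 q25301, e3 q24123 L771389 q25303, e3 q24124 (flp_c L759676) q22845, e3 q24125 (flp_c L771405) q25306, e3 q24126 L759688 q22852, e3 q24127 L771419 q25309, trivial⟩ (by decide +kernel)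

theorem ce_c_377 : ∀ r, r < 64 → sm gc (Qf (24128 + r)) = Qf (tab Gen.c (24128 + r)) :=
  edges_tab (sm gc) Qf (tab Gen.c) 24128 [(24128, 22848), (24129, 25312), (24130, 25297), (24131, 22850), (24132, 25315), (24133, 25316), (24134, 22853), (24135, 23117), (24136, 23118), (24137, 23119), (24138, 24488), (24139, 25126), (24140, 24883), (24141, 25027), (24142, 24495), (24143, 25119), (24144, 24518), (24145, 24522), (24146, 22882), (24147, 24507), (24148, 24508), (24149, 24509), (24150, 24661), (24151, 24854), (24152, 24855), (24153, 25241), (24154, 25268), (24155, 25328), (24156, 25329), (24157, 25330), (24158, 22929), (24159, 22892), (24160, 22931), (24161, 24761), (24162, 22932), (24163, 24515), (24164, 24870), (24165, 25336), (24166, 22938), (24167, 22901), (24168, 22941), (24169, 22903), (24170, 22990), (24171, 23006), (24172, 22999), (24173, 25344), (24174, 25346), (24175, 22909), (24176, 25349), (24177, 22963), (24178, 22911), (24179, 25149), (24180, 24421), (24181, 24404), (24182, 22969), (24183, 24723), (24184, 24919),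 (24185, 25135), (24186, 22978), (24187, 25196), (24188, 25358), (24189, 24842), (24190, 22925), (24191, 25361)]
    ⟨e3 q24128 (flp_c L759698) q22848, e3 q24129 (flp_c L771439) q25312, e3 q24130 (flp_c L771356) q25297, e3 q24131 L759714 q22850, e3 q24132 (flp_c L771451) q25315, e3 q24133 L771453 q25316, e3 q24134 (flp_c L759726) q22853, e3 q24135 L759734 q23117, e3 q24136 L759738 q23118, e3 q24137 L759746 q23119, e3 q24138 (flp_c L762685) q24488, e3 q24139 (flp_c L769818) q25126, e3 q24140 (flp_c L767503) q24883, e3 q24141 L768984 q25027, e3 q24142 (flp_c L762776) q24495, e3 q24143 (flp_c L769759) q25119, e3 q24144 (flp_c L763124) q24518, e3 q24145 (flp_c L763176) q24522, e3 q24146 L759821 q22882, e3 q24147 (flp_c L762956) q24507, e3 q24148 (flp_c L762963) q24508, e3 q24149 (flp_c L762977) q24509, e3 q24150 (flp_c L764972) q24661, e3 q24151 (flp_c L767191) q24854, e3 q24152 (flp_c L767198) q24855, e3 q24153 (flp_c L770922) q25241, e3 q24154 (flp_c L771141) q25268, e3 q24155 L771540 q25328, e3 q24156 L771554 q25329, e3 q24157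 L771568 q25330, e3 q24158 L759916 q22929, e3 q24159 (flp_c L759920) q22892, e3 q24160 L759932 q22931, e3 q24161 (flp_c L766267) q24761, e3 q24162 L759949 q22932, e3 q24163 (flp_c L763071) q24515, e3 q24164 (flp_c L767367) q24870, e3 q24165 L771607 q25336, e3 q24166 L759970 q22938, e3 q24167 (flp_c L759975) q22901, e3 q24168 L759983 q22941, e3 q24169 (flp_c L759988) q22903, e3 q24170 L759998 q22990, e3 q24171 L760007 q23006, e3 q24172 L760014 q22999, e3 q24173 L771665 q25344, e3 q24174 L771677 q25346, e3 q24175 (flp_c L760030) q22909, e3 q24176 (flp_c L771693) q25349, e3 q24177 L760040 q22963, e3 q24178 (flp_c L760046) q22911, e3 q24179 (flp_c L770060) q25149, e3 q24180 (flp_c L761740) q24421, e3 q24181 (flp_c L761475) q24404, e3 q24182 L760068 q22969, e3 q24183 (flp_c L765817) q24723, e3 q24184 (flp_c L767863) q24919, e3 q24185 (flp_c L769917) q25135, e3 q24186 L760094 q22978, e3 q24187 (flp_c L770512) q25196, e3 q24188 L771750 q25358, e3 q24189 (flp_c L767065) q24842, e3 q24190 (flp_c L760121) q22925, e3 q24191 L771770 q25361,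 trivial⟩ (by decide +kernel)

theorem ce_c_378 : ∀ r, r < 64 → sm gc (Qf (24192 + r)) = Qf (tab Gen.c (24192 + r)) :=
  edges_tab (sm gc) Qf (tab Gen.c) 24192 [(24192, 22927), (24193, 22928), (24194, 25364), (24195, 25332), (24196, 25352), (24197, 25367), (24198, 25169), (24199, 25275), (24200, 25371), (24201, 22937), (24202, 25374), (24203, 25338), (24204, 25153), (24205, 24693), (24206, 25377), (24207, 22956), (24208, 25379), (24209, 22945), (24210, 25382), (24211, 24699), (24212, 22948), (24213, 25385), (24214, 25156), (24215, 25387), (24216, 24429), (24217, 25389), (24218, 25391), (24219, 22955), (24220, 25393), (24221, 24708), (24222, 25395), (24223, 22958), (24224, 25398), (24225, 25399), (24226, 22960), (24227, 25401), (24228, 25392), (24229, 22962), (24230, 25404), (24231, 25351), (24232, 22965), (24233, 25166), (24234, 25167), (24235, 24658), (24236, 25245), (24237, 24876), (24238, 25409), (24239, 22981), (24240, 25216), (24241, 22983), (24242, 25413), (24243, 22985), (24244, 22986), (24245, 25174), (24246, 22991),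 (24247, 25418), (24248, 25341), (24249, 25420), (24250, 22992), (24251, 23025), (24252, 25424), (24253, 24816), (24254, 25426), (24255, 25427)]
    ⟨e3 q24192 (flp_c L760135) q22927, e3 q24193 (flp_c L760143) q22928, e3 q24194 (flp_c L771792) q25364, e3 q24195 (flp_c L771584) q25332, e3 q24196 (flp_c L771715) q25352, e3 q24197 L771806 q25367, e3 q24198 (flp_c L770259) q25169, e3 q24199 (flp_c L771187) q25275, e3 q24200 L771833 q25371, e3 q24201 (flp_c L760189) q22937, e3 q24202 (flp_c L771850) q25374, e3 q24203 (flp_c L771621) q25338, e3 q24204 (flp_c L770106) q25153, e3 q24205 (flp_c L765440) q24693, e3 q24206 L771864 q25377, e3 q24207 L760225 q22956, e3 q24208 L771876 q25379, e3 q24209 (flp_c L760237) q22945, e3 q24210 L771892 q25382, e3 q24211 (flp_c L765505) q24699, e3 q24212 (flp_c L760257) q22948, e3 q24213 (flp_c L771912) q25385, e3 q24214 (flp_c L770138) q25156, e3 q24215 L771922 q25387, e3 q24216 (flp_c L761847) q24429, e3 q24217 L771932 q25389, e3 q24218 L771944 q25391, e3 q24219 (flp_c L760297) q22955, e3 q24220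 (flp_c L771954) q25393, e3 q24221 (flp_c L765597) q24708, e3 q24222 L771962 q25395, e3 q24223 (flp_c L760317) q22958, e3 q24224 (flp_c L771982) q25398, e3 q24225 L771986 q25399, e3 q24226 (flp_c L760333) q22960, e3 q24227 (flp_c L772000) q25401, e3 q24228 (flp_c L771950) q25392, e3 q24229 L760353 q22962, e3 q24230 (flp_c L772016) q25404, e3 q24231 (flp_c L771703) q25351, e3 q24232 (flp_c L760365) q22965, e3 q24233 (flp_c L770240) q25166, e3 q24234 (flp_c L770244) q25167, e3 q24235 (flp_c L764929) q24658, e3 q24236 (flp_c L770960) q25245, e3 q24237 (flp_c L767426) q24876, e3 q24238 L772040 q25409, e3 q24239 (flp_c L760407) q22981, e3 q24240 (flp_c L770687) q25216, e3 q24241 (flp_c L760419) q22983, e3 q24242 L772066 q25413, e3 q24243 (flp_c L760433) q22985, e3 q24244 (flp_c L760441) q22986, e3 q24245 (flp_c L770323) q25174, e3 q24246 L760455 q22991, e3 q24247 L772100 q25418, e3 q24248 (flp_c L771644) q25341, e3 q24249 L772116 q25420, e3 q24250 (flp_c L760479) q22992, e3 q24251 L760489 q23025, e3 q24252 L772139 q25424, e3 q24253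 (flp_c L766850) q24816, e3 q24254 L772151 q25426, e3 q24255 L772157 q25427, trivial⟩ (by decide +kernel)

theorem ce_c_379 : ∀ r, r < 64 → sm gc (Qf (24256 + r)) = Qf (tab Gen.c (24256 + r)) :=
  edges_tab (sm gc) Qf (tab Gen.c) 24256 [(24256, 22998), (24257, 25430), (24258, 23000), (24259, 25175), (24260, 25044), (24261, 25434), (24262, 25435), (24263, 23005), (24264, 25438), (24265, 23007), (24266, 23008), (24267, 25442), (24268, 25437), (24269, 23034), (24270, 25181), (24271, 24571), (24272, 25219), (24273, 24580), (24274, 25446), (24275, 24710), (24276, 23019), (24277, 23020), (24278, 25415), (24279, 25451), (24280, 25452), (24281, 23024), (24282, 25455), (24283, 23026), (24284, 25431), (24285, 25458), (24286, 25459), (24287, 23030), (24288, 25461), (24289, 23032), (24290, 25460), (24291, 25444), (24292, 25013), (24293, 25218), (24294, 25006), (24295, 25467), (24296, 23039), (24297, 25469), (24298, 23063), (24299, 25471), (24300, 23042), (24301, 25474), (24302, 25238), (24303, 23047), (24304, 25477), (24305, 25478), (24306,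 23048), (24307, 25481), (24308, 25482), (24309, 23051), (24310, 25250), (24311, 25485), (24312, 23056), (24313, 24976), (24314, 25488), (24315, 25489), (24316, 23058), (24317, 24445), (24318, 25239), (24319, 25246)]
    ⟨e3 q24256 (flp_c L760522) q22998, e3 q24257 L772177 q25430, e3 q24258 (flp_c L760536) q23000, e3 q24259 (flp_c L770333) q25175, e3 q24260 (flp_c L769172) q25044, e3 q24261 L772209 q25434, e3 q24262 L772219 q25435, e3 q24263 (flp_c L760577) q23005, e3 q24264 L772235 q25438, e3 q24265 (flp_c L760585) q23007, e3 q24266 (flp_c L760589) q23008, e3 q24267 (flp_c L772258) q25442, e3 q24268 (flp_c L772233) q25437, e3 q24269 L760607 q23034, e3 q24270 (flp_c L770375) q25181, e3 q24271 (flp_c L763862) q24571, e3 q24272 (flp_c L770711) q25219, e3 q24273 (flp_c L763966) q24580, e3 q24274 L772277 q25446, e3 q24275 (flp_c L765627) q24710, e3 q24276 (flp_c L760642) q23019, e3 q24277 (flp_c L760648) q23020, e3 q24278 (flp_c L772088) q25415, e3 q24279 L772305 q25451, e3 q24280 L772313 q25452, e3 q24281 (flp_c L760672) q23024,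 e3 q24282 L772328 q25455, e3 q24283 (flp_c L760684) q23026, e3 q24284 (flp_c L772189) q25431, e3 q24285 L772344 q25458, e3 q24286 L772348 q25459, e3 q24287 (flp_c L760708) q23030, e3 q24288 L772356 q25461, e3 q24289 (flp_c L760716) q23032, e3 q24290 (flp_c L772354) q25460, e3 q24291 (flp_c L772266) q25444, e3 q24292 (flp_c L768839) q25013, e3 q24293 (flp_c L770701) q25218, e3 q24294 (flp_c L768773) q25006, e3 q24295 L772396 q25467, e3 q24296 (flp_c L760762) q23039, e3 q24297 (flp_c L772406) q25469, e3 q24298 L760776 q23063, e3 q24299 L772414 q25471, e3 q24300 (flp_c L760786) q23042, e3 q24301 (flp_c L772432) q25474, e3 q24302 (flp_c L770905) q25238, e3 q24303 L760800 q23047, e3 q24304 L772444 q25477, e3 q24305 L772452 q25478, e3 q24306 (flp_c L760819) q23048, e3 q24307 L772469 q25481, e3 q24308 L772477 q25482, e3 q24309 (flp_c L760841) q23051, e3 q24310 (flp_c L771014) q25250, e3 q24311 L772497 q25485, e3 q24312 L760863 q23056, e3 q24313 (flp_c L768471) q24976, e3 q24314 L772513 q25488, e3 q24315 L772517 q25489, e3 q24316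 (flp_c L760888) q23058, e3 q24317 (flp_c L762100) q24445, e3 q24318 (flp_c L770909) q25239, e3 q24319 (flp_c L770969) q25246, trivial⟩ (by decide +kernel)

theorem ce_c_380 : ∀ r, r < 64 → sm gc (Qf (24320 + r)) = Qf (tab Gen.c (24320 + r)) :=
  edges_tab (sm gc) Qf (tab Gen.c) 24320 [(24320, 25495), (24321, 25497), (24322, 23064), (24323, 23069), (24324, 25500), (24325, 23067), (24326, 25503), (24327, 25491), (24328, 25505), (24329, 23070), (24330, 25263), (24331, 25264), (24332, 23073), (24333, 23074), (24334, 25508), (24335, 23149), (24336, 24531), (24337, 25510), (24338, 23081), (24339, 25513), (24340, 23083), (24341, 25516), (24342, 25271), (24343, 25518), (24344, 23086), (24345, 23087), (24346, 23088), (24347, 25523), (24348, 25520), (24349, 23090), (24350, 25527), (24351, 24924), (24352, 25529), (24353, 23093), (24354, 25286), (24355, 25287), (24356, 25532), (24357, 23097), (24358, 25534), (24359, 23100), (24360, 25537), (24361, 23112), (24362, 24435), (24363, 25540), (24364, 25542), (24365, 23105), (24366, 25545),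 (24367, 23106), (24368, 25526), (24369, 25548), (24370, 23109), (24371, 25551), (24372, 25536), (24373, 23111), (24374, 25555), (24375, 25538), (24376, 25521), (24377, 23114), (24378, 23115), (24379, 25317), (24380, 25318), (24381, 23120), (24382, 25560), (24383, 25201)]
    ⟨e3 q24320 L772558 q25495, e3 q24321 L772569 q25497, e3 q24322 (flp_c L760923) q23064, e3 q24323 L760929 q23069, e3 q24324 L772585 q25500, e3 q24325 (flp_c L760943) q23067, e3 q24326 (flp_c L772611) q25503, e3 q24327 (flp_c L772535) q25491, e3 q24328 L772621 q25505, e3 q24329 (flp_c L760969) q23070, e3 q24330 (flp_c L771115) q25263, e3 q24331 (flp_c L771119) q25264, e3 q24332 (flp_c L760985) q23073, e3 q24333 (flp_c L760997) q23074, e3 q24334 (flp_c L772641) q25508, e3 q24335 L761019 q23149, e3 q24336 (flp_c L763307) q24531, e3 q24337 L772657 q25510, e3 q24338 (flp_c L761033) q23081, e3 q24339 L772672 q25513, e3 q24340 (flp_c L761045) q23083, e3 q24341 (flp_c L772689) q25516, e3 q24342 (flp_c L771159) q25271, e3 q24343 L772695 q25518, e3 q24344 (flp_c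 L761066) q23086, e3 q24345 (flp_c L761074) q23087, e3 q24346 (flp_c L761082) q23088, e3 q24347 (flp_c L772745) q25523, e3 q24348 (flp_c L772723) q25520, e3 q24349 L761104 q23090, e3 q24350 (flp_c L772779) q25527, e3 q24351 (flp_c L767924) q24924, e3 q24352 L772793 q25529, e3 q24353 (flp_c L761134) q23093, e3 q24354 (flp_c L771276) q25286, e3 q24355 (flp_c L771280) q25287, e3 q24356 L772809 q25532, e3 q24357 (flp_c L761154) q23097, e3 q24358 L772817 q25534, e3 q24359 (flp_c L761164) q23100, e3 q24360 (flp_c L772837) q25537, e3 q24361 L761176 q23112, e3 q24362 (flp_c L761944) q24435, e3 q24363 L772849 q25540, e3 q24364 L772863 q25542, e3 q24365 (flp_c L761198) q23105, e3 q24366 (flp_c L772883) q25545, e3 q24367 (flp_c L761210) q23106, e3 q24368 (flp_c L772771) q25526, e3 q24369 L772895 q25548, e3 q24370 (flp_c L761222) q23109, e3 q24371 (flp_c L772915) q25551, e3 q24372 (flp_c L772833) q25536, e3 q24373 L761242 q23111, e3 q24374 (flp_c L772935) q25555, e3 q24375 (flp_c L772841) q25538, e3 q24376 (flp_c L772733) q25521, e3 q24377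 L761260 q23114, e3 q24378 (flp_c L761262) q23115, e3 q24379 (flp_c L771461) q25317, e3 q24380 (flp_c L771465) q25318, e3 q24381 (flp_c L761274) q23120, e3 q24382 (flp_c L772957) q25560, e3 q24383 (flp_c L770559) q25201, trivial⟩ (by decide +kernel)

theorem ce_c_381 : ∀ r, r < 64 → sm gc (Qf (24384 + r)) = Qf (tab Gen.c (24384 + r)) :=
  edges_tab (sm gc) Qf (tab Gen.c) 24384 [(24384, 25220), (24385, 25207), (24386, 23127), (24387, 23150), (24388, 24643), (24389, 25223), (24390, 25112), (24391, 25129), (24392, 23140), (24393, 24594), (24394, 24644), (24395, 24971), (24396, 25226), (24397, 24553), (24398, 25224), (24399, 25509), (24400, 25225), (24401, 23153), (24402, 23656), (24403, 25568), (24404, 24181), (24405, 23618), (24406, 25571), (24407, 23169), (24408, 25573), (24409, 25574), (24410, 23170), (24411, 23467), (24412, 23176), (24413, 25577), (24414, 23179), (24415, 25579), (24416, 23181), (24417, 25581), (24418, 25582), (24419, 23184), (24420, 23536), (24421, 24180), (24422, 23188), (24423, 23189), (24424, 23562), (24425,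 25589), (24426, 23192), (24427, 25592), (24428, 23660), (24429, 24216), (24430, 23670), (24431, 23197), (24432, 23674), (24433, 23437), (24434, 23906), (24435, 24362), (24436, 23238), (24437, 23257), (24438, 23222), (24439, 23211), (24440, 23212), (24441, 23341), (24442, 25602), (24443, 25606), (24444, 24103), (24445, 24317), (24446, 23220), (24447, 23351)]
    ⟨e3 q24384 (flp_c L770722) q25220, e3 q24385 (flp_c L770611) q25207, e3 q24386 L761321 q23127, e3 q24387 L761329 q23150, e3 q24388 (flp_c L764729) q24643, e3 q24389 (flp_c L770758) q25223, e3 q24390 (flp_c L769709) q25112, e3 q24391 (flp_c L769855) q25129, e3 q24392 L761367 q23140, e3 q24393 (flp_c L764139) q24594, e3 q24394 (flp_c L764739) q24644, e3 q24395 (flp_c L768415) q24971, e3 q24396 (flp_c L770793) q25226, e3 q24397 (flp_c L763633) q24553, e3 q24398 (flp_c L770769) q25224, e3 q24399 (flp_c L772650) q25509, e3 q24400 (flp_c L770781) q25225, e3 q24401 L761420 q23153, e3 q24402 L761433 q23656, e3 q24403 L773015 q25568, e3 q24404 L761475 q24181, e3 q24405 L761484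 q23618, e3 q24406 L773066 q25571, e3 q24407 L761518 q23169, e3 q24408 L773100 q25573, e3 q24409 L773116 q25574, e3 q24410 (flp_c L761558) q23170, e3 q24411 L761574 q23467, e3 q24412 (flp_c L761588) q23176, e3 q24413 (flp_c L773158) q25577, e3 q24414 L761626 q23179, e3 q24415 L773186 q25579, e3 q24416 (flp_c L761653) q23181, e3 q24417 L773220 q25581, e3 q24418 L773238 q25582, e3 q24419 (flp_c L761705) q23184, e3 q24420 L761731 q23536, e3 q24421 L761740 q24180, e3 q24422 (flp_c L761747) q23188, e3 q24423 (flp_c L761759) q23189, e3 q24424 L761783 q23562, e3 q24425 L773349 q25589, e3 q24426 (flp_c L761809) q23192, e3 q24427 (flp_c L773397) q25592, e3 q24428 L761839 q23660, e3 q24429 L761847 q24216, e3 q24430 L761873 q23670, e3 q24431 L761879 q23197, e3 q24432 L761895 q23674, e3 q24433 L761917 q23437, e3 q24434 L761927 q23906, e3 q24435 L761944 q24362, e3 q24436 L761960 q23238, e3 q24437 L761978 q23257, e3 q24438 L761993 q23222, e3 q24439 L762010 q23211, e3 q24440 L762025 q23212, e3 q24441 L762046 q23341, e3 q24442 (flp_c L773543)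 q25602, e3 q24443 L773591 q25606, e3 q24444 L762082 q24103, e3 q24445 L762100 q24317, e3 q24446 L762117 q23220, e3 q24447 L762143 q23351, trivial⟩ (by decide +kernel)

theorem ce_c_382 : ∀ r, r < 64 → sm gc (Qf (24448 + r)) = Qf (tab Gen.c (24448 + r)) :=
  edges_tab (sm gc) Qf (tab Gen.c) 24448 [(24448, 24016), (24449, 24022), (24450, 25613), (24451, 23815), (24452, 25601), (24453, 25616), (24454, 23363), (24455, 25619), (24456, 23226), (24457, 23369), (24458, 24017), (24459, 25624), (24460, 23230), (24461, 23373), (24462, 23232), (24463, 25626), (24464, 25627), (24465, 23239), (24466, 25629), (24467, 23388), (24468, 25599), (24469, 25633), (24470, 23240), (24471, 23358), (24472, 23869), (24473, 25638), (24474, 23698), (24475, 23345), (24476, 23381), (24477, 23346), (24478, 25643), (24479, 25645), (24480, 23250), (24481, 25648), (24482, 23408), (24483, 23252), (24484, 25652), (24485, 23727), (24486, 25654), (24487, 23255), (24488, 24138), (24489, 23416), (24490, 25658), (24491, 23258), (24492, 25660), (24493, 23260), (24494,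 25661), (24495, 24142), (24496, 23424), (24497, 23265), (24498, 23267), (24499, 25664), (24500, 23269), (24501, 23449), (24502, 25578), (24503, 23439), (24504, 23801), (24505, 23677), (24506, 23678), (24507, 24147), (24508, 24148), (24509, 24149), (24510, 23450), (24511, 23723)]
    ⟨e3 q24448 L762152 q24016, e3 q24449 L762170 q24022, e3 q24450 L773697 q25613, e3 q24451 L762198 q23815, e3 q24452 (flp_c L773526) q25601, e3 q24453 L773736 q25616, e3 q24454 L762238 q23363, e3 q24455 L773775 q25619, e3 q24456 (flp_c L762257) q23226, e3 q24457 L762273 q23369, e3 q24458 L762289 q24017, e3 q24459 L773840 q25624, e3 q24460 (flp_c L762311) q23230, e3 q24461 L762333 q23373, e3 q24462 (flp_c L762342) q23232, e3 q24463 (flp_c L773874) q25626, e3 q24464 L773883 q25627, e3 q24465 L762392 q23239, e3 q24466 L773913 q25629, e3 q24467 L762420 q23388, e3 q24468 (flp_c L773494) q25599, e3 q24469 L773967 q25633, e3 q24470 (flp_c L762452) q23240, e3 q24471 L762466 q23358, e3 q24472 L762484 q23869, e3 q24473 L774029 q25638, e3 q24474 L762514 q23698,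 e3 q24475 L762532 q23345, e3 q24476 L762549 q23381, e3 q24477 L762562 q23346, e3 q24478 L774100 q25643, e3 q24479 L774124 q25645, e3 q24480 (flp_c L762594) q23250, e3 q24481 (flp_c L774158) q25648, e3 q24482 L762616 q23408, e3 q24483 (flp_c L762622) q23252, e3 q24484 (flp_c L774202) q25652, e3 q24485 L762648 q23727, e3 q24486 L774218 q25654, e3 q24487 (flp_c L762663) q23255, e3 q24488 L762685 q24138, e3 q24489 L762701 q23416, e3 q24490 L774272 q25658, e3 q24491 (flp_c L762720) q23258, e3 q24492 (flp_c L774303) q25660, e3 q24493 (flp_c L762744) q23260, e3 q24494 (flp_c L774317) q25661, e3 q24495 L762776 q24142, e3 q24496 L762791 q23424, e3 q24497 L762807 q23265, e3 q24498 (flp_c L762815) q23267, e3 q24499 (flp_c L774355) q25664, e3 q24500 L762847 q23269, e3 q24501 L762862 q23449, e3 q24502 (flp_c L773183) q25578, e3 q24503 L762889 q23439, e3 q24504 L762904 q23801, e3 q24505 L762924 q23677, e3 q24506 L762934 q23678, e3 q24507 L762956 q24147, e3 q24508 L762963 q24148, e3 q24509 L762977 q24149, e3 q24510 L762991 q23450, e3 q24511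 L763004 q23723, trivial⟩ (by decide +kernel)

theorem ce_c_383 : ∀ r, r < 64 → sm gc (Qf (24512 + r)) = Qf (tab Gen.c (24512 + r)) :=
  edges_tab (sm gc) Qf (tab Gen.c) 24512 [(24512, 25674), (24513, 23288), (24514, 23289), (24515, 24163), (24516, 25675), (24517, 23292), (24518, 24144), (24519, 25681), (24520, 23714), (24521, 25683), (24522, 24145), (24523, 25685), (24524, 23297), (24525, 24005), (24526, 24121), (24527, 25689), (24528, 25690), (24529, 24085), (24530, 25692), (24531, 24336), (24532, 25694), (24533, 23308), (24534, 24083), (24535, 23907), (24536, 25698), (24537, 23312), (24538, 23313), (24539, 25701), (24540, 23870), (24541, 25703), (24542, 23317), (24543, 25706), (24544, 25687), (24545, 23386), (24546, 23400), (24547, 23438), (24548, 23804), (24549, 23805), (24550, 23349), (24551, 23332), (24552, 23333), (24553, 24397), (24554, 24072), (24555, 25712), (24556, 25717), (24557, 23812), (24558, 23813), (24559, 23816), (24560, 25721), (24561, 23360), (24562, 23342), (24563, 25725), (24564, 25604), (24565, 25728),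 (24566, 23343), (24567, 23779), (24568, 25640), (24569, 25733), (24570, 23832), (24571, 24271), (24572, 25711), (24573, 25737), (24574, 25610), (24575, 23781)]
    ⟨e3 q24512 L774502 q25674, e3 q24513 L763038 q23288, e3 q24514 L763056 q23289, e3 q24515 L763071 q24163, e3 q24516 (flp_c L774524) q25675, e3 q24517 L763102 q23292, e3 q24518 L763124 q24144, e3 q24519 L774614 q25681, e3 q24520 L763147 q23714, e3 q24521 L774642 q25683, e3 q24522 L763176 q24145, e3 q24523 L774668 q25685, e3 q24524 (flp_c L763201) q23297, e3 q24525 L763215 q24005, e3 q24526 L763233 q24121, e3 q24527 L774726 q25689, e3 q24528 L774740 q25690, e3 q24529 L763276 q24085, e3 q24530 L774770 q25692, e3 q24531 L763307 q24336, e3 q24532 L774800 q25694, e3 q24533 (flp_c L763332) q23308, e3 q24534 L763348 q24083, e3 q24535 L763363 q23907, e3 q24536 L774850 q25698, e3 q24537 (flp_c L763384) q23312, e3 q24538 (flp_c L763398) q23313, e3 q24539 (flp_c L774894) q25701, e3 q24540 L763434 q23870, e3 q24541 L774922 q25703, e3 q24542 (flp_c L763460) q23317, e3 q24543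 (flp_c L774966) q25706, e3 q24544 (flp_c L774708) q25687, e3 q24545 L763504 q23386, e3 q24546 L763514 q23400, e3 q24547 L763530 q23438, e3 q24548 L763547 q23804, e3 q24549 L763565 q23805, e3 q24550 L763580 q23349, e3 q24551 L763597 q23332, e3 q24552 L763612 q23333, e3 q24553 L763633 q24397, e3 q24554 L763642 q24072, e3 q24555 (flp_c L775057) q25712, e3 q24556 L775122 q25717, e3 q24557 L763684 q23812, e3 q24558 L763702 q23813, e3 q24559 L763715 q23816, e3 q24560 L775172 q25721, e3 q24561 L763737 q23360, e3 q24562 L763748 q23342, e3 q24563 L775211 q25725, e3 q24564 (flp_c L773568) q25604, e3 q24565 L775239 q25728, e3 q24566 (flp_c L763786) q23343, e3 q24567 L763800 q23779, e3 q24568 (flp_c L774065) q25640, e3 q24569 L775299 q25733, e3 q24570 L763840 q23832, e3 q24571 L763862 q24271, e3 q24572 (flp_c L775040) q25711, e3 q24573 L775352 q25737, e3 q24574 (flp_c L773658) q25610, e3 q24575 L763903 q23781, trivial⟩ (by decide +kernel)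

theorem ce_c_384 : ∀ r, r < 64 → sm gc (Qf (24576 + r)) = Qf (tab Gen.c (24576 + r)) :=
  edges_tab (sm gc) Qf (tab Gen.c) 24576 [(24576, 25741), (24577, 23354), (24578, 23830), (24579, 25745), (24580, 24273), (24581, 25636), (24582, 24012), (24583, 25749), (24584, 25751), (24585, 23362), (24586, 25753), (24587, 25618), (24588, 23840), (24589, 25756), (24590, 23366), (24591, 25759), (24592, 23853), (24593, 25622), (24594, 24393), (24595, 23371), (24596, 25762), (24597, 23926), (24598, 23938), (24599, 23377), (24600, 23768), (24601, 23780), (24602, 25767), (24603, 23382), (24604, 23878), (24605, 23425), (24606, 25772), (24607, 25708), (24608, 23387), (24609, 25776), (24610, 25631), (24611, 23769), (24612, 25780), (24613, 23391), (24614, 25783), (24615, 23896), (24616, 23803), (24617, 25786), (24618, 23426), (24619, 23689), (24620, 25789), (24621, 25791), (24622, 23399), (24623, 25793), (24624, 23730), (24625, 25795), (24626, 23402), (24627, 25798), (24628, 23409), (24629, 25801), (24630, 23405), (24631, 25792), (24632, 23407),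 (24633, 25805), (24634, 25650), (24635, 25807), (24636, 23410), (24637, 25810), (24638, 23923), (24639, 23412)]
    ⟨e3 q24576 L775399 q25741, e3 q24577 (flp_c L763925) q23354, e3 q24578 L763937 q23830, e3 q24579 L775447 q25745, e3 q24580 L763966 q24273, e3 q24581 (flp_c L774003) q25636, e3 q24582 L763997 q24012, e3 q24583 L775507 q25749, e3 q24584 L775520 q25751, e3 q24585 (flp_c L764030) q23362, e3 q24586 (flp_c L775546) q25753, e3 q24587 (flp_c L773766) q25618, e3 q24588 L764065 q23840, e3 q24589 L775582 q25756, e3 q24590 (flp_c L764091) q23366, e3 q24591 (flp_c L775622) q25759, e3 q24592 L764111 q23853, e3 q24593 (flp_c L773817) q25622, e3 q24594 L764139 q24393, e3 q24595 (flp_c L764142) q23371, e3 q24596 (flp_c L775655) q25762, e3 q24597 L764184 q23926, e3 q24598 L764193 q23938, e3 q24599 L764208 q23377, e3 q24600 L764221 q23768, e3 q24601 L764238 q23780, e3 q24602 L775722 q25767, e3 q24603 (flp_c L764253) q23382, e3 q24604 L764265 q23878, e3 q24605 L764291 q23425, e3 q24606 L775781 q25772, e3 q24607 (flp_c L774990)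 q25708, e3 q24608 (flp_c L764313) q23387, e3 q24609 (flp_c L775833) q25776, e3 q24610 (flp_c L773945) q25631, e3 q24611 L764351 q23769, e3 q24612 L775877 q25780, e3 q24613 (flp_c L764371) q23391, e3 q24614 (flp_c L775915) q25783, e3 q24615 L764399 q23896, e3 q24616 L764407 q23803, e3 q24617 L775943 q25786, e3 q24618 L764437 q23426, e3 q24619 L764453 q23689, e3 q24620 L775985 q25789, e3 q24621 L776009 q25791, e3 q24622 (flp_c L764495) q23399, e3 q24623 (flp_c L776037) q25793, e3 q24624 L764515 q23730, e3 q24625 L776055 q25795, e3 q24626 (flp_c L764537) q23402, e3 q24627 (flp_c L776099) q25798, e3 q24628 L764569 q23409, e3 q24629 L776141 q25801, e3 q24630 (flp_c L764597) q23405, e3 q24631 (flp_c L776033) q25792, e3 q24632 L764619 q23407, e3 q24633 (flp_c L776185) q25805, e3 q24634 (flp_c L774178) q25650, e3 q24635 L776205 q25807, e3 q24636 (flp_c L764655) q23410, e3 q24637 (flp_c L776233) q25810, e3 q24638 L764673 q23923, e3 q24639 L764677 q23412, trivial⟩ (by decide +kernel)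

theorem ce_c_385 : ∀ r, r < 64 → sm gc (Qf (24640 + r)) = Qf (tab Gen.c (24640 + r)) :=
  edges_tab (sm gc) Qf (tab Gen.c) 24640 [(24640, 23925), (24641, 23729), (24642, 25657), (24643, 24388), (24644, 24394), (24645, 23934), (24646, 23420), (24647, 25771), (24648, 23947), (24649, 25813), (24650, 23734), (24651, 23958), (24652, 23957), (24653, 23434), (24654, 23733), (24655, 25668), (24656, 25596), (24657, 23739), (24658, 24235), (24659, 24078), (24660, 24108), (24661, 24150), (24662, 23628), (24663, 25824), (24664, 23501), (24665, 23474), (24666, 23554), (24667, 23494), (24668, 25829), (24669, 23607), (24670, 23516), (24671, 25832), (24672, 25833), (24673, 23572), (24674, 25835), (24675, 23484), (24676, 23636), (24677, 23497), (24678, 23492), (24679, 23493), (24680, 23600), (24681, 25839), (24682, 25843), (24683, 25844), (24684, 23603), (24685, 23994), (24686, 25838), (24687, 25848), (24688, 23617), (24689, 23530), (24690, 25852), (24691, 23502), (24692, 23624), (24693, 24205), (24694, 23506), (24695, 25856), (24696, 25857),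 (24697, 23510), (24698, 25859), (24699, 24211), (24700, 25861), (24701, 23514), (24702, 25864), (24703, 23655)]
    ⟨e3 q24640 L764681 q23925, e3 q24641 L764691 q23729, e3 q24642 (flp_c L774265) q25657, e3 q24643 L764729 q24388, e3 q24644 L764739 q24394, e3 q24645 L764761 q23934, e3 q24646 L764767 q23420, e3 q24647 (flp_c L775769) q25771, e3 q24648 L764791 q23947, e3 q24649 (flp_c L776253) q25813, e3 q24650 L764811 q23734, e3 q24651 L764828 q23958, e3 q24652 L764842 q23957, e3 q24653 L764859 q23434, e3 q24654 L764883 q23733, e3 q24655 (flp_c L774415) q25668, e3 q24656 (flp_c L773447) q25596, e3 q24657 L764922 q23739, e3 q24658 L764929 q24235, e3 q24659 L764941 q24078, e3 q24660 L764956 q24108, e3 q24661 L764972 q24150, e3 q24662 L764989 q23628, e3 q24663 L776404 q25824, e3 q24664 L765023 q23501, e3 q24665 L765041 q23474, e3 q24666 L765067 q23554, e3 q24667 L765076 q23494, e3 q24668 L776485 q25829, e3 q24669 L765116 q23607, e3 q24670 L765125 q23516, e3 q24671 L776532 q25832, e3 q24672 L776546 q25833, e3 q24673 L765167 q23572,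 e3 q24674 L776576 q25835, e3 q24675 (flp_c L765191) q23484, e3 q24676 L765207 q23636, e3 q24677 L765223 q23497, e3 q24678 L765240 q23492, e3 q24679 L765255 q23493, e3 q24680 L765272 q23600, e3 q24681 (flp_c L776637) q25839, e3 q24682 L776681 q25843, e3 q24683 L776693 q25844, e3 q24684 L765320 q23603, e3 q24685 L765346 q23994, e3 q24686 (flp_c L776620) q25838, e3 q24687 L776750 q25848, e3 q24688 L765370 q23617, e3 q24689 L765383 q23530, e3 q24690 L776799 q25852, e3 q24691 (flp_c L765401) q23502, e3 q24692 L765415 q23624, e3 q24693 L765440 q24205, e3 q24694 (flp_c L765443) q23506, e3 q24695 (flp_c L776844) q25856, e3 q24696 L776855 q25857, e3 q24697 (flp_c L765483) q23510, e3 q24698 L776879 q25859, e3 q24699 L765505 q24211, e3 q24700 L776901 q25861, e3 q24701 (flp_c L765529) q23514, e3 q24702 (flp_c L776941) q25864, e3 q24703 L765547 q23655, trivial⟩ (by decide +kernel)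

theorem ce_c_386 : ∀ r, r < 64 → sm gc (Qf (24704 + r)) = Qf (tab Gen.c (24704 + r)) :=
  edges_tab (sm gc) Qf (tab Gen.c) 24704 [(24704, 25866), (24705, 23517), (24706, 25869), (24707, 25576), (24708, 24221), (24709, 23522), (24710, 24275), (24711, 25872), (24712, 25873), (24713, 23882), (24714, 23568), (24715, 23741), (24716, 25877), (24717, 25585), (24718, 23537), (24719, 24114), (24720, 23551), (24721, 23544), (24722, 23545), (24723, 24183), (24724, 25882), (24725, 25886), (24726, 23548), (24727, 25888), (24728, 23565), (24729, 23669), (24730, 25881), (24731, 23555), (24732, 25893), (24733, 25827), (24734, 25896), (24735, 23556), (24736, 23621), (24737, 23560), (24738, 25899), (24739, 25900), (24740, 25901), (24741, 23608), (24742, 25903), (24743, 23566), (24744, 25905), (24745, 23569), (24746, 25907), (24747, 25909), (24748, 23571), (24749, 25912), (24750, 23662), (24751, 23573), (24752, 25915), (24753, 25879), (24754, 23623), (24755, 23577), (24756, 25917), (24757, 23661), (24758, 23582), (24759, 23800), (24760, 23585),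 (24761, 24161), (24762, 23605), (24763, 23592), (24764, 23593), (24765, 25676), (24766, 25922), (24767, 25925)]
    ⟨e3 q24704 L776961 q25866, e3 q24705 (flp_c L765569) q23517, e3 q24706 (flp_c L776997) q25869, e3 q24707 (flp_c L773150) q25576, e3 q24708 L765597 q24221, e3 q24709 L765613 q23522, e3 q24710 L765627 q24275, e3 q24711 L777025 q25872, e3 q24712 L777039 q25873, e3 q24713 L765671 q23882, e3 q24714 L765688 q23568, e3 q24715 L765704 q23741, e3 q24716 L777094 q25877, e3 q24717 (flp_c L773288) q25585, e3 q24718 (flp_c L765732) q23537, e3 q24719 L765744 q24114, e3 q24720 L765760 q23551, e3 q24721 L765777 q23544, e3 q24722 L765794 q23545, e3 q24723 L765817 q24183, e3 q24724 (flp_c L777161) q25882, e3 q24725 L777213 q25886, e3 q24726 L765853 q23548, e3 q24727 L777241 q25888, e3 q24728 L765879 q23565, e3 q24729 L765905 q23669, e3 q24730 (flp_c L777144) q25881, e3 q24731 L765925 q23555, e3 q24732 L777310 q25893, e3 q24733 (flp_c L776458) q25827, e3 q24734 L777347 q25896, e3 q24735 (flp_c L765962) q23556, e3 q24736 L765976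 q23621, e3 q24737 (flp_c L765987) q23560, e3 q24738 (flp_c L777375) q25899, e3 q24739 L777386 q25900, e3 q24740 L777396 q25901, e3 q24741 L766033 q23608, e3 q24742 L777420 q25903, e3 q24743 (flp_c L766057) q23566, e3 q24744 L777436 q25905, e3 q24745 (flp_c L766073) q23569, e3 q24746 (flp_c L777460) q25907, e3 q24747 L777490 q25909, e3 q24748 (flp_c L766107) q23571, e3 q24749 (flp_c L777518) q25912, e3 q24750 L766127 q23662, e3 q24751 (flp_c L766135) q23573, e3 q24752 (flp_c L777540) q25915, e3 q24753 (flp_c L777120) q25879, e3 q24754 L766163 q23623, e3 q24755 (flp_c L766175) q23577, e3 q24756 (flp_c L777558) q25917, e3 q24757 L766207 q23661, e3 q24758 L766224 q23582, e3 q24759 L766243 q23800, e3 q24760 L766252 q23585, e3 q24761 L766267 q24161, e3 q24762 L766284 q23605, e3 q24763 L766301 q23592, e3 q24764 L766316 q23593, e3 q24765 (flp_c L774549) q25676, e3 q24766 (flp_c L777632) q25922, e3 q24767 L777665 q25925, trivial⟩ (by decide +kernel)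

theorem ce_c_387 : ∀ r, r < 64 → sm gc (Qf (24768 + r)) = Qf (tab Gen.c (24768 + r)) :=
  edges_tab (sm gc) Qf (tab Gen.c) 24768 [(24768, 24031), (24769, 25927), (24770, 23613), (24771, 23614), (24772, 23601), (24773, 25932), (24774, 25841), (24775, 25935), (24776, 23602), (24777, 25938), (24778, 23898), (24779, 25921), (24780, 25941), (24781, 25830), (24782, 25943), (24783, 23609), (24784, 23703), (24785, 25947), (24786, 23996), (24787, 25929), (24788, 25951), (24789, 25953), (24790, 23616), (24791, 25956), (24792, 25850), (24793, 25958), (24794, 23619), (24795, 25961), (24796, 25584), (24797, 25895), (24798, 23625), (24799, 25908), (24800, 25949), (24801, 23627), (24802, 25964), (24803, 23629), (24804, 23883), (24805, 23884), (24806, 23885), (24807, 25970), (24808, 25972), (24809, 23635), (24810, 25975), (24811, 23637), (24812, 25977), (24813, 25586), (24814, 23700), (24815, 25980), (24816, 24253), (24817, 23737), (24818, 25983), (24819, 25985), (24820, 23645), (24821, 25988), (24822, 23671), (24823, 23908), (24824, 25991),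 (24825, 25993), (24826, 23650), (24827, 25996), (24828, 25998), (24829, 23652), (24830, 26001), (24831, 25987)]
    ⟨e3 q24768 L766365 q24031, e3 q24769 L777683 q25927, e3 q24770 L766389 q23613, e3 q24771 L766402 q23614, e3 q24772 L766409 q23601, e3 q24773 L777733 q25932, e3 q24774 (flp_c L776660) q25841, e3 q24775 L777755 q25935, e3 q24776 (flp_c L766443) q23602, e3 q24777 L777786 q25938, e3 q24778 L766471 q23898, e3 q24779 (flp_c L777615) q25921, e3 q24780 L777829 q25941, e3 q24781 (flp_c L776503) q25830, e3 q24782 L777847 q25943, e3 q24783 (flp_c L766522) q23609, e3 q24784 L766534 q23703, e3 q24785 L777885 q25947, e3 q24786 L766563 q23996, e3 q24787 (flp_c L777708) q25929, e3 q24788 L777938 q25951, e3 q24789 L777951 q25953, e3 q24790 (flp_c L766593) q23616, e3 q24791 (flp_c L777981) q25956, e3 q24792 (flp_c L776772) q25850, e3 q24793 L777993 q25958, e3 q24794 (flp_c L766628) q23619, e3 q24795 (flp_c L778027) q25961, e3 q24796 (flp_c L773280) q25584, e3 q24797 (flp_c L777336) q25895, e3 q24798 L766661 q23625, e3 q24799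 (flp_c L777478) q25908, e3 q24800 (flp_c L777919) q25949, e3 q24801 L766697 q23627, e3 q24802 L778041 q25964, e3 q24803 (flp_c L766710) q23629, e3 q24804 L766724 q23883, e3 q24805 L766739 q23884, e3 q24806 L766752 q23885, e3 q24807 L778110 q25970, e3 q24808 L778128 q25972, e3 q24809 (flp_c L766778) q23635, e3 q24810 (flp_c L778154) q25975, e3 q24811 (flp_c L766792) q23637, e3 q24812 (flp_c L778170) q25977, e3 q24813 (flp_c L773311) q25586, e3 q24814 L766822 q23700, e3 q24815 L778196 q25980, e3 q24816 L766850 q24253, e3 q24817 L766861 q23737, e3 q24818 L778232 q25983, e3 q24819 L778254 q25985, e3 q24820 (flp_c L766893) q23645, e3 q24821 (flp_c L778290) q25988, e3 q24822 L766915 q23671, e3 q24823 L766927 q23908, e3 q24824 L778314 q25991, e3 q24825 L778327 q25993, e3 q24826 (flp_c L766946) q23650, e3 q24827 (flp_c L778353) q25996, e3 q24828 L778365 q25998, e3 q24829 (flp_c L766968) q23652, e3 q24830 (flp_c L778393) q26001, e3 q24831 (flp_c L778286) q25987, trivial⟩ (by decide +kernel)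

theorem ce_c_388 : ∀ r, r < 64 → sm gc (Qf (24832 + r)) = Qf (tab Gen.c (24832 + r)) :=
  edges_tab (sm gc) Qf (tab Gen.c) 24832 [(24832, 23654), (24833, 26005), (24834, 25594), (24835, 26007), (24836, 23657), (24837, 26009), (24838, 25591), (24839, 23659), (24840, 25593), (24841, 25918), (24842, 24189), (24843, 23666), (24844, 26013), (24845, 23668), (24846, 25890), (24847, 26012), (24848, 23960), (24849, 26017), (24850, 23963), (24851, 25669), (24852, 25670), (24853, 23808), (24854, 24151), (24855, 24152), (24856, 23684), (24857, 26022), (24858, 23686), (24859, 26025), (24860, 23688), (24861, 26026), (24862, 26027), (24863, 23743), (24864, 23692), (24865, 26030), (24866, 23695), (24867, 23696), (24868, 26033), (24869, 26029), (24870, 24164), (24871, 26036), (24872, 26037), (24873, 23824), (24874, 26040), (24875, 23704), (24876, 24237), (24877, 26044), (24878, 26045), (24879, 23708), (24880, 23709), (24881, 26049), (24882, 25621), (24883, 24140), (24884, 26051), (24885, 26052), (24886, 23715), (24887, 23716), (24888, 23717),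 (24889, 26057), (24890, 25635), (24891, 23719), (24892, 23720), (24893, 23721), (24894, 26059), (24895, 26063)]
    ⟨e3 q24832 L766986 q23654, e3 q24833 (flp_c L778415) q26005, e3 q24834 (flp_c L773417) q25594, e3 q24835 L778425 q26007, e3 q24836 (flp_c L767014) q23657, e3 q24837 (flp_c L778445) q26009, e3 q24838 (flp_c L773391) q25591, e3 q24839 L767042 q23659, e3 q24840 (flp_c L773405) q25593, e3 q24841 (flp_c L777575) q25918, e3 q24842 L767065 q24189, e3 q24843 L767078 q23666, e3 q24844 (flp_c L778477) q26013, e3 q24845 L767102 q23668, e3 q24846 (flp_c L777269) q25890, e3 q24847 (flp_c L778469) q26012, e3 q24848 L767123 q23960, e3 q24849 L778509 q26017, e3 q24850 L767140 q23963, e3 q24851 (flp_c L774439) q25669, e3 q24852 (flp_c L774448) q25670, e3 q24853 L767176 q23808, e3 q24854 L767191 q24151, e3 q24855 L767198 q24152, e3 q24856 (flp_c L767206) q23684, e3 q24857 (flp_c L778576) q26022, e3 q24858 L767233 q23686, e3 q24859 (flp_c L778607) q26025, e3 q24860 L767250 q23688, e3 q24861 L778614 q26026, e3 q24862 L778624 q26027,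 e3 q24863 L767290 q23743, e3 q24864 (flp_c L767299) q23692, e3 q24865 L778664 q26030, e3 q24866 (flp_c L767321) q23695, e3 q24867 (flp_c L767333) q23696, e3 q24868 (flp_c L778700) q26033, e3 q24869 (flp_c L778662) q26029, e3 q24870 L767367 q24164, e3 q24871 L778728 q26036, e3 q24872 L778738 q26037, e3 q24873 L767396 q23824, e3 q24874 L778769 q26040, e3 q24875 (flp_c L767410) q23704, e3 q24876 L767426 q24237, e3 q24877 L778808 q26044, e3 q24878 L778822 q26045, e3 q24879 (flp_c L767457) q23708, e3 q24880 (flp_c L767469) q23709, e3 q24881 (flp_c L778868) q26049, e3 q24882 (flp_c L773809) q25621, e3 q24883 L767503 q24140, e3 q24884 L778888 q26051, e3 q24885 L778904 q26052, e3 q24886 (flp_c L767538) q23715, e3 q24887 (flp_c L767546) q23716, e3 q24888 (flp_c L767562) q23717, e3 q24889 (flp_c L778957) q26057, e3 q24890 (flp_c L773995) q25635, e3 q24891 (flp_c L767584) q23719, e3 q24892 (flp_c L767600) q23720, e3 q24893 (flp_c L767616) q23721, e3 q24894 (flp_c L778985) q26059, e3 q24895 L779031 q26063, trivial⟩ (by decide +kernel)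

theorem ce_c_389 : ∀ r, r < 64 → sm gc (Qf (24896 + r)) = Qf (tab Gen.c (24896 + r)) :=
  edges_tab (sm gc) Qf (tab Gen.c) 24896 [(24896, 23724), (24897, 26066), (24898, 25651), (24899, 23726), (24900, 25653), (24901, 25774), (24902, 26069), (24903, 23973), (24904, 25814), (24905, 26072), (24906, 23736), (24907, 26074), (24908, 26075), (24909, 25821), (24910, 23740), (24911, 26078), (24912, 23742), (24913, 26081), (24914, 23787), (24915, 24113), (24916, 26084), (24917, 23750), (24918, 26086), (24919, 24184), (24920, 26089), (24921, 23751), (24922, 23899), (24923, 26093), (24924, 24351), (24925, 26095), (24926, 23756), (24927, 23757), (24928, 26099), (24929, 26073), (24930, 26101), (24931, 23760), (24932, 26103), (24933, 23763), (24934, 23766), (24935, 26106), (24936, 26107), (24937, 23767), (24938, 25765), (24939, 26111), (24940, 23773), (24941, 26113), (24942, 23772), (24943, 26116), (24944, 23774), (24945, 26119), (24946, 26077), (24947, 23777), (24948, 26122), (24949, 23778), (24950, 25731), (24951, 26125), (24952, 26127),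 (24953, 23782), (24954, 23783), (24955, 26130), (24956, 26123), (24957, 26065), (24958, 23786), (24959, 26082)]
    ⟨e3 q24896 (flp_c L767654) q23724, e3 q24897 (flp_c L779063) q26066, e3 q24898 (flp_c L774196) q25651, e3 q24899 L767674 q23726, e3 q24900 (flp_c L774210) q25653, e3 q24901 (flp_c L775807) q25774, e3 q24902 (flp_c L779085) q26069, e3 q24903 L767708 q23973, e3 q24904 (flp_c L776263) q25814, e3 q24905 L779114 q26072, e3 q24906 (flp_c L767738) q23736, e3 q24907 L779138 q26074, e3 q24908 L779146 q26075, e3 q24909 (flp_c L776357) q25821, e3 q24910 (flp_c L767773) q23740, e3 q24911 L779170 q26078, e3 q24912 (flp_c L767787) q23742, e3 q24913 (flp_c L779199) q26081, e3 q24914 L767803 q23787, e3 q24915 L767811 q24113, e3 q24916 L779221 q26084, e3 q24917 L767838 q23750, e3 q24918 L779247 q26086, e3 q24919 L767863 q24184, e3 q24920 L779286 q26089, e3 q24921 (flp_c L767879) q23751, e3 q24922 L767895 q23899, e3 q24923 L779325 q26093, e3 q24924 L767924 q24351, e3 q24925 L779349 q26095, e3 q24926 (flp_c L767942) q23756, e3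 q24927 (flp_c L767954) q23757, e3 q24928 (flp_c L779395) q26099, e3 q24929 (flp_c L779136) q26073, e3 q24930 L779413 q26101, e3 q24931 (flp_c L767994) q23760, e3 q24932 (flp_c L779438) q26103, e3 q24933 L768022 q23763, e3 q24934 L768035 q23766, e3 q24935 L779471 q26106, e3 q24936 L779485 q26107, e3 q24937 (flp_c L768066) q23767, e3 q24938 (flp_c L775699) q25765, e3 q24939 L779520 q26111, e3 q24940 L768107 q23773, e3 q24941 L779542 q26113, e3 q24942 (flp_c L768127) q23772, e3 q24943 L779580 q26116, e3 q24944 (flp_c L768145) q23774, e3 q24945 (flp_c L779604) q26119, e3 q24946 (flp_c L779168) q26077, e3 q24947 L768169 q23777, e3 q24948 L779628 q26122, e3 q24949 (flp_c L768195) q23778, e3 q24950 (flp_c L775276) q25731, e3 q24951 L779666 q26125, e3 q24952 L779683 q26127, e3 q24953 (flp_c L768242) q23782, e3 q24954 (flp_c L768252) q23783, e3 q24955 (flp_c L779717) q26130, e3 q24956 (flp_c L779650) q26123, e3 q24957 (flp_c L779059) q26065, e3 q24958 L768290 q23786, e3 q24959 (flp_c L779205) q26082, trivial⟩ (by decide +kernel)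

theorem ce_c_390 : ∀ r, r < 64 → sm gc (Qf (24960 + r)) = Qf (tab Gen.c (24960 + r)) :=
  edges_tab (sm gc) Qf (tab Gen.c) 24960 [(24960, 26135), (24961, 23789), (24962, 26137), (24963, 23791), (24964, 26138), (24965, 23793), (24966, 23795), (24967, 26134), (24968, 23798), (24969, 26143), (24970, 25920), (24971, 24395), (24972, 26145), (24973, 25709), (24974, 23810), (24975, 26148), (24976, 24313), (24977, 26150), (24978, 23811), (24979, 25718), (24980, 26154), (24981, 23849), (24982, 25614), (24983, 26158), (24984, 23817), (24985, 26160), (24986, 23843), (24987, 23844), (24988, 26164), (24989, 23825), (24990, 26166), (24991, 23823), (24992, 26169), (24993, 26039), (24994, 26172), (24995, 23826), (24996, 26175), (24997, 25730), (24998, 26177), (24999, 24080), (25000, 26179), (25001, 23831), (25002, 26182), (25003, 23837), (25004, 26184), (25005, 23835), (25006, 24294), (25007, 26187), (25008, 23838), (25009, 26190), (25010, 25743), (25011, 26192), (25012, 23841), (25013, 24292), (25014, 26195), (25015, 26196), (25016, 23845),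 (25017, 26198), (25018, 23847), (25019, 26200), (25020, 26193), (25021, 26202), (25022, 23850), (25023, 26205)]
    ⟨e3 q24960 L779751 q26135, e3 q24961 (flp_c L768310) q23789, e3 q24962 (flp_c L779778) q26137, e3 q24963 (flp_c L768336) q23791, e3 q24964 (flp_c L779791) q26138, e3 q24965 L768357 q23793, e3 q24966 L768369 q23795, e3 q24967 (flp_c L779749) q26134, e3 q24968 L768384 q23798, e3 q24969 (flp_c L779836) q26143, e3 q24970 (flp_c L777602) q25920, e3 q24971 L768415 q24395, e3 q24972 L779852 q26145, e3 q24973 (flp_c L775008) q25709, e3 q24974 L768452 q23810, e3 q24975 L779892 q26148, e3 q24976 L768471 q24313, e3 q24977 L779910 q26150, e3 q24978 (flp_c L768486) q23811, e3 q24979 (flp_c L775138) q25718, e3 q24980 L779943 q26154, e3 q24981 L768523 q23849, e3 q24982 (flp_c L773713) q25614, e3 q24983 L779994 q26158, e3 q24984 (flp_c L768550) q23817, e3 q24985 (flp_c L780008) q26160, e3 q24986 L768571 q23843, e3 q24987 L768587 q23844, e3 q24988 L780049 q26164, e3 q24989 L768611 q23825, e3 q24990 L780069 q26166, e3 q24991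 (flp_c L768624) q23823, e3 q24992 (flp_c L780086) q26169, e3 q24993 (flp_c L778762) q26039, e3 q24994 L780103 q26172, e3 q24995 (flp_c L768653) q23826, e3 q24996 (flp_c L780132) q26175, e3 q24997 (flp_c L775268) q25730, e3 q24998 L780142 q26177, e3 q24999 L768686 q24080, e3 q25000 L780168 q26179, e3 q25001 (flp_c L768703) q23831, e3 q25002 L780191 q26182, e3 q25003 L768731 q23837, e3 q25004 L780219 q26184, e3 q25005 (flp_c L768755) q23835, e3 q25006 L768773 q24294, e3 q25007 L780255 q26187, e3 q25008 (flp_c L768789) q23838, e3 q25009 (flp_c L780279) q26190, e3 q25010 (flp_c L775429) q25743, e3 q25011 L780291 q26192, e3 q25012 (flp_c L768825) q23841, e3 q25013 L768839 q24292, e3 q25014 L780327 q26195, e3 q25015 L780337 q26196, e3 q25016 (flp_c L768873) q23845, e3 q25017 L780361 q26198, e3 q25018 (flp_c L768897) q23847, e3 q25019 (flp_c L780385) q26200, e3 q25020 (flp_c L780311) q26193, e3 q25021 L780405 q26202, e3 q25022 (flp_c L768935) q23850, e3 q25023 (flp_c L780433) q26205, trivial⟩ (by decide +kernel)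

theorem ce_c_391 : ∀ r, r < 64 → sm gc (Qf (25024 + r)) = Qf (tab Gen.c (25024 + r)) :=
  edges_tab (sm gc) Qf (tab Gen.c) 25024 [(25024, 25758), (25025, 23852), (25026, 25760), (25027, 24141), (25028, 26209), (25029, 23857), (25030, 26212), (25031, 23939), (25032, 23859), (25033, 23863), (25034, 26216), (25035, 23865), (25036, 23940), (25037, 26208), (25038, 26220), (25039, 26221), (25040, 23875), (25041, 26223), (25042, 23873), (25043, 26226), (25044, 24260), (25045, 26228), (25046, 23876), (25047, 26231), (25048, 25769), (25049, 26233), (25050, 26234), (25051, 23881), (25052, 25874), (25053, 25967), (25054, 26239), (25055, 26241), (25056, 23886), (25057, 23892), (25058, 26244), (25059, 23889), (25060, 26247), (25061, 26236), (25062, 23891), (25063, 26250), (25064, 23893), (25065, 26253), (25066, 25782), (25067, 23895), (25068, 25784), (25069, 23897), (25070, 25939), (25071, 26260), (25072, 23900), (25073, 26263), (25074, 23902), (25075, 26265), (25076, 23917), (25077, 23904), (25078, 24020), (25079, 25597), (25080, 26270),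 (25081, 26272), (25082, 23909), (25083, 26275), (25084, 23910), (25085, 26278), (25086, 26262), (25087, 23912)]
    ⟨e3 q25024 (flp_c L775618) q25758, e3 q25025 L768959 q23852, e3 q25026 (flp_c L775628) q25760, e3 q25027 (flp_c L768984) q24141, e3 q25028 L780461 q26209, e3 q25029 (flp_c L768998) q23857, e3 q25030 (flp_c L780502) q26212, e3 q25031 L769026 q23939, e3 q25032 L769030 q23859, e3 q25033 (flp_c L769039) q23863, e3 q25034 (flp_c L780542) q26216, e3 q25035 L769065 q23865, e3 q25036 L769078 q23940, e3 q25037 (flp_c L780457) q26208, e3 q25038 L780582 q26220, e3 q25039 L780594 q26221, e3 q25040 L769127 q23875, e3 q25041 L780618 q26223, e3 q25042 (flp_c L769142) q23873, e3 q25043 (flp_c L780643) q26226, e3 q25044 L769172 q24260, e3 q25045 L780671 q26228, e3 q25046 (flp_c L769189) q23876, e3 q25047 (flp_c L780690) q26231, e3 q25048 (flp_c L775745) q25769, e3 q25049 L780700 q26233, e3 q25050 L780712 q26234, e3 q25051 (flp_c L769228) q23881, e3 q25052 (flp_c L777055) q25874, e3 q25053 (flp_c L778077) q25967, e3 q25054 L780762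 q26239, e3 q25055 L780777 q26241, e3 q25056 (flp_c L769280) q23886, e3 q25057 L769290 q23892, e3 q25058 L780805 q26244, e3 q25059 (flp_c L769304) q23889, e3 q25060 (flp_c L780827) q26247, e3 q25061 (flp_c L780732) q26236, e3 q25062 L769328 q23891, e3 q25063 L780847 q26250, e3 q25064 (flp_c L769342) q23893, e3 q25065 (flp_c L780869) q26253, e3 q25066 (flp_c L775909) q25782, e3 q25067 L769360 q23895, e3 q25068 (flp_c L775923) q25784, e3 q25069 (flp_c L769368) q23897, e3 q25070 (flp_c L777804) q25939, e3 q25071 L780913 q26260, e3 q25072 (flp_c L769393) q23900, e3 q25073 L780938 q26263, e3 q25074 (flp_c L769413) q23902, e3 q25075 (flp_c L780958) q26265, e3 q25076 L769427 q23917, e3 q25077 L769431 q23904, e3 q25078 L769443 q24020, e3 q25079 (flp_c L773461) q25597, e3 q25080 L780996 q26270, e3 q25081 L781011 q26272, e3 q25082 (flp_c L769473) q23909, e3 q25083 (flp_c L781030) q26275, e3 q25084 (flp_c L769484) q23910, e3 q25085 (flp_c L781055) q26278, e3 q25086 (flp_c L780936) q26262, e3 q25087 L769514 q23912, trivial⟩ (by decide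 +kernel)

theorem ce_c_392 : ∀ r, r < 64 → sm gc (Qf (25088 + r)) = Qf (tab Gen.c (25088 + r)) :=
  edges_tab (sm gc) Qf (tab Gen.c) 25088 [(25088, 26282), (25089, 26283), (25090, 23914), (25091, 26286), (25092, 26264), (25093, 23916), (25094, 26291), (25095, 26266), (25096, 26267), (25097, 23919), (25098, 23920), (25099, 26295), (25100, 25809), (25101, 23922), (25102, 25811), (25103, 25812), (25104, 23948), (25105, 25763), (25106, 26211), (25107, 23928), (25108, 26303), (25109, 23930), (25110, 23931), (25111, 26306), (25112, 24390), (25113, 23933), (25114, 26171), (25115, 24023), (25116, 25816), (25117, 26257), (25118, 26214), (25119, 24143), (25120, 26290), (25121, 23944), (25122, 26298), (25123, 24033), (25124, 26318), (25125, 26301), (25126, 24139), (25127, 23952), (25128, 24047), (25129, 24391), (25130, 25665), (25131, 23955), (25132, 24049), (25133, 26323), (25134, 25815), (25135, 24185), (25136, 26016), (25137, 26329), (25138, 23962), (25139, 26331), (25140, 26019), (25141, 23965), (25142, 26281), (25143, 23967), (25144,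 23970), (25145, 26334), (25146, 23972), (25147, 26322), (25148, 23975), (25149, 24179), (25150, 23977), (25151, 23978)]
    ⟨e3 q25088 (flp_c L781093) q26282, e3 q25089 L781097 q26283, e3 q25090 (flp_c L769536) q23914, e3 q25091 (flp_c L781121) q26286, e3 q25092 (flp_c L780954) q26264, e3 q25093 L769558 q23916, e3 q25094 (flp_c L781155) q26291, e3 q25095 (flp_c L780962) q26266, e3 q25096 (flp_c L780970) q26267, e3 q25097 L769590 q23919, e3 q25098 (flp_c L769596) q23920, e3 q25099 (flp_c L781191) q26295, e3 q25100 (flp_c L776229) q25809, e3 q25101 L769620 q23922, e3 q25102 (flp_c L776239) q25811, e3 q25103 (flp_c L776247) q25812, e3 q25104 L769634 q23948, e3 q25105 (flp_c L775670) q25763, e3 q25106 (flp_c L780498) q26211, e3 q25107 (flp_c L769655) q23928, e3 q25108 (flp_c L781244) q26303, e3 q25109 L769672 q23930, e3 q25110 (flp_c L769681) q23931, e3 q25111 (flp_c L781275) q26306, e3 q25112 L769709 q24390, e3 q25113 L769713 q23933, e3 q25114 (flp_c L780096) q26171, e3 q25115 L769726 q24023, e3 q25116 (flp_c L776294) q25816,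 e3 q25117 (flp_c L780895) q26257, e3 q25118 (flp_c L780519) q26214, e3 q25119 L769759 q24143, e3 q25120 (flp_c L781145) q26290, e3 q25121 L769776 q23944, e3 q25122 (flp_c L781217) q26298, e3 q25123 L769798 q24033, e3 q25124 L781388 q26318, e3 q25125 (flp_c L781229) q26301, e3 q25126 L769818 q24139, e3 q25127 L769831 q23952, e3 q25128 L769840 q24047, e3 q25129 L769855 q24391, e3 q25130 (flp_c L774372) q25665, e3 q25131 L769870 q23955, e3 q25132 L769882 q24049, e3 q25133 (flp_c L781435) q26323, e3 q25134 (flp_c L776281) q25815, e3 q25135 L769917 q24185, e3 q25136 (flp_c L778500) q26016, e3 q25137 L781489 q26329, e3 q25138 (flp_c L769941) q23962, e3 q25139 (flp_c L781514) q26331, e3 q25140 (flp_c L778538) q26019, e3 q25141 L769966 q23965, e3 q25142 (flp_c L781085) q26281, e3 q25143 L769990 q23967, e3 q25144 (flp_c L769997) q23970, e3 q25145 (flp_c L781549) q26334, e3 q25146 L770025 q23972, e3 q25147 (flp_c L781426) q26322, e3 q25148 (flp_c L770038) q23975, e3 q25149 L770060 q24179, e3 q25150 (flp_c L770062) q23977, e3 q25151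 (flp_c L770076) q23978, trivial⟩ (by decide +kernel)

theorem ce_c_393 : ∀ r, r < 64 → sm gc (Qf (25152 + r)) = Qf (tab Gen.c (25152 + r)) :=
  edges_tab (sm gc) Qf (tab Gen.c) 25152 [(25152, 26338), (25153, 24204), (25154, 23981), (25155, 23982), (25156, 24214), (25157, 26345), (25158, 23985), (25159, 26348), (25160, 23987), (25161, 26351), (25162, 23989), (25163, 26354), (25164, 26347), (25165, 23991), (25166, 24233), (25167, 24234), (25168, 25846), (25169, 24198), (25170, 26358), (25171, 24066), (25172, 23999), (25173, 24000), (25174, 24245), (25175, 24259), (25176, 26364), (25177, 24004), (25178, 26366), (25179, 26365), (25180, 24007), (25181, 24270), (25182, 24010), (25183, 24041), (25184, 26371), (25185, 24013), (25186, 26374), (25187, 26061), (25188, 25611), (25189, 26307), (25190, 26378), (25191, 24057), (25192, 26381), (25193, 24021), (25194, 26384), (25195, 26310), (25196, 24187), (25197, 26388), (25198, 26390), (25199, 24027), (25200, 26393), (25201, 24383), (25202, 24029), (25203, 26369), (25204, 26398), (25205,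 24032), (25206, 26401), (25207, 24385), (25208, 26403), (25209, 24035), (25210, 26406), (25211, 24036), (25212, 26409), (25213, 26400), (25214, 24038), (25215, 26412)]
    ⟨e3 q25152 (flp_c L781606) q26338, e3 q25153 L770106 q24204, e3 q25154 (flp_c L770108) q23981, e3 q25155 (flp_c L770118) q23982, e3 q25156 L770138 q24214, e3 q25157 L781676 q26345, e3 q25158 (flp_c L770152) q23985, e3 q25159 L781714 q26348, e3 q25160 (flp_c L770176) q23987, e3 q25161 L781755 q26351, e3 q25162 (flp_c L770200) q23989, e3 q25163 (flp_c L781793) q26354, e3 q25164 (flp_c L781712) q26347, e3 q25165 (flp_c L770222) q23991, e3 q25166 L770240 q24233, e3 q25167 L770244 q24234, e3 q25168 (flp_c L776725) q25846, e3 q25169 L770259 q24198, e3 q25170 L781825 q26358, e3 q25171 L770280 q24066, e3 q25172 (flp_c L770287) q23999, e3 q25173 (flp_c L770301) q24000, e3 q25174 L770323 q24245, e3 q25175 L770333 q24259, e3 q25176 L781899 q26364, e3 q25177 (flp_c L770347) q24004, e3 q25178 (flp_c L781921) q26366, e3 q25179 (flp_c L781917) q26365, e3 q25180 L770369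 q24007, e3 q25181 L770375 q24270, e3 q25182 (flp_c L770383) q24010, e3 q25183 L770403 q24041, e3 q25184 L781961 q26371, e3 q25185 (flp_c L770411) q24013, e3 q25186 (flp_c L781984) q26374, e3 q25187 (flp_c L779017) q26061, e3 q25188 (flp_c L773673) q25611, e3 q25189 (flp_c L781285) q26307, e3 q25190 L782022 q26378, e3 q25191 L770472 q24057, e3 q25192 L782057 q26381, e3 q25193 (flp_c L770486) q24021, e3 q25194 L782076 q26384, e3 q25195 (flp_c L781318) q26310, e3 q25196 L770512 q24187, e3 q25197 L782112 q26388, e3 q25198 L782136 q26390, e3 q25199 (flp_c L770539) q24027, e3 q25200 (flp_c L782168) q26393, e3 q25201 L770559 q24383, e3 q25202 (flp_c L770567) q24029, e3 q25203 (flp_c L781949) q26369, e3 q25204 L782214 q26398, e3 q25205 (flp_c L770595) q24032, e3 q25206 (flp_c L782238) q26401, e3 q25207 L770611 q24385, e3 q25208 L782250 q26403, e3 q25209 (flp_c L770629) q24035, e3 q25210 (flp_c L782283) q26406, e3 q25211 (flp_c L770649) q24036, e3 q25212 (flp_c L782307) q26409, e3 q25213 (flp_c L782234) q26400, e3 q25214 L770671 q24038,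 e3 q25215 (flp_c L782327) q26412, trivial⟩ (by decide +kernel)

theorem ce_c_394 : ∀ r, r < 64 → sm gc (Qf (25216 + r)) = Qf (tab Gen.c (25216 + r)) :=
  edges_tab (sm gc) Qf (tab Gen.c) 25216 [(25216, 24240), (25217, 26370), (25218, 24293), (25219, 24272), (25220, 24384), (25221, 26321), (25222, 24058), (25223, 24389), (25224, 24398), (25225, 24400), (25226, 24396), (25227, 24053), (25228, 26416), (25229, 24055), (25230, 26415), (25231, 26380), (25232, 26418), (25233, 24063), (25234, 26420), (25235, 26421), (25236, 24065), (25237, 26424), (25238, 24302), (25239, 24318), (25240, 26427), (25241, 24153), (25242, 24071), (25243, 25715), (25244, 26432), (25245, 24236), (25246, 24319), (25247, 26435), (25248, 24077), (25249, 26438), (25250, 24310), (25251, 26440), (25252, 26442), (25253, 24082), (25254, 26444), (25255, 26445), (25256, 26446), (25257, 24086), (25258, 26449), (25259, 24087), (25260, 26443), (25261, 24089), (25262, 24090), (25263, 24330), (25264, 24331), (25265, 26455), (25266, 24094), (25267, 26458), (25268, 24154),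 (25269, 24096), (25270, 26461), (25271, 24342), (25272, 26463), (25273, 24099), (25274, 26466), (25275, 24199), (25276, 26468), (25277, 26470), (25278, 24104), (25279, 26473)]
    ⟨e3 q25216 L770687 q24240, e3 q25217 (flp_c L781953) q26370, e3 q25218 L770701 q24293, e3 q25219 L770711 q24272, e3 q25220 L770722 q24384, e3 q25221 (flp_c L781410) q26321, e3 q25222 L770744 q24058, e3 q25223 L770758 q24389, e3 q25224 L770769 q24398, e3 q25225 L770781 q24400, e3 q25226 L770793 q24396, e3 q25227 (flp_c L770798) q24053, e3 q25228 (flp_c L782366) q26416, e3 q25229 L770815 q24055, e3 q25230 (flp_c L782356) q26415, e3 q25231 (flp_c L782050) q26380, e3 q25232 L782381 q26418, e3 q25233 (flp_c L770847) q24063, e3 q25234 (flp_c L782405) q26420, e3 q25235 L782414 q26421, e3 q25236 (flp_c L770877) q24065, e3 q25237 (flp_c L782443) q26424, e3 q25238 L770905 q24302, e3 q25239 L770909 q24318, e3 q25240 L782467 q26427, e3 q25241 L770922 q24153, e3 q25242 (flp_c L770929) q24071, e3 q25243 (flp_c L775097) q25715, e3 q25244 L782511 q26432, e3 q25245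 L770960 q24236, e3 q25246 L770969 q24319, e3 q25247 L782541 q26435, e3 q25248 (flp_c L770986) q24077, e3 q25249 (flp_c L782570) q26438, e3 q25250 L771014 q24310, e3 q25251 L782588 q26440, e3 q25252 L782599 q26442, e3 q25253 (flp_c L771036) q24082, e3 q25254 (flp_c L782623) q26444, e3 q25255 L782627 q26445, e3 q25256 L782637 q26446, e3 q25257 (flp_c L771064) q24086, e3 q25258 (flp_c L782656) q26449, e3 q25259 (flp_c L771073) q24087, e3 q25260 (flp_c L782619) q26443, e3 q25261 L771091 q24089, e3 q25262 (flp_c L771095) q24090, e3 q25263 L771115 q24330, e3 q25264 L771119 q24331, e3 q25265 L782704 q26455, e3 q25266 (flp_c L771127) q24094, e3 q25267 (flp_c L782721) q26458, e3 q25268 L771141 q24154, e3 q25269 (flp_c L771146) q24096, e3 q25270 (flp_c L782739) q26461, e3 q25271 L771159 q24342, e3 q25272 L782747 q26463, e3 q25273 (flp_c L771171) q24099, e3 q25274 (flp_c L782777) q26466, e3 q25275 L771187 q24199, e3 q25276 L782793 q26468, e3 q25277 L782810 q26470, e3 q25278 (flp_c L771210) q24104, e3 q25279 (flp_c L782832) q26473, trivial⟩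 (by decide +kernel)

theorem ce_c_395 : ∀ r, r < 64 → sm gc (Qf (25280 + r)) = Qf (tab Gen.c (25280 + r)) :=
  edges_tab (sm gc) Qf (tab Gen.c) 25280 [(25280, 24105), (25281, 26476), (25282, 26465), (25283, 24107), (25284, 26479), (25285, 25822), (25286, 24354), (25287, 24355), (25288, 26482), (25289, 24112), (25290, 26485), (25291, 26487), (25292, 24115), (25293, 26490), (25294, 26491), (25295, 24117), (25296, 26493), (25297, 24130), (25298, 24119), (25299, 26496), (25300, 26498), (25301, 24122), (25302, 26501), (25303, 24123), (25304, 26503), (25305, 26489), (25306, 24125), (25307, 26507), (25308, 26508), (25309, 24127), (25310, 26511), (25311, 26492), (25312, 24129), (25313, 26494), (25314, 26495), (25315, 24132), (25316, 24133), (25317, 24379), (25318, 24380), (25319, 25656), (25320, 26313), (25321, 25662), (25322, 25680), (25323, 25671), (25324, 25672), (25325, 25666), (25326, 26021), (25327, 26429), (25328, 24155), (25329, 24156), (25330, 24157), (25331, 26524), (25332, 24195), (25333, 26339), (25334, 25677), (25335,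 26528), (25336, 24165), (25337, 26531), (25338, 24203), (25339, 26336), (25340, 25587), (25341, 24248), (25342, 26536), (25343, 26538)]
    ⟨e3 q25280 (flp_c L771224) q24105, e3 q25281 (flp_c L782858) q26476, e3 q25282 (flp_c L782773) q26465, e3 q25283 L771250 q24107, e3 q25284 (flp_c L782878) q26479, e3 q25285 (flp_c L776374) q25822, e3 q25286 L771276 q24354, e3 q25287 L771280 q24355, e3 q25288 L782898 q26482, e3 q25289 (flp_c L771296) q24112, e3 q25290 L782926 q26485, e3 q25291 L782939 q26487, e3 q25292 (flp_c L771316) q24115, e3 q25293 (flp_c L782959) q26490, e3 q25294 L782963 q26491, e3 q25295 (flp_c L771340) q24117, e3 q25296 (flp_c L782985) q26493, e3 q25297 L771356 q24130, e3 q25298 L771360 q24119, e3 q25299 L782999 q26496, e3 q25300 L783020 q26498, e3 q25301 (flp_c L771378) q24122, e3 q25302 (flp_c L783039) q26501, e3 q25303 (flp_c L771389) q24123, e3 q25304 (flp_c L783049) q26503, e3 q25305 (flp_c L782955) q26489, e3 q25306 L771405 q24125, e3 q25307 (flp_c L783071) q26507, e3 q25308 L783075 q26508, e3 q25309 (flp_c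 L771419) q24127, e3 q25310 (flp_c L783095) q26511, e3 q25311 (flp_c L782981) q26492, e3 q25312 L771439 q24129, e3 q25313 (flp_c L782989) q26494, e3 q25314 (flp_c L782997) q26495, e3 q25315 L771451 q24132, e3 q25316 (flp_c L771453) q24133, e3 q25317 L771461 q24379, e3 q25318 L771465 q24380, e3 q25319 (flp_c L774250) q25656, e3 q25320 (flp_c L781344) q26313, e3 q25321 (flp_c L774332) q25662, e3 q25322 (flp_c L774605) q25680, e3 q25323 (flp_c L774462) q25671, e3 q25324 (flp_c L774477) q25672, e3 q25325 (flp_c L774395) q25666, e3 q25326 (flp_c L778561) q26021, e3 q25327 (flp_c L782485) q26429, e3 q25328 (flp_c L771540) q24155, e3 q25329 (flp_c L771554) q24156, e3 q25330 (flp_c L771568) q24157, e3 q25331 (flp_c L783189) q26524, e3 q25332 L771584 q24195, e3 q25333 (flp_c L781620) q26339, e3 q25334 (flp_c L774558) q25677, e3 q25335 L783215 q26528, e3 q25336 (flp_c L771607) q24165, e3 q25337 (flp_c L783232) q26531, e3 q25338 L771621 q24203, e3 q25339 (flp_c L781580) q26336, e3 q25340 (flp_c L773329) q25587, e3 q25341 L771644 q24248,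 e3 q25342 L783266 q26536, e3 q25343 L783279 q26538, trivial⟩ (by decide +kernel)

theorem ce_c_396 : ∀ r, r < 64 → sm gc (Qf (25344 + r)) = Qf (tab Gen.c (25344 + r)) :=
  edges_tab (sm gc) Qf (tab Gen.c) 25344 [(25344, 24173), (25345, 26541), (25346, 24174), (25347, 26544), (25348, 25974), (25349, 24176), (25350, 26548), (25351, 24231), (25352, 24196), (25353, 26337), (25354, 25569), (25355, 25884), (25356, 26088), (25357, 26552), (25358, 24188), (25359, 26555), (25360, 26522), (25361, 24191), (25362, 26521), (25363, 25976), (25364, 24194), (25365, 26561), (25366, 26550), (25367, 24197), (25368, 26563), (25369, 25855), (25370, 26564), (25371, 24200), (25372, 26567), (25373, 26562), (25374, 24202), (25375, 26570), (25376, 26341), (25377, 24206), (25378, 26572), (25379, 24208), (25380, 26574), (25381, 26342), (25382, 24210), (25383, 26577), (25384, 26576), (25385, 24213), (25386, 26344), (25387, 24215), (25388, 26581), (25389, 24217), (25390, 26583), (25391, 24218), (25392, 24228), (25393, 24220), (25394, 26587), (25395, 24222),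 (25396, 26589), (25397, 26582), (25398, 24224), (25399, 24225), (25400, 26584), (25401, 24227), (25402, 26585), (25403, 26586), (25404, 24230), (25405, 26597), (25406, 26356), (25407, 26357)]
    ⟨e3 q25344 (flp_c L771665) q24173, e3 q25345 (flp_c L783303) q26541, e3 q25346 (flp_c L771677) q24174, e3 q25347 (flp_c L783321) q26544, e3 q25348 (flp_c L778150) q25974, e3 q25349 L771693 q24176, e3 q25350 (flp_c L783341) q26548, e3 q25351 L771703 q24231, e3 q25352 L771715 q24196, e3 q25353 (flp_c L781584) q26337, e3 q25354 (flp_c L773037) q25569, e3 q25355 (flp_c L777190) q25884, e3 q25356 (flp_c L779279) q26088, e3 q25357 L783363 q26552, e3 q25358 (flp_c L771750) q24188, e3 q25359 (flp_c L783392) q26555, e3 q25360 (flp_c L783179) q26522, e3 q25361 (flp_c L771770) q24191, e3 q25362 (flp_c L783165) q26521, e3 q25363 (flp_c L778166) q25976, e3 q25364 L771792 q24194, e3 q25365 (flp_c L783430) q26561, e3 q25366 (flp_c L783351) q26550, e3 q25367 (flp_c L771806) q24197, e3 q25368 (flp_c L783440) q26563, e3 q25369 (flp_c L776827) q25855,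 e3 q25370 L783444 q26564, e3 q25371 (flp_c L771833) q24200, e3 q25372 (flp_c L783463) q26567, e3 q25373 (flp_c L783436) q26562, e3 q25374 L771850 q24202, e3 q25375 (flp_c L783481) q26570, e3 q25376 (flp_c L781632) q26341, e3 q25377 (flp_c L771864) q24206, e3 q25378 (flp_c L783493) q26572, e3 q25379 (flp_c L771876) q24208, e3 q25380 (flp_c L783507) q26574, e3 q25381 (flp_c L781652) q26342, e3 q25382 (flp_c L771892) q24210, e3 q25383 (flp_c L783525) q26577, e3 q25384 (flp_c L783521) q26576, e3 q25385 L771912 q24213, e3 q25386 (flp_c L781666) q26344, e3 q25387 (flp_c L771922) q24215, e3 q25388 (flp_c L783547) q26581, e3 q25389 (flp_c L771932) q24217, e3 q25390 (flp_c L783557) q26583, e3 q25391 (flp_c L771944) q24218, e3 q25392 L771950 q24228, e3 q25393 L771954 q24220, e3 q25394 (flp_c L783579) q26587, e3 q25395 (flp_c L771962) q24222, e3 q25396 (flp_c L783589) q26589, e3 q25397 (flp_c L783553) q26582, e3 q25398 L771982 q24224, e3 q25399 (flp_c L771986) q24225, e3 q25400 (flp_c L783565) q26584, e3 q25401 L772000 q24227, e3 q25402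 (flp_c L783569) q26585, e3 q25403 (flp_c L783575) q26586, e3 q25404 L772016 q24230, e3 q25405 (flp_c L783635) q26597, e3 q25406 (flp_c L781811) q26356, e3 q25407 (flp_c L781815) q26357, trivial⟩ (by decide +kernel)

theorem ce_c_397 : ∀ r, r < 64 → sm gc (Qf (25408 + r)) = Qf (tab Gen.c (25408 + r)) :=
  edges_tab (sm gc) Qf (tab Gen.c) 25408 [(25408, 26599), (25409, 24238), (25410, 26396), (25411, 26413), (25412, 26360), (25413, 24242), (25414, 26361), (25415, 24278), (25416, 26362), (25417, 26607), (25418, 24247), (25419, 26610), (25420, 24249), (25421, 26613), (25422, 26350), (25423, 26615), (25424, 24252), (25425, 26618), (25426, 24254), (25427, 24255), (25428, 26622), (25429, 26617), (25430, 24257), (25431, 24284), (25432, 26363), (25433, 26626), (25434, 24261), (25435, 24262), (25436, 26630), (25437, 24268), (25438, 24264), (25439, 26633), (25440, 26628), (25441, 26629), (25442, 24267), (25443, 26631), (25444, 24291), (25445, 25735), (25446, 24274), (25447, 26638), (25448, 26055), (25449, 26060), (25450, 26606), (25451,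 24279), (25452, 24280), (25453, 26643), (25454, 26624), (25455, 24282), (25456, 26645), (25457, 26625), (25458, 24285), (25459, 24286), (25460, 24290), (25461, 24288), (25462, 26648), (25463, 26649), (25464, 26652), (25465, 26386), (25466, 26654), (25467, 24295), (25468, 26657), (25469, 24297), (25470, 26659), (25471, 24299)]
    ⟨e3 q25408 L783643 q26599, e3 q25409 (flp_c L772040) q24238, e3 q25410 (flp_c L782204) q26396, e3 q25411 (flp_c L782333) q26413, e3 q25412 (flp_c L781859) q26360, e3 q25413 (flp_c L772066) q24242, e3 q25414 (flp_c L781873) q26361, e3 q25415 L772088 q24278, e3 q25416 (flp_c L781877) q26362, e3 q25417 L783700 q26607, e3 q25418 (flp_c L772100) q24247, e3 q25419 L783715 q26610, e3 q25420 (flp_c L772116) q24249, e3 q25421 (flp_c L783738) q26613, e3 q25422 (flp_c L781753) q26350, e3 q25423 L783748 q26615, e3 q25424 (flp_c L772139) q24252, e3 q25425 L783770 q26618, e3 q25426 (flp_c L772151) q24254, e3 q25427 (flp_c L772157) q24255, e3 q25428 (flp_c L783801) q26622, e3 q25429 (flp_c L783768) q26617, e3 q25430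 (flp_c L772177) q24257, e3 q25431 L772189 q24284, e3 q25432 (flp_c L781889) q26363, e3 q25433 L783827 q26626, e3 q25434 (flp_c L772209) q24261, e3 q25435 (flp_c L772219) q24262, e3 q25436 (flp_c L783868) q26630, e3 q25437 L772233 q24268, e3 q25438 (flp_c L772235) q24264, e3 q25439 (flp_c L783882) q26633, e3 q25440 (flp_c L783856) q26628, e3 q25441 (flp_c L783864) q26629, e3 q25442 L772258 q24267, e3 q25443 (flp_c L783872) q26631, e3 q25444 L772266 q24291, e3 q25445 (flp_c L775329) q25735, e3 q25446 (flp_c L772277) q24274, e3 q25447 (flp_c L783908) q26638, e3 q25448 (flp_c L778945) q26055, e3 q25449 (flp_c L779001) q26060, e3 q25450 (flp_c L783694) q26606, e3 q25451 (flp_c L772305) q24279, e3 q25452 (flp_c L772313) q24280, e3 q25453 (flp_c L783938) q26643, e3 q25454 (flp_c L783817) q26624, e3 q25455 (flp_c L772328) q24282, e3 q25456 (flp_c L783950) q26645, e3 q25457 (flp_c L783821) q26625, e3 q25458 (flp_c L772344) q24285, e3 q25459 (flp_c L772348) q24286, e3 q25460 L772354 q24290, e3 q25461 (flp_c L772356) q24288, e3 q25462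 (flp_c L783968) q26648, e3 q25463 (flp_c L783972) q26649, e3 q25464 L783984 q26652, e3 q25465 (flp_c L782094) q26386, e3 q25466 L784000 q26654, e3 q25467 (flp_c L772396) q24295, e3 q25468 (flp_c L784018) q26657, e3 q25469 L772406 q24297, e3 q25470 L784022 q26659, e3 q25471 (flp_c L772414) q24299, trivial⟩ (by decide +kernel)

theorem ce_c_398 : ∀ r, r < 64 → sm gc (Qf (25472 + r)) = Qf (tab Gen.c (25472 + r)) :=
  edges_tab (sm gc) Qf (tab Gen.c) 25472 [(25472, 26662), (25473, 26656), (25474, 24301), (25475, 26425), (25476, 26665), (25477, 24304), (25478, 24305), (25479, 26669), (25480, 26430), (25481, 24307), (25482, 24308), (25483, 26671), (25484, 26439), (25485, 24311), (25486, 26675), (25487, 26677), (25488, 24314), (25489, 24315), (25490, 26681), (25491, 24327), (25492, 25608), (25493, 26684), (25494, 26686), (25495, 24320), (25496, 26689), (25497, 24321), (25498, 26679), (25499, 26692), (25500, 24324), (25501, 26695), (25502, 26680), (25503, 24326), (25504, 26682), (25505, 24328), (25506, 26453), (25507, 26454), (25508,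 24334), (25509, 24399), (25510, 24337), (25511, 26702), (25512, 26280), (25513, 24339), (25514, 26705), (25515, 26460), (25516, 24341), (25517, 26462), (25518, 24343), (25519, 26710), (25520, 24348), (25521, 24376), (25522, 26709), (25523, 24347), (25524, 26715), (25525, 26711), (25526, 24368), (25527, 24350), (25528, 26719), (25529, 24352), (25530, 25937), (25531, 26481), (25532, 24356), (25533, 26647), (25534, 24358), (25535, 26725)]
    ⟨e3 q25472 (flp_c L784042) q26662, e3 q25473 (flp_c L784014) q26656, e3 q25474 L772432 q24301, e3 q25475 (flp_c L782451) q26425, e3 q25476 L784054 q26665, e3 q25477 (flp_c L772444) q24304, e3 q25478 (flp_c L772452) q24305, e3 q25479 (flp_c L784083) q26669, e3 q25480 (flp_c L782499) q26430, e3 q25481 (flp_c L772469) q24307, e3 q25482 (flp_c L772477) q24308, e3 q25483 (flp_c L784101) q26671, e3 q25484 (flp_c L782578) q26439, e3 q25485 (flp_c L772497) q24311, e3 q25486 L784121 q26675, e3 q25487 L784129 q26677, e3 q25488 (flp_c L772513) q24314, e3 q25489 (flp_c L772517) q24315, e3 q25490 (flp_c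 L784158) q26681, e3 q25491 L772535 q24327, e3 q25492 (flp_c L773627) q25608, e3 q25493 L784176 q26684, e3 q25494 L784189 q26686, e3 q25495 (flp_c L772558) q24320, e3 q25496 (flp_c L784212) q26689, e3 q25497 (flp_c L772569) q24321, e3 q25498 (flp_c L784146) q26679, e3 q25499 L784226 q26692, e3 q25500 (flp_c L772585) q24324, e3 q25501 (flp_c L784252) q26695, e3 q25502 (flp_c L784154) q26680, e3 q25503 L772611 q24326, e3 q25504 (flp_c L784164) q26682, e3 q25505 (flp_c L772621) q24328, e3 q25506 (flp_c L782690) q26453, e3 q25507 (flp_c L782694) q26454, e3 q25508 L772641 q24334, e3 q25509 L772650 q24399, e3 q25510 (flp_c L772657) q24337, e3 q25511 (flp_c L784298) q26702, e3 q25512 (flp_c L781073) q26280, e3 q25513 (flp_c L772672) q24339, e3 q25514 (flp_c L784314) q26705, e3 q25515 (flp_c L782735) q26460, e3 q25516 L772689 q24341, e3 q25517 (flp_c L782743) q26462, e3 q25518 (flp_c L772695) q24343, e3 q25519 (flp_c L784341) q26710, e3 q25520 L772723 q24348, e3 q25521 L772733 q24376, e3 q25522 (flp_c L784337) q26709, e3 q25523 L772745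 q24347, e3 q25524 (flp_c L784385) q26715, e3 q25525 (flp_c L784351) q26711, e3 q25526 L772771 q24368, e3 q25527 L772779 q24350, e3 q25528 (flp_c L784425) q26719, e3 q25529 (flp_c L772793) q24352, e3 q25530 (flp_c L777784) q25937, e3 q25531 (flp_c L782888) q26481, e3 q25532 (flp_c L772809) q24356, e3 q25533 (flp_c L783962) q26647, e3 q25534 (flp_c L772817) q24358, e3 q25535 (flp_c L784455) q26725, trivial⟩ (by decide +kernel)

theorem ce_c_399 : ∀ r, r < 64 → sm gc (Qf (25536 + r)) = Qf (tab Gen.c (25536 + r)) :=
  edges_tab (sm gc) Qf (tab Gen.c) 25536 [(25536, 24372), (25537, 24360), (25538, 24375), (25539, 26729), (25540, 24363), (25541, 26732), (25542, 24364), (25543, 26735), (25544, 26718), (25545, 24366), (25546, 26115), (25547, 26717), (25548, 24369), (25549, 26738), (25550, 26724), (25551, 24371), (25552, 26728), (25553, 26726), (25554, 26727), (25555, 24374), (25556, 26712), (25557, 25700), (25558, 26516), (25559, 26517), (25560, 24382), (25561, 26395), (25562, 26308), (25563, 25761), (25564, 26071), (25565, 25714),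 (25566, 26414), (25567, 26749), (25568, 24403), (25569, 25354), (25570, 26752), (25571, 24406), (25572, 26754), (25573, 24408), (25574, 24409), (25575, 26757), (25576, 24707), (25577, 24413), (25578, 24502), (25579, 24415), (25580, 26761), (25581, 24417), (25582, 24418), (25583, 26765), (25584, 24796), (25585, 24717), (25586, 24813), (25587, 25340), (25588, 26769), (25589, 24425), (25590, 26771), (25591, 24838), (25592, 24427), (25593, 24840), (25594, 24834), (25595, 26774), (25596, 24656), (25597, 25079), (25598, 26779), (25599, 24468)]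
    ⟨e3 q25536 L772833 q24372, e3 q25537 L772837 q24360, e3 q25538 L772841 q24375, e3 q25539 L784477 q26729, e3 q25540 (flp_c L772849) q24363, e3 q25541 (flp_c L784499) q26732, e3 q25542 (flp_c L772863) q24364, e3 q25543 (flp_c L784519) q26735, e3 q25544 (flp_c L784417) q26718, e3 q25545 L772883 q24366, e3 q25546 (flp_c L779578) q26115, e3 q25547 (flp_c L784407) q26717, e3 q25548 (flp_c L772895) q24369, e3 q25549 (flp_c L784539) q26738, e3 q25550 (flp_c L784451) q26724, e3 q25551 L772915 q24371, e3 q25552 (flp_c L784475) q26728, e3 q25553 (flp_c L784461) q26726, e3 q25554 (flp_c L784469) q26727, e3 q25555 L772935 q24374, e3 q25556 (flp_c L784361) q26712, e3 q25557 (flp_c L774888) q25700, e3 q25558 (flp_c L783121) q26516, e3 q25559 (flp_c L783125) q26517, e3 q25560 L772957 q24382, e3 q25561 (flp_c L782186) q26395, e3 q25562 (flp_c L781300) q26308, e3 q25563 (flp_c L775640) q25761, e3 q25564 (flp_c L779103) q26071, e3 q25565 (flp_c L775082) q25714, e3 q25566 (flp_c L782345) q26414, e3 q25567 L784595 q26749, e3 q25568 (flp_c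 L773015) q24403, e3 q25569 L773037 q25354, e3 q25570 L784645 q26752, e3 q25571 (flp_c L773066) q24406, e3 q25572 L784679 q26754, e3 q25573 (flp_c L773100) q24408, e3 q25574 (flp_c L773116) q24409, e3 q25575 (flp_c L784727) q26757, e3 q25576 L773150 q24707, e3 q25577 L773158 q24413, e3 q25578 L773183 q24502, e3 q25579 (flp_c L773186) q24415, e3 q25580 (flp_c L784796) q26761, e3 q25581 (flp_c L773220) q24417, e3 q25582 (flp_c L773238) q24418, e3 q25583 (flp_c L784854) q26765, e3 q25584 L773280 q24796, e3 q25585 L773288 q24717, e3 q25586 L773311 q24813, e3 q25587 L773329 q25340, e3 q25588 L784914 q26769, e3 q25589 (flp_c L773349) q24425, e3 q25590 (flp_c L784950) q26771, e3 q25591 L773391 q24838, e3 q25592 L773397 q24427, e3 q25593 L773405 q24840, e3 q25594 L773417 q24834, e3 q25595 (flp_c L784998) q26774, e3 q25596 L773447 q24656, e3 q25597 L773461 q25079, e3 q25598 L785065 q26779, e3 q25599 L773494 q24468, trivial⟩ (by decide +kernel)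

theorem ce_c_400 : ∀ r, r < 64 → sm gc (Qf (25600 + r)) = Qf (tab Gen.c (25600 + r)) :=
  edges_tab (sm gc) Qf (tab Gen.c) 25600 [(25600, 26781), (25601, 24452), (25602, 24442), (25603, 26785), (25604, 24564), (25605, 26788), (25606, 24443), (25607, 26791), (25608, 25492), (25609, 26793), (25610, 24574), (25611, 25188), (25612, 26797), (25613, 24450), (25614, 24982), (25615, 26801), (25616, 24453), (25617, 26804), (25618, 24587), (25619, 24455), (25620, 26807), (25621, 24882), (25622, 24593), (25623, 26810), (25624, 24459), (25625, 26812), (25626, 24463), (25627, 24464), (25628, 26815), (25629, 24466), (25630, 26818), (25631, 24610), (25632, 26821), (25633, 24469), (25634, 26824), (25635, 24890), (25636, 24581), (25637, 26827), (25638, 24473), (25639, 26830), (25640, 24568), (25641, 26832), (25642, 26834), (25643, 24478), (25644, 26837), (25645, 24479), (25646, 26840), (25647, 26829), (25648, 24481), (25649, 26844), (25650, 24634), (25651, 24898), (25652, 24484), (25653, 24900), (25654, 24486), (25655, 26849), (25656, 25319),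 (25657, 24642), (25658, 24490), (25659, 26852), (25660, 24492), (25661, 24494), (25662, 25321), (25663, 26848)]
    ⟨e3 q25600 L785097 q26781, e3 q25601 L773526 q24452, e3 q25602 L773543 q24442, e3 q25603 L785158 q26785, e3 q25604 L773568 q24564, e3 q25605 L785194 q26788, e3 q25606 (flp_c L773591) q24443, e3 q25607 L785233 q26791, e3 q25608 L773627 q25492, e3 q25609 L785267 q26793, e3 q25610 L773658 q24574, e3 q25611 L773673 q25188, e3 q25612 L785326 q26797, e3 q25613 (flp_c L773697) q24450, e3 q25614 L773713 q24982, e3 q25615 L785378 q26801, e3 q25616 (flp_c L773736) q24453, e3 q25617 (flp_c L785415) q26804, e3 q25618 L773766 q24587, e3 q25619 (flp_c L773775) q24455, e3 q25620 (flp_c L785453) q26807, e3 q25621 L773809 q24882, e3 q25622 L773817 q24593, e3 q25623 L785489 q26810, e3 q25624 (flp_c L773840) q24459, e3 q25625 (flp_c L785524) q26812, e3 q25626 L773874 q24463, e3 q25627 (flp_c L773883) q24464, e3 q25628 L785563 q26815, e3 q25629 (flp_c L773913) q24466, e3 q25630 (flp_c L785607) q26818, e3 q25631 L773945 q24610,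 e3 q25632 L785645 q26821, e3 q25633 (flp_c L773967) q24469, e3 q25634 (flp_c L785683) q26824, e3 q25635 L773995 q24890, e3 q25636 L774003 q24581, e3 q25637 L785717 q26827, e3 q25638 (flp_c L774029) q24473, e3 q25639 (flp_c L785765) q26830, e3 q25640 L774065 q24568, e3 q25641 L785793 q26832, e3 q25642 L785820 q26834, e3 q25643 (flp_c L774100) q24478, e3 q25644 (flp_c L785858) q26837, e3 q25645 (flp_c L774124) q24479, e3 q25646 (flp_c L785896) q26840, e3 q25647 (flp_c L785759) q26829, e3 q25648 L774158 q24481, e3 q25649 (flp_c L785936) q26844, e3 q25650 L774178 q24634, e3 q25651 L774196 q24898, e3 q25652 L774202 q24484, e3 q25653 L774210 q24900, e3 q25654 (flp_c L774218) q24486, e3 q25655 (flp_c L785992) q26849, e3 q25656 L774250 q25319, e3 q25657 L774265 q24642, e3 q25658 (flp_c L774272) q24490, e3 q25659 (flp_c L786038) q26852, e3 q25660 L774303 q24492, e3 q25661 L774317 q24494, e3 q25662 L774332 q25321, e3 q25663 (flp_c L785984) q26848, trivial⟩ (by decide +kernel)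

theorem ce_c_401 : ∀ r, r < 64 → sm gc (Qf (25664 + r)) = Qf (tab Gen.c (25664 + r)) :=
  edges_tab (sm gc) Qf (tab Gen.c) 25664 [(25664, 24499), (25665, 25130), (25666, 25325), (25667, 26760), (25668, 24655), (25669, 24851), (25670, 24852), (25671, 25323), (25672, 25324), (25673, 26861), (25674, 24512), (25675, 24516), (25676, 24765), (25677, 25334), (25678, 26865), (25679, 26866), (25680, 25322), (25681, 24519), (25682, 26869), (25683, 24521), (25684, 26872), (25685, 24523), (25686, 26874), (25687, 24544), (25688, 26876), (25689, 24527), (25690, 24528), (25691, 26880), (25692, 24530), (25693, 26883), (25694, 24532), (25695, 26885), (25696, 26862), (25697, 26887), (25698, 24536), (25699, 26868), (25700, 25557), (25701, 24539), (25702, 26893), (25703, 24541), (25704, 26896), (25705, 26873), (25706, 24543), (25707, 26875), (25708, 24607), (25709, 24973), (25710, 26851), (25711, 24572), (25712, 24555), (25713, 26903), (25714, 25565), (25715, 25243), (25716, 26907), (25717, 24556), (25718, 24979), (25719, 26809), (25720, 26912),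 (25721, 24560), (25722, 26914), (25723, 26916), (25724, 26918), (25725, 24563), (25726, 26921), (25727, 26787)]
    ⟨e3 q25664 L774355 q24499, e3 q25665 L774372 q25130, e3 q25666 L774395 q25325, e3 q25667 (flp_c L784771) q26760, e3 q25668 L774415 q24655, e3 q25669 L774439 q24851, e3 q25670 L774448 q24852, e3 q25671 L774462 q25323, e3 q25672 L774477 q25324, e3 q25673 L786159 q26861, e3 q25674 (flp_c L774502) q24512, e3 q25675 L774524 q24516, e3 q25676 L774549 q24765, e3 q25677 L774558 q25334, e3 q25678 L786225 q26865, e3 q25679 L786239 q26866, e3 q25680 L774605 q25322, e3 q25681 (flp_c L774614) q24519, e3 q25682 L786281 q26869, e3 q25683 (flp_c L774642) q24521, e3 q25684 (flp_c L786330) q26872, e3 q25685 (flp_c L774668) q24523, e3 q25686 (flp_c L786360) q26874, e3 q25687 L774708 q24544, e3 q25688 L786384 q26876, e3 q25689 (flp_c L774726) q24527, e3 q25690 (flp_c L774740) q24528, e3 q25691 L786443 q26880, e3 q25692 (flp_c L774770) q24530, e3 q25693 (flp_c L786494) q26883, e3 q25694 (flp_c L774800) q24532, e3 q25695 (flp_c L786524)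 q26885, e3 q25696 (flp_c L786191) q26862, e3 q25697 L786546 q26887, e3 q25698 (flp_c L774850) q24536, e3 q25699 (flp_c L786279) q26868, e3 q25700 L774888 q25557, e3 q25701 L774894 q24539, e3 q25702 L786631 q26893, e3 q25703 (flp_c L774922) q24541, e3 q25704 (flp_c L786683) q26896, e3 q25705 (flp_c L786354) q26873, e3 q25706 L774966 q24543, e3 q25707 (flp_c L786376) q26875, e3 q25708 L774990 q24607, e3 q25709 L775008 q24973, e3 q25710 (flp_c L786022) q26851, e3 q25711 L775040 q24572, e3 q25712 L775057 q24555, e3 q25713 L786780 q26903, e3 q25714 L775082 q25565, e3 q25715 L775097 q25243, e3 q25716 L786832 q26907, e3 q25717 (flp_c L775122) q24556, e3 q25718 L775138 q24979, e3 q25719 (flp_c L785479) q26809, e3 q25720 L786898 q26912, e3 q25721 (flp_c L775172) q24560, e3 q25722 (flp_c L786918) q26914, e3 q25723 L786935 q26916, e3 q25724 L786958 q26918, e3 q25725 (flp_c L775211) q24563, e3 q25726 (flp_c L786991) q26921, e3 q25727 (flp_c L785186) q26787, trivial⟩ (by decide +kernel)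

theorem ce_c_402 : ∀ r, r < 64 → sm gc (Qf (25728 + r)) = Qf (tab Gen.c (25728 + r)) :=
  edges_tab (sm gc) Qf (tab Gen.c) 25728 [(25728, 24565), (25729, 26925), (25730, 24997), (25731, 24950), (25732, 26928), (25733, 24569), (25734, 26931), (25735, 25445), (25736, 26933), (25737, 24573), (25738, 26936), (25739, 26795), (25740, 26938), (25741, 24576), (25742, 26941), (25743, 25010), (25744, 26943), (25745, 24579), (25746, 26946), (25747, 26947), (25748, 26948), (25749, 24583), (25750, 26951), (25751, 24584), (25752, 26945), (25753, 24586), (25754, 26956), (25755, 26957), (25756, 24589), (25757, 26960), (25758, 25024), (25759, 24591), (25760, 25026), (25761, 25563), (25762, 24596), (25763, 25105), (25764, 26963), (25765, 24938), (25766, 26968), (25767, 24602), (25768, 26971), (25769, 25048), (25770, 26973), (25771, 24647), (25772, 24606), (25773, 26976), (25774, 24901), (25775, 26975), (25776, 24609), (25777, 26980), (25778, 26820), (25779, 26982), (25780, 24612), (25781, 26985), (25782, 25066), (25783, 24614), (25784, 25068),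 (25785, 26990), (25786, 24617), (25787, 26992), (25788, 26993), (25789, 24620), (25790, 26996), (25791, 24621)]
    ⟨e3 q25728 (flp_c L775239) q24565, e3 q25729 (flp_c L787031) q26925, e3 q25730 L775268 q24997, e3 q25731 L775276 q24950, e3 q25732 L787065 q26928, e3 q25733 (flp_c L775299) q24569, e3 q25734 L787100 q26931, e3 q25735 L775329 q25445, e3 q25736 L787130 q26933, e3 q25737 (flp_c L775352) q24573, e3 q25738 (flp_c L787171) q26936, e3 q25739 (flp_c L785301) q26795, e3 q25740 L787193 q26938, e3 q25741 (flp_c L775399) q24576, e3 q25742 (flp_c L787235) q26941, e3 q25743 L775429 q25010, e3 q25744 L787249 q26943, e3 q25745 (flp_c L775447) q24579, e3 q25746 (flp_c L787298) q26946, e3 q25747 L787308 q26947, e3 q25748 L787324 q26948, e3 q25749 (flp_c L775507) q24583, e3 q25750 (flp_c L787365) q26951, e3 q25751 (flp_c L775520) q24584, e3 q25752 (flp_c L787292) q26945, e3 q25753 L775546 q24586, e3 q25754 (flp_c L787424) q26956, e3 q25755 L787432 q26957, e3 q25756 (flp_c L775582) q24589, e3 q25757 (flp_c L787484) q26960, e3 q25758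 L775618 q25024, e3 q25759 L775622 q24591, e3 q25760 L775628 q25026, e3 q25761 L775640 q25563, e3 q25762 L775655 q24596, e3 q25763 L775670 q25105, e3 q25764 (flp_c L787520) q26963, e3 q25765 L775699 q24938, e3 q25766 L787579 q26968, e3 q25767 (flp_c L775722) q24602, e3 q25768 (flp_c L787612) q26971, e3 q25769 L775745 q25048, e3 q25770 L787628 q26973, e3 q25771 L775769 q24647, e3 q25772 (flp_c L775781) q24606, e3 q25773 (flp_c L787676) q26976, e3 q25774 L775807 q24901, e3 q25775 (flp_c L787672) q26975, e3 q25776 L775833 q24609, e3 q25777 (flp_c L787724) q26980, e3 q25778 (flp_c L785635) q26820, e3 q25779 L787746 q26982, e3 q25780 (flp_c L775877) q24612, e3 q25781 (flp_c L787792) q26985, e3 q25782 L775909 q25066, e3 q25783 L775915 q24614, e3 q25784 L775923 q25068, e3 q25785 L787850 q26990, e3 q25786 (flp_c L775943) q24617, e3 q25787 (flp_c L787882) q26992, e3 q25788 L787892 q26993, e3 q25789 (flp_c L775985) q24620, e3 q25790 (flp_c L787942) q26996, e3 q25791 (flp_c L776009) q24621, trivial⟩ (by decide +kernel)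

theorem ce_c_403 : ∀ r, r < 64 → sm gc (Qf (25792 + r)) = Qf (tab Gen.c (25792 + r)) :=
  edges_tab (sm gc) Qf (tab Gen.c) 25792 [(25792, 24631), (25793, 24623), (25794, 27000), (25795, 24625), (25796, 27002), (25797, 26995), (25798, 24627), (25799, 27005), (25800, 27007), (25801, 24629), (25802, 26997), (25803, 26998), (25804, 26999), (25805, 24633), (25806, 27012), (25807, 24635), (25808, 27014), (25809, 25100), (25810, 24637), (25811, 25102), (25812, 25103), (25813, 24649), (25814, 24904), (25815, 25134), (25816, 25116), (25817, 26989), (25818, 27021), (25819, 27019), (25820, 26777), (25821, 24909), (25822, 25285), (25823, 27023), (25824, 24663), (25825, 27025), (25826, 27026), (25827, 24733), (25828, 27028), (25829, 24668), (25830, 24781), (25831, 27031), (25832, 24671), (25833, 24672), (25834, 27034), (25835, 24674), (25836, 27036), (25837, 27024), (25838, 24686), (25839, 24681), (25840, 27040), (25841, 24774), (25842, 27043), (25843, 24682), (25844, 24683), (25845, 27047), (25846, 25168), (25847, 27049), (25848, 24687),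 (25849, 27052), (25850, 24792), (25851, 27054), (25852, 24690), (25853, 27057), (25854, 26751), (25855, 25369)]
    ⟨e3 q25792 L776033 q24631, e3 q25793 L776037 q24623, e3 q25794 (flp_c L787990) q27000, e3 q25795 (flp_c L776055) q24625, e3 q25796 (flp_c L788016) q27002, e3 q25797 (flp_c L787938) q26995, e3 q25798 L776099 q24627, e3 q25799 (flp_c L788058) q27005, e3 q25800 L788088 q27007, e3 q25801 (flp_c L776141) q24629, e3 q25802 (flp_c L787968) q26997, e3 q25803 (flp_c L787972) q26998, e3 q25804 (flp_c L787982) q26999, e3 q25805 L776185 q24633, e3 q25806 (flp_c L788152) q27012, e3 q25807 (flp_c L776205) q24635, e3 q25808 (flp_c L788172) q27014, e3 q25809 L776229 q25100, e3 q25810 L776233 q24637, e3 q25811 L776239 q25102, e3 q25812 L776247 q25103, e3 q25813 L776253 q24649, e3 q25814 L776263 q24904, e3 q25815 L776281 q25134, e3 q25816 L776294 q25116, e3 q25817 (flp_c L787844) q26989, e3 q25818 L788236 q27021, e3 q25819 (flp_c L788212) q27019, e3 q25820 (flp_c L785040) q26777, e3 q25821 L776357 q24909, e3 q25822 L776374 q25285,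 e3 q25823 L788260 q27023, e3 q25824 (flp_c L776404) q24663, e3 q25825 L788294 q27025, e3 q25826 L788312 q27026, e3 q25827 L776458 q24733, e3 q25828 L788342 q27028, e3 q25829 (flp_c L776485) q24668, e3 q25830 L776503 q24781, e3 q25831 L788388 q27031, e3 q25832 (flp_c L776532) q24671, e3 q25833 (flp_c L776546) q24672, e3 q25834 (flp_c L788434) q27034, e3 q25835 (flp_c L776576) q24674, e3 q25836 (flp_c L788464) q27036, e3 q25837 (flp_c L788292) q27024, e3 q25838 L776620 q24686, e3 q25839 L776637 q24681, e3 q25840 L788518 q27040, e3 q25841 L776660 q24774, e3 q25842 L788550 q27043, e3 q25843 (flp_c L776681) q24682, e3 q25844 (flp_c L776693) q24683, e3 q25845 L788601 q27047, e3 q25846 L776725 q25168, e3 q25847 L788635 q27049, e3 q25848 (flp_c L776750) q24687, e3 q25849 (flp_c L788670) q27052, e3 q25850 L776772 q24792, e3 q25851 L788694 q27054, e3 q25852 (flp_c L776799) q24690, e3 q25853 (flp_c L788736) q27057, e3 q25854 (flp_c L784643) q26751, e3 q25855 L776827 q25369, trivial⟩ (by decide +kernel)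

theorem ce_c_404 : ∀ r, r < 64 → sm gc (Qf (25856 + r)) = Qf (tab Gen.c (25856 + r)) :=
  edges_tab (sm gc) Qf (tab Gen.c) 25856 [(25856, 24695), (25857, 24696), (25858, 26753), (25859, 24698), (25860, 27063), (25861, 24700), (25862, 27065), (25863, 27062), (25864, 24702), (25865, 27068), (25866, 24704), (25867, 27070), (25868, 26756), (25869, 24706), (25870, 26758), (25871, 27073), (25872, 24711), (25873, 24712), (25874, 25052), (25875, 27077), (25876, 27078), (25877, 24716), (25878, 27081), (25879, 24753), (25880, 27083), (25881, 24730), (25882, 24724), (25883, 27086), (25884, 25355), (25885, 27089), (25886, 24725), (25887, 27092), (25888, 24727), (25889, 27094), (25890, 24846), (25891, 27096), (25892, 27098), (25893, 24732), (25894, 27100), (25895, 24797), (25896, 24734), (25897, 27103), (25898, 27074), (25899, 24738), (25900, 24739), (25901, 24740), (25902, 27108), (25903, 24742), (25904, 27075), (25905, 24744), (25906, 27112), (25907, 24746), (25908, 24799), (25909, 24747), (25910, 27116), (25911, 27111), (25912, 24749),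 (25913, 27120), (25914, 27069), (25915, 24752), (25916, 27082), (25917, 24756), (25918, 24841), (25919, 27123)]
    ⟨e3 q25856 L776844 q24695, e3 q25857 (flp_c L776855) q24696, e3 q25858 (flp_c L784677) q26753, e3 q25859 (flp_c L776879) q24698, e3 q25860 (flp_c L788808) q27063, e3 q25861 (flp_c L776901) q24700, e3 q25862 (flp_c L788836) q27065, e3 q25863 (flp_c L788802) q27062, e3 q25864 L776941 q24702, e3 q25865 (flp_c L788868) q27068, e3 q25866 (flp_c L776961) q24704, e3 q25867 (flp_c L788894) q27070, e3 q25868 (flp_c L784721) q26756, e3 q25869 L776997 q24706, e3 q25870 (flp_c L784739) q26758, e3 q25871 (flp_c L788930) q27073, e3 q25872 (flp_c L777025) q24711, e3 q25873 (flp_c L777039) q24712, e3 q25874 L777055 q25052, e3 q25875 L788974 q27077, e3 q25876 L788988 q27078, e3 q25877 (flp_c L777094) q24716, e3 q25878 (flp_c L789031) q27081, e3 q25879 L777120 q24753, e3 q25880 L789047 q27083, e3 q25881 L777144 q24730, e3 q25882 L777161 q24724, e3 q25883 L789095 q27086, e3 q25884 L777190 q25355, e3 q25885 L789135 q27089, e3 q25886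 (flp_c L777213) q24725, e3 q25887 L789174 q27092, e3 q25888 (flp_c L777241) q24727, e3 q25889 L789196 q27094, e3 q25890 L777269 q24846, e3 q25891 L789226 q27096, e3 q25892 L789249 q27098, e3 q25893 (flp_c L777310) q24732, e3 q25894 (flp_c L789279) q27100, e3 q25895 L777336 q24797, e3 q25896 (flp_c L777347) q24734, e3 q25897 (flp_c L789311) q27103, e3 q25898 (flp_c L788946) q27074, e3 q25899 L777375 q24738, e3 q25900 (flp_c L777386) q24739, e3 q25901 (flp_c L777396) q24740, e3 q25902 L789353 q27108, e3 q25903 (flp_c L777420) q24742, e3 q25904 (flp_c L788956) q27075, e3 q25905 (flp_c L777436) q24744, e3 q25906 (flp_c L789397) q27112, e3 q25907 L777460 q24746, e3 q25908 L777478 q24799, e3 q25909 (flp_c L777490) q24747, e3 q25910 (flp_c L789449) q27116, e3 q25911 (flp_c L789393) q27111, e3 q25912 L777518 q24749, e3 q25913 (flp_c L789489) q27120, e3 q25914 (flp_c L788888) q27069, e3 q25915 L777540 q24752, e3 q25916 (flp_c L789041) q27082, e3 q25917 L777558 q24756, e3 q25918 L777575 q24841, e3 q25919 (flp_c L789517) q27123, trivial⟩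 (by decide +kernel)

theorem ce_c_405 : ∀ r, r < 64 → sm gc (Qf (25920 + r)) = Qf (tab Gen.c (25920 + r)) :=
  edges_tab (sm gc) Qf (tab Gen.c) 25920 [(25920, 24970), (25921, 24779), (25922, 24766), (25923, 27129), (25924, 27130), (25925, 24767), (25926, 27133), (25927, 24769), (25928, 27135), (25929, 24787), (25930, 27138), (25931, 27140), (25932, 24773), (25933, 27143), (25934, 27042), (25935, 24775), (25936, 27147), (25937, 25530), (25938, 24777), (25939, 25070), (25940, 27151), (25941, 24780), (25942, 27154), (25943, 24782), (25944, 27156), (25945, 26763), (25946, 27158), (25947, 24785), (25948, 27161), (25949, 24800), (25950, 27163), (25951, 24788), (25952, 27166), (25953, 24789), (25954, 27169), (25955, 27160), (25956, 24791), (25957, 27172), (25958, 24793), (25959, 27174), (25960, 26764), (25961, 24795), (25962, 26766), (25963, 27177), (25964, 24802), (25965, 27180), (25966, 26755), (25967, 25053), (25968, 27183), (25969, 27185), (25970, 24807), (25971, 27188), (25972, 24808), (25973, 27190), (25974, 25348), (25975,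 24810), (25976, 25363), (25977, 24812), (25978, 26767), (25979, 27195), (25980, 24815), (25981, 27197), (25982, 27199), (25983, 24818)]
    ⟨e3 q25920 L777602 q24970, e3 q25921 L777615 q24779, e3 q25922 L777632 q24766, e3 q25923 L789593 q27129, e3 q25924 L789605 q27130, e3 q25925 (flp_c L777665) q24767, e3 q25926 L789638 q27133, e3 q25927 (flp_c L777683) q24769, e3 q25928 (flp_c L789658) q27135, e3 q25929 L777708 q24787, e3 q25930 L789689 q27138, e3 q25931 L789704 q27140, e3 q25932 (flp_c L777733) q24773, e3 q25933 (flp_c L789731) q27143, e3 q25934 (flp_c L788542) q27042, e3 q25935 (flp_c L777755) q24775, e3 q25936 (flp_c L789767) q27147, e3 q25937 L777784 q25530, e3 q25938 (flp_c L777786) q24777, e3 q25939 L777804 q25070, e3 q25940 L789815 q27151, e3 q25941 (flp_c L777829) q24780, e3 q25942 (flp_c L789852) q27154, e3 q25943 (flp_c L777847) q24782, e3 q25944 (flp_c L789870) q27156, e3 q25945 (flp_c L784832) q26763, e3 q25946 L789882 q27158, e3 q25947 (flp_c L777885) q24785, e3 q25948 (flp_c L789927) q27161, e3 q25949 L777919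 q24800, e3 q25950 L789953 q27163, e3 q25951 (flp_c L777938) q24788, e3 q25952 (flp_c L789978) q27166, e3 q25953 (flp_c L777951) q24789, e3 q25954 (flp_c L790003) q27169, e3 q25955 (flp_c L789921) q27160, e3 q25956 L777981 q24791, e3 q25957 (flp_c L790027) q27172, e3 q25958 (flp_c L777993) q24793, e3 q25959 (flp_c L790045) q27174, e3 q25960 (flp_c L784848) q26764, e3 q25961 L778027 q24795, e3 q25962 (flp_c L784868) q26766, e3 q25963 (flp_c L790073) q27177, e3 q25964 (flp_c L778041) q24802, e3 q25965 (flp_c L790092) q27180, e3 q25966 (flp_c L784711) q26755, e3 q25967 L778077 q25053, e3 q25968 L790126 q27183, e3 q25969 L790145 q27185, e3 q25970 (flp_c L778110) q24807, e3 q25971 (flp_c L790183) q27188, e3 q25972 (flp_c L778128) q24808, e3 q25973 (flp_c L790201) q27190, e3 q25974 L778150 q25348, e3 q25975 L778154 q24810, e3 q25976 L778166 q25363, e3 q25977 L778170 q24812, e3 q25978 (flp_c L784882) q26767, e3 q25979 L790241 q27195, e3 q25980 (flp_c L778196) q24815, e3 q25981 L790267 q27197, e3 q25982 L790290 q27199, e3 q25983 (flp_c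 L778232) q24818, trivial⟩ (by decide +kernel)

theorem ce_c_406 : ∀ r, r < 64 → sm gc (Qf (25984 + r)) = Qf (tab Gen.c (25984 + r)) :=
  edges_tab (sm gc) Qf (tab Gen.c) 25984 [(25984, 27202), (25985, 24819), (25986, 27205), (25987, 24831), (25988, 24821), (25989, 27209), (25990, 27210), (25991, 24824), (25992, 27213), (25993, 24825), (25994, 27216), (25995, 27201), (25996, 24827), (25997, 27221), (25998, 24828), (25999, 27224), (26000, 27204), (26001, 24830), (26002, 27228), (26003, 27207), (26004, 27208), (26005, 24833), (26006, 27231), (26007, 24835), (26008, 26770), (26009, 24837), (26010, 26772), (26011, 26773), (26012, 24847), (26013, 24844), (26014, 27227), (26015, 27237), (26016, 25136), (26017, 24849), (26018, 27241), (26019, 25140), (26020, 26859), (26021, 25326), (26022, 24857), (26023, 27244), (26024, 27220), (26025, 24859), (26026, 24861), (26027, 24862), (26028, 27248), (26029, 24869), (26030, 24865), (26031, 27246), (26032, 26895), (26033, 24868), (26034, 27249), (26035, 27254), (26036, 24871), (26037, 24872),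 (26038, 27258), (26039, 24993), (26040, 24874), (26041, 27261), (26042, 26790), (26043, 27263), (26044, 24877), (26045, 24878), (26046, 27267), (26047, 26799)]
    ⟨e3 q25984 (flp_c L790326) q27202, e3 q25985 (flp_c L778254) q24819, e3 q25986 (flp_c L790364) q27205, e3 q25987 L778286 q24831, e3 q25988 L778290 q24821, e3 q25989 (flp_c L790412) q27209, e3 q25990 L790420 q27210, e3 q25991 (flp_c L778314) q24824, e3 q25992 (flp_c L790443) q27213, e3 q25993 (flp_c L778327) q24825, e3 q25994 (flp_c L790464) q27216, e3 q25995 (flp_c L790322) q27201, e3 q25996 L778353 q24827, e3 q25997 (flp_c L790506) q27221, e3 q25998 (flp_c L778365) q24828, e3 q25999 (flp_c L790534) q27224, e3 q26000 (flp_c L790358) q27204, e3 q26001 L778393 q24830, e3 q26002 (flp_c L790560) q27228, e3 q26003 (flp_c L790390) q27207, e3 q26004 (flp_c L790402) q27208, e3 q26005 L778415 q24833, e3 q26006 (flp_c L790576) q27231, e3 q26007 (flp_c L778425) q24835, e3 q26008 (flp_c L784944) q26770, e3 q26009 L778445 q24837, e3 q26010 (flp_c L784966) q26772, e3 q26011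 (flp_c L784982) q26773, e3 q26012 L778469 q24847, e3 q26013 L778477 q24844, e3 q26014 (flp_c L790554) q27227, e3 q26015 (flp_c L790622) q27237, e3 q26016 L778500 q25136, e3 q26017 (flp_c L778509) q24849, e3 q26018 (flp_c L790657) q27241, e3 q26019 L778538 q25140, e3 q26020 (flp_c L786134) q26859, e3 q26021 L778561 q25326, e3 q26022 L778576 q24857, e3 q26023 (flp_c L790696) q27244, e3 q26024 (flp_c L790498) q27220, e3 q26025 L778607 q24859, e3 q26026 (flp_c L778614) q24861, e3 q26027 (flp_c L778624) q24862, e3 q26028 (flp_c L790744) q27248, e3 q26029 L778662 q24869, e3 q26030 (flp_c L778664) q24865, e3 q26031 (flp_c L790724) q27246, e3 q26032 (flp_c L786677) q26895, e3 q26033 L778700 q24868, e3 q26034 (flp_c L790758) q27249, e3 q26035 L790810 q27254, e3 q26036 (flp_c L778728) q24871, e3 q26037 (flp_c L778738) q24872, e3 q26038 (flp_c L790853) q27258, e3 q26039 L778762 q24993, e3 q26040 (flp_c L778769) q24874, e3 q26041 (flp_c L790881) q27261, e3 q26042 (flp_c L785231) q26790, e3 q26043 L790897 q27263, e3 q26044 (flp_c L778808)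 q24877, e3 q26045 (flp_c L778822) q24878, e3 q26046 (flp_c L790952) q27267, e3 q26047 (flp_c L785360) q26799, trivial⟩ (by decide +kernel)

theorem ce_c_407 : ∀ r, r < 64 → sm gc (Qf (26048 + r)) = Qf (tab Gen.c (26048 + r)) :=
  edges_tab (sm gc) Qf (tab Gen.c) 26048 [(26048, 26806), (26049, 24881), (26050, 26808), (26051, 24884), (26052, 24885), (26053, 27273), (26054, 26814), (26055, 25448), (26056, 26823), (26057, 24889), (26058, 26825), (26059, 24894), (26060, 25449), (26061, 25187), (26062, 27278), (26063, 24895), (26064, 27282), (26065, 24957), (26066, 24897), (26067, 26846), (26068, 26847), (26069, 24902), (26070, 27287), (26071, 25564), (26072, 24905), (26073, 24929), (26074, 24907), (26075, 24908), (26076, 27293), (26077, 24946), (26078, 24911), (26079, 27296), (26080, 26884), (26081, 24913), (26082, 24959), (26083, 27299), (26084, 24916), (26085, 27302), (26086, 24918), (26087, 27305), (26088, 25356), (26089, 24920), (26090, 27309), (26091, 27271), (26092, 27311), (26093, 24923), (26094, 27314), (26095, 24925),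 (26096, 27317), (26097, 27289), (26098, 26871), (26099, 24928), (26100, 27290), (26101, 24930), (26102, 27322), (26103, 24932), (26104, 27321), (26105, 27326), (26106, 24935), (26107, 24936), (26108, 27330), (26109, 27291), (26110, 27332), (26111, 24939)]
    ⟨e3 q26048 (flp_c L785447) q26806, e3 q26049 L778868 q24881, e3 q26050 (flp_c L785463) q26808, e3 q26051 (flp_c L778888) q24884, e3 q26052 (flp_c L778904) q24885, e3 q26053 (flp_c L791022) q27273, e3 q26054 (flp_c L785561) q26814, e3 q26055 L778945 q25448, e3 q26056 (flp_c L785677) q26823, e3 q26057 L778957 q24889, e3 q26058 (flp_c L785693) q26825, e3 q26059 L778985 q24894, e3 q26060 L779001 q25449, e3 q26061 L779017 q25187, e3 q26062 (flp_c L791076) q27278, e3 q26063 (flp_c L779031) q24895, e3 q26064 (flp_c L791142) q27282, e3 q26065 L779059 q24957, e3 q26066 L779063 q24897, e3 q26067 (flp_c L785958) q26846, e3 q26068 (flp_c L785970) q26847, e3 q26069 L779085 q24902, e3 q26070 (flp_c L791184) q27287, e3 q26071 L779103 q25564, e3 q26072 (flp_c L779114) q24905, e3 q26073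 L779136 q24929, e3 q26074 (flp_c L779138) q24907, e3 q26075 (flp_c L779146) q24908, e3 q26076 (flp_c L791256) q27293, e3 q26077 L779168 q24946, e3 q26078 (flp_c L779170) q24911, e3 q26079 (flp_c L791280) q27296, e3 q26080 (flp_c L786518) q26884, e3 q26081 L779199 q24913, e3 q26082 L779205 q24959, e3 q26083 L791302 q27299, e3 q26084 (flp_c L779221) q24916, e3 q26085 L791341 q27302, e3 q26086 (flp_c L779247) q24918, e3 q26087 (flp_c L791380) q27305, e3 q26088 L779279 q25356, e3 q26089 (flp_c L779286) q24920, e3 q26090 (flp_c L791427) q27309, e3 q26091 (flp_c L791008) q27271, e3 q26092 L791443 q27311, e3 q26093 (flp_c L779325) q24923, e3 q26094 L791488 q27314, e3 q26095 (flp_c L779349) q24925, e3 q26096 (flp_c L791522) q27317, e3 q26097 (flp_c L791222) q27289, e3 q26098 (flp_c L786324) q26871, e3 q26099 L779395 q24928, e3 q26100 (flp_c L791226) q27290, e3 q26101 (flp_c L779413) q24930, e3 q26102 (flp_c L791576) q27322, e3 q26103 L779438 q24932, e3 q26104 (flp_c L791568) q27321, e3 q26105 L791614 q27326, e3 q26106 (flp_c L779471)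 q24935, e3 q26107 (flp_c L779485) q24936, e3 q26108 (flp_c L791667) q27330, e3 q26109 (flp_c L791242) q27291, e3 q26110 L791679 q27332, e3 q26111 (flp_c L779520) q24939, trivial⟩ (by decide +kernel)

theorem ce_c_408 : ∀ r, r < 64 → sm gc (Qf (26112 + r)) = Qf (tab Gen.c (26112 + r)) :=
  edges_tab (sm gc) Qf (tab Gen.c) 26112 [(26112, 27335), (26113, 24941), (26114, 27338), (26115, 25546), (26116, 24943), (26117, 27341), (26118, 27281), (26119, 24945), (26120, 27294), (26121, 27346), (26122, 24948), (26123, 24956), (26124, 27349), (26125, 24951), (26126, 27352), (26127, 24952), (26128, 27347), (26129, 26882), (26130, 24955), (26131, 27348), (26132, 27283), (26133, 27284), (26134, 24967), (26135, 24960), (26136, 27361), (26137, 24962), (26138, 24964), (26139, 27307), (26140, 27345), (26141, 27357), (26142, 27360), (26143, 24969), (26144, 27126), (26145, 24972), (26146, 27367), (26147, 27368), (26148, 24975), (26149, 27371), (26150, 24977), (26151, 27374), (26152, 26909), (26153, 27376), (26154, 24980), (26155, 27378), (26156,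 27380), (26157, 27381), (26158, 24983), (26159, 27384), (26160, 24985), (26161, 27387), (26162, 27389), (26163, 27391), (26164, 24988), (26165, 27393), (26166, 24990), (26167, 27396), (26168, 27383), (26169, 24992), (26170, 27400), (26171, 25114), (26172, 24994), (26173, 27403), (26174, 26924), (26175, 24996)]
    ⟨e3 q26112 L791718 q27335, e3 q26113 (flp_c L779542) q24941, e3 q26114 (flp_c L791756) q27338, e3 q26115 L779578 q25546, e3 q26116 (flp_c L779580) q24943, e3 q26117 (flp_c L791786) q27341, e3 q26118 (flp_c L791136) q27281, e3 q26119 L779604 q24945, e3 q26120 (flp_c L791264) q27294, e3 q26121 L791824 q27346, e3 q26122 (flp_c L779628) q24948, e3 q26123 L779650 q24956, e3 q26124 L791864 q27349, e3 q26125 (flp_c L779666) q24951, e3 q26126 (flp_c L791901) q27352, e3 q26127 (flp_c L779683) q24952, e3 q26128 (flp_c L791850) q27347, e3 q26129 (flp_c L786488) q26882, e3 q26130 L779717 q24955, e3 q26131 (flp_c L791854) q27348, e3 q26132 (flp_c L791150) q27283, e3 q26133 (flp_c L791160) q27284, e3 q26134 L779749 q24967, e3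 q26135 (flp_c L779751) q24960, e3 q26136 (flp_c L791981) q27361, e3 q26137 L779778 q24962, e3 q26138 L779791 q24964, e3 q26139 (flp_c L791408) q27307, e3 q26140 (flp_c L791822) q27345, e3 q26141 (flp_c L791957) q27357, e3 q26142 (flp_c L791975) q27360, e3 q26143 L779836 q24969, e3 q26144 (flp_c L789553) q27126, e3 q26145 (flp_c L779852) q24972, e3 q26146 L792033 q27367, e3 q26147 L792045 q27368, e3 q26148 (flp_c L779892) q24975, e3 q26149 L792080 q27371, e3 q26150 (flp_c L779910) q24977, e3 q26151 (flp_c L792107) q27374, e3 q26152 (flp_c L786867) q26909, e3 q26153 L792119 q27376, e3 q26154 (flp_c L779943) q24980, e3 q26155 (flp_c L792149) q27378, e3 q26156 L792168 q27380, e3 q26157 L792184 q27381, e3 q26158 (flp_c L779994) q24983, e3 q26159 (flp_c L792209) q27384, e3 q26160 L780008 q24985, e3 q26161 (flp_c L792229) q27387, e3 q26162 L792251 q27389, e3 q26163 L792279 q27391, e3 q26164 (flp_c L780049) q24988, e3 q26165 L792303 q27393, e3 q26166 (flp_c L780069) q24990, e3 q26167 (flp_c L792328) q27396, e3 q26168 (flp_c L792205)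 q27383, e3 q26169 L780086 q24992, e3 q26170 (flp_c L792349) q27400, e3 q26171 L780096 q25114, e3 q26172 (flp_c L780103) q24994, e3 q26173 (flp_c L792371) q27403, e3 q26174 (flp_c L787027) q26924, e3 q26175 L780132 q24996, trivial⟩ (by decide +kernel)

theorem ce_c_409 : ∀ r, r < 64 → sm gc (Qf (26176 + r)) = Qf (tab Gen.c (26176 + r)) :=
  edges_tab (sm gc) Qf (tab Gen.c) 26176 [(26176, 26926), (26177, 24998), (26178, 27408), (26179, 25000), (26180, 27411), (26181, 26930), (26182, 25002), (26183, 27414), (26184, 25004), (26185, 27413), (26186, 27417), (26187, 25007), (26188, 27420), (26189, 26940), (26190, 25009), (26191, 26942), (26192, 25011), (26193, 25020), (26194, 27427), (26195, 25014), (26196, 25015), (26197, 27425), (26198, 25017), (26199, 26991), (26200, 25019), (26201, 27426), (26202, 25021), (26203, 27435), (26204, 26959), (26205, 25023), (26206, 26961), (26207, 26962), (26208, 25037), (26209, 25028), (26210, 27442), (26211, 25106), (26212, 25030), (26213, 27145), (26214, 25118), (26215, 27424), (26216, 25034),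 (26217, 27438), (26218, 27449), (26219, 27441), (26220, 25038), (26221, 25039), (26222, 27454), (26223, 25041), (26224, 27457), (26225, 27452), (26226, 25043), (26227, 27461), (26228, 25045), (26229, 27463), (26230, 26970), (26231, 25047), (26232, 26972), (26233, 25049), (26234, 25050), (26235, 27469), (26236, 25061), (26237, 27471), (26238, 27473), (26239, 25054)]
    ⟨e3 q26176 (flp_c L787041) q26926, e3 q26177 (flp_c L780142) q24998, e3 q26178 L792408 q27408, e3 q26179 (flp_c L780168) q25000, e3 q26180 (flp_c L792439) q27411, e3 q26181 (flp_c L787098) q26930, e3 q26182 (flp_c L780191) q25002, e3 q26183 L792465 q27414, e3 q26184 (flp_c L780219) q25004, e3 q26185 (flp_c L792463) q27413, e3 q26186 L792507 q27417, e3 q26187 (flp_c L780255) q25007, e3 q26188 (flp_c L792537) q27420, e3 q26189 (flp_c L787229) q26940, e3 q26190 L780279 q25009, e3 q26191 (flp_c L787243) q26942, e3 q26192 (flp_c L780291) q25011, e3 q26193 L780311 q25020, e3 q26194 L792599 q27427, e3 q26195 (flp_c L780327) q25014, e3 q26196 (flp_c L780337) q25015,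 e3 q26197 (flp_c L792587) q27425, e3 q26198 (flp_c L780361) q25017, e3 q26199 (flp_c L787876) q26991, e3 q26200 L780385 q25019, e3 q26201 (flp_c L792591) q27426, e3 q26202 (flp_c L780405) q25021, e3 q26203 (flp_c L792687) q27435, e3 q26204 (flp_c L787478) q26959, e3 q26205 L780433 q25023, e3 q26206 (flp_c L787498) q26961, e3 q26207 (flp_c L787508) q26962, e3 q26208 L780457 q25037, e3 q26209 (flp_c L780461) q25028, e3 q26210 (flp_c L792751) q27442, e3 q26211 L780498 q25106, e3 q26212 L780502 q25030, e3 q26213 (flp_c L789745) q27145, e3 q26214 L780519 q25118, e3 q26215 (flp_c L792573) q27424, e3 q26216 L780542 q25034, e3 q26217 (flp_c L792719) q27438, e3 q26218 L792825 q27449, e3 q26219 (flp_c L792741) q27441, e3 q26220 (flp_c L780582) q25038, e3 q26221 (flp_c L780594) q25039, e3 q26222 L792883 q27454, e3 q26223 (flp_c L780618) q25041, e3 q26224 (flp_c L792916) q27457, e3 q26225 (flp_c L792867) q27452, e3 q26226 L780643 q25043, e3 q26227 (flp_c L792965) q27461, e3 q26228 (flp_c L780671) q25045, e3 q26229 (flp_c L792985) q27463,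 e3 q26230 (flp_c L787608) q26970, e3 q26231 L780690 q25047, e3 q26232 (flp_c L787622) q26972, e3 q26233 (flp_c L780700) q25049, e3 q26234 (flp_c L780712) q25050, e3 q26235 (flp_c L793030) q27469, e3 q26236 L780732 q25061, e3 q26237 L793040 q27471, e3 q26238 L793061 q27473, e3 q26239 (flp_c L780762) q25054, trivial⟩ (by decide +kernel)

theorem ce_c_410 : ∀ r, r < 64 → sm gc (Qf (26240 + r)) = Qf (tab Gen.c (26240 + r)) :=
  edges_tab (sm gc) Qf (tab Gen.c) 26240 [(26240, 27475), (26241, 25055), (26242, 27460), (26243, 27478), (26244, 25058), (26245, 27481), (26246, 27468), (26247, 25060), (26248, 27470), (26249, 27453), (26250, 25063), (26251, 27488), (26252, 26984), (26253, 25065), (26254, 27492), (26255, 26987), (26256, 26988), (26257, 25117), (26258, 26953), (26259, 27497), (26260, 25071), (26261, 27499), (26262, 25086), (26263, 25073), (26264, 25092), (26265, 25075), (26266, 25095), (26267, 25096), (26268, 27505), (26269, 27507), (26270, 25080), (26271, 27510), (26272, 25081), (26273, 27513), (26274, 27498), (26275, 25083),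 (26276, 27517), (26277, 27328), (26278, 25085), (26279, 27500), (26280, 25512), (26281, 25142), (26282, 25088), (26283, 25089), (26284, 27526), (26285, 27501), (26286, 25091), (26287, 27530), (26288, 27502), (26289, 27503), (26290, 25120), (26291, 25094), (26292, 27504), (26293, 27247), (26294, 27013), (26295, 25099), (26296, 27015), (26297, 27016), (26298, 25122), (26299, 27017), (26300, 27543), (26301, 25125), (26302, 27443), (26303, 25108)]
    ⟨e3 q26240 (flp_c L793085) q27475, e3 q26241 (flp_c L780777) q25055, e3 q26242 (flp_c L792949) q27460, e3 q26243 L793109 q27478, e3 q26244 (flp_c L780805) q25058, e3 q26245 (flp_c L793139) q27481, e3 q26246 (flp_c L793026) q27468, e3 q26247 L780827 q25060, e3 q26248 (flp_c L793036) q27470, e3 q26249 (flp_c L792881) q27453, e3 q26250 (flp_c L780847) q25063, e3 q26251 (flp_c L793199) q27488, e3 q26252 (flp_c L787786) q26984, e3 q26253 L780869 q25065, e3 q26254 (flp_c L793225) q27492, e3 q26255 (flp_c L787814) q26987, e3 q26256 (flp_c L787830) q26988, e3 q26257 L780895 q25117, e3 q26258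 (flp_c L787402) q26953, e3 q26259 L793255 q27497, e3 q26260 (flp_c L780913) q25071, e3 q26261 (flp_c L793275) q27499, e3 q26262 L780936 q25086, e3 q26263 (flp_c L780938) q25073, e3 q26264 L780954 q25092, e3 q26265 L780958 q25075, e3 q26266 L780962 q25095, e3 q26267 L780970 q25096, e3 q26268 L793327 q27505, e3 q26269 L793348 q27507, e3 q26270 (flp_c L780996) q25080, e3 q26271 (flp_c L793373) q27510, e3 q26272 (flp_c L781011) q25081, e3 q26273 (flp_c L793394) q27513, e3 q26274 (flp_c L793271) q27498, e3 q26275 L781030 q25083, e3 q26276 (flp_c L793417) q27517, e3 q26277 (flp_c L791655) q27328, e3 q26278 L781055 q25085, e3 q26279 (flp_c L793283) q27500, e3 q26280 L781073 q25512, e3 q26281 L781085 q25142, e3 q26282 L781093 q25088, e3 q26283 (flp_c L781097) q25089, e3 q26284 (flp_c L793503) q27526, e3 q26285 (flp_c L793301) q27501, e3 q26286 L781121 q25091, e3 q26287 (flp_c L793533) q27530, e3 q26288 (flp_c L793305) q27502, e3 q26289 (flp_c L793313) q27503, e3 q26290 L781145 q25120, e3 q26291 L781155 q25094, e3 q26292 (flp_c L793319)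 q27504, e3 q26293 (flp_c L790738) q27247, e3 q26294 (flp_c L788168) q27013, e3 q26295 L781191 q25099, e3 q26296 (flp_c L788182) q27015, e3 q26297 (flp_c L788192) q27016, e3 q26298 L781217 q25122, e3 q26299 (flp_c L788200) q27017, e3 q26300 L793633 q27543, e3 q26301 L781229 q25125, e3 q26302 (flp_c L792764) q27443, e3 q26303 L781244 q25108, trivial⟩ (by decide +kernel)

theorem ce_c_411 : ∀ r, r < 64 → sm gc (Qf (26304 + r)) = Qf (tab Gen.c (26304 + r)) :=
  edges_tab (sm gc) Qf (tab Gen.c) 26304 [(26304, 27548), (26305, 27485), (26306, 25111), (26307, 25189), (26308, 25562), (26309, 27491), (26310, 25195), (26311, 27555), (26312, 27495), (26313, 25320), (26314, 27534), (26315, 27538), (26316, 27541), (26317, 27560), (26318, 25124), (26319, 27562), (26320, 27545), (26321, 25221), (26322, 25147), (26323, 25133), (26324, 26853), (26325, 27564), (26326, 27388), (26327, 26964), (26328, 27240), (26329, 25137), (26330, 27567), (26331, 25139), (26332, 27520), (26333, 27524), (26334, 25145), (26335, 27563), (26336, 25339), (26337,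 25353), (26338, 25152), (26339, 25333), (26340, 27571), (26341, 25376), (26342, 25381), (26343, 27060), (26344, 25386), (26345, 25157), (26346, 27576), (26347, 25164), (26348, 25159), (26349, 27579), (26350, 25422), (26351, 25161), (26352, 27582), (26353, 27575), (26354, 25163), (26355, 27577), (26356, 25406), (26357, 25407), (26358, 25170), (26359, 27587), (26360, 25412), (26361, 25414), (26362, 25416), (26363, 25432), (26364, 25176), (26365, 25179), (26366, 25178), (26367, 27591)]
    ⟨e3 q26304 (flp_c L793667) q27548, e3 q26305 (flp_c L793175) q27485, e3 q26306 L781275 q25111, e3 q26307 L781285 q25189, e3 q26308 L781300 q25562, e3 q26309 (flp_c L793221) q27491, e3 q26310 L781318 q25195, e3 q26311 L793730 q27555, e3 q26312 (flp_c L793243) q27495, e3 q26313 L781344 q25320, e3 q26314 (flp_c L793565) q27534, e3 q26315 (flp_c L793603) q27538, e3 q26316 (flp_c L793623) q27541, e3 q26317 L793773 q27560, e3 q26318 (flp_c L781388) q25124, e3 q26319 (flp_c L793797) q27562, e3 q26320 (flp_c L793645) q27545, e3 q26321 L781410 q25221,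 e3 q26322 L781426 q25147, e3 q26323 L781435 q25133, e3 q26324 (flp_c L786054) q26853, e3 q26325 (flp_c L793823) q27564, e3 q26326 (flp_c L792242) q27388, e3 q26327 (flp_c L787530) q26964, e3 q26328 (flp_c L790641) q27240, e3 q26329 (flp_c L781489) q25137, e3 q26330 (flp_c L793854) q27567, e3 q26331 L781514 q25139, e3 q26332 (flp_c L793449) q27520, e3 q26333 (flp_c L793485) q27524, e3 q26334 L781549 q25145, e3 q26335 (flp_c L793812) q27563, e3 q26336 L781580 q25339, e3 q26337 L781584 q25353, e3 q26338 L781606 q25152, e3 q26339 L781620 q25333, e3 q26340 (flp_c L793896) q27571, e3 q26341 L781632 q25376, e3 q26342 L781652 q25381, e3 q26343 (flp_c L788784) q27060, e3 q26344 L781666 q25386, e3 q26345 (flp_c L781676) q25157, e3 q26346 (flp_c L793964) q27576, e3 q26347 L781712 q25164, e3 q26348 (flp_c L781714) q25159, e3 q26349 (flp_c L794004) q27579, e3 q26350 L781753 q25422, e3 q26351 (flp_c L781755) q25161, e3 q26352 (flp_c L794044) q27582, e3 q26353 (flp_c L793960) q27575, e3 q26354 L781793 q25163, e3 q26355 (flp_c L793976) q27577,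 e3 q26356 L781811 q25406, e3 q26357 L781815 q25407, e3 q26358 (flp_c L781825) q25170, e3 q26359 (flp_c L794096) q27587, e3 q26360 L781859 q25412, e3 q26361 L781873 q25414, e3 q26362 L781877 q25416, e3 q26363 L781889 q25432, e3 q26364 (flp_c L781899) q25176, e3 q26365 L781917 q25179, e3 q26366 L781921 q25178, e3 q26367 (flp_c L794150) q27591, trivial⟩ (by decide +kernel)

theorem ce_c_412 : ∀ r, r < 64 → sm gc (Qf (26368 + r)) = Qf (tab Gen.c (26368 + r)) :=
  edges_tab (sm gc) Qf (tab Gen.c) 26368 [(26368, 27592), (26369, 25203), (26370, 25217), (26371, 25184), (26372, 27596), (26373, 26839), (26374, 25186), (26375, 27280), (26376, 27599), (26377, 27551), (26378, 25190), (26379, 27602), (26380, 25231), (26381, 25192), (26382, 27605), (26383, 27045), (26384, 25194), (26385, 27608), (26386, 25465), (26387, 27610), (26388, 25197), (26389, 27613), (26390, 25198), (26391, 27616), (26392, 27607), (26393, 25200), (26394, 27619), (26395, 25561), (26396, 25410), (26397, 27594), (26398, 25204), (26399, 27623), (26400, 25213), (26401,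 25206), (26402, 27627), (26403, 25208), (26404, 27629), (26405, 27622), (26406, 25210), (26407, 27632), (26408, 26803), (26409, 25212), (26410, 27625), (26411, 27626), (26412, 25215), (26413, 25411), (26414, 25566), (26415, 25230), (26416, 25228), (26417, 27637), (26418, 25232), (26419, 27640), (26420, 25234), (26421, 25235), (26422, 27643), (26423, 27639), (26424, 25237), (26425, 25475), (26426, 27646), (26427, 25240), (26428, 27649), (26429, 25327), (26430, 25480), (26431, 27652)]
    ⟨e3 q26368 (flp_c L794160) q27592, e3 q26369 L781949 q25203, e3 q26370 L781953 q25217, e3 q26371 (flp_c L781961) q25184, e3 q26372 (flp_c L794194) q27596, e3 q26373 (flp_c L785890) q26839, e3 q26374 L781984 q25186, e3 q26375 (flp_c L791112) q27280, e3 q26376 L794214 q27599, e3 q26377 (flp_c L793698) q27551, e3 q26378 (flp_c L782022) q25190, e3 q26379 (flp_c L794252) q27602, e3 q26380 L782050 q25231, e3 q26381 (flp_c L782057) q25192, e3 q26382 (flp_c L794280) q27605, e3 q26383 (flp_c L788587) q27045, e3 q26384 (flp_c L782076) q25194, e3 q26385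 (flp_c L794300) q27608, e3 q26386 L782094 q25465, e3 q26387 L794314 q27610, e3 q26388 (flp_c L782112) q25197, e3 q26389 (flp_c L794349) q27613, e3 q26390 (flp_c L782136) q25198, e3 q26391 (flp_c L794383) q27616, e3 q26392 (flp_c L794296) q27607, e3 q26393 L782168 q25200, e3 q26394 (flp_c L794411) q27619, e3 q26395 L782186 q25561, e3 q26396 L782204 q25410, e3 q26397 (flp_c L794172) q27594, e3 q26398 (flp_c L782214) q25204, e3 q26399 (flp_c L794449) q27623, e3 q26400 L782234 q25213, e3 q26401 L782238 q25206, e3 q26402 (flp_c L794481) q27627, e3 q26403 (flp_c L782250) q25208, e3 q26404 (flp_c L794501) q27629, e3 q26405 (flp_c L794445) q27622, e3 q26406 L782283 q25210, e3 q26407 (flp_c L794529) q27632, e3 q26408 (flp_c L785409) q26803, e3 q26409 L782307 q25212, e3 q26410 (flp_c L794467) q27625, e3 q26411 (flp_c L794475) q27626, e3 q26412 L782327 q25215, e3 q26413 L782333 q25411, e3 q26414 L782345 q25566, e3 q26415 L782356 q25230, e3 q26416 L782366 q25228, e3 q26417 (flp_c L794565) q27637, e3 q26418 (flp_c L782381) q25232, e3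 q26419 (flp_c L794590) q27640, e3 q26420 L782405 q25234, e3 q26421 (flp_c L782414) q25235, e3 q26422 (flp_c L794620) q27643, e3 q26423 (flp_c L794586) q27639, e3 q26424 L782443 q25237, e3 q26425 L782451 q25475, e3 q26426 L794644 q27646, e3 q26427 (flp_c L782467) q25240, e3 q26428 (flp_c L794669) q27649, e3 q26429 L782485 q25327, e3 q26430 L782499 q25480, e3 q26431 L794693 q27652, trivial⟩ (by decide +kernel)

theorem ce_c_413 : ∀ r, r < 64 → sm gc (Qf (26432 + r)) = Qf (tab Gen.c (26432 + r)) :=
  edges_tab (sm gc) Qf (tab Gen.c) 26432 [(26432, 25244), (26433, 27655), (26434, 27656), (26435, 25247), (26436, 27659), (26437, 27654), (26438, 25249), (26439, 25484), (26440, 25251), (26441, 27663), (26442, 25252), (26443, 25260), (26444, 25254), (26445, 25255), (26446, 25256), (26447, 27669), (26448, 27662), (26449, 25258), (26450, 27664), (26451, 27665), (26452, 27666), (26453, 25506), (26454, 25507), (26455, 25265), (26456, 27677), (26457, 27522), (26458, 25267), (26459, 27681), (26460, 25515), (26461, 25270), (26462, 25517),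 (26463, 25272), (26464, 27686), (26465, 25282), (26466, 25274), (26467, 27689), (26468, 25276), (26469, 27692), (26470, 25277), (26471, 27694), (26472, 27304), (26473, 25279), (26474, 27698), (26475, 27685), (26476, 25281), (26477, 27687), (26478, 27688), (26479, 25284), (26480, 27704), (26481, 25531), (26482, 25288), (26483, 27706), (26484, 27431), (26485, 25290), (26486, 27709), (26487, 25291), (26488, 27711), (26489, 25305), (26490, 25293), (26491, 25294), (26492, 25311), (26493, 25296), (26494, 25313), (26495, 25314)]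
    ⟨e3 q26432 (flp_c L782511) q25244, e3 q26433 (flp_c L794724) q27655, e3 q26434 L794732 q27656, e3 q26435 (flp_c L782541) q25247, e3 q26436 (flp_c L794765) q27659, e3 q26437 (flp_c L794720) q27654, e3 q26438 L782570 q25249, e3 q26439 L782578 q25484, e3 q26440 (flp_c L782588) q25251, e3 q26441 (flp_c L794797) q27663, e3 q26442 (flp_c L782599) q25252, e3 q26443 L782619 q25260, e3 q26444 L782623 q25254, e3 q26445 (flp_c L782627) q25255, e3 q26446 (flp_c L782637) q25256, e3 q26447 (flp_c L794849) q27669, e3 q26448 (flp_c L794793) q27662, e3 q26449 L782656 q25258, e3 q26450 (flp_c L794813) q27664, e3 q26451 (flp_c L794817) q27665, e3 q26452 (flp_c L794827) q27666, e3 q26453 L782690 q25506, e3 q26454 L782694 q25507, e3 q26455 (flp_c L782704) q25265, e3 q26456 (flp_c L794904) q27677, e3 q26457 (flp_c L793469) q27522, e3 q26458 L782721 q25267, e3 q26459 (flp_c L794927) q27681, e3 q26460 L782735 q25515, e3 q26461 L782739 q25270, e3 q26462 L782743 q25517, e3 q26463 (flp_c L782747) q25272, e3 q26464 (flp_c L794960) q27686, e3 q26465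 L782773 q25282, e3 q26466 L782777 q25274, e3 q26467 L794984 q27689, e3 q26468 (flp_c L782793) q25276, e3 q26469 (flp_c L795017) q27692, e3 q26470 (flp_c L782810) q25277, e3 q26471 (flp_c L795031) q27694, e3 q26472 (flp_c L791374) q27304, e3 q26473 L782832 q25279, e3 q26474 (flp_c L795061) q27698, e3 q26475 (flp_c L794956) q27685, e3 q26476 L782858 q25281, e3 q26477 (flp_c L794968) q27687, e3 q26478 (flp_c L794978) q27688, e3 q26479 L782878 q25284, e3 q26480 (flp_c L795105) q27704, e3 q26481 L782888 q25531, e3 q26482 (flp_c L782898) q25288, e3 q26483 (flp_c L795123) q27706, e3 q26484 (flp_c L792655) q27431, e3 q26485 (flp_c L782926) q25290, e3 q26486 (flp_c L795145) q27709, e3 q26487 (flp_c L782939) q25291, e3 q26488 (flp_c L795157) q27711, e3 q26489 L782955 q25305, e3 q26490 L782959 q25293, e3 q26491 (flp_c L782963) q25294, e3 q26492 L782981 q25311, e3 q26493 L782985 q25296, e3 q26494 L782989 q25313, e3 q26495 L782997 q25314, trivial⟩ (by decide +kernel)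

theorem ce_c_414 : ∀ r, r < 64 → sm gc (Qf (26496 + r)) = Qf (tab Gen.c (26496 + r)) :=
  edges_tab (sm gc) Qf (tab Gen.c) 26496 [(26496, 25299), (26497, 27719), (26498, 25300), (26499, 27721), (26500, 27708), (26501, 25302), (26502, 27710), (26503, 25304), (26504, 27727), (26505, 27712), (26506, 27713), (26507, 25307), (26508, 25308), (26509, 27731), (26510, 27714), (26511, 25310), (26512, 27715), (26513, 27716), (26514, 27717), (26515, 27540), (26516, 25558), (26517, 25559), (26518, 26850), (26519, 26860), (26520, 26857), (26521, 25362), (26522, 25360), (26523, 27168), (26524, 25331), (26525, 27742), (26526, 27572), (26527, 27743), (26528, 25335), (26529, 27746), (26530, 27153), (26531, 25337), (26532, 27750), (26533, 27570), (26534, 26768), (26535, 27751), (26536, 25342), (26537, 27754), (26538, 25343), (26539, 27757), (26540, 27187), (26541, 25345), (26542, 27761), (26543, 27189), (26544, 25347), (26545, 27764), (26546, 27191), (26547, 27192), (26548, 25350), (26549, 27767), (26550, 25366), (26551, 27088), (26552, 25357),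 (26553, 27769), (26554, 27155), (26555, 25359), (26556, 27739), (26557, 27030), (26558, 27738), (26559, 27193)]
    ⟨e3 q26496 (flp_c L782999) q25299, e3 q26497 (flp_c L795221) q27719, e3 q26498 (flp_c L783020) q25300, e3 q26499 (flp_c L795235) q27721, e3 q26500 (flp_c L795141) q27708, e3 q26501 L783039 q25302, e3 q26502 (flp_c L795153) q27710, e3 q26503 L783049 q25304, e3 q26504 (flp_c L795266) q27727, e3 q26505 (flp_c L795163) q27712, e3 q26506 (flp_c L795171) q27713, e3 q26507 L783071 q25307, e3 q26508 (flp_c L783075) q25308, e3 q26509 (flp_c L795290) q27731, e3 q26510 (flp_c L795185) q27714, e3 q26511 L783095 q25310, e3 q26512 (flp_c L795189) q27715, e3 q26513 (flp_c L795199) q27716, e3 q26514 (flp_c L795205) q27717, e3 q26515 L793619 q27540, e3 q26516 L783121 q25558, e3 q26517 L783125 q25559, e3 q26518 (flp_c L786007) q26850, e3 q26519 (flp_c L786151) q26860, e3 q26520 (flp_c L786107) q26857, e3 q26521 L783165 q25362, e3 q26522 L783179 q25360, e3 q26523 (flp_c L789997) q27168, e3 q26524 L783189 q25331, e3 q26525 (flp_c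 L795374) q27742, e3 q26526 (flp_c L793912) q27572, e3 q26527 L795378 q27743, e3 q26528 (flp_c L783215) q25335, e3 q26529 (flp_c L795401) q27746, e3 q26530 (flp_c L789848) q27153, e3 q26531 L783232 q25337, e3 q26532 (flp_c L795426) q27750, e3 q26533 (flp_c L793880) q27570, e3 q26534 (flp_c L784896) q26768, e3 q26535 L795432 q27751, e3 q26536 (flp_c L783266) q25342, e3 q26537 (flp_c L795459) q27754, e3 q26538 (flp_c L783279) q25343, e3 q26539 (flp_c L795480) q27757, e3 q26540 (flp_c L790179) q27187, e3 q26541 L783303 q25345, e3 q26542 (flp_c L795506) q27761, e3 q26543 (flp_c L790197) q27189, e3 q26544 L783321 q25347, e3 q26545 (flp_c L795522) q27764, e3 q26546 (flp_c L790207) q27191, e3 q26547 (flp_c L790217) q27192, e3 q26548 L783341 q25350, e3 q26549 (flp_c L795540) q27767, e3 q26550 L783351 q25366, e3 q26551 (flp_c L789127) q27088, e3 q26552 (flp_c L783363) q25357, e3 q26553 (flp_c L795556) q27769, e3 q26554 (flp_c L789866) q27155, e3 q26555 L783392 q25359, e3 q26556 (flp_c L795344) q27739, e3 q26557 (flp_c L788386) q27030,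 e3 q26558 (flp_c L795328) q27738, e3 q26559 (flp_c L790223) q27193, trivial⟩ (by decide +kernel)

theorem ce_c_415 : ∀ r, r < 64 → sm gc (Qf (26560 + r)) = Qf (tab Gen.c (26560 + r)) :=
  edges_tab (sm gc) Qf (tab Gen.c) 26560 [(26560, 27194), (26561, 25365), (26562, 25373), (26563, 25368), (26564, 25370), (26565, 27778), (26566, 27272), (26567, 25372), (26568, 27775), (26569, 27776), (26570, 25375), (26571, 27035), (26572, 25378), (26573, 27173), (26574, 25380), (26575, 27573), (26576, 25384), (26577, 25383), (26578, 27788), (26579, 27789), (26580, 27109), (26581, 25388), (26582, 25397), (26583, 25390), (26584, 25400), (26585, 25402), (26586, 25403), (26587, 25394), (26588, 27292), (26589, 25396), (26590, 27793), (26591, 27794), (26592, 27046), (26593, 27795), (26594, 27149), (26595, 27796), (26596, 27797), (26597, 25405), (26598, 27585), (26599, 25408), (26600, 27806), (26601, 27091), (26602, 27621), (26603, 27588), (26604, 26878), (26605, 27589), (26606, 25450), (26607, 25417), (26608, 27810), (26609, 27301), (26610, 25419),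 (26611, 27813), (26612, 27578), (26613, 25421), (26614, 27580), (26615, 25423), (26616, 27818), (26617, 25429), (26618, 25425), (26619, 27821), (26620, 27313), (26621, 27817), (26622, 25428), (26623, 27819)]
    ⟨e3 q26560 (flp_c L790235) q27194, e3 q26561 L783430 q25365, e3 q26562 L783436 q25373, e3 q26563 L783440 q25368, e3 q26564 (flp_c L783444) q25370, e3 q26565 (flp_c L795616) q27778, e3 q26566 (flp_c L791018) q27272, e3 q26567 L783463 q25372, e3 q26568 (flp_c L795596) q27775, e3 q26569 (flp_c L795604) q27776, e3 q26570 L783481 q25375, e3 q26571 (flp_c L788458) q27035, e3 q26572 L783493 q25378, e3 q26573 (flp_c L790041) q27173, e3 q26574 L783507 q25380, e3 q26575 (flp_c L793928) q27573, e3 q26576 L783521 q25384, e3 q26577 L783525 q25383, e3 q26578 (flp_c L795675) q27788, e3 q26579 (flp_c L795683) q27789, e3 q26580 (flp_c L789377) q27109, e3 q26581 L783547 q25388, e3 q26582 L783553 q25397, e3 q26583 L783557 q25390, e3 q26584 L783565 q25400, e3 q26585 L783569 q25402, e3 q26586 L783575 q25403, e3 q26587 L783579 q25394,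 e3 q26588 (flp_c L791252) q27292, e3 q26589 L783589 q25396, e3 q26590 (flp_c L795703) q27793, e3 q26591 (flp_c L795711) q27794, e3 q26592 (flp_c L788599) q27046, e3 q26593 (flp_c L795717) q27795, e3 q26594 (flp_c L789797) q27149, e3 q26595 (flp_c L795725) q27796, e3 q26596 (flp_c L795731) q27797, e3 q26597 L783635 q25405, e3 q26598 (flp_c L794074) q27585, e3 q26599 (flp_c L783643) q25408, e3 q26600 (flp_c L795781) q27806, e3 q26601 (flp_c L789172) q27091, e3 q26602 (flp_c L794425) q27621, e3 q26603 (flp_c L794106) q27588, e3 q26604 (flp_c L786429) q26878, e3 q26605 (flp_c L794122) q27589, e3 q26606 L783694 q25450, e3 q26607 (flp_c L783700) q25417, e3 q26608 (flp_c L795809) q27810, e3 q26609 (flp_c L791339) q27301, e3 q26610 (flp_c L783715) q25419, e3 q26611 (flp_c L795829) q27813, e3 q26612 (flp_c L793998) q27578, e3 q26613 L783738 q25421, e3 q26614 (flp_c L794016) q27580, e3 q26615 (flp_c L783748) q25423, e3 q26616 (flp_c L795862) q27818, e3 q26617 L783768 q25429, e3 q26618 (flp_c L783770) q25425, e3 q26619 (flp_c L795882)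 q27821, e3 q26620 (flp_c L791486) q27313, e3 q26621 (flp_c L795858) q27817, e3 q26622 L783801 q25428, e3 q26623 (flp_c L795868) q27819, trivial⟩ (by decide +kernel)

theorem ce_c_416 : ∀ r, r < 64 → sm gc (Qf (26624 + r)) = Qf (tab Gen.c (26624 + r)) :=
  edges_tab (sm gc) Qf (tab Gen.c) 26624 [(26624, 25454), (26625, 25457), (26626, 25433), (26627, 27827), (26628, 25440), (26629, 25441), (26630, 25436), (26631, 25443), (26632, 27826), (26633, 25439), (26634, 27828), (26635, 27829), (26636, 27830), (26637, 26817), (26638, 25447), (26639, 27275), (26640, 27279), (26641, 27476), (26642, 27812), (26643, 25453), (26644, 27825), (26645, 25456), (26646, 27841), (26647, 25533), (26648, 25462), (26649, 25463), (26650, 27467), (26651, 27843), (26652, 25464), (26653, 27846), (26654, 25466), (26655, 27848), (26656, 25473), (26657, 25468), (26658, 27851), (26659, 25470), (26660, 27853), (26661, 27847), (26662, 25472), (26663, 27849), (26664, 27850), (26665, 25476), (26666, 27858), (26667, 27519), (26668, 27402), (26669, 25479), (26670,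 27651), (26671, 25483), (26672, 27353), (26673, 27863), (26674, 27008), (26675, 25486), (26676, 27867), (26677, 25487), (26678, 27869), (26679, 25498), (26680, 25502), (26681, 25490), (26682, 25504), (26683, 27874), (26684, 25493), (26685, 27877), (26686, 25494), (26687, 27880)]
    ⟨e3 q26624 L783817 q25454, e3 q26625 L783821 q25457, e3 q26626 (flp_c L783827) q25433, e3 q26627 (flp_c L795930) q27827, e3 q26628 L783856 q25440, e3 q26629 L783864 q25441, e3 q26630 L783868 q25436, e3 q26631 L783872 q25443, e3 q26632 (flp_c L795924) q27826, e3 q26633 L783882 q25439, e3 q26634 (flp_c L795938) q27828, e3 q26635 (flp_c L795950) q27829, e3 q26636 (flp_c L795960) q27830, e3 q26637 (flp_c L785601) q26817, e3 q26638 L783908 q25447, e3 q26639 (flp_c L791040) q27275, e3 q26640 (flp_c L791094) q27279, e3 q26641 (flp_c L793101) q27476, e3 q26642 (flp_c L795825) q27812, e3 q26643 L783938 q25453, e3 q26644 (flp_c L795910) q27825, e3 q26645 L783950 q25456, e3 q26646 (flp_c L796016) q27841, e3 q26647 L783962 q25533, e3 q26648 L783968 q25462,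 e3 q26649 L783972 q25463, e3 q26650 (flp_c L793016) q27467, e3 q26651 (flp_c L796028) q27843, e3 q26652 (flp_c L783984) q25464, e3 q26653 (flp_c L796048) q27846, e3 q26654 (flp_c L784000) q25466, e3 q26655 (flp_c L796060) q27848, e3 q26656 L784014 q25473, e3 q26657 L784018 q25468, e3 q26658 (flp_c L796076) q27851, e3 q26659 (flp_c L784022) q25470, e3 q26660 (flp_c L796086) q27853, e3 q26661 (flp_c L796056) q27847, e3 q26662 L784042 q25472, e3 q26663 (flp_c L796066) q27849, e3 q26664 (flp_c L796072) q27850, e3 q26665 (flp_c L784054) q25476, e3 q26666 (flp_c L796116) q27858, e3 q26667 (flp_c L793433) q27519, e3 q26668 (flp_c L792367) q27402, e3 q26669 L784083 q25479, e3 q26670 (flp_c L794685) q27651, e3 q26671 L784101 q25483, e3 q26672 (flp_c L791919) q27353, e3 q26673 (flp_c L796147) q27863, e3 q26674 (flp_c L788120) q27008, e3 q26675 (flp_c L784121) q25486, e3 q26676 (flp_c L796173) q27867, e3 q26677 (flp_c L784129) q25487, e3 q26678 (flp_c L796185) q27869, e3 q26679 L784146 q25498, e3 q26680 L784154 q25502, e3 q26681 L784158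 q25490, e3 q26682 L784164 q25504, e3 q26683 L796219 q27874, e3 q26684 (flp_c L784176) q25493, e3 q26685 (flp_c L796244) q27877, e3 q26686 (flp_c L784189) q25494, e3 q26687 (flp_c L796265) q27880, trivial⟩ (by decide +kernel)

theorem ce_c_417 : ∀ r, r < 64 → sm gc (Qf (26688 + r)) = Qf (tab Gen.c (26688 + r)) :=
  edges_tab (sm gc) Qf (tab Gen.c) 26688 [(26688, 27868), (26689, 25496), (26690, 27334), (26691, 27870), (26692, 25499), (26693, 27886), (26694, 27705), (26695, 25501), (26696, 27873), (26697, 27871), (26698, 27872), (26699, 27366), (26700, 27675), (26701, 27523), (26702, 25511), (26703, 27521), (26704, 27146), (26705, 25514), (26706, 27682), (26707, 27683), (26708, 26708), (26709, 25522), (26710, 25519), (26711, 25525), (26712, 25556), (26713, 27900), (26714, 27901), (26715, 25524), (26716, 27905), (26717, 25547), (26718, 25544), (26719, 25528), (26720, 27132), (26721, 27148), (26722, 27590), (26723, 27842), (26724, 25550), (26725, 25535), (26726, 25553), (26727, 25554), (26728, 25552), (26729, 25539), (26730, 27916),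 (26731, 27907), (26732, 25541), (26733, 27914), (26734, 27337), (26735, 25543), (26736, 27906), (26737, 27904), (26738, 25549), (26739, 27339), (26740, 27845), (26741, 27902), (26742, 27910), (26743, 27911), (26744, 27912), (26745, 26892), (26746, 26891), (26747, 27736), (26748, 26905), (26749, 25567), (26750, 27928), (26751, 25854)]
    ⟨e3 q26688 (flp_c L796181) q27868, e3 q26689 L784212 q25496, e3 q26690 (flp_c L791716) q27334, e3 q26691 (flp_c L796191) q27870, e3 q26692 (flp_c L784226) q25499, e3 q26693 (flp_c L796302) q27886, e3 q26694 (flp_c L795117) q27705, e3 q26695 L784252 q25501, e3 q26696 (flp_c L796217) q27873, e3 q26697 (flp_c L796197) q27871, e3 q26698 (flp_c L796207) q27872, e3 q26699 (flp_c L792031) q27366, e3 q26700 (flp_c L794886) q27675, e3 q26701 (flp_c L793477) q27523, e3 q26702 L784298 q25511, e3 q26703 (flp_c L793457) q27521, e3 q26704 (flp_c L789763) q27146, e3 q26705 L784314 q25514, e3 q26706 (flp_c L794933) q27682, e3 q26707 (flp_c L794941) q27683, e3 q26708 L784328 q26708, e3 q26709 L784337 q25522,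 e3 q26710 L784341 q25519, e3 q26711 L784351 q25525, e3 q26712 L784361 q25556, e3 q26713 (flp_c L796383) q27900, e3 q26714 (flp_c L796395) q27901, e3 q26715 L784385 q25524, e3 q26716 (flp_c L796431) q27905, e3 q26717 L784407 q25547, e3 q26718 L784417 q25544, e3 q26719 L784425 q25528, e3 q26720 (flp_c L789636) q27132, e3 q26721 (flp_c L789777) q27148, e3 q26722 (flp_c L794146) q27590, e3 q26723 (flp_c L796022) q27842, e3 q26724 L784451 q25550, e3 q26725 L784455 q25535, e3 q26726 L784461 q25553, e3 q26727 L784469 q25554, e3 q26728 L784475 q25552, e3 q26729 (flp_c L784477) q25539, e3 q26730 (flp_c L796507) q27916, e3 q26731 (flp_c L796451) q27907, e3 q26732 L784499 q25541, e3 q26733 (flp_c L796495) q27914, e3 q26734 (flp_c L791750) q27337, e3 q26735 L784519 q25543, e3 q26736 (flp_c L796441) q27906, e3 q26737 (flp_c L796421) q27904, e3 q26738 L784539 q25549, e3 q26739 (flp_c L791766) q27339, e3 q26740 (flp_c L796042) q27845, e3 q26741 (flp_c L796409) q27902, e3 q26742 (flp_c L796469) q27910, e3 q26743 (flp_c L796477) q27911, e3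 q26744 (flp_c L796485) q27912, e3 q26745 (flp_c L786619) q26892, e3 q26746 (flp_c L786601) q26891, e3 q26747 (flp_c L795316) q27736, e3 q26748 (flp_c L786808) q26905, e3 q26749 (flp_c L784595) q25567, e3 q26750 (flp_c L796597) q27928, e3 q26751 L784643 q25854, trivial⟩ (by decide +kernel)

theorem ce_c_418 : ∀ r, r < 64 → sm gc (Qf (26752 + r)) = Qf (tab Gen.c (26752 + r)) :=
  edges_tab (sm gc) Qf (tab Gen.c) 26752 [(26752, 25570), (26753, 25858), (26754, 25572), (26755, 25966), (26756, 25868), (26757, 25575), (26758, 25870), (26759, 27936), (26760, 25667), (26761, 25580), (26762, 27939), (26763, 25945), (26764, 25960), (26765, 25583), (26766, 25962), (26767, 25978), (26768, 26534), (26769, 25588), (26770, 26008), (26771, 25590), (26772, 26010), (26773, 26011), (26774, 25595), (26775, 27949), (26776, 27948), (26777, 25820), (26778, 27951), (26779, 25598), (26780, 27954), (26781, 25600), (26782, 27956), (26783, 27958), (26784, 27960), (26785, 25603), (26786, 27963), (26787, 25727), (26788, 25605), (26789, 27967), (26790,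 26042), (26791, 25607), (26792, 27970), (26793, 25609), (26794, 27973), (26795, 25739), (26796, 27976), (26797, 25612), (26798, 27979), (26799, 26047), (26800, 27981), (26801, 25615), (26802, 27984), (26803, 26408), (26804, 25617), (26805, 27988), (26806, 26048), (26807, 25620), (26808, 26050), (26809, 25719), (26810, 25623), (26811, 27992), (26812, 25625), (26813, 27991), (26814, 26054), (26815, 25628)]
    ⟨e3 q26752 (flp_c L784645) q25570, e3 q26753 L784677 q25858, e3 q26754 (flp_c L784679) q25572, e3 q26755 L784711 q25966, e3 q26756 L784721 q25868, e3 q26757 L784727 q25575, e3 q26758 L784739 q25870, e3 q26759 (flp_c L796739) q27936, e3 q26760 L784771 q25667, e3 q26761 L784796 q25580, e3 q26762 (flp_c L796777) q27939, e3 q26763 L784832 q25945, e3 q26764 L784848 q25960, e3 q26765 L784854 q25583, e3 q26766 L784868 q25962, e3 q26767 L784882 q25978, e3 q26768 L784896 q26534, e3 q26769 (flp_c L784914) q25588, e3 q26770 L784944 q26008, e3 q26771 L784950 q25590, e3 q26772 L784966 q26010, e3 q26773 L784982 q26011, e3 q26774 L784998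 q25595, e3 q26775 L796939 q27949, e3 q26776 (flp_c L796929) q27948, e3 q26777 L785040 q25820, e3 q26778 L796973 q27951, e3 q26779 (flp_c L785065) q25598, e3 q26780 L797022 q27954, e3 q26781 (flp_c L785097) q25600, e3 q26782 (flp_c L797060) q27956, e3 q26783 L797081 q27958, e3 q26784 L797112 q27960, e3 q26785 (flp_c L785158) q25603, e3 q26786 (flp_c L797157) q27963, e3 q26787 L785186 q25727, e3 q26788 (flp_c L785194) q25605, e3 q26789 (flp_c L797205) q27967, e3 q26790 L785231 q26042, e3 q26791 (flp_c L785233) q25607, e3 q26792 L797247 q27970, e3 q26793 (flp_c L785267) q25609, e3 q26794 (flp_c L797296) q27973, e3 q26795 L785301 q25739, e3 q26796 L797337 q27976, e3 q26797 (flp_c L785326) q25612, e3 q26798 (flp_c L797385) q27979, e3 q26799 L785360 q26047, e3 q26800 L797405 q27981, e3 q26801 (flp_c L785378) q25615, e3 q26802 (flp_c L797450) q27984, e3 q26803 L785409 q26408, e3 q26804 L785415 q25617, e3 q26805 (flp_c L797499) q27988, e3 q26806 L785447 q26048, e3 q26807 L785453 q25620, e3 q26808 L785463 q26050, e3 q26809 L785479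 q25719, e3 q26810 (flp_c L785489) q25623, e3 q26811 (flp_c L797555) q27992, e3 q26812 L785524 q25625, e3 q26813 (flp_c L797545) q27991, e3 q26814 L785561 q26054, e3 q26815 (flp_c L785563) q25628, trivial⟩ (by decide +kernel)

theorem ce_c_419 : ∀ r, r < 64 → sm gc (Qf (26816 + r)) = Qf (tab Gen.c (26816 + r)) :=
  edges_tab (sm gc) Qf (tab Gen.c) 26816 [(26816, 27998), (26817, 26637), (26818, 25630), (26819, 28002), (26820, 25778), (26821, 25632), (26822, 28005), (26823, 26056), (26824, 25634), (26825, 26058), (26826, 28010), (26827, 25637), (26828, 28013), (26829, 25647), (26830, 25639), (26831, 28016), (26832, 25641), (26833, 28019), (26834, 25642), (26835, 28022), (26836, 28012), (26837, 25644), (26838, 28026), (26839, 26373), (26840, 25646), (26841, 28031), (26842, 28014), (26843, 28015), (26844, 25649), (26845, 28034), (26846, 26067), (26847, 26068), (26848, 25663), (26849, 25655), (26850, 26518), (26851, 25710), (26852, 25659), (26853, 26324), (26854, 28009), (26855, 28030), (26856, 28037), (26857, 26520), (26858, 27938),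 (26859, 26020), (26860, 26519), (26861, 25673), (26862, 25696), (26863, 28046), (26864, 28047), (26865, 25678), (26866, 25679), (26867, 28051), (26868, 25699), (26869, 25682), (26870, 28054), (26871, 26098), (26872, 25684), (26873, 25705), (26874, 25686), (26875, 25707), (26876, 25688), (26877, 28060), (26878, 26604), (26879, 28044)]
    ⟨e3 q26816 (flp_c L797645) q27998, e3 q26817 L785601 q26637, e3 q26818 L785607 q25630, e3 q26819 (flp_c L797701) q28002, e3 q26820 L785635 q25778, e3 q26821 (flp_c L785645) q25632, e3 q26822 (flp_c L797739) q28005, e3 q26823 L785677 q26056, e3 q26824 L785683 q25634, e3 q26825 L785693 q26058, e3 q26826 L797797 q28010, e3 q26827 (flp_c L785717) q25637, e3 q26828 (flp_c L797849) q28013, e3 q26829 L785759 q25647, e3 q26830 L785765 q25639, e3 q26831 L797893 q28016, e3 q26832 (flp_c L785793) q25641, e3 q26833 (flp_c L797942) q28019, e3 q26834 (flp_c L785820) q25642, e3 q26835 (flp_c L797979) q28022, e3 q26836 (flp_c L797843) q28012, e3 q26837 L785858 q25644, e3 q26838 (flp_c L798029) q28026, e3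 q26839 L785890 q26373, e3 q26840 L785896 q25646, e3 q26841 (flp_c L798095) q28031, e3 q26842 (flp_c L797863) q28014, e3 q26843 (flp_c L797881) q28015, e3 q26844 L785936 q25649, e3 q26845 (flp_c L798127) q28034, e3 q26846 L785958 q26067, e3 q26847 L785970 q26068, e3 q26848 L785984 q25663, e3 q26849 L785992 q25655, e3 q26850 L786007 q26518, e3 q26851 L786022 q25710, e3 q26852 L786038 q25659, e3 q26853 L786054 q26324, e3 q26854 (flp_c L797793) q28009, e3 q26855 (flp_c L798085) q28030, e3 q26856 (flp_c L798163) q28037, e3 q26857 L786107 q26520, e3 q26858 (flp_c L796765) q27938, e3 q26859 L786134 q26020, e3 q26860 L786151 q26519, e3 q26861 (flp_c L786159) q25673, e3 q26862 L786191 q25696, e3 q26863 L798295 q28046, e3 q26864 L798311 q28047, e3 q26865 (flp_c L786225) q25678, e3 q26866 (flp_c L786239) q25679, e3 q26867 (flp_c L798376) q28051, e3 q26868 L786279 q25699, e3 q26869 (flp_c L786281) q25682, e3 q26870 (flp_c L798422) q28054, e3 q26871 L786324 q26098, e3 q26872 L786330 q25684, e3 q26873 L786354 q25705, e3 q26874 L786360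 q25686, e3 q26875 L786376 q25707, e3 q26876 (flp_c L786384) q25688, e3 q26877 (flp_c L798518) q28060, e3 q26878 L786429 q26604, e3 q26879 (flp_c L798275) q28044, trivial⟩ (by decide +kernel)

theorem ce_c_420 : ∀ r, r < 64 → sm gc (Qf (26880 + r)) = Qf (tab Gen.c (26880 + r)) :=
  edges_tab (sm gc) Qf (tab Gen.c) 26880 [(26880, 25691), (26881, 28064), (26882, 26129), (26883, 25693), (26884, 26080), (26885, 25695), (26886, 28045), (26887, 25697), (26888, 28070), (26889, 28049), (26890, 28052), (26891, 26746), (26892, 26745), (26893, 25702), (26894, 28074), (26895, 26032), (26896, 25704), (26897, 28057), (26898, 28058), (26899, 28078), (26900, 28039), (26901, 28081), (26902, 28083), (26903, 25713), (26904, 28086), (26905, 26748), (26906, 28089), (26907, 25716), (26908, 28092), (26909, 26152), (26910, 28094), (26911, 27975), (26912, 25720), (26913, 28097), (26914, 25722), (26915, 28088), (26916, 25723), (26917, 28101), (26918, 25724), (26919, 28104), (26920, 28096), (26921, 25726), (26922, 28108), (26923, 27965), (26924, 26174),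 (26925, 25729), (26926, 26176), (26927, 28113), (26928, 25732), (26929, 28116), (26930, 26181), (26931, 25734), (26932, 28119), (26933, 25736), (26934, 28121), (26935, 28118), (26936, 25738), (26937, 28124), (26938, 25740), (26939, 28126), (26940, 26189), (26941, 25742), (26942, 26191), (26943, 25744)]
    ⟨e3 q26880 (flp_c L786443) q25691, e3 q26881 (flp_c L798580) q28064, e3 q26882 L786488 q26129, e3 q26883 L786494 q25693, e3 q26884 L786518 q26080, e3 q26885 L786524 q25695, e3 q26886 (flp_c L798279) q28045, e3 q26887 (flp_c L786546) q25697, e3 q26888 (flp_c L798672) q28070, e3 q26889 (flp_c L798356) q28049, e3 q26890 (flp_c L798390) q28052, e3 q26891 L786601 q26746, e3 q26892 L786619 q26745, e3 q26893 (flp_c L786631) q25702, e3 q26894 (flp_c L798734) q28074, e3 q26895 L786677 q26032, e3 q26896 L786683 q25704, e3 q26897 (flp_c L798464) q28057, e3 q26898 (flp_c L798484) q28058, e3 q26899 L798794 q28078, e3 q26900 (flp_c L798193) q28039, e3 q26901 L798838 q28081, e3 q26902 L798869 q28083, e3 q26903 (flp_c L786780) q25713,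 e3 q26904 (flp_c L798914) q28086, e3 q26905 L786808 q26748, e3 q26906 L798946 q28089, e3 q26907 (flp_c L786832) q25716, e3 q26908 (flp_c L798993) q28092, e3 q26909 L786867 q26152, e3 q26910 L799013 q28094, e3 q26911 (flp_c L797326) q27975, e3 q26912 (flp_c L786898) q25720, e3 q26913 (flp_c L799057) q28097, e3 q26914 L786918 q25722, e3 q26915 (flp_c L798938) q28088, e3 q26916 (flp_c L786935) q25723, e3 q26917 (flp_c L799095) q28101, e3 q26918 (flp_c L786958) q25724, e3 q26919 (flp_c L799128) q28104, e3 q26920 (flp_c L799053) q28096, e3 q26921 L786991 q25726, e3 q26922 (flp_c L799167) q28108, e3 q26923 (flp_c L797181) q27965, e3 q26924 L787027 q26174, e3 q26925 L787031 q25729, e3 q26926 L787041 q26176, e3 q26927 L799214 q28113, e3 q26928 (flp_c L787065) q25732, e3 q26929 (flp_c L799259) q28116, e3 q26930 L787098 q26181, e3 q26931 (flp_c L787100) q25734, e3 q26932 (flp_c L799299) q28119, e3 q26933 (flp_c L787130) q25736, e3 q26934 (flp_c L799327) q28121, e3 q26935 (flp_c L799293) q28118, e3 q26936 L787171 q25738, e3 q26937 (flp_c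 L799361) q28124, e3 q26938 (flp_c L787193) q25740, e3 q26939 (flp_c L799387) q28126, e3 q26940 L787229 q26189, e3 q26941 L787235 q25742, e3 q26942 L787243 q26191, e3 q26943 (flp_c L787249) q25744, trivial⟩ (by decide +kernel)

theorem ce_c_421 : ∀ r, r < 64 → sm gc (Qf (26944 + r)) = Qf (tab Gen.c (26944 + r)) :=
  edges_tab (sm gc) Qf (tab Gen.c) 26944 [(26944, 28132), (26945, 25752), (26946, 25746), (26947, 25747), (26948, 25748), (26949, 28137), (26950, 28131), (26951, 25750), (26952, 28141), (26953, 26258), (26954, 28133), (26955, 28134), (26956, 25754), (26957, 25755), (26958, 28146), (26959, 26204), (26960, 25757), (26961, 26206), (26962, 26207), (26963, 25764), (26964, 26327), (26965, 28130), (26966, 28151), (26967, 28154), (26968, 25766), (26969, 28157), (26970, 26230), (26971, 25768), (26972, 26232), (26973, 25770), (26974, 28163), (26975, 25775), (26976, 25773), (26977, 28166), (26978, 28164), (26979, 28165), (26980, 25777), (26981, 28169), (26982, 25779), (26983, 28171), (26984, 26252), (26985, 25781), (26986,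 28174), (26987, 26255), (26988, 26256), (26989, 25817), (26990, 25785), (26991, 26199), (26992, 25787), (26993, 25788), (26994, 28181), (26995, 25797), (26996, 25790), (26997, 25802), (26998, 25803), (26999, 25804), (27000, 25794), (27001, 28180), (27002, 25796), (27003, 28182), (27004, 28183), (27005, 25799), (27006, 28191), (27007, 25800)]
    ⟨e3 q26944 (flp_c L799467) q28132, e3 q26945 L787292 q25752, e3 q26946 L787298 q25746, e3 q26947 (flp_c L787308) q25747, e3 q26948 (flp_c L787324) q25748, e3 q26949 (flp_c L799543) q28137, e3 q26950 (flp_c L799461) q28131, e3 q26951 L787365 q25750, e3 q26952 (flp_c L799578) q28141, e3 q26953 L787402 q26258, e3 q26954 (flp_c L799481) q28133, e3 q26955 (flp_c L799497) q28134, e3 q26956 L787424 q25754, e3 q26957 (flp_c L787432) q25755, e3 q26958 (flp_c L799648) q28146, e3 q26959 L787478 q26204, e3 q26960 L787484 q25757, e3 q26961 L787498 q26206, e3 q26962 L787508 q26207, e3 q26963 L787520 q25764, e3 q26964 L787530 q26327, e3 q26965 (flp_c L799443) q28130, e3 q26966 (flp_c L799718) q28151,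 e3 q26967 L799754 q28154, e3 q26968 (flp_c L787579) q25766, e3 q26969 (flp_c L799803) q28157, e3 q26970 L787608 q26230, e3 q26971 L787612 q25768, e3 q26972 L787622 q26232, e3 q26973 (flp_c L787628) q25770, e3 q26974 (flp_c L799871) q28163, e3 q26975 L787672 q25775, e3 q26976 L787676 q25773, e3 q26977 (flp_c L799911) q28166, e3 q26978 (flp_c L799887) q28164, e3 q26979 (flp_c L799901) q28165, e3 q26980 L787724 q25777, e3 q26981 (flp_c L799949) q28169, e3 q26982 (flp_c L787746) q25779, e3 q26983 (flp_c L799975) q28171, e3 q26984 L787786 q26252, e3 q26985 L787792 q25781, e3 q26986 (flp_c L800017) q28174, e3 q26987 L787814 q26255, e3 q26988 L787830 q26256, e3 q26989 L787844 q25817, e3 q26990 (flp_c L787850) q25785, e3 q26991 L787876 q26199, e3 q26992 L787882 q25787, e3 q26993 (flp_c L787892) q25788, e3 q26994 (flp_c L800113) q28181, e3 q26995 L787938 q25797, e3 q26996 L787942 q25790, e3 q26997 L787968 q25802, e3 q26998 L787972 q25803, e3 q26999 L787982 q25804, e3 q27000 L787990 q25794, e3 q27001 (flp_c L800107) q28180, e3 q27002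 L788016 q25796, e3 q27003 (flp_c L800129) q28182, e3 q27004 (flp_c L800145) q28183, e3 q27005 L788058 q25799, e3 q27006 (flp_c L800257) q28191, e3 q27007 (flp_c L788088) q25800, trivial⟩ (by decide +kernel)

theorem ce_c_422 : ∀ r, r < 64 → sm gc (Qf (27008 + r)) = Qf (tab Gen.c (27008 + r)) :=
  edges_tab (sm gc) Qf (tab Gen.c) 27008 [(27008, 26674), (27009, 28184), (27010, 28185), (27011, 28186), (27012, 25806), (27013, 26294), (27014, 25808), (27015, 26296), (27016, 26297), (27017, 26299), (27018, 28200), (27019, 25819), (27020, 28203), (27021, 25818), (27022, 28202), (27023, 25823), (27024, 25837), (27025, 25825), (27026, 25826), (27027, 28208), (27028, 25828), (27029, 28210), (27030, 26557), (27031, 25831), (27032, 28204), (27033, 27930), (27034, 25834), (27035, 26571), (27036, 25836), (27037, 28205), (27038, 28218), (27039, 28220), (27040, 25840), (27041, 28223), (27042, 25934), (27043, 25842), (27044, 28226), (27045, 26383), (27046, 26592), (27047, 25845), (27048, 28230), (27049, 25847), (27050, 28232), (27051, 28229),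 (27052, 25849), (27053, 28236), (27054, 25851), (27055, 28238), (27056, 27927), (27057, 25853), (27058, 27929), (27059, 28241), (27060, 26343), (27061, 27931), (27062, 25863), (27063, 25860), (27064, 28073), (27065, 25862), (27066, 28243), (27067, 28244), (27068, 25865), (27069, 25914), (27070, 25867), (27071, 27934)]
    ⟨e3 q27008 L788120 q26674, e3 q27009 (flp_c L800157) q28184, e3 q27010 (flp_c L800179) q28185, e3 q27011 (flp_c L800187) q28186, e3 q27012 L788152 q25806, e3 q27013 L788168 q26294, e3 q27014 L788172 q25808, e3 q27015 L788182 q26296, e3 q27016 L788192 q26297, e3 q27017 L788200 q26299, e3 q27018 L800365 q28200, e3 q27019 L788212 q25819, e3 q27020 L800397 q28203, e3 q27021 (flp_c L788236) q25818, e3 q27022 (flp_c L800389) q28202, e3 q27023 (flp_c L788260) q25823, e3 q27024 L788292 q25837, e3 q27025 (flp_c L788294) q25825, e3 q27026 (flp_c L788312) q25826, e3 q27027 (flp_c L800487) q28208, e3 q27028 (flp_c L788342) q25828, e3 q27029 (flp_c L800519) q28210, e3 q27030 L788386 q26557, e3 q27031 (flp_c L788388)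 q25831, e3 q27032 (flp_c L800431) q28204, e3 q27033 (flp_c L796645) q27930, e3 q27034 L788434 q25834, e3 q27035 L788458 q26571, e3 q27036 L788464 q25836, e3 q27037 (flp_c L800435) q28205, e3 q27038 L800641 q28218, e3 q27039 L800672 q28220, e3 q27040 (flp_c L788518) q25840, e3 q27041 (flp_c L800715) q28223, e3 q27042 L788542 q25934, e3 q27043 (flp_c L788550) q25842, e3 q27044 (flp_c L800749) q28226, e3 q27045 L788587 q26383, e3 q27046 L788599 q26592, e3 q27047 (flp_c L788601) q25845, e3 q27048 (flp_c L800805) q28230, e3 q27049 (flp_c L788635) q25847, e3 q27050 (flp_c L800835) q28232, e3 q27051 (flp_c L800799) q28229, e3 q27052 L788670 q25849, e3 q27053 (flp_c L800884) q28236, e3 q27054 (flp_c L788694) q25851, e3 q27055 (flp_c L800916) q28238, e3 q27056 (flp_c L796591) q27927, e3 q27057 L788736 q25853, e3 q27058 (flp_c L796613) q27929, e3 q27059 (flp_c L800956) q28241, e3 q27060 L788784 q26343, e3 q27061 (flp_c L796649) q27931, e3 q27062 L788802 q25863, e3 q27063 L788808 q25860, e3 q27064 (flp_c L798728) q28073, e3 q27065 L788836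 q25862, e3 q27066 (flp_c L800982) q28243, e3 q27067 (flp_c L800994) q28244, e3 q27068 L788868 q25865, e3 q27069 L788888 q25914, e3 q27070 L788894 q25867, e3 q27071 (flp_c L796703) q27934, trivial⟩ (by decide +kernel)

theorem ce_c_423 : ∀ r, r < 64 → sm gc (Qf (27072 + r)) = Qf (tab Gen.c (27072 + r)) :=
  edges_tab (sm gc) Qf (tab Gen.c) 27072 [(27072, 27935), (27073, 25871), (27074, 25898), (27075, 25904), (27076, 28255), (27077, 25875), (27078, 25876), (27079, 28258), (27080, 28256), (27081, 25878), (27082, 25916), (27083, 25880), (27084, 28262), (27085, 28264), (27086, 25883), (27087, 28267), (27088, 26551), (27089, 25885), (27090, 28271), (27091, 26601), (27092, 25887), (27093, 28212), (27094, 25889), (27095, 28276), (27096, 25891), (27097, 28278), (27098, 25892), (27099, 28275), (27100, 25894), (27101, 28283), (27102, 28237), (27103, 25897), (27104, 28253), (27105, 28286), (27106, 28206), (27107, 28280), (27108, 25902), (27109, 26580), (27110, 28254), (27111, 25911), (27112, 25906), (27113, 28295), (27114, 28294), (27115,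 28273), (27116, 25910), (27117, 28299), (27118, 28292), (27119, 28293), (27120, 25913), (27121, 28249), (27122, 28250), (27123, 25919), (27124, 28298), (27125, 28304), (27126, 26144), (27127, 28307), (27128, 28308), (27129, 25923), (27130, 25924), (27131, 28312), (27132, 26720), (27133, 25926), (27134, 28315), (27135, 25928)]
    ⟨e3 q27072 (flp_c L796717) q27935, e3 q27073 L788930 q25871, e3 q27074 L788946 q25898, e3 q27075 L788956 q25904, e3 q27076 L801138 q28255, e3 q27077 (flp_c L788974) q25875, e3 q27078 (flp_c L788988) q25876, e3 q27079 (flp_c L801186) q28258, e3 q27080 (flp_c L801166) q28256, e3 q27081 L789031 q25878, e3 q27082 L789041 q25916, e3 q27083 (flp_c L789047) q25880, e3 q27084 L801236 q28262, e3 q27085 L801267 q28264, e3 q27086 (flp_c L789095) q25883, e3 q27087 (flp_c L801314) q28267, e3 q27088 L789127 q26551, e3 q27089 (flp_c L789135) q25885, e3 q27090 (flp_c L801368) q28271, e3 q27091 L789172 q26601, e3 q27092 (flp_c L789174) q25887, e3 q27093 (flp_c L800563) q28212, e3 q27094 (flp_c L789196) q25889, e3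 q27095 (flp_c L801434) q28276, e3 q27096 (flp_c L789226) q25891, e3 q27097 (flp_c L801460) q28278, e3 q27098 (flp_c L789249) q25892, e3 q27099 (flp_c L801428) q28275, e3 q27100 L789279 q25894, e3 q27101 (flp_c L801523) q28283, e3 q27102 (flp_c L800910) q28237, e3 q27103 L789311 q25897, e3 q27104 (flp_c L801112) q28253, e3 q27105 (flp_c L801561) q28286, e3 q27106 (flp_c L800467) q28206, e3 q27107 (flp_c L801499) q28280, e3 q27108 (flp_c L789353) q25902, e3 q27109 L789377 q26580, e3 q27110 (flp_c L801128) q28254, e3 q27111 L789393 q25911, e3 q27112 L789397 q25906, e3 q27113 (flp_c L801666) q28295, e3 q27114 (flp_c L801656) q28294, e3 q27115 (flp_c L801406) q28273, e3 q27116 L789449 q25910, e3 q27117 (flp_c L801716) q28299, e3 q27118 (flp_c L801628) q28292, e3 q27119 (flp_c L801638) q28293, e3 q27120 L789489 q25913, e3 q27121 (flp_c L801060) q28249, e3 q27122 (flp_c L801076) q28250, e3 q27123 L789517 q25919, e3 q27124 (flp_c L801706) q28298, e3 q27125 (flp_c L801766) q28304, e3 q27126 L789553 q26144, e3 q27127 L801801 q28307,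 e3 q27128 L801817 q28308, e3 q27129 (flp_c L789593) q25923, e3 q27130 (flp_c L789605) q25924, e3 q27131 (flp_c L801872) q28312, e3 q27132 L789636 q26720, e3 q27133 (flp_c L789638) q25926, e3 q27134 (flp_c L801904) q28315, e3 q27135 L789658 q25928, trivial⟩ (by decide +kernel)

theorem ce_c_424 : ∀ r, r < 64 → sm gc (Qf (27136 + r)) = Qf (tab Gen.c (27136 + r)) :=
  edges_tab (sm gc) Qf (tab Gen.c) 27136 [(27136, 28318), (27137, 28320), (27138, 25930), (27139, 28322), (27140, 25931), (27141, 28325), (27142, 28314), (27143, 25933), (27144, 28329), (27145, 26213), (27146, 26704), (27147, 25936), (27148, 26721), (27149, 26594), (27150, 28336), (27151, 25940), (27152, 28339), (27153, 26530), (27154, 25942), (27155, 26554), (27156, 25944), (27157, 27940), (27158, 25946), (27159, 28345), (27160, 25955), (27161, 25948), (27162, 28349), (27163, 25950), (27164, 28351), (27165, 28344), (27166, 25952), (27167, 28356), (27168, 26523), (27169, 25954), (27170, 28347), (27171, 28348), (27172, 25957), (27173, 26573), (27174, 25959), (27175,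 27941), (27176, 27942), (27177, 25963), (27178, 28365), (27179, 27932), (27180, 25965), (27181, 27933), (27182, 28369), (27183, 25968), (27184, 28372), (27185, 25969), (27186, 28374), (27187, 26540), (27188, 25971), (27189, 26543), (27190, 25973), (27191, 26546), (27192, 26547), (27193, 26559), (27194, 26560), (27195, 25979), (27196, 28290), (27197, 25981), (27198, 28384), (27199, 25982)]
    ⟨e3 q27136 (flp_c L801930) q28318, e3 q27137 L801954 q28320, e3 q27138 (flp_c L789689) q25930, e3 q27139 (flp_c L801980) q28322, e3 q27140 (flp_c L789704) q25931, e3 q27141 (flp_c L802003) q28325, e3 q27142 (flp_c L801900) q28314, e3 q27143 L789731 q25933, e3 q27144 (flp_c L802034) q28329, e3 q27145 L789745 q26213, e3 q27146 L789763 q26704, e3 q27147 L789767 q25936, e3 q27148 L789777 q26721, e3 q27149 L789797 q26594, e3 q27150 L802107 q28336, e3 q27151 (flp_c L789815) q25940, e3 q27152 (flp_c L802154) q28339, e3 q27153 L789848 q26530, e3 q27154 L789852 q25942, e3 q27155 L789866 q26554, e3 q27156 L789870 q25944, e3 q27157 (flp_c L796797)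 q27940, e3 q27158 (flp_c L789882) q25946, e3 q27159 (flp_c L802220) q28345, e3 q27160 L789921 q25955, e3 q27161 L789927 q25948, e3 q27162 (flp_c L802277) q28349, e3 q27163 (flp_c L789953) q25950, e3 q27164 (flp_c L802299) q28351, e3 q27165 (flp_c L802214) q28344, e3 q27166 L789978 q25952, e3 q27167 (flp_c L802335) q28356, e3 q27168 L789997 q26523, e3 q27169 L790003 q25954, e3 q27170 (flp_c L802245) q28347, e3 q27171 (flp_c L802263) q28348, e3 q27172 L790027 q25957, e3 q27173 L790041 q26573, e3 q27174 L790045 q25959, e3 q27175 (flp_c L796817) q27941, e3 q27176 (flp_c L796837) q27942, e3 q27177 L790073 q25963, e3 q27178 (flp_c L802415) q28365, e3 q27179 (flp_c L796681) q27932, e3 q27180 L790092 q25965, e3 q27181 (flp_c L796685) q27933, e3 q27182 L802452 q28369, e3 q27183 (flp_c L790126) q25968, e3 q27184 (flp_c L802497) q28372, e3 q27185 (flp_c L790145) q25969, e3 q27186 (flp_c L802519) q28374, e3 q27187 L790179 q26540, e3 q27188 L790183 q25971, e3 q27189 L790197 q26543, e3 q27190 L790201 q25973, e3 q27191 L790207 q26546, e3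 q27192 L790217 q26547, e3 q27193 L790223 q26559, e3 q27194 L790235 q26560, e3 q27195 (flp_c L790241) q25979, e3 q27196 (flp_c L801612) q28290, e3 q27197 (flp_c L790267) q25981, e3 q27198 (flp_c L802627) q28384, e3 q27199 (flp_c L790290) q25982, trivial⟩ (by decide +kernel)

theorem ce_c_425 : ∀ r, r < 64 → sm gc (Qf (27200 + r)) = Qf (tab Gen.c (27200 + r)) :=
  edges_tab (sm gc) Qf (tab Gen.c) 27200 [(27200, 28387), (27201, 25995), (27202, 25984), (27203, 28391), (27204, 26000), (27205, 25986), (27206, 28394), (27207, 26003), (27208, 26004), (27209, 25989), (27210, 25990), (27211, 28398), (27212, 28383), (27213, 25992), (27214, 28403), (27215, 28386), (27216, 25994), (27217, 28407), (27218, 28389), (27219, 28390), (27220, 26024), (27221, 25997), (27222, 28413), (27223, 28207), (27224, 25999), (27225, 28392), (27226, 28393), (27227, 26014), (27228, 26002), (27229, 28395), (27230, 28396), (27231, 26006), (27232, 27943), (27233, 27944), (27234, 27945), (27235, 27946), (27236, 28421), (27237, 26015), (27238, 28419), (27239,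 28426), (27240, 26328), (27241, 26018), (27242, 28331), (27243, 28406), (27244, 26023), (27245, 28412), (27246, 26031), (27247, 26293), (27248, 26028), (27249, 26034), (27250, 28261), (27251, 28431), (27252, 28075), (27253, 28076), (27254, 26035), (27255, 28437), (27256, 27953), (27257, 28004), (27258, 26038), (27259, 28441), (27260, 27966), (27261, 26041), (27262, 27968), (27263, 26043)]
    ⟨e3 q27200 (flp_c L802662) q28387, e3 q27201 L790322 q25995, e3 q27202 L790326 q25984, e3 q27203 (flp_c L802712) q28391, e3 q27204 L790358 q26000, e3 q27205 L790364 q25986, e3 q27206 (flp_c L802752) q28394, e3 q27207 L790390 q26003, e3 q27208 L790402 q26004, e3 q27209 L790412 q25989, e3 q27210 (flp_c L790420) q25990, e3 q27211 (flp_c L802798) q28398, e3 q27212 (flp_c L802621) q28383, e3 q27213 L790443 q25992, e3 q27214 (flp_c L802830) q28403, e3 q27215 (flp_c L802658) q28386, e3 q27216 L790464 q25994, e3 q27217 (flp_c L802866) q28407, e3 q27218 (flp_c L802686) q28389, e3 q27219 (flp_c L802700) q28390, e3 q27220 L790498 q26024, e3 q27221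 L790506 q25997, e3 q27222 (flp_c L802922) q28413, e3 q27223 (flp_c L800481) q28207, e3 q27224 L790534 q25999, e3 q27225 (flp_c L802724) q28392, e3 q27226 (flp_c L802740) q28393, e3 q27227 L790554 q26014, e3 q27228 L790560 q26002, e3 q27229 (flp_c L802768) q28395, e3 q27230 (flp_c L802780) q28396, e3 q27231 L790576 q26006, e3 q27232 (flp_c L796865) q27943, e3 q27233 (flp_c L796869) q27944, e3 q27234 (flp_c L796887) q27945, e3 q27235 (flp_c L796907) q27946, e3 q27236 (flp_c L802978) q28421, e3 q27237 L790622 q26015, e3 q27238 (flp_c L802966) q28419, e3 q27239 (flp_c L803016) q28426, e3 q27240 L790641 q26328, e3 q27241 L790657 q26018, e3 q27242 (flp_c L802052) q28331, e3 q27243 (flp_c L802860) q28406, e3 q27244 L790696 q26023, e3 q27245 (flp_c L802912) q28412, e3 q27246 L790724 q26031, e3 q27247 L790738 q26293, e3 q27248 L790744 q26028, e3 q27249 L790758 q26034, e3 q27250 (flp_c L801234) q28261, e3 q27251 (flp_c L803072) q28431, e3 q27252 (flp_c L798750) q28075, e3 q27253 (flp_c L798768) q28076, e3 q27254 (flp_c L790810) q26035,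 e3 q27255 (flp_c L803152) q28437, e3 q27256 (flp_c L797020) q27953, e3 q27257 (flp_c L797733) q28004, e3 q27258 L790853 q26038, e3 q27259 (flp_c L803194) q28441, e3 q27260 (flp_c L797199) q27966, e3 q27261 L790881 q26041, e3 q27262 (flp_c L797217) q27968, e3 q27263 (flp_c L790897) q26043, trivial⟩ (by decide +kernel)

theorem ce_c_426 : ∀ r, r < 64 → sm gc (Qf (27264 + r)) = Qf (tab Gen.c (27264 + r)) :=
  edges_tab (sm gc) Qf (tab Gen.c) 27264 [(27264, 28446), (27265, 27969), (27266, 27978), (27267, 26046), (27268, 27980), (27269, 27989), (27270, 27990), (27271, 26091), (27272, 26566), (27273, 26053), (27274, 27996), (27275, 26639), (27276, 28007), (27277, 28008), (27278, 26062), (27279, 26640), (27280, 26375), (27281, 26118), (27282, 26064), (27283, 26132), (27284, 26133), (27285, 28035), (27286, 28195), (27287, 26070), (27288, 28461), (27289, 26097), (27290, 26100), (27291, 26109), (27292, 26588), (27293, 26076), (27294, 26120), (27295, 28059), (27296, 26079), (27297, 28067), (27298, 28068), (27299, 26083), (27300, 28471),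 (27301, 26609), (27302, 26085), (27303, 28474), (27304, 26472), (27305, 26087), (27306, 28478), (27307, 26139), (27308, 28053), (27309, 26090), (27310, 28451), (27311, 26092), (27312, 28484), (27313, 26620), (27314, 26094), (27315, 28487), (27316, 28050), (27317, 26096), (27318, 28462), (27319, 28055), (27320, 28056), (27321, 26104), (27322, 26102), (27323, 28269), (27324, 28491), (27325, 28494), (27326, 26105), (27327, 28498)]
    ⟨e3 q27264 (flp_c L803245) q28446, e3 q27265 (flp_c L797245) q27969, e3 q27266 (flp_c L797379) q27978, e3 q27267 L790952 q26046, e3 q27268 (flp_c L797395) q27980, e3 q27269 (flp_c L797511) q27989, e3 q27270 (flp_c L797527) q27990, e3 q27271 L791008 q26091, e3 q27272 L791018 q26566, e3 q27273 L791022 q26053, e3 q27274 (flp_c L797611) q27996, e3 q27275 L791040 q26639, e3 q27276 (flp_c L797765) q28007, e3 q27277 (flp_c L797777) q28008, e3 q27278 L791076 q26062, e3 q27279 L791094 q26640, e3 q27280 L791112 q26375, e3 q27281 L791136 q26118, e3 q27282 L791142 q26064, e3 q27283 L791150 q26132, e3 q27284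 L791160 q26133, e3 q27285 (flp_c L798145) q28035, e3 q27286 (flp_c L800319) q28195, e3 q27287 L791184 q26070, e3 q27288 (flp_c L803420) q28461, e3 q27289 L791222 q26097, e3 q27290 L791226 q26100, e3 q27291 L791242 q26109, e3 q27292 L791252 q26588, e3 q27293 L791256 q26076, e3 q27294 L791264 q26120, e3 q27295 (flp_c L798512) q28059, e3 q27296 L791280 q26079, e3 q27297 (flp_c L798626) q28067, e3 q27298 (flp_c L798644) q28068, e3 q27299 (flp_c L791302) q26083, e3 q27300 (flp_c L803537) q28471, e3 q27301 L791339 q26609, e3 q27302 (flp_c L791341) q26085, e3 q27303 (flp_c L803577) q28474, e3 q27304 L791374 q26472, e3 q27305 L791380 q26087, e3 q27306 (flp_c L803628) q28478, e3 q27307 L791408 q26139, e3 q27308 (flp_c L798416) q28053, e3 q27309 L791427 q26090, e3 q27310 (flp_c L803307) q28451, e3 q27311 (flp_c L791443) q26092, e3 q27312 (flp_c L803691) q28484, e3 q27313 L791486 q26620, e3 q27314 (flp_c L791488) q26094, e3 q27315 (flp_c L803731) q28487, e3 q27316 (flp_c L798370) q28050, e3 q27317 L791522 q26096, e3 q27318 (flp_c L803436)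 q28462, e3 q27319 (flp_c L798436) q28055, e3 q27320 (flp_c L798452) q28056, e3 q27321 L791568 q26104, e3 q27322 L791576 q26102, e3 q27323 (flp_c L801342) q28269, e3 q27324 (flp_c L803779) q28491, e3 q27325 (flp_c L803807) q28494, e3 q27326 (flp_c L791614) q26105, e3 q27327 (flp_c L803852) q28498, trivial⟩ (by decide +kernel)

theorem ce_c_427 : ∀ r, r < 64 → sm gc (Qf (27328 + r)) = Qf (tab Gen.c (27328 + r)) :=
  edges_tab (sm gc) Qf (tab Gen.c) 27328 [(27328, 26277), (27329, 28231), (27330, 26108), (27331, 28463), (27332, 26110), (27333, 28504), (27334, 26690), (27335, 26112), (27336, 28507), (27337, 26734), (27338, 26114), (27339, 26739), (27340, 28381), (27341, 26117), (27342, 28514), (27343, 28456), (27344, 28457), (27345, 26140), (27346, 26121), (27347, 26128), (27348, 26131), (27349, 26124), (27350, 28520), (27351, 28063), (27352, 26126), (27353, 26672), (27354, 28518), (27355, 28065), (27356, 28066), (27357, 26141), (27358, 28458), (27359, 28033), (27360, 26142), (27361, 26136), (27362, 28510), (27363, 28513), (27364,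 28527), (27365, 28530), (27366, 26699), (27367, 26146), (27368, 26147), (27369, 28535), (27370, 28533), (27371, 26149), (27372, 28538), (27373, 28091), (27374, 26151), (27375, 28093), (27376, 26153), (27377, 28543), (27378, 26155), (27379, 28546), (27380, 26156), (27381, 26157), (27382, 28550), (27383, 26168), (27384, 26159), (27385, 28555), (27386, 28554), (27387, 26161), (27388, 26326), (27389, 26162), (27390, 28559), (27391, 26163)]
    ⟨e3 q27328 L791655 q26277, e3 q27329 (flp_c L800831) q28231, e3 q27330 L791667 q26108, e3 q27331 (flp_c L803452) q28463, e3 q27332 (flp_c L791679) q26110, e3 q27333 (flp_c L803919) q28504, e3 q27334 L791716 q26690, e3 q27335 (flp_c L791718) q26112, e3 q27336 (flp_c L803957) q28507, e3 q27337 L791750 q26734, e3 q27338 L791756 q26114, e3 q27339 L791766 q26739, e3 q27340 (flp_c L802595) q28381, e3 q27341 L791786 q26117, e3 q27342 (flp_c L804027) q28514, e3 q27343 (flp_c L803368) q28456, e3 q27344 (flp_c L803382) q28457, e3 q27345 L791822 q26140, e3 q27346 (flp_c L791824) q26121, e3 q27347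 L791850 q26128, e3 q27348 L791854 q26131, e3 q27349 (flp_c L791864) q26124, e3 q27350 (flp_c L804095) q28520, e3 q27351 (flp_c L798574) q28063, e3 q27352 L791901 q26126, e3 q27353 L791919 q26672, e3 q27354 (flp_c L804067) q28518, e3 q27355 (flp_c L798594) q28065, e3 q27356 (flp_c L798612) q28066, e3 q27357 L791957 q26141, e3 q27358 (flp_c L803392) q28458, e3 q27359 (flp_c L798119) q28033, e3 q27360 L791975 q26142, e3 q27361 L791981 q26136, e3 q27362 (flp_c L803999) q28510, e3 q27363 (flp_c L804021) q28513, e3 q27364 (flp_c L804168) q28527, e3 q27365 (flp_c L804188) q28530, e3 q27366 L792031 q26699, e3 q27367 (flp_c L792033) q26146, e3 q27368 (flp_c L792045) q26147, e3 q27369 (flp_c L804244) q28535, e3 q27370 (flp_c L804224) q28533, e3 q27371 (flp_c L792080) q26149, e3 q27372 (flp_c L804274) q28538, e3 q27373 (flp_c L798987) q28091, e3 q27374 L792107 q26151, e3 q27375 (flp_c L799003) q28093, e3 q27376 (flp_c L792119) q26153, e3 q27377 (flp_c L804315) q28543, e3 q27378 L792149 q26155, e3 q27379 (flp_c L804351) q28546, e3 q27380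 (flp_c L792168) q26156, e3 q27381 (flp_c L792184) q26157, e3 q27382 (flp_c L804403) q28550, e3 q27383 L792205 q26168, e3 q27384 L792209 q26159, e3 q27385 (flp_c L804442) q28555, e3 q27386 (flp_c L804438) q28554, e3 q27387 L792229 q26161, e3 q27388 L792242 q26326, e3 q27389 (flp_c L792251) q26162, e3 q27390 (flp_c L804488) q28559, e3 q27391 (flp_c L792279) q26163, trivial⟩ (by decide +kernel)

theorem ce_c_428 : ∀ r, r < 64 → sm gc (Qf (27392 + r)) = Qf (tab Gen.c (27392 + r)) :=
  edges_tab (sm gc) Qf (tab Gen.c) 27392 [(27392, 28548), (27393, 26165), (27394, 28563), (27395, 28549), (27396, 26167), (27397, 28568), (27398, 28552), (27399, 28553), (27400, 26170), (27401, 28572), (27402, 26668), (27403, 26173), (27404, 28110), (27405, 28111), (27406, 27406), (27407, 28135), (27408, 26178), (27409, 28581), (27410, 28115), (27411, 26180), (27412, 28117), (27413, 26185), (27414, 26183), (27415, 28162), (27416, 28585), (27417, 26186), (27418, 28589), (27419, 28125), (27420, 26188), (27421, 28593), (27422, 28128), (27423, 28129),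 (27424, 26215), (27425, 26197), (27426, 26201), (27427, 26194), (27428, 28177), (27429, 28192), (27430, 28597), (27431, 26484), (27432, 28178), (27433, 28179), (27434, 28145), (27435, 26203), (27436, 28147), (27437, 28148), (27438, 26217), (27439, 28149), (27440, 28610), (27441, 26219), (27442, 26210), (27443, 26302), (27444, 28592), (27445, 28616), (27446, 28596), (27447, 28605), (27448, 28608), (27449, 26218), (27450, 28620), (27451, 28612), (27452, 26225), (27453, 26249), (27454, 26222), (27455, 28625)]
    ⟨e3 q27392 (flp_c L804389) q28548, e3 q27393 (flp_c L792303) q26165, e3 q27394 (flp_c L804534) q28563, e3 q27395 (flp_c L804399) q28549, e3 q27396 L792328 q26167, e3 q27397 (flp_c L804564) q28568, e3 q27398 (flp_c L804422) q28552, e3 q27399 (flp_c L804430) q28553, e3 q27400 L792349 q26170, e3 q27401 (flp_c L804585) q28572, e3 q27402 L792367 q26668, e3 q27403 L792371 q26173, e3 q27404 (flp_c L799185) q28110, e3 q27405 (flp_c L799199) q28111, e3 q27406 L792393 q27406, e3 q27407 (flp_c L799521) q28135, e3 q27408 (flp_c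 L792408) q26178, e3 q27409 (flp_c L804669) q28581, e3 q27410 (flp_c L799255) q28115, e3 q27411 L792439 q26180, e3 q27412 (flp_c L799271) q28117, e3 q27413 L792463 q26185, e3 q27414 (flp_c L792465) q26183, e3 q27415 (flp_c L799865) q28162, e3 q27416 (flp_c L804702) q28585, e3 q27417 (flp_c L792507) q26186, e3 q27418 (flp_c L804758) q28589, e3 q27419 (flp_c L799381) q28125, e3 q27420 L792537 q26188, e3 q27421 (flp_c L804792) q28593, e3 q27422 (flp_c L799411) q28128, e3 q27423 (flp_c L799427) q28129, e3 q27424 L792573 q26215, e3 q27425 L792587 q26197, e3 q27426 L792591 q26201, e3 q27427 (flp_c L792599) q26194, e3 q27428 (flp_c L800063) q28177, e3 q27429 (flp_c L800287) q28192, e3 q27430 (flp_c L804828) q28597, e3 q27431 L792655 q26484, e3 q27432 (flp_c L800067) q28178, e3 q27433 (flp_c L800083) q28179, e3 q27434 (flp_c L799642) q28145, e3 q27435 L792687 q26203, e3 q27436 (flp_c L799664) q28147, e3 q27437 (flp_c L799682) q28148, e3 q27438 L792719 q26217, e3 q27439 (flp_c L799698) q28149, e3 q27440 L804976 q28610, e3 q27441 L792741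 q26219, e3 q27442 L792751 q26210, e3 q27443 L792764 q26302, e3 q27444 (flp_c L804786) q28592, e3 q27445 L805039 q28616, e3 q27446 (flp_c L804818) q28596, e3 q27447 (flp_c L804930) q28605, e3 q27448 (flp_c L804958) q28608, e3 q27449 (flp_c L792825) q26218, e3 q27450 (flp_c L805088) q28620, e3 q27451 (flp_c L805000) q28612, e3 q27452 L792867 q26225, e3 q27453 L792881 q26249, e3 q27454 (flp_c L792883) q26222, e3 q27455 (flp_c L805153) q28625, trivial⟩ (by decide +kernel)

theorem ce_c_429 : ∀ r, r < 64 → sm gc (Qf (27456 + r)) = Qf (tab Gen.c (27456 + r)) :=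
  edges_tab (sm gc) Qf (tab Gen.c) 27456 [(27456, 28136), (27457, 26224), (27458, 28629), (27459, 28622), (27460, 26242), (27461, 26227), (27462, 28156), (27463, 26229), (27464, 28159), (27465, 28160), (27466, 27466), (27467, 26650), (27468, 26246), (27469, 26235), (27470, 26248), (27471, 26237), (27472, 28642), (27473, 26238), (27474, 28631), (27475, 26240), (27476, 26641), (27477, 28630), (27478, 26243), (27479, 28649), (27480, 28517), (27481, 26245), (27482, 28654), (27483, 28639), (27484, 28640), (27485, 26305), (27486, 28623), (27487, 28170), (27488, 26251), (27489, 28172), (27490, 28173), (27491, 26309), (27492, 26254), (27493, 28175), (27494, 28666), (27495, 26312), (27496, 28142), (27497, 26259), (27498, 26274), (27499, 26261), (27500, 26279), (27501, 26285), (27502, 26288), (27503, 26289), (27504, 26292), (27505, 26268), (27506, 28676), (27507, 26269), (27508, 28679), (27509, 28669), (27510, 26271), (27511, 28684), (27512, 28497), (27513, 26273), (27514, 28670), (27515, 28671), (27516, 27516), (27517, 26276), (27518,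 28499), (27519, 26667)]
    ⟨e3 q27456 (flp_c L799537) q28136, e3 q27457 L792916 q26224, e3 q27458 (flp_c L805186) q28629, e3 q27459 (flp_c L805111) q28622, e3 q27460 L792949 q26242, e3 q27461 L792965 q26227, e3 q27462 (flp_c L799797) q28156, e3 q27463 L792985 q26229, e3 q27464 (flp_c L799826) q28159, e3 q27465 (flp_c L799836) q28160, e3 q27466 L793005 q27466, e3 q27467 L793016 q26650, e3 q27468 L793026 q26246, e3 q27469 L793030 q26235, e3 q27470 L793036 q26248, e3 q27471 (flp_c L793040) q26237, e3 q27472 (flp_c L805318) q28642, e3 q27473 (flp_c L793061) q26238, e3 q27474 (flp_c L805220) q28631, e3 q27475 L793085 q26240, e3 q27476 L793101 q26641, e3 q27477 (flp_c L805204) q28630, e3 q27478 (flp_c L793109) q26243, e3 q27479 (flp_c L805389) q28649, e3 q27480 (flp_c L804063) q28517, e3 q27481 L793139 q26245, e3 q27482 (flp_c L805431) q28654, e3 q27483 (flp_c L805288) q28639, e3 q27484 (flp_c L805300) q28640, e3 q27485 L793175 q26305, e3 q27486 (flp_c L805125) q28623, e3 q27487 (flp_c L799969) q28170, e3 q27488 L793199 q26251,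 e3 q27489 (flp_c L799991) q28172, e3 q27490 (flp_c L800005) q28173, e3 q27491 L793221 q26309, e3 q27492 L793225 q26254, e3 q27493 (flp_c L800031) q28175, e3 q27494 L805519 q28666, e3 q27495 L793243 q26312, e3 q27496 (flp_c L799592) q28142, e3 q27497 (flp_c L793255) q26259, e3 q27498 L793271 q26274, e3 q27499 L793275 q26261, e3 q27500 L793283 q26279, e3 q27501 L793301 q26285, e3 q27502 L793305 q26288, e3 q27503 L793313 q26289, e3 q27504 L793319 q26292, e3 q27505 (flp_c L793327) q26268, e3 q27506 (flp_c L805612) q28676, e3 q27507 (flp_c L793348) q26269, e3 q27508 (flp_c L805639) q28679, e3 q27509 (flp_c L805551) q28669, e3 q27510 L793373 q26271, e3 q27511 (flp_c L805675) q28684, e3 q27512 (flp_c L803846) q28497, e3 q27513 L793394 q26273, e3 q27514 (flp_c L805555) q28670, e3 q27515 (flp_c L805565) q28671, e3 q27516 L793412 q27516, e3 q27517 L793417 q26276, e3 q27518 (flp_c L803864) q28499, e3 q27519 L793433 q26667, trivial⟩ (by decide +kernel)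

theorem ce_c_430 : ∀ r, r < 64 → sm gc (Qf (27520 + r)) = Qf (tab Gen.c (27520 + r)) :=
  edges_tab (sm gc) Qf (tab Gen.c) 27520 [(27520, 26332), (27521, 26703), (27522, 26457), (27523, 26701), (27524, 26333), (27525, 28560), (27526, 26284), (27527, 28701), (27528, 28673), (27529, 28150), (27530, 26287), (27531, 28674), (27532, 28607), (27533, 28433), (27534, 26314), (27535, 28432), (27536, 28196), (27537, 28197), (27538, 26315), (27539, 28198), (27540, 26515), (27541, 26316), (27542, 28713), (27543, 26300), (27544, 28715), (27545, 26320), (27546, 28319), (27547, 28653), (27548, 26304), (27549, 28657), (27550, 28660), (27551, 26377), (27552, 28721), (27553, 28664), (27554, 28723), (27555, 26311), (27556, 28725), (27557, 28668), (27558, 28707), (27559, 28712), (27560, 26317), (27561, 28727), (27562, 26319), (27563, 26335), (27564, 26325), (27565, 27993), (27566, 28547), (27567, 26330), (27568, 28728), (27569, 28698), (27570, 26533), (27571, 26340), (27572, 26526), (27573, 26575), (27574, 28242), (27575, 26353), (27576, 26346),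 (27577, 26355), (27578, 26612), (27579, 26349), (27580, 26614), (27581, 28209), (27582, 26352), (27583, 28731)]
    ⟨e3 q27520 L793449 q26332, e3 q27521 L793457 q26703, e3 q27522 L793469 q26457, e3 q27523 L793477 q26701, e3 q27524 L793485 q26333, e3 q27525 (flp_c L804508) q28560, e3 q27526 L793503 q26284, e3 q27527 (flp_c L805818) q28701, e3 q27528 (flp_c L805580) q28673, e3 q27529 L799712 q28150, e3 q27530 L793533 q26287, e3 q27531 (flp_c L805596) q28674, e3 q27532 (flp_c L804952) q28607, e3 q27533 (flp_c L803102) q28433, e3 q27534 L793565 q26314, e3 q27535 (flp_c L803084) q28432, e3 q27536 (flp_c L800331) q28196, e3 q27537 (flp_c L800341) q28197, e3 q27538 L793603 q26315, e3 q27539 (flp_c L800353) q28198, e3 q27540 (flp_c L793619) q26515, e3 q27541 L793623 q26316, e3 q27542 L805930 q28713, e3 q27543 (flp_c L793633) q26300, e3 q27544 (flp_c L805944) q28715, e3 q27545 L793645 q26320, e3 q27546 (flp_c L801944) q28319, e3 q27547 (flp_c L805425) q28653, e3 q27548 L793667 q26304, e3 q27549 (flp_c L805457) q28657, e3 q27550 (flp_c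 L805487) q28660, e3 q27551 L793698 q26377, e3 q27552 L805988 q28721, e3 q27553 (flp_c L805507) q28664, e3 q27554 L806002 q28723, e3 q27555 (flp_c L793730) q26311, e3 q27556 (flp_c L806026) q28725, e3 q27557 (flp_c L805537) q28668, e3 q27558 (flp_c L805874) q28707, e3 q27559 (flp_c L805924) q28712, e3 q27560 (flp_c L793773) q26317, e3 q27561 (flp_c L806046) q28727, e3 q27562 L793797 q26319, e3 q27563 L793812 q26335, e3 q27564 L793823 q26325, e3 q27565 (flp_c L797572) q27993, e3 q27566 (flp_c L804366) q28547, e3 q27567 L793854 q26330, e3 q27568 (flp_c L806058) q28728, e3 q27569 (flp_c L805796) q28698, e3 q27570 L793880 q26533, e3 q27571 L793896 q26340, e3 q27572 L793912 q26526, e3 q27573 L793928 q26575, e3 q27574 (flp_c L800964) q28242, e3 q27575 L793960 q26353, e3 q27576 L793964 q26346, e3 q27577 L793976 q26355, e3 q27578 L793998 q26612, e3 q27579 L794004 q26349, e3 q27580 L794016 q26614, e3 q27581 (flp_c L800513) q28209, e3 q27582 L794044 q26352, e3 q27583 (flp_c L806077) q28731, trivial⟩ (by decide +kernel)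

theorem ce_c_431 : ∀ r, r < 64 → sm gc (Qf (27584 + r)) = Qf (tab Gen.c (27584 + r)) :=
  edges_tab (sm gc) Qf (tab Gen.c) 27584 [(27584, 28732), (27585, 26598), (27586, 27997), (27587, 26359), (27588, 26603), (27589, 26605), (27590, 26722), (27591, 26367), (27592, 26368), (27593, 28742), (27594, 26397), (27595, 28018), (27596, 26372), (27597, 28028), (27598, 28029), (27599, 26376), (27600, 28748), (27601, 28747), (27602, 26379), (27603, 28751), (27604, 28225), (27605, 26382), (27606, 28227), (27607, 26392), (27608, 26385), (27609, 28757), (27610, 26387), (27611, 28759), (27612, 28542), (27613, 26389), (27614, 28762), (27615, 27972), (27616, 26391), (27617, 28755), (27618, 28756), (27619, 26394), (27620, 28768), (27621, 26602), (27622, 26405), (27623, 26399), (27624, 28772), (27625, 26410), (27626, 26411), (27627, 26402), (27628, 27983), (27629, 26404), (27630, 28769), (27631, 28770), (27632, 26407), (27633, 27986), (27634, 27987), (27635, 28773), (27636, 28774), (27637, 26417), (27638, 28771), (27639, 26423), (27640, 26419),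 (27641, 28784), (27642, 28519), (27643, 26422), (27644, 28782), (27645, 28783), (27646, 26426), (27647, 28790)]
    ⟨e3 q27584 (flp_c L806093) q28732, e3 q27585 L794074 q26598, e3 q27586 (flp_c L797639) q27997, e3 q27587 L794096 q26359, e3 q27588 L794106 q26603, e3 q27589 L794122 q26605, e3 q27590 L794146 q26722, e3 q27591 L794150 q26367, e3 q27592 L794160 q26368, e3 q27593 (flp_c L806220) q28742, e3 q27594 L794172 q26397, e3 q27595 (flp_c L797936) q28018, e3 q27596 L794194 q26372, e3 q27597 (flp_c L798055) q28028, e3 q27598 (flp_c L798071) q28029, e3 q27599 (flp_c L794214) q26376, e3 q27600 (flp_c L806265) q28748, e3 q27601 (flp_c L806259) q28747, e3 q27602 L794252 q26379, e3 q27603 (flp_c L806301) q28751, e3 q27604 (flp_c L800743) q28225, e3 q27605 L794280 q26382, e3 q27606 (flp_c L800761) q28227, e3 q27607 L794296 q26392, e3 q27608 L794300 q26385, e3 q27609 (flp_c L806346) q28757, e3 q27610 (flp_c L794314) q26387, e3 q27611 (flp_c L806366) q28759, e3 q27612 (flp_c L804309) q28542, e3 q27613 L794349 q26389, e3 q27614 (flp_c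 L806400) q28762, e3 q27615 (flp_c L797290) q27972, e3 q27616 L794383 q26391, e3 q27617 (flp_c L806330) q28755, e3 q27618 (flp_c L806338) q28756, e3 q27619 L794411 q26394, e3 q27620 (flp_c L806462) q28768, e3 q27621 L794425 q26602, e3 q27622 L794445 q26405, e3 q27623 L794449 q26399, e3 q27624 (flp_c L806492) q28772, e3 q27625 L794467 q26410, e3 q27626 L794475 q26411, e3 q27627 L794481 q26402, e3 q27628 (flp_c L797444) q27983, e3 q27629 L794501 q26404, e3 q27630 (flp_c L806468) q28769, e3 q27631 (flp_c L806478) q28770, e3 q27632 L794529 q26407, e3 q27633 (flp_c L797471) q27986, e3 q27634 (flp_c L797487) q27987, e3 q27635 (flp_c L806502) q28773, e3 q27636 (flp_c L806510) q28774, e3 q27637 L794565 q26417, e3 q27638 (flp_c L806488) q28771, e3 q27639 L794586 q26423, e3 q27640 L794590 q26419, e3 q27641 (flp_c L806611) q28784, e3 q27642 (flp_c L804089) q28519, e3 q27643 L794620 q26422, e3 q27644 (flp_c L806581) q28782, e3 q27645 (flp_c L806595) q28783, e3 q27646 (flp_c L794644) q26426, e3 q27647 (flp_c L806658) q28790, trivial⟩ (by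 decide +kernel)

theorem ce_c_432 : ∀ r, r < 64 → sm gc (Qf (27648 + r)) = Qf (tab Gen.c (27648 + r)) :=
  edges_tab (sm gc) Qf (tab Gen.c) 27648 [(27648, 28694), (27649, 26428), (27650, 28794), (27651, 26670), (27652, 26431), (27653, 28796), (27654, 26437), (27655, 26433), (27656, 26434), (27657, 28800), (27658, 28795), (27659, 26436), (27660, 28797), (27661, 28798), (27662, 26448), (27663, 26441), (27664, 26450), (27665, 26451), (27666, 26452), (27667, 28586), (27668, 28624), (27669, 26447), (27670, 28805), (27671, 28806), (27672, 27672), (27673, 28808), (27674, 28809), (27675, 26700), (27676, 28697), (27677, 26456), (27678, 28819), (27679, 28695), (27680, 28410), (27681, 26459), (27682, 26706), (27683, 26707), (27684, 27684), (27685, 26475), (27686, 26464), (27687, 26477), (27688, 26478), (27689, 26467), (27690, 28829), (27691, 28473), (27692, 26469), (27693, 28266), (27694, 26471), (27695, 28835), (27696, 28476), (27697, 28477), (27698, 26474), (27699, 28839), (27700, 28825), (27701, 28826), (27702, 28827), (27703, 28709),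 (27704, 26480), (27705, 26694), (27706, 26483), (27707, 28601), (27708, 26500), (27709, 26486), (27710, 26502), (27711, 26488)]
    ⟨e3 q27648 (flp_c L805756) q28694, e3 q27649 L794669 q26428, e3 q27650 (flp_c L806689) q28794, e3 q27651 L794685 q26670, e3 q27652 (flp_c L794693) q26431, e3 q27653 (flp_c L806707) q28796, e3 q27654 L794720 q26437, e3 q27655 L794724 q26433, e3 q27656 (flp_c L794732) q26434, e3 q27657 (flp_c L806751) q28800, e3 q27658 (flp_c L806703) q28795, e3 q27659 L794765 q26436, e3 q27660 (flp_c L806715) q28797, e3 q27661 (flp_c L806729) q28798, e3 q27662 L794793 q26448, e3 q27663 L794797 q26441, e3 q27664 L794813 q26450, e3 q27665 L794817 q26451, e3 q27666 L794827 q26452, e3 q27667 (flp_c L804728) q28586, e3 q27668 (flp_c L805149) q28624, e3 q27669 L794849 q26447, e3 q27670 (flp_c L806794) q28805, e3 q27671 (flp_c L806802) q28806, e3 q27672 L794867 q27672, e3 q27673 (flp_c L806811) q28808, e3 q27674 (flp_c L806829) q28809, e3 q27675 L794886 q26700, e3 q27676 (flp_c L805784) q28697, e3 q27677 L794904 q26456,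 e3 q27678 (flp_c L806889) q28819, e3 q27679 (flp_c L805766) q28695, e3 q27680 (flp_c L802896) q28410, e3 q27681 L794927 q26459, e3 q27682 L794933 q26706, e3 q27683 L794941 q26707, e3 q27684 L794945 q27684, e3 q27685 L794956 q26475, e3 q27686 L794960 q26464, e3 q27687 L794968 q26477, e3 q27688 L794978 q26478, e3 q27689 (flp_c L794984) q26467, e3 q27690 (flp_c L806966) q28829, e3 q27691 (flp_c L803571) q28473, e3 q27692 L795017 q26469, e3 q27693 (flp_c L801308) q28266, e3 q27694 L795031 q26471, e3 q27695 (flp_c L807015) q28835, e3 q27696 (flp_c L803598) q28476, e3 q27697 (flp_c L803614) q28477, e3 q27698 L795061 q26474, e3 q27699 (flp_c L807045) q28839, e3 q27700 (flp_c L806922) q28825, e3 q27701 (flp_c L806936) q28826, e3 q27702 (flp_c L806946) q28827, e3 q27703 L805900 q28709, e3 q27704 L795105 q26480, e3 q27705 L795117 q26694, e3 q27706 L795123 q26483, e3 q27707 (flp_c L804880) q28601, e3 q27708 L795141 q26500, e3 q27709 L795145 q26486, e3 q27710 L795153 q26502, e3 q27711 L795157 q26488, trivial⟩ (by decide +kernel)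

theorem ce_c_433 : ∀ r, r < 64 → sm gc (Qf (27712 + r)) = Qf (tab Gen.c (27712 + r)) :=
  edges_tab (sm gc) Qf (tab Gen.c) 27712 [(27712, 26505), (27713, 26506), (27714, 26510), (27715, 26512), (27716, 26513), (27717, 26514), (27718, 28643), (27719, 26497), (27720, 28641), (27721, 26499), (27722, 28845), (27723, 28846), (27724, 27724), (27725, 28848), (27726, 28849), (27727, 26504), (27728, 28850), (27729, 28711), (27730, 28598), (27731, 26509), (27732, 28851), (27733, 28144), (27734, 28852), (27735, 28710), (27736, 26747), (27737, 28043), (27738, 26558), (27739, 26556), (27740, 28357), (27741, 28358), (27742, 26525), (27743, 26527), (27744, 28870), (27745, 28338), (27746, 26529), (27747, 28875), (27748, 28340), (27749, 28341), (27750, 26532), (27751, 26535), (27752, 28879), (27753, 28371), (27754, 26537), (27755, 28884), (27756, 28373), (27757, 26539), (27758, 28887), (27759, 28375), (27760, 28376), (27761, 26542), (27762, 28377), (27763, 28378), (27764, 26545), (27765, 28379), (27766, 28303), (27767, 26549), (27768, 28311),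 (27769, 26553), (27770, 28342), (27771, 28343), (27772, 28211), (27773, 28380), (27774, 28215), (27775, 26568)]
    ⟨e3 q27712 L795163 q26505, e3 q27713 L795171 q26506, e3 q27714 L795185 q26510, e3 q27715 L795189 q26512, e3 q27716 L795199 q26513, e3 q27717 L795205 q26514, e3 q27718 (flp_c L805338) q28643, e3 q27719 L795221 q26497, e3 q27720 (flp_c L805314) q28641, e3 q27721 L795235 q26499, e3 q27722 (flp_c L807093) q28845, e3 q27723 (flp_c L807103) q28846, e3 q27724 L795253 q27724, e3 q27725 (flp_c L807112) q28848, e3 q27726 (flp_c L807120) q28849, e3 q27727 L795266 q26504, e3 q27728 (flp_c L807128) q28850, e3 q27729 (flp_c L805916) q28711, e3 q27730 (flp_c L804852) q28598, e3 q27731 L795290 q26509, e3 q27732 (flp_c L807134) q28851, e3 q27733 (flp_c L799620) q28144, e3 q27734 (flp_c L807150) q28852, e3 q27735 L805910 q28710, e3 q27736 L795316 q26747, e3 q27737 (flp_c L798249) q28043, e3 q27738 L795328 q26558, e3 q27739 L795344 q26556, e3 q27740 (flp_c L802341) q28357, e3 q27741 (flp_c L802353) q28358, e3 q27742 L795374 q26525,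 e3 q27743 (flp_c L795378) q26527, e3 q27744 (flp_c L807268) q28870, e3 q27745 (flp_c L802148) q28338, e3 q27746 L795401 q26529, e3 q27747 (flp_c L807300) q28875, e3 q27748 (flp_c L802164) q28340, e3 q27749 (flp_c L802176) q28341, e3 q27750 L795426 q26532, e3 q27751 (flp_c L795432) q26535, e3 q27752 (flp_c L807332) q28879, e3 q27753 (flp_c L802493) q28371, e3 q27754 L795459 q26537, e3 q27755 (flp_c L807370) q28884, e3 q27756 (flp_c L802513) q28373, e3 q27757 L795480 q26539, e3 q27758 (flp_c L807394) q28887, e3 q27759 (flp_c L802529) q28375, e3 q27760 (flp_c L802541) q28376, e3 q27761 L795506 q26542, e3 q27762 (flp_c L802549) q28377, e3 q27763 (flp_c L802561) q28378, e3 q27764 L795522 q26545, e3 q27765 (flp_c L802569) q28379, e3 q27766 (flp_c L801760) q28303, e3 q27767 L795540 q26549, e3 q27768 (flp_c L801868) q28311, e3 q27769 L795556 q26553, e3 q27770 (flp_c L802184) q28342, e3 q27771 (flp_c L802196) q28343, e3 q27772 (flp_c L800535) q28211, e3 q27773 (flp_c L802577) q28380, e3 q27774 (flp_c L800597) q28215, e3 q27775 L795596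 q26568, trivial⟩ (by decide +kernel)

theorem ce_c_434 : ∀ r, r < 64 → sm gc (Qf (27776 + r)) = Qf (tab Gen.c (27776 + r)) :=
  edges_tab (sm gc) Qf (tab Gen.c) 27776 [(27776, 26569), (27777, 28445), (27778, 26565), (27779, 28452), (27780, 28453), (27781, 27781), (27782, 28899), (27783, 28368), (27784, 28216), (27785, 28217), (27786, 28361), (27787, 28362), (27788, 26578), (27789, 26579), (27790, 28908), (27791, 28291), (27792, 28248), (27793, 26590), (27794, 26591), (27795, 26593), (27796, 26595), (27797, 26596), (27798, 28464), (27799, 28465), (27800, 28910), (27801, 28228), (27802, 28335), (27803, 28911), (27804, 28252), (27805, 28270), (27806, 26600), (27807, 28272), (27808, 28061), (27809, 28470), (27810, 26608), (27811, 28472), (27812, 26642), (27813, 26611), (27814, 28733), (27815, 28734), (27816, 27816), (27817, 26621), (27818, 26616), (27819, 26623), (27820, 28483), (27821, 26619), (27822, 28485), (27823, 28924), (27824, 28925), (27825, 26644), (27826, 26632), (27827, 26627), (27828, 26634), (27829, 26635), (27830,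 26636), (27831, 28930), (27832, 28931), (27833, 27833), (27834, 28933), (27835, 28000), (27836, 28001), (27837, 28647), (27838, 28919), (27839, 28920)]
    ⟨e3 q27776 L795604 q26569, e3 q27777 (flp_c L803239) q28445, e3 q27778 L795616 q26565, e3 q27779 (flp_c L803325) q28452, e3 q27780 (flp_c L803337) q28453, e3 q27781 L795634 q27781, e3 q27782 (flp_c L807475) q28899, e3 q27783 (flp_c L802442) q28368, e3 q27784 (flp_c L800611) q28216, e3 q27785 (flp_c L800629) q28217, e3 q27786 (flp_c L802375) q28361, e3 q27787 (flp_c L802389) q28362, e3 q27788 L795675 q26578, e3 q27789 L795683 q26579, e3 q27790 (flp_c L807532) q28908, e3 q27791 (flp_c L801616) q28291, e3 q27792 (flp_c L801048) q28248, e3 q27793 L795703 q26590, e3 q27794 L795711 q26591, e3 q27795 L795717 q26593, e3 q27796 L795725 q26595, e3 q27797 L795731 q26596, e3 q27798 (flp_c L803462) q28464, e3 q27799 (flp_c L803474) q28465, e3 q27800 (flp_c L807546) q28910, e3 q27801 (flp_c L800775) q28228, e3 q27802 (flp_c L802095) q28335, e3 q27803 (flp_c L807554) q28911, e3 q27804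 L801108 q28252, e3 q27805 (flp_c L801362) q28270, e3 q27806 L795781 q26600, e3 q27807 (flp_c L801380) q28272, e3 q27808 (flp_c L798532) q28061, e3 q27809 (flp_c L803531) q28470, e3 q27810 L795809 q26608, e3 q27811 (flp_c L803547) q28472, e3 q27812 L795825 q26642, e3 q27813 L795829 q26611, e3 q27814 (flp_c L806105) q28733, e3 q27815 (flp_c L806123) q28734, e3 q27816 L795849 q27816, e3 q27817 L795858 q26621, e3 q27818 L795862 q26616, e3 q27819 L795868 q26623, e3 q27820 (flp_c L803685) q28483, e3 q27821 L795882 q26619, e3 q27822 (flp_c L803703) q28485, e3 q27823 (flp_c L807636) q28924, e3 q27824 (flp_c L807648) q28925, e3 q27825 L795910 q26644, e3 q27826 L795924 q26632, e3 q27827 L795930 q26627, e3 q27828 L795938 q26634, e3 q27829 L795950 q26635, e3 q27830 L795960 q26636, e3 q27831 (flp_c L807681) q28930, e3 q27832 (flp_c L807695) q28931, e3 q27833 L795976 q27833, e3 q27834 (flp_c L807712) q28933, e3 q27835 (flp_c L797671) q28000, e3 q27836 (flp_c L797687) q28001, e3 q27837 (flp_c L805363) q28647, e3 q27838 (flp_c L807597) q28919,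 e3 q27839 (flp_c L807609) q28920, trivial⟩ (by decide +kernel)

theorem ce_c_435 : ∀ r, r < 64 → sm gc (Qf (27840 + r)) = Qf (tab Gen.c (27840 + r)) :=
  edges_tab (sm gc) Qf (tab Gen.c) 27840 [(27840, 27840), (27841, 26646), (27842, 26723), (27843, 26651), (27844, 28638), (27845, 26740), (27846, 26653), (27847, 26661), (27848, 26655), (27849, 26663), (27850, 26664), (27851, 26658), (27852, 28648), (27853, 26660), (27854, 28941), (27855, 28942), (27856, 28943), (27857, 28120), (27858, 26666), (27859, 28693), (27860, 28573), (27861, 28574), (27862, 27862), (27863, 26673), (27864, 28524), (27865, 28193), (27866, 28588), (27867, 26676), (27868, 26688), (27869, 26678), (27870, 26691), (27871, 26697), (27872, 26698), (27873, 26696), (27874, 26683), (27875, 28962), (27876, 28534), (27877, 26685), (27878, 28960), (27879, 28503), (27880, 26687), (27881, 28955), (27882, 28956), (27883, 27883), (27884, 28505), (27885, 28558), (27886, 26693), (27887, 28843), (27888, 28844), (27889, 28958), (27890, 28532), (27891, 28696), (27892, 28690),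 (27893, 27893), (27894, 28332), (27895, 28333), (27896, 27896), (27897, 28822), (27898, 28980), (27899, 27899), (27900, 26713), (27901, 26714), (27902, 26741), (27903, 28982)]
    ⟨e3 q27840 L796013 q27840, e3 q27841 L796016 q26646, e3 q27842 L796022 q26723, e3 q27843 L796028 q26651, e3 q27844 (flp_c L805274) q28638, e3 q27845 L796042 q26740, e3 q27846 L796048 q26653, e3 q27847 L796056 q26661, e3 q27848 L796060 q26655, e3 q27849 L796066 q26663, e3 q27850 L796072 q26664, e3 q27851 L796076 q26658, e3 q27852 (flp_c L805385) q28648, e3 q27853 L796086 q26660, e3 q27854 (flp_c L807758) q28941, e3 q27855 (flp_c L807766) q28942, e3 q27856 (flp_c L807774) q28943, e3 q27857 (flp_c L799321) q28120, e3 q27858 L796116 q26666, e3 q27859 (flp_c L805740) q28693, e3 q27860 (flp_c L804593) q28573, e3 q27861 (flp_c L804607) q28574, e3 q27862 L796144 q27862, e3 q27863 L796147 q26673, e3 q27864 (flp_c L804130) q28524, e3 q27865 (flp_c L800291) q28193, e3 q27866 (flp_c L804754) q28588, e3 q27867 L796173 q26676, e3 q27868 L796181 q26688, e3 q27869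 L796185 q26678, e3 q27870 L796191 q26691, e3 q27871 L796197 q26697, e3 q27872 L796207 q26698, e3 q27873 L796217 q26696, e3 q27874 (flp_c L796219) q26683, e3 q27875 (flp_c L807890) q28962, e3 q27876 (flp_c L804238) q28534, e3 q27877 L796244 q26685, e3 q27878 (flp_c L807876) q28960, e3 q27879 (flp_c L803913) q28503, e3 q27880 L796265 q26687, e3 q27881 (flp_c L807841) q28955, e3 q27882 (flp_c L807851) q28956, e3 q27883 L796285 q27883, e3 q27884 (flp_c L803931) q28505, e3 q27885 (flp_c L804482) q28558, e3 q27886 L796302 q26693, e3 q27887 (flp_c L807069) q28843, e3 q27888 (flp_c L807085) q28844, e3 q27889 (flp_c L807862) q28958, e3 q27890 (flp_c L804202) q28532, e3 q27891 (flp_c L805776) q28696, e3 q27892 (flp_c L805712) q28690, e3 q27893 L796350 q27893, e3 q27894 (flp_c L802064) q28332, e3 q27895 (flp_c L802078) q28333, e3 q27896 L796369 q27896, e3 q27897 (flp_c L806911) q28822, e3 q27898 L808007 q28980, e3 q27899 L796380 q27899, e3 q27900 L796383 q26713, e3 q27901 L796395 q26714, e3 q27902 L796409 q26741, e3 q27903 (flp_c L808018)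 q28982, trivial⟩ (by decide +kernel)

theorem ce_c_436 : ∀ r, r < 64 → sm gc (Qf (27904 + r)) = Qf (tab Gen.c (27904 + r)) :=
  edges_tab (sm gc) Qf (tab Gen.c) 27904 [(27904, 26737), (27905, 26716), (27906, 26736), (27907, 26731), (27908, 28313), (27909, 28741), (27910, 26742), (27911, 26743), (27912, 26744), (27913, 28726), (27914, 26733), (27915, 28506), (27916, 26730), (27917, 28990), (27918, 28986), (27919, 28985), (27920, 28508), (27921, 28509), (27922, 28984), (27923, 28940), (27924, 28939), (27925, 28987), (27926, 28072), (27927, 27056), (27928, 26750), (27929, 27058), (27930, 27033), (27931, 27061), (27932, 27179), (27933, 27181), (27934, 27071), (27935, 27072), (27936, 26759), (27937, 29002), (27938, 26858), (27939, 26762), (27940, 27157), (27941, 27175), (27942, 27176), (27943, 27232), (27944, 27233), (27945, 27234), (27946, 27235), (27947, 29008), (27948, 26776), (27949, 26775), (27950, 29010), (27951, 26778), (27952, 29012), (27953, 27256), (27954, 26780), (27955, 29015), (27956, 26782), (27957, 29018), (27958,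 26783), (27959, 29021), (27960, 26784), (27961, 29024), (27962, 29014), (27963, 26786), (27964, 29028), (27965, 26923), (27966, 27260), (27967, 26789)]
    ⟨e3 q27904 L796421 q26737, e3 q27905 L796431 q26716, e3 q27906 L796441 q26736, e3 q27907 L796451 q26731, e3 q27908 (flp_c L801882) q28313, e3 q27909 (flp_c L806204) q28741, e3 q27910 L796469 q26742, e3 q27911 L796477 q26743, e3 q27912 L796485 q26744, e3 q27913 (flp_c L806040) q28726, e3 q27914 L796495 q26733, e3 q27915 (flp_c L803951) q28506, e3 q27916 L796507 q26730, e3 q27917 (flp_c L808086) q28990, e3 q27918 (flp_c L808060) q28986, e3 q27919 (flp_c L808050) q28985, e3 q27920 (flp_c L803965) q28508, e3 q27921 (flp_c L803981) q28509, e3 q27922 (flp_c L808038) q28984, e3 q27923 (flp_c L807752) q28940, e3 q27924 (flp_c L807742) q28939, e3 q27925 (flp_c L808068) q28987, e3 q27926 (flp_c L798702) q28072, e3 q27927 L796591 q27056, e3 q27928 L796597 q26750, e3 q27929 L796613 q27058, e3 q27930 L796645 q27033, e3 q27931 L796649 q27061, e3 q27932 L796681 q27179, e3 q27933 L796685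 q27181, e3 q27934 L796703 q27071, e3 q27935 L796717 q27072, e3 q27936 L796739 q26759, e3 q27937 (flp_c L808238) q29002, e3 q27938 L796765 q26858, e3 q27939 L796777 q26762, e3 q27940 L796797 q27157, e3 q27941 L796817 q27175, e3 q27942 L796837 q27176, e3 q27943 L796865 q27232, e3 q27944 L796869 q27233, e3 q27945 L796887 q27234, e3 q27946 L796907 q27235, e3 q27947 L808340 q29008, e3 q27948 L796929 q26776, e3 q27949 (flp_c L796939) q26775, e3 q27950 (flp_c L808376) q29010, e3 q27951 (flp_c L796973) q26778, e3 q27952 (flp_c L808408) q29012, e3 q27953 L797020 q27256, e3 q27954 (flp_c L797022) q26780, e3 q27955 (flp_c L808458) q29015, e3 q27956 L797060 q26782, e3 q27957 (flp_c L808506) q29018, e3 q27958 (flp_c L797081) q26783, e3 q27959 (flp_c L808552) q29021, e3 q27960 (flp_c L797112) q26784, e3 q27961 (flp_c L808597) q29024, e3 q27962 (flp_c L808452) q29014, e3 q27963 L797157 q26786, e3 q27964 (flp_c L808650) q29028, e3 q27965 L797181 q26923, e3 q27966 L797199 q27260, e3 q27967 L797205 q26789, trivial⟩ (by decide +kernel)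

theorem ce_c_437 : ∀ r, r < 64 → sm gc (Qf (27968 + r)) = Qf (tab Gen.c (27968 + r)) :=
  edges_tab (sm gc) Qf (tab Gen.c) 27968 [(27968, 27262), (27969, 27265), (27970, 26792), (27971, 29035), (27972, 27615), (27973, 26794), (27974, 29039), (27975, 26911), (27976, 26796), (27977, 29042), (27978, 27266), (27979, 26798), (27980, 27268), (27981, 26800), (27982, 29048), (27983, 27628), (27984, 26802), (27985, 29053), (27986, 27633), (27987, 27634), (27988, 26805), (27989, 27269), (27990, 27270), (27991, 26813), (27992, 26811), (27993, 27565), (27994, 29046), (27995, 29058), (27996, 27274), (27997, 27586), (27998, 26816), (27999, 29065), (28000, 27835), (28001, 27836), (28002, 26819), (28003, 29069), (28004, 27257), (28005, 26822), (28006, 29073), (28007, 27276), (28008, 27277), (28009, 26854), (28010, 26826), (28011, 29077), (28012, 26836), (28013, 26828), (28014, 26842), (28015, 26843), (28016, 26831), (28017, 29082), (28018, 27595), (28019, 26833), (28020, 29087), (28021, 29076), (28022, 26835), (28023, 29090), (28024, 29078),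 (28025, 29079), (28026, 26838), (28027, 29094), (28028, 27597), (28029, 27598), (28030, 26855), (28031, 26841)]
    ⟨e3 q27968 L797217 q27262, e3 q27969 L797245 q27265, e3 q27970 (flp_c L797247) q26792, e3 q27971 (flp_c L808747) q29035, e3 q27972 L797290 q27615, e3 q27973 L797296 q26794, e3 q27974 (flp_c L808806) q29039, e3 q27975 L797326 q26911, e3 q27976 (flp_c L797337) q26796, e3 q27977 (flp_c L808852) q29042, e3 q27978 L797379 q27266, e3 q27979 L797385 q26798, e3 q27980 L797395 q27268, e3 q27981 (flp_c L797405) q26800, e3 q27982 (flp_c L808940) q29048, e3 q27983 L797444 q27628, e3 q27984 L797450 q26802, e3 q27985 (flp_c L809002) q29053, e3 q27986 L797471 q27633, e3 q27987 L797487 q27634, e3 q27988 L797499 q26805, e3 q27989 L797511 q27269, e3 q27990 L797527 q27270, e3 q27991 L797545 q26813, e3 q27992 L797555 q26811, e3 q27993 L797572 q27565, e3 q27994 (flp_c L808916) q29046, e3 q27995 (flp_c L809070) q29058, e3 q27996 L797611 q27274, e3 q27997 L797639 q27586, e3 q27998 L797645 q26816, e3 q27999 (flp_c L809174) q29065,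 e3 q28000 L797671 q27835, e3 q28001 L797687 q27836, e3 q28002 L797701 q26819, e3 q28003 (flp_c L809234) q29069, e3 q28004 L797733 q27257, e3 q28005 L797739 q26822, e3 q28006 (flp_c L809288) q29073, e3 q28007 L797765 q27276, e3 q28008 L797777 q27277, e3 q28009 L797793 q26854, e3 q28010 (flp_c L797797) q26826, e3 q28011 (flp_c L809346) q29077, e3 q28012 L797843 q26836, e3 q28013 L797849 q26828, e3 q28014 L797863 q26842, e3 q28015 L797881 q26843, e3 q28016 (flp_c L797893) q26831, e3 q28017 (flp_c L809430) q29082, e3 q28018 L797936 q27595, e3 q28019 L797942 q26833, e3 q28020 (flp_c L809500) q29087, e3 q28021 (flp_c L809340) q29076, e3 q28022 L797979 q26835, e3 q28023 (flp_c L809538) q29090, e3 q28024 (flp_c L809362) q29078, e3 q28025 (flp_c L809380) q29079, e3 q28026 L798029 q26838, e3 q28027 (flp_c L809594) q29094, e3 q28028 L798055 q27597, e3 q28029 L798071 q27598, e3 q28030 L798085 q26855, e3 q28031 L798095 q26841, trivial⟩ (by decide +kernel)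

theorem ce_c_438 : ∀ r, r < 64 → sm gc (Qf (28032 + r)) = Qf (tab Gen.c (28032 + r)) :=
  edges_tab (sm gc) Qf (tab Gen.c) 28032 [(28032, 29080), (28033, 27359), (28034, 26845), (28035, 27285), (28036, 29100), (28037, 26856), (28038, 29064), (28039, 26900), (28040, 29072), (28041, 29098), (28042, 29103), (28043, 27737), (28044, 26879), (28045, 26886), (28046, 26863), (28047, 26864), (28048, 29108), (28049, 26889), (28050, 27316), (28051, 26867), (28052, 26890), (28053, 27308), (28054, 26870), (28055, 27319), (28056, 27320), (28057, 26897), (28058, 26898), (28059, 27295), (28060, 26877), (28061, 27808), (28062, 29105), (28063, 27351), (28064, 26881), (28065, 27355), (28066, 27356), (28067, 27297), (28068, 27298), (28069, 29107), (28070, 26888), (28071, 29109), (28072, 27926), (28073, 27064), (28074, 26894), (28075, 27252), (28076, 27253), (28077, 29116), (28078, 26899), (28079, 29132), (28080, 29019), (28081, 26901), (28082, 29135), (28083, 26902), (28084, 29138), (28085, 29131), (28086, 26904), (28087, 29142), (28088, 26915),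 (28089, 26906), (28090, 29145), (28091, 27373), (28092, 26908), (28093, 27375), (28094, 26910), (28095, 29151)]
    ⟨e3 q28032 (flp_c L809398) q29080, e3 q28033 L798119 q27359, e3 q28034 L798127 q26845, e3 q28035 L798145 q27285, e3 q28036 (flp_c L809674) q29100, e3 q28037 L798163 q26856, e3 q28038 (flp_c L809162) q29064, e3 q28039 L798193 q26900, e3 q28040 (flp_c L809278) q29072, e3 q28041 (flp_c L809650) q29098, e3 q28042 (flp_c L809710) q29103, e3 q28043 L798249 q27737, e3 q28044 L798275 q26879, e3 q28045 L798279 q26886, e3 q28046 (flp_c L798295) q26863, e3 q28047 (flp_c L798311) q26864, e3 q28048 (flp_c L809791) q29108, e3 q28049 L798356 q26889, e3 q28050 L798370 q27316, e3 q28051 L798376 q26867, e3 q28052 L798390 q26890, e3 q28053 L798416 q27308, e3 q28054 L798422 q26870, e3 q28055 L798436 q27319, e3 q28056 L798452 q27320, e3 q28057 L798464 q26897, e3 q28058 L798484 q26898, e3 q28059 L798512 q27295, e3 q28060 L798518 q26877, e3 q28061 L798532 q27808, e3 q28062 (flp_c L809737) q29105, e3 q28063 L798574 q27351, e3 q28064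 L798580 q26881, e3 q28065 L798594 q27355, e3 q28066 L798612 q27356, e3 q28067 L798626 q27297, e3 q28068 L798644 q27298, e3 q28069 (flp_c L809785) q29107, e3 q28070 L798672 q26888, e3 q28071 (flp_c L809805) q29109, e3 q28072 L798702 q27926, e3 q28073 L798728 q27064, e3 q28074 L798734 q26894, e3 q28075 L798750 q27252, e3 q28076 L798768 q27253, e3 q28077 (flp_c L809924) q29116, e3 q28078 (flp_c L798794) q26899, e3 q28079 (flp_c L810189) q29132, e3 q28080 (flp_c L808522) q29019, e3 q28081 (flp_c L798838) q26901, e3 q28082 (flp_c L810235) q29135, e3 q28083 (flp_c L798869) q26902, e3 q28084 (flp_c L810280) q29138, e3 q28085 (flp_c L810183) q29131, e3 q28086 L798914 q26904, e3 q28087 (flp_c L810333) q29142, e3 q28088 L798938 q26915, e3 q28089 (flp_c L798946) q26906, e3 q28090 (flp_c L810371) q29145, e3 q28091 L798987 q27373, e3 q28092 L798993 q26908, e3 q28093 L799003 q27375, e3 q28094 (flp_c L799013) q26910, e3 q28095 (flp_c L810453) q29151, trivial⟩ (by decide +kernel)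

theorem ce_c_439 : ∀ r, r < 64 → sm gc (Qf (28096 + r)) = Qf (tab Gen.c (28096 + r)) :=
  edges_tab (sm gc) Qf (tab Gen.c) 28096 [(28096, 26920), (28097, 26913), (28098, 29155), (28099, 29154), (28100, 29081), (28101, 26917), (28102, 29160), (28103, 29047), (28104, 26919), (28105, 29164), (28106, 29152), (28107, 29153), (28108, 26922), (28109, 29167), (28110, 27404), (28111, 27405), (28112, 28112), (28113, 26927), (28114, 29172), (28115, 27410), (28116, 26929), (28117, 27412), (28118, 26935), (28119, 26932), (28120, 27857), (28121, 26934), (28122, 29177), (28123, 29178), (28124, 26937), (28125, 27419), (28126, 26939), (28127, 29186), (28128, 27422), (28129, 27423), (28130, 26965), (28131, 26950), (28132, 26944), (28133, 26954), (28134, 26955), (28135, 27407), (28136, 27456), (28137, 26949), (28138, 29190), (28139, 29191), (28140, 28140), (28141, 26952), (28142, 27496), (28143, 29193), (28144, 27733), (28145, 27434), (28146, 26958), (28147, 27436), (28148, 27437), (28149, 27439), (28150, 27529), (28151, 26966), (28152, 29189),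 (28153, 29208), (28154, 26967), (28155, 29210), (28156, 27462), (28157, 26969), (28158, 29214), (28159, 27464)]
    ⟨e3 q28096 L799053 q26920, e3 q28097 L799057 q26913, e3 q28098 (flp_c L810495) q29155, e3 q28099 (flp_c L810489) q29154, e3 q28100 (flp_c L809424) q29081, e3 q28101 L799095 q26917, e3 q28102 (flp_c L810549) q29160, e3 q28103 (flp_c L808934) q29047, e3 q28104 L799128 q26919, e3 q28105 (flp_c L810592) q29164, e3 q28106 (flp_c L810465) q29152, e3 q28107 (flp_c L810477) q29153, e3 q28108 L799167 q26922, e3 q28109 (flp_c L810620) q29167, e3 q28110 L799185 q27404, e3 q28111 L799199 q27405, e3 q28112 L799213 q28112, e3 q28113 (flp_c L799214) q26927, e3 q28114 (flp_c L810675) q29172, e3 q28115 L799255 q27410, e3 q28116 L799259 q26929, e3 q28117 L799271 q27412, e3 q28118 L799293 q26935, e3 q28119 L799299 q26932, e3 q28120 L799321 q27857, e3 q28121 L799327 q26934, e3 q28122 (flp_c L810739) q29177, e3 q28123 (flp_c L810757) q29178, e3 q28124 L799361 q26937, e3 q28125 L799381 q27419, e3 q28126 L799387 q26939, e3 q28127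 (flp_c L810864) q29186, e3 q28128 L799411 q27422, e3 q28129 L799427 q27423, e3 q28130 L799443 q26965, e3 q28131 L799461 q26950, e3 q28132 L799467 q26944, e3 q28133 L799481 q26954, e3 q28134 L799497 q26955, e3 q28135 L799521 q27407, e3 q28136 L799537 q27456, e3 q28137 L799543 q26949, e3 q28138 (flp_c L810914) q29190, e3 q28139 (flp_c L810934) q29191, e3 q28140 L799573 q28140, e3 q28141 L799578 q26952, e3 q28142 L799592 q27496, e3 q28143 (flp_c L810969) q29193, e3 q28144 L799620 q27733, e3 q28145 L799642 q27434, e3 q28146 L799648 q26958, e3 q28147 L799664 q27436, e3 q28148 L799682 q27437, e3 q28149 L799698 q27439, e3 q28150 (flp_c L799712) q27529, e3 q28151 L799718 q26966, e3 q28152 (flp_c L810902) q29189, e3 q28153 (flp_c L811187) q29208, e3 q28154 (flp_c L799754) q26967, e3 q28155 (flp_c L811217) q29210, e3 q28156 L799797 q27462, e3 q28157 L799803 q26969, e3 q28158 (flp_c L811266) q29214, e3 q28159 L799826 q27464, trivial⟩ (by decide +kernel)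

theorem ce_c_440 : ∀ r, r < 64 → sm gc (Qf (28160 + r)) = Qf (tab Gen.c (28160 + r)) :=
  edges_tab (sm gc) Qf (tab Gen.c) 28160 [(28160, 27465), (28161, 28161), (28162, 27415), (28163, 26974), (28164, 26978), (28165, 26979), (28166, 26977), (28167, 29220), (28168, 29221), (28169, 26981), (28170, 27487), (28171, 26983), (28172, 27489), (28173, 27490), (28174, 26986), (28175, 27493), (28176, 29229), (28177, 27428), (28178, 27432), (28179, 27433), (28180, 27001), (28181, 26994), (28182, 27003), (28183, 27004), (28184, 27009), (28185, 27010), (28186, 27011), (28187, 29232), (28188, 29233), (28189, 29234), (28190, 29219), (28191, 27006), (28192, 27429), (28193, 27865), (28194, 29235), (28195, 27286), (28196, 27536), (28197, 27537), (28198, 27539), (28199, 29242), (28200, 27018), (28201, 29223), (28202, 27022), (28203, 27020), (28204, 27032), (28205, 27037), (28206, 27106), (28207, 27223), (28208, 27027), (28209, 27581), (28210, 27029), (28211, 27772), (28212, 27093), (28213, 29245), (28214, 28998), (28215, 27774), (28216, 27784),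 (28217, 27785), (28218, 27038), (28219, 29255), (28220, 27039), (28221, 29258), (28222, 29041), (28223, 27041)]
    ⟨e3 q28160 L799836 q27465, e3 q28161 L799850 q28161, e3 q28162 L799865 q27415, e3 q28163 L799871 q26974, e3 q28164 L799887 q26978, e3 q28165 L799901 q26979, e3 q28166 L799911 q26977, e3 q28167 (flp_c L811345) q29220, e3 q28168 (flp_c L811355) q29221, e3 q28169 L799949 q26981, e3 q28170 L799969 q27487, e3 q28171 L799975 q26983, e3 q28172 L799991 q27489, e3 q28173 L800005 q27490, e3 q28174 L800017 q26986, e3 q28175 L800031 q27493, e3 q28176 L811467 q29229, e3 q28177 L800063 q27428, e3 q28178 L800067 q27432, e3 q28179 L800083 q27433, e3 q28180 L800107 q27001, e3 q28181 L800113 q26994, e3 q28182 L800129 q27003, e3 q28183 L800145 q27004, e3 q28184 L800157 q27009, e3 q28185 L800179 q27010, e3 q28186 L800187 q27011, e3 q28187 (flp_c L811521) q29232, e3 q28188 (flp_c L811541) q29233, e3 q28189 (flp_c L811559) q29234, e3 q28190 (flp_c L811327) q29219, e3 q28191 L800257 q27006, e3 q28192 L800287 q27429, e3 q28193 L800291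 q27865, e3 q28194 (flp_c L811575) q29235, e3 q28195 L800319 q27286, e3 q28196 L800331 q27536, e3 q28197 L800341 q27537, e3 q28198 L800353 q27539, e3 q28199 L811683 q29242, e3 q28200 (flp_c L800365) q27018, e3 q28201 (flp_c L811385) q29223, e3 q28202 L800389 q27022, e3 q28203 (flp_c L800397) q27020, e3 q28204 L800431 q27032, e3 q28205 L800435 q27037, e3 q28206 L800467 q27106, e3 q28207 L800481 q27223, e3 q28208 L800487 q27027, e3 q28209 L800513 q27581, e3 q28210 L800519 q27029, e3 q28211 L800535 q27772, e3 q28212 L800563 q27093, e3 q28213 (flp_c L811719) q29245, e3 q28214 (flp_c L808164) q28998, e3 q28215 L800597 q27774, e3 q28216 L800611 q27784, e3 q28217 L800629 q27785, e3 q28218 (flp_c L800641) q27038, e3 q28219 (flp_c L811901) q29255, e3 q28220 (flp_c L800672) q27039, e3 q28221 (flp_c L811948) q29258, e3 q28222 (flp_c L808846) q29041, e3 q28223 L800715 q27041, trivial⟩ (by decide +kernel)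

theorem ce_c_441 : ∀ r, r < 64 → sm gc (Qf (28224 + r)) = Qf (tab Gen.c (28224 + r)) :=
  edges_tab (sm gc) Qf (tab Gen.c) 28224 [(28224, 29262), (28225, 27604), (28226, 27044), (28227, 27606), (28228, 27801), (28229, 27051), (28230, 27048), (28231, 27329), (28232, 27050), (28233, 29271), (28234, 29266), (28235, 29267), (28236, 27053), (28237, 27102), (28238, 27055), (28239, 28996), (28240, 28997), (28241, 27059), (28242, 27574), (28243, 27066), (28244, 27067), (28245, 29128), (28246, 29129), (28247, 29278), (28248, 27792), (28249, 27121), (28250, 27122), (28251, 29000), (28252, 27804), (28253, 27104), (28254, 27110), (28255, 27076), (28256, 27080), (28257, 29283), (28258, 27079), (28259, 29284), (28260, 29273), (28261, 27250), (28262, 27084), (28263, 29290), (28264, 27085), (28265, 29293), (28266, 27693), (28267, 27087), (28268, 29297), (28269, 27323), (28270, 27805), (28271, 27090), (28272, 27807), (28273, 27115), (28274, 29251), (28275, 27099), (28276, 27095), (28277, 29209), (28278, 27097), (28279, 29308), (28280, 27107),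 (28281, 29303), (28282, 29304), (28283, 27101), (28284, 29274), (28285, 29275), (28286, 27105), (28287, 29314)]
    ⟨e3 q28224 (flp_c L811999) q29262, e3 q28225 L800743 q27604, e3 q28226 L800749 q27044, e3 q28227 L800761 q27606, e3 q28228 L800775 q27801, e3 q28229 L800799 q27051, e3 q28230 L800805 q27048, e3 q28231 L800831 q27329, e3 q28232 L800835 q27050, e3 q28233 (flp_c L812127) q29271, e3 q28234 (flp_c L812050) q29266, e3 q28235 (flp_c L812070) q29267, e3 q28236 L800884 q27053, e3 q28237 L800910 q27102, e3 q28238 L800916 q27055, e3 q28239 (flp_c L808128) q28996, e3 q28240 (flp_c L808148) q28997, e3 q28241 L800956 q27059, e3 q28242 L800964 q27574, e3 q28243 L800982 q27066, e3 q28244 L800994 q27067, e3 q28245 (flp_c L810117) q29128, e3 q28246 (flp_c L810137) q29129, e3 q28247 (flp_c L812233) q29278, e3 q28248 L801048 q27792, e3 q28249 L801060 q27121, e3 q28250 L801076 q27122, e3 q28251 (flp_c L808208) q29000, e3 q28252 (flp_c L801108) q27804, e3 q28253 L801112 q27104, e3 q28254 L801128 q27110, e3 q28255 (flp_c L801138)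 q27076, e3 q28256 L801166 q27080, e3 q28257 (flp_c L812325) q29283, e3 q28258 L801186 q27079, e3 q28259 (flp_c L812329) q29284, e3 q28260 (flp_c L812153) q29273, e3 q28261 L801234 q27250, e3 q28262 (flp_c L801236) q27084, e3 q28263 (flp_c L812425) q29290, e3 q28264 (flp_c L801267) q27085, e3 q28265 (flp_c L812470) q29293, e3 q28266 L801308 q27693, e3 q28267 L801314 q27087, e3 q28268 (flp_c L812527) q29297, e3 q28269 L801342 q27323, e3 q28270 L801362 q27805, e3 q28271 L801368 q27090, e3 q28272 L801380 q27807, e3 q28273 L801406 q27115, e3 q28274 (flp_c L811827) q29251, e3 q28275 L801428 q27099, e3 q28276 L801434 q27095, e3 q28277 (flp_c L811211) q29209, e3 q28278 L801460 q27097, e3 q28279 (flp_c L812673) q29308, e3 q28280 L801499 q27107, e3 q28281 (flp_c L812608) q29303, e3 q28282 (flp_c L812626) q29304, e3 q28283 L801523 q27101, e3 q28284 (flp_c L812167) q29274, e3 q28285 (flp_c L812187) q29275, e3 q28286 L801561 q27105, e3 q28287 (flp_c L812757) q29314, trivial⟩ (by decide +kernel)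

theorem ce_c_442 : ∀ r, r < 64 → sm gc (Qf (28288 + r)) = Qf (tab Gen.c (28288 + r)) :=
  edges_tab (sm gc) Qf (tab Gen.c) 28288 [(28288, 29246), (28289, 29309), (28290, 27196), (28291, 27791), (28292, 27118), (28293, 27119), (28294, 27114), (28295, 27113), (28296, 29302), (28297, 29277), (28298, 27124), (28299, 27117), (28300, 29317), (28301, 29319), (28302, 29281), (28303, 27766), (28304, 27125), (28305, 29323), (28306, 29327), (28307, 27127), (28308, 27128), (28309, 29331), (28310, 29150), (28311, 27768), (28312, 27131), (28313, 27908), (28314, 27142), (28315, 27134), (28316, 29339), (28317, 29338), (28318, 27136), (28319, 27546), (28320, 27137), (28321, 29023), (28322, 27139), (28323, 29347), (28324, 29020), (28325, 27141), (28326, 29352), (28327, 29336), (28328, 29337), (28329, 27144), (28330, 29356), (28331, 27242), (28332, 27894), (28333, 27895), (28334, 28334), (28335, 27802), (28336, 27150), (28337, 29362), (28338, 27745), (28339, 27152), (28340, 27748), (28341, 27749), (28342, 27770), (28343, 27771), (28344, 27165),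 (28345, 27159), (28346, 29371), (28347, 27170), (28348, 27171), (28349, 27162), (28350, 29257), (28351, 27164)]
    ⟨e3 q28288 (flp_c L811739) q29246, e3 q28289 (flp_c L812685) q29309, e3 q28290 L801612 q27196, e3 q28291 L801616 q27791, e3 q28292 L801628 q27118, e3 q28293 L801638 q27119, e3 q28294 L801656 q27114, e3 q28295 L801666 q27113, e3 q28296 (flp_c L812590) q29302, e3 q28297 (flp_c L812223) q29277, e3 q28298 L801706 q27124, e3 q28299 L801716 q27117, e3 q28300 (flp_c L812806) q29317, e3 q28301 (flp_c L812834) q29319, e3 q28302 (flp_c L812283) q29281, e3 q28303 L801760 q27766, e3 q28304 L801766 q27125, e3 q28305 (flp_c L812894) q29323, e3 q28306 (flp_c L812942) q29327, e3 q28307 (flp_c L801801) q27127, e3 q28308 (flp_c L801817) q27128, e3 q28309 (flp_c L813003) q29331, e3 q28310 (flp_c L810447) q29150, e3 q28311 L801868 q27768, e3 q28312 L801872 q27131, e3 q28313 L801882 q27908, e3 q28314 L801900 q27142, e3 q28315 L801904 q27134, e3 q28316 (flp_c L813088) q29339, e3 q28317 (flp_c L813082) q29338, e3 q28318 L801930 q27136,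 e3 q28319 L801944 q27546, e3 q28320 (flp_c L801954) q27137, e3 q28321 (flp_c L808591) q29023, e3 q28322 L801980 q27139, e3 q28323 (flp_c L813166) q29347, e3 q28324 (flp_c L808546) q29020, e3 q28325 L802003 q27141, e3 q28326 (flp_c L813206) q29352, e3 q28327 (flp_c L813058) q29336, e3 q28328 (flp_c L813070) q29337, e3 q28329 L802034 q27144, e3 q28330 (flp_c L813237) q29356, e3 q28331 L802052 q27242, e3 q28332 L802064 q27894, e3 q28333 L802078 q27895, e3 q28334 L802092 q28334, e3 q28335 L802095 q27802, e3 q28336 (flp_c L802107) q27150, e3 q28337 (flp_c L813308) q29362, e3 q28338 L802148 q27745, e3 q28339 L802154 q27152, e3 q28340 L802164 q27748, e3 q28341 L802176 q27749, e3 q28342 L802184 q27770, e3 q28343 L802196 q27771, e3 q28344 L802214 q27165, e3 q28345 L802220 q27159, e3 q28346 (flp_c L813422) q29371, e3 q28347 L802245 q27170, e3 q28348 L802263 q27171, e3 q28349 L802277 q27162, e3 q28350 (flp_c L811942) q29257, e3 q28351 L802299 q27164, trivial⟩ (by decide +kernel)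

theorem ce_c_443 : ∀ r, r < 64 → sm gc (Qf (28352 + r)) = Qf (tab Gen.c (28352 + r)) :=
  edges_tab (sm gc) Qf (tab Gen.c) 28352 [(28352, 29377), (28353, 29368), (28354, 29369), (28355, 28355), (28356, 27167), (28357, 27740), (28358, 27741), (28359, 29372), (28360, 29373), (28361, 27786), (28362, 27787), (28363, 29004), (28364, 29322), (28365, 27178), (28366, 29387), (28367, 28999), (28368, 27783), (28369, 27182), (28370, 29390), (28371, 27753), (28372, 27184), (28373, 27756), (28374, 27186), (28375, 27759), (28376, 27760), (28377, 27762), (28378, 27763), (28379, 27765), (28380, 27773), (28381, 27340), (28382, 29316), (28383, 27212), (28384, 27198), (28385, 29402), (28386, 27215), (28387, 27200), (28388, 29405), (28389, 27218), (28390, 27219), (28391, 27203), (28392, 27225), (28393, 27226), (28394, 27206), (28395, 27229), (28396, 27230), (28397, 29254), (28398, 27211), (28399, 29414), (28400, 29399), (28401, 29400), (28402, 28402), (28403, 27214), (28404, 29403), (28405, 29404), (28406, 27243), (28407, 27217), (28408, 29424),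 (28409, 29406), (28410, 27680), (28411, 29407), (28412, 27245), (28413, 27222), (28414, 29247), (28415, 29248)]
    ⟨e3 q28352 (flp_c L813493) q29377, e3 q28353 (flp_c L813377) q29368, e3 q28354 (flp_c L813395) q29369, e3 q28355 L802332 q28355, e3 q28356 L802335 q27167, e3 q28357 L802341 q27740, e3 q28358 L802353 q27741, e3 q28359 (flp_c L813440) q29372, e3 q28360 (flp_c L813454) q29373, e3 q28361 L802375 q27786, e3 q28362 L802389 q27787, e3 q28363 (flp_c L808274) q29004, e3 q28364 (flp_c L812878) q29322, e3 q28365 L802415 q27178, e3 q28366 (flp_c L813574) q29387, e3 q28367 (flp_c L808184) q28999, e3 q28368 L802442 q27783, e3 q28369 (flp_c L802452) q27182, e3 q28370 (flp_c L813616) q29390, e3 q28371 L802493 q27753, e3 q28372 L802497 q27184, e3 q28373 L802513 q27756, e3 q28374 L802519 q27186, e3 q28375 L802529 q27759, e3 q28376 L802541 q27760, e3 q28377 L802549 q27762, e3 q28378 L802561 q27763, e3 q28379 L802569 q27765, e3 q28380 L802577 q27773, e3 q28381 L802595 q27340, e3 q28382 (flp_c L812786) q29316, e3 q28383 L802621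 q27212, e3 q28384 L802627 q27198, e3 q28385 (flp_c L813754) q29402, e3 q28386 L802658 q27215, e3 q28387 L802662 q27200, e3 q28388 (flp_c L813792) q29405, e3 q28389 L802686 q27218, e3 q28390 L802700 q27219, e3 q28391 L802712 q27203, e3 q28392 L802724 q27225, e3 q28393 L802740 q27226, e3 q28394 L802752 q27206, e3 q28395 L802768 q27229, e3 q28396 L802780 q27230, e3 q28397 (flp_c L811895) q29254, e3 q28398 L802798 q27211, e3 q28399 (flp_c L813895) q29414, e3 q28400 (flp_c L813717) q29399, e3 q28401 (flp_c L813733) q29400, e3 q28402 L802825 q28402, e3 q28403 L802830 q27214, e3 q28404 (flp_c L813766) q29403, e3 q28405 (flp_c L813780) q29404, e3 q28406 L802860 q27243, e3 q28407 L802866 q27217, e3 q28408 (flp_c L813973) q29424, e3 q28409 (flp_c L813806) q29406, e3 q28410 L802896 q27680, e3 q28411 (flp_c L813820) q29407, e3 q28412 L802912 q27245, e3 q28413 L802922 q27222, e3 q28414 (flp_c L811759) q29247, e3 q28415 (flp_c L811777) q29248, trivial⟩ (by decide +kernel)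

theorem ce_c_444 : ∀ r, r < 64 → sm gc (Qf (28416 + r)) = Qf (tab Gen.c (28416 + r)) :=
  edges_tab (sm gc) Qf (tab Gen.c) 28416 [(28416, 29408), (28417, 29311), (28418, 29409), (28419, 27238), (28420, 29410), (28421, 27236), (28422, 29005), (28423, 29006), (28424, 29436), (28425, 29428), (28426, 27239), (28427, 29435), (28428, 29430), (28429, 29423), (28430, 29429), (28431, 27251), (28432, 27535), (28433, 27533), (28434, 29288), (28435, 29130), (28436, 29011), (28437, 27255), (28438, 29013), (28439, 29070), (28440, 29071), (28441, 27259), (28442, 29030), (28443, 29031), (28444, 28444), (28445, 27777), (28446, 27264), (28447, 29033), (28448, 29044), (28449, 29045), (28450, 29056), (28451, 27310), (28452, 27779), (28453, 27780), (28454, 28454), (28455, 29074), (28456, 27343), (28457, 27344), (28458, 27358), (28459, 29240), (28460, 29238), (28461, 27288), (28462, 27318), (28463, 27331), (28464, 27798), (28465, 27799), (28466, 29117), (28467, 29118), (28468, 28468), (28469, 29124), (28470, 27809), (28471, 27300), (28472, 27811),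 (28473, 27691), (28474, 27303), (28475, 29466), (28476, 27696), (28477, 27697), (28478, 27306), (28479, 29470)]
    ⟨e3 q28416 (flp_c L813836) q29408, e3 q28417 (flp_c L812717) q29311, e3 q28418 (flp_c L813848) q29409, e3 q28419 L802966 q27238, e3 q28420 (flp_c L813864) q29410, e3 q28421 L802978 q27236, e3 q28422 (flp_c L808288) q29005, e3 q28423 (flp_c L808312) q29006, e3 q28424 (flp_c L814095) q29436, e3 q28425 (flp_c L814017) q29428, e3 q28426 L803016 q27239, e3 q28427 (flp_c L814083) q29435, e3 q28428 (flp_c L814041) q29430, e3 q28429 (flp_c L813963) q29423, e3 q28430 (flp_c L814029) q29429, e3 q28431 L803072 q27251, e3 q28432 L803084 q27535, e3 q28433 L803102 q27533, e3 q28434 (flp_c L812389) q29288, e3 q28435 (flp_c L810157) q29130, e3 q28436 (flp_c L808402) q29011, e3 q28437 L803152 q27255, e3 q28438 (flp_c L808422) q29013, e3 q28439 (flp_c L809246) q29070, e3 q28440 (flp_c L809262) q29071, e3 q28441 L803194 q27259, e3 q28442 (flp_c L808670) q29030, e3 q28443 (flp_c L808686) q29031, e3 q28444 L803224 q28444, e3 q28445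 L803239 q27777, e3 q28446 L803245 q27264, e3 q28447 (flp_c L808709) q29033, e3 q28448 (flp_c L808882) q29044, e3 q28449 (flp_c L808898) q29045, e3 q28450 (flp_c L809044) q29056, e3 q28451 L803307 q27310, e3 q28452 L803325 q27779, e3 q28453 L803337 q27780, e3 q28454 L803353 q28454, e3 q28455 (flp_c L809306) q29074, e3 q28456 L803368 q27343, e3 q28457 L803382 q27344, e3 q28458 L803392 q27358, e3 q28459 (flp_c L811661) q29240, e3 q28460 (flp_c L811621) q29238, e3 q28461 L803420 q27288, e3 q28462 L803436 q27318, e3 q28463 L803452 q27331, e3 q28464 L803462 q27798, e3 q28465 L803474 q27799, e3 q28466 (flp_c L809940) q29117, e3 q28467 (flp_c L809960) q29118, e3 q28468 L803510 q28468, e3 q28469 (flp_c L810064) q29124, e3 q28470 L803531 q27809, e3 q28471 L803537 q27300, e3 q28472 L803547 q27811, e3 q28473 L803571 q27691, e3 q28474 L803577 q27303, e3 q28475 (flp_c L814450) q29466, e3 q28476 L803598 q27696, e3 q28477 L803614 q27697, e3 q28478 L803628 q27306, e3 q28479 (flp_c L814503) q29470, trivial⟩ (by decide +kernel)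

theorem ce_c_445 : ∀ r, r < 64 → sm gc (Qf (28480 + r)) = Qf (tab Gen.c (28480 + r)) :=
  edges_tab (sm gc) Qf (tab Gen.c) 28480 [(28480, 29112), (28481, 29113), (28482, 28482), (28483, 27820), (28484, 27312), (28485, 27822), (28486, 29106), (28487, 27315), (28488, 29480), (28489, 29110), (28490, 29111), (28491, 27324), (28492, 29115), (28493, 29055), (28494, 27325), (28495, 29479), (28496, 29483), (28497, 27512), (28498, 27327), (28499, 27518), (28500, 29268), (28501, 29269), (28502, 28502), (28503, 27879), (28504, 27333), (28505, 27884), (28506, 27915), (28507, 27336), (28508, 27920), (28509, 27921), (28510, 27362), (28511, 29398), (28512, 29009), (28513, 27363), (28514, 27342), (28515, 29454), (28516, 29068), (28517, 27480), (28518, 27354), (28519, 27642), (28520, 27350), (28521, 29120), (28522, 29121), (28523, 28523), (28524, 27864), (28525, 29123), (28526, 29097), (28527, 27364), (28528, 29099), (28529, 29093), (28530, 27365), (28531, 29497), (28532, 27890), (28533, 27370), (28534, 27876), (28535, 27369), (28536, 29515),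 (28537, 29144), (28538, 27372), (28539, 29147), (28540, 29148), (28541, 28541), (28542, 27612), (28543, 27377)]
    ⟨e3 q28480 (flp_c L809853) q29112, e3 q28481 (flp_c L809873) q29113, e3 q28482 L803672 q28482, e3 q28483 L803685 q27820, e3 q28484 L803691 q27312, e3 q28485 L803703 q27822, e3 q28486 (flp_c L809769) q29106, e3 q28487 L803731 q27315, e3 q28488 (flp_c L814617) q29480, e3 q28489 (flp_c L809821) q29110, e3 q28490 (flp_c L809839) q29111, e3 q28491 L803779 q27324, e3 q28492 (flp_c L809908) q29115, e3 q28493 (flp_c L809028) q29055, e3 q28494 L803807 q27325, e3 q28495 (flp_c L814609) q29479, e3 q28496 (flp_c L814651) q29483, e3 q28497 L803846 q27512, e3 q28498 L803852 q27327, e3 q28499 L803864 q27518, e3 q28500 (flp_c L812086) q29268, e3 q28501 (flp_c L812102) q29269, e3 q28502 L803900 q28502, e3 q28503 L803913 q27879, e3 q28504 L803919 q27333, e3 q28505 L803931 q27884, e3 q28506 L803951 q27915, e3 q28507 L803957 q27336, e3 q28508 L803965 q27920, e3 q28509 L803981 q27921, e3 q28510 L803999 q27362, e3 q28511 (flp_c L813701)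 q29398, e3 q28512 (flp_c L808362) q29009, e3 q28513 L804021 q27363, e3 q28514 L804027 q27342, e3 q28515 (flp_c L814306) q29454, e3 q28516 (flp_c L809222) q29068, e3 q28517 L804063 q27480, e3 q28518 L804067 q27354, e3 q28519 L804089 q27642, e3 q28520 L804095 q27350, e3 q28521 (flp_c L809991) q29120, e3 q28522 (flp_c L810011) q29121, e3 q28523 L804127 q28523, e3 q28524 L804130 q27864, e3 q28525 (flp_c L810046) q29123, e3 q28526 (flp_c L809636) q29097, e3 q28527 L804168 q27364, e3 q28528 (flp_c L809666) q29099, e3 q28529 (flp_c L809582) q29093, e3 q28530 L804188 q27365, e3 q28531 (flp_c L814820) q29497, e3 q28532 L804202 q27890, e3 q28533 L804224 q27370, e3 q28534 L804238 q27876, e3 q28535 L804244 q27369, e3 q28536 (flp_c L814994) q29515, e3 q28537 (flp_c L810365) q29144, e3 q28538 L804274 q27372, e3 q28539 (flp_c L810400) q29147, e3 q28540 (flp_c L810416) q29148, e3 q28541 L804300 q28541, e3 q28542 L804309 q27612, e3 q28543 L804315 q27377, trivial⟩ (by decide +kernel)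

theorem ce_c_446 : ∀ r, r < 64 → sm gc (Qf (28544 + r)) = Qf (tab Gen.c (28544 + r)) :=
  edges_tab (sm gc) Qf (tab Gen.c) 28544 [(28544, 29528), (28545, 29527), (28546, 27379), (28547, 27566), (28548, 27392), (28549, 27395), (28550, 27382), (28551, 29535), (28552, 27398), (28553, 27399), (28554, 27386), (28555, 27385), (28556, 29540), (28557, 29539), (28558, 27885), (28559, 27390), (28560, 27525), (28561, 29531), (28562, 29134), (28563, 27394), (28564, 29548), (28565, 29532), (28566, 29533), (28567, 28567), (28568, 27397), (28569, 29555), (28570, 29536), (28571, 29538), (28572, 27401), (28573, 27860), (28574, 27861), (28575, 28575), (28576, 29168), (28577, 29562), (28578, 28578), (28579, 29194), (28580, 29171), (28581, 27409), (28582, 29174), (28583, 29175), (28584, 28584), (28585, 27416), (28586, 27667), (28587, 29218), (28588, 27866), (28589, 27418), (28590, 29184), (28591, 29185), (28592, 27444), (28593, 27421), (28594, 29187), (28595, 29580), (28596, 27446), (28597, 27430), (28598, 27730), (28599, 29230), (28600, 29239),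 (28601, 27707), (28602, 29231), (28603, 29203), (28604, 29204), (28605, 27447), (28606, 29205), (28607, 27532)]
    ⟨e3 q28544 (flp_c L815131) q29528, e3 q28545 (flp_c L815125) q29527, e3 q28546 L804351 q27379, e3 q28547 L804366 q27566, e3 q28548 L804389 q27392, e3 q28549 L804399 q27395, e3 q28550 L804403 q27382, e3 q28551 (flp_c L815212) q29535, e3 q28552 L804422 q27398, e3 q28553 L804430 q27399, e3 q28554 L804438 q27386, e3 q28555 L804442 q27385, e3 q28556 (flp_c L815256) q29540, e3 q28557 (flp_c L815244) q29539, e3 q28558 L804482 q27885, e3 q28559 L804488 q27390, e3 q28560 L804508 q27525, e3 q28561 (flp_c L815167) q29531, e3 q28562 (flp_c L810229) q29134, e3 q28563 L804534 q27394, e3 q28564 (flp_c L815350) q29548, e3 q28565 (flp_c L815185) q29532, e3 q28566 (flp_c L815197) q29533, e3 q28567 L804559 q28567, e3 q28568 L804564 q27397, e3 q28569 (flp_c L815401) q29555, e3 q28570 (flp_c L815224) q29536, e3 q28571 (flp_c L815238) q29538, e3 q28572 L804585 q27401, e3 q28573 L804593 q27860, e3 q28574 L804607 q27861, e3 q28575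 L804621 q28575, e3 q28576 (flp_c L810630) q29168, e3 q28577 L815450 q29562, e3 q28578 L804634 q28578, e3 q28579 (flp_c L810981) q29194, e3 q28580 (flp_c L810669) q29171, e3 q28581 L804669 q27409, e3 q28582 (flp_c L810704) q29174, e3 q28583 (flp_c L810718) q29175, e3 q28584 L804699 q28584, e3 q28585 L804702 q27416, e3 q28586 L804728 q27667, e3 q28587 (flp_c L811307) q29218, e3 q28588 L804754 q27866, e3 q28589 L804758 q27418, e3 q28590 (flp_c L810834) q29184, e3 q28591 (flp_c L810850) q29185, e3 q28592 L804786 q27444, e3 q28593 L804792 q27421, e3 q28594 (flp_c L810878) q29187, e3 q28595 L815632 q29580, e3 q28596 L804818 q27446, e3 q28597 L804828 q27430, e3 q28598 L804852 q27730, e3 q28599 (flp_c L811487) q29230, e3 q28600 (flp_c L811637) q29239, e3 q28601 L804880 q27707, e3 q28602 (flp_c L811509) q29231, e3 q28603 (flp_c L811107) q29203, e3 q28604 (flp_c L811127) q29204, e3 q28605 L804930 q27447, e3 q28606 (flp_c L811147) q29205, e3 q28607 L804952 q27532, trivial⟩ (by decide +kernel)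

theorem ce_c_447 : ∀ r, r < 64 → sm gc (Qf (28608 + r)) = Qf (tab Gen.c (28608 + r)) :=
  edges_tab (sm gc) Qf (tab Gen.c) 28608 [(28608, 27448), (28609, 29590), (28610, 27440), (28611, 29592), (28612, 27451), (28613, 29574), (28614, 29594), (28615, 29578), (28616, 27445), (28617, 29582), (28618, 29586), (28619, 29589), (28620, 27450), (28621, 29597), (28622, 27459), (28623, 27486), (28624, 27668), (28625, 27455), (28626, 29195), (28627, 29196), (28628, 28628), (28629, 27458), (28630, 27477), (28631, 27474), (28632, 29211), (28633, 29212), (28634, 28634), (28635, 29215), (28636, 29608), (28637, 28637), (28638, 27844), (28639, 27483), (28640, 27484), (28641, 27720), (28642, 27472), (28643, 27718), (28644, 29604), (28645, 29603), (28646, 28646), (28647, 27837), (28648, 27852), (28649, 27479), (28650, 29620), (28651, 29504), (28652, 29456), (28653, 27547), (28654, 27482), (28655, 29610), (28656, 29585), (28657, 27549), (28658, 29224), (28659, 29225), (28660, 27550), (28661, 29226), (28662, 29633), (28663, 29227), (28664, 27553),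 (28665, 29636), (28666, 27494), (28667, 29638), (28668, 27557), (28669, 27509), (28670, 27514), (28671, 27515)]
    ⟨e3 q28608 L804958 q27448, e3 q28609 L815756 q29590, e3 q28610 (flp_c L804976) q27440, e3 q28611 (flp_c L815782) q29592, e3 q28612 L805000 q27451, e3 q28613 (flp_c L815584) q29574, e3 q28614 L815800 q29594, e3 q28615 (flp_c L815614) q29578, e3 q28616 (flp_c L805039) q27445, e3 q28617 (flp_c L815658) q29582, e3 q28618 (flp_c L815710) q29586, e3 q28619 (flp_c L815746) q29589, e3 q28620 L805088 q27450, e3 q28621 (flp_c L815832) q29597, e3 q28622 L805111 q27459, e3 q28623 L805125 q27486, e3 q28624 L805149 q27668, e3 q28625 L805153 q27455, e3 q28626 (flp_c L810999) q29195, e3 q28627 (flp_c L811019) q29196, e3 q28628 L805179 q28628, e3 q28629 L805186 q27458, e3 q28630 L805204 q27477, e3 q28631 L805220 q27474, e3 q28632 (flp_c L811231) q29211, e3 q28633 (flp_c L811247) q29212, e3 q28634 L805248 q28634, e3 q28635 (flp_c L811280) q29215, e3 q28636 L815943 q29608, e3 q28637 L805265 q28637, e3 q28638 L805274 q27844, e3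 q28639 L805288 q27483, e3 q28640 L805300 q27484, e3 q28641 L805314 q27720, e3 q28642 L805318 q27472, e3 q28643 L805338 q27718, e3 q28644 (flp_c L815913) q29604, e3 q28645 (flp_c L815895) q29603, e3 q28646 L805360 q28646, e3 q28647 L805363 q27837, e3 q28648 L805385 q27852, e3 q28649 L805389 q27479, e3 q28650 (flp_c L816062) q29620, e3 q28651 (flp_c L814884) q29504, e3 q28652 (flp_c L814326) q29456, e3 q28653 L805425 q27547, e3 q28654 L805431 q27482, e3 q28655 (flp_c L815962) q29610, e3 q28656 (flp_c L815704) q29585, e3 q28657 L805457 q27549, e3 q28658 (flp_c L811395) q29224, e3 q28659 (flp_c L811413) q29225, e3 q28660 L805487 q27550, e3 q28661 (flp_c L811433) q29226, e3 q28662 L816176 q29633, e3 q28663 (flp_c L811445) q29227, e3 q28664 L805507 q27553, e3 q28665 L816198 q29636, e3 q28666 (flp_c L805519) q27494, e3 q28667 (flp_c L816218) q29638, e3 q28668 L805537 q27557, e3 q28669 L805551 q27509, e3 q28670 L805555 q27514, e3 q28671 L805565 q27515, trivial⟩ (by decide +kernel)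

theorem ce_c_448 : ∀ r, r < 64 → sm gc (Qf (28672 + r)) = Qf (tab Gen.c (28672 + r)) :=
  edges_tab (sm gc) Qf (tab Gen.c) 28672 [(28672, 28672), (28673, 27528), (28674, 27531), (28675, 29343), (28676, 27506), (28677, 29646), (28678, 29329), (28679, 27508), (28680, 29650), (28681, 29640), (28682, 29207), (28683, 28683), (28684, 27511), (28685, 29487), (28686, 29488), (28687, 28687), (28688, 29641), (28689, 29660), (28690, 27892), (28691, 28691), (28692, 28692), (28693, 27859), (28694, 27648), (28695, 27679), (28696, 27891), (28697, 27676), (28698, 27569), (28699, 29544), (28700, 29188), (28701, 27527), (28702, 29206), (28703, 29057), (28704, 29587), (28705, 29440), (28706, 29588), (28707, 27558), (28708, 29241), (28709, 27703), (28710, 27735), (28711, 27729), (28712, 27559), (28713, 27542), (28714, 29677), (28715, 27544), (28716, 29623), (28717, 29624), (28718, 29625), (28719, 29628), (28720, 29682), (28721, 27552), (28722, 29635), (28723, 27554), (28724, 29684), (28725, 27556), (28726, 27913), (28727, 27561), (28728, 27568),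 (28729, 29686), (28730, 29687), (28731, 27583), (28732, 27584), (28733, 27814), (28734, 27815), (28735, 28735)]
    ⟨e3 q28672 L805575 q28672, e3 q28673 L805580 q27528, e3 q28674 L805596 q27531, e3 q28675 (flp_c L813139) q29343, e3 q28676 L805612 q27506, e3 q28677 (flp_c L816295) q29646, e3 q28678 (flp_c L812981) q29329, e3 q28679 L805639 q27508, e3 q28680 (flp_c L816328) q29650, e3 q28681 (flp_c L816234) q29640, e3 q28682 (flp_c L811177) q29207, e3 q28683 L805672 q28683, e3 q28684 L805675 q27511, e3 q28685 (flp_c L814690) q29487, e3 q28686 (flp_c L814708) q29488, e3 q28687 L805697 q28687, e3 q28688 (flp_c L816248) q29641, e3 q28689 L816394 q29660, e3 q28690 L805712 q27892, e3 q28691 L805722 q28691, e3 q28692 L805729 q28692, e3 q28693 L805740 q27859, e3 q28694 L805756 q27648, e3 q28695 L805766 q27679, e3 q28696 L805776 q27891, e3 q28697 L805784 q27676, e3 q28698 L805796 q27569, e3 q28699 (flp_c L815307) q29544, e3 q28700 (flp_c L810896) q29188, e3 q28701 L805818 q27527, e3 q28702 L811171 q29206, e3 q28703 (flp_c L809062)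 q29057, e3 q28704 (flp_c L815728) q29587, e3 q28705 (flp_c L814132) q29440, e3 q28706 (flp_c L815736) q29588, e3 q28707 L805874 q27558, e3 q28708 (flp_c L811675) q29241, e3 q28709 (flp_c L805900) q27703, e3 q28710 (flp_c L805910) q27735, e3 q28711 L805916 q27729, e3 q28712 L805924 q27559, e3 q28713 (flp_c L805930) q27542, e3 q28714 (flp_c L816557) q29677, e3 q28715 L805944 q27544, e3 q28716 (flp_c L816088) q29623, e3 q28717 (flp_c L816096) q29624, e3 q28718 (flp_c L816106) q29625, e3 q28719 (flp_c L816136) q29628, e3 q28720 L816589 q29682, e3 q28721 (flp_c L805988) q27552, e3 q28722 (flp_c L816194) q29635, e3 q28723 (flp_c L806002) q27554, e3 q28724 (flp_c L816613) q29684, e3 q28725 L806026 q27556, e3 q28726 L806040 q27913, e3 q28727 L806046 q27561, e3 q28728 L806058 q27568, e3 q28729 (flp_c L816637) q29686, e3 q28730 (flp_c L816643) q29687, e3 q28731 L806077 q27583, e3 q28732 L806093 q27584, e3 q28733 L806105 q27814, e3 q28734 L806123 q27815, e3 q28735 L806143 q28735, trivial⟩ (by decide +kernel)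

theorem ce_c_449 : ∀ r, r < 64 → sm gc (Qf (28736 + r)) = Qf (tab Gen.c (28736 + r)) :=
  edges_tab (sm gc) Qf (tab Gen.c) 28736 [(28736, 29249), (28737, 29250), (28738, 29688), (28739, 29062), (28740, 29063), (28741, 27909), (28742, 27593), (28743, 29084), (28744, 29085), (28745, 28745), (28746, 29095), (28747, 27601), (28748, 27600), (28749, 29695), (28750, 29696), (28751, 27603), (28752, 29263), (28753, 29264), (28754, 28754), (28755, 27617), (28756, 27618), (28757, 27609), (28758, 29034), (28759, 27611), (28760, 29525), (28761, 29526), (28762, 27614), (28763, 29709), (28764, 29037), (28765, 29038), (28766, 29702), (28767, 29703), (28768, 27620), (28769, 27630), (28770, 27631), (28771, 27638), (28772, 27624), (28773, 27635), (28774, 27636), (28775, 29050), (28776, 29051), (28777, 28777), (28778, 29713), (28779, 29715), (28780, 29054), (28781, 29716), (28782, 27644), (28783, 27645), (28784, 27641), (28785, 29505), (28786, 29506), (28787, 28787), (28788, 29720), (28789, 29137), (28790, 27647), (28791, 29727), (28792, 29665),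 (28793, 29421), (28794, 27650), (28795, 27658), (28796, 27653), (28797, 27660), (28798, 27661), (28799, 29289)]
    ⟨e3 q28736 (flp_c L811791) q29249, e3 q28737 (flp_c L811811) q29250, e3 q28738 (flp_c L816651) q29688, e3 q28739 (flp_c L809128) q29062, e3 q28740 (flp_c L809146) q29063, e3 q28741 L806204 q27909, e3 q28742 L806220 q27593, e3 q28743 (flp_c L809459) q29084, e3 q28744 (flp_c L809477) q29085, e3 q28745 L806238 q28745, e3 q28746 (flp_c L809612) q29095, e3 q28747 L806259 q27601, e3 q28748 L806265 q27600, e3 q28749 (flp_c L816731) q29695, e3 q28750 (flp_c L816745) q29696, e3 q28751 L806301 q27603, e3 q28752 (flp_c L812009) q29263, e3 q28753 (flp_c L812025) q29264, e3 q28754 L806327 q28754, e3 q28755 L806330 q27617, e3 q28756 L806338 q27618, e3 q28757 L806346 q27609, e3 q28758 (flp_c L808741) q29034, e3 q28759 L806366 q27611, e3 q28760 (flp_c L815095) q29525, e3 q28761 (flp_c L815109) q29526, e3 q28762 L806400 q27614, e3 q28763 (flp_c L816877) q29709, e3 q28764 (flp_c L808774) q29037, e3 q28765 (flp_c L808792) q29038,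 e3 q28766 (flp_c L816804) q29702, e3 q28767 (flp_c L816812) q29703, e3 q28768 L806462 q27620, e3 q28769 L806468 q27630, e3 q28770 L806478 q27631, e3 q28771 L806488 q27638, e3 q28772 L806492 q27624, e3 q28773 L806502 q27635, e3 q28774 L806510 q27636, e3 q28775 (flp_c L808969) q29050, e3 q28776 (flp_c L808983) q29051, e3 q28777 L806542 q28777, e3 q28778 (flp_c L816917) q29713, e3 q28779 (flp_c L816933) q29715, e3 q28780 (flp_c L809016) q29054, e3 q28781 (flp_c L816943) q29716, e3 q28782 L806581 q27644, e3 q28783 L806595 q27645, e3 q28784 L806611 q27641, e3 q28785 (flp_c L814900) q29505, e3 q28786 (flp_c L814916) q29506, e3 q28787 L806637 q28787, e3 q28788 (flp_c L816981) q29720, e3 q28789 (flp_c L810274) q29137, e3 q28790 L806658 q27647, e3 q28791 (flp_c L817044) q29727, e3 q28792 (flp_c L816441) q29665, e3 q28793 (flp_c L813949) q29421, e3 q28794 L806689 q27650, e3 q28795 L806703 q27658, e3 q28796 L806707 q27653, e3 q28797 L806715 q27660, e3 q28798 L806729 q27661, e3 q28799 (flp_c L812419) q29289, trivial⟩ (by decide +kernel)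

theorem ce_c_450 : ∀ r, r < 64 → sm gc (Qf (28800 + r)) = Qf (tab Gen.c (28800 + r)) :=
  edges_tab (sm gc) Qf (tab Gen.c) 28800 [(28800, 27657), (28801, 29730), (28802, 29731), (28803, 28803), (28804, 29733), (28805, 27670), (28806, 27671), (28807, 28807), (28808, 27673), (28809, 27674), (28810, 29571), (28811, 29598), (28812, 29599), (28813, 28813), (28814, 29739), (28815, 29744), (28816, 29666), (28817, 29667), (28818, 28818), (28819, 27678), (28820, 29425), (28821, 29427), (28822, 27897), (28823, 29750), (28824, 28824), (28825, 27700), (28826, 27701), (28827, 27702), (28828, 29292), (28829, 27690), (28830, 29463), (28831, 29464), (28832, 28832), (28833, 29295), (28834, 29296), (28835, 27695), (28836, 29761), (28837, 29468), (28838, 29469), (28839, 27699), (28840, 29753), (28841, 29673), (28842, 29630), (28843, 27887), (28844, 27888), (28845, 27722), (28846, 27723), (28847, 28847), (28848, 27725), (28849, 27726), (28850, 27728), (28851, 27732), (28852, 27734), (28853, 29614), (28854, 29200), (28855, 28855), (28856, 29611),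 (28857, 29612), (28858, 28858), (28859, 29766), (28860, 29774), (28861, 29768), (28862, 29675), (28863, 29674)]
    ⟨e3 q28800 L806751 q27657, e3 q28801 (flp_c L817068) q29730, e3 q28802 (flp_c L817080) q29731, e3 q28803 L806781 q28803, e3 q28804 (flp_c L817097) q29733, e3 q28805 L806794 q27670, e3 q28806 L806802 q27671, e3 q28807 L806808 q28807, e3 q28808 L806811 q27673, e3 q28809 L806829 q27674, e3 q28810 (flp_c L815536) q29571, e3 q28811 (flp_c L815844) q29598, e3 q28812 (flp_c L815860) q29599, e3 q28813 L806861 q28813, e3 q28814 (flp_c L817156) q29739, e3 q28815 L817182 q29744, e3 q28816 (flp_c L816449) q29666, e3 q28817 (flp_c L816461) q29667, e3 q28818 L806884 q28818, e3 q28819 L806889 q27678, e3 q28820 (flp_c L813989) q29425, e3 q28821 (flp_c L814005) q29427, e3 q28822 L806911 q27897, e3 q28823 L817211 q29750, e3 q28824 L806919 q28824, e3 q28825 L806922 q27700, e3 q28826 L806936 q27701, e3 q28827 L806946 q27702, e3 q28828 (flp_c L812464) q29292, e3 q28829 L806966 q27690, e3 q28830 (flp_c L814415) q29463, e3 q28831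 (flp_c L814431) q29464, e3 q28832 L806996 q28832, e3 q28833 (flp_c L812497) q29295, e3 q28834 (flp_c L812513) q29296, e3 q28835 L807015 q27695, e3 q28836 (flp_c L817298) q29761, e3 q28837 (flp_c L814477) q29468, e3 q28838 (flp_c L814491) q29469, e3 q28839 L807045 q27699, e3 q28840 (flp_c L817227) q29753, e3 q28841 L816519 q29673, e3 q28842 (flp_c L816164) q29630, e3 q28843 L807069 q27887, e3 q28844 L807085 q27888, e3 q28845 L807093 q27722, e3 q28846 L807103 q27723, e3 q28847 L807109 q28847, e3 q28848 L807112 q27725, e3 q28849 L807120 q27726, e3 q28850 L807128 q27728, e3 q28851 L807134 q27732, e3 q28852 L807150 q27734, e3 q28853 (flp_c L815999) q29614, e3 q28854 (flp_c L811066) q29200, e3 q28855 L807178 q28855, e3 q28856 (flp_c L815968) q29611, e3 q28857 (flp_c L815982) q29612, e3 q28858 L807197 q28858, e3 q28859 (flp_c L817336) q29766, e3 q28860 L817386 q29774, e3 q28861 (flp_c L817348) q29768, e3 q28862 (flp_c L816535) q29675, e3 q28863 (flp_c L816525) q29674, trivial⟩ (by decide +kernel)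

theorem ce_c_451 : ∀ r, r < 64 → sm gc (Qf (28864 + r)) = Qf (tab Gen.c (28864 + r)) :=
  edges_tab (sm gc) Qf (tab Gen.c) 28864 [(28864, 29583), (28865, 29183), (28866, 29202), (28867, 29382), (28868, 29318), (28869, 29361), (28870, 27744), (28871, 29781), (28872, 29363), (28873, 29364), (28874, 28874), (28875, 27747), (28876, 29366), (28877, 29313), (28878, 29389), (28879, 27752), (28880, 29789), (28881, 29391), (28882, 29392), (28883, 28883), (28884, 27755), (28885, 29394), (28886, 29395), (28887, 27758), (28888, 29396), (28889, 29326), (28890, 29397), (28891, 29321), (28892, 29325), (28893, 29001), (28894, 29333), (28895, 29334), (28896, 28896), (28897, 29367), (28898, 29252), (28899, 27782), (28900, 29448), (28901, 29449), (28902, 28902), (28903, 29452), (28904, 29803), (28905, 29388), (28906, 29253), (28907, 29384), (28908, 27790), (28909, 29280), (28910, 27800), (28911, 27803), (28912, 29457), (28913, 29282), (28914, 29299), (28915, 29300), (28916, 29460), (28917, 29461), (28918, 28918), (28919, 27838), (28920, 27839),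 (28921, 28921), (28922, 29689), (28923, 29810), (28924, 27823), (28925, 27824), (28926, 29474), (28927, 29475)]
    ⟨e3 q28864 (flp_c L815670) q29583, e3 q28865 (flp_c L810822) q29183, e3 q28866 (flp_c L811097) q29202, e3 q28867 (flp_c L813530) q29382, e3 q28868 (flp_c L812824) q29318, e3 q28869 (flp_c L813302) q29361, e3 q28870 L807268 q27744, e3 q28871 (flp_c L817436) q29781, e3 q28872 (flp_c L813320) q29363, e3 q28873 (flp_c L813336) q29364, e3 q28874 L807295 q28874, e3 q28875 L807300 q27747, e3 q28876 (flp_c L813359) q29366, e3 q28877 (flp_c L812749) q29313, e3 q28878 (flp_c L813610) q29389, e3 q28879 L807332 q27752, e3 q28880 (flp_c L817497) q29789, e3 q28881 (flp_c L813628) q29391, e3 q28882 (flp_c L813642) q29392, e3 q28883 L807363 q28883, e3 q28884 L807370 q27755, e3 q28885 (flp_c L813657) q29394, e3 q28886 (flp_c L813673) q29395, e3 q28887 L807394 q27758, e3 q28888 (flp_c L813685) q29396, e3 q28889 (flp_c L812930) q29326, e3 q28890 (flp_c L813695) q29397, e3 q28891 (flp_c L812868) q29321, e3 q28892 (flp_c L812924)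 q29325, e3 q28893 (flp_c L808230) q29001, e3 q28894 (flp_c L813027) q29333, e3 q28895 (flp_c L813041) q29334, e3 q28896 L807456 q28896, e3 q28897 (flp_c L813369) q29367, e3 q28898 (flp_c L811851) q29252, e3 q28899 L807475 q27782, e3 q28900 (flp_c L814221) q29448, e3 q28901 (flp_c L814239) q29449, e3 q28902 L807497 q28902, e3 q28903 (flp_c L814282) q29452, e3 q28904 L817593 q29803, e3 q28905 (flp_c L813586) q29388, e3 q28906 (flp_c L811869) q29253, e3 q28907 (flp_c L813546) q29384, e3 q28908 L807532 q27790, e3 q28909 (flp_c L812267) q29280, e3 q28910 L807546 q27800, e3 q28911 L807554 q27803, e3 q28912 (flp_c L814344) q29457, e3 q28913 L812309 q29282, e3 q28914 (flp_c L812551) q29299, e3 q28915 (flp_c L812567) q29300, e3 q28916 (flp_c L814378) q29460, e3 q28917 (flp_c L814394) q29461, e3 q28918 L807592 q28918, e3 q28919 L807597 q27838, e3 q28920 L807609 q27839, e3 q28921 L807621 q28921, e3 q28922 (flp_c L816667) q29689, e3 q28923 L817640 q29810, e3 q28924 L807636 q27823, e3 q28925 L807648 q27824, e3 q28926 (flp_c L814540) q29474,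 e3 q28927 (flp_c L814558) q29475, trivial⟩ (by decide +kernel)

theorem ce_c_452 : ∀ r, r < 64 → sm gc (Qf (28928 + r)) = Qf (tab Gen.c (28928 + r)) :=
  edges_tab (sm gc) Qf (tab Gen.c) 28928 [(28928, 28928), (28929, 29811), (28930, 27831), (28931, 27832), (28932, 28932), (28933, 27834), (28934, 29814), (28935, 29817), (28936, 29067), (28937, 29807), (28938, 29819), (28939, 27924), (28940, 27923), (28941, 27854), (28942, 27855), (28943, 27856), (28944, 29075), (28945, 29618), (28946, 29619), (28947, 29821), (28948, 29179), (28949, 29180), (28950, 28950), (28951, 29558), (28952, 29827), (28953, 29572), (28954, 29573), (28955, 27881), (28956, 27882), (28957, 28957), (28958, 27889), (28959, 29096), (28960, 27878), (28961, 29330), (28962, 27875), (28963, 29834), (28964, 29516), (28965, 29517), (28966, 28966), (28967, 29492), (28968, 29493), (28969, 28969), (28970, 29829), (28971, 29843), (28972, 29542), (28973, 29543), (28974, 29765), (28975, 29659), (28976, 29846), (28977, 29358), (28978, 29848), (28979, 29849), (28980, 27898),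 (28981, 29851), (28982, 27903), (28983, 29683), (28984, 27922), (28985, 27919), (28986, 27918), (28987, 27925), (28988, 29676), (28989, 29685), (28990, 27917), (28991, 29495)]
    ⟨e3 q28928 L807672 q28928, e3 q28929 (flp_c L817649) q29811, e3 q28930 L807681 q27831, e3 q28931 L807695 q27832, e3 q28932 L807707 q28932, e3 q28933 L807712 q27834, e3 q28934 (flp_c L817673) q29814, e3 q28935 L817689 q29817, e3 q28936 (flp_c L809208) q29067, e3 q28937 (flp_c L817620) q29807, e3 q28938 L817698 q29819, e3 q28939 L807742 q27924, e3 q28940 L807752 q27923, e3 q28941 L807758 q27854, e3 q28942 L807766 q27855, e3 q28943 L807774 q27856, e3 q28944 (flp_c L809322) q29075, e3 q28945 (flp_c L816038) q29618, e3 q28946 (flp_c L816052) q29619, e3 q28947 (flp_c L817715) q29821, e3 q28948 (flp_c L810771) q29179, e3 q28949 (flp_c L810787) q29180, e3 q28950 L807816 q28950, e3 q28951 (flp_c L815421) q29558, e3 q28952 L817749 q29827, e3 q28953 (flp_c L815554) q29572, e3 q28954 (flp_c L815568) q29573, e3 q28955 L807841 q27881, e3 q28956 L807851 q27882,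 e3 q28957 L807857 q28957, e3 q28958 L807862 q27889, e3 q28959 (flp_c L809626) q29096, e3 q28960 L807876 q27878, e3 q28961 (flp_c L812997) q29330, e3 q28962 L807890 q27875, e3 q28963 (flp_c L817793) q29834, e3 q28964 (flp_c L815008) q29516, e3 q28965 (flp_c L815026) q29517, e3 q28966 L807923 q28966, e3 q28967 (flp_c L814753) q29492, e3 q28968 (flp_c L814769) q29493, e3 q28969 L807944 q28969, e3 q28970 (flp_c L817762) q29829, e3 q28971 L817856 q29843, e3 q28972 (flp_c L815279) q29542, e3 q28973 (flp_c L815297) q29543, e3 q28974 (flp_c L817326) q29765, e3 q28975 (flp_c L816388) q29659, e3 q28976 L817875 q29846, e3 q28977 (flp_c L813263) q29358, e3 q28978 L817886 q29848, e3 q28979 L817891 q29849, e3 q28980 (flp_c L808007) q27898, e3 q28981 (flp_c L817902) q29851, e3 q28982 L808018 q27903, e3 q28983 (flp_c L816607) q29683, e3 q28984 L808038 q27922, e3 q28985 L808050 q27919, e3 q28986 L808060 q27918, e3 q28987 L808068 q27925, e3 q28988 (flp_c L816551) q29676, e3 q28989 (flp_c L816623) q29685, e3 q28990 L808086 q27917, e3 q28991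 (flp_c L814792) q29495, trivial⟩ (by decide +kernel)

theorem ce_c_453 : ∀ r, r < 64 → sm gc (Qf (28992 + r)) = Qf (tab Gen.c (28992 + r)) :=
  edges_tab (sm gc) Qf (tab Gen.c) 28992 [(28992, 29496), (28993, 29853), (28994, 29498), (28995, 29820), (28996, 28239), (28997, 28240), (28998, 28214), (28999, 28367), (29000, 28251), (29001, 28893), (29002, 27937), (29003, 29860), (29004, 28363), (29005, 28422), (29006, 28423), (29007, 29861), (29008, 27947), (29009, 28512), (29010, 27950), (29011, 28436), (29012, 27952), (29013, 28438), (29014, 27962), (29015, 27955), (29016, 29870), (29017, 29869), (29018, 27957), (29019, 28080), (29020, 28324), (29021, 27959), (29022, 29876), (29023, 28321), (29024, 27961), (29025, 29881), (29026, 29867), (29027, 29868), (29028, 27964), (29029, 29885), (29030, 28442), (29031, 28443), (29032, 29032), (29033, 28447), (29034, 28758), (29035, 27971), (29036, 29892), (29037, 28764), (29038, 28765), (29039, 27974), (29040, 29896), (29041, 28222), (29042, 27977), (29043, 29900), (29044, 28448), (29045,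 28449), (29046, 27994), (29047, 28103), (29048, 27982), (29049, 29907), (29050, 28775), (29051, 28776), (29052, 29052), (29053, 27985), (29054, 28780), (29055, 28493)]
    ⟨e3 q28992 (flp_c L814806) q29496, e3 q28993 (flp_c L817916) q29853, e3 q28994 (flp_c L814830) q29498, e3 q28995 (flp_c L817707) q29820, e3 q28996 L808128 q28239, e3 q28997 L808148 q28240, e3 q28998 L808164 q28214, e3 q28999 L808184 q28367, e3 q29000 L808208 q28251, e3 q29001 L808230 q28893, e3 q29002 L808238 q27937, e3 q29003 (flp_c L818000) q29860, e3 q29004 L808274 q28363, e3 q29005 L808288 q28422, e3 q29006 L808312 q28423, e3 q29007 L818014 q29861, e3 q29008 (flp_c L808340) q27947, e3 q29009 L808362 q28512, e3 q29010 L808376 q27950, e3 q29011 L808402 q28436, e3 q29012 L808408 q27952, e3 q29013 L808422 q28438, e3 q29014 L808452 q27962, e3 q29015 L808458 q27955, e3 q29016 (flp_c L818167) q29870, e3 q29017 (flp_c L818157) q29869, e3 q29018 L808506 q27957, e3 q29019 L808522 q28080, e3 q29020 L808546 q28324, e3 q29021 L808552 q27959, e3 q29022 (flp_c L818264)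 q29876, e3 q29023 L808591 q28321, e3 q29024 L808597 q27961, e3 q29025 (flp_c L818340) q29881, e3 q29026 (flp_c L818117) q29867, e3 q29027 (flp_c L818137) q29868, e3 q29028 L808650 q27964, e3 q29029 (flp_c L818395) q29885, e3 q29030 L808670 q28442, e3 q29031 L808686 q28443, e3 q29032 L808706 q29032, e3 q29033 L808709 q28447, e3 q29034 L808741 q28758, e3 q29035 L808747 q27971, e3 q29036 (flp_c L818493) q29892, e3 q29037 L808774 q28764, e3 q29038 L808792 q28765, e3 q29039 L808806 q27974, e3 q29040 (flp_c L818556) q29896, e3 q29041 L808846 q28222, e3 q29042 L808852 q27977, e3 q29043 (flp_c L818620) q29900, e3 q29044 L808882 q28448, e3 q29045 L808898 q28449, e3 q29046 L808916 q27994, e3 q29047 L808934 q28103, e3 q29048 L808940 q27982, e3 q29049 (flp_c L818727) q29907, e3 q29050 L808969 q28775, e3 q29051 L808983 q28776, e3 q29052 L808995 q29052, e3 q29053 L809002 q27985, e3 q29054 L809016 q28780, e3 q29055 L809028 q28493, trivial⟩ (by decide +kernel)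

theorem ce_c_454 : ∀ r, r < 64 → sm gc (Qf (29056 + r)) = Qf (tab Gen.c (29056 + r)) :=
  edges_tab (sm gc) Qf (tab Gen.c) 29056 [(29056, 28450), (29057, 28703), (29058, 27995), (29059, 29899), (29060, 29903), (29061, 29915), (29062, 28739), (29063, 28740), (29064, 28038), (29065, 27999), (29066, 29920), (29067, 28936), (29068, 28516), (29069, 28003), (29070, 28439), (29071, 28440), (29072, 28040), (29073, 28006), (29074, 28455), (29075, 28944), (29076, 28021), (29077, 28011), (29078, 28024), (29079, 28025), (29080, 28032), (29081, 28100), (29082, 28017), (29083, 29933), (29084, 28743), (29085, 28744), (29086, 29086), (29087, 28020), (29088, 29927), (29089, 29928), (29090, 28023), (29091, 29941), (29092, 29929), (29093, 28529), (29094, 28027), (29095, 28746), (29096, 28959), (29097, 28526), (29098, 28041), (29099, 28528), (29100, 28036), (29101, 29948), (29102, 29943), (29103, 28042), (29104, 29947), (29105, 28062), (29106, 28486), (29107, 28069), (29108, 28048), (29109, 28071), (29110, 28489), (29111, 28490), (29112, 28480),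 (29113, 28481), (29114, 29114), (29115, 28492), (29116, 28077), (29117, 28466), (29118, 28467), (29119, 29119)]
    ⟨e3 q29056 L809044 q28450, e3 q29057 L809062 q28703, e3 q29058 L809070 q27995, e3 q29059 (flp_c L818610) q29899, e3 q29060 (flp_c L818666) q29903, e3 q29061 (flp_c L818832) q29915, e3 q29062 L809128 q28739, e3 q29063 L809146 q28740, e3 q29064 L809162 q28038, e3 q29065 L809174 q27999, e3 q29066 (flp_c L818911) q29920, e3 q29067 L809208 q28936, e3 q29068 L809222 q28516, e3 q29069 L809234 q28003, e3 q29070 L809246 q28439, e3 q29071 L809262 q28440, e3 q29072 L809278 q28040, e3 q29073 L809288 q28006, e3 q29074 L809306 q28455, e3 q29075 L809322 q28944, e3 q29076 L809340 q28021, e3 q29077 L809346 q28011, e3 q29078 L809362 q28024, e3 q29079 L809380 q28025, e3 q29080 L809398 q28032, e3 q29081 L809424 q28100, e3 q29082 L809430 q28017, e3 q29083 (flp_c L819112) q29933, e3 q29084 L809459 q28743, e3 q29085 L809477 q28744, e3 q29086 L809493 q29086, e3 q29087 L809500 q28020, e3 q29088 (flp_c L819011) q29927, e3 q29089 (flp_c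 L819031) q29928, e3 q29090 L809538 q28023, e3 q29091 (flp_c L819222) q29941, e3 q29092 (flp_c L819051) q29929, e3 q29093 L809582 q28529, e3 q29094 L809594 q28027, e3 q29095 L809612 q28746, e3 q29096 L809626 q28959, e3 q29097 L809636 q28526, e3 q29098 L809650 q28041, e3 q29099 L809666 q28528, e3 q29100 L809674 q28036, e3 q29101 (flp_c L819334) q29948, e3 q29102 (flp_c L819254) q29943, e3 q29103 L809710 q28042, e3 q29104 (flp_c L819316) q29947, e3 q29105 L809737 q28062, e3 q29106 L809769 q28486, e3 q29107 L809785 q28069, e3 q29108 L809791 q28048, e3 q29109 L809805 q28071, e3 q29110 L809821 q28489, e3 q29111 L809839 q28490, e3 q29112 L809853 q28480, e3 q29113 L809873 q28481, e3 q29114 L809897 q29114, e3 q29115 L809908 q28492, e3 q29116 L809924 q28077, e3 q29117 L809940 q28466, e3 q29118 L809960 q28467, e3 q29119 L809984 q29119, trivial⟩ (by decide +kernel)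

theorem ce_c_455 : ∀ r, r < 64 → sm gc (Qf (29120 + r)) = Qf (tab Gen.c (29120 + r)) :=
  edges_tab (sm gc) Qf (tab Gen.c) 29120 [(29120, 28521), (29121, 28522), (29122, 29122), (29123, 28525), (29124, 28469), (29125, 29952), (29126, 29953), (29127, 29127), (29128, 28245), (29129, 28246), (29130, 28435), (29131, 28085), (29132, 28079), (29133, 29968), (29134, 28562), (29135, 28082), (29136, 29972), (29137, 28789), (29138, 28084), (29139, 29977), (29140, 29966), (29141, 29967), (29142, 28087), (29143, 29981), (29144, 28537), (29145, 28090), (29146, 29985), (29147, 28539), (29148, 28540), (29149, 29149), (29150, 28310), (29151, 28095), (29152, 28106), (29153, 28107), (29154, 28099), (29155, 28098), (29156, 29994), (29157, 29930), (29158, 29931), (29159, 29159), (29160, 28102), (29161, 29904), (29162, 29905), (29163, 29163), (29164, 28105), (29165, 29991), (29166, 29993), (29167, 28109), (29168, 28576), (29169, 30007), (29170, 29170), (29171, 28580), (29172, 28114), (29173, 30013), (29174, 28582), (29175, 28583), (29176, 29176),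 (29177, 28122), (29178, 28123), (29179, 28948), (29180, 28949), (29181, 29181), (29182, 30017), (29183, 28865)]
    ⟨e3 q29120 L809991 q28521, e3 q29121 L810011 q28522, e3 q29122 L810035 q29122, e3 q29123 L810046 q28525, e3 q29124 L810064 q28469, e3 q29125 (flp_c L819388) q29952, e3 q29126 (flp_c L819408) q29953, e3 q29127 L810112 q29127, e3 q29128 L810117 q28245, e3 q29129 L810137 q28246, e3 q29130 L810157 q28435, e3 q29131 L810183 q28085, e3 q29132 L810189 q28079, e3 q29133 (flp_c L819654) q29968, e3 q29134 L810229 q28562, e3 q29135 L810235 q28082, e3 q29136 (flp_c L819715) q29972, e3 q29137 L810274 q28789, e3 q29138 L810280 q28084, e3 q29139 (flp_c L819793) q29977, e3 q29140 (flp_c L819620) q29966, e3 q29141 (flp_c L819640) q29967, e3 q29142 L810333 q28087, e3 q29143 (flp_c L819848) q29981, e3 q29144 L810365 q28537, e3 q29145 L810371 q28090, e3 q29146 (flp_c L819907) q29985, e3 q29147 L810400 q28539, e3 q29148 L810416 q28540, e3 q29149 L810432 q29149, e3 q29150 L810447 q28310, e3 q29151 L810453 q28095, e3 q29152 L810465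 q28106, e3 q29153 L810477 q28107, e3 q29154 L810489 q28099, e3 q29155 L810495 q28098, e3 q29156 (flp_c L820020) q29994, e3 q29157 (flp_c L819065) q29930, e3 q29158 (flp_c L819085) q29931, e3 q29159 L810542 q29159, e3 q29160 L810549 q28102, e3 q29161 (flp_c L818678) q29904, e3 q29162 (flp_c L818698) q29905, e3 q29163 L810585 q29163, e3 q29164 L810592 q28105, e3 q29165 (flp_c L819992) q29991, e3 q29166 (flp_c L820012) q29993, e3 q29167 L810620 q28109, e3 q29168 L810630 q28576, e3 q29169 L820149 q30007, e3 q29170 L810650 q29170, e3 q29171 L810669 q28580, e3 q29172 L810675 q28114, e3 q29173 (flp_c L820230) q30013, e3 q29174 L810704 q28582, e3 q29175 L810718 q28583, e3 q29176 L810736 q29176, e3 q29177 L810739 q28122, e3 q29178 L810757 q28123, e3 q29179 L810771 q28948, e3 q29180 L810787 q28949, e3 q29181 L810807 q29181, e3 q29182 (flp_c L820281) q30017, e3 q29183 L810822 q28865, trivial⟩ (by decide +kernel)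

theorem ce_c_456 : ∀ r, r < 64 → sm gc (Qf (29184 + r)) = Qf (tab Gen.c (29184 + r)) :=
  edges_tab (sm gc) Qf (tab Gen.c) 29184 [(29184, 28590), (29185, 28591), (29186, 28127), (29187, 28594), (29188, 28700), (29189, 28152), (29190, 28138), (29191, 28139), (29192, 29192), (29193, 28143), (29194, 28579), (29195, 28626), (29196, 28627), (29197, 29197), (29198, 30025), (29199, 30031), (29200, 28854), (29201, 29201), (29202, 28866), (29203, 28603), (29204, 28604), (29205, 28606), (29206, 28702), (29207, 28682), (29208, 28153), (29209, 28277), (29210, 28155), (29211, 28632), (29212, 28633), (29213, 29213), (29214, 28158), (29215, 28635), (29216, 30046), (29217, 29217), (29218, 28587), (29219, 28190), (29220, 28167), (29221, 28168), (29222, 30050), (29223, 28201), (29224, 28658), (29225, 28659), (29226, 28661), (29227, 28663), (29228, 30054), (29229, 28176), (29230, 28599), (29231, 28602), (29232, 28187), (29233, 28188), (29234, 28189), (29235, 28194), (29236, 30055), (29237, 30049), (29238, 28460), (29239, 28600), (29240, 28459),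 (29241, 28708), (29242, 28199), (29243, 30051), (29244, 29990), (29245, 28213), (29246, 28288), (29247, 28414)]
    ⟨e3 q29184 L810834 q28590, e3 q29185 L810850 q28591, e3 q29186 L810864 q28127, e3 q29187 L810878 q28594, e3 q29188 L810896 q28700, e3 q29189 L810902 q28152, e3 q29190 L810914 q28138, e3 q29191 L810934 q28139, e3 q29192 L810958 q29192, e3 q29193 L810969 q28143, e3 q29194 L810981 q28579, e3 q29195 L810999 q28626, e3 q29196 L811019 q28627, e3 q29197 L811043 q29197, e3 q29198 (flp_c L820399) q30025, e3 q29199 L820485 q30031, e3 q29200 L811066 q28854, e3 q29201 L811082 q29201, e3 q29202 L811097 q28866, e3 q29203 L811107 q28603, e3 q29204 L811127 q28604, e3 q29205 L811147 q28606, e3 q29206 (flp_c L811171) q28702, e3 q29207 L811177 q28682, e3 q29208 L811187 q28153, e3 q29209 L811211 q28277, e3 q29210 L811217 q28155, e3 q29211 L811231 q28632, e3 q29212 L811247 q28633, e3 q29213 L811259 q29213, e3 q29214 L811266 q28158, e3 q29215 L811280 q28635, e3 q29216 L820684 q30046, e3 q29217 L811298 q29217, e3 q29218 L811307 q28587,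 e3 q29219 L811327 q28190, e3 q29220 L811345 q28167, e3 q29221 L811355 q28168, e3 q29222 (flp_c L820738) q30050, e3 q29223 L811385 q28201, e3 q29224 L811395 q28658, e3 q29225 L811413 q28659, e3 q29226 L811433 q28661, e3 q29227 L811445 q28663, e3 q29228 L820800 q30054, e3 q29229 (flp_c L811467) q28176, e3 q29230 L811487 q28599, e3 q29231 L811509 q28602, e3 q29232 L811521 q28187, e3 q29233 L811541 q28188, e3 q29234 L811559 q28189, e3 q29235 L811575 q28194, e3 q29236 (flp_c L820826) q30055, e3 q29237 (flp_c L820718) q30049, e3 q29238 L811621 q28460, e3 q29239 L811637 q28600, e3 q29240 L811661 q28459, e3 q29241 L811675 q28708, e3 q29242 (flp_c L811683) q28199, e3 q29243 (flp_c L820758) q30051, e3 q29244 (flp_c L819978) q29990, e3 q29245 L811719 q28213, e3 q29246 L811739 q28288, e3 q29247 L811759 q28414, trivial⟩ (by decide +kernel)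

theorem ce_c_457 : ∀ r, r < 64 → sm gc (Qf (29248 + r)) = Qf (tab Gen.c (29248 + r)) :=
  edges_tab (sm gc) Qf (tab Gen.c) 29248 [(29248, 28415), (29249, 28736), (29250, 28737), (29251, 28274), (29252, 28898), (29253, 28906), (29254, 28397), (29255, 28219), (29256, 30063), (29257, 28350), (29258, 28221), (29259, 30067), (29260, 29897), (29261, 29898), (29262, 28224), (29263, 28752), (29264, 28753), (29265, 29265), (29266, 28234), (29267, 28235), (29268, 28500), (29269, 28501), (29270, 29270), (29271, 28233), (29272, 30072), (29273, 28260), (29274, 28284), (29275, 28285), (29276, 29857), (29277, 28297), (29278, 28247), (29279, 29965), (29280, 28909), (29281, 28302), (29282, 28913), (29283, 28257), (29284, 28259), (29285, 30080), (29286, 30075), (29287, 30077), (29288, 28434), (29289, 28799), (29290, 28263), (29291, 30085), (29292, 28828), (29293, 28265), (29294, 30090), (29295, 28833), (29296, 28834), (29297, 28268), (29298, 30094), (29299, 28914), (29300, 28915), (29301, 29301), (29302, 28296), (29303, 28281), (29304, 28282),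 (29305, 30037), (29306, 30038), (29307, 29307), (29308, 28279), (29309, 28289), (29310, 30098), (29311, 28417)]
    ⟨e3 q29248 L811777 q28415, e3 q29249 L811791 q28736, e3 q29250 L811811 q28737, e3 q29251 L811827 q28274, e3 q29252 L811851 q28898, e3 q29253 L811869 q28906, e3 q29254 L811895 q28397, e3 q29255 L811901 q28219, e3 q29256 (flp_c L820961) q30063, e3 q29257 L811942 q28350, e3 q29258 L811948 q28221, e3 q29259 (flp_c L821026) q30067, e3 q29260 (flp_c L818570) q29897, e3 q29261 (flp_c L818590) q29898, e3 q29262 L811999 q28224, e3 q29263 L812009 q28752, e3 q29264 L812025 q28753, e3 q29265 L812045 q29265, e3 q29266 L812050 q28234, e3 q29267 L812070 q28235, e3 q29268 L812086 q28500, e3 q29269 L812102 q28501, e3 q29270 L812120 q29270, e3 q29271 L812127 q28233, e3 q29272 (flp_c L821096) q30072, e3 q29273 L812153 q28260, e3 q29274 L812167 q28284, e3 q29275 L812187 q28285, e3 q29276 (flp_c L817948) q29857, e3 q29277 L812223 q28297, e3 q29278 L812233 q28247, e3 q29279 (flp_c L819604) q29965, e3 q29280 L812267 q28909, e3 q29281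 L812283 q28302, e3 q29282 (flp_c L812309) q28913, e3 q29283 L812325 q28257, e3 q29284 L812329 q28259, e3 q29285 (flp_c L821229) q30080, e3 q29286 (flp_c L821140) q30075, e3 q29287 (flp_c L821175) q30077, e3 q29288 L812389 q28434, e3 q29289 L812419 q28799, e3 q29290 L812425 q28263, e3 q29291 (flp_c L821314) q30085, e3 q29292 L812464 q28828, e3 q29293 L812470 q28265, e3 q29294 (flp_c L821390) q30090, e3 q29295 L812497 q28833, e3 q29296 L812513 q28834, e3 q29297 L812527 q28268, e3 q29298 (flp_c L821449) q30094, e3 q29299 L812551 q28914, e3 q29300 L812567 q28915, e3 q29301 L812587 q29301, e3 q29302 L812590 q28296, e3 q29303 L812608 q28281, e3 q29304 L812626 q28282, e3 q29305 (flp_c L820563) q30037, e3 q29306 (flp_c L820583) q30038, e3 q29307 L812668 q29307, e3 q29308 L812673 q28279, e3 q29309 L812685 q28289, e3 q29310 (flp_c L821504) q30098, e3 q29311 L812717 q28417, trivial⟩ (by decide +kernel)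

theorem ce_c_458 : ∀ r, r < 64 → sm gc (Qf (29312 + r)) = Qf (tab Gen.c (29312 + r)) :=
  edges_tab (sm gc) Qf (tab Gen.c) 29312 [(29312, 30078), (29313, 28877), (29314, 28287), (29315, 30106), (29316, 28382), (29317, 28300), (29318, 28868), (29319, 28301), (29320, 30079), (29321, 28891), (29322, 28364), (29323, 28305), (29324, 30108), (29325, 28892), (29326, 28889), (29327, 28306), (29328, 30112), (29329, 28678), (29330, 28961), (29331, 28309), (29332, 29989), (29333, 28894), (29334, 28895), (29335, 29335), (29336, 28327), (29337, 28328), (29338, 28317), (29339, 28316), (29340, 30126), (29341, 30124), (29342, 30125), (29343, 28675), (29344, 29878), (29345, 29879), (29346, 29346), (29347, 28323), (29348, 30132), (29349, 29873), (29350, 29874), (29351, 29351), (29352, 28326), (29353, 30138), (29354, 30121), (29355, 30123), (29356, 28330), (29357, 30141), (29358, 28977), (29359, 30143), (29360, 29360), (29361, 28869), (29362, 28337), (29363, 28872), (29364, 28873), (29365, 29365), (29366, 28876), (29367, 28897), (29368, 28353),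 (29369, 28354), (29370, 29370), (29371, 28346), (29372, 28359), (29373, 28360), (29374, 30064), (29375, 30065)]
    ⟨e3 q29312 (flp_c L821193) q30078, e3 q29313 L812749 q28877, e3 q29314 L812757 q28287, e3 q29315 (flp_c L821617) q30106, e3 q29316 L812786 q28382, e3 q29317 L812806 q28300, e3 q29318 L812824 q28868, e3 q29319 L812834 q28301, e3 q29320 (flp_c L821223) q30079, e3 q29321 L812868 q28891, e3 q29322 L812878 q28364, e3 q29323 L812894 q28305, e3 q29324 (flp_c L821653) q30108, e3 q29325 L812924 q28892, e3 q29326 L812930 q28889, e3 q29327 L812942 q28306, e3 q29328 (flp_c L821721) q30112, e3 q29329 L812981 q28678, e3 q29330 L812997 q28961, e3 q29331 L813003 q28309, e3 q29332 (flp_c L819958) q29989, e3 q29333 L813027 q28894, e3 q29334 L813041 q28895, e3 q29335 L813055 q29335, e3 q29336 L813058 q28327, e3 q29337 L813070 q28328, e3 q29338 L813082 q28317, e3 q29339 L813088 q28316, e3 q29340 (flp_c L821894) q30126, e3 q29341 (flp_c L821872) q30124, e3 q29342 (flp_c L821886) q30125, e3 q29343 L813139 q28675, e3 q29344 (flp_c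 L818293) q29878, e3 q29345 (flp_c L818313) q29879, e3 q29346 L813161 q29346, e3 q29347 L813166 q28323, e3 q29348 (flp_c L821951) q30132, e3 q29349 (flp_c L818215) q29873, e3 q29350 (flp_c L818235) q29874, e3 q29351 L813201 q29351, e3 q29352 L813206 q28326, e3 q29353 (flp_c L822003) q30138, e3 q29354 (flp_c L821846) q30121, e3 q29355 (flp_c L821866) q30123, e3 q29356 L813237 q28330, e3 q29357 (flp_c L822031) q30141, e3 q29358 L813263 q28977, e3 q29359 L822049 q30143, e3 q29360 L813281 q29360, e3 q29361 L813302 q28869, e3 q29362 L813308 q28337, e3 q29363 L813320 q28872, e3 q29364 L813336 q28873, e3 q29365 L813352 q29365, e3 q29366 L813359 q28876, e3 q29367 L813369 q28897, e3 q29368 L813377 q28353, e3 q29369 L813395 q28354, e3 q29370 L813411 q29370, e3 q29371 L813422 q28346, e3 q29372 L813440 q28359, e3 q29373 L813454 q28360, e3 q29374 (flp_c L820975) q30064, e3 q29375 (flp_c L820995) q30065, trivial⟩ (by decide +kernel)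

theorem ce_c_459 : ∀ r, r < 64 → sm gc (Qf (29376 + r)) = Qf (tab Gen.c (29376 + r)) :=
  edges_tab (sm gc) Qf (tab Gen.c) 29376 [(29376, 29376), (29377, 28352), (29378, 30150), (29379, 30160), (29380, 30152), (29381, 29381), (29382, 28867), (29383, 30153), (29384, 28907), (29385, 30110), (29386, 30042), (29387, 28366), (29388, 28905), (29389, 28878), (29390, 28370), (29391, 28881), (29392, 28882), (29393, 29393), (29394, 28885), (29395, 28886), (29396, 28888), (29397, 28890), (29398, 28511), (29399, 28400), (29400, 28401), (29401, 29401), (29402, 28385), (29403, 28404), (29404, 28405), (29405, 28388), (29406, 28409), (29407, 28411), (29408, 28416), (29409, 28418), (29410, 28420), (29411, 30060), (29412, 30061), (29413, 29413), (29414, 28399), (29415, 30170), (29416, 30184), (29417, 30172), (29418, 29418), (29419, 29419), (29420, 30173), (29421, 28793), (29422, 30174), (29423, 28429), (29424, 28408), (29425, 28820), (29426, 30175), (29427, 28821), (29428, 28425), (29429, 28430), (29430, 28428), (29431, 30058), (29432, 30103),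 (29433, 30176), (29434, 30101), (29435, 28427), (29436, 28424), (29437, 30194), (29438, 30192), (29439, 30197)]
    ⟨e3 q29376 L813490 q29376, e3 q29377 L813493 q28352, e3 q29378 (flp_c L822141) q30150, e3 q29379 L822242 q30160, e3 q29380 (flp_c L822167) q30152, e3 q29381 L813521 q29381, e3 q29382 L813530 q28867, e3 q29383 (flp_c L822185) q30153, e3 q29384 L813546 q28907, e3 q29385 (flp_c L821691) q30110, e3 q29386 (flp_c L820636) q30042, e3 q29387 L813574 q28366, e3 q29388 L813586 q28905, e3 q29389 L813610 q28878, e3 q29390 L813616 q28370, e3 q29391 L813628 q28881, e3 q29392 L813642 q28882, e3 q29393 L813652 q29393, e3 q29394 L813657 q28885, e3 q29395 L813673 q28886, e3 q29396 L813685 q28888, e3 q29397 L813695 q28890, e3 q29398 L813701 q28511, e3 q29399 L813717 q28400, e3 q29400 L813733 q28401, e3 q29401 L813745 q29401, e3 q29402 L813754 q28385, e3 q29403 L813766 q28404, e3 q29404 L813780 q28405, e3 q29405 L813792 q28388, e3 q29406 L813806 q28409, e3 q29407 L813820 q28411, e3 q29408 L813836 q28416, e3 q29409 L813848 q28418,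 e3 q29410 L813864 q28420, e3 q29411 (flp_c L820912) q30060, e3 q29412 (flp_c L820932) q30061, e3 q29413 L813890 q29413, e3 q29414 L813895 q28399, e3 q29415 (flp_c L822350) q30170, e3 q29416 L822488 q30184, e3 q29417 (flp_c L822370) q30172, e3 q29418 L813923 q29418, e3 q29419 L813928 q29419, e3 q29420 (flp_c L822384) q30173, e3 q29421 L813949 q28793, e3 q29422 (flp_c L822398) q30174, e3 q29423 L813963 q28429, e3 q29424 L813973 q28408, e3 q29425 L813989 q28820, e3 q29426 (flp_c L822412) q30175, e3 q29427 L814005 q28821, e3 q29428 L814017 q28425, e3 q29429 L814029 q28430, e3 q29430 L814041 q28428, e3 q29431 (flp_c L820878) q30058, e3 q29432 (flp_c L821569) q30103, e3 q29433 (flp_c L822428) q30176, e3 q29434 (flp_c L821540) q30101, e3 q29435 L814083 q28427, e3 q29436 L814095 q28424, e3 q29437 (flp_c L822591) q30194, e3 q29438 (flp_c L822565) q30192, e3 q29439 (flp_c L822629) q30197, trivial⟩ (by decide +kernel)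

theorem ce_c_460 : ∀ r, r < 64 → sm gc (Qf (29440 + r)) = Qf (tab Gen.c (29440 + r)) :=
  edges_tab (sm gc) Qf (tab Gen.c) 29440 [(29440, 28705), (29441, 29864), (29442, 29865), (29443, 29443), (29444, 29923), (29445, 29925), (29446, 29886), (29447, 30205), (29448, 28900), (29449, 28901), (29450, 29450), (29451, 29901), (29452, 28903), (29453, 30209), (29454, 28515), (29455, 30056), (29456, 28652), (29457, 28912), (29458, 29958), (29459, 30212), (29460, 28916), (29461, 28917), (29462, 29462), (29463, 28830), (29464, 28831), (29465, 29465), (29466, 28475), (29467, 30221), (29468, 28837), (29469, 28838), (29470, 28479), (29471, 29956), (29472, 30225), (29473, 29473), (29474, 28926), (29475, 28927), (29476, 29476), (29477, 29951), (29478, 29863), (29479, 28495), (29480, 28488), (29481, 29955), (29482, 29895), (29483, 28496), (29484, 29912), (29485, 29910), (29486, 30232), (29487, 28685), (29488, 28686), (29489, 29489), (29490, 30073), (29491, 30239), (29492, 28967), (29493, 28968), (29494, 29494), (29495, 28991), (29496, 28992),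 (29497, 28531), (29498, 28994), (29499, 29919), (29500, 29862), (29501, 29922), (29502, 29859), (29503, 29921)]
    ⟨e3 q29440 L814132 q28705, e3 q29441 (flp_c L818068) q29864, e3 q29442 (flp_c L818088) q29865, e3 q29443 L814174 q29443, e3 q29444 (flp_c L818957) q29923, e3 q29445 (flp_c L818983) q29925, e3 q29446 (flp_c L818409) q29886, e3 q29447 L822707 q30205, e3 q29448 L814221 q28900, e3 q29449 L814239 q28901, e3 q29450 L814259 q29450, e3 q29451 (flp_c L818640) q29901, e3 q29452 L814282 q28903, e3 q29453 L822756 q30209, e3 q29454 L814306 q28515, e3 q29455 (flp_c L820846) q30056, e3 q29456 L814326 q28652, e3 q29457 L814344 q28912, e3 q29458 (flp_c L819495) q29958, e3 q29459 L822799 q30212, e3 q29460 L814378 q28916, e3 q29461 L814394 q28917, e3 q29462 L814410 q29462, e3 q29463 L814415 q28830, e3 q29464 L814431 q28831, e3 q29465 L814443 q29465, e3 q29466 L814450 q28475, e3 q29467 (flp_c L822911) q30221, e3 q29468 L814477 q28837, e3 q29469 L814491 q28838, e3 q29470 L814503 q28479, e3 q29471 (flp_c L819461) q29956, e3 q29472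 L822955 q30225, e3 q29473 L814533 q29473, e3 q29474 L814540 q28926, e3 q29475 L814558 q28927, e3 q29476 L814578 q29476, e3 q29477 (flp_c L819370) q29951, e3 q29478 (flp_c L818054) q29863, e3 q29479 L814609 q28495, e3 q29480 L814617 q28488, e3 q29481 (flp_c L819443) q29955, e3 q29482 (flp_c L818542) q29895, e3 q29483 L814651 q28496, e3 q29484 (flp_c L818790) q29912, e3 q29485 (flp_c L818763) q29910, e3 q29486 (flp_c L823030) q30232, e3 q29487 L814690 q28685, e3 q29488 L814708 q28686, e3 q29489 L814728 q29489, e3 q29490 (flp_c L821114) q30073, e3 q29491 L823112 q30239, e3 q29492 L814753 q28967, e3 q29493 L814769 q28968, e3 q29494 L814789 q29494, e3 q29495 L814792 q28991, e3 q29496 L814806 q28992, e3 q29497 L814820 q28531, e3 q29498 L814830 q28994, e3 q29499 (flp_c L818895) q29919, e3 q29500 (flp_c L818040) q29862, e3 q29501 (flp_c L818941) q29922, e3 q29502 (flp_c L817984) q29859, e3 q29503 (flp_c L818929) q29921, trivial⟩ (by decide +kernel)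

theorem ce_c_461 : ∀ r, r < 64 → sm gc (Qf (29504 + r)) = Qf (tab Gen.c (29504 + r)) :=
  edges_tab (sm gc) Qf (tab Gen.c) 29504 [(29504, 28651), (29505, 28785), (29506, 28786), (29507, 29507), (29508, 29960), (29509, 30251), (29510, 29510), (29511, 29945), (29512, 29936), (29513, 29942), (29514, 29940), (29515, 28536), (29516, 28964), (29517, 28965), (29518, 29518), (29519, 29982), (29520, 29983), (29521, 29521), (29522, 29986), (29523, 30261), (29524, 29524), (29525, 28760), (29526, 28761), (29527, 28545), (29528, 28544), (29529, 30268), (29530, 30267), (29531, 28561), (29532, 28565), (29533, 28566), (29534, 29534), (29535, 28551), (29536, 28570), (29537, 29924), (29538, 28571), (29539, 28557), (29540, 28556), (29541, 30276), (29542, 28972), (29543, 28973), (29544, 28699), (29545, 29969), (29546, 29970), (29547, 29547), (29548, 28564), (29549, 30283), (29550, 30269), (29551, 30286), (29552, 30271), (29553, 29553), (29554, 29554), (29555, 28569), (29556, 30273), (29557, 30275), (29558, 28951), (29559, 30292), (29560, 29560),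 (29561, 30295), (29562, 28577), (29563, 30297), (29564, 29564), (29565, 30010), (29566, 30011), (29567, 29567)]
    ⟨e3 q29504 L814884 q28651, e3 q29505 L814900 q28785, e3 q29506 L814916 q28786, e3 q29507 L814936 q29507, e3 q29508 (flp_c L819529) q29960, e3 q29509 L823246 q30251, e3 q29510 L814957 q29510, e3 q29511 (flp_c L819288) q29945, e3 q29512 (flp_c L819152) q29936, e3 q29513 (flp_c L819242) q29942, e3 q29514 (flp_c L819210) q29940, e3 q29515 L814994 q28536, e3 q29516 L815008 q28964, e3 q29517 L815026 q28965, e3 q29518 L815042 q29518, e3 q29519 (flp_c L819858) q29982, e3 q29520 (flp_c L819878) q29983, e3 q29521 L815067 q29521, e3 q29522 (flp_c L819925) q29986, e3 q29523 L823330 q30261, e3 q29524 L815086 q29524, e3 q29525 L815095 q28760, e3 q29526 L815109 q28761, e3 q29527 L815125 q28545, e3 q29528 L815131 q28544, e3 q29529 (flp_c L823406) q30268, e3 q29530 (flp_c L823392) q30267, e3 q29531 L815167 q28561, e3 q29532 L815185 q28565, e3 q29533 L815197 q28566, e3 q29534 L815207 q29534, e3 q29535 L815212 q28551, e3 q29536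 L815224 q28570, e3 q29537 (flp_c L818973) q29924, e3 q29538 L815238 q28571, e3 q29539 L815244 q28557, e3 q29540 L815256 q28556, e3 q29541 (flp_c L823490) q30276, e3 q29542 L815279 q28972, e3 q29543 L815297 q28973, e3 q29544 L815307 q28699, e3 q29545 (flp_c L819666) q29969, e3 q29546 (flp_c L819686) q29970, e3 q29547 L815345 q29547, e3 q29548 L815350 q28564, e3 q29549 (flp_c L823558) q30283, e3 q29550 (flp_c L823420) q30269, e3 q29551 L823578 q30286, e3 q29552 (flp_c L823438) q30271, e3 q29553 L815383 q29553, e3 q29554 L815392 q29554, e3 q29555 L815401 q28569, e3 q29556 (flp_c L823456) q30273, e3 q29557 (flp_c L823478) q30275, e3 q29558 L815421 q28951, e3 q29559 L823625 q30292, e3 q29560 L815439 q29560, e3 q29561 L823655 q30295, e3 q29562 (flp_c L815450) q28577, e3 q29563 (flp_c L823670) q30297, e3 q29564 L815463 q29564, e3 q29565 (flp_c L820183) q30010, e3 q29566 (flp_c L820203) q30011, e3 q29567 L815496 q29567, trivial⟩ (by decide +kernel)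

theorem ce_c_462 : ∀ r, r < 64 → sm gc (Qf (29568 + r)) = Qf (tab Gen.c (29568 + r)) :=
  edges_tab (sm gc) Qf (tab Gen.c) 29568 [(29568, 30014), (29569, 30302), (29570, 29570), (29571, 28810), (29572, 28953), (29573, 28954), (29574, 28613), (29575, 30021), (29576, 30308), (29577, 30022), (29578, 28615), (29579, 30311), (29580, 28595), (29581, 30218), (29582, 28617), (29583, 28864), (29584, 30034), (29585, 28656), (29586, 28618), (29587, 28704), (29588, 28706), (29589, 28619), (29590, 28609), (29591, 30318), (29592, 28611), (29593, 30321), (29594, 28614), (29595, 30310), (29596, 29596), (29597, 28621), (29598, 28811), (29599, 28812), (29600, 29600), (29601, 30027), (29602, 30327), (29603, 28645), (29604, 28644), (29605, 30040), (29606, 30329), (29607, 30330), (29608, 28636), (29609, 30332), (29610, 28655), (29611, 28856), (29612, 28857), (29613, 29613), (29614, 28853), (29615, 30326), (29616, 30336), (29617, 29617), (29618, 28945), (29619, 28946), (29620, 28650), (29621, 30210), (29622, 30305), (29623, 28716), (29624, 28717),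 (29625, 28718), (29626, 30314), (29627, 30315), (29628, 28719), (29629, 30052), (29630, 28842), (29631, 30350)]
    ⟨e3 q29568 (flp_c L820246) q30014, e3 q29569 L823712 q30302, e3 q29570 L815521 q29570, e3 q29571 L815536 q28810, e3 q29572 L815554 q28953, e3 q29573 L815568 q28954, e3 q29574 L815584 q28613, e3 q29575 (flp_c L820341) q30021, e3 q29576 L823777 q30308, e3 q29577 (flp_c L820355) q30022, e3 q29578 L815614 q28615, e3 q29579 L823809 q30311, e3 q29580 (flp_c L815632) q28595, e3 q29581 (flp_c L822873) q30218, e3 q29582 L815658 q28617, e3 q29583 L815670 q28864, e3 q29584 (flp_c L820521) q30034, e3 q29585 L815704 q28656, e3 q29586 L815710 q28618, e3 q29587 L815728 q28704, e3 q29588 L815736 q28706, e3 q29589 L815746 q28619, e3 q29590 (flp_c L815756) q28609, e3 q29591 (flp_c L823901) q30318, e3 q29592 L815782 q28611, e3 q29593 (flp_c L823933) q30321, e3 q29594 (flp_c L815800) q28614, e3 q29595 (flp_c L823801) q30310, e3 q29596 L815827 q29596, e3 q29597 L815832 q28621, e3 q29598 L815844 q28811, e3 q29599 L815860 q28812,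 e3 q29600 L815874 q29600, e3 q29601 (flp_c L820433) q30027, e3 q29602 L824000 q30327, e3 q29603 L815895 q28645, e3 q29604 L815913 q28644, e3 q29605 (flp_c L820618) q30040, e3 q29606 L824013 q30329, e3 q29607 L824018 q30330, e3 q29608 (flp_c L815943) q28636, e3 q29609 (flp_c L824039) q30332, e3 q29610 L815962 q28655, e3 q29611 L815968 q28856, e3 q29612 L815982 q28857, e3 q29613 L815996 q29613, e3 q29614 L815999 q28853, e3 q29615 (flp_c L823988) q30326, e3 q29616 L824071 q30336, e3 q29617 L816029 q29617, e3 q29618 L816038 q28945, e3 q29619 L816052 q28946, e3 q29620 L816062 q28650, e3 q29621 (flp_c L822771) q30210, e3 q29622 (flp_c L823757) q30305, e3 q29623 L816088 q28716, e3 q29624 L816096 q28717, e3 q29625 L816106 q28718, e3 q29626 (flp_c L823855) q30314, e3 q29627 (flp_c L823863) q30315, e3 q29628 L816136 q28719, e3 q29629 (flp_c L820772) q30052, e3 q29630 L816164 q28842, e3 q29631 L824205 q30350, trivial⟩ (by decide +kernel)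

theorem ce_c_463 : ∀ r, r < 64 → sm gc (Qf (29632 + r)) = Qf (tab Gen.c (29632 + r)) :=
  edges_tab (sm gc) Qf (tab Gen.c) 29632 [(29632, 30053), (29633, 28662), (29634, 30274), (29635, 28722), (29636, 28665), (29637, 30354), (29638, 28667), (29639, 30340), (29640, 28681), (29641, 28688), (29642, 30357), (29643, 30127), (29644, 30024), (29645, 29645), (29646, 28677), (29647, 30115), (29648, 30036), (29649, 29649), (29650, 28680), (29651, 30035), (29652, 30368), (29653, 29914), (29654, 29654), (29655, 30236), (29656, 30371), (29657, 29657), (29658, 30374), (29659, 28975), (29660, 28689), (29661, 30377), (29662, 30378), (29663, 29663), (29664, 29664), (29665, 28792), (29666, 28816), (29667, 28817), (29668, 30023), (29669, 29902), (29670, 29913), (29671, 30316), (29672, 30317), (29673, 28841), (29674, 28863), (29675, 28862), (29676, 28988), (29677, 28714), (29678, 30342), (29679, 30196), (29680, 30345), (29681, 30346), (29682, 28720), (29683, 28983), (29684, 28724), (29685, 28989), (29686, 28729), (29687, 28730), (29688, 28738),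 (29689, 28922), (29690, 30392), (29691, 30059), (29692, 29917), (29693, 29934), (29694, 30394), (29695, 28749)]
    ⟨e3 q29632 (flp_c L820792) q30053, e3 q29633 (flp_c L816176) q28662, e3 q29634 (flp_c L823464) q30274, e3 q29635 L816194 q28722, e3 q29636 (flp_c L816198) q28665, e3 q29637 (flp_c L824243) q30354, e3 q29638 L816218 q28667, e3 q29639 (flp_c L824111) q30340, e3 q29640 L816234 q28681, e3 q29641 L816248 q28688, e3 q29642 L824265 q30357, e3 q29643 (flp_c L821906) q30127, e3 q29644 (flp_c L820383) q30024, e3 q29645 L816288 q29645, e3 q29646 L816295 q28677, e3 q29647 (flp_c L821761) q30115, e3 q29648 (flp_c L820551) q30036, e3 q29649 L816325 q29649, e3 q29650 L816328 q28680, e3 q29651 (flp_c L820541) q30035, e3 q29652 L824352 q30368, e3 q29653 (flp_c L818820) q29914, e3 q29654 L816358 q29654, e3 q29655 (flp_c L823076) q30236, e3 q29656 L824371 q30371, e3 q29657 L816377 q29657, e3 q29658 L824389 q30374, e3 q29659 L816388 q28975, e3 q29660 (flp_c L816394) q28689, e3 q29661 (flp_c L824414) q30377, e3 q29662 (flp_c L824423)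 q30378, e3 q29663 L816417 q29663, e3 q29664 L816426 q29664, e3 q29665 L816441 q28792, e3 q29666 L816449 q28816, e3 q29667 L816461 q28817, e3 q29668 (flp_c L820377) q30023, e3 q29669 (flp_c L818658) q29902, e3 q29670 (flp_c L818812) q29913, e3 q29671 (flp_c L823875) q30316, e3 q29672 (flp_c L823887) q30317, e3 q29673 (flp_c L816519) q28841, e3 q29674 L816525 q28863, e3 q29675 L816535 q28862, e3 q29676 L816551 q28988, e3 q29677 L816557 q28714, e3 q29678 (flp_c L824131) q30342, e3 q29679 (flp_c L822615) q30196, e3 q29680 (flp_c L824157) q30345, e3 q29681 (flp_c L824165) q30346, e3 q29682 (flp_c L816589) q28720, e3 q29683 L816607 q28983, e3 q29684 L816613 q28724, e3 q29685 L816623 q28989, e3 q29686 L816637 q28729, e3 q29687 L816643 q28730, e3 q29688 L816651 q28738, e3 q29689 L816667 q28922, e3 q29690 L824559 q30392, e3 q29691 (flp_c L820896) q30059, e3 q29692 (flp_c L818867) q29917, e3 q29693 (flp_c L819130) q29934, e3 q29694 L824580 q30394, e3 q29695 L816731 q28749, trivial⟩ (by decide +kernel)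

theorem ce_c_464 : ∀ r, r < 64 → sm gc (Qf (29696 + r)) = Qf (tab Gen.c (29696 + r)) :=
  edges_tab (sm gc) Qf (tab Gen.c) 29696 [(29696, 28750), (29697, 30395), (29698, 30389), (29699, 30070), (29700, 30398), (29701, 29701), (29702, 28766), (29703, 28767), (29704, 29889), (29705, 29890), (29706, 29706), (29707, 30264), (29708, 30266), (29709, 28763), (29710, 29894), (29711, 30401), (29712, 30265), (29713, 28778), (29714, 30388), (29715, 28779), (29716, 28781), (29717, 29908), (29718, 30410), (29719, 30408), (29720, 28788), (29721, 29918), (29722, 30247), (29723, 30413), (29724, 29974), (29725, 29975), (29726, 29726), (29727, 28791), (29728, 30189), (29729, 30191), (29730, 28801), (29731, 28802), (29732, 29732), (29733, 28804), (29734, 30082), (29735, 30083), (29736, 29736), (29737, 30418), (29738, 30423), (29739, 28814), (29740, 30425), (29741, 30323), (29742, 30427), (29743, 30428), (29744, 28815), (29745, 30381), (29746, 30431), (29747, 30195), (29748, 30193), (29749, 30432), (29750, 28823), (29751, 30434), (29752, 29752),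 (29753, 28840), (29754, 30087), (29755, 30088), (29756, 29756), (29757, 30216), (29758, 30439), (29759, 30092)]
    ⟨e3 q29696 L816745 q28750, e3 q29697 (flp_c L824591) q30395, e3 q29698 (flp_c L824529) q30389, e3 q29699 (flp_c L821068) q30070, e3 q29700 L824619 q30398, e3 q29701 L816795 q29701, e3 q29702 L816804 q28766, e3 q29703 L816812 q28767, e3 q29704 (flp_c L818442) q29889, e3 q29705 (flp_c L818462) q29890, e3 q29706 L816844 q29706, e3 q29707 (flp_c L823360) q30264, e3 q29708 (flp_c L823382) q30266, e3 q29709 L816877 q28763, e3 q29710 (flp_c L818528) q29894, e3 q29711 (flp_c L824647) q30401, e3 q29712 (flp_c L823376) q30265, e3 q29713 L816917 q28778, e3 q29714 (flp_c L824523) q30388, e3 q29715 L816933 q28779, e3 q29716 L816943 q28781, e3 q29717 (flp_c L818745) q29908, e3 q29718 L824731 q30410, e3 q29719 (flp_c L824713) q30408, e3 q29720 L816981 q28788, e3 q29721 (flp_c L818883) q29918, e3 q29722 (flp_c L823207) q30247, e3 q29723 L824760 q30413, e3 q29724 (flp_c L819744) q29974, e3 q29725 (flp_c L819764) q29975, e3 q29726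 L817037 q29726, e3 q29727 L817044 q28791, e3 q29728 (flp_c L822539) q30189, e3 q29729 (flp_c L822553) q30191, e3 q29730 L817068 q28801, e3 q29731 L817080 q28802, e3 q29732 L817090 q29732, e3 q29733 L817097 q28804, e3 q29734 (flp_c L821265) q30082, e3 q29735 (flp_c L821285) q30083, e3 q29736 L817133 q29736, e3 q29737 (flp_c L824803) q30418, e3 q29738 L824845 q30423, e3 q29739 L817156 q28814, e3 q29740 L824856 q30425, e3 q29741 (flp_c L823956) q30323, e3 q29742 L824867 q30427, e3 q29743 L824872 q30428, e3 q29744 (flp_c L817182) q28815, e3 q29745 (flp_c L824451) q30381, e3 q29746 L824888 q30431, e3 q29747 (flp_c L822603) q30195, e3 q29748 (flp_c L822579) q30193, e3 q29749 L824893 q30432, e3 q29750 (flp_c L817211) q28823, e3 q29751 (flp_c L824906) q30434, e3 q29752 L817222 q29752, e3 q29753 L817227 q28840, e3 q29754 (flp_c L821343) q30087, e3 q29755 (flp_c L821363) q30088, e3 q29756 L817261 q29756, e3 q29757 (flp_c L822855) q30216, e3 q29758 L824940 q30439, e3 q29759 (flp_c L821423) q30092, trivial⟩ (by decide +kernel)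

theorem ce_c_465 : ∀ r, r < 64 → sm gc (Qf (29760 + r)) = Qf (tab Gen.c (29760 + r)) :=
  edges_tab (sm gc) Qf (tab Gen.c) 29760 [(29760, 30093), (29761, 28836), (29762, 30222), (29763, 30223), (29764, 30349), (29765, 28974), (29766, 28859), (29767, 30444), (29768, 28861), (29769, 30030), (29770, 30446), (29771, 30333), (29772, 30448), (29773, 30449), (29774, 28860), (29775, 30384), (29776, 30020), (29777, 30107), (29778, 30146), (29779, 30147), (29780, 29780), (29781, 28871), (29782, 30148), (29783, 30455), (29784, 30105), (29785, 30104), (29786, 30165), (29787, 30166), (29788, 29788), (29789, 28880), (29790, 30167), (29791, 30461), (29792, 30111), (29793, 30169), (29794, 30114), (29795, 30113), (29796, 30109), (29797, 29858), (29798, 30119), (29799, 30464), (29800, 30206), (29801, 30466), (29802, 30467), (29803, 28904), (29804, 30095), (29805, 30213), (29806, 30469), (29807, 28937), (29808, 30471), (29809, 30472), (29810, 28923), (29811, 28929), (29812, 30227), (29813, 30474), (29814, 28934), (29815, 30476), (29816, 30477),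 (29817, 28935), (29818, 30478), (29819, 28938), (29820, 28995), (29821, 28947), (29822, 29926), (29823, 30339)]
    ⟨e3 q29760 (flp_c L821437) q30093, e3 q29761 L817298 q28836, e3 q29762 (flp_c L822925) q30222, e3 q29763 (flp_c L822937) q30223, e3 q29764 (flp_c L824203) q30349, e3 q29765 L817326 q28974, e3 q29766 L817336 q28859, e3 q29767 L824971 q30444, e3 q29768 L817348 q28861, e3 q29769 (flp_c L820473) q30030, e3 q29770 L824986 q30446, e3 q29771 (flp_c L824049) q30333, e3 q29772 L824999 q30448, e3 q29773 L825004 q30449, e3 q29774 (flp_c L817386) q28860, e3 q29775 (flp_c L824483) q30384, e3 q29776 (flp_c L820325) q30020, e3 q29777 (flp_c L821641) q30107, e3 q29778 (flp_c L822081) q30146, e3 q29779 (flp_c L822101) q30147, e3 q29780 L817433 q29780, e3 q29781 L817436 q28871, e3 q29782 (flp_c L822117) q30148, e3 q29783 L825046 q30455, e3 q29784 (flp_c L821603) q30105, e3 q29785 (flp_c L821595) q30104, e3 q29786 (flp_c L822282) q30165, e3 q29787 (flp_c L822302) q30166, e3 q29788 L817492 q29788, e3 q29789 L817497 q28880, e3 q29790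 (flp_c L822316) q30167, e3 q29791 L825095 q30461, e3 q29792 (flp_c L821707) q30111, e3 q29793 (flp_c L822336) q30169, e3 q29794 (flp_c L821751) q30114, e3 q29795 (flp_c L821739) q30113, e3 q29796 (flp_c L821679) q30109, e3 q29797 (flp_c L817976) q29858, e3 q29798 (flp_c L821826) q30119, e3 q29799 L825118 q30464, e3 q29800 (flp_c L822720) q30206, e3 q29801 L825129 q30466, e3 q29802 L825134 q30467, e3 q29803 (flp_c L817593) q28904, e3 q29804 (flp_c L821465) q30095, e3 q29805 (flp_c L822818) q30213, e3 q29806 L825146 q30469, e3 q29807 L817620 q28937, e3 q29808 L825161 q30471, e3 q29809 L825170 q30472, e3 q29810 (flp_c L817640) q28923, e3 q29811 L817649 q28929, e3 q29812 (flp_c L822974) q30227, e3 q29813 L825182 q30474, e3 q29814 L817673 q28934, e3 q29815 L825195 q30476, e3 q29816 L825202 q30477, e3 q29817 (flp_c L817689) q28935, e3 q29818 L825206 q30478, e3 q29819 (flp_c L817698) q28938, e3 q29820 L817707 q28995, e3 q29821 L817715 q28947, e3 q29822 (flp_c L819005) q29926, e3 q29823 (flp_c L824099) q30339, trivial⟩ (by decide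 +kernel)

theorem ce_c_466 : ∀ r, r < 64 → sm gc (Qf (29824 + r)) = Qf (tab Gen.c (29824 + r)) :=
  edges_tab (sm gc) Qf (tab Gen.c) 29824 [(29824, 30018), (29825, 30480), (29826, 30481), (29827, 28952), (29828, 30304), (29829, 28970), (29830, 30483), (29831, 29831), (29832, 29944), (29833, 29946), (29834, 28963), (29835, 30116), (29836, 30117), (29837, 29837), (29838, 30255), (29839, 30491), (29840, 30240), (29841, 30493), (29842, 30494), (29843, 28971), (29844, 30277), (29845, 30495), (29846, 28976), (29847, 30496), (29848, 28978), (29849, 28979), (29850, 30498), (29851, 28981), (29852, 30353), (29853, 28993), (29854, 30385), (29855, 30005), (29856, 30242), (29857, 29276), (29858, 29797), (29859, 29502), (29860, 29003), (29861, 29007), (29862, 29500), (29863, 29478), (29864, 29441), (29865, 29442), (29866, 29866), (29867, 29026), (29868, 29027), (29869, 29017), (29870, 29016), (29871, 30511), (29872, 30510), (29873, 29349), (29874, 29350), (29875, 29875), (29876, 29022), (29877, 30516), (29878, 29344), (29879, 29345), (29880,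 29880), (29881, 29025), (29882, 30522), (29883, 30507), (29884, 30509), (29885, 29029), (29886, 29446), (29887, 30526)]
    ⟨e3 q29824 (flp_c L820299) q30018, e3 q29825 L825218 q30480, e3 q29826 L825225 q30481, e3 q29827 (flp_c L817749) q28952, e3 q29828 (flp_c L823739) q30304, e3 q29829 L817762 q28970, e3 q29830 L825235 q30483, e3 q29831 L817772 q29831, e3 q29832 (flp_c L819276) q29944, e3 q29833 (flp_c L819302) q29946, e3 q29834 L817793 q28963, e3 q29835 (flp_c L821779) q30116, e3 q29836 (flp_c L821799) q30117, e3 q29837 L817823 q29837, e3 q29838 (flp_c L823281) q30255, e3 q29839 L825293 q30491, e3 q29840 (flp_c L823127) q30240, e3 q29841 L825304 q30493, e3 q29842 L825309 q30494, e3 q29843 (flp_c L817856) q28971, e3 q29844 (flp_c L823504) q30277, e3 q29845 L825313 q30495, e3 q29846 (flp_c L817875) q28976, e3 q29847 L825319 q30496, e3 q29848 (flp_c L817886) q28978, e3 q29849 (flp_c L817891) q28979, e3 q29850 (flp_c L825332) q30498, e3 q29851 L817902 q28981, e3 q29852 (flp_c L824237) q30353, e3 q29853 L817916 q28993, e3 q29854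 (flp_c L824495) q30385, e3 q29855 (flp_c L820135) q30005, e3 q29856 (flp_c L823153) q30242, e3 q29857 L817948 q29276, e3 q29858 L817976 q29797, e3 q29859 L817984 q29502, e3 q29860 L818000 q29003, e3 q29861 (flp_c L818014) q29007, e3 q29862 L818040 q29500, e3 q29863 L818054 q29478, e3 q29864 L818068 q29441, e3 q29865 L818088 q29442, e3 q29866 L818112 q29866, e3 q29867 L818117 q29026, e3 q29868 L818137 q29027, e3 q29869 L818157 q29017, e3 q29870 L818167 q29016, e3 q29871 (flp_c L825514) q30511, e3 q29872 (flp_c L825496) q30510, e3 q29873 L818215 q29349, e3 q29874 L818235 q29350, e3 q29875 L818255 q29875, e3 q29876 L818264 q29022, e3 q29877 (flp_c L825589) q30516, e3 q29878 L818293 q29344, e3 q29879 L818313 q29345, e3 q29880 L818333 q29880, e3 q29881 L818340 q29025, e3 q29882 (flp_c L825673) q30522, e3 q29883 (flp_c L825452) q30507, e3 q29884 (flp_c L825482) q30509, e3 q29885 L818395 q29029, e3 q29886 L818409 q29446, e3 q29887 L825719 q30526, trivial⟩ (by decide +kernel)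

theorem ce_c_467 : ∀ r, r < 64 → sm gc (Qf (29888 + r)) = Qf (tab Gen.c (29888 + r)) :=
  edges_tab (sm gc) Qf (tab Gen.c) 29888 [(29888, 29888), (29889, 29704), (29890, 29705), (29891, 29891), (29892, 29036), (29893, 30532), (29894, 29710), (29895, 29482), (29896, 29040), (29897, 29260), (29898, 29261), (29899, 29059), (29900, 29043), (29901, 29451), (29902, 29669), (29903, 29060), (29904, 29161), (29905, 29162), (29906, 29906), (29907, 29049), (29908, 29717), (29909, 30547), (29910, 29485), (29911, 29911), (29912, 29484), (29913, 29670), (29914, 29653), (29915, 29061), (29916, 30538), (29917, 29692), (29918, 29721), (29919, 29499), (29920, 29066), (29921, 29503), (29922, 29501), (29923, 29444), (29924, 29537), (29925, 29445), (29926, 29822), (29927, 29088), (29928, 29089), (29929, 29092), (29930, 29157), (29931, 29158), (29932, 29932), (29933, 29083), (29934, 29693), (29935, 30566), (29936, 29512), (29937, 29937), (29938, 29938), (29939, 30558), (29940, 29514), (29941, 29091), (29942, 29513), (29943, 29102), (29944, 29832),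 (29945, 29511), (29946, 29833), (29947, 29104), (29948, 29101), (29949, 30572), (29950, 30571), (29951, 29477)]
    ⟨e3 q29888 L818433 q29888, e3 q29889 L818442 q29704, e3 q29890 L818462 q29705, e3 q29891 L818482 q29891, e3 q29892 L818493 q29036, e3 q29893 (flp_c L825807) q30532, e3 q29894 L818528 q29710, e3 q29895 L818542 q29482, e3 q29896 L818556 q29040, e3 q29897 L818570 q29260, e3 q29898 L818590 q29261, e3 q29899 L818610 q29059, e3 q29900 L818620 q29043, e3 q29901 L818640 q29451, e3 q29902 L818658 q29669, e3 q29903 L818666 q29060, e3 q29904 L818678 q29161, e3 q29905 L818698 q29162, e3 q29906 L818718 q29906, e3 q29907 L818727 q29049, e3 q29908 L818745 q29717, e3 q29909 L826036 q30547, e3 q29910 L818763 q29485, e3 q29911 L818775 q29911, e3 q29912 L818790 q29484, e3 q29913 L818812 q29670, e3 q29914 L818820 q29653, e3 q29915 L818832 q29061, e3 q29916 (flp_c L825907) q30538, e3 q29917 L818867 q29692, e3 q29918 L818883 q29721, e3 q29919 L818895 q29499, e3 q29920 L818911 q29066, e3 q29921 L818929 q29503, e3 q29922 L818941 q29501,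 e3 q29923 L818957 q29444, e3 q29924 L818973 q29537, e3 q29925 L818983 q29445, e3 q29926 L819005 q29822, e3 q29927 L819011 q29088, e3 q29928 L819031 q29089, e3 q29929 L819051 q29092, e3 q29930 L819065 q29157, e3 q29931 L819085 q29158, e3 q29932 L819105 q29932, e3 q29933 L819112 q29083, e3 q29934 L819130 q29693, e3 q29935 L826322 q30566, e3 q29936 L819152 q29512, e3 q29937 L819166 q29937, e3 q29938 L819181 q29938, e3 q29939 (flp_c L826208) q30558, e3 q29940 L819210 q29514, e3 q29941 L819222 q29091, e3 q29942 L819242 q29513, e3 q29943 L819254 q29102, e3 q29944 L819276 q29832, e3 q29945 L819288 q29511, e3 q29946 L819302 q29833, e3 q29947 L819316 q29104, e3 q29948 L819334 q29101, e3 q29949 (flp_c L826414) q30572, e3 q29950 (flp_c L826394) q30571, e3 q29951 L819370 q29477, trivial⟩ (by decide +kernel)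

theorem ce_c_468 : ∀ r, r < 64 → sm gc (Qf (29952 + r)) = Qf (tab Gen.c (29952 + r)) :=
  edges_tab (sm gc) Qf (tab Gen.c) 29952 [(29952, 29125), (29953, 29126), (29954, 29954), (29955, 29481), (29956, 29471), (29957, 30579), (29958, 29458), (29959, 30581), (29960, 29508), (29961, 30583), (29962, 30576), (29963, 30585), (29964, 29964), (29965, 29279), (29966, 29140), (29967, 29141), (29968, 29133), (29969, 29545), (29970, 29546), (29971, 29971), (29972, 29136), (29973, 30594), (29974, 29724), (29975, 29725), (29976, 29976), (29977, 29139), (29978, 30599), (29979, 30588), (29980, 30589), (29981, 29143), (29982, 29519), (29983, 29520), (29984, 29984), (29985, 29146), (29986, 29522), (29987, 30607), (29988, 29988), (29989, 29332), (29990, 29244), (29991, 29165), (29992, 30508), (29993, 29166), (29994, 29156), (29995, 30559), (29996, 30615), (29997, 30561), (29998, 29998), (29999, 30541), (30000, 30620), (30001, 30543), (30002, 30002), (30003, 30003), (30004, 30611), (30005, 29855), (30006, 30625), (30007, 29169), (30008, 30627),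 (30009, 30009), (30010, 29565), (30011, 29566), (30012, 30012), (30013, 29173), (30014, 29568), (30015, 30635)]
    ⟨e3 q29952 L819388 q29125, e3 q29953 L819408 q29126, e3 q29954 L819432 q29954, e3 q29955 L819443 q29481, e3 q29956 L819461 q29471, e3 q29957 L826522 q30579, e3 q29958 L819495 q29458, e3 q29959 L826557 q30581, e3 q29960 L819529 q29508, e3 q29961 L826592 q30583, e3 q29962 (flp_c L826476) q30576, e3 q29963 L826623 q30585, e3 q29964 L819587 q29964, e3 q29965 L819604 q29279, e3 q29966 L819620 q29140, e3 q29967 L819640 q29141, e3 q29968 L819654 q29133, e3 q29969 L819666 q29545, e3 q29970 L819686 q29546, e3 q29971 L819706 q29971, e3 q29972 L819715 q29136, e3 q29973 (flp_c L826758) q30594, e3 q29974 L819744 q29724, e3 q29975 L819764 q29725, e3 q29976 L819784 q29976, e3 q29977 L819793 q29139, e3 q29978 (flp_c L826833) q30599, e3 q29979 (flp_c L826671) q30588, e3 q29980 (flp_c L826685) q30589, e3 q29981 L819848 q29143, e3 q29982 L819858 q29519, e3 q29983 L819878 q29520, e3 q29984 L819898 q29984, e3 q29985 L819907 q29146,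 e3 q29986 L819925 q29522, e3 q29987 L826938 q30607, e3 q29988 L819945 q29988, e3 q29989 L819958 q29332, e3 q29990 L819978 q29244, e3 q29991 L819992 q29165, e3 q29992 (flp_c L825472) q30508, e3 q29993 L820012 q29166, e3 q29994 L820020 q29156, e3 q29995 (flp_c L826228) q30559, e3 q29996 L827033 q30615, e3 q29997 (flp_c L826254) q30561, e3 q29998 L820064 q29998, e3 q29999 (flp_c L825957) q30541, e3 q30000 L827089 q30620, e3 q30001 (flp_c L825985) q30543, e3 q30002 L820103 q30002, e3 q30003 L820112 q30003, e3 q30004 (flp_c L826991) q30611, e3 q30005 L820135 q29855, e3 q30006 L827147 q30625, e3 q30007 (flp_c L820149) q29169, e3 q30008 (flp_c L827170) q30627, e3 q30009 L820170 q30009, e3 q30010 L820183 q29565, e3 q30011 L820203 q29566, e3 q30012 L820223 q30012, e3 q30013 L820230 q29173, e3 q30014 L820246 q29568, e3 q30015 L827272 q30635, trivial⟩ (by decide +kernel)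

theorem ce_c_469 : ∀ r, r < 64 → sm gc (Qf (30016 + r)) = Qf (tab Gen.c (30016 + r)) :=
  edges_tab (sm gc) Qf (tab Gen.c) 30016 [(30016, 30016), (30017, 29182), (30018, 29824), (30019, 30639), (30020, 29776), (30021, 29575), (30022, 29577), (30023, 29668), (30024, 29644), (30025, 29198), (30026, 30643), (30027, 29601), (30028, 30645), (30029, 30646), (30030, 29769), (30031, 29199), (30032, 30648), (30033, 30033), (30034, 29584), (30035, 29651), (30036, 29648), (30037, 29305), (30038, 29306), (30039, 30039), (30040, 29605), (30041, 30655), (30042, 29386), (30043, 30043), (30044, 30044), (30045, 30658), (30046, 29216), (30047, 30660), (30048, 30048), (30049, 29237), (30050, 29222), (30051, 29243), (30052, 29629), (30053, 29632), (30054, 29228), (30055, 29236), (30056, 29455), (30057, 30609), (30058, 29431), (30059, 29691), (30060, 29411), (30061, 29412), (30062, 30062), (30063, 29256), (30064, 29374), (30065, 29375), (30066, 30066), (30067, 29259), (30068, 30535), (30069, 30537), (30070, 29699), (30071, 30670), (30072, 29272),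 (30073, 29490), (30074, 30673), (30075, 29286), (30076, 30076), (30077, 29287), (30078, 29312), (30079, 29320)]
    ⟨e3 q30016 L820268 q30016, e3 q30017 L820281 q29182, e3 q30018 L820299 q29824, e3 q30019 L827318 q30639, e3 q30020 L820325 q29776, e3 q30021 L820341 q29575, e3 q30022 L820355 q29577, e3 q30023 L820377 q29668, e3 q30024 L820383 q29644, e3 q30025 L820399 q29198, e3 q30026 L827377 q30643, e3 q30027 L820433 q29601, e3 q30028 L827412 q30645, e3 q30029 L827429 q30646, e3 q30030 L820473 q29769, e3 q30031 (flp_c L820485) q29199, e3 q30032 (flp_c L827452) q30648, e3 q30033 L820506 q30033, e3 q30034 L820521 q29584, e3 q30035 L820541 q29651, e3 q30036 L820551 q29648, e3 q30037 L820563 q29305, e3 q30038 L820583 q29306, e3 q30039 L820607 q30039, e3 q30040 L820618 q29605, e3 q30041 L827550 q30655, e3 q30042 L820636 q29386, e3 q30043 L820650 q30043, e3 q30044 L820665 q30044, e3 q30045 L827587 q30658, e3 q30046 (flp_c L820684) q29216, e3 q30047 (flp_c L827610) q30660, e3 q30048 L820705 q30048, e3 q30049 L820718 q29237, e3 q30050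 L820738 q29222, e3 q30051 L820758 q29243, e3 q30052 L820772 q29629, e3 q30053 L820792 q29632, e3 q30054 (flp_c L820800) q29228, e3 q30055 L820826 q29236, e3 q30056 L820846 q29455, e3 q30057 (flp_c L826967) q30609, e3 q30058 L820878 q29431, e3 q30059 L820896 q29691, e3 q30060 L820912 q29411, e3 q30061 L820932 q29412, e3 q30062 L820952 q30062, e3 q30063 L820961 q29256, e3 q30064 L820975 q29374, e3 q30065 L820995 q29375, e3 q30066 L821015 q30066, e3 q30067 L821026 q29259, e3 q30068 (flp_c L825859) q30535, e3 q30069 (flp_c L825889) q30537, e3 q30070 L821068 q29699, e3 q30071 L827748 q30670, e3 q30072 L821096 q29272, e3 q30073 L821114 q29490, e3 q30074 L827791 q30673, e3 q30075 L821140 q29286, e3 q30076 L821156 q30076, e3 q30077 L821175 q29287, e3 q30078 L821193 q29312, e3 q30079 L821223 q29320, trivial⟩ (by decide +kernel)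

theorem ce_c_470 : ∀ r, r < 64 → sm gc (Qf (30080 + r)) = Qf (tab Gen.c (30080 + r)) :=
  edges_tab (sm gc) Qf (tab Gen.c) 30080 [(30080, 29285), (30081, 30672), (30082, 29734), (30083, 29735), (30084, 30084), (30085, 29291), (30086, 30678), (30087, 29754), (30088, 29755), (30089, 30089), (30090, 29294), (30091, 30684), (30092, 29759), (30093, 29760), (30094, 29298), (30095, 29804), (30096, 30688), (30097, 30097), (30098, 29310), (30099, 30651), (30100, 30692), (30101, 29434), (30102, 30102), (30103, 29432), (30104, 29785), (30105, 29784), (30106, 29315), (30107, 29777), (30108, 29324), (30109, 29796), (30110, 29385), (30111, 29792), (30112, 29328), (30113, 29795), (30114, 29794), (30115, 29647), (30116, 29835), (30117, 29836), (30118, 30118), (30119, 29798), (30120, 30703), (30121, 29354), (30122, 30536), (30123, 29355), (30124, 29341), (30125, 29342), (30126, 29340), (30127, 29643), (30128, 30517), (30129, 30711), (30130, 30519), (30131, 30131), (30132, 29348), (30133, 30512), (30134, 30718), (30135, 30514), (30136, 30136),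 (30137, 30137), (30138, 29353), (30139, 30705), (30140, 30708), (30141, 29357), (30142, 30726), (30143, 29359)]
    ⟨e3 q30080 L821229 q29285, e3 q30081 (flp_c L827779) q30672, e3 q30082 L821265 q29734, e3 q30083 L821285 q29735, e3 q30084 L821305 q30084, e3 q30085 L821314 q29291, e3 q30086 (flp_c L827872) q30678, e3 q30087 L821343 q29754, e3 q30088 L821363 q29755, e3 q30089 L821383 q30089, e3 q30090 L821390 q29294, e3 q30091 (flp_c L827956) q30684, e3 q30092 L821423 q29759, e3 q30093 L821437 q29760, e3 q30094 L821449 q29298, e3 q30095 L821465 q29804, e3 q30096 L828008 q30688, e3 q30097 L821489 q30097, e3 q30098 L821504 q29310, e3 q30099 (flp_c L827496) q30651, e3 q30100 L828059 q30692, e3 q30101 L821540 q29434, e3 q30102 L821554 q30102, e3 q30103 L821569 q29432, e3 q30104 L821595 q29785, e3 q30105 L821603 q29784, e3 q30106 L821617 q29315, e3 q30107 L821641 q29777, e3 q30108 L821653 q29324, e3 q30109 L821679 q29796, e3 q30110 L821691 q29385, e3 q30111 L821707 q29792, e3 q30112 L821721 q29328, e3 q30113 L821739 q29795, e3 q30114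 L821751 q29794, e3 q30115 L821761 q29647, e3 q30116 L821779 q29835, e3 q30117 L821799 q29836, e3 q30118 L821819 q30118, e3 q30119 L821826 q29798, e3 q30120 L828205 q30703, e3 q30121 L821846 q29354, e3 q30122 (flp_c L825879) q30536, e3 q30123 L821866 q29355, e3 q30124 L821872 q29341, e3 q30125 L821886 q29342, e3 q30126 L821894 q29340, e3 q30127 L821906 q29643, e3 q30128 (flp_c L825607) q30517, e3 q30129 L828282 q30711, e3 q30130 (flp_c L825633) q30519, e3 q30131 L821946 q30131, e3 q30132 L821951 q29348, e3 q30133 (flp_c L825534) q30512, e3 q30134 L828347 q30718, e3 q30135 (flp_c L825562) q30514, e3 q30136 L821985 q30136, e3 q30137 L821994 q30137, e3 q30138 L822003 q29353, e3 q30139 (flp_c L828228) q30705, e3 q30140 (flp_c L828258) q30708, e3 q30141 L822031 q29357, e3 q30142 L828436 q30726, e3 q30143 (flp_c L822049) q29359, trivial⟩ (by decide +kernel)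

theorem ce_c_471 : ∀ r, r < 64 → sm gc (Qf (30144 + r)) = Qf (tab Gen.c (30144 + r)) :=
  edges_tab (sm gc) Qf (tab Gen.c) 30144 [(30144, 30728), (30145, 30145), (30146, 29778), (30147, 29779), (30148, 29782), (30149, 30732), (30150, 29378), (30151, 30735), (30152, 29380), (30153, 29383), (30154, 30665), (30155, 30738), (30156, 30667), (30157, 30157), (30158, 30741), (30159, 30734), (30160, 29379), (30161, 30743), (30162, 30162), (30163, 30654), (30164, 30631), (30165, 29786), (30166, 29787), (30167, 29790), (30168, 30748), (30169, 29793), (30170, 29415), (30171, 30751), (30172, 29417), (30173, 29420), (30174, 29422), (30175, 29426), (30176, 29433), (30177, 30662), (30178, 30755), (30179, 30664), (30180, 30180), (30181, 30181), (30182, 30759), (30183, 30750), (30184, 29416), (30185, 30762), (30186, 30763), (30187, 30187), (30188, 30188), (30189, 29728), (30190, 30752), (30191, 29729), (30192, 29438), (30193, 29748), (30194, 29437), (30195, 29747), (30196, 29679), (30197, 29439), (30198, 30691), (30199, 30604), (30200, 30767),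 (30201, 30504), (30202, 30773), (30203, 30557), (30204, 30774), (30205, 29447), (30206, 29800), (30207, 30776)]
    ⟨e3 q30144 (flp_c L828459) q30728, e3 q30145 L822070 q30145, e3 q30146 L822081 q29778, e3 q30147 L822101 q29779, e3 q30148 L822117 q29782, e3 q30149 L828505 q30732, e3 q30150 L822141 q29378, e3 q30151 L828550 q30735, e3 q30152 L822167 q29380, e3 q30153 L822185 q29383, e3 q30154 (flp_c L827678) q30665, e3 q30155 L828581 q30738, e3 q30156 (flp_c L827708) q30667, e3 q30157 L822225 q30157, e3 q30158 L828609 q30741, e3 q30159 (flp_c L828538) q30734, e3 q30160 (flp_c L822242) q29379, e3 q30161 (flp_c L828624) q30743, e3 q30162 L822255 q30162, e3 q30163 (flp_c L827540) q30654, e3 q30164 (flp_c L827222) q30631, e3 q30165 L822282 q29786, e3 q30166 L822302 q29787, e3 q30167 L822316 q29790, e3 q30168 L828674 q30748, e3 q30169 L822336 q29793, e3 q30170 L822350 q29415, e3 q30171 L828713 q30751, e3 q30172 L822370 q29417, e3 q30173 L822384 q29420, e3 q30174 L822398 q29422, e3 q30175 L822412 q29426, e3 q30176 L822428 q29433,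 e3 q30177 (flp_c L827632) q30662, e3 q30178 L828754 q30755, e3 q30179 (flp_c L827660) q30664, e3 q30180 L822464 q30180, e3 q30181 L822471 q30181, e3 q30182 L828788 q30759, e3 q30183 (flp_c L828703) q30750, e3 q30184 (flp_c L822488) q29416, e3 q30185 (flp_c L828811) q30762, e3 q30186 (flp_c L828816) q30763, e3 q30187 L822511 q30187, e3 q30188 L822522 q30188, e3 q30189 L822539 q29728, e3 q30190 (flp_c L828728) q30752, e3 q30191 L822553 q29729, e3 q30192 L822565 q29438, e3 q30193 L822579 q29748, e3 q30194 L822591 q29437, e3 q30195 L822603 q29747, e3 q30196 L822615 q29679, e3 q30197 L822629 q29439, e3 q30198 (flp_c L828049) q30691, e3 q30199 (flp_c L826901) q30604, e3 q30200 (flp_c L828860) q30767, e3 q30201 (flp_c L825403) q30504, e3 q30202 L828934 q30773, e3 q30203 (flp_c L826190) q30557, e3 q30204 L828945 q30774, e3 q30205 (flp_c L822707) q29447, e3 q30206 L822720 q29800, e3 q30207 L828969 q30776, trivial⟩ (by decide +kernel)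

theorem ce_c_472 : ∀ r, r < 64 → sm gc (Qf (30208 + r)) = Qf (tab Gen.c (30208 + r)) :=
  edges_tab (sm gc) Qf (tab Gen.c) 30208 [(30208, 30777), (30209, 29453), (30210, 29621), (30211, 30778), (30212, 29459), (30213, 29805), (30214, 30780), (30215, 30215), (30216, 29757), (30217, 30784), (30218, 29581), (30219, 30219), (30220, 30220), (30221, 29467), (30222, 29762), (30223, 29763), (30224, 30789), (30225, 29472), (30226, 30791), (30227, 29812), (30228, 30793), (30229, 30503), (30230, 30534), (30231, 30502), (30232, 29486), (30233, 30533), (30234, 30531), (30235, 30546), (30236, 29655), (30237, 30799), (30238, 30800), (30239, 29491), (30240, 29840), (30241, 30802), (30242, 29856), (30243, 30554), (30244, 30553), (30245, 30555), (30246, 30501), (30247, 29722), (30248, 30805), (30249, 30249), (30250, 30807), (30251, 29509), (30252, 30809), (30253, 30565), (30254, 30570), (30255, 29838), (30256, 30811), (30257, 30602), (30258, 30813), (30259, 30259), (30260, 30815), (30261, 29523), (30262, 30817), (30263, 30263), (30264, 29707),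 (30265, 29712), (30266, 29708), (30267, 29530), (30268, 29529), (30269, 29550), (30270, 30825), (30271, 29552)]
    ⟨e3 q30208 L828984 q30777, e3 q30209 (flp_c L822756) q29453, e3 q30210 L822771 q29621, e3 q30211 L828996 q30778, e3 q30212 (flp_c L822799) q29459, e3 q30213 L822818 q29805, e3 q30214 L829022 q30780, e3 q30215 L822840 q30215, e3 q30216 L822855 q29757, e3 q30217 L829071 q30784, e3 q30218 L822873 q29581, e3 q30219 L822885 q30219, e3 q30220 L822898 q30220, e3 q30221 L822911 q29467, e3 q30222 L822925 q29762, e3 q30223 L822937 q29763, e3 q30224 L829132 q30789, e3 q30225 (flp_c L822955) q29472, e3 q30226 (flp_c L829151) q30791, e3 q30227 L822974 q29812, e3 q30228 L829171 q30793, e3 q30229 (flp_c L825385) q30503, e3 q30230 (flp_c L825841) q30534, e3 q30231 (flp_c L825365) q30502, e3 q30232 L823030 q29486, e3 q30233 (flp_c L825827) q30533, e3 q30234 (flp_c L825791) q30531, e3 q30235 (flp_c L826028) q30546, e3 q30236 L823076 q29655, e3 q30237 L829244 q30799, e3 q30238 L829259 q30800, e3 q30239 (flp_c L823112) q29491,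 e3 q30240 L823127 q29840, e3 q30241 L829281 q30802, e3 q30242 L823153 q29856, e3 q30243 (flp_c L826140) q30554, e3 q30244 (flp_c L826124) q30553, e3 q30245 (flp_c L826158) q30555, e3 q30246 (flp_c L825349) q30501, e3 q30247 L823207 q29722, e3 q30248 L829316 q30805, e3 q30249 L823231 q30249, e3 q30250 L829337 q30807, e3 q30251 (flp_c L823246) q29509, e3 q30252 (flp_c L829356) q30809, e3 q30253 (flp_c L826312) q30565, e3 q30254 (flp_c L826382) q30570, e3 q30255 L823281 q29838, e3 q30256 L829372 q30811, e3 q30257 (flp_c L826873) q30602, e3 q30258 L829391 q30813, e3 q30259 L823317 q30259, e3 q30260 L829408 q30815, e3 q30261 (flp_c L823330) q29523, e3 q30262 (flp_c L829427) q30817, e3 q30263 L823347 q30263, e3 q30264 L823360 q29707, e3 q30265 L823376 q29712, e3 q30266 L823382 q29708, e3 q30267 L823392 q29530, e3 q30268 L823406 q29529, e3 q30269 L823420 q29550, e3 q30270 L829515 q30825, e3 q30271 L823438 q29552, trivial⟩ (by decide +kernel)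

theorem ce_c_473 : ∀ r, r < 64 → sm gc (Qf (30272 + r)) = Qf (tab Gen.c (30272 + r)) :=
  edges_tab (sm gc) Qf (tab Gen.c) 30272 [(30272, 30556), (30273, 29556), (30274, 29634), (30275, 29557), (30276, 29541), (30277, 29844), (30278, 30590), (30279, 30831), (30280, 30592), (30281, 30281), (30282, 30282), (30283, 29549), (30284, 30835), (30285, 30824), (30286, 29551), (30287, 30839), (30288, 30840), (30289, 30612), (30290, 30827), (30291, 30841), (30292, 29559), (30293, 30843), (30294, 30294), (30295, 29561), (30296, 30846), (30297, 29563), (30298, 30849), (30299, 30629), (30300, 30851), (30301, 30852), (30302, 29569), (30303, 30854), (30304, 29828), (30305, 29622), (30306, 30856), (30307, 30640), (30308, 29576), (30309, 30787), (30310, 29595), (30311, 29579), (30312, 30783), (30313, 30681), (30314, 29626), (30315, 29627), (30316, 29671), (30317, 29672), (30318, 29591), (30319, 30863), (30320, 30848), (30321, 29593), (30322, 30322), (30323, 29741), (30324, 30866), (30325, 30867), (30326, 29615), (30327, 29602), (30328, 30868),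 (30329, 29606), (30330, 29607), (30331, 30870), (30332, 29609), (30333, 29771), (30334, 30872), (30335, 30873)]
    ⟨e3 q30272 (flp_c L826178) q30556, e3 q30273 L823456 q29556, e3 q30274 L823464 q29634, e3 q30275 L823478 q29557, e3 q30276 L823490 q29541, e3 q30277 L823504 q29844, e3 q30278 (flp_c L826701) q30590, e3 q30279 L829582 q30831, e3 q30280 (flp_c L826729) q30592, e3 q30281 L823540 q30281, e3 q30282 L823549 q30282, e3 q30283 L823558 q29549, e3 q30284 L829621 q30835, e3 q30285 (flp_c L829507) q30824, e3 q30286 (flp_c L823578) q29551, e3 q30287 (flp_c L829656) q30839, e3 q30288 (flp_c L829665) q30840, e3 q30289 (flp_c L827001) q30612, e3 q30290 (flp_c L829542) q30827, e3 q30291 L829671 q30841, e3 q30292 (flp_c L823625) q29559, e3 q30293 (flp_c L829694) q30843, e3 q30294 L823646 q30294, e3 q30295 (flp_c L823655) q29561, e3 q30296 (flp_c L829721) q30846, e3 q30297 L823670 q29563, e3 q30298 (flp_c L829747) q30849, e3 q30299 (flp_c L827196) q30629, e3 q30300 L829763 q30851, e3 q30301 L829774 q30852, e3 q30302 (flp_c L823712)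 q29569, e3 q30303 (flp_c L829803) q30854, e3 q30304 L823739 q29828, e3 q30305 L823757 q29622, e3 q30306 L829831 q30856, e3 q30307 (flp_c L827335) q30640, e3 q30308 (flp_c L823777) q29576, e3 q30309 (flp_c L829108) q30787, e3 q30310 L823801 q29595, e3 q30311 (flp_c L823809) q29579, e3 q30312 (flp_c L829063) q30783, e3 q30313 (flp_c L827916) q30681, e3 q30314 L823855 q29626, e3 q30315 L823863 q29627, e3 q30316 L823875 q29671, e3 q30317 L823887 q29672, e3 q30318 L823901 q29591, e3 q30319 (flp_c L829915) q30863, e3 q30320 (flp_c L829740) q30848, e3 q30321 L823933 q29593, e3 q30322 L823945 q30322, e3 q30323 L823956 q29741, e3 q30324 L829945 q30866, e3 q30325 L829956 q30867, e3 q30326 L823988 q29615, e3 q30327 (flp_c L824000) q29602, e3 q30328 L829964 q30868, e3 q30329 (flp_c L824013) q29606, e3 q30330 (flp_c L824018) q29607, e3 q30331 (flp_c L829979) q30870, e3 q30332 L824039 q29609, e3 q30333 L824049 q29771, e3 q30334 L829993 q30872, e3 q30335 L830004 q30873, trivial⟩ (by decide +kernel)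

theorem ce_c_474 : ∀ r, r < 64 → sm gc (Qf (30336 + r)) = Qf (tab Gen.c (30336 + r)) :=
  edges_tab (sm gc) Qf (tab Gen.c) 30336 [(30336, 29616), (30337, 30875), (30338, 30338), (30339, 29823), (30340, 29639), (30341, 30855), (30342, 29678), (30343, 30725), (30344, 30828), (30345, 29680), (30346, 29681), (30347, 30860), (30348, 30677), (30349, 29764), (30350, 29631), (30351, 30826), (30352, 30706), (30353, 29852), (30354, 29637), (30355, 30877), (30356, 30886), (30357, 29642), (30358, 30641), (30359, 30889), (30360, 30540), (30361, 30650), (30362, 30892), (30363, 30551), (30364, 30364), (30365, 30365), (30366, 30895), (30367, 30550), (30368, 29652), (30369, 30897), (30370, 30898), (30371, 29656), (30372, 30900), (30373, 30373), (30374, 29658), (30375, 30903), (30376, 30904), (30377, 29661), (30378, 29662), (30379, 30907), (30380, 30908), (30381, 29745), (30382, 30539), (30383, 30861), (30384, 29775), (30385, 29854), (30386, 30769), (30387, 30770), (30388, 29714), (30389, 29698), (30390, 30821), (30391, 30911), (30392, 29690),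 (30393, 30912), (30394, 29694), (30395, 29697), (30396, 30885), (30397, 30913), (30398, 29700), (30399, 30915)]
    ⟨e3 q30336 (flp_c L824071) q29616, e3 q30337 (flp_c L830023) q30875, e3 q30338 L824088 q30338, e3 q30339 L824099 q29823, e3 q30340 L824111 q29639, e3 q30341 (flp_c L829827) q30855, e3 q30342 L824131 q29678, e3 q30343 (flp_c L828426) q30725, e3 q30344 (flp_c L829556) q30828, e3 q30345 L824157 q29680, e3 q30346 L824165 q29681, e3 q30347 (flp_c L829879) q30860, e3 q30348 (flp_c L827858) q30677, e3 q30349 L824203 q29764, e3 q30350 (flp_c L824205) q29631, e3 q30351 (flp_c L829528) q30826, e3 q30352 (flp_c L828236) q30706, e3 q30353 L824237 q29852, e3 q30354 L824243 q29637, e3 q30355 (flp_c L830043) q30877, e3 q30356 L830127 q30886, e3 q30357 (flp_c L824265) q29642, e3 q30358 (flp_c L827349) q30641, e3 q30359 L830159 q30889, e3 q30360 (flp_c L825941) q30540, e3 q30361 (flp_c L827480) q30650, e3 q30362 L830182 q30892, e3 q30363 (flp_c L826088) q30551, e3 q30364 L824328 q30364, e3 q30365 L824335 q30365, e3 q30366 L830203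 q30895, e3 q30367 (flp_c L826076) q30550, e3 q30368 (flp_c L824352) q29652, e3 q30369 (flp_c L830220) q30897, e3 q30370 L830224 q30898, e3 q30371 (flp_c L824371) q29656, e3 q30372 (flp_c L830237) q30900, e3 q30373 L824382 q30373, e3 q30374 (flp_c L824389) q29658, e3 q30375 (flp_c L830256) q30903, e3 q30376 (flp_c L830266) q30904, e3 q30377 L824414 q29661, e3 q30378 L824423 q29662, e3 q30379 (flp_c L830293) q30907, e3 q30380 (flp_c L830304) q30908, e3 q30381 L824451 q29745, e3 q30382 (flp_c L825933) q30539, e3 q30383 (flp_c L829891) q30861, e3 q30384 L824483 q29775, e3 q30385 L824495 q29854, e3 q30386 (flp_c L828888) q30769, e3 q30387 (flp_c L828902) q30770, e3 q30388 L824523 q29714, e3 q30389 L824529 q29698, e3 q30390 (flp_c L829471) q30821, e3 q30391 L830326 q30911, e3 q30392 (flp_c L824559) q29690, e3 q30393 L830340 q30912, e3 q30394 (flp_c L824580) q29694, e3 q30395 L824591 q29697, e3 q30396 (flp_c L830121) q30885, e3 q30397 L830346 q30913, e3 q30398 (flp_c L824619) q29700, e3 q30399 (flp_c L830365) q30915, trivial⟩ (by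 decide +kernel)

theorem ce_c_475 : ∀ r, r < 64 → sm gc (Qf (30400 + r)) = Qf (tab Gen.c (30400 + r)) :=
  edges_tab (sm gc) Qf (tab Gen.c) 30400 [(30400, 30400), (30401, 29711), (30402, 30529), (30403, 30918), (30404, 30820), (30405, 30822), (30406, 30819), (30407, 30883), (30408, 29719), (30409, 30920), (30410, 29718), (30411, 30552), (30412, 30921), (30413, 29723), (30414, 30595), (30415, 30924), (30416, 30597), (30417, 30766), (30418, 29737), (30419, 30926), (30420, 30675), (30421, 30928), (30422, 30929), (30423, 29738), (30424, 30930), (30425, 29740), (30426, 30931), (30427, 29742), (30428, 29743), (30429, 30933), (30430, 30768), (30431, 29746), (30432, 29749), (30433, 30935), (30434, 29751), (30435, 30937), (30436, 30679), (30437, 30939), (30438, 30940), (30439, 29758), (30440, 30685), (30441, 30686), (30442, 30788), (30443, 30942), (30444, 29767), (30445, 30943), (30446, 29770), (30447, 30944), (30448, 29772), (30449, 29773), (30450, 30730), (30451, 30948), (30452, 30696), (30453, 30949), (30454, 30695), (30455, 29783),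 (30456, 30746), (30457, 30952), (30458, 30698), (30459, 30953), (30460, 30697), (30461, 29791), (30462, 30699), (30463, 30954)]
    ⟨e3 q30400 L824636 q30400, e3 q30401 L824647 q29711, e3 q30402 (flp_c L825761) q30529, e3 q30403 L830389 q30918, e3 q30404 (flp_c L829461) q30820, e3 q30405 (flp_c L829485) q30822, e3 q30406 (flp_c L829453) q30819, e3 q30407 (flp_c L830107) q30883, e3 q30408 L824713 q29719, e3 q30409 L830410 q30920, e3 q30410 (flp_c L824731) q29718, e3 q30411 (flp_c L826110) q30552, e3 q30412 L830420 q30921, e3 q30413 (flp_c L824760) q29723, e3 q30414 (flp_c L826776) q30595, e3 q30415 L830444 q30924, e3 q30416 (flp_c L826804) q30597, e3 q30417 (flp_c L828848) q30766, e3 q30418 L824803 q29737, e3 q30419 L830461 q30926, e3 q30420 (flp_c L827830) q30675, e3 q30421 L830480 q30928, e3 q30422 L830489 q30929, e3 q30423 (flp_c L824845) q29738, e3 q30424 L830497 q30930, e3 q30425 (flp_c L824856) q29740, e3 q30426 L830503 q30931, e3 q30427 (flp_c L824867) q29742, e3 q30428 (flp_c L824872) q29743, e3 q30429 L830512 q30933,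 e3 q30430 (flp_c L828874) q30768, e3 q30431 (flp_c L824888) q29746, e3 q30432 (flp_c L824893) q29749, e3 q30433 (flp_c L830527) q30935, e3 q30434 L824906 q29751, e3 q30435 (flp_c L830536) q30937, e3 q30436 (flp_c L827890) q30679, e3 q30437 L830548 q30939, e3 q30438 L830557 q30940, e3 q30439 (flp_c L824940) q29758, e3 q30440 (flp_c L827974) q30685, e3 q30441 (flp_c L827986) q30686, e3 q30442 (flp_c L829122) q30788, e3 q30443 L830571 q30942, e3 q30444 (flp_c L824971) q29767, e3 q30445 L830577 q30943, e3 q30446 (flp_c L824986) q29770, e3 q30447 L830585 q30944, e3 q30448 (flp_c L824999) q29772, e3 q30449 (flp_c L825004) q29773, e3 q30450 (flp_c L828483) q30730, e3 q30451 L830610 q30948, e3 q30452 (flp_c L828111) q30696, e3 q30453 L830617 q30949, e3 q30454 (flp_c L828097) q30695, e3 q30455 (flp_c L825046) q29783, e3 q30456 (flp_c L828656) q30746, e3 q30457 L830641 q30952, e3 q30458 (flp_c L828143) q30698, e3 q30459 L830650 q30953, e3 q30460 (flp_c L828129) q30697, e3 q30461 (flp_c L825095) q29791, e3 q30462 (flp_c L828161) q30699,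 e3 q30463 L830660 q30954, trivial⟩ (by decide +kernel)

theorem ce_c_476 : ∀ r, r < 64 → sm gc (Qf (30464 + r)) = Qf (tab Gen.c (30464 + r)) :=
  edges_tab (sm gc) Qf (tab Gen.c) 30464 [(30464, 29799), (30465, 30955), (30466, 29801), (30467, 29802), (30468, 30957), (30469, 29806), (30470, 30958), (30471, 29808), (30472, 29809), (30473, 30960), (30474, 29813), (30475, 30961), (30476, 29815), (30477, 29816), (30478, 29818), (30479, 30964), (30480, 29825), (30481, 29826), (30482, 30966), (30483, 29830), (30484, 30968), (30485, 30485), (30486, 30573), (30487, 30574), (30488, 30700), (30489, 30972), (30490, 30973), (30491, 29839), (30492, 30974), (30493, 29841), (30494, 29842), (30495, 29845), (30496, 29847), (30497, 30963), (30498, 29850), (30499, 30674), (30500, 30624), (30501, 30246), (30502, 30231), (30503, 30229), (30504, 30201), (30505, 30982), (30506, 30506), (30507, 29883), (30508, 29992), (30509, 29884), (30510, 29872), (30511, 29871), (30512, 30133), (30513, 30990), (30514, 30135), (30515, 30515), (30516, 29877), (30517,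 30128), (30518, 30997), (30519, 30130), (30520, 30520), (30521, 30521), (30522, 29882), (30523, 30985), (30524, 30987), (30525, 31004), (30526, 29887), (30527, 31006)]
    ⟨e3 q30464 (flp_c L825118) q29799, e3 q30465 L830666 q30955, e3 q30466 (flp_c L825129) q29801, e3 q30467 (flp_c L825134) q29802, e3 q30468 L830675 q30957, e3 q30469 (flp_c L825146) q29806, e3 q30470 L830683 q30958, e3 q30471 (flp_c L825161) q29808, e3 q30472 (flp_c L825170) q29809, e3 q30473 L830698 q30960, e3 q30474 (flp_c L825182) q29813, e3 q30475 L830704 q30961, e3 q30476 (flp_c L825195) q29815, e3 q30477 (flp_c L825202) q29816, e3 q30478 (flp_c L825206) q29818, e3 q30479 L830720 q30964, e3 q30480 (flp_c L825218) q29825, e3 q30481 (flp_c L825225) q29826, e3 q30482 L830733 q30966, e3 q30483 (flp_c L825235) q29830, e3 q30484 (flp_c L830750) q30968, e3 q30485 L825250 q30485, e3 q30486 (flp_c L826432) q30573, e3 q30487 (flp_c L826446) q30574, e3 q30488 (flp_c L828175) q30700, e3 q30489 L830778 q30972, e3 q30490 L830785 q30973, e3 q30491 (flp_c L825293)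 q29839, e3 q30492 L830791 q30974, e3 q30493 (flp_c L825304) q29841, e3 q30494 (flp_c L825309) q29842, e3 q30495 (flp_c L825313) q29845, e3 q30496 (flp_c L825319) q29847, e3 q30497 (flp_c L830718) q30963, e3 q30498 L825332 q29850, e3 q30499 (flp_c L827810) q30674, e3 q30500 (flp_c L827141) q30624, e3 q30501 L825349 q30246, e3 q30502 L825365 q30231, e3 q30503 L825385 q30229, e3 q30504 L825403 q30201, e3 q30505 L830855 q30982, e3 q30506 L825433 q30506, e3 q30507 L825452 q29883, e3 q30508 L825472 q29992, e3 q30509 L825482 q29884, e3 q30510 L825496 q29872, e3 q30511 L825514 q29871, e3 q30512 L825534 q30133, e3 q30513 L830988 q30990, e3 q30514 L825562 q30135, e3 q30515 L825576 q30515, e3 q30516 L825589 q29877, e3 q30517 L825607 q30128, e3 q30518 L831095 q30997, e3 q30519 L825633 q30130, e3 q30520 L825647 q30520, e3 q30521 L825660 q30521, e3 q30522 L825673 q29882, e3 q30523 (flp_c L830910) q30985, e3 q30524 (flp_c L830942) q30987, e3 q30525 L831194 q31004, e3 q30526 (flp_c L825719) q29887, e3 q30527 (flp_c L831221) q31006, trivial⟩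 (by decide +kernel)

theorem ce_c_477 : ∀ r, r < 64 → sm gc (Qf (30528 + r)) = Qf (tab Gen.c (30528 + r)) :=
  edges_tab (sm gc) Qf (tab Gen.c) 30528 [(30528, 30528), (30529, 30402), (30530, 31010), (30531, 30234), (30532, 29893), (30533, 30233), (30534, 30230), (30535, 30068), (30536, 30122), (30537, 30069), (30538, 29916), (30539, 30382), (30540, 30360), (30541, 29999), (30542, 31019), (30543, 30001), (30544, 30544), (30545, 31022), (30546, 30235), (30547, 29909), (30548, 31024), (30549, 30549), (30550, 30367), (30551, 30363), (30552, 30411), (30553, 30244), (30554, 30243), (30555, 30245), (30556, 30272), (30557, 30203), (30558, 29939), (30559, 29995), (30560, 31030), (30561, 29997), (30562, 30562), (30563, 30563), (30564, 31034), (30565, 30253), (30566, 29935), (30567, 31037), (30568, 31038), (30569, 30569), (30570, 30254), (30571, 29950), (30572, 29949), (30573, 30486), (30574, 30487), (30575, 31040), (30576, 29962), (30577, 31043), (30578, 31044), (30579, 29957), (30580, 31045), (30581, 29959), (30582, 31046), (30583,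 29961), (30584, 31047), (30585, 29963), (30586, 31049), (30587, 30587), (30588, 29979), (30589, 29980), (30590, 30278), (30591, 31054)]
    ⟨e3 q30528 L825744 q30528, e3 q30529 L825761 q30402, e3 q30530 L831279 q31010, e3 q30531 L825791 q30234, e3 q30532 L825807 q29893, e3 q30533 L825827 q30233, e3 q30534 L825841 q30230, e3 q30535 L825859 q30068, e3 q30536 L825879 q30122, e3 q30537 L825889 q30069, e3 q30538 L825907 q29916, e3 q30539 L825933 q30382, e3 q30540 L825941 q30360, e3 q30541 L825957 q29999, e3 q30542 L831438 q31019, e3 q30543 L825985 q30001, e3 q30544 L826001 q30544, e3 q30545 L831484 q31022, e3 q30546 L826028 q30235, e3 q30547 (flp_c L826036) q29909, e3 q30548 (flp_c L831511) q31024, e3 q30549 L826061 q30549, e3 q30550 L826076 q30367, e3 q30551 L826088 q30363, e3 q30552 L826110 q30411, e3 q30553 L826124 q30244, e3 q30554 L826140 q30243, e3 q30555 L826158 q30245, e3 q30556 L826178 q30272, e3 q30557 L826190 q30203, e3 q30558 L826208 q29939, e3 q30559 L826228 q29995, e3 q30560 L831601 q31030, e3 q30561 L826254 q29997,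 e3 q30562 L826270 q30562, e3 q30563 L826285 q30563, e3 q30564 L831657 q31034, e3 q30565 L826312 q30253, e3 q30566 (flp_c L826322) q29935, e3 q30567 (flp_c L831704) q31037, e3 q30568 (flp_c L831719) q31038, e3 q30569 L826365 q30569, e3 q30570 L826382 q30254, e3 q30571 L826394 q29950, e3 q30572 L826414 q29949, e3 q30573 L826432 q30486, e3 q30574 L826446 q30487, e3 q30575 (flp_c L831751) q31040, e3 q30576 L826476 q29962, e3 q30577 L831801 q31043, e3 q30578 L831818 q31044, e3 q30579 (flp_c L826522) q29957, e3 q30580 L831836 q31045, e3 q30581 (flp_c L826557) q29959, e3 q30582 L831854 q31046, e3 q30583 (flp_c L826592) q29961, e3 q30584 L831872 q31047, e3 q30585 (flp_c L826623) q29963, e3 q30586 (flp_c L831903) q31049, e3 q30587 L826652 q30587, e3 q30588 L826671 q29979, e3 q30589 L826685 q29980, e3 q30590 L826701 q30278, e3 q30591 L831979 q31054, trivial⟩ (by decide +kernel)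

theorem ce_c_478 : ∀ r, r < 64 → sm gc (Qf (30592 + r)) = Qf (tab Gen.c (30592 + r)) :=
  edges_tab (sm gc) Qf (tab Gen.c) 30592 [(30592, 30280), (30593, 30593), (30594, 29973), (30595, 30414), (30596, 31059), (30597, 30416), (30598, 30598), (30599, 29978), (30600, 31051), (30601, 30986), (30602, 30257), (30603, 31065), (30604, 30199), (30605, 30605), (30606, 31067), (30607, 29987), (30608, 31069), (30609, 30057), (30610, 30984), (30611, 30004), (30612, 30289), (30613, 31071), (30614, 31029), (30615, 29996), (30616, 31073), (30617, 30617), (30618, 31075), (30619, 31018), (30620, 30000), (30621, 31078), (30622, 31079), (30623, 30623), (30624, 30500), (30625, 30006), (30626, 31082), (30627, 30008), (30628, 31084), (30629, 30299), (30630, 31087), (30631, 30164), (30632, 30632), (30633, 30633), (30634, 31090), (30635, 30015), (30636, 31092), (30637, 30637), (30638, 31094), (30639, 30019), (30640, 30307), (30641, 30358), (30642, 31095), (30643, 30026), (30644, 31096), (30645, 30028), (30646, 30029), (30647, 31098), (30648, 30032),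 (30649, 31100), (30650, 30361), (30651, 30099), (30652, 31102), (30653, 31103), (30654, 30163), (30655, 30041)]
    ⟨e3 q30592 L826729 q30280, e3 q30593 L826743 q30593, e3 q30594 L826758 q29973, e3 q30595 L826776 q30414, e3 q30596 L832056 q31059, e3 q30597 L826804 q30416, e3 q30598 L826818 q30598, e3 q30599 L826833 q29978, e3 q30600 (flp_c L831937) q31051, e3 q30601 (flp_c L830924) q30986, e3 q30602 L826873 q30257, e3 q30603 L832147 q31065, e3 q30604 L826901 q30199, e3 q30605 L826917 q30605, e3 q30606 L832176 q31067, e3 q30607 (flp_c L826938) q29987, e3 q30608 (flp_c L832205) q31069, e3 q30609 L826967 q30057, e3 q30610 (flp_c L830898) q30984, e3 q30611 L826991 q30004, e3 q30612 L827001 q30289, e3 q30613 L832229 q31071, e3 q30614 (flp_c L831589) q31029, e3 q30615 (flp_c L827033) q29996, e3 q30616 (flp_c L832252) q31073, e3 q30617 L827054 q30617, e3 q30618 L832270 q31075, e3 q30619 (flp_c L831426) q31018, e3 q30620 (flp_c L827089) q30000, e3 q30621 (flp_c L832309) q31078, e3 q30622 (flp_c L832316) q31079, e3 q30623 L827124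 q30623, e3 q30624 L827141 q30500, e3 q30625 (flp_c L827147) q30006, e3 q30626 (flp_c L832355) q31082, e3 q30627 L827170 q30008, e3 q30628 (flp_c L832380) q31084, e3 q30629 L827196 q30299, e3 q30630 L832424 q31087, e3 q30631 L827222 q30164, e3 q30632 L827238 q30632, e3 q30633 L827253 q30633, e3 q30634 L832463 q31090, e3 q30635 (flp_c L827272) q30015, e3 q30636 (flp_c L832488) q31092, e3 q30637 L827297 q30637, e3 q30638 L832508 q31094, e3 q30639 (flp_c L827318) q30019, e3 q30640 L827335 q30307, e3 q30641 L827349 q30358, e3 q30642 L832520 q31095, e3 q30643 (flp_c L827377) q30026, e3 q30644 L832538 q31096, e3 q30645 (flp_c L827412) q30028, e3 q30646 (flp_c L827429) q30029, e3 q30647 (flp_c L832565) q31098, e3 q30648 L827452 q30032, e3 q30649 (flp_c L832592) q31100, e3 q30650 L827480 q30361, e3 q30651 L827496 q30099, e3 q30652 L832620 q31102, e3 q30653 L832637 q31103, e3 q30654 L827540 q30163, e3 q30655 (flp_c L827550) q30041, trivial⟩ (by decide +kernel)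

theorem ce_c_479 : ∀ r, r < 64 → sm gc (Qf (30656 + r)) = Qf (tab Gen.c (30656 + r)) :=
  edges_tab (sm gc) Qf (tab Gen.c) 30656 [(30656, 31106), (30657, 31107), (30658, 30045), (30659, 31109), (30660, 30047), (30661, 31112), (30662, 30177), (30663, 31115), (30664, 30179), (30665, 30154), (30666, 31118), (30667, 30156), (30668, 31014), (30669, 31119), (30670, 30071), (30671, 31120), (30672, 30081), (30673, 30074), (30674, 30499), (30675, 30420), (30676, 31124), (30677, 30348), (30678, 30086), (30679, 30436), (30680, 31128), (30681, 30313), (30682, 30682), (30683, 30683), (30684, 30091), (30685, 30440), (30686, 30441), (30687, 31133), (30688, 30096), (30689, 31111), (30690, 31135), (30691, 30198), (30692, 30100), (30693, 31137), (30694, 30694), (30695, 30454), (30696, 30452), (30697, 30460), (30698, 30458), (30699, 30462), (30700, 30488), (30701, 31142), (30702, 31143), (30703, 30120), (30704, 31013), (30705, 30139), (30706, 30352), (30707, 31015), (30708, 30140), (30709, 31147), (30710, 30996), (30711, 30129), (30712, 31150),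 (30713, 31000), (30714, 30714), (30715, 30715), (30716, 31153), (30717, 30989), (30718, 30134), (30719, 31157)]
    ⟨e3 q30656 (flp_c L832682) q31106, e3 q30657 (flp_c L832697) q31107, e3 q30658 (flp_c L827587) q30045, e3 q30659 (flp_c L832722) q31109, e3 q30660 L827610 q30047, e3 q30661 (flp_c L832754) q31112, e3 q30662 L827632 q30177, e3 q30663 L832794 q31115, e3 q30664 L827660 q30179, e3 q30665 L827678 q30154, e3 q30666 L832847 q31118, e3 q30667 L827708 q30156, e3 q30668 (flp_c L831356) q31014, e3 q30669 L832864 q31119, e3 q30670 (flp_c L827748) q30071, e3 q30671 L832878 q31120, e3 q30672 L827779 q30081, e3 q30673 (flp_c L827791) q30074, e3 q30674 L827810 q30499, e3 q30675 L827830 q30420, e3 q30676 L832946 q31124, e3 q30677 L827858 q30348, e3 q30678 L827872 q30086, e3 q30679 L827890 q30436, e3 q30680 L833007 q31128, e3 q30681 L827916 q30313, e3 q30682 L827930 q30682, e3 q30683 L827943 q30683, e3 q30684 L827956 q30091, e3 q30685 L827974 q30440, e3 q30686 L827986 q30441, e3 q30687 L833076 q31133, e3 q30688 (flp_c L828008)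 q30096, e3 q30689 (flp_c L832747) q31111, e3 q30690 L833104 q31135, e3 q30691 L828049 q30198, e3 q30692 (flp_c L828059) q30100, e3 q30693 (flp_c L833129) q31137, e3 q30694 L828082 q30694, e3 q30695 L828097 q30454, e3 q30696 L828111 q30452, e3 q30697 L828129 q30460, e3 q30698 L828143 q30458, e3 q30699 L828161 q30462, e3 q30700 L828175 q30488, e3 q30701 L833201 q31142, e3 q30702 L833214 q31143, e3 q30703 (flp_c L828205) q30120, e3 q30704 (flp_c L831344) q31013, e3 q30705 L828228 q30139, e3 q30706 L828236 q30352, e3 q30707 (flp_c L831374) q31015, e3 q30708 L828258 q30140, e3 q30709 L833262 q31147, e3 q30710 (flp_c L831085) q30996, e3 q30711 (flp_c L828282) q30129, e3 q30712 (flp_c L833287) q31150, e3 q30713 (flp_c L831136) q31000, e3 q30714 L828305 q30714, e3 q30715 L828318 q30715, e3 q30716 L833317 q31153, e3 q30717 (flp_c L830978) q30989, e3 q30718 (flp_c L828347) q30134, e3 q30719 (flp_c L833360) q31157, trivial⟩ (by decide +kernel)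

theorem ce_c_480 : ∀ r, r < 64 → sm gc (Qf (30720 + r)) = Qf (tab Gen.c (30720 + r)) :=
  edges_tab (sm gc) Qf (tab Gen.c) 30720 [(30720, 31158), (30721, 30992), (30722, 30722), (30723, 30723), (30724, 31146), (30725, 30343), (30726, 30142), (30727, 31163), (30728, 30144), (30729, 31165), (30730, 30450), (30731, 31166), (30732, 30149), (30733, 31167), (30734, 30159), (30735, 30151), (30736, 31168), (30737, 31117), (30738, 30155), (30739, 31170), (30740, 30740), (30741, 30158), (30742, 31173), (30743, 30161), (30744, 31175), (30745, 31086), (30746, 30456), (30747, 31176), (30748, 30168), (30749, 31177), (30750, 30183), (30751, 30171), (30752, 30190), (30753, 31178), (30754, 31114), (30755, 30178), (30756, 31181), (30757, 31182), (30758, 30758), (30759, 30182), (30760, 31185), (30761, 31186), (30762, 30185), (30763, 30186), (30764, 31189), (30765, 31190), (30766, 30417), (30767, 30200), (30768, 30430), (30769, 30386), (30770, 30387), (30771, 31064), (30772, 31192), (30773, 30202), (30774, 30204), (30775, 31194), (30776, 30207),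 (30777, 30208), (30778, 30211), (30779, 31197), (30780, 30214), (30781, 31199), (30782, 31200), (30783, 30312)]
    ⟨e3 q30720 (flp_c L833369) q31158, e3 q30721 (flp_c L831019) q30992, e3 q30722 L828388 q30722, e3 q30723 L828401 q30723, e3 q30724 (flp_c L833252) q31146, e3 q30725 L828426 q30343, e3 q30726 (flp_c L828436) q30142, e3 q30727 (flp_c L833432) q31163, e3 q30728 L828459 q30144, e3 q30729 (flp_c L833453) q31165, e3 q30730 L828483 q30450, e3 q30731 L833461 q31166, e3 q30732 (flp_c L828505) q30149, e3 q30733 L833473 q31167, e3 q30734 L828538 q30159, e3 q30735 (flp_c L828550) q30151, e3 q30736 L833489 q31168, e3 q30737 (flp_c L832833) q31117, e3 q30738 (flp_c L828581) q30155, e3 q30739 (flp_c L833508) q31170, e3 q30740 L828598 q30740, e3 q30741 (flp_c L828609) q30158, e3 q30742 (flp_c L833537) q31173, e3 q30743 L828624 q30161, e3 q30744 (flp_c L833556) q31175, e3 q30745 (flp_c L832412) q31086, e3 q30746 L828656 q30456, e3 q30747 L833562 q31176, e3 q30748 (flp_c L828674) q30168, e3 q30749 L833574 q31177, e3 q30750 L828703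 q30183, e3 q30751 (flp_c L828713) q30171, e3 q30752 L828728 q30190, e3 q30753 L833586 q31178, e3 q30754 (flp_c L832782) q31114, e3 q30755 (flp_c L828754) q30178, e3 q30756 (flp_c L833611) q31181, e3 q30757 (flp_c L833618) q31182, e3 q30758 L828777 q30758, e3 q30759 (flp_c L828788) q30182, e3 q30760 (flp_c L833645) q31185, e3 q30761 (flp_c L833651) q31186, e3 q30762 L828811 q30185, e3 q30763 L828816 q30186, e3 q30764 (flp_c L833682) q31189, e3 q30765 (flp_c L833695) q31190, e3 q30766 L828848 q30417, e3 q30767 L828860 q30200, e3 q30768 L828874 q30430, e3 q30769 L828888 q30386, e3 q30770 L828902 q30387, e3 q30771 (flp_c L832135) q31064, e3 q30772 L833715 q31192, e3 q30773 (flp_c L828934) q30202, e3 q30774 (flp_c L828945) q30204, e3 q30775 L833736 q31194, e3 q30776 (flp_c L828969) q30207, e3 q30777 (flp_c L828984) q30208, e3 q30778 (flp_c L828996) q30211, e3 q30779 L833778 q31197, e3 q30780 (flp_c L829022) q30214, e3 q30781 (flp_c L833809) q31199, e3 q30782 L833819 q31200, e3 q30783 L829063 q30312, trivial⟩ (by decide +kernel)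

theorem ce_c_481 : ∀ r, r < 64 → sm gc (Qf (30784 + r)) = Qf (tab Gen.c (30784 + r)) :=
  edges_tab (sm gc) Qf (tab Gen.c) 30784 [(30784, 30217), (30785, 31204), (30786, 31205), (30787, 30309), (30788, 30442), (30789, 30224), (30790, 31207), (30791, 30226), (30792, 31208), (30793, 30228), (30794, 31012), (30795, 30980), (30796, 31011), (30797, 31009), (30798, 31210), (30799, 30237), (30800, 30238), (30801, 31212), (30802, 30241), (30803, 31027), (30804, 31213), (30805, 30248), (30806, 31215), (30807, 30250), (30808, 31217), (30809, 30252), (30810, 31218), (30811, 30256), (30812, 31219), (30813, 30258), (30814, 31221), (30815, 30260), (30816, 31223), (30817, 30262), (30818, 31225), (30819, 30406), (30820, 30404), (30821, 30390), (30822, 30405), (30823, 31228), (30824, 30285), (30825, 30270), (30826, 30351), (30827, 30290), (30828, 30344), (30829, 31230), (30830, 31053), (30831, 30279), (30832, 31234), (30833, 31235), (30834, 31056), (30835, 30284), (30836, 31237), (30837, 31238), (30838, 31070), (30839, 30287), (30840, 30288),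 (30841, 30291), (30842, 31240), (30843, 30293), (30844, 31242), (30845, 31206), (30846, 30296), (30847, 31245)]
    ⟨e3 q30784 (flp_c L829071) q30217, e3 q30785 (flp_c L833874) q31204, e3 q30786 (flp_c L833887) q31205, e3 q30787 L829108 q30309, e3 q30788 L829122 q30442, e3 q30789 (flp_c L829132) q30224, e3 q30790 (flp_c L833906) q31207, e3 q30791 L829151 q30226, e3 q30792 L833910 q31208, e3 q30793 (flp_c L829171) q30228, e3 q30794 (flp_c L831320) q31012, e3 q30795 (flp_c L830825) q30980, e3 q30796 (flp_c L831300) q31011, e3 q30797 (flp_c L831267) q31009, e3 q30798 L833936 q31210, e3 q30799 (flp_c L829244) q30237, e3 q30800 (flp_c L829259) q30238, e3 q30801 L833963 q31212, e3 q30802 (flp_c L829281) q30241, e3 q30803 (flp_c L831557) q31027, e3 q30804 L833975 q31213, e3 q30805 (flp_c L829316) q30248, e3 q30806 (flp_c L834002) q31215, e3 q30807 (flp_c L829337) q30250, e3 q30808 (flp_c L834021) q31217, e3 q30809 L829356 q30252, e3 q30810 L834025 q31218, e3 q30811 (flp_c L829372) q30256, e3 q30812 L834037 q31219, e3 q30813 (flp_c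 L829391) q30258, e3 q30814 (flp_c L834058) q31221, e3 q30815 (flp_c L829408) q30260, e3 q30816 (flp_c L834073) q31223, e3 q30817 L829427 q30262, e3 q30818 (flp_c L834092) q31225, e3 q30819 L829453 q30406, e3 q30820 L829461 q30404, e3 q30821 L829471 q30390, e3 q30822 L829485 q30405, e3 q30823 L834130 q31228, e3 q30824 L829507 q30285, e3 q30825 (flp_c L829515) q30270, e3 q30826 L829528 q30351, e3 q30827 L829542 q30290, e3 q30828 L829556 q30344, e3 q30829 L834152 q31230, e3 q30830 (flp_c L831969) q31053, e3 q30831 (flp_c L829582) q30279, e3 q30832 (flp_c L834195) q31234, e3 q30833 (flp_c L834204) q31235, e3 q30834 (flp_c L832012) q31056, e3 q30835 (flp_c L829621) q30284, e3 q30836 (flp_c L834219) q31237, e3 q30837 (flp_c L834229) q31238, e3 q30838 (flp_c L832221) q31070, e3 q30839 L829656 q30287, e3 q30840 L829665 q30288, e3 q30841 (flp_c L829671) q30291, e3 q30842 (flp_c L834248) q31240, e3 q30843 L829694 q30293, e3 q30844 (flp_c L834271) q31242, e3 q30845 (flp_c L833900) q31206, e3 q30846 L829721 q30296, e3 q30847 (flp_c L834304)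 q31245, trivial⟩ (by decide +kernel)

theorem ce_c_482 : ∀ r, r < 64 → sm gc (Qf (30848 + r)) = Qf (tab Gen.c (30848 + r)) :=
  edges_tab (sm gc) Qf (tab Gen.c) 30848 [(30848, 30320), (30849, 30298), (30850, 31247), (30851, 30300), (30852, 30301), (30853, 31249), (30854, 30303), (30855, 30341), (30856, 30306), (30857, 31203), (30858, 31131), (30859, 31127), (30860, 30347), (30861, 30383), (30862, 31244), (30863, 30319), (30864, 31246), (30865, 31252), (30866, 30324), (30867, 30325), (30868, 30328), (30869, 31211), (30870, 30331), (30871, 31256), (30872, 30334), (30873, 30335), (30874, 31258), (30875, 30337), (30876, 31260), (30877, 30355), (30878, 31161), (30879, 31229), (30880, 31061), (30881, 31125), (30882, 31123), (30883, 30407), (30884, 31144), (30885, 30396), (30886, 30356), (30887, 31264), (30888, 31016), (30889, 30359), (30890, 31265), (30891, 31026), (30892, 30362), (30893, 31268), (30894, 31269), (30895, 30366), (30896, 31271), (30897, 30369), (30898, 30370), (30899, 31273), (30900, 30372), (30901, 31275), (30902,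 31216), (30903, 30375), (30904, 30376), (30905, 31278), (30906, 31279), (30907, 30379), (30908, 30380), (30909, 31226), (30910, 31191), (30911, 30391)]
    ⟨e3 q30848 L829740 q30320, e3 q30849 L829747 q30298, e3 q30850 L834319 q31247, e3 q30851 (flp_c L829763) q30300, e3 q30852 (flp_c L829774) q30301, e3 q30853 (flp_c L834342) q31249, e3 q30854 L829803 q30303, e3 q30855 L829827 q30341, e3 q30856 (flp_c L829831) q30306, e3 q30857 (flp_c L833863) q31203, e3 q30858 (flp_c L833048) q31131, e3 q30859 (flp_c L832997) q31127, e3 q30860 L829879 q30347, e3 q30861 L829891 q30383, e3 q30862 (flp_c L834296) q31244, e3 q30863 L829915 q30319, e3 q30864 (flp_c L834311) q31246, e3 q30865 L834376 q31252, e3 q30866 (flp_c L829945) q30324, e3 q30867 (flp_c L829956) q30325, e3 q30868 (flp_c L829964) q30328, e3 q30869 (flp_c L833961) q31211, e3 q30870 L829979 q30331, e3 q30871 L834411 q31256, e3 q30872 (flp_c L829993) q30334, e3 q30873 (flp_c L830004) q30335, e3 q30874 (flp_c L834432) q31258, e3 q30875 L830023 q30337, e3 q30876 (flp_c L834451)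 q31260, e3 q30877 L830043 q30355, e3 q30878 (flp_c L833409) q31161, e3 q30879 (flp_c L834144) q31229, e3 q30880 (flp_c L832089) q31061, e3 q30881 (flp_c L832965) q31125, e3 q30882 (flp_c L832936) q31123, e3 q30883 L830107 q30407, e3 q30884 (flp_c L833228) q31144, e3 q30885 L830121 q30396, e3 q30886 (flp_c L830127) q30356, e3 q30887 L834484 q31264, e3 q30888 (flp_c L831394) q31016, e3 q30889 (flp_c L830159) q30359, e3 q30890 L834492 q31265, e3 q30891 (flp_c L831539) q31026, e3 q30892 (flp_c L830182) q30362, e3 q30893 (flp_c L834517) q31268, e3 q30894 (flp_c L834524) q31269, e3 q30895 (flp_c L830203) q30366, e3 q30896 (flp_c L834537) q31271, e3 q30897 L830220 q30369, e3 q30898 (flp_c L830224) q30370, e3 q30899 (flp_c L834550) q31273, e3 q30900 L830237 q30372, e3 q30901 (flp_c L834565) q31275, e3 q30902 (flp_c L834015) q31216, e3 q30903 L830256 q30375, e3 q30904 L830266 q30376, e3 q30905 (flp_c L834593) q31278, e3 q30906 (flp_c L834605) q31279, e3 q30907 L830293 q30379, e3 q30908 L830304 q30380, e3 q30909 (flp_c L834104) q31226,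 e3 q30910 (flp_c L833707) q31191, e3 q30911 (flp_c L830326) q30391, trivial⟩ (by decide +kernel)

theorem ce_c_483 : ∀ r, r < 64 → sm gc (Qf (30912 + r)) = Qf (tab Gen.c (30912 + r)) :=
  edges_tab (sm gc) Qf (tab Gen.c) 30912 [(30912, 30393), (30913, 30397), (30914, 31283), (30915, 30399), (30916, 31285), (30917, 31286), (30918, 30403), (30919, 31227), (30920, 30409), (30921, 30412), (30922, 31289), (30923, 31058), (30924, 30415), (30925, 31290), (30926, 30419), (30927, 31291), (30928, 30421), (30929, 30422), (30930, 30424), (30931, 30426), (30932, 31281), (30933, 30429), (30934, 31282), (30935, 30433), (30936, 31297), (30937, 30435), (30938, 31298), (30939, 30437), (30940, 30438), (30941, 31132), (30942, 30443), (30943, 30445), (30944, 30447), (30945, 31287), (30946, 31303), (30947, 31139), (30948, 30451), (30949, 30453), (30950, 31305), (30951, 31140), (30952, 30457), (30953, 30459), (30954, 30463), (30955, 30465), (30956, 31307), (30957, 30468), (30958, 30470), (30959, 31255), (30960, 30473), (30961, 30475), (30962, 31193),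 (30963, 30497), (30964, 30479), (30965, 31312), (30966, 30482), (30967, 31315), (30968, 30484), (30969, 31317), (30970, 31041), (30971, 31318), (30972, 30489), (30973, 30490), (30974, 30492), (30975, 31276)]
    ⟨e3 q30912 (flp_c L830340) q30393, e3 q30913 (flp_c L830346) q30397, e3 q30914 (flp_c L834642) q31283, e3 q30915 L830365 q30399, e3 q30916 (flp_c L834659) q31285, e3 q30917 L834663 q31286, e3 q30918 (flp_c L830389) q30403, e3 q30919 (flp_c L834120) q31227, e3 q30920 (flp_c L830410) q30409, e3 q30921 (flp_c L830420) q30412, e3 q30922 L834691 q31289, e3 q30923 (flp_c L832046) q31058, e3 q30924 (flp_c L830444) q30415, e3 q30925 L834701 q31290, e3 q30926 (flp_c L830461) q30419, e3 q30927 L834711 q31291, e3 q30928 (flp_c L830480) q30421, e3 q30929 (flp_c L830489) q30422, e3 q30930 (flp_c L830497) q30424, e3 q30931 (flp_c L830503) q30426, e3 q30932 (flp_c L834629) q31281, e3 q30933 (flp_c L830512) q30429, e3 q30934 (flp_c L834636) q31282, e3 q30935 L830527 q30433, e3 q30936 (flp_c L834752) q31297, e3 q30937 L830536 q30435,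 e3 q30938 L834754 q31298, e3 q30939 (flp_c L830548) q30437, e3 q30940 (flp_c L830557) q30438, e3 q30941 (flp_c L833066) q31132, e3 q30942 (flp_c L830571) q30443, e3 q30943 (flp_c L830577) q30445, e3 q30944 (flp_c L830585) q30447, e3 q30945 (flp_c L834682) q31287, e3 q30946 L834790 q31303, e3 q30947 (flp_c L833157) q31139, e3 q30948 (flp_c L830610) q30451, e3 q30949 (flp_c L830617) q30453, e3 q30950 L834803 q31305, e3 q30951 (flp_c L833175) q31140, e3 q30952 (flp_c L830641) q30457, e3 q30953 (flp_c L830650) q30459, e3 q30954 (flp_c L830660) q30463, e3 q30955 (flp_c L830666) q30465, e3 q30956 (flp_c L834827) q31307, e3 q30957 (flp_c L830675) q30468, e3 q30958 (flp_c L830683) q30470, e3 q30959 (flp_c L834405) q31255, e3 q30960 (flp_c L830698) q30473, e3 q30961 (flp_c L830704) q30475, e3 q30962 (flp_c L833734) q31193, e3 q30963 L830718 q30497, e3 q30964 (flp_c L830720) q30479, e3 q30965 (flp_c L834862) q31312, e3 q30966 (flp_c L830733) q30482, e3 q30967 (flp_c L834880) q31315, e3 q30968 L830750 q30484, e3 q30969 (flp_c L834895)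 q31317, e3 q30970 (flp_c L831771) q31041, e3 q30971 L834899 q31318, e3 q30972 (flp_c L830778) q30489, e3 q30973 (flp_c L830785) q30490, e3 q30974 (flp_c L830791) q30492, e3 q30975 (flp_c L834576) q31276, trivial⟩ (by decide +kernel)

theorem ce_c_484 : ∀ r, r < 64 → sm gc (Qf (30976 + r)) = Qf (tab Gen.c (30976 + r)) :=
  edges_tab (sm gc) Qf (tab Gen.c) 30976 [(30976, 31301), (30977, 31280), (30978, 31195), (30979, 31121), (30980, 30795), (30981, 31322), (30982, 30505), (30983, 31324), (30984, 30610), (30985, 30523), (30986, 30601), (30987, 30524), (30988, 31327), (30989, 30717), (30990, 30513), (30991, 31330), (30992, 30721), (30993, 30993), (30994, 30994), (30995, 31333), (30996, 30710), (30997, 30518), (30998, 31337), (30999, 31338), (31000, 30713), (31001, 31001), (31002, 31002), (31003, 31326), (31004, 30525), (31005, 31342), (31006, 30527), (31007, 31344), (31008, 31345), (31009, 30797), (31010, 30530), (31011, 30796), (31012, 30794), (31013, 30704), (31014, 30668), (31015, 30707), (31016, 30888), (31017, 31348), (31018,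 30619), (31019, 30542), (31020, 31350), (31021, 31021), (31022, 30545), (31023, 31353), (31024, 30548), (31025, 31355), (31026, 30891), (31027, 30803), (31028, 31356), (31029, 30614), (31030, 30560), (31031, 31359), (31032, 31360), (31033, 31033), (31034, 30564), (31035, 31363), (31036, 31364), (31037, 30567), (31038, 30568), (31039, 31366)]
    ⟨e3 q30976 (flp_c L834783) q31301, e3 q30977 (flp_c L834622) q31280, e3 q30978 (flp_c L833763) q31195, e3 q30979 (flp_c L832900) q31121, e3 q30980 L830825 q30795, e3 q30981 L834922 q31322, e3 q30982 (flp_c L830855) q30505, e3 q30983 (flp_c L834959) q31324, e3 q30984 L830898 q30610, e3 q30985 L830910 q30523, e3 q30986 L830924 q30601, e3 q30987 L830942 q30524, e3 q30988 L835013 q31327, e3 q30989 L830978 q30717, e3 q30990 (flp_c L830988) q30513, e3 q30991 (flp_c L835064) q31330, e3 q30992 L831019 q30721, e3 q30993 L831035 q30993, e3 q30994 L831052 q30994, e3 q30995 L835106 q31333, e3 q30996 L831085 q30710, e3 q30997 (flp_c L831095) q30518, e3 q30998 (flp_c L835169) q31337, e3 q30999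 (flp_c L835182) q31338, e3 q31000 L831136 q30713, e3 q31001 L831152 q31001, e3 q31002 L831169 q31002, e3 q31003 (flp_c L834999) q31326, e3 q31004 (flp_c L831194) q30525, e3 q31005 (flp_c L835241) q31342, e3 q31006 L831221 q30527, e3 q31007 (flp_c L835268) q31344, e3 q31008 L835280 q31345, e3 q31009 L831267 q30797, e3 q31010 (flp_c L831279) q30530, e3 q31011 L831300 q30796, e3 q31012 L831320 q30794, e3 q31013 L831344 q30704, e3 q31014 L831356 q30668, e3 q31015 L831374 q30707, e3 q31016 L831394 q30888, e3 q31017 L835338 q31348, e3 q31018 L831426 q30619, e3 q31019 (flp_c L831438) q30542, e3 q31020 (flp_c L835373) q31350, e3 q31021 L831471 q31021, e3 q31022 (flp_c L831484) q30545, e3 q31023 (flp_c L835416) q31353, e3 q31024 L831511 q30548, e3 q31025 (flp_c L835443) q31355, e3 q31026 L831539 q30891, e3 q31027 L831557 q30803, e3 q31028 L835453 q31356, e3 q31029 L831589 q30614, e3 q31030 (flp_c L831601) q30560, e3 q31031 (flp_c L835500) q31359, e3 q31032 (flp_c L835515) q31360, e3 q31033 L831644 q31033, e3 q31034 (flp_c L831657)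 q30564, e3 q31035 (flp_c L835558) q31363, e3 q31036 (flp_c L835574) q31364, e3 q31037 L831704 q30567, e3 q31038 L831719 q30568, e3 q31039 (flp_c L835605) q31366, trivial⟩ (by decide +kernel)

theorem ce_c_485 : ∀ r, r < 64 → sm gc (Qf (31040 + r)) = Qf (tab Gen.c (31040 + r)) :=
  edges_tab (sm gc) Qf (tab Gen.c) 31040 [(31040, 30575), (31041, 30970), (31042, 31367), (31043, 30577), (31044, 30578), (31045, 30580), (31046, 30582), (31047, 30584), (31048, 31372), (31049, 30586), (31050, 31374), (31051, 30600), (31052, 31375), (31053, 30830), (31054, 30591), (31055, 31378), (31056, 30834), (31057, 31379), (31058, 30923), (31059, 30596), (31060, 31382), (31061, 30880), (31062, 31325), (31063, 31383), (31064, 30771), (31065, 30603), (31066, 31385), (31067, 30606), (31068, 31387), (31069, 30608), (31070, 30838), (31071, 30613), (31072, 31389), (31073, 30616), (31074, 31391), (31075, 30618), (31076, 31393), (31077, 31394), (31078, 30621), (31079, 30622), (31080, 31396), (31081, 31369), (31082, 30626), (31083, 31398), (31084, 30628),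 (31085, 31399), (31086, 30745), (31087, 30630), (31088, 31402), (31089, 31403), (31090, 30634), (31091, 31405), (31092, 30636), (31093, 31407), (31094, 30638), (31095, 30642), (31096, 30644), (31097, 31370), (31098, 30647), (31099, 31412), (31100, 30649), (31101, 31413), (31102, 30652), (31103, 30653)]
    ⟨e3 q31040 L831751 q30575, e3 q31041 L831771 q30970, e3 q31042 L835617 q31367, e3 q31043 (flp_c L831801) q30577, e3 q31044 (flp_c L831818) q30578, e3 q31045 (flp_c L831836) q30580, e3 q31046 (flp_c L831854) q30582, e3 q31047 (flp_c L831872) q30584, e3 q31048 (flp_c L835709) q31372, e3 q31049 L831903 q30586, e3 q31050 (flp_c L835742) q31374, e3 q31051 L831937 q30600, e3 q31052 L835756 q31375, e3 q31053 L831969 q30830, e3 q31054 (flp_c L831979) q30591, e3 q31055 (flp_c L835809) q31378, e3 q31056 L832012 q30834, e3 q31057 L835821 q31379, e3 q31058 L832046 q30923, e3 q31059 (flp_c L832056) q30596, e3 q31060 (flp_c L835874) q31382, e3 q31061 L832089 q30880, e3 q31062 (flp_c L834979) q31325, e3 q31063 L835886 q31383, e3 q31064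 L832135 q30771, e3 q31065 (flp_c L832147) q30603, e3 q31066 (flp_c L835921) q31385, e3 q31067 (flp_c L832176) q30606, e3 q31068 (flp_c L835948) q31387, e3 q31069 L832205 q30608, e3 q31070 L832221 q30838, e3 q31071 (flp_c L832229) q30613, e3 q31072 (flp_c L835975) q31389, e3 q31073 L832252 q30616, e3 q31074 (flp_c L835998) q31391, e3 q31075 (flp_c L832270) q30618, e3 q31076 (flp_c L836025) q31393, e3 q31077 (flp_c L836033) q31394, e3 q31078 L832309 q30621, e3 q31079 L832316 q30622, e3 q31080 (flp_c L836064) q31396, e3 q31081 (flp_c L835671) q31369, e3 q31082 L832355 q30626, e3 q31083 (flp_c L836091) q31398, e3 q31084 L832380 q30628, e3 q31085 L836103 q31399, e3 q31086 L832412 q30745, e3 q31087 (flp_c L832424) q30630, e3 q31088 (flp_c L836150) q31402, e3 q31089 (flp_c L836165) q31403, e3 q31090 (flp_c L832463) q30634, e3 q31091 (flp_c L836190) q31405, e3 q31092 L832488 q30636, e3 q31093 (flp_c L836215) q31407, e3 q31094 (flp_c L832508) q30638, e3 q31095 (flp_c L832520) q30642, e3 q31096 (flp_c L832538) q30644, e3 q31097 (flp_c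 L835690) q31370, e3 q31098 L832565 q30647, e3 q31099 (flp_c L836295) q31412, e3 q31100 L832592 q30649, e3 q31101 L836305 q31413, e3 q31102 (flp_c L832620) q30652, e3 q31103 (flp_c L832637) q30653, trivial⟩ (by decide +kernel)

theorem ce_c_486 : ∀ r, r < 64 → sm gc (Qf (31104 + r)) = Qf (tab Gen.c (31104 + r)) :=
  edges_tab (sm gc) Qf (tab Gen.c) 31104 [(31104, 31415), (31105, 31416), (31106, 30656), (31107, 30657), (31108, 31371), (31109, 30659), (31110, 31419), (31111, 30689), (31112, 30661), (31113, 31421), (31114, 30754), (31115, 30663), (31116, 31422), (31117, 30737), (31118, 30666), (31119, 30669), (31120, 30671), (31121, 30979), (31122, 31425), (31123, 30882), (31124, 30676), (31125, 30881), (31126, 31427), (31127, 30859), (31128, 30680), (31129, 31431), (31130, 31420), (31131, 30858), (31132, 30941), (31133, 30687), (31134, 31418), (31135, 30690), (31136, 31434), (31137, 30693), (31138, 31436), (31139, 30947), (31140, 30951), (31141, 31437), (31142, 30701), (31143, 30702), (31144, 30884), (31145, 31347), (31146,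 30724), (31147, 30709), (31148, 31440), (31149, 31336), (31150, 30712), (31151, 31443), (31152, 31444), (31153, 30716), (31154, 31446), (31155, 31447), (31156, 31329), (31157, 30719), (31158, 30720), (31159, 31450), (31160, 31451), (31161, 30878), (31162, 31432), (31163, 30727), (31164, 31453), (31165, 30729), (31166, 30731), (31167, 30733)]
    ⟨e3 q31104 (flp_c L836338) q31415, e3 q31105 (flp_c L836354) q31416, e3 q31106 L832682 q30656, e3 q31107 L832697 q30657, e3 q31108 (flp_c L835703) q31371, e3 q31109 L832722 q30659, e3 q31110 (flp_c L836393) q31419, e3 q31111 L832747 q30689, e3 q31112 L832754 q30661, e3 q31113 L836412 q31421, e3 q31114 L832782 q30754, e3 q31115 (flp_c L832794) q30663, e3 q31116 L836428 q31422, e3 q31117 L832833 q30737, e3 q31118 (flp_c L832847) q30666, e3 q31119 (flp_c L832864) q30669, e3 q31120 (flp_c L832878) q30671, e3 q31121 L832900 q30979, e3 q31122 L836476 q31425, e3 q31123 L832936 q30882, e3 q31124 (flp_c L832946) q30676, e3 q31125 L832965 q30881, e3 q31126 L836510 q31427, e3 q31127 L832997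 q30859, e3 q31128 (flp_c L833007) q30680, e3 q31129 (flp_c L836573) q31431, e3 q31130 (flp_c L836402) q31420, e3 q31131 L833048 q30858, e3 q31132 L833066 q30941, e3 q31133 (flp_c L833076) q30687, e3 q31134 (flp_c L836385) q31418, e3 q31135 (flp_c L833104) q30690, e3 q31136 (flp_c L836611) q31434, e3 q31137 L833129 q30693, e3 q31138 (flp_c L836638) q31436, e3 q31139 L833157 q30947, e3 q31140 L833175 q30951, e3 q31141 L836648 q31437, e3 q31142 (flp_c L833201) q30701, e3 q31143 (flp_c L833214) q30702, e3 q31144 L833228 q30884, e3 q31145 (flp_c L835324) q31347, e3 q31146 L833252 q30724, e3 q31147 (flp_c L833262) q30709, e3 q31148 (flp_c L836684) q31440, e3 q31149 (flp_c L835154) q31336, e3 q31150 L833287 q30712, e3 q31151 (flp_c L836717) q31443, e3 q31152 (flp_c L836730) q31444, e3 q31153 (flp_c L833317) q30716, e3 q31154 (flp_c L836753) q31446, e3 q31155 (flp_c L836763) q31447, e3 q31156 (flp_c L835049) q31329, e3 q31157 L833360 q30719, e3 q31158 L833369 q30720, e3 q31159 (flp_c L836800) q31450, e3 q31160 (flp_c L836813) q31451,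 e3 q31161 L833409 q30878, e3 q31162 (flp_c L836596) q31432, e3 q31163 L833432 q30727, e3 q31164 (flp_c L836836) q31453, e3 q31165 L833453 q30729, e3 q31166 (flp_c L833461) q30731, e3 q31167 (flp_c L833473) q30733, trivial⟩ (by decide +kernel)

theorem ce_c_487 : ∀ r, r < 64 → sm gc (Qf (31168 + r)) = Qf (tab Gen.c (31168 + r)) :=
  edges_tab (sm gc) Qf (tab Gen.c) 31168 [(31168, 30736), (31169, 31457), (31170, 30739), (31171, 31459), (31172, 31433), (31173, 30742), (31174, 31461), (31175, 30744), (31176, 30747), (31177, 30749), (31178, 30753), (31179, 31465), (31180, 31466), (31181, 30756), (31182, 30757), (31183, 31468), (31184, 31414), (31185, 30760), (31186, 30761), (31187, 31471), (31188, 31472), (31189, 30764), (31190, 30765), (31191, 30910), (31192, 30772), (31193, 30962), (31194, 30775), (31195, 30978), (31196, 31368), (31197, 30779), (31198, 31476), (31199, 30781), (31200, 30782), (31201, 31478), (31202, 31479), (31203, 30857), (31204, 30785), (31205, 30786), (31206, 30845), (31207, 30790), (31208, 30792), (31209,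 31346), (31210, 30798), (31211, 30869), (31212, 30801), (31213, 30804), (31214, 31485), (31215, 30806), (31216, 30902), (31217, 30808), (31218, 30810), (31219, 30812), (31220, 31489), (31221, 30814), (31222, 31475), (31223, 30816), (31224, 31491), (31225, 30818), (31226, 30909), (31227, 30919), (31228, 30823), (31229, 30879), (31230, 30829), (31231, 31494)]
    ⟨e3 q31168 (flp_c L833489) q30736, e3 q31169 (flp_c L836885) q31457, e3 q31170 L833508 q30739, e3 q31171 (flp_c L836908) q31459, e3 q31172 (flp_c L836605) q31433, e3 q31173 L833537 q30742, e3 q31174 (flp_c L836931) q31461, e3 q31175 L833556 q30744, e3 q31176 (flp_c L833562) q30747, e3 q31177 (flp_c L833574) q30749, e3 q31178 (flp_c L833586) q30753, e3 q31179 (flp_c L836972) q31465, e3 q31180 (flp_c L836980) q31466, e3 q31181 L833611 q30756, e3 q31182 L833618 q30757, e3 q31183 (flp_c L837001) q31468, e3 q31184 (flp_c L836332) q31414, e3 q31185 L833645 q30760, e3 q31186 L833651 q30761, e3 q31187 (flp_c L837027) q31471, e3 q31188 (flp_c L837041) q31472, e3 q31189 L833682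 q30764, e3 q31190 L833695 q30765, e3 q31191 L833707 q30910, e3 q31192 (flp_c L833715) q30772, e3 q31193 L833734 q30962, e3 q31194 (flp_c L833736) q30775, e3 q31195 L833763 q30978, e3 q31196 (flp_c L835652) q31368, e3 q31197 (flp_c L833778) q30779, e3 q31198 (flp_c L837096) q31476, e3 q31199 L833809 q30781, e3 q31200 (flp_c L833819) q30782, e3 q31201 (flp_c L837121) q31478, e3 q31202 (flp_c L837135) q31479, e3 q31203 L833863 q30857, e3 q31204 L833874 q30785, e3 q31205 L833887 q30786, e3 q31206 L833900 q30845, e3 q31207 L833906 q30790, e3 q31208 (flp_c L833910) q30792, e3 q31209 (flp_c L835304) q31346, e3 q31210 (flp_c L833936) q30798, e3 q31211 L833961 q30869, e3 q31212 (flp_c L833963) q30801, e3 q31213 (flp_c L833975) q30804, e3 q31214 (flp_c L837216) q31485, e3 q31215 L834002 q30806, e3 q31216 L834015 q30902, e3 q31217 L834021 q30808, e3 q31218 (flp_c L834025) q30810, e3 q31219 (flp_c L834037) q30812, e3 q31220 (flp_c L837257) q31489, e3 q31221 L834058 q30814, e3 q31222 (flp_c L837090) q31475, e3 q31223 L834073 q30816, e3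 q31224 (flp_c L837276) q31491, e3 q31225 L834092 q30818, e3 q31226 L834104 q30909, e3 q31227 L834120 q30919, e3 q31228 (flp_c L834130) q30823, e3 q31229 L834144 q30879, e3 q31230 (flp_c L834152) q30829, e3 q31231 (flp_c L837304) q31494, trivial⟩ (by decide +kernel)

theorem ce_c_488 : ∀ r, r < 64 → sm gc (Qf (31232 + r)) = Qf (tab Gen.c (31232 + r)) :=
  edges_tab (sm gc) Qf (tab Gen.c) 31232 [(31232, 31495), (31233, 31377), (31234, 30832), (31235, 30833), (31236, 31477), (31237, 30836), (31238, 30837), (31239, 31341), (31240, 30842), (31241, 31499), (31242, 30844), (31243, 31480), (31244, 30862), (31245, 30847), (31246, 30864), (31247, 30850), (31248, 31481), (31249, 30853), (31250, 31430), (31251, 31502), (31252, 30865), (31253, 31482), (31254, 31454), (31255, 30959), (31256, 30871), (31257, 31483), (31258, 30874), (31259, 31508), (31260, 30876), (31261, 31381), (31262, 31426), (31263, 31409), (31264, 30887), (31265, 30890), (31266, 31511), (31267, 31512), (31268, 30893), (31269, 30894), (31270, 31362), (31271, 30896),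 (31272, 31484), (31273, 30899), (31274, 31515), (31275, 30901), (31276, 30975), (31277, 31486), (31278, 30905), (31279, 30906), (31280, 30977), (31281, 30932), (31282, 30934), (31283, 30914), (31284, 31519), (31285, 30916), (31286, 30917), (31287, 30945), (31288, 31410), (31289, 30922), (31290, 30925), (31291, 30927), (31292, 31516), (31293, 31397), (31294, 31388), (31295, 31509)]
    ⟨e3 q31232 (flp_c L837314) q31495, e3 q31233 (flp_c L835794) q31377, e3 q31234 L834195 q30832, e3 q31235 L834204 q30833, e3 q31236 (flp_c L837115) q31477, e3 q31237 L834219 q30836, e3 q31238 L834229 q30837, e3 q31239 (flp_c L835235) q31341, e3 q31240 L834248 q30842, e3 q31241 (flp_c L837353) q31499, e3 q31242 L834271 q30844, e3 q31243 (flp_c L837148) q31480, e3 q31244 L834296 q30862, e3 q31245 L834304 q30847, e3 q31246 L834311 q30864, e3 q31247 (flp_c L834319) q30850, e3 q31248 (flp_c L837167) q31481, e3 q31249 L834342 q30853, e3 q31250 (flp_c L836558) q31430, e3 q31251 (flp_c L837385) q31502, e3 q31252 (flp_c L834376) q30865, e3 q31253 (flp_c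 L837184) q31482, e3 q31254 (flp_c L836855) q31454, e3 q31255 L834405 q30959, e3 q31256 (flp_c L834411) q30871, e3 q31257 (flp_c L837197) q31483, e3 q31258 L834432 q30874, e3 q31259 (flp_c L837458) q31508, e3 q31260 L834451 q30876, e3 q31261 (flp_c L835859) q31381, e3 q31262 (flp_c L836498) q31426, e3 q31263 (flp_c L836255) q31409, e3 q31264 (flp_c L834484) q30887, e3 q31265 (flp_c L834492) q30890, e3 q31266 (flp_c L837484) q31511, e3 q31267 (flp_c L837492) q31512, e3 q31268 L834517 q30893, e3 q31269 L834524 q30894, e3 q31270 (flp_c L835552) q31362, e3 q31271 L834537 q30896, e3 q31272 (flp_c L837210) q31484, e3 q31273 L834550 q30899, e3 q31274 (flp_c L837512) q31515, e3 q31275 L834565 q30901, e3 q31276 L834576 q30975, e3 q31277 (flp_c L837229) q31486, e3 q31278 L834593 q30905, e3 q31279 L834605 q30906, e3 q31280 L834622 q30977, e3 q31281 L834629 q30932, e3 q31282 L834636 q30934, e3 q31283 L834642 q30914, e3 q31284 (flp_c L837551) q31519, e3 q31285 L834659 q30916, e3 q31286 (flp_c L834663) q30917, e3 q31287 L834682 q30945,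 e3 q31288 (flp_c L836274) q31410, e3 q31289 (flp_c L834691) q30922, e3 q31290 (flp_c L834701) q30925, e3 q31291 (flp_c L834711) q30927, e3 q31292 (flp_c L837523) q31516, e3 q31293 (flp_c L836081) q31397, e3 q31294 (flp_c L835969) q31388, e3 q31295 (flp_c L837471) q31509, trivial⟩ (by decide +kernel)

theorem ce_c_489 : ∀ r, r < 64 → sm gc (Qf (31296 + r)) = Qf (tab Gen.c (31296 + r)) :=
  edges_tab (sm gc) Qf (tab Gen.c) 31296 [(31296, 31518), (31297, 30936), (31298, 30938), (31299, 31520), (31300, 31487), (31301, 30976), (31302, 31392), (31303, 30946), (31304, 31463), (31305, 30950), (31306, 31455), (31307, 30956), (31308, 31386), (31309, 31474), (31310, 31423), (31311, 31473), (31312, 30965), (31313, 31504), (31314, 31411), (31315, 30967), (31316, 31529), (31317, 30969), (31318, 30971), (31319, 31352), (31320, 31408), (31321, 31438), (31322, 30981), (31323, 31532), (31324, 30983), (31325, 31062), (31326, 31003), (31327, 30988), (31328, 31534), (31329, 31156), (31330, 30991), (31331, 31537), (31332, 31538), (31333, 30995),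 (31334, 31540), (31335, 31541), (31336, 31149), (31337, 30998), (31338, 30999), (31339, 31544), (31340, 31545), (31341, 31239), (31342, 31005), (31343, 31547), (31344, 31007), (31345, 31008), (31346, 31209), (31347, 31145), (31348, 31017), (31349, 31550), (31350, 31020), (31351, 31552), (31352, 31319), (31353, 31023), (31354, 31554), (31355, 31025), (31356, 31028), (31357, 31556), (31358, 31557), (31359, 31031)]
    ⟨e3 q31296 (flp_c L837543) q31518, e3 q31297 L834752 q30936, e3 q31298 (flp_c L834754) q30938, e3 q31299 (flp_c L837564) q31520, e3 q31300 (flp_c L837244) q31487, e3 q31301 L834783 q30976, e3 q31302 (flp_c L836019) q31392, e3 q31303 (flp_c L834790) q30946, e3 q31304 (flp_c L836959) q31463, e3 q31305 (flp_c L834803) q30950, e3 q31306 (flp_c L836872) q31455, e3 q31307 L834827 q30956, e3 q31308 (flp_c L835942) q31386, e3 q31309 (flp_c L837075) q31474, e3 q31310 (flp_c L836459) q31423, e3 q31311 (flp_c L837058) q31473, e3 q31312 L834862 q30965, e3 q31313 (flp_c L837409) q31504, e3 q31314 (flp_c L836281) q31411, e3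 q31315 L834880 q30967, e3 q31316 (flp_c L837634) q31529, e3 q31317 L834895 q30969, e3 q31318 (flp_c L834899) q30971, e3 q31319 (flp_c L835410) q31352, e3 q31320 (flp_c L836236) q31408, e3 q31321 (flp_c L836671) q31438, e3 q31322 (flp_c L834922) q30981, e3 q31323 (flp_c L837666) q31532, e3 q31324 L834959 q30983, e3 q31325 L834979 q31062, e3 q31326 L834999 q31003, e3 q31327 (flp_c L835013) q30988, e3 q31328 (flp_c L837701) q31534, e3 q31329 L835049 q31156, e3 q31330 L835064 q30991, e3 q31331 (flp_c L837750) q31537, e3 q31332 (flp_c L837767) q31538, e3 q31333 (flp_c L835106) q30995, e3 q31334 (flp_c L837800) q31540, e3 q31335 (flp_c L837814) q31541, e3 q31336 L835154 q31149, e3 q31337 L835169 q30998, e3 q31338 L835182 q30999, e3 q31339 (flp_c L837863) q31544, e3 q31340 (flp_c L837880) q31545, e3 q31341 L835235 q31239, e3 q31342 L835241 q31005, e3 q31343 (flp_c L837911) q31547, e3 q31344 L835268 q31007, e3 q31345 (flp_c L835280) q31008, e3 q31346 L835304 q31209, e3 q31347 L835324 q31145, e3 q31348 (flp_c L835338) q31017, e3 q31349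 (flp_c L837963) q31550, e3 q31350 L835373 q31020, e3 q31351 (flp_c L837996) q31552, e3 q31352 L835410 q31319, e3 q31353 L835416 q31023, e3 q31354 (flp_c L838029) q31554, e3 q31355 L835443 q31025, e3 q31356 (flp_c L835453) q31028, e3 q31357 (flp_c L838058) q31556, e3 q31358 (flp_c L838074) q31557, e3 q31359 L835500 q31031, trivial⟩ (by decide +kernel)

theorem ce_c_490 : ∀ r, r < 64 → sm gc (Qf (31360 + r)) = Qf (tab Gen.c (31360 + r)) :=
  edges_tab (sm gc) Qf (tab Gen.c) 31360 [(31360, 31032), (31361, 31559), (31362, 31270), (31363, 31035), (31364, 31036), (31365, 31562), (31366, 31039), (31367, 31042), (31368, 31196), (31369, 31081), (31370, 31097), (31371, 31108), (31372, 31048), (31373, 31565), (31374, 31050), (31375, 31052), (31376, 31567), (31377, 31233), (31378, 31055), (31379, 31057), (31380, 31569), (31381, 31261), (31382, 31060), (31383, 31063), (31384, 31571), (31385, 31066), (31386, 31308), (31387, 31068), (31388, 31294), (31389, 31072), (31390, 31574), (31391, 31074), (31392, 31302), (31393, 31076), (31394, 31077),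 (31395, 31577), (31396, 31080), (31397, 31293), (31398, 31083), (31399, 31085), (31400, 31580), (31401, 31581), (31402, 31088), (31403, 31089), (31404, 31531), (31405, 31091), (31406, 31583), (31407, 31093), (31408, 31320), (31409, 31263), (31410, 31288), (31411, 31314), (31412, 31099), (31413, 31101), (31414, 31184), (31415, 31104), (31416, 31105), (31417, 31564), (31418, 31134), (31419, 31110), (31420, 31130), (31421, 31113), (31422, 31116), (31423, 31310)]
    ⟨e3 q31360 L835515 q31032, e3 q31361 (flp_c L838105) q31559, e3 q31362 L835552 q31270, e3 q31363 L835558 q31035, e3 q31364 L835574 q31036, e3 q31365 (flp_c L838157) q31562, e3 q31366 L835605 q31039, e3 q31367 (flp_c L835617) q31042, e3 q31368 L835652 q31196, e3 q31369 L835671 q31081, e3 q31370 L835690 q31097, e3 q31371 L835703 q31108, e3 q31372 L835709 q31048, e3 q31373 (flp_c L838209) q31565, e3 q31374 L835742 q31050, e3 q31375 (flp_c L835756) q31052, e3 q31376 (flp_c L838244) q31567, e3 q31377 L835794 q31233, e3 q31378 L835809 q31055, e3 q31379 (flp_c L835821)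 q31057, e3 q31380 (flp_c L838277) q31569, e3 q31381 L835859 q31261, e3 q31382 L835874 q31060, e3 q31383 (flp_c L835886) q31063, e3 q31384 (flp_c L838310) q31571, e3 q31385 L835921 q31066, e3 q31386 L835942 q31308, e3 q31387 L835948 q31068, e3 q31388 L835969 q31294, e3 q31389 L835975 q31072, e3 q31390 (flp_c L838352) q31574, e3 q31391 L835998 q31074, e3 q31392 L836019 q31302, e3 q31393 L836025 q31076, e3 q31394 L836033 q31077, e3 q31395 (flp_c L838394) q31577, e3 q31396 L836064 q31080, e3 q31397 L836081 q31293, e3 q31398 L836091 q31083, e3 q31399 (flp_c L836103) q31085, e3 q31400 (flp_c L838442) q31580, e3 q31401 (flp_c L838458) q31581, e3 q31402 L836150 q31088, e3 q31403 L836165 q31089, e3 q31404 (flp_c L837660) q31531, e3 q31405 L836190 q31091, e3 q31406 (flp_c L838483) q31583, e3 q31407 L836215 q31093, e3 q31408 L836236 q31320, e3 q31409 L836255 q31263, e3 q31410 L836274 q31288, e3 q31411 L836281 q31314, e3 q31412 L836295 q31099, e3 q31413 (flp_c L836305) q31101, e3 q31414 L836332 q31184, e3 q31415 L836338 q31104, e3 q31416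 L836354 q31105, e3 q31417 (flp_c L838193) q31564, e3 q31418 L836385 q31134, e3 q31419 L836393 q31110, e3 q31420 L836402 q31130, e3 q31421 (flp_c L836412) q31113, e3 q31422 (flp_c L836428) q31116, e3 q31423 L836459 q31310, trivial⟩ (by decide +kernel)

theorem ce_c_491 : ∀ r, r < 64 → sm gc (Qf (31424 + r)) = Qf (tab Gen.c (31424 + r)) :=
  edges_tab (sm gc) Qf (tab Gen.c) 31424 [(31424, 31563), (31425, 31122), (31426, 31262), (31427, 31126), (31428, 31595), (31429, 31590), (31430, 31250), (31431, 31129), (31432, 31162), (31433, 31172), (31434, 31136), (31435, 31597), (31436, 31138), (31437, 31141), (31438, 31321), (31439, 31593), (31440, 31148), (31441, 31600), (31442, 31601), (31443, 31151), (31444, 31152), (31445, 31594), (31446, 31154), (31447, 31155), (31448, 31604), (31449, 31605), (31450, 31159), (31451, 31160), (31452, 31588), (31453, 31164), (31454, 31254), (31455, 31306), (31456, 31570), (31457, 31169), (31458, 31608), (31459, 31171), (31460, 31596), (31461, 31174), (31462, 31585), (31463, 31304), (31464, 31579),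 (31465, 31179), (31466, 31180), (31467, 31612), (31468, 31183), (31469, 31586), (31470, 31587), (31471, 31187), (31472, 31188), (31473, 31311), (31474, 31309), (31475, 31222), (31476, 31198), (31477, 31236), (31478, 31201), (31479, 31202), (31480, 31243), (31481, 31248), (31482, 31253), (31483, 31257), (31484, 31272), (31485, 31214), (31486, 31277), (31487, 31300)]
    ⟨e3 q31424 (flp_c L838186) q31563, e3 q31425 (flp_c L836476) q31122, e3 q31426 L836498 q31262, e3 q31427 (flp_c L836510) q31126, e3 q31428 (flp_c L838671) q31595, e3 q31429 (flp_c L838589) q31590, e3 q31430 L836558 q31250, e3 q31431 L836573 q31129, e3 q31432 L836596 q31162, e3 q31433 L836605 q31172, e3 q31434 L836611 q31136, e3 q31435 (flp_c L838700) q31597, e3 q31436 L836638 q31138, e3 q31437 (flp_c L836648) q31141, e3 q31438 L836671 q31321, e3 q31439 (flp_c L838650) q31593, e3 q31440 L836684 q31148, e3 q31441 (flp_c L838734) q31600, e3 q31442 (flp_c L838748) q31601, e3 q31443 L836717 q31151, e3 q31444 L836730 q31152, e3 q31445 (flp_c L838665) q31594, e3 q31446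 L836753 q31154, e3 q31447 L836763 q31155, e3 q31448 (flp_c L838780) q31604, e3 q31449 (flp_c L838794) q31605, e3 q31450 L836800 q31159, e3 q31451 L836813 q31160, e3 q31452 (flp_c L838572) q31588, e3 q31453 L836836 q31164, e3 q31454 L836855 q31254, e3 q31455 L836872 q31306, e3 q31456 (flp_c L838304) q31570, e3 q31457 L836885 q31169, e3 q31458 (flp_c L838828) q31608, e3 q31459 L836908 q31171, e3 q31460 (flp_c L838686) q31596, e3 q31461 L836931 q31174, e3 q31462 (flp_c L838525) q31585, e3 q31463 L836959 q31304, e3 q31464 (flp_c L838436) q31579, e3 q31465 L836972 q31179, e3 q31466 L836980 q31180, e3 q31467 (flp_c L838865) q31612, e3 q31468 L837001 q31183, e3 q31469 (flp_c L838532) q31586, e3 q31470 (flp_c L838549) q31587, e3 q31471 L837027 q31187, e3 q31472 L837041 q31188, e3 q31473 L837058 q31311, e3 q31474 L837075 q31309, e3 q31475 L837090 q31222, e3 q31476 L837096 q31198, e3 q31477 L837115 q31236, e3 q31478 L837121 q31201, e3 q31479 L837135 q31202, e3 q31480 L837148 q31243, e3 q31481 L837167 q31248, e3 q31482 L837184 q31253,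 e3 q31483 L837197 q31257, e3 q31484 L837210 q31272, e3 q31485 L837216 q31214, e3 q31486 L837229 q31277, e3 q31487 L837244 q31300, trivial⟩ (by decide +kernel)

theorem ce_c_492 : ∀ r, r < 64 → sm gc (Qf (31488 + r)) = Qf (tab Gen.c (31488 + r)) :=
  edges_tab (sm gc) Qf (tab Gen.c) 31488 [(31488, 31584), (31489, 31220), (31490, 31615), (31491, 31224), (31492, 31548), (31493, 31539), (31494, 31231), (31495, 31232), (31496, 31616), (31497, 31617), (31498, 31546), (31499, 31241), (31500, 31561), (31501, 31575), (31502, 31251), (31503, 31576), (31504, 31313), (31505, 31578), (31506, 31598), (31507, 31613), (31508, 31259), (31509, 31295), (31510, 31555), (31511, 31266), (31512, 31267), (31513, 31560), (31514, 31618), (31515, 31274), (31516, 31292), (31517, 31573), (31518, 31296), (31519, 31284), (31520, 31299), (31521, 31533), (31522, 31572), (31523, 31566), (31524, 31629), (31525, 31568), (31526, 31591), (31527, 31592), (31528, 31553), (31529, 31316), (31530, 31549), (31531, 31404), (31532, 31323), (31533, 31521), (31534, 31328),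 (31535, 31633), (31536, 31634), (31537, 31331), (31538, 31332), (31539, 31493), (31540, 31334), (31541, 31335), (31542, 31637), (31543, 31638), (31544, 31339), (31545, 31340), (31546, 31498), (31547, 31343), (31548, 31492), (31549, 31530), (31550, 31349), (31551, 31641)]
    ⟨e3 q31488 (flp_c L838498) q31584, e3 q31489 L837257 q31220, e3 q31490 (flp_c L838904) q31615, e3 q31491 L837276 q31224, e3 q31492 (flp_c L837940) q31548, e3 q31493 (flp_c L837794) q31539, e3 q31494 L837304 q31231, e3 q31495 L837314 q31232, e3 q31496 (flp_c L838919) q31616, e3 q31497 (flp_c L838934) q31617, e3 q31498 (flp_c L837899) q31546, e3 q31499 L837353 q31241, e3 q31500 (flp_c L838141) q31561, e3 q31501 (flp_c L838369) q31575, e3 q31502 L837385 q31251, e3 q31503 (flp_c L838378) q31576, e3 q31504 L837409 q31313, e3 q31505 (flp_c L838411) q31578, e3 q31506 (flp_c L838723) q31598, e3 q31507 (flp_c L838880) q31613, e3 q31508 L837458 q31259, e3 q31509 L837471 q31295, e3 q31510 (flp_c L838052) q31555, e3 q31511 L837484 q31266, e3 q31512 L837492 q31267,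 e3 q31513 (flp_c L838124) q31560, e3 q31514 (flp_c L838947) q31618, e3 q31515 L837512 q31274, e3 q31516 L837523 q31292, e3 q31517 (flp_c L838344) q31573, e3 q31518 L837543 q31296, e3 q31519 L837551 q31284, e3 q31520 L837564 q31299, e3 q31521 (flp_c L837695) q31533, e3 q31522 (flp_c L838327) q31572, e3 q31523 (flp_c L838238) q31566, e3 q31524 (flp_c L839052) q31629, e3 q31525 (flp_c L838271) q31568, e3 q31526 (flp_c L838614) q31591, e3 q31527 (flp_c L838633) q31592, e3 q31528 (flp_c L838015) q31553, e3 q31529 L837634 q31316, e3 q31530 (flp_c L837957) q31549, e3 q31531 L837660 q31404, e3 q31532 L837666 q31323, e3 q31533 L837695 q31521, e3 q31534 L837701 q31328, e3 q31535 (flp_c L839101) q31633, e3 q31536 (flp_c L839119) q31634, e3 q31537 L837750 q31331, e3 q31538 L837767 q31332, e3 q31539 L837794 q31493, e3 q31540 L837800 q31334, e3 q31541 L837814 q31335, e3 q31542 (flp_c L839167) q31637, e3 q31543 (flp_c L839185) q31638, e3 q31544 L837863 q31339, e3 q31545 L837880 q31340, e3 q31546 L837899 q31498, e3 q31547 L837911 q31343,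 e3 q31548 L837940 q31492, e3 q31549 L837957 q31530, e3 q31550 L837963 q31349, e3 q31551 (flp_c L839237) q31641, trivial⟩ (by decide +kernel)

theorem ce_c_493 : ∀ r, r < 64 → sm gc (Qf (31552 + r)) = Qf (tab Gen.c (31552 + r)) :=
  edges_tab (sm gc) Qf (tab Gen.c) 31552 [(31552, 31351), (31553, 31528), (31554, 31354), (31555, 31510), (31556, 31357), (31557, 31358), (31558, 31645), (31559, 31361), (31560, 31513), (31561, 31500), (31562, 31365), (31563, 31424), (31564, 31417), (31565, 31373), (31566, 31523), (31567, 31376), (31568, 31525), (31569, 31380), (31570, 31456), (31571, 31384), (31572, 31522), (31573, 31517), (31574, 31390), (31575, 31501), (31576, 31503), (31577, 31395), (31578, 31505), (31579, 31464), (31580, 31400), (31581, 31401), (31582, 31631), (31583, 31406), (31584, 31488), (31585, 31462), (31586, 31469), (31587, 31470), (31588, 31452), (31589, 31647), (31590, 31429), (31591, 31526), (31592, 31527), (31593, 31439), (31594, 31445), (31595, 31428), (31596, 31460), (31597, 31435), (31598, 31506), (31599, 31655),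 (31600, 31441), (31601, 31442), (31602, 31657), (31603, 31656), (31604, 31448), (31605, 31449), (31606, 31652), (31607, 31650), (31608, 31458), (31609, 31658), (31610, 31653), (31611, 31654), (31612, 31467), (31613, 31507), (31614, 31651), (31615, 31490)]
    ⟨e3 q31552 L837996 q31351, e3 q31553 L838015 q31528, e3 q31554 L838029 q31354, e3 q31555 L838052 q31510, e3 q31556 L838058 q31357, e3 q31557 L838074 q31358, e3 q31558 (flp_c L839302) q31645, e3 q31559 L838105 q31361, e3 q31560 L838124 q31513, e3 q31561 L838141 q31500, e3 q31562 L838157 q31365, e3 q31563 L838186 q31424, e3 q31564 L838193 q31417, e3 q31565 L838209 q31373, e3 q31566 L838238 q31523, e3 q31567 L838244 q31376, e3 q31568 L838271 q31525, e3 q31569 L838277 q31380, e3 q31570 L838304 q31456, e3 q31571 L838310 q31384, e3 q31572 L838327 q31522, e3 q31573 L838344 q31517, e3 q31574 L838352 q31390, e3 q31575 L838369 q31501, e3 q31576 L838378 q31503, e3 q31577 L838394 q31395, e3 q31578 L838411 q31505, e3 q31579 L838436 q31464, e3 q31580 L838442 q31400, e3 q31581 L838458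 q31401, e3 q31582 (flp_c L839068) q31631, e3 q31583 L838483 q31406, e3 q31584 L838498 q31488, e3 q31585 L838525 q31462, e3 q31586 L838532 q31469, e3 q31587 L838549 q31470, e3 q31588 L838572 q31452, e3 q31589 (flp_c L839338) q31647, e3 q31590 L838589 q31429, e3 q31591 L838614 q31526, e3 q31592 L838633 q31527, e3 q31593 L838650 q31439, e3 q31594 L838665 q31445, e3 q31595 L838671 q31428, e3 q31596 L838686 q31460, e3 q31597 L838700 q31435, e3 q31598 L838723 q31506, e3 q31599 (flp_c L839474) q31655, e3 q31600 L838734 q31441, e3 q31601 L838748 q31442, e3 q31602 (flp_c L839504) q31657, e3 q31603 (flp_c L839489) q31656, e3 q31604 L838780 q31448, e3 q31605 L838794 q31449, e3 q31606 (flp_c L839425) q31652, e3 q31607 (flp_c L839391) q31650, e3 q31608 L838828 q31458, e3 q31609 (flp_c L839519) q31658, e3 q31610 (flp_c L839442) q31653, e3 q31611 (flp_c L839459) q31654, e3 q31612 L838865 q31467, e3 q31613 L838880 q31507, e3 q31614 (flp_c L839408) q31651, e3 q31615 L838904 q31490, trivial⟩ (by decide +kernel)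

theorem ce_c_494 : ∀ r, r < 55 → sm gc (Qf (31616 + r)) = Qf (tab Gen.c (31616 + r)) :=
  edges_tab (sm gc) Qf (tab Gen.c) 31616 [(31616, 31496), (31617, 31497), (31618, 31514), (31619, 31642), (31620, 31649), (31621, 31635), (31622, 31636), (31623, 31639), (31624, 31646), (31625, 31648), (31626, 31643), (31627, 31644), (31628, 31632), (31629, 31524), (31630, 31640), (31631, 31582), (31632, 31628), (31633, 31535), (31634, 31536), (31635, 31621), (31636, 31622), (31637, 31542), (31638, 31543), (31639, 31623), (31640, 31630), (31641, 31551), (31642, 31619), (31643, 31626), (31644, 31627), (31645, 31558), (31646, 31624), (31647, 31589), (31648, 31625), (31649, 31620), (31650, 31607), (31651, 31614), (31652, 31606), (31653, 31610), (31654, 31611), (31655, 31599), (31656, 31603), (31657, 31602), (31658, 31609), (31659, 31666), (31660, 31665), (31661, 31668), (31662, 31667), (31663, 31670), (31664, 31669), (31665, 31660), (31666, 31659), (31667, 31662), (31668, 31661), (31669, 31664), (31670, 31663)]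
    ⟨e3 q31616 L838919 q31496, e3 q31617 L838934 q31497, e3 q31618 L838947 q31514, e3 q31619 (flp_c L839256) q31642, e3 q31620 (flp_c L839374) q31649, e3 q31621 (flp_c L839138) q31635, e3 q31622 (flp_c L839153) q31636, e3 q31623 (flp_c L839204) q31639, e3 q31624 (flp_c L839321) q31646, e3 q31625 (flp_c L839357) q31648, e3 q31626 (flp_c L839271) q31643, e3 q31627 (flp_c L839288) q31644, e3 q31628 (flp_c L839087) q31632, e3 q31629 L839052 q31524, e3 q31630 (flp_c L839221) q31640, e3 q31631 L839068 q31582, e3 q31632 L839087 q31628, e3 q31633 L839101 q31535, e3 q31634 L839119 q31536, e3 q31635 L839138 q31621, e3 q31636 L839153 q31622, e3 q31637 L839167 q31542, e3 q31638 L839185 q31543, e3 q31639 L839204 q31623, e3 q31640 L839221 q31630, e3 q31641 L839237 q31551, e3 q31642 L839256 q31619, e3 q31643 L839271 q31626, e3 q31644 L839288 q31627, e3 q31645 L839302 q31558, e3 q31646 L839321 q31624, e3 q31647 L839338 q31589, e3 q31648 L839357 q31625, e3 q31649 L839374 q31620, e3 q31650 L839391 q31607, e3 q31651 L839408 q31614, e3 q31652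 L839425 q31606, e3 q31653 L839442 q31610, e3 q31654 L839459 q31611, e3 q31655 L839474 q31599, e3 q31656 L839489 q31603, e3 q31657 L839504 q31602, e3 q31658 L839519 q31609, e3 q31659 (flp_c L839631) q31666, e3 q31660 (flp_c L839612) q31665, e3 q31661 (flp_c L839669) q31668, e3 q31662 (flp_c L839650) q31667, e3 q31663 (flp_c L839707) q31670, e3 q31664 (flp_c L839688) q31669, e3 q31665 L839612 q31660, e3 q31666 L839631 q31659, e3 q31667 L839650 q31662, e3 q31668 L839669 q31661, e3 q31669 L839688 q31664, e3 q31670 L839707 q31663, trivial⟩ (by decide +kernel)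

theorem cl_c : ∀ i, i < 31671 → sm gc (Qf i) = Qf (tab Gen.c i) :=
  all_of_chunks (fun i => sm gc (Qf i) = Qf (tab Gen.c i)) 494 55
    ⟨ce_c_0, ce_c_1, ce_c_2, ce_c_3, ce_c_4, ce_c_5, ce_c_6, ce_c_7, ce_c_8, ce_c_9, ce_c_10, ce_c_11, ce_c_12, ce_c_13, ce_c_14, ce_c_15, ce_c_16, ce_c_17, ce_c_18, ce_c_19, ce_c_20, ce_c_21, ce_c_22, ce_c_23, ce_c_24, ce_c_25, ce_c_26, ce_c_27, ce_c_28, ce_c_29, ce_c_30, ce_c_31, ce_c_32, ce_c_33, ce_c_34, ce_c_35, ce_c_36, ce_c_37, ce_c_38, ce_c_39, ce_c_40, ce_c_41, ce_c_42, ce_c_43, ce_c_44, ce_c_45, ce_c_46, ce_c_47, ce_c_48, ce_c_49, ce_c_50, ce_c_51, ce_c_52, ce_c_53, ce_c_54, ce_c_55, ce_c_56, ce_c_57, ce_c_58, ce_c_59, ce_c_60, ce_c_61, ce_c_62, ce_c_63, ce_c_64, ce_c_65, ce_c_66, ce_c_67, ce_c_68, ce_c_69, ce_c_70, ce_c_71, ce_c_72, ce_c_73, ce_c_74, ce_c_75, ce_c_76, ce_c_77, ce_c_78, ce_c_79, ce_c_80, ce_c_81, ce_c_82, ce_c_83, ce_c_84, ce_c_85, ce_c_86, ce_c_87, ce_c_88, ce_c_89, ce_c_90, ce_c_91, ce_c_92, ce_c_93, ce_c_94, ce_c_95, ce_c_96, ce_c_97, ce_c_98, ce_c_99, ce_c_100,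 ce_c_101, ce_c_102, ce_c_103, ce_c_104, ce_c_105, ce_c_106, ce_c_107, ce_c_108, ce_c_109, ce_c_110, ce_c_111, ce_c_112, ce_c_113, ce_c_114, ce_c_115, ce_c_116, ce_c_117, ce_c_118, ce_c_119, ce_c_120, ce_c_121, ce_c_122, ce_c_123, ce_c_124, ce_c_125, ce_c_126, ce_c_127, ce_c_128, ce_c_129, ce_c_130, ce_c_131, ce_c_132, ce_c_133, ce_c_134, ce_c_135, ce_c_136, ce_c_137, ce_c_138, ce_c_139, ce_c_140, ce_c_141, ce_c_142, ce_c_143, ce_c_144, ce_c_145, ce_c_146, ce_c_147, ce_c_148, ce_c_149, ce_c_150, ce_c_151, ce_c_152, ce_c_153, ce_c_154, ce_c_155, ce_c_156, ce_c_157, ce_c_158, ce_c_159, ce_c_160, ce_c_161, ce_c_162, ce_c_163, ce_c_164, ce_c_165, ce_c_166, ce_c_167, ce_c_168, ce_c_169, ce_c_170, ce_c_171, ce_c_172, ce_c_173, ce_c_174, ce_c_175, ce_c_176, ce_c_177, ce_c_178, ce_c_179, ce_c_180, ce_c_181, ce_c_182, ce_c_183, ce_c_184, ce_c_185, ce_c_186, ce_c_187, ce_c_188, ce_c_189, ce_c_190, ce_c_191, ce_c_192, ce_c_193, ce_c_194, ce_c_195, ce_c_196, ce_c_197, ce_c_198, ce_c_199, ce_c_200, ce_c_201, ce_c_202, ce_c_203, ce_c_204,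 ce_c_205, ce_c_206, ce_c_207, ce_c_208, ce_c_209, ce_c_210, ce_c_211, ce_c_212, ce_c_213, ce_c_214, ce_c_215, ce_c_216, ce_c_217, ce_c_218, ce_c_219, ce_c_220, ce_c_221, ce_c_222, ce_c_223, ce_c_224, ce_c_225, ce_c_226, ce_c_227, ce_c_228, ce_c_229, ce_c_230, ce_c_231, ce_c_232, ce_c_233, ce_c_234, ce_c_235, ce_c_236, ce_c_237, ce_c_238, ce_c_239, ce_c_240, ce_c_241, ce_c_242, ce_c_243, ce_c_244, ce_c_245, ce_c_246, ce_c_247, ce_c_248, ce_c_249, ce_c_250, ce_c_251, ce_c_252, ce_c_253, ce_c_254, ce_c_255, ce_c_256, ce_c_257, ce_c_258, ce_c_259, ce_c_260, ce_c_261, ce_c_262, ce_c_263, ce_c_264, ce_c_265, ce_c_266, ce_c_267, ce_c_268, ce_c_269, ce_c_270, ce_c_271, ce_c_272, ce_c_273, ce_c_274, ce_c_275, ce_c_276, ce_c_277, ce_c_278, ce_c_279, ce_c_280, ce_c_281, ce_c_282, ce_c_283, ce_c_284, ce_c_285, ce_c_286, ce_c_287, ce_c_288, ce_c_289, ce_c_290, ce_c_291, ce_c_292, ce_c_293, ce_c_294, ce_c_295, ce_c_296, ce_c_297, ce_c_298, ce_c_299, ce_c_300, ce_c_301, ce_c_302, ce_c_303, ce_c_304, ce_c_305, ce_c_306, ce_c_307, ce_c_308,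 ce_c_309, ce_c_310, ce_c_311, ce_c_312, ce_c_313, ce_c_314, ce_c_315, ce_c_316, ce_c_317, ce_c_318, ce_c_319, ce_c_320, ce_c_321, ce_c_322, ce_c_323, ce_c_324, ce_c_325, ce_c_326, ce_c_327, ce_c_328, ce_c_329, ce_c_330, ce_c_331, ce_c_332, ce_c_333, ce_c_334, ce_c_335, ce_c_336, ce_c_337, ce_c_338, ce_c_339, ce_c_340, ce_c_341, ce_c_342, ce_c_343, ce_c_344, ce_c_345, ce_c_346, ce_c_347, ce_c_348, ce_c_349, ce_c_350, ce_c_351, ce_c_352, ce_c_353, ce_c_354, ce_c_355, ce_c_356, ce_c_357, ce_c_358, ce_c_359, ce_c_360, ce_c_361, ce_c_362, ce_c_363, ce_c_364, ce_c_365, ce_c_366, ce_c_367, ce_c_368, ce_c_369, ce_c_370, ce_c_371, ce_c_372, ce_c_373, ce_c_374, ce_c_375, ce_c_376, ce_c_377, ce_c_378, ce_c_379, ce_c_380, ce_c_381, ce_c_382, ce_c_383, ce_c_384, ce_c_385, ce_c_386, ce_c_387, ce_c_388, ce_c_389, ce_c_390, ce_c_391, ce_c_392, ce_c_393, ce_c_394, ce_c_395, ce_c_396, ce_c_397, ce_c_398, ce_c_399, ce_c_400, ce_c_401, ce_c_402, ce_c_403, ce_c_404, ce_c_405, ce_c_406, ce_c_407, ce_c_408, ce_c_409, ce_c_410, ce_c_411, ce_c_412,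 ce_c_413, ce_c_414, ce_c_415, ce_c_416, ce_c_417, ce_c_418, ce_c_419, ce_c_420, ce_c_421, ce_c_422, ce_c_423, ce_c_424, ce_c_425, ce_c_426, ce_c_427, ce_c_428, ce_c_429, ce_c_430, ce_c_431, ce_c_432, ce_c_433, ce_c_434, ce_c_435, ce_c_436, ce_c_437, ce_c_438, ce_c_439, ce_c_440, ce_c_441, ce_c_442, ce_c_443, ce_c_444, ce_c_445, ce_c_446, ce_c_447, ce_c_448, ce_c_449, ce_c_450, ce_c_451, ce_c_452, ce_c_453, ce_c_454, ce_c_455, ce_c_456, ce_c_457, ce_c_458, ce_c_459, ce_c_460, ce_c_461, ce_c_462, ce_c_463, ce_c_464, ce_c_465, ce_c_466, ce_c_467, ce_c_468, ce_c_469, ce_c_470, ce_c_471, ce_c_472, ce_c_473, ce_c_474, ce_c_475, ce_c_476, ce_c_477, ce_c_478, ce_c_479, ce_c_480, ce_c_481, ce_c_482, ce_c_483, ce_c_484, ce_c_485, ce_c_486, ce_c_487, ce_c_488, ce_c_489, ce_c_490, ce_c_491, ce_c_492, ce_c_493, trivial⟩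
    ce_c_494


end Cfsg.Agent.Helper28.FicA
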