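import Cfsg.Agent.Helper28.FicC0

/-!
# The Fi₂₃ presentation, cosets of the subgroup generated by a, …, i: the action of the generator d (helper28; generated)
-/

set_option autoImplicit false
set_option maxRecDepth 100000
set_option linter.unusedSimpArgs false
set_option linter.constructorNameAsVariable false

noncomputable section

namespace Cfsg.Agent.Helper28.FicA

open Cfsg.Spor Cfsg.Spor.Fi23 Cfsg.Agent.Helper28.CosetTable

theorem ce_d_0 : ∀ r, r < 64 → sm gd (Qf (0 + r)) = Qf (tab Gen.d (0 + r)) :=
  edges_tab (sm gd) Qf (tab Gen.d) 0 [(0, 0), (1, 1), (2, 2), (3, 3), (4, 5), (5, 4), (6, 6), (7, 7), (8, 8), (9, 13), (10, 10), (11, 11), (12, 16), (13, 9), (14, 19), (15, 20), (16, 12), (17, 24), (18, 18), (19, 14), (20, 15), (21, 30), (22, 22), (23, 23), (24, 17), (25, 25), (26, 26), (27, 27), (28, 28), (29, 29), (30, 21), (31, 45), (32, 32), (33, 33), (34, 34), (35, 35), (36, 36), (37, 37), (38, 55), (39, 39), (40, 58), (41, 41), (42, 42), (43, 43), (44, 44), (45, 31), (46, 65), (47, 67), (48, 71), (49, 49), (50, 50),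 (51, 75), (52, 52), (53, 53), (54, 78), (55, 38), (56, 80), (57, 57), (58, 40), (59, 84), (60, 86), (61, 90), (62, 62), (63, 63)]
    ⟨e3 q0 L3 q0, e3 q1 L14 q1, e3 q2 L24 q2, e3 q3 L34 q3, e3 q4 L49 q5, e3 q5 (flp_d L49) q4, e3 q6 L66 q6, e3 q7 L75 q7, e3 q8 L78 q8, e3 q9 L123 q13, e3 q10 L98 q10, e3 q11 L107 q11, e3 q12 L151 q16, e3 q13 (flp_d L123) q9, e3 q14 (flp_d L181) q19, e3 q15 L186 q20, e3 q16 (flp_d L151) q12, e3 q17 (flp_d L226) q24, e3 q18 L176 q18, e3 q19 L181 q14, e3 q20 (flp_d L186) q15, e3 q21 (flp_d L280) q30, e3 q22 L213 q22, e3 q23 L221 q23, e3 q24 L226 q17, e3 q25 L235 q25, e3 q26 L243 q26, e3 q27 L255 q27, e3 q28 L265 q28, e3 q29 L274 q29, e3 q30 L280 q21, e3 q31 L411 q45, e3 q32 L298 q32, e3 q33 L306 q33, e3 q34 L314 q34, e3 q35 L326 q35, e3 q36 L332 q36, e3 q37 L340 q37, e3 q38 L497 q55, e3 q39 L356 q39, e3 q40 L524 q58, e3 q41 L378 q41, e3 q42 L387 q42, e3 q43 L396 q43, e3 q44 L409 q44, e3 q45 (flp_d L411) q31, e3 q46 (flp_d L594) q65, e3 q47 (flp_d L609) q67, e3 q48 L641 q71, e3 q49 L448 q49, e3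 q50 L456 q50, e3 q51 L677 q75, e3 q52 L474 q52, e3 q53 L483 q53, e3 q54 L705 q78, e3 q55 (flp_d L497) q38, e3 q56 L722 q80, e3 q57 L520 q57, e3 q58 (flp_d L524) q40, e3 q59 (flp_d L764) q84, e3 q60 (flp_d L781) q86, e3 q61 L816 q90, e3 q62 L566 q62, e3 q63 L575 q63, trivial⟩ (by decide +kernel)

theorem ce_d_1 : ∀ r, r < 64 → sm gd (Qf (64 + r)) = Qf (tab Gen.d (64 + r)) :=
  edges_tab (sm gd) Qf (tab Gen.d) 64 [(64, 94), (65, 46), (66, 66), (67, 47), (68, 96), (69, 98), (70, 104), (71, 48), (72, 72), (73, 73), (74, 108), (75, 51), (76, 76), (77, 111), (78, 54), (79, 79), (80, 56), (81, 116), (82, 118), (83, 122), (84, 59), (85, 85), (86, 60), (87, 124), (88, 126), (89, 132), (90, 61), (91, 91), (92, 92), (93, 136), (94, 64), (95, 95), (96, 68), (97, 97), (98, 69), (99, 99), (100, 147), (101, 141), (102, 143), (103, 150), (104, 70), (105, 152), (106, 106), (107, 155), (108, 74), (109, 151), (110, 159), (111, 77), (112, 112), (113, 113), (114, 114), (115, 115), (116, 81), (117, 117), (118, 82), (119, 169), (120, 171), (121,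 177), (122, 83), (123, 123), (124, 87), (125, 125), (126, 88), (127, 127)]
    ⟨e3 q64 L856 q94, e3 q65 L594 q46, e3 q66 L604 q66, e3 q67 L609 q47, e3 q68 (flp_d L877) q96, e3 q69 (flp_d L892) q98, e3 q70 L940 q104, e3 q71 (flp_d L641) q48, e3 q72 L654 q72, e3 q73 L663 q73, e3 q74 L973 q108, e3 q75 (flp_d L677) q51, e3 q76 L690 q76, e3 q77 L999 q111, e3 q78 (flp_d L705) q54, e3 q79 L721 q79, e3 q80 (flp_d L722) q56, e3 q81 (flp_d L1045) q116, e3 q82 (flp_d L1062) q118, e3 q83 L1097 q122, e3 q84 L764 q59, e3 q85 L775 q85, e3 q86 L781 q60, e3 q87 (flp_d L1120) q124, e3 q88 (flp_d L1137) q126, e3 q89 L1190 q132, e3 q90 (flp_d L816) q61, e3 q91 L831 q91, e3 q92 L841 q92, e3 q93 L1227 q136, e3 q94 (flp_d L856) q64, e3 q95 L871 q95, e3 q96 L877 q68, e3 q97 L887 q97, e3 q98 L892 q69, e3 q99 L901 q99, e3 q100 L1319 q147, e3 q101 (flp_d L1274) q141, e3 q102 (flp_d L1290) q143, e3 q103 L1346 q150, e3 q104 (flp_d L940) q70, e3 q105 (flp_d L1366) q152, e3 q106 L958 q106, e3 q107 L1386 q155, e3 q108 (flp_d L973) q74, e3 q109 (flp_d L1358)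 q151, e3 q110 L1420 q159, e3 q111 (flp_d L999) q77, e3 q112 L1015 q112, e3 q113 L1022 q113, e3 q114 L1026 q114, e3 q115 L1039 q115, e3 q116 L1045 q81, e3 q117 L1056 q117, e3 q118 L1062 q82, e3 q119 (flp_d L1512) q169, e3 q120 (flp_d L1529) q171, e3 q121 L1582 q177, e3 q122 (flp_d L1097) q83, e3 q123 L1113 q123, e3 q124 L1120 q87, e3 q125 L1131 q125, e3 q126 L1137 q88, e3 q127 L1147 q127, trivial⟩ (by decide +kernel)

theorem ce_d_2 : ∀ r, r < 64 → sm gd (Qf (128 + r)) = Qf (tab Gen.d (128 + r)) :=
  edges_tab (sm gd) Qf (tab Gen.d) 128 [(128, 189), (129, 183), (130, 185), (131, 192), (132, 89), (133, 194), (134, 134), (135, 197), (136, 93), (137, 193), (138, 138), (139, 205), (140, 140), (141, 101), (142, 142), (143, 102), (144, 144), (145, 213), (146, 214), (147, 100), (148, 209), (149, 218), (150, 103), (151, 109), (152, 105), (153, 223), (154, 225), (155, 107), (156, 219), (157, 157), (158, 221), (159, 110), (160, 160), (161, 161), (162, 162), (163, 238), (164, 164), (165, 165), (166, 243), (167, 167), (168, 168), (169,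 119), (170, 170), (171, 120), (172, 172), (173, 255), (174, 249), (175, 251), (176, 258), (177, 121), (178, 178), (179, 260), (180, 180), (181, 267), (182, 182), (183, 129), (184, 184), (185, 130), (186, 186), (187, 275), (188, 276), (189, 128), (190, 271), (191, 280)]
    ⟨e3 q128 L1691 q189, e3 q129 (flp_d L1641) q183, e3 q130 (flp_d L1659) q185, e3 q131 L1721 q192, e3 q132 (flp_d L1190) q89, e3 q133 (flp_d L1745) q194, e3 q134 L1211 q134, e3 q135 L1767 q197, e3 q136 (flp_d L1227) q93, e3 q137 (flp_d L1736) q193, e3 q138 L1250 q138, e3 q139 L1836 q205, e3 q140 L1265 q140, e3 q141 L1274 q101, e3 q142 L1285 q142, e3 q143 L1290 q102, e3 q144 L1299 q144, e3 q145 L1902 q213, e3 q146 L1910 q214, e3 q147 (flp_d L1319) q100, e3 q148 (flp_d L1872) q209, e3 q149 L1944 q218, e3 q150 (flp_d L1346) q103, e3 q151 L1358 q109, e3 q152 L1366 q105, e3 q153 (flp_d L1984) q223, e3 q154 L1996 q225, e3 q155 (flp_d L1386) q107, e3 q156 (flp_d L1957) q219, e3 q157 L1409 q157, e3 q158 (flp_d L1967) q221, e3 q159 (flp_d L1420) q110, e3 q160 L1437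 q160, e3 q161 L1445 q161, e3 q162 L1448 q162, e3 q163 L2109 q238, e3 q164 L1465 q164, e3 q165 L1478 q165, e3 q166 L2152 q243, e3 q167 L1495 q167, e3 q168 L1505 q168, e3 q169 L1512 q119, e3 q170 L1523 q170, e3 q171 L1529 q120, e3 q172 L1539 q172, e3 q173 L2260 q255, e3 q174 (flp_d L2210) q249, e3 q175 (flp_d L2228) q251, e3 q176 L2291 q258, e3 q177 (flp_d L1582) q121, e3 q178 L1599 q178, e3 q179 (flp_d L2315) q260, e3 q180 L1614 q180, e3 q181 L2372 q267, e3 q182 L1631 q182, e3 q183 L1641 q129, e3 q184 L1653 q184, e3 q185 L1659 q130, e3 q186 L1669 q186, e3 q187 L2446 q275, e3 q188 L2455 q276, e3 q189 (flp_d L1691) q128, e3 q190 (flp_d L2413) q271, e3 q191 L2494 q280, trivial⟩ (by decide +kernel)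

theorem ce_d_3 : ∀ r, r < 64 → sm gd (Qf (192 + r)) = Qf (tab Gen.d (192 + r)) :=
  edges_tab (sm gd) Qf (tab Gen.d) 192 [(192, 131), (193, 137), (194, 133), (195, 285), (196, 287), (197, 135), (198, 281), (199, 199), (200, 283), (201, 201), (202, 202), (203, 298), (204, 204), (205, 139), (206, 302), (207, 304), (208, 208), (209, 148), (210, 210), (211, 308), (212, 309), (213, 145), (214, 146), (215, 215), (216, 216), (217, 317), (218, 149), (219, 156), (220, 220), (221, 158), (222, 222), (223, 153), (224, 326), (225, 154), (226, 318), (227, 227), (228, 320), (229, 335), (230, 323), (231, 231), (232, 232), (233, 233), (234, 341), (235, 235), (236, 236), (237, 344), (238, 163), (239, 346), (240, 240), (241, 353), (242, 242), (243, 166), (244, 357), (245, 359), (246, 246), (247, 364), (248, 248), (249, 174), (250, 250), (251, 175), (252, 252), (253, 372), (254, 373), (255, 173)]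
    ⟨e3 q192 (flp_d L1721) q131, e3 q193 L1736 q137, e3 q194 L1745 q133, e3 q195 (flp_d L2540) q285, e3 q196 L2553 q287, e3 q197 (flp_d L1767) q135, e3 q198 (flp_d L2510) q281, e3 q199 L1794 q199, e3 q200 (flp_d L2521) q283, e3 q201 L1808 q201, e3 q202 L1815 q202, e3 q203 L2655 q298, e3 q204 L1831 q204, e3 q205 (flp_d L1836) q139, e3 q206 (flp_d L2688) q302, e3 q207 L2703 q304, e3 q208 L1867 q208, e3 q209 L1872 q148, e3 q210 L1882 q210, e3 q211 L2735 q308, e3 q212 L2743 q309, e3 q213 (flp_d L1902) q145, e3 q214 (flp_d L1910) q146, e3 q215 L1924 q215, e3 q216 L1932 q216, e3 q217 L2806 q317, e3 q218 (flp_d L1944) q149, e3 q219 L1957 q156, e3 q220 L1964 q220, e3 q221 L1967 q158, e3 q222 L1980 q222, e3 q223 L1984 q153, e3 q224 (flp_d L2879) q326, e3 q225 (flp_d L1996) q154, e3 q226 (flp_d L2820) q318, e3 q227 L2021 q227, e3 q228 (flp_d L2831) q320, e3 q229 L2955 q335, e3 q230 (flp_d L2855) q323, e3 q231 L2057 q231, e3 q232 L2066 q232, e3 q233 L2069 q233, e3 q234 L3006 q341, e3 q235 L2087 q235, e3 q236 L2094 q236, e3 q237 L3032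 q344, e3 q238 (flp_d L2109) q163, e3 q239 L3048 q346, e3 q240 L2131 q240, e3 q241 L3114 q353, e3 q242 L2148 q242, e3 q243 (flp_d L2152) q166, e3 q244 (flp_d L3157) q357, e3 q245 L3172 q359, e3 q246 L2183 q246, e3 q247 L3215 q364, e3 q248 L2200 q248, e3 q249 L2210 q174, e3 q250 L2222 q250, e3 q251 L2228 q175, e3 q252 L2238 q252, e3 q253 L3291 q372, e3 q254 L3301 q373, e3 q255 (flp_d L2260) q173, trivial⟩ (by decide +kernel)

theorem ce_d_4 : ∀ r, r < 64 → sm gd (Qf (256 + r)) = Qf (tab Gen.d (256 + r)) :=
  edges_tab (sm gd) Qf (tab Gen.d) 256 [(256, 368), (257, 377), (258, 176), (259, 259), (260, 179), (261, 383), (262, 382), (263, 263), (264, 264), (265, 391), (266, 266), (267, 181), (268, 395), (269, 397), (270, 270), (271, 190), (272, 272), (273, 401), (274, 402), (275, 187), (276, 188), (277, 277), (278, 278), (279, 410), (280, 191), (281, 198), (282, 282), (283, 200), (284, 284), (285, 195), (286, 419), (287, 196), (288, 411), (289, 289), (290, 413), (291, 428), (292, 416), (293, 293), (294, 432), (295, 295), (296, 435),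 (297, 297), (298, 203), (299, 439), (300, 441), (301, 301), (302, 206), (303, 445), (304, 207), (305, 305), (306, 449), (307, 450), (308, 211), (309, 212), (310, 310), (311, 447), (312, 312), (313, 313), (314, 314), (315, 463), (316, 316), (317, 217), (318, 226), (319, 319)]
    ⟨e3 q256 (flp_d L3258) q368, e3 q257 L3340 q377, e3 q258 (flp_d L2291) q176, e3 q259 L2306 q259, e3 q260 L2315 q179, e3 q261 L3390 q383, e3 q262 (flp_d L3386) q382, e3 q263 L2341 q263, e3 q264 L2349 q264, e3 q265 L3466 q391, e3 q266 L2367 q266, e3 q267 (flp_d L2372) q181, e3 q268 (flp_d L3506) q395, e3 q269 L3522 q397, e3 q270 L2407 q270, e3 q271 L2413 q190, e3 q272 L2424 q272, e3 q273 L3558 q401, e3 q274 L3567 q402, e3 q275 (flp_d L2446) q187, e3 q276 (flp_d L2455) q188, e3 q277 L2472 q277, e3 q278 L2481 q278, e3 q279 L3639 q410, e3 q280 (flp_d L2494) q191, e3 q281 L2510 q198, e3 q282 L2518 q282, e3 q283 L2521 q200, e3 q284 L2535 q284, e3 q285 L2540 q195, e3 q286 (flp_d L3721) q419, e3 q287 (flp_d L2553) q196, e3 q288 (flp_d L3656) q411, e3 q289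 L2582 q289, e3 q290 (flp_d L3668) q413, e3 q291 L3803 q428, e3 q292 (flp_d L3693) q416, e3 q293 L2615 q293, e3 q294 L3838 q432, e3 q295 L2631 q295, e3 q296 L3861 q435, e3 q297 L2649 q297, e3 q298 (flp_d L2655) q203, e3 q299 (flp_d L3897) q439, e3 q300 L3912 q441, e3 q301 L2684 q301, e3 q302 L2688 q206, e3 q303 L3942 q445, e3 q304 (flp_d L2703) q207, e3 q305 L2713 q305, e3 q306 L3972 q449, e3 q307 L3981 q450, e3 q308 (flp_d L2735) q211, e3 q309 (flp_d L2743) q212, e3 q310 L2759 q310, e3 q311 (flp_d L3960) q447, e3 q312 L2773 q312, e3 q313 L2782 q313, e3 q314 L2785 q314, e3 q315 L4088 q463, e3 q316 L2802 q316, e3 q317 (flp_d L2806) q217, e3 q318 L2820 q226, e3 q319 L2828 q319, trivial⟩ (by decide +kernel)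

theorem ce_d_5 : ∀ r, r < 64 → sm gd (Qf (320 + r)) = Qf (tab Gen.d (320 + r)) :=
  edges_tab (sm gd) Qf (tab Gen.d) 320 [(320, 228), (321, 473), (322, 322), (323, 230), (324, 324), (325, 325), (326, 224), (327, 479), (328, 466), (329, 329), (330, 468), (331, 485), (332, 332), (333, 471), (334, 488), (335, 229), (336, 336), (337, 492), (338, 338), (339, 339), (340, 496), (341, 234), (342, 498), (343, 500), (344, 237), (345, 345), (346, 239), (347, 501), (348, 348), (349, 502), (350, 350), (351, 511), (352, 352), (353, 241), (354, 514), (355, 516), (356, 356), (357, 244), (358, 519), (359, 245), (360, 360), (361, 361), (362, 527), (363, 363), (364, 247), (365, 530), (366, 532), (367, 367), (368, 256), (369, 369), (370, 536), (371, 537), (372, 253), (373, 254), (374, 520), (375, 375), (376, 545), (377, 257), (378, 378), (379, 379), (380, 380), (381, 553), (382, 262), (383, 261)]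
    ⟨e3 q320 L2831 q228, e3 q321 L4164 q473, e3 q322 L2847 q322, e3 q323 L2855 q230, e3 q324 L2868 q324, e3 q325 L2873 q325, e3 q326 L2879 q224, e3 q327 (flp_d L4213) q479, e3 q328 (flp_d L4116) q466, e3 q329 L2909 q329, e3 q330 (flp_d L4128) q468, e3 q331 L4266 q485, e3 q332 L2931 q332, e3 q333 (flp_d L4151) q471, e3 q334 L4290 q488, e3 q335 (flp_d L2955) q229, e3 q336 L2963 q336, e3 q337 L4322 q492, e3 q338 L2983 q338, e3 q339 L2991 q339, e3 q340 L4359 q496, e3 q341 (flp_d L3006) q234, e3 q342 (flp_d L4379) q498, e3 q343 L4391 q500, e3 q344 (flp_d L3032) q237, e3 q345 L3047 q345, e3 q346 (flp_d L3048) q239, e3 q347 (flp_d L4429) q501, e3 q348 L3075 q348, e3 q349 (flp_d L4438) q502, e3 q350 L3092 q350, e3 q351 L4523 q511, e3 q352 L3110 q352, e3 q353 (flp_d L3114) q241, e3 q354 (flp_d L4556) q514, e3 q355 L4573 q516, e3 q356 L3150 q356, e3 q357 L3157 q244, e3 q358 L4600 q519, e3 q359 (flp_d L3172) q245, e3 q360 L3184 q360, e3 q361 L3192 q361, e3 q362 L4673 q527, e3 q363 L3210 q363, e3 q364 (flp_d L3215) q247, e3 q365 (flp_d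 L4707) q530, e3 q366 L4723 q532, e3 q367 L3252 q367, e3 q368 L3258 q256, e3 q369 L3269 q369, e3 q370 L4760 q536, e3 q371 L4770 q537, e3 q372 (flp_d L3291) q253, e3 q373 (flp_d L3301) q254, e3 q374 (flp_d L4614) q520, e3 q375 L3327 q375, e3 q376 L4842 q545, e3 q377 (flp_d L3340) q257, e3 q378 L3356 q378, e3 q379 L3364 q379, e3 q380 L3367 q380, e3 q381 L4913 q553, e3 q382 L3386 q262, e3 q383 (flp_d L3390) q261, trivial⟩ (by decide +kernel)

theorem ce_d_6 : ∀ r, r < 64 → sm gd (Qf (384 + r)) = Qf (tab Gen.d (384 + r)) :=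
  edges_tab (sm gd) Qf (tab Gen.d) 384 [(384, 556), (385, 555), (386, 386), (387, 563), (388, 388), (389, 566), (390, 390), (391, 265), (392, 570), (393, 572), (394, 394), (395, 268), (396, 575), (397, 269), (398, 398), (399, 579), (400, 580), (401, 273), (402, 274), (403, 403), (404, 577), (405, 405), (406, 406), (407, 407), (408, 593), (409, 409), (410, 279), (411, 288), (412, 412), (413, 290), (414, 603), (415, 415), (416, 292), (417, 417), (418, 418), (419, 286), (420, 609), (421, 596), (422, 422), (423, 598), (424, 615), (425, 425), (426, 601), (427, 618), (428, 291), (429, 429), (430, 622), (431, 431), (432, 294), (433, 627), (434, 629), (435, 296), (436, 631), (437, 633), (438, 438), (439, 299), (440, 637), (441, 300), (442, 442), (443, 443), (444, 640), (445, 303), (446, 446), (447, 311)]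
    ⟨e3 q384 (flp_d L4942) q556, e3 q385 (flp_d L4934) q555, e3 q386 L3422 q386, e3 q387 L5004 q563, e3 q388 L3440 q388, e3 q389 L5030 q566, e3 q390 L3460 q390, e3 q391 (flp_d L3466) q265, e3 q392 (flp_d L5073) q570, e3 q393 L5089 q572, e3 q394 L3501 q394, e3 q395 L3506 q268, e3 q396 L5115 q575, e3 q397 (flp_d L3522) q269, e3 q398 L3534 q398, e3 q399 L5150 q579, e3 q400 L5160 q580, e3 q401 (flp_d L3558) q273, e3 q402 (flp_d L3567) q274, e3 q403 L3586 q403, e3 q404 (flp_d L5137) q577, e3 q405 L3603 q405, e3 q406 L3613 q406, e3 q407 L3616 q407, e3 q408 L5278 q593, e3 q409 L3635 q409, e3 q410 (flp_d L3639) q279, e3 q411 L3656 q288, e3 q412 L3665 q412, e3 q413 L3668 q290, e3 q414 L5364 q603, e3 q415 L3686 q415, e3 q416 L3693 q292, e3 q417 L3707 q417, e3 q418 L3714 q418, e3 q419 L3721 q286, e3 q420 (flp_d L5421) q609, e3 q421 (flp_d L5313) q596, e3 q422 L3755 q422, e3 q423 (flp_d L5326) q598, e3 q424 L5476 q615, e3 q425 L3779 q425, e3 q426 (flp_d L5350) q601, e3 q427 L5505 q618, e3 q428 (flp_d L3803) q291, e3 q429 L3815 q429,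 e3 q430 L5539 q622, e3 q431 L3832 q431, e3 q432 (flp_d L3838) q294, e3 q433 (flp_d L5582) q627, e3 q434 L5597 q629, e3 q435 (flp_d L3861) q296, e3 q436 (flp_d L5615) q631, e3 q437 L5632 q633, e3 q438 L3893 q438, e3 q439 L3897 q299, e3 q440 L5663 q637, e3 q441 (flp_d L3912) q300, e3 q442 L3920 q442, e3 q443 L3931 q443, e3 q444 L5702 q640, e3 q445 (flp_d L3942) q303, e3 q446 L3954 q446, e3 q447 L3960 q311, trivial⟩ (by decide +kernel)

theorem ce_d_7 : ∀ r, r < 64 → sm gd (Qf (448 + r)) = Qf (tab Gen.d (448 + r)) :=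
  edges_tab (sm gd) Qf (tab Gen.d) 448 [(448, 646), (449, 306), (450, 307), (451, 451), (452, 639), (453, 453), (454, 642), (455, 455), (456, 659), (457, 645), (458, 458), (459, 664), (460, 460), (461, 461), (462, 668), (463, 315), (464, 670), (465, 465), (466, 328), (467, 467), (468, 330), (469, 678), (470, 470), (471, 333), (472, 682), (473, 321), (474, 684), (475, 475), (476, 476), (477, 477), (478, 478), (479, 327), (480, 673), (481, 693), (482, 482), (483, 676), (484, 697), (485, 331), (486, 699), (487, 701), (488, 334), (489, 489), (490, 490), (491, 703), (492, 337), (493, 705), (494, 494), (495, 708), (496, 340), (497, 710), (498, 342), (499, 499), (500, 343), (501, 347), (502, 349), (503, 713), (504, 714), (505, 505), (506, 715), (507, 507), (508, 725), (509, 726), (510, 510), (511, 351)]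
    ⟨e3 q448 L5746 q646, e3 q449 (flp_d L3972) q306, e3 q450 (flp_d L3981) q307, e3 q451 L3997 q451, e3 q452 (flp_d L5682) q639, e3 q453 L4013 q453, e3 q454 (flp_d L5723) q642, e3 q455 L4023 q455, e3 q456 L5857 q659, e3 q457 (flp_d L5741) q645, e3 q458 L4047 q458, e3 q459 L5896 q664, e3 q460 L4066 q460, e3 q461 L4074 q461, e3 q462 L5929 q668, e3 q463 (flp_d L4088) q315, e3 q464 (flp_d L5948) q670, e3 q465 L4105 q465, e3 q466 L4116 q328, e3 q467 L4125 q467, e3 q468 L4128 q330, e3 q469 L6010 q678, e3 q470 L4145 q470, e3 q471 L4151 q333, e3 q472 L6039 q682, e3 q473 (flp_d L4164) q321, e3 q474 (flp_d L6059) q684, e3 q475 L4182 q475, e3 q476 L4194 q476, e3 q477 L4200 q477, e3 q478 L4207 q478, e3 q479 L4213 q327, e3 q480 (flp_d L5969) q673, e3 q481 L6130 q693, e3 q482 L4241 q482, e3 q483 (flp_d L5996) q676, e3 q484 L6166 q697, e3 q485 (flp_d L4266) q331, e3 q486 (flp_d L6186) q699, e3 q487 L6196 q701, e3 q488 (flp_d L4290) q334, e3 q489 L4302 q489, e3 q490 L4305 q490, e3 q491 L6235 q703, e3 q492 (flp_d L4322) q337, e3 q493 (flp_d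 L6257) q705, e3 q494 L4344 q494, e3 q495 L6281 q708, e3 q496 (flp_d L4359) q340, e3 q497 (flp_d L6310) q710, e3 q498 L4379 q342, e3 q499 L4390 q499, e3 q500 (flp_d L4391) q343, e3 q501 L4429 q347, e3 q502 L4438 q349, e3 q503 (flp_d L6386) q713, e3 q504 (flp_d L6395) q714, e3 q505 L4470 q505, e3 q506 (flp_d L6405) q715, e3 q507 L4487 q507, e3 q508 L6505 q725, e3 q509 L6511 q726, e3 q510 L4518 q510, e3 q511 (flp_d L4523) q351, trivial⟩ (by decide +kernel)

theorem ce_d_8 : ∀ r, r < 64 → sm gd (Qf (512 + r)) = Qf (tab Gen.d (512 + r)) :=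
  edges_tab (sm gd) Qf (tab Gen.d) 512 [(512, 729), (513, 731), (514, 354), (515, 733), (516, 355), (517, 517), (518, 737), (519, 358), (520, 374), (521, 521), (522, 522), (523, 746), (524, 524), (525, 749), (526, 526), (527, 362), (528, 752), (529, 754), (530, 365), (531, 756), (532, 366), (533, 533), (534, 760), (535, 761), (536, 370), (537, 371), (538, 734), (539, 758), (540, 738), (541, 541), (542, 740), (543, 774), (544, 544), (545, 376), (546, 546), (547, 547), (548, 548), (549, 784), (550, 550), (551, 551), (552, 788), (553, 381), (554, 790), (555, 385), (556, 384), (557, 557), (558, 795), (559, 793), (560, 560), (561, 801), (562, 562), (563, 387), (564, 806), (565, 808), (566, 389), (567, 810), (568, 812), (569, 569), (570, 392), (571, 815), (572, 393), (573, 573), (574, 818), (575, 396)]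
    ⟨e3 q512 (flp_d L6547) q729, e3 q513 L6564 q731, e3 q514 L4556 q354, e3 q515 L6582 q733, e3 q516 (flp_d L4573) q355, e3 q517 L4586 q517, e3 q518 L6617 q737, e3 q519 (flp_d L4600) q358, e3 q520 L4614 q374, e3 q521 L4623 q521, e3 q522 L4629 q522, e3 q523 L6697 q746, e3 q524 L4647 q524, e3 q525 L6725 q749, e3 q526 L4667 q526, e3 q527 (flp_d L4673) q362, e3 q528 (flp_d L6762) q752, e3 q529 L6778 q754, e3 q530 L4707 q365, e3 q531 L6796 q756, e3 q532 (flp_d L4723) q366, e3 q533 L4736 q533, e3 q534 L6831 q760, e3 q535 L6842 q761, e3 q536 (flp_d L4760) q370, e3 q537 (flp_d L4770) q371, e3 q538 (flp_d L6598) q734, e3 q539 (flp_d L6818) q758, e3 q540 (flp_d L6633) q738, e3 q541 L4815 q541, e3 q542 (flp_d L6646) q740, e3 q543 L6963 q774, e3 q544 L4838 q544, e3 q545 (flp_d L4842) q376, e3 q546 L4859 q546, e3 q547 L4868 q547, e3 q548 L4871 q548, e3 q549 L7048 q784, e3 q550 L4890 q550, e3 q551 L4899 q551, e3 q552 L7083 q788, e3 q553 (flp_d L4913) q381, e3 q554 (flp_d L7105) q790, e3 q555 L4934 q385, e3 q556 L4942 q384, e3 q557 L4953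 q557, e3 q558 (flp_d L7146) q795, e3 q559 (flp_d L7129) q793, e3 q560 L4979 q560, e3 q561 L7199 q801, e3 q562 L4998 q562, e3 q563 (flp_d L5004) q387, e3 q564 (flp_d L7250) q806, e3 q565 L7266 q808, e3 q566 (flp_d L5030) q389, e3 q567 (flp_d L7289) q810, e3 q568 L7307 q812, e3 q569 L5068 q569, e3 q570 L5073 q392, e3 q571 L7334 q815, e3 q572 (flp_d L5089) q393, e3 q573 L5103 q573, e3 q574 L7370 q818, e3 q575 (flp_d L5115) q396, trivial⟩ (by decide +kernel)

theorem ce_d_9 : ∀ r, r < 64 → sm gd (Qf (576 + r)) = Qf (tab Gen.d (576 + r)) :=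
  edges_tab (sm gd) Qf (tab Gen.d) 576 [(576, 576), (577, 404), (578, 824), (579, 399), (580, 400), (581, 581), (582, 817), (583, 583), (584, 820), (585, 585), (586, 837), (587, 823), (588, 588), (589, 842), (590, 590), (591, 591), (592, 846), (593, 408), (594, 848), (595, 595), (596, 421), (597, 597), (598, 423), (599, 856), (600, 600), (601, 426), (602, 860), (603, 414), (604, 862), (605, 605), (606, 606), (607, 607), (608, 608), (609, 420), (610, 851), (611, 871), (612, 612), (613, 854), (614, 875), (615, 424), (616, 877), (617, 879), (618, 427), (619, 619), (620, 883), (621, 621), (622, 430), (623, 888), (624, 890), (625, 625), (626, 626), (627, 433), (628, 896), (629, 434), (630, 630), (631, 436), (632, 902), (633, 437), (634, 634), (635, 635), (636, 905), (637, 440), (638, 638), (639, 452)]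
    ⟨e3 q576 L5130 q576, e3 q577 L5137 q404, e3 q578 L7420 q824, e3 q579 (flp_d L5150) q399, e3 q580 (flp_d L5160) q400, e3 q581 L5179 q581, e3 q582 (flp_d L7357) q817, e3 q583 L5198 q583, e3 q584 (flp_d L7395) q820, e3 q585 L5209 q585, e3 q586 L7542 q837, e3 q587 (flp_d L7415) q823, e3 q588 L5235 q588, e3 q589 L7586 q842, e3 q590 L5256 q590, e3 q591 L5263 q591, e3 q592 L7625 q846, e3 q593 (flp_d L5278) q408, e3 q594 (flp_d L7645) q848, e3 q595 L5300 q595, e3 q596 L5313 q421, e3 q597 L5323 q597, e3 q598 L5326 q423, e3 q599 L7712 q856, e3 q600 L5345 q600, e3 q601 L5350 q426, e3 q602 L7747 q860, e3 q603 (flp_d L5364) q414, e3 q604 (flp_d L7768) q862, e3 q605 L5387 q605, e3 q606 L5400 q606, e3 q607 L5405 q607, e3 q608 L5414 q608, e3 q609 L5421 q420, e3 q610 (flp_d L7669) q851, e3 q611 L7846 q871, e3 q612 L5451 q612, e3 q613 (flp_d L7697) q854, e3 q614 L7888 q875, e3 q615 (flp_d L5476) q424, e3 q616 (flp_d L7909) q877, e3 q617 L7921 q879, e3 q618 (flp_d L5505) q427, e3 q619 L5519 q619, e3 q620 L7953 q883, e3 q621 L5533 q621,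 e3 q622 (flp_d L5539) q430, e3 q623 (flp_d L7998) q888, e3 q624 L8015 q890, e3 q625 L5571 q625, e3 q626 L5577 q626, e3 q627 L5582 q433, e3 q628 L8062 q896, e3 q629 (flp_d L5597) q434, e3 q630 L5611 q630, e3 q631 L5615 q436, e3 q632 L8110 q902, e3 q633 (flp_d L5632) q437, e3 q634 L5641 q634, e3 q635 L5652 q635, e3 q636 L8152 q905, e3 q637 (flp_d L5663) q440, e3 q638 L5675 q638, e3 q639 L5682 q452, trivial⟩ (by decide +kernel)

theorem ce_d_10 : ∀ r, r < 64 → sm gd (Qf (640 + r)) = Qf (tab Gen.d (640 + r)) :=
  edges_tab (sm gd) Qf (tab Gen.d) 640 [(640, 444), (641, 641), (642, 454), (643, 643), (644, 915), (645, 457), (646, 448), (647, 647), (648, 904), (649, 649), (650, 907), (651, 651), (652, 928), (653, 910), (654, 654), (655, 933), (656, 913), (657, 657), (658, 937), (659, 456), (660, 939), (661, 917), (662, 662), (663, 944), (664, 459), (665, 946), (666, 666), (667, 950), (668, 462), (669, 953), (670, 464), (671, 956), (672, 672), (673, 480), (674, 960), (675, 675), (676, 483), (677, 964), (678, 469), (679, 966), (680,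 680), (681, 970), (682, 472), (683, 972), (684, 474), (685, 940), (686, 974), (687, 687), (688, 688), (689, 689), (690, 690), (691, 958), (692, 980), (693, 481), (694, 982), (695, 695), (696, 985), (697, 484), (698, 987), (699, 486), (700, 700), (701, 487), (702, 990), (703, 491)]
    ⟨e3 q640 (flp_d L5702) q444, e3 q641 L5716 q641, e3 q642 L5723 q454, e3 q643 L5727 q643, e3 q644 L8265 q915, e3 q645 L5741 q457, e3 q646 (flp_d L5746) q448, e3 q647 L5764 q647, e3 q648 (flp_d L8132) q904, e3 q649 L5781 q649, e3 q650 (flp_d L8174) q907, e3 q651 L5792 q651, e3 q652 L8375 q928, e3 q653 (flp_d L8193) q910, e3 q654 L5815 q654, e3 q655 L8414 q933, e3 q656 (flp_d L8245) q913, e3 q657 L5843 q657, e3 q658 L8446 q937, e3 q659 (flp_d L5857) q456, e3 q660 (flp_d L8464) q939, e3 q661 (flp_d L8281) q917, e3 q662 L5880 q662, e3 q663 L8499 q944, e3 q664 (flp_d L5896) q459, e3 q665 (flp_d L8520) q946, e3 q666 L5915 q666, e3 q667 L8550 q950, e3 q668 (flp_d L5929) q462, e3 q669 (flp_d L8578) q953, e3 q670 L5948 q464, e3 q671 (flp_d L8599) q956,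 e3 q672 L5962 q672, e3 q673 L5969 q480, e3 q674 L8630 q960, e3 q675 L5988 q675, e3 q676 L5996 q483, e3 q677 L8662 q964, e3 q678 (flp_d L6010) q469, e3 q679 (flp_d L8681) q966, e3 q680 L6027 q680, e3 q681 L8707 q970, e3 q682 (flp_d L6039) q472, e3 q683 (flp_d L8736) q972, e3 q684 L6059 q474, e3 q685 (flp_d L8471) q940, e3 q686 (flp_d L8759) q974, e3 q687 L6080 q687, e3 q688 L6090 q688, e3 q689 L6098 q689, e3 q690 L6105 q690, e3 q691 (flp_d L8614) q958, e3 q692 L8813 q980, e3 q693 (flp_d L6130) q481, e3 q694 (flp_d L8835) q982, e3 q695 L6150 q695, e3 q696 L8856 q985, e3 q697 (flp_d L6166) q484, e3 q698 (flp_d L8885) q987, e3 q699 L6186 q486, e3 q700 L6195 q700, e3 q701 (flp_d L6196) q487, e3 q702 L8947 q990, e3 q703 (flp_d L6235) q491, trivial⟩ (by decide +kernel)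

theorem ce_d_11 : ∀ r, r < 64 → sm gd (Qf (704 + r)) = Qf (tab Gen.d (704 + r)) :=
  edges_tab (sm gd) Qf (tab Gen.d) 704 [(704, 992), (705, 493), (706, 706), (707, 995), (708, 495), (709, 997), (710, 497), (711, 711), (712, 712), (713, 503), (714, 504), (715, 506), (716, 1005), (717, 1001), (718, 718), (719, 1002), (720, 720), (721, 1003), (722, 722), (723, 1014), (724, 1015), (725, 508), (726, 509), (727, 1018), (728, 1020), (729, 512), (730, 1022), (731, 513), (732, 1025), (733, 515), (734, 538), (735, 1017), (736, 1031), (737, 518), (738, 540), (739, 739), (740, 542), (741, 1039), (742, 742), (743, 743), (744, 1044), (745, 745), (746, 523), (747, 1048), (748, 1050), (749, 525), (750, 1051), (751, 1053), (752, 528), (753, 1055), (754, 529), (755, 1058), (756, 531), (757, 1016), (758, 539), (759, 1064), (760, 534), (761, 535), (762, 1023), (763, 1057), (764, 1026), (765, 1060), (766, 1028), (767, 1077)]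
    ⟨e3 q704 (flp_d L8979) q992, e3 q705 L6257 q493, e3 q706 L6270 q706, e3 q707 (flp_d L9015) q995, e3 q708 (flp_d L6281) q495, e3 q709 (flp_d L9052) q997, e3 q710 L6310 q497, e3 q711 L6328 q711, e3 q712 L6337 q712, e3 q713 L6386 q503, e3 q714 L6395 q504, e3 q715 L6405 q506, e3 q716 L9213 q1005, e3 q717 (flp_d L9178) q1001, e3 q718 L6438 q718, e3 q719 (flp_d L9188) q1002, e3 q720 L6460 q720, e3 q721 (flp_d L9198) q1003, e3 q722 L6478 q722, e3 q723 L9310 q1014, e3 q724 L9316 q1015, e3 q725 (flp_d L6505) q508, e3 q726 (flp_d L6511) q509, e3 q727 (flp_d L9344) q1018, e3 q728 L9363 q1020, e3 q729 L6547 q512, e3 q730 L9382 q1022, e3 q731 (flp_d L6564) q513, e3 q732 L9407 q1025, e3 q733 (flp_d L6582) q515, e3 q734 L6598 q538, e3 q735 (flp_d L9337) q1017, e3 q736 L9458 q1031, e3 q737 (flp_d L6617) q518, e3 q738 L6633 q540, e3 q739 L6643 q739, e3 q740 L6646 q542, e3 q741 L9528 q1039, e3 q742 L6664 q742, e3 q743 L6672 q743, e3 q744 L9571 q1044, e3 q745 L6691 q745, e3 q746 (flp_d L6697) q523, e3 q747 (flp_d L9618) q1048, e3 q748 L9634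 q1050, e3 q749 (flp_d L6725) q525, e3 q750 (flp_d L9649) q1051, e3 q751 L9667 q1053, e3 q752 L6762 q528, e3 q753 L9686 q1055, e3 q754 (flp_d L6778) q529, e3 q755 L9711 q1058, e3 q756 (flp_d L6796) q531, e3 q757 (flp_d L9330) q1016, e3 q758 L6818 q539, e3 q759 L9762 q1064, e3 q760 (flp_d L6831) q534, e3 q761 (flp_d L6842) q535, e3 q762 (flp_d L9398) q1023, e3 q763 (flp_d L9709) q1057, e3 q764 (flp_d L9425) q1026, e3 q765 (flp_d L9736) q1060, e3 q766 (flp_d L9436) q1028, e3 q767 L9887 q1077, trivial⟩ (by decide +kernel)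

theorem ce_d_12 : ∀ r, r < 64 → sm gd (Qf (768 + r)) = Qf (tab Gen.d (768 + r)) :=
  edges_tab (sm gd) Qf (tab Gen.d) 768 [(768, 1063), (769, 1034), (770, 1082), (771, 771), (772, 1037), (773, 1086), (774, 543), (775, 1088), (776, 776), (777, 777), (778, 778), (779, 779), (780, 1097), (781, 781), (782, 782), (783, 1101), (784, 549), (785, 1103), (786, 786), (787, 1107), (788, 552), (789, 1109), (790, 554), (791, 1089), (792, 1113), (793, 559), (794, 794), (795, 558), (796, 796), (797, 797), (798, 1119), (799, 1122), (800, 800), (801, 561), (802, 1127), (803, 1129), (804, 804), (805, 805), (806, 564), (807, 1134), (808, 565), (809, 809), (810, 567), (811, 1139), (812, 568), (813, 813), (814, 1142), (815, 571), (816, 816), (817, 582), (818, 574), (819, 819), (820, 584), (821, 821), (822, 1154), (823, 587), (824, 578), (825, 825), (826, 1141), (827, 827), (828, 1144), (829, 829), (830, 1167), (831, 1147)]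
    ⟨e3 q768 (flp_d L9757) q1063, e3 q769 (flp_d L9487) q1034, e3 q770 L9931 q1082, e3 q771 L6939 q771, e3 q772 (flp_d L9514) q1037, e3 q773 L9969 q1086, e3 q774 (flp_d L6963) q543, e3 q775 (flp_d L9988) q1088, e3 q776 L6982 q776, e3 q777 L6994 q777, e3 q778 L7004 q778, e3 q779 L7007 q779, e3 q780 L10065 q1097, e3 q781 L7027 q781, e3 q782 L7034 q782, e3 q783 L10099 q1101, e3 q784 (flp_d L7048) q549, e3 q785 (flp_d L10120) q1103, e3 q786 L7069 q786, e3 q787 L10148 q1107, e3 q788 (flp_d L7083) q552, e3 q789 (flp_d L10172) q1109, e3 q790 L7105 q554, e3 q791 (flp_d L9997) q1089, e3 q792 (flp_d L10205) q1113, e3 q793 L7129 q559, e3 q794 L7140 q794, e3 q795 L7146 q558, e3 q796 L7157 q796, e3 q797 L7162 q797, e3 q798 (flp_d L10254) q1119, e3 q799 L10276 q1122, e3 q800 L7193 q800, e3 q801 (flp_d L7199) q561, e3 q802 (flp_d L10329) q1127, e3 q803 L10347 q1129, e3 q804 L7237 q804, e3 q805 L7244 q805, e3 q806 L7250 q564, e3 q807 L10394 q1134, e3 q808 (flp_d L7266) q565, e3 q809 L7284 q809, e3 q810 L7289 q567, e3 q811 L10440 q1139, e3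 q812 (flp_d L7307) q568, e3 q813 L7322 q813, e3 q814 L10479 q1142, e3 q815 (flp_d L7334) q571, e3 q816 L7349 q816, e3 q817 L7357 q582, e3 q818 (flp_d L7370) q574, e3 q819 L7387 q819, e3 q820 L7395 q584, e3 q821 L7399 q821, e3 q822 L10596 q1154, e3 q823 L7415 q587, e3 q824 (flp_d L7420) q578, e3 q825 L7441 q825, e3 q826 (flp_d L10466) q1141, e3 q827 L7461 q827, e3 q828 (flp_d L10505) q1144, e3 q829 L7473 q829, e3 q830 L10718 q1167, e3 q831 (flp_d L10526) q1147, trivial⟩ (by decide +kernel)

theorem ce_d_13 : ∀ r, r < 64 → sm gd (Qf (832 + r)) = Qf (tab Gen.d (832 + r)) :=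
  edges_tab (sm gd) Qf (tab Gen.d) 832 [(832, 832), (833, 1172), (834, 1151), (835, 835), (836, 1176), (837, 586), (838, 1178), (839, 1156), (840, 840), (841, 1183), (842, 589), (843, 1185), (844, 844), (845, 1189), (846, 592), (847, 1192), (848, 594), (849, 1195), (850, 850), (851, 610), (852, 1199), (853, 853), (854, 613), (855, 1203), (856, 599), (857, 1205), (858, 858), (859, 1209), (860, 602), (861, 1212), (862, 604), (863, 1179), (864, 1215), (865, 865), (866, 866), (867, 867), (868, 868), (869, 1197), (870, 1222), (871, 611), (872, 1224), (873, 873), (874, 1227), (875, 614), (876, 1230), (877, 616), (878, 878), (879, 617), (880, 880), (881, 881), (882, 882), (883, 620), (884, 1239), (885, 1241), (886, 886), (887, 887), (888, 623), (889, 1247), (890, 624), (891, 891), (892, 1251), (893, 893), (894, 894), (895, 1254)]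
    ⟨e3 q832 L7498 q832, e3 q833 L10762 q1172, e3 q834 (flp_d L10576) q1151, e3 q835 L7527 q835, e3 q836 L10800 q1176, e3 q837 (flp_d L7542) q586, e3 q838 (flp_d L10819) q1178, e3 q839 (flp_d L10617) q1156, e3 q840 L7569 q840, e3 q841 L10860 q1183, e3 q842 (flp_d L7586) q589, e3 q843 (flp_d L10882) q1185, e3 q844 L7610 q844, e3 q845 L10917 q1189, e3 q846 (flp_d L7625) q592, e3 q847 (flp_d L10947) q1192, e3 q848 L7645 q594, e3 q849 (flp_d L10971) q1195, e3 q850 L7662 q850, e3 q851 L7669 q610, e3 q852 L11004 q1199, e3 q853 L7690 q853, e3 q854 L7697 q613, e3 q855 L11042 q1203, e3 q856 (flp_d L7712) q599, e3 q857 (flp_d L11062) q1205, e3 q858 L7734 q858, e3 q859 L11093 q1209, e3 q860 (flp_d L7747) q602, e3 q861 (flp_d L11124) q1212, e3 q862 L7768 q604, e3 q863 (flp_d L10828) q1179, e3 q864 (flp_d L11148) q1215, e3 q865 L7794 q865, e3 q866 L7805 q866, e3 q867 L7812 q867, e3 q868 L7821 q868, e3 q869 (flp_d L10987) q1197, e3 q870 L11209 q1222, e3 q871 (flp_d L7846) q611, e3 q872 (flp_d L11232) q1224, e3 q873 L7871 q873, e3 q874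 L11257 q1227, e3 q875 (flp_d L7888) q614, e3 q876 (flp_d L11288) q1230, e3 q877 L7909 q616, e3 q878 L7920 q878, e3 q879 (flp_d L7921) q617, e3 q880 L7936 q880, e3 q881 L7943 q881, e3 q882 L7949 q882, e3 q883 (flp_d L7953) q620, e3 q884 (flp_d L11376) q1239, e3 q885 L11393 q1241, e3 q886 L7986 q886, e3 q887 L7993 q887, e3 q888 L7998 q623, e3 q889 L11445 q1247, e3 q890 (flp_d L8015) q624, e3 q891 L8025 q891, e3 q892 L11488 q1251, e3 q893 L8043 q893, e3 q894 L8050 q894, e3 q895 L11518 q1254, trivial⟩ (by decide +kernel)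

theorem ce_d_14 : ∀ r, r < 64 → sm gd (Qf (896 + r)) = Qf (tab Gen.d (896 + r)) :=
  edges_tab (sm gd) Qf (tab Gen.d) 896 [(896, 628), (897, 897), (898, 898), (899, 899), (900, 900), (901, 1260), (902, 632), (903, 903), (904, 648), (905, 636), (906, 906), (907, 650), (908, 908), (909, 1270), (910, 653), (911, 911), (912, 1274), (913, 656), (914, 1277), (915, 644), (916, 1279), (917, 661), (918, 918), (919, 1262), (920, 920), (921, 1288), (922, 1265), (923, 923), (924, 1293), (925, 1268), (926, 926), (927, 1297), (928, 652), (929, 1299), (930, 1272), (931, 931), (932, 1304), (933, 655), (934, 1306), (935, 1276), (936, 1310), (937, 658), (938, 1312), (939, 660), (940, 685), (941, 1315), (942, 1282), (943, 1318), (944, 663), (945, 1321), (946, 665), (947, 947), (948, 1325), (949, 949), (950, 667), (951, 1329), (952, 952), (953, 669), (954, 1333), (955, 1314), (956, 671), (957, 1336), (958, 691), (959, 1338)]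
    ⟨e3 q896 (flp_d L8062) q628, e3 q897 L8076 q897, e3 q898 L8082 q898, e3 q899 L8085 q899, e3 q900 L8097 q900, e3 q901 L11583 q1260, e3 q902 (flp_d L8110) q632, e3 q903 L8124 q903, e3 q904 L8132 q648, e3 q905 (flp_d L8152) q636, e3 q906 L8166 q906, e3 q907 L8174 q650, e3 q908 L8178 q908, e3 q909 L11704 q1270, e3 q910 L8193 q653, e3 q911 L8226 q911, e3 q912 L11788 q1274, e3 q913 L8245 q656, e3 q914 L11819 q1277, e3 q915 (flp_d L8265) q644, e3 q916 (flp_d L11837) q1279, e3 q917 L8281 q661, e3 q918 L8294 q918, e3 q919 (flp_d L11608) q1262, e3 q920 L8306 q920, e3 q921 L11911 q1288, e3 q922 (flp_d L11629) q1265, e3 q923 L8333 q923, e3 q924 L11953 q1293, e3 q925 (flp_d L11685) q1268, e3 q926 L8360 q926, e3 q927 L11986 q1297, e3 q928 (flp_d L8375) q652, e3 q929 (flp_d L12003) q1299, e3 q930 (flp_d L11719) q1272, e3 q931 L8398 q931, e3 q932 L12038 q1304, e3 q933 (flp_d L8414) q655, e3 q934 (flp_d L12059) q1306, e3 q935 (flp_d L11807) q1276, e3 q936 L12087 q1310, e3 q937 (flp_d L8446) q658, e3 q938 (flp_d L12112) q1312, e3 q939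 L8464 q660, e3 q940 L8471 q685, e3 q941 (flp_d L12140) q1315, e3 q942 (flp_d L11856) q1282, e3 q943 L12164 q1318, e3 q944 (flp_d L8499) q663, e3 q945 (flp_d L12195) q1321, e3 q946 L8520 q665, e3 q947 L8531 q947, e3 q948 (flp_d L12228) q1325, e3 q949 L8544 q949, e3 q950 (flp_d L8550) q667, e3 q951 (flp_d L12263) q1329, e3 q952 L8573 q952, e3 q953 L8578 q669, e3 q954 (flp_d L12294) q1333, e3 q955 (flp_d L12135) q1314, e3 q956 L8599 q671, e3 q957 (flp_d L12316) q1336, e3 q958 L8614 q691, e3 q959 L12330 q1338, trivial⟩ (by decide +kernel)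

theorem ce_d_15 : ∀ r, r < 64 → sm gd (Qf (960 + r)) = Qf (tab Gen.d (960 + r)) :=
  edges_tab (sm gd) Qf (tab Gen.d) 960 [(960, 674), (961, 1340), (962, 962), (963, 1344), (964, 677), (965, 1346), (966, 679), (967, 1300), (968, 1349), (969, 969), (970, 681), (971, 1352), (972, 683), (973, 1354), (974, 686), (975, 1316), (976, 1356), (977, 977), (978, 978), (979, 1359), (980, 692), (981, 1361), (982, 694), (983, 983), (984, 1364), (985, 696), (986, 1366), (987, 698), (988, 988), (989, 989), (990, 702), (991, 1369), (992, 704), (993, 1372), (994, 994), (995, 707), (996, 996), (997, 709), (998, 998), (999, 1377), (1000, 1000), (1001, 717), (1002, 719), (1003, 721), (1004, 1384), (1005, 716), (1006, 1380), (1007, 1007), (1008, 1381), (1009, 1009), (1010, 1392), (1011, 1011), (1012, 1394), (1013, 1395), (1014, 723), (1015, 724), (1016, 757), (1017, 735), (1018, 727), (1019, 1404), (1020, 728), (1021, 1407), (1022, 730), (1023, 762)]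
    ⟨e3 q960 (flp_d L8630) q674, e3 q961 (flp_d L12352) q1340, e3 q962 L8650 q962, e3 q963 L12381 q1344, e3 q964 (flp_d L8662) q677, e3 q965 (flp_d L12410) q1346, e3 q966 L8681 q679, e3 q967 (flp_d L12010) q1300, e3 q968 (flp_d L12440) q1349, e3 q969 L8702 q969, e3 q970 (flp_d L8707) q681, e3 q971 (flp_d L12479) q1352, e3 q972 L8736 q683, e3 q973 (flp_d L12520) q1354, e3 q974 L8759 q686, e3 q975 (flp_d L12147) q1316, e3 q976 (flp_d L12552) q1356, e3 q977 L8790 q977, e3 q978 L8798 q978, e3 q979 L12580 q1359, e3 q980 (flp_d L8813) q692, e3 q981 (flp_d L12612) q1361, e3 q982 L8835 q694, e3 q983 L8846 q983, e3 q984 (flp_d L12646) q1364, e3 q985 (flp_d L8856) q696, e3 q986 (flp_d L12680) q1366, e3 q987 L8885 q698, e3 q988 L8901 q988, e3 q989 L8908 q989, e3 q990 (flp_d L8947) q702, e3 q991 (flp_d L12798) q1369, e3 q992 L8979 q704, e3 q993 (flp_d L12853) q1372, e3 q994 L9009 q994, e3 q995 L9015 q707, e3 q996 L9028 q996, e3 q997 L9052 q709, e3 q998 L9086 q998, e3 q999 L13015 q1377, e3 q1000 L9171 q1000, e3 q1001 L9178 q717, e3 q1002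 L9188 q719, e3 q1003 L9198 q721, e3 q1004 L13131 q1384, e3 q1005 (flp_d L9213) q716, e3 q1006 (flp_d L13096) q1380, e3 q1007 L9242 q1007, e3 q1008 (flp_d L13106) q1381, e3 q1009 L9260 q1009, e3 q1010 L13216 q1392, e3 q1011 L9281 q1011, e3 q1012 L13236 q1394, e3 q1013 L13243 q1395, e3 q1014 (flp_d L9310) q723, e3 q1015 (flp_d L9316) q724, e3 q1016 L9330 q757, e3 q1017 L9337 q735, e3 q1018 L9344 q727, e3 q1019 L13319 q1404, e3 q1020 (flp_d L9363) q728, e3 q1021 L13347 q1407, e3 q1022 (flp_d L9382) q730, e3 q1023 L9398 q762, trivial⟩ (by decide +kernel)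

theorem ce_d_16 : ∀ r, r < 64 → sm gd (Qf (1024 + r)) = Qf (tab Gen.d (1024 + r)) :=
  edges_tab (sm gd) Qf (tab Gen.d) 1024 [(1024, 1397), (1025, 732), (1026, 764), (1027, 1399), (1028, 766), (1029, 1420), (1030, 1402), (1031, 736), (1032, 1032), (1033, 1424), (1034, 769), (1035, 1430), (1036, 1036), (1037, 772), (1038, 1434), (1039, 741), (1040, 1436), (1041, 1041), (1042, 1440), (1043, 1043), (1044, 744), (1045, 1444), (1046, 1446), (1047, 1047), (1048, 747), (1049, 1449), (1050, 748), (1051, 750), (1052, 1453), (1053, 751), (1054, 1456), (1055, 753), (1056, 1396), (1057, 763), (1058, 755), (1059, 1398), (1060, 765), (1061, 1400), (1062, 1469), (1063, 768), (1064, 759), (1065, 1405), (1066, 1455), (1067, 1408), (1068, 1458), (1069, 1410), (1070, 1482), (1071, 1461), (1072, 1415), (1073, 1487), (1074, 1466), (1075, 1418), (1076, 1491), (1077, 767), (1078, 1493), (1079, 1471), (1080, 1428), (1081, 1498), (1082, 770), (1083, 1500), (1084, 1084), (1085, 1504), (1086, 773), (1087, 1507)]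
    ⟨e3 q1024 (flp_d L13265) q1397, e3 q1025 (flp_d L9407) q732, e3 q1026 L9425 q764, e3 q1027 (flp_d L13285) q1399, e3 q1028 L9436 q766, e3 q1029 L13461 q1420, e3 q1030 (flp_d L13304) q1402, e3 q1031 (flp_d L9458) q736, e3 q1032 L9475 q1032, e3 q1033 (flp_d L13500) q1424, e3 q1034 L9487 q769, e3 q1035 L13548 q1430, e3 q1036 L9507 q1036, e3 q1037 L9514 q772, e3 q1038 L13583 q1434, e3 q1039 (flp_d L9528) q741, e3 q1040 (flp_d L13602) q1436, e3 q1041 L9547 q1041, e3 q1042 L13629 q1440, e3 q1043 L9565 q1043, e3 q1044 (flp_d L9571) q744, e3 q1045 (flp_d L13677) q1444, e3 q1046 L13695 q1446, e3 q1047 L9610 q1047, e3 q1048 L9618 q747, e3 q1049 L13726 q1449, e3 q1050 (flp_d L9634) q748, e3 q1051 L9649 q750, e3 q1052 L13762 q1453, e3 q1053 (flp_d L9667) q751, e3 q1054 L13790 q1456, e3 q1055 (flp_d L9686) q753, e3 q1056 (flp_d L13257) q1396, e3 q1057 L9709 q763, e3 q1058 (flp_d L9711) q755, e3 q1059 (flp_d L13275) q1398, e3 q1060 L9736 q765, e3 q1061 (flp_d L13289) q1400, e3 q1062 L13903 q1469, e3 q1063 L9757 q768, e3 q1064 (flp_d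 L9762) q759, e3 q1065 (flp_d L13337) q1405, e3 q1066 (flp_d L13788) q1455, e3 q1067 (flp_d L13365) q1408, e3 q1068 (flp_d L13816) q1458, e3 q1069 (flp_d L13377) q1410, e3 q1070 L14026 q1482, e3 q1071 (flp_d L13838) q1461, e3 q1072 (flp_d L13419) q1415, e3 q1073 L14070 q1487, e3 q1074 (flp_d L13881) q1466, e3 q1075 (flp_d L13447) q1418, e3 q1076 L14107 q1491, e3 q1077 (flp_d L9887) q767, e3 q1078 (flp_d L14126) q1493, e3 q1079 (flp_d L13922) q1471, e3 q1080 (flp_d L13532) q1428, e3 q1081 L14166 q1498, e3 q1082 (flp_d L9931) q770, e3 q1083 (flp_d L14188) q1500, e3 q1084 L9953 q1084, e3 q1085 L14220 q1504, e3 q1086 (flp_d L9969) q773, e3 q1087 (flp_d L14248) q1507, trivial⟩ (by decide +kernel)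

theorem ce_d_17 : ∀ r, r < 64 → sm gd (Qf (1088 + r)) = Qf (tab Gen.d (1088 + r)) :=
  edges_tab (sm gd) Qf (tab Gen.d) 1088 [(1088, 775), (1089, 791), (1090, 1511), (1091, 1091), (1092, 1092), (1093, 1517), (1094, 1094), (1095, 1095), (1096, 1521), (1097, 780), (1098, 1523), (1099, 1099), (1100, 1527), (1101, 783), (1102, 1530), (1103, 785), (1104, 1494), (1105, 1534), (1106, 1106), (1107, 787), (1108, 1538), (1109, 789), (1110, 1508), (1111, 1542), (1112, 1533), (1113, 792), (1114, 1512), (1115, 1513), (1116, 1548), (1117, 1117), (1118, 1554), (1119, 798), (1120, 1120), (1121, 1121), (1122, 799), (1123, 1560), (1124, 1562), (1125, 1125), (1126, 1126), (1127, 802), (1128, 1567), (1129, 803), (1130, 1570), (1131, 1131), (1132, 1132), (1133, 1573), (1134, 807), (1135, 1135), (1136, 1136), (1137, 1137), (1138, 1579), (1139, 811), (1140, 1140), (1141, 826), (1142, 814), (1143, 1143), (1144, 828), (1145, 1145), (1146, 1591), (1147, 831), (1148, 1148), (1149, 1149), (1150, 1596), (1151, 834)]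
    ⟨e3 q1088 L9988 q775, e3 q1089 L9997 q791, e3 q1090 (flp_d L14277) q1511, e3 q1091 L10012 q1091, e3 q1092 L10019 q1092, e3 q1093 L14327 q1517, e3 q1094 L10041 q1094, e3 q1095 L10050 q1095, e3 q1096 L14364 q1521, e3 q1097 (flp_d L10065) q780, e3 q1098 (flp_d L14384) q1523, e3 q1099 L10085 q1099, e3 q1100 L14413 q1527, e3 q1101 (flp_d L10099) q783, e3 q1102 (flp_d L14444) q1530, e3 q1103 L10120 q785, e3 q1104 (flp_d L14133) q1494, e3 q1105 (flp_d L14476) q1534, e3 q1106 L10143 q1106, e3 q1107 (flp_d L10148) q787, e3 q1108 (flp_d L14508) q1538, e3 q1109 L10172 q789, e3 q1110 (flp_d L14257) q1508, e3 q1111 (flp_d L14543) q1542, e3 q1112 (flp_d L14469) q1533, e3 q1113 L10205 q792, e3 q1114 (flp_d L14287) q1512, e3 q1115 (flp_d L14293) q1513, e3 q1116 (flp_d L14595) q1548, e3 q1117 L10238 q1117, e3 q1118 L14642 q1554, e3 q1119 L10254 q798, e3 q1120 L10266 q1120, e3 q1121 L10271 q1121, e3 q1122 (flp_d L10276) q799, e3 q1123 (flp_d L14701) q1560, e3 q1124 L14719 q1562, e3 q1125 L10315 q1125, e3 q1126 L10323 q1126, e3 q1127 L10329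 q802, e3 q1128 L14770 q1567, e3 q1129 (flp_d L10347) q803, e3 q1130 L14798 q1570, e3 q1131 L10373 q1131, e3 q1132 L10381 q1132, e3 q1133 L14838 q1573, e3 q1134 (flp_d L10394) q807, e3 q1135 L10411 q1135, e3 q1136 L10418 q1136, e3 q1137 L10426 q1137, e3 q1138 L14901 q1579, e3 q1139 (flp_d L10440) q811, e3 q1140 L10457 q1140, e3 q1141 L10466 q826, e3 q1142 (flp_d L10479) q814, e3 q1143 L10496 q1143, e3 q1144 L10505 q828, e3 q1145 L10509 q1145, e3 q1146 L15026 q1591, e3 q1147 L10526 q831, e3 q1148 L10555 q1148, e3 q1149 L10558 q1149, e3 q1150 L15113 q1596, e3 q1151 L10576 q834, trivial⟩ (by decide +kernel)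

theorem ce_d_18 : ∀ r, r < 64 → sm gd (Qf (1152 + r)) = Qf (tab Gen.d (1152 + r)) :=
  edges_tab (sm gd) Qf (tab Gen.d) 1152 [(1152, 1152), (1153, 1600), (1154, 822), (1155, 1602), (1156, 839), (1157, 1157), (1158, 1581), (1159, 1159), (1160, 1611), (1161, 1584), (1162, 1162), (1163, 1616), (1164, 1588), (1165, 1165), (1166, 1620), (1167, 830), (1168, 1622), (1169, 1593), (1170, 1170), (1171, 1627), (1172, 833), (1173, 1629), (1174, 1598), (1175, 1633), (1176, 836), (1177, 1636), (1178, 838), (1179, 863), (1180, 1640), (1181, 1605), (1182, 1644), (1183, 841), (1184, 1647), (1185, 843), (1186, 1186), (1187, 1651), (1188, 1188), (1189, 845), (1190, 1655), (1191, 1506), (1192, 847), (1193, 1659), (1194, 1639), (1195, 849), (1196, 1662), (1197, 869), (1198, 1664), (1199, 852), (1200, 1666), (1201, 1201), (1202, 1670), (1203, 855), (1204, 1673), (1205, 857), (1206, 1623), (1207, 1677), (1208, 1208), (1209, 859), (1210, 1682), (1211, 1529), (1212, 861), (1213, 1637), (1214, 1686), (1215, 864)]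
    ⟨e3 q1152 L10584 q1152, e3 q1153 L15150 q1600, e3 q1154 (flp_d L10596) q822, e3 q1155 (flp_d L15169) q1602, e3 q1156 L10617 q839, e3 q1157 L10632 q1157, e3 q1158 (flp_d L14930) q1581, e3 q1159 L10645 q1159, e3 q1160 L15250 q1611, e3 q1161 (flp_d L14953) q1584, e3 q1162 L10674 q1162, e3 q1163 L15297 q1616, e3 q1164 (flp_d L15007) q1588, e3 q1165 L10702 q1165, e3 q1166 L15336 q1620, e3 q1167 (flp_d L10718) q830, e3 q1168 (flp_d L15354) q1622, e3 q1169 (flp_d L15046) q1593, e3 q1170 L10745 q1170, e3 q1171 L15395 q1627, e3 q1172 (flp_d L10762) q833, e3 q1173 (flp_d L15417) q1629, e3 q1174 (flp_d L15137) q1598, e3 q1175 L15450 q1633, e3 q1176 (flp_d L10800) q836, e3 q1177 (flp_d L15477) q1636, e3 q1178 L10819 q838, e3 q1179 L10828 q863, e3 q1180 (flp_d L15508) q1640, e3 q1181 (flp_d L15193) q1605, e3 q1182 L15538 q1644, e3 q1183 (flp_d L10860) q841, e3 q1184 (flp_d L15571) q1647, e3 q1185 L10882 q843, e3 q1186 L10895 q1186, e3 q1187 (flp_d L15607) q1651, e3 q1188 L10911 q1188, e3 q1189 (flp_d L10917) q845, e3 q1190 (flp_d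 L15647) q1655, e3 q1191 (flp_d L14242) q1506, e3 q1192 L10947 q847, e3 q1193 (flp_d L15678) q1659, e3 q1194 (flp_d L15501) q1639, e3 q1195 L10971 q849, e3 q1196 (flp_d L15703) q1662, e3 q1197 L10987 q869, e3 q1198 L15718 q1664, e3 q1199 (flp_d L11004) q852, e3 q1200 (flp_d L15741) q1666, e3 q1201 L11029 q1201, e3 q1202 L15775 q1670, e3 q1203 (flp_d L11042) q855, e3 q1204 (flp_d L15806) q1673, e3 q1205 L11062 q857, e3 q1206 (flp_d L15363) q1623, e3 q1207 (flp_d L15839) q1677, e3 q1208 L11088 q1208, e3 q1209 (flp_d L11093) q859, e3 q1210 (flp_d L15885) q1682, e3 q1211 (flp_d L14438) q1529, e3 q1212 L11124 q861, e3 q1213 (flp_d L15486) q1637, e3 q1214 (flp_d L15928) q1686, e3 q1215 L11148 q864, trivial⟩ (by decide +kernel)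

theorem ce_d_19 : ∀ r, r < 64 → sm gd (Qf (1216 + r)) = Qf (tab Gen.d (1216 + r)) :=
  edges_tab (sm gd) Qf (tab Gen.d) 1216 [(1216, 1641), (1217, 1642), (1218, 1689), (1219, 1219), (1220, 1220), (1221, 1693), (1222, 870), (1223, 1696), (1224, 872), (1225, 1225), (1226, 1700), (1227, 874), (1228, 1704), (1229, 1229), (1230, 876), (1231, 1231), (1232, 1232), (1233, 1233), (1234, 1234), (1235, 1235), (1236, 1711), (1237, 1237), (1238, 1238), (1239, 884), (1240, 1718), (1241, 885), (1242, 1242), (1243, 1722), (1244, 1244), (1245, 1245), (1246, 1725), (1247, 889), (1248, 1248), (1249, 1249), (1250, 1731), (1251, 892), (1252, 1733), (1253, 1734), (1254, 895), (1255, 1255), (1256, 1256), (1257, 1257), (1258, 1739), (1259, 1259), (1260, 901), (1261, 1261), (1262, 919), (1263, 1263), (1264, 1746), (1265, 922), (1266, 1266), (1267, 1750), (1268, 925), (1269, 1753), (1270, 909), (1271, 1755), (1272, 930), (1273, 1273), (1274, 912), (1275, 1760), (1276, 935), (1277, 914), (1278, 1764), (1279, 916)]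
    ⟨e3 q1216 (flp_d L15517) q1641, e3 q1217 (flp_d L15523) q1642, e3 q1218 (flp_d L15961) q1689, e3 q1219 L11186 q1219, e3 q1220 L11193 q1220, e3 q1221 L15994 q1693, e3 q1222 (flp_d L11209) q870, e3 q1223 (flp_d L16028) q1696, e3 q1224 L11232 q872, e3 q1225 L11245 q1225, e3 q1226 (flp_d L16065) q1700, e3 q1227 (flp_d L11257) q874, e3 q1228 (flp_d L16104) q1704, e3 q1229 L11283 q1229, e3 q1230 L11288 q876, e3 q1231 L11298 q1231, e3 q1232 L11306 q1232, e3 q1233 L11315 q1233, e3 q1234 L11321 q1234, e3 q1235 L11332 q1235, e3 q1236 L16200 q1711, e3 q1237 L11364 q1237, e3 q1238 L11372 q1238, e3 q1239 L11376 q884, e3 q1240 L16267 q1718, e3 q1241 (flp_d L11393) q885, e3 q1242 L11403 q1242, e3 q1243 L16313 q1722, e3 q1244 L11423 q1244, e3 q1245 L11431 q1245, e3 q1246 L16347 q1725, e3 q1247 (flp_d L11445) q889, e3 q1248 L11461 q1248, e3 q1249 L11468 q1249, e3 q1250 L16399 q1731, e3 q1251 (flp_d L11488) q892, e3 q1252 (flp_d L16437) q1733, e3 q1253 L16458 q1734, e3 q1254 (flp_d L11518) q895, e3 q1255 L11534 q1255, e3 q1256 L11541 q1256,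 e3 q1257 L11544 q1257, e3 q1258 L16519 q1739, e3 q1259 L11559 q1259, e3 q1260 (flp_d L11583) q901, e3 q1261 L11599 q1261, e3 q1262 L11608 q919, e3 q1263 L11612 q1263, e3 q1264 L16619 q1746, e3 q1265 L11629 q922, e3 q1266 L11665 q1266, e3 q1267 L16706 q1750, e3 q1268 L11685 q925, e3 q1269 L16738 q1753, e3 q1270 (flp_d L11704) q909, e3 q1271 (flp_d L16755) q1755, e3 q1272 L11719 q930, e3 q1273 L11766 q1273, e3 q1274 (flp_d L11788) q912, e3 q1275 (flp_d L16887) q1760, e3 q1276 L11807 q935, e3 q1277 (flp_d L11819) q914, e3 q1278 (flp_d L16939) q1764, e3 q1279 L11837 q916, trivial⟩ (by decide +kernel)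

theorem ce_d_20 : ∀ r, r < 64 → sm gd (Qf (1280 + r)) = Qf (tab Gen.d (1280 + r)) :=
  edges_tab (sm gd) Qf (tab Gen.d) 1280 [(1280, 1280), (1281, 1768), (1282, 942), (1283, 1283), (1284, 1773), (1285, 1744), (1286, 1286), (1287, 1777), (1288, 921), (1289, 1779), (1290, 1748), (1291, 1291), (1292, 1784), (1293, 924), (1294, 1786), (1295, 1752), (1296, 1790), (1297, 927), (1298, 1792), (1299, 929), (1300, 967), (1301, 1795), (1302, 1758), (1303, 1798), (1304, 932), (1305, 1800), (1306, 934), (1307, 1307), (1308, 1803), (1309, 1762), (1310, 936), (1311, 1806), (1312, 938), (1313, 1809), (1314, 955), (1315, 941), (1316, 975), (1317, 1813), (1318, 943), (1319, 1816), (1320, 1320), (1321, 945), (1322, 1322), (1323, 1822), (1324, 1802), (1325, 948), (1326, 1326), (1327, 1827), (1328, 1328), (1329, 951), (1330, 1832), (1331, 1331), (1332, 1808), (1333, 954), (1334, 1837), (1335, 1811), (1336, 957), (1337, 1840), (1338, 959), (1339, 1842), (1340, 961), (1341, 1780), (1342, 1845), (1343, 1343)]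
    ⟨e3 q1280 L11846 q1280, e3 q1281 (flp_d L16967) q1768, e3 q1282 L11856 q942, e3 q1283 L11863 q1283, e3 q1284 L17013 q1773, e3 q1285 (flp_d L16596) q1744, e3 q1286 L11894 q1286, e3 q1287 L17049 q1777, e3 q1288 (flp_d L11911) q921, e3 q1289 (flp_d L17069) q1779, e3 q1290 (flp_d L16637) q1748, e3 q1291 L11936 q1291, e3 q1292 L17108 q1784, e3 q1293 (flp_d L11953) q924, e3 q1294 (flp_d L17128) q1786, e3 q1295 (flp_d L16724) q1752, e3 q1296 L17157 q1790, e3 q1297 (flp_d L11986) q927, e3 q1298 (flp_d L17182) q1792, e3 q1299 L12003 q929, e3 q1300 L12010 q967, e3 q1301 (flp_d L17209) q1795, e3 q1302 (flp_d L16775) q1758, e3 q1303 L17235 q1798, e3 q1304 (flp_d L12038) q932, e3 q1305 (flp_d L17265) q1800, e3 q1306 L12059 q934, e3 q1307 L12068 q1307, e3 q1308 (flp_d L17297) q1803, e3 q1309 (flp_d L16908) q1762, e3 q1310 (flp_d L12087) q936, e3 q1311 (flp_d L17335) q1806, e3 q1312 L12112 q938, e3 q1313 (flp_d L17379) q1809, e3 q1314 L12135 q955, e3 q1315 L12140 q941, e3 q1316 L12147 q975, e3 q1317 (flp_d L17423) q1813, e3 q1318 (flp_d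 L12164) q943, e3 q1319 (flp_d L17453) q1816, e3 q1320 L12190 q1320, e3 q1321 L12195 q945, e3 q1322 L12207 q1322, e3 q1323 (flp_d L17506) q1822, e3 q1324 (flp_d L17292) q1802, e3 q1325 L12228 q948, e3 q1326 L12239 q1326, e3 q1327 (flp_d L17548) q1827, e3 q1328 L12258 q1328, e3 q1329 L12263 q951, e3 q1330 (flp_d L17590) q1832, e3 q1331 L12280 q1331, e3 q1332 (flp_d L17372) q1808, e3 q1333 L12294 q954, e3 q1334 (flp_d L17630) q1837, e3 q1335 (flp_d L17410) q1811, e3 q1336 L12316 q957, e3 q1337 L17648 q1840, e3 q1338 (flp_d L12330) q959, e3 q1339 (flp_d L17681) q1842, e3 q1340 L12352 q961, e3 q1341 (flp_d L17079) q1780, e3 q1342 (flp_d L17715) q1845, e3 q1343 L12375 q1343, trivial⟩ (by decide +kernel)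

theorem ce_d_21 : ∀ r, r < 64 → sm gd (Qf (1344 + r)) = Qf (tab Gen.d (1344 + r)) :=
  edges_tab (sm gd) Qf (tab Gen.d) 1344 [(1344, 963), (1345, 1848), (1346, 965), (1347, 1851), (1348, 1348), (1349, 968), (1350, 1796), (1351, 1855), (1352, 971), (1353, 1857), (1354, 973), (1355, 1859), (1356, 976), (1357, 1814), (1358, 1358), (1359, 979), (1360, 1861), (1361, 981), (1362, 1864), (1363, 1363), (1364, 984), (1365, 1365), (1366, 986), (1367, 1367), (1368, 1869), (1369, 991), (1370, 1871), (1371, 1371), (1372, 993), (1373, 1373), (1374, 1875), (1375, 1375), (1376, 1376), (1377, 999), (1378, 1378), (1379, 1379), (1380, 1006), (1381, 1008), (1382, 1882), (1383, 1883), (1384, 1004), (1385, 1385), (1386, 1386), (1387, 1387), (1388, 1880), (1389, 1389), (1390, 1892), (1391, 1893), (1392, 1010), (1393, 1896), (1394, 1012), (1395, 1013), (1396, 1056), (1397, 1024), (1398, 1059), (1399, 1027), (1400, 1061), (1401, 1909), (1402, 1030), (1403, 1912), (1404, 1019), (1405, 1065), (1406, 1898), (1407, 1021)]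
    ⟨e3 q1344 (flp_d L12381) q963, e3 q1345 (flp_d L17758) q1848, e3 q1346 L12410 q965, e3 q1347 (flp_d L17806) q1851, e3 q1348 L12434 q1348, e3 q1349 L12440 q968, e3 q1350 (flp_d L17217) q1796, e3 q1351 (flp_d L17853) q1855, e3 q1352 L12479 q971, e3 q1353 (flp_d L17902) q1857, e3 q1354 L12520 q973, e3 q1355 (flp_d L17966) q1859, e3 q1356 L12552 q976, e3 q1357 (flp_d L17430) q1814, e3 q1358 L12576 q1358, e3 q1359 (flp_d L12580) q979, e3 q1360 (flp_d L18015) q1861, e3 q1361 L12612 q981, e3 q1362 (flp_d L18069) q1864, e3 q1363 L12642 q1363, e3 q1364 L12646 q984, e3 q1365 L12658 q1365, e3 q1366 L12680 q986, e3 q1367 L12713 q1367, e3 q1368 L18220 q1869, e3 q1369 L12798 q991, e3 q1370 (flp_d L18315) q1871, e3 q1371 L12847 q1371, e3 q1372 L12853 q993, e3 q1373 L12881 q1373, e3 q1374 L18439 q1875, e3 q1375 L12903 q1375, e3 q1376 L12946 q1376, e3 q1377 (flp_d L13015) q999, e3 q1378 L13076 q1378, e3 q1379 L13086 q1379, e3 q1380 L13096 q1006, e3 q1381 L13106 q1008, e3 q1382 L18725 q1882, e3 q1383 L18735 q1883, e3 q1384 (flp_d L13131)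 q1004, e3 q1385 L13148 q1385, e3 q1386 L13157 q1386, e3 q1387 L13169 q1387, e3 q1388 (flp_d L18709) q1880, e3 q1389 L13187 q1389, e3 q1390 L18828 q1892, e3 q1391 L18836 q1893, e3 q1392 (flp_d L13216) q1010, e3 q1393 L18860 q1896, e3 q1394 (flp_d L13236) q1012, e3 q1395 (flp_d L13243) q1013, e3 q1396 L13257 q1056, e3 q1397 L13265 q1024, e3 q1398 L13275 q1059, e3 q1399 L13285 q1027, e3 q1400 L13289 q1061, e3 q1401 L18972 q1909, e3 q1402 L13304 q1030, e3 q1403 L18994 q1912, e3 q1404 (flp_d L13319) q1019, e3 q1405 L13337 q1065, e3 q1406 (flp_d L18885) q1898, e3 q1407 (flp_d L13347) q1021, trivial⟩ (by decide +kernel)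

theorem ce_d_22 : ∀ r, r < 64 → sm gd (Qf (1408 + r)) = Qf (tab Gen.d (1408 + r)) :=
  edges_tab (sm gd) Qf (tab Gen.d) 1408 [(1408, 1067), (1409, 1900), (1410, 1069), (1411, 1925), (1412, 1903), (1413, 1413), (1414, 1414), (1415, 1072), (1416, 1933), (1417, 1906), (1418, 1075), (1419, 1937), (1420, 1029), (1421, 1939), (1422, 1911), (1423, 1423), (1424, 1033), (1425, 1425), (1426, 1948), (1427, 1945), (1428, 1080), (1429, 1952), (1430, 1035), (1431, 1954), (1432, 1432), (1433, 1958), (1434, 1038), (1435, 1961), (1436, 1040), (1437, 1437), (1438, 1965), (1439, 1439), (1440, 1042), (1441, 1970), (1442, 1972), (1443, 1443), (1444, 1045), (1445, 1975), (1446, 1046), (1447, 1447), (1448, 1979), (1449, 1049), (1450, 1894), (1451, 1451), (1452, 1985), (1453, 1052), (1454, 1897), (1455, 1066), (1456, 1054), (1457, 1899), (1458, 1068), (1459, 1901), (1460, 1998), (1461, 1071), (1462, 1462), (1463, 1463), (1464, 1904), (1465, 2004), (1466, 1074), (1467, 1907), (1468, 2008), (1469, 1062), (1470, 2010), (1471, 1079)]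
    ⟨e3 q1408 L13365 q1067, e3 q1409 (flp_d L18906) q1900, e3 q1410 L13377 q1069, e3 q1411 L19116 q1925, e3 q1412 (flp_d L18926) q1903, e3 q1413 L13407 q1413, e3 q1414 L13416 q1414, e3 q1415 L13419 q1072, e3 q1416 L19187 q1933, e3 q1417 (flp_d L18951) q1906, e3 q1418 L13447 q1075, e3 q1419 L19221 q1937, e3 q1420 (flp_d L13461) q1029, e3 q1421 (flp_d L19240) q1939, e3 q1422 (flp_d L18991) q1911, e3 q1423 L13491 q1423, e3 q1424 L13500 q1033, e3 q1425 L13504 q1425, e3 q1426 L19314 q1948, e3 q1427 (flp_d L19288) q1945, e3 q1428 L13532 q1080, e3 q1429 L19348 q1952, e3 q1430 (flp_d L13548) q1035, e3 q1431 (flp_d L19370) q1954, e3 q1432 L13570 q1432, e3 q1433 L19400 q1958, e3 q1434 (flp_d L13583) q1038, e3 q1435 (flp_d L19429) q1961, e3 q1436 L13602 q1040, e3 q1437 L13613 q1437, e3 q1438 (flp_d L19459) q1965, e3 q1439 L13625 q1439, e3 q1440 (flp_d L13629) q1042, e3 q1441 (flp_d L19504) q1970, e3 q1442 L19522 q1972, e3 q1443 L13669 q1443, e3 q1444 L13677 q1045, e3 q1445 L19555 q1975, e3 q1446 (flp_d L13695) q1046, e3 q1447 L13711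 q1447, e3 q1448 L19594 q1979, e3 q1449 (flp_d L13726) q1049, e3 q1450 (flp_d L18852) q1894, e3 q1451 L13750 q1451, e3 q1452 L19646 q1985, e3 q1453 (flp_d L13762) q1052, e3 q1454 (flp_d L18876) q1897, e3 q1455 L13788 q1066, e3 q1456 (flp_d L13790) q1054, e3 q1457 (flp_d L18895) q1899, e3 q1458 L13816 q1068, e3 q1459 (flp_d L18910) q1901, e3 q1460 L19767 q1998, e3 q1461 L13838 q1071, e3 q1462 L13849 q1462, e3 q1463 L13859 q1463, e3 q1464 (flp_d L18930) q1904, e3 q1465 L19838 q2004, e3 q1466 L13881 q1074, e3 q1467 (flp_d L18961) q1907, e3 q1468 L19874 q2008, e3 q1469 (flp_d L13903) q1062, e3 q1470 (flp_d L19893) q2010, e3 q1471 L13922 q1079, trivial⟩ (by decide +kernel)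

theorem ce_d_23 : ∀ r, r < 64 → sm gd (Qf (1472 + r)) = Qf (tab Gen.d (1472 + r)) :=
  edges_tab (sm gd) Qf (tab Gen.d) 1472 [(1472, 1913), (1473, 1987), (1474, 1915), (1475, 2019), (1476, 1990), (1477, 1920), (1478, 2024), (1479, 1995), (1480, 1923), (1481, 2028), (1482, 1070), (1483, 2030), (1484, 2000), (1485, 1931), (1486, 2035), (1487, 1073), (1488, 2037), (1489, 2006), (1490, 2041), (1491, 1076), (1492, 2044), (1493, 1078), (1494, 1104), (1495, 2048), (1496, 2013), (1497, 2052), (1498, 1081), (1499, 2055), (1500, 1083), (1501, 1501), (1502, 2059), (1503, 1503), (1504, 1085), (1505, 2064), (1506, 1191), (1507, 1087), (1508, 1110), (1509, 2070), (1510, 2047), (1511, 1090), (1512, 1114), (1513, 1115), (1514, 2076), (1515, 1515), (1516, 2080), (1517, 1093), (1518, 2082), (1519, 1519), (1520, 2086), (1521, 1096), (1522, 2089), (1523, 1098), (1524, 2031), (1525, 2093), (1526, 1526), (1527, 1100), (1528, 2098), (1529, 1211), (1530, 1102), (1531, 2045), (1532, 2104), (1533, 1112), (1534, 1105), (1535, 2049)]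
    ⟨e3 q1472 (flp_d L19014) q1913, e3 q1473 (flp_d L19675) q1987, e3 q1474 (flp_d L19027) q1915, e3 q1475 L19975 q2019, e3 q1476 (flp_d L19699) q1990, e3 q1477 (flp_d L19074) q1920, e3 q1478 L20022 q2024, e3 q1479 (flp_d L19746) q1995, e3 q1480 (flp_d L19101) q1923, e3 q1481 L20060 q2028, e3 q1482 (flp_d L14026) q1070, e3 q1483 (flp_d L20078) q2030, e3 q1484 (flp_d L19785) q2000, e3 q1485 (flp_d L19171) q1931, e3 q1486 L20118 q2035, e3 q1487 (flp_d L14070) q1073, e3 q1488 (flp_d L20140) q2037, e3 q1489 (flp_d L19860) q2006, e3 q1490 L20171 q2041, e3 q1491 (flp_d L14107) q1076, e3 q1492 (flp_d L20198) q2044, e3 q1493 L14126 q1078, e3 q1494 L14133 q1104, e3 q1495 (flp_d L20227) q2048, e3 q1496 (flp_d L19915) q2013, e3 q1497 L20253 q2052, e3 q1498 (flp_d L14166) q1081, e3 q1499 (flp_d L20286) q2055, e3 q1500 L14188 q1083, e3 q1501 L14199 q1501, e3 q1502 (flp_d L20319) q2059, e3 q1503 L14214 q1503, e3 q1504 (flp_d L14220) q1085, e3 q1505 (flp_d L20364) q2064, e3 q1506 L14242 q1191, e3 q1507 L14248 q1087, e3 q1508 L14257 q1110,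 e3 q1509 (flp_d L20411) q2070, e3 q1510 (flp_d L20222) q2047, e3 q1511 L14277 q1090, e3 q1512 L14287 q1114, e3 q1513 L14293 q1115, e3 q1514 (flp_d L20458) q2076, e3 q1515 L14310 q1515, e3 q1516 L20491 q2080, e3 q1517 (flp_d L14327) q1093, e3 q1518 (flp_d L20514) q2082, e3 q1519 L14350 q1519, e3 q1520 L20546 q2086, e3 q1521 (flp_d L14364) q1096, e3 q1522 (flp_d L20577) q2089, e3 q1523 L14384 q1098, e3 q1524 (flp_d L20085) q2031, e3 q1525 (flp_d L20608) q2093, e3 q1526 L14408 q1526, e3 q1527 (flp_d L14413) q1100, e3 q1528 (flp_d L20650) q2098, e3 q1529 L14438 q1211, e3 q1530 L14444 q1102, e3 q1531 (flp_d L20206) q2045, e3 q1532 (flp_d L20700) q2104, e3 q1533 L14469 q1112, e3 q1534 L14476 q1105, e3 q1535 (flp_d L20235) q2049, trivial⟩ (by decide +kernel)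

theorem ce_d_24 : ∀ r, r < 64 → sm gd (Qf (1536 + r)) = Qf (tab Gen.d (1536 + r)) :=
  edges_tab (sm gd) Qf (tab Gen.d) 1536 [(1536, 2050), (1537, 2110), (1538, 1108), (1539, 2065), (1540, 2114), (1541, 2103), (1542, 1111), (1543, 2071), (1544, 2072), (1545, 2120), (1546, 2108), (1547, 2126), (1548, 1116), (1549, 2077), (1550, 2078), (1551, 1551), (1552, 1552), (1553, 2133), (1554, 1118), (1555, 2136), (1556, 1556), (1557, 1557), (1558, 1558), (1559, 1559), (1560, 1123), (1561, 2143), (1562, 1124), (1563, 2146), (1564, 1564), (1565, 1565), (1566, 2149), (1567, 1128), (1568, 1568), (1569, 1569), (1570, 1130), (1571, 2156), (1572, 2157), (1573, 1133), (1574, 1574), (1575, 1575), (1576, 1576), (1577, 2164), (1578, 1578), (1579, 1138), (1580, 1580), (1581, 1158), (1582, 1582), (1583, 2173), (1584, 1161), (1585, 1585), (1586, 1586), (1587, 2178), (1588, 1164), (1589, 1589), (1590, 2182), (1591, 1146), (1592, 2184), (1593, 1169), (1594, 1594), (1595, 2189), (1596, 1150), (1597, 2191), (1598, 1174), (1599, 2194)]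
    ⟨e3 q1536 (flp_d L20240) q2050, e3 q1537 (flp_d L20748) q2110, e3 q1538 L14508 q1108, e3 q1539 (flp_d L20374) q2065, e3 q1540 (flp_d L20781) q2114, e3 q1541 (flp_d L20693) q2103, e3 q1542 L14543 q1111, e3 q1543 (flp_d L20421) q2071, e3 q1544 (flp_d L20427) q2072, e3 q1545 (flp_d L20836) q2120, e3 q1546 (flp_d L20731) q2108, e3 q1547 L20884 q2126, e3 q1548 L14595 q1116, e3 q1549 (flp_d L20469) q2077, e3 q1550 (flp_d L20475) q2078, e3 q1551 L14621 q1551, e3 q1552 L14629 q1552, e3 q1553 L20943 q2133, e3 q1554 (flp_d L14642) q1118, e3 q1555 (flp_d L20971) q2136, e3 q1556 L14667 q1556, e3 q1557 L14672 q1557, e3 q1558 L14687 q1558, e3 q1559 L14696 q1559, e3 q1560 L14701 q1123, e3 q1561 L21037 q2143, e3 q1562 (flp_d L14719) q1124, e3 q1563 L21066 q2146, e3 q1564 L14746 q1564, e3 q1565 L14755 q1565, e3 q1566 L21110 q2149, e3 q1567 (flp_d L14770) q1128, e3 q1568 L14789 q1568, e3 q1569 L14797 q1569, e3 q1570 (flp_d L14798) q1130, e3 q1571 (flp_d L21184) q2156, e3 q1572 L21211 q2157, e3 q1573 (flp_d L14838) q1133, e3 q1574 L14857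 q1574, e3 q1575 L14865 q1575, e3 q1576 L14868 q1576, e3 q1577 L21278 q2164, e3 q1578 L14885 q1578, e3 q1579 (flp_d L14901) q1138, e3 q1580 L14920 q1580, e3 q1581 L14930 q1158, e3 q1582 L14934 q1582, e3 q1583 L21380 q2173, e3 q1584 L14953 q1161, e3 q1585 L14985 q1585, e3 q1586 L14988 q1586, e3 q1587 L21470 q2178, e3 q1588 L15007 q1164, e3 q1589 L15013 q1589, e3 q1590 L21508 q2182, e3 q1591 (flp_d L15026) q1146, e3 q1592 (flp_d L21526) q2184, e3 q1593 L15046 q1169, e3 q1594 L15091 q1594, e3 q1595 L21637 q2189, e3 q1596 (flp_d L15113) q1150, e3 q1597 (flp_d L21659) q2191, e3 q1598 L15137 q1174, e3 q1599 L21691 q2194, trivial⟩ (by decide +kernel)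

theorem ce_d_25 : ∀ r, r < 64 → sm gd (Qf (1600 + r)) = Qf (tab Gen.d (1600 + r)) :=
  edges_tab (sm gd) Qf (tab Gen.d) 1600 [(1600, 1153), (1601, 2197), (1602, 1155), (1603, 1603), (1604, 2201), (1605, 1181), (1606, 1606), (1607, 2207), (1608, 2170), (1609, 1609), (1610, 2211), (1611, 1160), (1612, 2213), (1613, 2175), (1614, 1614), (1615, 2218), (1616, 1163), (1617, 2220), (1618, 2180), (1619, 2224), (1620, 1166), (1621, 2227), (1622, 1168), (1623, 1206), (1624, 2231), (1625, 2187), (1626, 2235), (1627, 1171), (1628, 2238), (1629, 1173), (1630, 1630), (1631, 2242), (1632, 2193), (1633, 1175), (1634, 2247), (1635, 2043), (1636, 1177), (1637, 1213), (1638, 2252), (1639, 1194), (1640, 1180), (1641, 1216), (1642, 1217), (1643, 2257), (1644, 1182), (1645, 2261), (1646, 2054), (1647, 1184), (1648, 1648), (1649, 2267), (1650, 2241), (1651, 1187), (1652, 1652), (1653, 2272), (1654, 2063), (1655, 1190), (1656, 2277), (1657, 2067), (1658, 2251), (1659, 1193), (1660, 2282), (1661, 2255), (1662, 1196), (1663, 2285)]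
    ⟨e3 q1600 (flp_d L15150) q1153, e3 q1601 (flp_d L21718) q2197, e3 q1602 L15169 q1155, e3 q1603 L15180 q1603, e3 q1604 (flp_d L21749) q2201, e3 q1605 L15193 q1181, e3 q1606 L15200 q1606, e3 q1607 L21801 q2207, e3 q1608 (flp_d L21357) q2170, e3 q1609 L15232 q1609, e3 q1610 L21843 q2211, e3 q1611 (flp_d L15250) q1160, e3 q1612 (flp_d L21864) q2213, e3 q1613 (flp_d L21403) q2175, e3 q1614 L15279 q1614, e3 q1615 L21909 q2218, e3 q1616 (flp_d L15297) q1163, e3 q1617 (flp_d L21930) q2220, e3 q1618 (flp_d L21493) q2180, e3 q1619 L21964 q2224, e3 q1620 (flp_d L15336) q1166, e3 q1621 (flp_d L21991) q2227, e3 q1622 L15354 q1168, e3 q1623 L15363 q1206, e3 q1624 (flp_d L22021) q2231, e3 q1625 (flp_d L21551) q2187, e3 q1626 L22053 q2235, e3 q1627 (flp_d L15395) q1171, e3 q1628 (flp_d L22085) q2238, e3 q1629 L15417 q1173, e3 q1630 L15428 q1630, e3 q1631 (flp_d L22120) q2242, e3 q1632 (flp_d L21685) q2193, e3 q1633 (flp_d L15450) q1175, e3 q1634 (flp_d L22165) q2247, e3 q1635 (flp_d L20192) q2043, e3 q1636 L15477 q1177, e3 q1637 L15486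 q1213, e3 q1638 (flp_d L22211) q2252, e3 q1639 L15501 q1194, e3 q1640 L15508 q1180, e3 q1641 L15517 q1216, e3 q1642 L15523 q1217, e3 q1643 (flp_d L22260) q2257, e3 q1644 (flp_d L15538) q1182, e3 q1645 (flp_d L22295) q2261, e3 q1646 (flp_d L20280) q2054, e3 q1647 L15571 q1184, e3 q1648 L15583 q1648, e3 q1649 (flp_d L22350) q2267, e3 q1650 (flp_d L22113) q2241, e3 q1651 L15607 q1187, e3 q1652 L15620 q1652, e3 q1653 (flp_d L22397) q2272, e3 q1654 (flp_d L20357) q2063, e3 q1655 L15647 q1190, e3 q1656 (flp_d L22445) q2277, e3 q1657 (flp_d L20391) q2067, e3 q1658 (flp_d L22204) q2251, e3 q1659 L15678 q1193, e3 q1660 (flp_d L22485) q2282, e3 q1661 (flp_d L22243) q2255, e3 q1662 L15703 q1196, e3 q1663 L22507 q2285, trivial⟩ (by decide +kernel)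

theorem ce_d_26 : ∀ r, r < 64 → sm gd (Qf (1664 + r)) = Qf (tab Gen.d (1664 + r)) :=
  edges_tab (sm gd) Qf (tab Gen.d) 1664 [(1664, 1198), (1665, 2288), (1666, 1200), (1667, 2214), (1668, 2292), (1669, 1669), (1670, 1202), (1671, 2297), (1672, 2088), (1673, 1204), (1674, 2228), (1675, 2302), (1676, 1676), (1677, 1207), (1678, 2232), (1679, 2233), (1680, 2307), (1681, 2097), (1682, 1210), (1683, 2311), (1684, 2101), (1685, 2315), (1686, 1214), (1687, 2253), (1688, 2316), (1689, 1218), (1690, 2258), (1691, 2259), (1692, 1692), (1693, 1221), (1694, 2321), (1695, 1695), (1696, 1223), (1697, 1697), (1698, 2326), (1699, 1699), (1700, 1226), (1701, 1701), (1702, 1702), (1703, 1703), (1704, 1228), (1705, 1705), (1706, 2336), (1707, 1707), (1708, 1708), (1709, 2338), (1710, 1710), (1711, 1236), (1712, 1712), (1713, 2342), (1714, 1714), (1715, 1715), (1716, 1716), (1717, 2347), (1718, 1240), (1719, 1719), (1720, 1720), (1721, 2353), (1722, 1243), (1723, 2355), (1724, 2356), (1725, 1246), (1726, 1726), (1727, 1727)]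
    ⟨e3 q1664 (flp_d L15718) q1198, e3 q1665 (flp_d L22542) q2288, e3 q1666 L15741 q1200, e3 q1667 (flp_d L21876) q2214, e3 q1668 (flp_d L22579) q2292, e3 q1669 L15769 q1669, e3 q1670 (flp_d L15775) q1202, e3 q1671 (flp_d L22629) q2297, e3 q1672 (flp_d L20571) q2088, e3 q1673 L15806 q1204, e3 q1674 (flp_d L22000) q2228, e3 q1675 (flp_d L22679) q2302, e3 q1676 L15831 q1676, e3 q1677 L15839 q1207, e3 q1678 (flp_d L22031) q2232, e3 q1679 (flp_d L22037) q2233, e3 q1680 (flp_d L22731) q2307, e3 q1681 (flp_d L20643) q2097, e3 q1682 L15885 q1210, e3 q1683 (flp_d L22786) q2311, e3 q1684 (flp_d L20676) q2101, e3 q1685 L22836 q2315, e3 q1686 L15928 q1214, e3 q1687 (flp_d L22220) q2253, e3 q1688 (flp_d L22853) q2316, e3 q1689 L15961 q1218, e3 q1690 (flp_d L22269) q2258, e3 q1691 (flp_d L22275) q2259, e3 q1692 L15990 q1692, e3 q1693 (flp_d L15994) q1221, e3 q1694 (flp_d L22907) q2321, e3 q1695 L16023 q1695, e3 q1696 L16028 q1223, e3 q1697 L16040 q1697, e3 q1698 (flp_d L22963) q2326, e3 q1699 L16059 q1699, e3 q1700 L16065 q1226, e3 q1701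 L16079 q1701, e3 q1702 L16085 q1702, e3 q1703 L16097 q1703, e3 q1704 L16104 q1228, e3 q1705 L16122 q1705, e3 q1706 L23096 q2336, e3 q1707 L16138 q1707, e3 q1708 L16146 q1708, e3 q1709 L23127 q2338, e3 q1710 L16168 q1710, e3 q1711 (flp_d L16200) q1236, e3 q1712 L16217 q1712, e3 q1713 L23204 q2342, e3 q1714 L16237 q1714, e3 q1715 L16245 q1715, e3 q1716 L16253 q1716, e3 q1717 L23255 q2347, e3 q1718 (flp_d L16267) q1240, e3 q1719 L16283 q1719, e3 q1720 L16291 q1720, e3 q1721 L23307 q2353, e3 q1722 (flp_d L16313) q1243, e3 q1723 (flp_d L23349) q2355, e3 q1724 L23373 q2356, e3 q1725 (flp_d L16347) q1246, e3 q1726 L16365 q1726, e3 q1727 L16373 q1727, trivial⟩ (by decide +kernel)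

theorem ce_d_27 : ∀ r, r < 64 → sm gd (Qf (1728 + r)) = Qf (tab Gen.d (1728 + r)) :=
  edges_tab (sm gd) Qf (tab Gen.d) 1728 [(1728, 1728), (1729, 2361), (1730, 1730), (1731, 1250), (1732, 1732), (1733, 1252), (1734, 1253), (1735, 2366), (1736, 2368), (1737, 1737), (1738, 2371), (1739, 1258), (1740, 2373), (1741, 1741), (1742, 1742), (1743, 2378), (1744, 1285), (1745, 2381), (1746, 1264), (1747, 2383), (1748, 1290), (1749, 1749), (1750, 1267), (1751, 2388), (1752, 1295), (1753, 1269), (1754, 2392), (1755, 1271), (1756, 1756), (1757, 2396), (1758, 1302), (1759, 1759), (1760, 1275), (1761, 2401), (1762, 1309), (1763, 1763), (1764, 1278), (1765, 1765), (1766, 2405), (1767, 1767), (1768, 1281), (1769, 1769), (1770, 2410), (1771, 1771), (1772, 2413), (1773, 1284), (1774, 2415), (1775, 2380), (1776, 2419), (1777, 1287), (1778, 2421), (1779, 1289), (1780, 1341), (1781, 2424), (1782, 2386), (1783, 2427), (1784, 1292), (1785, 2429), (1786, 1294), (1787, 1787), (1788, 2432), (1789, 2390), (1790, 1296), (1791, 2435)]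
    ⟨e3 q1728 L16376 q1728, e3 q1729 L23443 q2361, e3 q1730 L16393 q1730, e3 q1731 (flp_d L16399) q1250, e3 q1732 L16433 q1732, e3 q1733 L16437 q1252, e3 q1734 (flp_d L16458) q1253, e3 q1735 (flp_d L23557) q2366, e3 q1736 L23601 q2368, e3 q1737 L16499 q1737, e3 q1738 L23632 q2371, e3 q1739 (flp_d L16519) q1258, e3 q1740 (flp_d L23649) q2373, e3 q1741 L16534 q1741, e3 q1742 L16574 q1742, e3 q1743 L23747 q2378, e3 q1744 L16596 q1285, e3 q1745 L23782 q2381, e3 q1746 (flp_d L16619) q1264, e3 q1747 (flp_d L23802) q2383, e3 q1748 L16637 q1290, e3 q1749 L16685 q1749, e3 q1750 (flp_d L16706) q1267, e3 q1751 (flp_d L23938) q2388, e3 q1752 L16724 q1295, e3 q1753 (flp_d L16738) q1269, e3 q1754 (flp_d L23991) q2392, e3 q1755 L16755 q1271, e3 q1756 L16764 q1756, e3 q1757 (flp_d L24018) q2396, e3 q1758 L16775 q1302, e3 q1759 L16853 q1759, e3 q1760 L16887 q1275, e3 q1761 (flp_d L24224) q2401, e3 q1762 L16908 q1309, e3 q1763 L16934 q1763, e3 q1764 L16939 q1278, e3 q1765 L16948 q1765, e3 q1766 (flp_d L24306) q2405, e3 q1767 L16961 q1767,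 e3 q1768 L16967 q1281, e3 q1769 L16976 q1769, e3 q1770 (flp_d L24350) q2410, e3 q1771 L16994 q1771, e3 q1772 L24379 q2413, e3 q1773 (flp_d L17013) q1284, e3 q1774 (flp_d L24402) q2415, e3 q1775 (flp_d L23768) q2380, e3 q1776 L24434 q2419, e3 q1777 (flp_d L17049) q1287, e3 q1778 (flp_d L24463) q2421, e3 q1779 L17069 q1289, e3 q1780 L17079 q1341, e3 q1781 (flp_d L24494) q2424, e3 q1782 (flp_d L23824) q2386, e3 q1783 L24523 q2427, e3 q1784 (flp_d L17108) q1292, e3 q1785 (flp_d L24553) q2429, e3 q1786 L17128 q1294, e3 q1787 L17137 q1787, e3 q1788 (flp_d L24584) q2432, e3 q1789 (flp_d L23960) q2390, e3 q1790 (flp_d L17157) q1296, e3 q1791 (flp_d L24625) q2435, trivial⟩ (by decide +kernel)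

theorem ce_d_28 : ∀ r, r < 64 → sm gd (Qf (1792 + r)) = Qf (tab Gen.d (1792 + r)) :=
  edges_tab (sm gd) Qf (tab Gen.d) 1792 [(1792, 1298), (1793, 2438), (1794, 1794), (1795, 1301), (1796, 1350), (1797, 2442), (1798, 1303), (1799, 2444), (1800, 1305), (1801, 2447), (1802, 1324), (1803, 1308), (1804, 1804), (1805, 2451), (1806, 1311), (1807, 2454), (1808, 1332), (1809, 1313), (1810, 2457), (1811, 1335), (1812, 1812), (1813, 1317), (1814, 1357), (1815, 1815), (1816, 1319), (1817, 1817), (1818, 2466), (1819, 1819), (1820, 2472), (1821, 2446), (1822, 1323), (1823, 1823), (1824, 2475), (1825, 2449), (1826, 2480), (1827, 1327), (1828, 1828), (1829, 1829), (1830, 1830), (1831, 2453), (1832, 1330), (1833, 2486), (1834, 2487), (1835, 1835), (1836, 2456), (1837, 1334), (1838, 2458), (1839, 2459), (1840, 1337), (1841, 2493), (1842, 1339), (1843, 2496), (1844, 1844), (1845, 1342), (1846, 2425), (1847, 2500), (1848, 1345), (1849, 2503), (1850, 1850), (1851, 1347), (1852, 2506), (1853, 1853), (1854, 2509), (1855, 1351)]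
    ⟨e3 q1792 L17182 q1298, e3 q1793 (flp_d L24668) q2438, e3 q1794 L17205 q1794, e3 q1795 L17209 q1301, e3 q1796 L17217 q1350, e3 q1797 (flp_d L24711) q2442, e3 q1798 (flp_d L17235) q1303, e3 q1799 (flp_d L24742) q2444, e3 q1800 L17265 q1305, e3 q1801 (flp_d L24792) q2447, e3 q1802 L17292 q1324, e3 q1803 L17297 q1308, e3 q1804 L17306 q1804, e3 q1805 (flp_d L24840) q2451, e3 q1806 L17335 q1311, e3 q1807 (flp_d L24891) q2454, e3 q1808 L17372 q1332, e3 q1809 L17379 q1313, e3 q1810 (flp_d L24971) q2457, e3 q1811 L17410 q1335, e3 q1812 L17420 q1812, e3 q1813 L17423 q1317, e3 q1814 L17430 q1357, e3 q1815 L17448 q1815, e3 q1816 L17453 q1319, e3 q1817 L17465 q1817, e3 q1818 (flp_d L25071) q2466, e3 q1819 L17481 q1819, e3 q1820 L25122 q2472, e3 q1821 (flp_d L24785) q2446, e3 q1822 L17506 q1323, e3 q1823 L17518 q1823, e3 q1824 (flp_d L25151) q2475, e3 q1825 (flp_d L24826) q2449, e3 q1826 L25189 q2480, e3 q1827 L17548 q1327, e3 q1828 L17560 q1828, e3 q1829 L17564 q1829, e3 q1830 L17576 q1830, e3 q1831 (flp_d L24884) q2453, e3 q1832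 L17590 q1330, e3 q1833 (flp_d L25241) q2486, e3 q1834 L25246 q2487, e3 q1835 L17616 q1835, e3 q1836 (flp_d L24954) q2456, e3 q1837 L17630 q1334, e3 q1838 (flp_d L24993) q2458, e3 q1839 (flp_d L24998) q2459, e3 q1840 (flp_d L17648) q1337, e3 q1841 (flp_d L25306) q2493, e3 q1842 L17681 q1339, e3 q1843 (flp_d L25361) q2496, e3 q1844 L17709 q1844, e3 q1845 L17715 q1342, e3 q1846 (flp_d L24503) q2425, e3 q1847 (flp_d L25412) q2500, e3 q1848 L17758 q1345, e3 q1849 (flp_d L25471) q2503, e3 q1850 L17799 q1850, e3 q1851 L17806 q1347, e3 q1852 (flp_d L25561) q2506, e3 q1853 L17838 q1853, e3 q1854 L25597 q2509, e3 q1855 L17853 q1351, trivial⟩ (by decide +kernel)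

theorem ce_d_29 : ∀ r, r < 64 → sm gd (Qf (1856 + r)) = Qf (tab Gen.d (1856 + r)) :=
  edges_tab (sm gd) Qf (tab Gen.d) 1856 [(1856, 2443), (1857, 1353), (1858, 2511), (1859, 1355), (1860, 2461), (1861, 1360), (1862, 2513), (1863, 1863), (1864, 1362), (1865, 1865), (1866, 2517), (1867, 1867), (1868, 1868), (1869, 1368), (1870, 1870), (1871, 1370), (1872, 1872), (1873, 1873), (1874, 2522), (1875, 1374), (1876, 1876), (1877, 1877), (1878, 1878), (1879, 2527), (1880, 1388), (1881, 2529), (1882, 1382), (1883, 1383), (1884, 1884), (1885, 1885), (1886, 1886), (1887, 2539), (1888, 1888), (1889, 1889), (1890, 2543), (1891, 2544), (1892, 1390), (1893, 1391), (1894, 1450), (1895, 1895), (1896, 1393), (1897, 1454), (1898, 1406), (1899, 1457), (1900, 1409), (1901, 1459), (1902, 2562), (1903, 1412), (1904, 1464), (1905, 2566), (1906, 1417), (1907, 1467), (1908, 2570), (1909, 1401), (1910, 2572), (1911, 1422), (1912, 1403), (1913, 1472), (1914, 2553), (1915, 1474), (1916, 2583), (1917, 2556), (1918, 1918), (1919, 1919)]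
    ⟨e3 q1856 (flp_d L24721) q2443, e3 q1857 L17902 q1353, e3 q1858 (flp_d L25681) q2511, e3 q1859 L17966 q1355, e3 q1860 (flp_d L25022) q2461, e3 q1861 L18015 q1360, e3 q1862 (flp_d L25814) q2513, e3 q1863 L18064 q1863, e3 q1864 L18069 q1362, e3 q1865 L18095 q1865, e3 q1866 L25933 q2517, e3 q1867 L18114 q1867, e3 q1868 L18156 q1868, e3 q1869 (flp_d L18220) q1368, e3 q1870 L18308 q1870, e3 q1871 L18315 q1370, e3 q1872 L18388 q1872, e3 q1873 L18425 q1873, e3 q1874 L26393 q2522, e3 q1875 (flp_d L18439) q1374, e3 q1876 L18609 q1876, e3 q1877 L18678 q1877, e3 q1878 L18688 q1878, e3 q1879 L26733 q2527, e3 q1880 L18709 q1388, e3 q1881 L26751 q2529, e3 q1882 (flp_d L18725) q1382, e3 q1883 (flp_d L18735) q1383, e3 q1884 L18753 q1884, e3 q1885 L18763 q1885, e3 q1886 L18766 q1886, e3 q1887 L26847 q2539, e3 q1888 L18786 q1888, e3 q1889 L18798 q1889, e3 q1890 L26886 q2543, e3 q1891 L26894 q2544, e3 q1892 (flp_d L18828) q1390, e3 q1893 (flp_d L18836) q1391, e3 q1894 L18852 q1450, e3 q1895 L18859 q1895, e3 q1896 (flp_d L18860) q1393, e3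 q1897 L18876 q1454, e3 q1898 L18885 q1406, e3 q1899 L18895 q1457, e3 q1900 L18906 q1409, e3 q1901 L18910 q1459, e3 q1902 L27053 q2562, e3 q1903 L18926 q1412, e3 q1904 L18930 q1464, e3 q1905 L27095 q2566, e3 q1906 L18951 q1417, e3 q1907 L18961 q1467, e3 q1908 L27132 q2570, e3 q1909 (flp_d L18972) q1401, e3 q1910 (flp_d L27151) q2572, e3 q1911 L18991 q1422, e3 q1912 (flp_d L18994) q1403, e3 q1913 L19014 q1472, e3 q1914 (flp_d L26983) q2553, e3 q1915 L19027 q1474, e3 q1916 L27248 q2583, e3 q1917 (flp_d L27005) q2556, e3 q1918 L19061 q1918, e3 q1919 L19071 q1919, trivial⟩ (by decide +kernel)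

theorem ce_d_30 : ∀ r, r < 64 → sm gd (Qf (1920 + r)) = Qf (tab Gen.d (1920 + r)) :=
  edges_tab (sm gd) Qf (tab Gen.d) 1920 [(1920, 1477), (1921, 2591), (1922, 2559), (1923, 1480), (1924, 2595), (1925, 1411), (1926, 2597), (1927, 2564), (1928, 1928), (1929, 2603), (1930, 1930), (1931, 1485), (1932, 2607), (1933, 1416), (1934, 2609), (1935, 2568), (1936, 2613), (1937, 1419), (1938, 2616), (1939, 1421), (1940, 1940), (1941, 2620), (1942, 2575), (1943, 1943), (1944, 2626), (1945, 1427), (1946, 1946), (1947, 2630), (1948, 1426), (1949, 2632), (1950, 2628), (1951, 2636), (1952, 1429), (1953, 2639), (1954, 1431), (1955, 2633), (1956, 2643), (1957, 1957), (1958, 1433), (1959, 2648), (1960, 1960), (1961, 1435), (1962, 1962), (1963, 2654), (1964, 2619), (1965, 1438), (1966, 1966), (1967, 1967), (1968, 2660), (1969, 1969), (1970, 1441), (1971, 2666), (1972, 1442), (1973, 1973), (1974, 2670), (1975, 1445), (1976, 2545), (1977, 1977), (1978, 2676), (1979, 1448), (1980, 2547), (1981, 1981), (1982, 2549), (1983, 2684)]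
    ⟨e3 q1920 L19074 q1477, e3 q1921 L27321 q2591, e3 q1922 (flp_d L27033) q2559, e3 q1923 L19101 q1480, e3 q1924 L27356 q2595, e3 q1925 (flp_d L19116) q1411, e3 q1926 (flp_d L27374) q2597, e3 q1927 (flp_d L27071) q2564, e3 q1928 L19140 q1928, e3 q1929 L27421 q2603, e3 q1930 L19161 q1930, e3 q1931 L19171 q1485, e3 q1932 L27458 q2607, e3 q1933 (flp_d L19187) q1416, e3 q1934 (flp_d L27480) q2609, e3 q1935 (flp_d L27119) q2568, e3 q1936 L27509 q2613, e3 q1937 (flp_d L19221) q1419, e3 q1938 (flp_d L27537) q2616, e3 q1939 L19240 q1421, e3 q1940 L19249 q1940, e3 q1941 (flp_d L27567) q2620, e3 q1942 (flp_d L27172) q2575, e3 q1943 L19268 q1943, e3 q1944 L27611 q2626, e3 q1945 L19288 q1427, e3 q1946 L19297 q1946, e3 q1947 L27650 q2630, e3 q1948 (flp_d L19314) q1426, e3 q1949 (flp_d L27670) q2632, e3 q1950 (flp_d L27633) q2628, e3 q1951 L27700 q2636, e3 q1952 (flp_d L19348) q1429, e3 q1953 (flp_d L27734) q2639, e3 q1954 L19370 q1431, e3 q1955 (flp_d L27680) q2633, e3 q1956 (flp_d L27768) q2643, e3 q1957 L19395 q1957, e3 q1958 (flp_d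 L19400) q1433, e3 q1959 (flp_d L27813) q2648, e3 q1960 L19424 q1960, e3 q1961 L19429 q1435, e3 q1962 L19440 q1962, e3 q1963 (flp_d L27861) q2654, e3 q1964 (flp_d L27560) q2619, e3 q1965 L19459 q1438, e3 q1966 L19469 q1966, e3 q1967 L19474 q1967, e3 q1968 (flp_d L27908) q2660, e3 q1969 L19497 q1969, e3 q1970 L19504 q1441, e3 q1971 L27962 q2666, e3 q1972 (flp_d L19522) q1442, e3 q1973 L19538 q1973, e3 q1974 L28003 q2670, e3 q1975 (flp_d L19555) q1445, e3 q1976 (flp_d L26912) q2545, e3 q1977 L19582 q1977, e3 q1978 L28062 q2676, e3 q1979 (flp_d L19594) q1448, e3 q1980 (flp_d L26930) q2547, e3 q1981 L19621 q1981, e3 q1982 (flp_d L26943) q2549, e3 q1983 L28134 q2684, trivial⟩ (by decide +kernel)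

theorem ce_d_31 : ∀ r, r < 64 → sm gd (Qf (1984 + r)) = Qf (tab Gen.d (1984 + r)) :=
  edges_tab (sm gd) Qf (tab Gen.d) 1984 [(1984, 1984), (1985, 1452), (1986, 2552), (1987, 1473), (1988, 2554), (1989, 2694), (1990, 1476), (1991, 1991), (1992, 1992), (1993, 2557), (1994, 2700), (1995, 1479), (1996, 2560), (1997, 2704), (1998, 1460), (1999, 2706), (2000, 1484), (2001, 2710), (2002, 2002), (2003, 2713), (2004, 1465), (2005, 2715), (2006, 1489), (2007, 2719), (2008, 1468), (2009, 2722), (2010, 1470), (2011, 2011), (2012, 2726), (2013, 1496), (2014, 2578), (2015, 2732), (2016, 2691), (2017, 2581), (2018, 2736), (2019, 1475), (2020, 2738), (2021, 2696), (2022, 2589), (2023, 2743), (2024, 1478), (2025, 2745), (2026, 2702), (2027, 2749), (2028, 1481), (2029, 2752), (2030, 1483), (2031, 1524), (2032, 2756), (2033, 2709), (2034, 2760), (2035, 1486), (2036, 2763), (2037, 1488), (2038, 2038), (2039, 2767), (2040, 2718), (2041, 1490), (2042, 2772), (2043, 1635), (2044, 1492), (2045, 1531), (2046, 2778), (2047, 1510)]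
    ⟨e3 q1984 L19642 q1984, e3 q1985 (flp_d L19646) q1452, e3 q1986 (flp_d L26971) q2552, e3 q1987 L19675 q1473, e3 q1988 (flp_d L26987) q2554, e3 q1989 L28228 q2694, e3 q1990 L19699 q1476, e3 q1991 L19712 q1991, e3 q1992 L19723 q1992, e3 q1993 (flp_d L27011) q2557, e3 q1994 L28301 q2700, e3 q1995 L19746 q1479, e3 q1996 (flp_d L27041) q2560, e3 q1997 L28338 q2704, e3 q1998 (flp_d L19767) q1460, e3 q1999 (flp_d L28356) q2706, e3 q2000 L19785 q1484, e3 q2001 L28405 q2710, e3 q2002 L19814 q2002, e3 q2003 L28442 q2713, e3 q2004 (flp_d L19838) q1465, e3 q2005 (flp_d L28464) q2715, e3 q2006 L19860 q1489, e3 q2007 L28494 q2719, e3 q2008 (flp_d L19874) q1468, e3 q2009 (flp_d L28521) q2722, e3 q2010 L19893 q1470, e3 q2011 L19902 q2011, e3 q2012 (flp_d L28550) q2726, e3 q2013 L19915 q1496, e3 q2014 (flp_d L27200) q2578, e3 q2015 L28600 q2732, e3 q2016 (flp_d L28203) q2691, e3 q2017 (flp_d L27231) q2581, e3 q2018 L28641 q2736, e3 q2019 (flp_d L19975) q1475, e3 q2020 (flp_d L28662) q2738, e3 q2021 (flp_d L28249) q2696, e3 q2022 (flp_d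 L27304) q2589, e3 q2023 L28706 q2743, e3 q2024 (flp_d L20022) q1478, e3 q2025 (flp_d L28727) q2745, e3 q2026 (flp_d L28322) q2702, e3 q2027 L28759 q2749, e3 q2028 (flp_d L20060) q1481, e3 q2029 (flp_d L28786) q2752, e3 q2030 L20078 q1483, e3 q2031 L20085 q1524, e3 q2032 (flp_d L28814) q2756, e3 q2033 (flp_d L28379) q2709, e3 q2034 L28842 q2760, e3 q2035 (flp_d L20118) q1486, e3 q2036 (flp_d L28874) q2763, e3 q2037 L20140 q1488, e3 q2038 L20149 q2038, e3 q2039 (flp_d L28907) q2767, e3 q2040 (flp_d L28488) q2718, e3 q2041 (flp_d L20171) q1490, e3 q2042 (flp_d L28948) q2772, e3 q2043 L20192 q1635, e3 q2044 L20198 q1492, e3 q2045 L20206 q1531, e3 q2046 (flp_d L28993) q2778, e3 q2047 L20222 q1510, trivial⟩ (by decide +kernel)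

theorem ce_d_32 : ∀ r, r < 64 → sm gd (Qf (2048 + r)) = Qf (tab Gen.d (2048 + r)) :=
  edges_tab (sm gd) Qf (tab Gen.d) 2048 [(2048, 1495), (2049, 1535), (2050, 1536), (2051, 2784), (2052, 1497), (2053, 2787), (2054, 1646), (2055, 1499), (2056, 2056), (2057, 2791), (2058, 2766), (2059, 1502), (2060, 2060), (2061, 2061), (2062, 2796), (2063, 1654), (2064, 1505), (2065, 1539), (2066, 2801), (2067, 1657), (2068, 2068), (2069, 2777), (2070, 1509), (2071, 1543), (2072, 1544), (2073, 2809), (2074, 2782), (2075, 2815), (2076, 1514), (2077, 1549), (2078, 1550), (2079, 2819), (2080, 1516), (2081, 2822), (2082, 1518), (2083, 2739), (2084, 2826), (2085, 2085), (2086, 1520), (2087, 2831), (2088, 1672), (2089, 1522), (2090, 2753), (2091, 2837), (2092, 2092), (2093, 1525), (2094, 2757), (2095, 2758), (2096, 2843), (2097, 1681), (2098, 1528), (2099, 2773), (2100, 2849), (2101, 1684), (2102, 2856), (2103, 1541), (2104, 1532), (2105, 2779), (2106, 2780), (2107, 2860), (2108, 1546), (2109, 2866), (2110, 1537), (2111, 2785)]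
    ⟨e3 q2048 L20227 q1495, e3 q2049 L20235 q1535, e3 q2050 L20240 q1536, e3 q2051 (flp_d L29038) q2784, e3 q2052 (flp_d L20253) q1497, e3 q2053 (flp_d L29071) q2787, e3 q2054 L20280 q1646, e3 q2055 L20286 q1499, e3 q2056 L20297 q2056, e3 q2057 (flp_d L29123) q2791, e3 q2058 (flp_d L28902) q2766, e3 q2059 L20319 q1502, e3 q2060 L20331 q2060, e3 q2061 L20336 q2061, e3 q2062 (flp_d L29175) q2796, e3 q2063 L20357 q1654, e3 q2064 L20364 q1505, e3 q2065 L20374 q1539, e3 q2066 (flp_d L29236) q2801, e3 q2067 L20391 q1657, e3 q2068 L20401 q2068, e3 q2069 (flp_d L28987) q2777, e3 q2070 L20411 q1509, e3 q2071 L20421 q1543, e3 q2072 L20427 q1544, e3 q2073 (flp_d L29317) q2809, e3 q2074 (flp_d L29025) q2782, e3 q2075 L29359 q2815, e3 q2076 L20458 q1514, e3 q2077 L20469 q1549, e3 q2078 L20475 q1550, e3 q2079 L29391 q2819, e3 q2080 (flp_d L20491) q1516, e3 q2081 (flp_d L29426) q2822, e3 q2082 L20514 q1518, e3 q2083 (flp_d L28672) q2739, e3 q2084 (flp_d L29461) q2826, e3 q2085 L20540 q2085, e3 q2086 (flp_d L20546) q1520, e3 q2087 (flp_d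 L29507) q2831, e3 q2088 L20571 q1672, e3 q2089 L20577 q1522, e3 q2090 (flp_d L28794) q2753, e3 q2091 (flp_d L29556) q2837, e3 q2092 L20602 q2092, e3 q2093 L20608 q1525, e3 q2094 (flp_d L28823) q2757, e3 q2095 (flp_d L28828) q2758, e3 q2096 (flp_d L29604) q2843, e3 q2097 L20643 q1681, e3 q2098 L20650 q1528, e3 q2099 (flp_d L28957) q2773, e3 q2100 (flp_d L29666) q2849, e3 q2101 L20676 q1684, e3 q2102 L29721 q2856, e3 q2103 L20693 q1541, e3 q2104 L20700 q1532, e3 q2105 (flp_d L29002) q2779, e3 q2106 (flp_d L29008) q2780, e3 q2107 (flp_d L29756) q2860, e3 q2108 L20731 q1546, e3 q2109 L29800 q2866, e3 q2110 L20748 q1537, e3 q2111 (flp_d L29046) q2785, trivial⟩ (by decide +kernel)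

theorem ce_d_33 : ∀ r, r < 64 → sm gd (Qf (2112 + r)) = Qf (tab Gen.d (2112 + r)) :=
  edges_tab (sm gd) Qf (tab Gen.d) 2112 [(2112, 2786), (2113, 2848), (2114, 1540), (2115, 2802), (2116, 2652), (2117, 2872), (2118, 2858), (2119, 2878), (2120, 1545), (2121, 2810), (2122, 2811), (2123, 2863), (2124, 2864), (2125, 2885), (2126, 1547), (2127, 2888), (2128, 2817), (2129, 2818), (2130, 2130), (2131, 2892), (2132, 2893), (2133, 1553), (2134, 2891), (2135, 2887), (2136, 1555), (2137, 2137), (2138, 2897), (2139, 2139), (2140, 2140), (2141, 2141), (2142, 2902), (2143, 1561), (2144, 2144), (2145, 2145), (2146, 1563), (2147, 2909), (2148, 2910), (2149, 1566), (2150, 2150), (2151, 2151), (2152, 2152), (2153, 2917), (2154, 2154), (2155, 2155), (2156, 1571), (2157, 1572), (2158, 2920), (2159, 2159), (2160, 2923), (2161, 2161), (2162, 2162), (2163, 2927), (2164, 1577), (2165, 2929), (2166, 2166), (2167, 2167), (2168, 2168), (2169, 2935), (2170, 1608), (2171, 2171), (2172, 2939), (2173, 1583), (2174, 2941), (2175, 1613)]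
    ⟨e3 q2112 (flp_d L29051) q2786, e3 q2113 (flp_d L29658) q2848, e3 q2114 L20781 q1540, e3 q2115 (flp_d L29247) q2802, e3 q2116 L545964 q2652, e3 q2117 (flp_d L29855) q2872, e3 q2118 (flp_d L29739) q2858, e3 q2119 L29905 q2878, e3 q2120 L20836 q1545, e3 q2121 (flp_d L29328) q2810, e3 q2122 (flp_d L29334) q2811, e3 q2123 (flp_d L29778) q2863, e3 q2124 (flp_d L29786) q2864, e3 q2125 L29967 q2885, e3 q2126 (flp_d L20884) q1547, e3 q2127 (flp_d L29992) q2888, e3 q2128 (flp_d L29380) q2817, e3 q2129 (flp_d L29386) q2818, e3 q2130 L20921 q2130, e3 q2131 L30024 q2892, e3 q2132 (flp_d L647431) q2893, e3 q2133 (flp_d L20943) q1553, e3 q2134 (flp_d L630232) q2891, e3 q2135 (flp_d L29987) q2887, e3 q2136 L20971 q1555, e3 q2137 L20980 q2137, e3 q2138 L30100 q2897, e3 q2139 L21004 q2139, e3 q2140 L21013 q2140, e3 q2141 L21022 q2141, e3 q2142 L30165 q2902, e3 q2143 (flp_d L21037) q1561, e3 q2144 L21056 q2144, e3 q2145 L21065 q2145, e3 q2146 (flp_d L21066) q1563, e3 q2147 (flp_d L30240) q2909, e3 q2148 L30270 q2910, e3 q2149 (flp_d L21110)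 q1566, e3 q2150 L21131 q2150, e3 q2151 L21140 q2151, e3 q2152 L21143 q2152, e3 q2153 L30346 q2917, e3 q2154 L21162 q2154, e3 q2155 L21177 q2155, e3 q2156 L21184 q1571, e3 q2157 (flp_d L21211) q1572, e3 q2158 (flp_d L30434) q2920, e3 q2159 L21239 q2159, e3 q2160 L30480 q2923, e3 q2161 L21258 q2161, e3 q2162 L21265 q2162, e3 q2163 L30517 q2927, e3 q2164 (flp_d L21278) q1577, e3 q2165 (flp_d L30535) q2929, e3 q2166 L21298 q2166, e3 q2167 L21333 q2167, e3 q2168 L21336 q2168, e3 q2169 L30635 q2935, e3 q2170 L21357 q1608, e3 q2171 L21365 q2171, e3 q2172 L30676 q2939, e3 q2173 (flp_d L21380) q1583, e3 q2174 (flp_d L30697) q2941, e3 q2175 L21403 q1613, trivial⟩ (by decide +kernel)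

theorem ce_d_34 : ∀ r, r < 64 → sm gd (Qf (2176 + r)) = Qf (tab Gen.d (2176 + r)) :=
  edges_tab (sm gd) Qf (tab Gen.d) 2176 [(2176, 2176), (2177, 2946), (2178, 1587), (2179, 2948), (2180, 1618), (2181, 2951), (2182, 1590), (2183, 2954), (2184, 1592), (2185, 2185), (2186, 2958), (2187, 1625), (2188, 2188), (2189, 1595), (2190, 2964), (2191, 1597), (2192, 2967), (2193, 1632), (2194, 1599), (2195, 2970), (2196, 2721), (2197, 1601), (2198, 2198), (2199, 2976), (2200, 2200), (2201, 1604), (2202, 2202), (2203, 2203), (2204, 2982), (2205, 2205), (2206, 2986), (2207, 1607), (2208, 2988), (2209, 2937), (2210, 2992), (2211, 1610), (2212, 2995), (2213, 1612), (2214, 1667), (2215, 2999), (2216, 2944), (2217, 3003), (2218, 1615), (2219, 3006), (2220, 1617), (2221, 2221), (2222, 3010), (2223, 2950), (2224, 1619), (2225, 3015), (2226, 2751), (2227, 1621), (2228, 1674), (2229, 3020), (2230, 2230), (2231, 1624), (2232, 1678), (2233, 1679), (2234, 3025), (2235, 1626), (2236, 3029), (2237, 2762), (2238, 1628), (2239, 2239)]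
    ⟨e3 q2176 L21449 q2176, e3 q2177 L30812 q2946, e3 q2178 (flp_d L21470) q1587, e3 q2179 (flp_d L30833) q2948, e3 q2180 L21493 q1618, e3 q2181 L30866 q2951, e3 q2182 (flp_d L21508) q1590, e3 q2183 (flp_d L30893) q2954, e3 q2184 L21526 q1592, e3 q2185 L21537 q2185, e3 q2186 (flp_d L30923) q2958, e3 q2187 L21551 q1625, e3 q2188 L21623 q2188, e3 q2189 (flp_d L21637) q1595, e3 q2190 (flp_d L31096) q2964, e3 q2191 L21659 q1597, e3 q2192 (flp_d L31131) q2967, e3 q2193 L21685 q1632, e3 q2194 (flp_d L21691) q1599, e3 q2195 (flp_d L31176) q2970, e3 q2196 (flp_d L28515) q2721, e3 q2197 L21718 q1601, e3 q2198 L21727 q2198, e3 q2199 (flp_d L31222) q2976, e3 q2200 L21741 q2200, e3 q2201 L21749 q1604, e3 q2202 L21760 q2202, e3 q2203 L21767 q2203, e3 q2204 (flp_d L31271) q2982, e3 q2205 L21781 q2205, e3 q2206 L31305 q2986, e3 q2207 (flp_d L21801) q1607, e3 q2208 (flp_d L31329) q2988, e3 q2209 (flp_d L30661) q2937, e3 q2210 L31366 q2992, e3 q2211 (flp_d L21843) q1610, e3 q2212 (flp_d L31397) q2995, e3 q2213 L21864 q1612, e3 q2214 L21876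 q1667, e3 q2215 (flp_d L31431) q2999, e3 q2216 (flp_d L30724) q2944, e3 q2217 L31466 q3003, e3 q2218 (flp_d L21909) q1615, e3 q2219 (flp_d L31498) q3006, e3 q2220 L21930 q1617, e3 q2221 L21941 q2221, e3 q2222 (flp_d L31532) q3010, e3 q2223 (flp_d L30860) q2950, e3 q2224 (flp_d L21964) q1619, e3 q2225 (flp_d L31580) q3015, e3 q2226 (flp_d L28780) q2751, e3 q2227 L21991 q1621, e3 q2228 L22000 q1674, e3 q2229 (flp_d L31625) q3020, e3 q2230 L22015 q2230, e3 q2231 L22021 q1624, e3 q2232 L22031 q1678, e3 q2233 L22037 q1679, e3 q2234 (flp_d L31673) q3025, e3 q2235 (flp_d L22053) q1626, e3 q2236 (flp_d L31709) q3029, e3 q2237 (flp_d L28868) q2762, e3 q2238 L22085 q1628, e3 q2239 L22096 q2239, trivial⟩ (by decide +kernel)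

theorem ce_d_35 : ∀ r, r < 64 → sm gd (Qf (2240 + r)) = Qf (tab Gen.d (2240 + r)) :=
  edges_tab (sm gd) Qf (tab Gen.d) 2240 [(2240, 3034), (2241, 1650), (2242, 1631), (2243, 2243), (2244, 2244), (2245, 3039), (2246, 2771), (2247, 1634), (2248, 3044), (2249, 2775), (2250, 3049), (2251, 1658), (2252, 1638), (2253, 1687), (2254, 3052), (2255, 1661), (2256, 2256), (2257, 1643), (2258, 1690), (2259, 1691), (2260, 2640), (2261, 1645), (2262, 2262), (2263, 3062), (2264, 2789), (2265, 2629), (2266, 3033), (2267, 1649), (2268, 2268), (2269, 3070), (2270, 3037), (2271, 3075), (2272, 1653), (2273, 2273), (2274, 2645), (2275, 2799), (2276, 3043), (2277, 1656), (2278, 3081), (2279, 3082), (2280, 2805), (2281, 3050), (2282, 1660), (2283, 3054), (2284, 3055), (2285, 1663), (2286, 3089), (2287, 2821), (2288, 1665), (2289, 2996), (2290, 3094), (2291, 2291), (2292, 1668), (2293, 3000), (2294, 3001), (2295, 3099), (2296, 2830), (2297, 1671), (2298, 3104), (2299, 2834), (2300, 3109), (2301, 2301), (2302, 1675), (2303, 3021)]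
    ⟨e3 q2240 (flp_d L31761) q3034, e3 q2241 L22113 q1650, e3 q2242 L22120 q1631, e3 q2243 L22131 q2243, e3 q2244 L22136 q2244, e3 q2245 (flp_d L31814) q3039, e3 q2246 (flp_d L28941) q2771, e3 q2247 L22165 q1634, e3 q2248 (flp_d L31873) q3044, e3 q2249 (flp_d L28974) q2775, e3 q2250 L31924 q3049, e3 q2251 L22204 q1658, e3 q2252 L22211 q1638, e3 q2253 L22220 q1687, e3 q2254 (flp_d L31956) q3052, e3 q2255 L22243 q1661, e3 q2256 L22255 q2256, e3 q2257 L22260 q1643, e3 q2258 L22269 q1690, e3 q2259 L22275 q1691, e3 q2260 (flp_d L563394) q2640, e3 q2261 L22295 q1645, e3 q2262 L22309 q2262, e3 q2263 (flp_d L32072) q3062, e3 q2264 (flp_d L29100) q2789, e3 q2265 (flp_d L536407) q2629, e3 q2266 (flp_d L31754) q3033, e3 q2267 L22350 q1649, e3 q2268 L22362 q2268, e3 q2269 (flp_d L32153) q3070, e3 q2270 (flp_d L31796) q3037, e3 q2271 L32197 q3075, e3 q2272 L22397 q1653, e3 q2273 L22411 q2273, e3 q2274 L563409 q2645, e3 q2275 (flp_d L29213) q2799, e3 q2276 (flp_d L31864) q3043, e3 q2277 L22445 q1656, e3 q2278 (flp_d L32257) q3081, e3 q2279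 L32262 q3082, e3 q2280 (flp_d L29280) q2805, e3 q2281 (flp_d L31939) q3050, e3 q2282 L22485 q1660, e3 q2283 (flp_d L31980) q3054, e3 q2284 (flp_d L31987) q3055, e3 q2285 (flp_d L22507) q1663, e3 q2286 (flp_d L32323) q3089, e3 q2287 (flp_d L29420) q2821, e3 q2288 L22542 q1665, e3 q2289 (flp_d L31409) q2996, e3 q2290 (flp_d L32380) q3094, e3 q2291 L22571 q2291, e3 q2292 L22579 q1668, e3 q2293 (flp_d L31442) q3000, e3 q2294 (flp_d L31448) q3001, e3 q2295 (flp_d L32436) q3099, e3 q2296 (flp_d L29500) q2830, e3 q2297 L22629 q1671, e3 q2298 (flp_d L32503) q3104, e3 q2299 (flp_d L29534) q2834, e3 q2300 L32560 q3109, e3 q2301 L22672 q2301, e3 q2302 L22679 q1675, e3 q2303 (flp_d L31635) q3021, trivial⟩ (by decide +kernel)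

theorem ce_d_36 : ∀ r, r < 64 → sm gd (Qf (2304 + r)) = Qf (tab Gen.d (2304 + r)) :=
  edges_tab (sm gd) Qf (tab Gen.d) 2304 [(2304, 3112), (2305, 2305), (2306, 3116), (2307, 1680), (2308, 3026), (2309, 3027), (2310, 2846), (2311, 1683), (2312, 3121), (2313, 2854), (2314, 3124), (2315, 1685), (2316, 1688), (2317, 3053), (2318, 3058), (2319, 3059), (2320, 2320), (2321, 1694), (2322, 3130), (2323, 2323), (2324, 3134), (2325, 2325), (2326, 1698), (2327, 2327), (2328, 2328), (2329, 3140), (2330, 2330), (2331, 2331), (2332, 2332), (2333, 2333), (2334, 3144), (2335, 3146), (2336, 1706), (2337, 3148), (2338, 1709), (2339, 3150), (2340, 3125), (2341, 3152), (2342, 1713), (2343, 3154), (2344, 3156), (2345, 2345), (2346, 3159), (2347, 1717), (2348, 2348), (2349, 2349), (2350, 2350), (2351, 3164), (2352, 2352), (2353, 1721), (2354, 2354), (2355, 1723), (2356, 1724), (2357, 3169), (2358, 3171), (2359, 2359), (2360, 3174), (2361, 1729), (2362, 3176), (2363, 2363), (2364, 2364), (2365, 2365), (2366, 1735), (2367, 3181)]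
    ⟨e3 q2304 (flp_d L32596) q3112, e3 q2305 L22712 q2305, e3 q2306 L32636 q3116, e3 q2307 L22731 q1680, e3 q2308 (flp_d L31685) q3026, e3 q2309 (flp_d L31691) q3027, e3 q2310 (flp_d L29639) q2846, e3 q2311 L22786 q1683, e3 q2312 (flp_d L32731) q3121, e3 q2313 (flp_d L29710) q2854, e3 q2314 L32772 q3124, e3 q2315 (flp_d L22836) q1685, e3 q2316 L22853 q1688, e3 q2317 (flp_d L31965) q3053, e3 q2318 (flp_d L32017) q3058, e3 q2319 (flp_d L32023) q3059, e3 q2320 L22900 q2320, e3 q2321 L22907 q1694, e3 q2322 (flp_d L32871) q3130, e3 q2323 L22939 q2323, e3 q2324 L32924 q3134, e3 q2325 L22958 q2325, e3 q2326 L22963 q1698, e3 q2327 L22976 q2327, e3 q2328 L22991 q2328, e3 q2329 L32996 q3140, e3 q2330 L23014 q2330, e3 q2331 L23020 q2331, e3 q2332 L23041 q2332, e3 q2333 L23060 q2333, e3 q2334 L33098 q3144, e3 q2335 L33113 q3146, e3 q2336 (flp_d L23096) q1706, e3 q2337 L33145 q3148, e3 q2338 (flp_d L23127) q1709, e3 q2339 (flp_d L33172) q3150, e3 q2340 (flp_d L32792) q3125, e3 q2341 L33232 q3152, e3 q2342 (flp_d L23204) q1713, e3 q2343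 (flp_d L33276) q3154, e3 q2344 (flp_d L33291) q3156, e3 q2345 L23240 q2345, e3 q2346 L33333 q3159, e3 q2347 (flp_d L23255) q1717, e3 q2348 L23273 q2348, e3 q2349 L23282 q2349, e3 q2350 L23285 q2350, e3 q2351 L33404 q3164, e3 q2352 L23303 q2352, e3 q2353 (flp_d L23307) q1721, e3 q2354 L23345 q2354, e3 q2355 L23349 q1723, e3 q2356 (flp_d L23373) q1724, e3 q2357 (flp_d L33530) q3169, e3 q2358 L33580 q3171, e3 q2359 L23419 q2359, e3 q2360 L33614 q3174, e3 q2361 (flp_d L23443) q1729, e3 q2362 (flp_d L33634) q3176, e3 q2363 L23461 q2363, e3 q2364 L23472 q2364, e3 q2365 L23481 q2365, e3 q2366 L23557 q1735, e3 q2367 (flp_d L33788) q3181, trivial⟩ (by decide +kernel)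

theorem ce_d_37 : ∀ r, r < 64 → sm gd (Qf (2368 + r)) = Qf (tab Gen.d (2368 + r)) :=
  edges_tab (sm gd) Qf (tab Gen.d) 2368 [(2368, 1736), (2369, 3183), (2370, 2370), (2371, 1738), (2372, 3187), (2373, 1740), (2374, 2374), (2375, 3191), (2376, 2376), (2377, 2377), (2378, 1743), (2379, 3195), (2380, 1775), (2381, 1745), (2382, 3199), (2383, 1747), (2384, 2384), (2385, 3203), (2386, 1782), (2387, 2387), (2388, 1751), (2389, 3208), (2390, 1789), (2391, 2391), (2392, 1754), (2393, 2393), (2394, 3212), (2395, 3190), (2396, 1757), (2397, 2397), (2398, 3217), (2399, 2399), (2400, 2400), (2401, 1761), (2402, 3220), (2403, 2403), (2404, 2404), (2405, 1766), (2406, 2406), (2407, 3225), (2408, 2408), (2409, 3230), (2410, 1770), (2411, 2411), (2412, 3232), (2413, 1772), (2414, 3234), (2415, 1774), (2416, 2416), (2417, 3237), (2418, 3197), (2419, 1776), (2420, 3240), (2421, 1778), (2422, 3243), (2423, 2423), (2424, 1781), (2425, 1846), (2426, 3216), (2427, 1783), (2428, 3245), (2429, 1785), (2430, 3248), (2431, 2431)]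
    ⟨e3 q2368 (flp_d L23601) q1736, e3 q2369 (flp_d L33861) q3183, e3 q2370 L23619 q2370, e3 q2371 (flp_d L23632) q1738, e3 q2372 (flp_d L33912) q3187, e3 q2373 L23649 q1740, e3 q2374 L23656 q2374, e3 q2375 (flp_d L33939) q3191, e3 q2376 L23668 q2376, e3 q2377 L23722 q2377, e3 q2378 (flp_d L23747) q1743, e3 q2379 (flp_d L34084) q3195, e3 q2380 L23768 q1775, e3 q2381 (flp_d L23782) q1745, e3 q2382 (flp_d L34144) q3199, e3 q2383 L23802 q1747, e3 q2384 L23814 q2384, e3 q2385 (flp_d L34175) q3203, e3 q2386 L23824 q1782, e3 q2387 L23903 q2387, e3 q2388 L23938 q1751, e3 q2389 (flp_d L34384) q3208, e3 q2390 L23960 q1789, e3 q2391 L23986 q2391, e3 q2392 L23991 q1754, e3 q2393 L24000 q2393, e3 q2394 (flp_d L34468) q3212, e3 q2395 (flp_d L33933) q3190, e3 q2396 L24018 q1757, e3 q2397 L24028 q2397, e3 q2398 (flp_d L34512) q3217, e3 q2399 L24156 q2399, e3 q2400 L24218 q2400, e3 q2401 L24224 q1761, e3 q2402 (flp_d L34821) q3220, e3 q2403 L24285 q2403, e3 q2404 L24300 q2404, e3 q2405 L24306 q1766, e3 q2406 L24315 q2406, e3 q2407 (flp_d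 L34958) q3225, e3 q2408 L24335 q2408, e3 q2409 L34998 q3230, e3 q2410 L24350 q1770, e3 q2411 L24359 q2411, e3 q2412 L35028 q3232, e3 q2413 (flp_d L24379) q1772, e3 q2414 (flp_d L35062) q3234, e3 q2415 L24402 q1774, e3 q2416 L24414 q2416, e3 q2417 (flp_d L35097) q3237, e3 q2418 (flp_d L34108) q3197, e3 q2419 (flp_d L24434) q1776, e3 q2420 (flp_d L35142) q3240, e3 q2421 L24463 q1778, e3 q2422 (flp_d L35192) q3243, e3 q2423 L24490 q2423, e3 q2424 L24494 q1781, e3 q2425 L24503 q1846, e3 q2426 (flp_d L626088) q3216, e3 q2427 (flp_d L24523) q1783, e3 q2428 (flp_d L35274) q3245, e3 q2429 L24553 q1785, e3 q2430 (flp_d L35323) q3248, e3 q2431 L24580 q2431, trivial⟩ (by decide +kernel)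

theorem ce_d_38 : ∀ r, r < 64 → sm gd (Qf (2432 + r)) = Qf (tab Gen.d (2432 + r)) :=
  edges_tab (sm gd) Qf (tab Gen.d) 2432 [(2432, 1788), (2433, 2433), (2434, 3252), (2435, 1791), (2436, 3255), (2437, 2437), (2438, 1793), (2439, 3258), (2440, 2440), (2441, 3205), (2442, 1797), (2443, 1856), (2444, 1799), (2445, 3260), (2446, 1821), (2447, 1801), (2448, 3263), (2449, 1825), (2450, 3267), (2451, 1805), (2452, 2452), (2453, 1831), (2454, 1807), (2455, 3270), (2456, 1836), (2457, 1810), (2458, 1838), (2459, 1839), (2460, 2460), (2461, 1860), (2462, 2462), (2463, 2463), (2464, 2625), (2465, 3259), (2466, 1818), (2467, 2467), (2468, 3279), (2469, 3281), (2470, 2470), (2471, 3286), (2472, 1820), (2473, 3262), (2474, 3290), (2475, 1824), (2476, 2476), (2477, 3264), (2478, 3265), (2479, 3295), (2480, 1826), (2481, 2481), (2482, 2482), (2483, 3299), (2484, 2484), (2485, 3269), (2486, 1833), (2487, 1834), (2488, 3304), (2489, 2489), (2490, 3271), (2491, 3272), (2492, 3229), (2493, 1841), (2494, 3309), (2495, 2495)]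
    ⟨e3 q2432 L24584 q1788, e3 q2433 L24594 q2433, e3 q2434 (flp_d L35371) q3252, e3 q2435 L24625 q1791, e3 q2436 (flp_d L35423) q3255, e3 q2437 L24662 q2437, e3 q2438 L24668 q1793, e3 q2439 (flp_d L35504) q3258, e3 q2440 L24701 q2440, e3 q2441 (flp_d L625990) q3205, e3 q2442 L24711 q1797, e3 q2443 L24721 q1856, e3 q2444 L24742 q1799, e3 q2445 (flp_d L35609) q3260, e3 q2446 L24785 q1821, e3 q2447 L24792 q1801, e3 q2448 (flp_d L35698) q3263, e3 q2449 L24826 q1825, e3 q2450 L35742 q3267, e3 q2451 L24840 q1805, e3 q2452 L24849 q2452, e3 q2453 L24884 q1831, e3 q2454 L24891 q1807, e3 q2455 (flp_d L35843) q3270, e3 q2456 L24954 q1836, e3 q2457 L24971 q1810, e3 q2458 L24993 q1838, e3 q2459 L24998 q1839, e3 q2460 L25009 q2460, e3 q2461 L25022 q1860, e3 q2462 L25032 q2462, e3 q2463 L25045 q2463, e3 q2464 L579544 q2625, e3 q2465 (flp_d L35602) q3259, e3 q2466 L25071 q1818, e3 q2467 L25083 q2467, e3 q2468 (flp_d L36088) q3279, e3 q2469 L36103 q3281, e3 q2470 L25109 q2470, e3 q2471 L36149 q3286, e3 q2472 (flp_d L25122) q1820, e3 q2473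 (flp_d L35680) q3262, e3 q2474 L36193 q3290, e3 q2475 L25151 q1824, e3 q2476 L25164 q2476, e3 q2477 (flp_d L35722) q3264, e3 q2478 (flp_d L35729) q3265, e3 q2479 L36236 q3295, e3 q2480 (flp_d L25189) q1826, e3 q2481 L25202 q2481, e3 q2482 L25209 q2482, e3 q2483 L36265 q3299, e3 q2484 L25227 q2484, e3 q2485 (flp_d L35826) q3269, e3 q2486 L25241 q1833, e3 q2487 (flp_d L25246) q1834, e3 q2488 (flp_d L36309) q3304, e3 q2489 L25265 q2489, e3 q2490 (flp_d L35929) q3271, e3 q2491 (flp_d L35936) q3272, e3 q2492 (flp_d L626475) q3229, e3 q2493 L25306 q1841, e3 q2494 (flp_d L36396) q3309, e3 q2495 L25354 q2495, trivial⟩ (by decide +kernel)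

theorem ce_d_39 : ∀ r, r < 64 → sm gd (Qf (2496 + r)) = Qf (tab Gen.d (2496 + r)) :=
  edges_tab (sm gd) Qf (tab Gen.d) 2496 [(2496, 1843), (2497, 3312), (2498, 2498), (2499, 3178), (2500, 1847), (2501, 3202), (2502, 2502), (2503, 1849), (2504, 3314), (2505, 2505), (2506, 1852), (2507, 2507), (2508, 3193), (2509, 1854), (2510, 3215), (2511, 1858), (2512, 2512), (2513, 1862), (2514, 2514), (2515, 2515), (2516, 3165), (2517, 1866), (2518, 2518), (2519, 2519), (2520, 2520), (2521, 3319), (2522, 1874), (2523, 2523), (2524, 2524), (2525, 2525), (2526, 3323), (2527, 1879), (2528, 3326), (2529, 1881), (2530, 2530), (2531, 3325), (2532, 2532), (2533, 2533), (2534, 2534), (2535, 3337), (2536, 2536), (2537, 2537), (2538, 3341), (2539, 1887), (2540, 3343), (2541, 2541), (2542, 3347), (2543, 1890), (2544, 1891), (2545, 1976), (2546, 2546), (2547, 1980), (2548, 2548), (2549, 1982), (2550, 3360), (2551, 2551), (2552, 1986), (2553, 1914), (2554, 1988), (2555, 3368), (2556, 1917), (2557, 1993), (2558, 3372), (2559, 1922)]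
    ⟨e3 q2496 L25361 q1843, e3 q2497 (flp_d L36495) q3312, e3 q2498 L25396 q2498, e3 q2499 (flp_d L626934) q3178, e3 q2500 L25412 q1847, e3 q2501 (flp_d L626157) q3202, e3 q2502 L25464 q2502, e3 q2503 L25471 q1849, e3 q2504 (flp_d L36655) q3314, e3 q2505 L25544 q2505, e3 q2506 L25561 q1852, e3 q2507 L25584 q2507, e3 q2508 L620291 q3193, e3 q2509 (flp_d L25597) q1854, e3 q2510 L603450 q3215, e3 q2511 L25681 q1858, e3 q2512 L25809 q2512, e3 q2513 L25814 q1862, e3 q2514 L25886 q2514, e3 q2515 L25921 q2515, e3 q2516 (flp_d L625579) q3165, e3 q2517 (flp_d L25933) q1866, e3 q2518 L26093 q2518, e3 q2519 L26230 q2519, e3 q2520 L26341 q2520, e3 q2521 L37875 q3319, e3 q2522 (flp_d L26393) q1874, e3 q2523 L26419 q2523, e3 q2524 L26706 q2524, e3 q2525 L26716 q2525, e3 q2526 L38322 q3323, e3 q2527 (flp_d L26733) q1879, e3 q2528 L38348 q3326, e3 q2529 (flp_d L26751) q1881, e3 q2530 L26771 q2530, e3 q2531 (flp_d L38346) q3325, e3 q2532 L26789 q2532, e3 q2533 L26800 q2533, e3 q2534 L26803 q2534, e3 q2535 L38458 q3337, e3 q2536 L26824 q2536,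 e3 q2537 L26831 q2537, e3 q2538 L38494 q3341, e3 q2539 (flp_d L26847) q1887, e3 q2540 (flp_d L38515) q3343, e3 q2541 L26868 q2541, e3 q2542 L38546 q3347, e3 q2543 (flp_d L26886) q1890, e3 q2544 (flp_d L26894) q1891, e3 q2545 L26912 q1976, e3 q2546 L26920 q2546, e3 q2547 L26930 q1980, e3 q2548 L26940 q2548, e3 q2549 L26943 q1982, e3 q2550 L38666 q3360, e3 q2551 L26959 q2551, e3 q2552 L26971 q1986, e3 q2553 L26983 q1914, e3 q2554 L26987 q1988, e3 q2555 L38738 q3368, e3 q2556 L27005 q1917, e3 q2557 L27011 q1993, e3 q2558 L38783 q3372, e3 q2559 L27033 q1922, trivial⟩ (by decide +kernel)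

theorem ce_d_40 : ∀ r, r < 64 → sm gd (Qf (2560 + r)) = Qf (tab Gen.d (2560 + r)) :=
  edges_tab (sm gd) Qf (tab Gen.d) 2560 [(2560, 1996), (2561, 3376), (2562, 1902), (2563, 3378), (2564, 1927), (2565, 3382), (2566, 1905), (2567, 3384), (2568, 1935), (2569, 3388), (2570, 1908), (2571, 3391), (2572, 1910), (2573, 3344), (2574, 3395), (2575, 1942), (2576, 2576), (2577, 2577), (2578, 2014), (2579, 3404), (2580, 3365), (2581, 2017), (2582, 3408), (2583, 1916), (2584, 3410), (2585, 3370), (2586, 2586), (2587, 3416), (2588, 2588), (2589, 2022), (2590, 3420), (2591, 1921), (2592, 3422), (2593, 3374), (2594, 3426), (2595, 1924), (2596, 3429), (2597, 1926), (2598, 2598), (2599, 3433), (2600, 3381), (2601, 2601), (2602, 3438), (2603, 1929), (2604, 3440), (2605, 2605), (2606, 3444), (2607, 1932), (2608, 3447), (2609, 1934), (2610, 3441), (2611, 3451), (2612, 3387), (2613, 1936), (2614, 3456), (2615, 2615), (2616, 1938), (2617, 2617), (2618, 3462), (2619, 1964), (2620, 1941), (2621, 2621), (2622, 2622), (2623, 3468)]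
    ⟨e3 q2560 L27041 q1996, e3 q2561 L38821 q3376, e3 q2562 (flp_d L27053) q1902, e3 q2563 (flp_d L38839) q3378, e3 q2564 L27071 q1927, e3 q2565 L38875 q3382, e3 q2566 (flp_d L27095) q1905, e3 q2567 (flp_d L38899) q3384, e3 q2568 L27119 q1935, e3 q2569 L38933 q3388, e3 q2570 (flp_d L27132) q1908, e3 q2571 (flp_d L38961) q3391, e3 q2572 L27151 q1910, e3 q2573 (flp_d L38525) q3344, e3 q2574 (flp_d L38991) q3395, e3 q2575 L27172 q1942, e3 q2576 L27186 q2576, e3 q2577 L27197 q2577, e3 q2578 L27200 q2014, e3 q2579 L39071 q3404, e3 q2580 (flp_d L38714) q3365, e3 q2581 L27231 q2017, e3 q2582 L39109 q3408, e3 q2583 (flp_d L27248) q1916, e3 q2584 (flp_d L39130) q3410, e3 q2585 (flp_d L38759) q3370, e3 q2586 L27274 q2586, e3 q2587 L39181 q3416, e3 q2588 L27296 q2588, e3 q2589 L27304 q2022, e3 q2590 L39219 q3420, e3 q2591 (flp_d L27321) q1921, e3 q2592 (flp_d L39240) q3422, e3 q2593 (flp_d L38806) q3374, e3 q2594 L39270 q3426, e3 q2595 (flp_d L27356) q1924, e3 q2596 (flp_d L39298) q3429, e3 q2597 L27374 q1926, e3 q2598 L27383 q2598,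 e3 q2599 (flp_d L39327) q3433, e3 q2600 (flp_d L38861) q3381, e3 q2601 L27404 q2601, e3 q2602 L39364 q3438, e3 q2603 (flp_d L27421) q1929, e3 q2604 (flp_d L39386) q3440, e3 q2605 L27443 q2605, e3 q2606 L39419 q3444, e3 q2607 (flp_d L27458) q1932, e3 q2608 (flp_d L39452) q3447, e3 q2609 L27480 q1934, e3 q2610 (flp_d L39396) q3441, e3 q2611 (flp_d L39486) q3451, e3 q2612 (flp_d L38926) q3387, e3 q2613 (flp_d L27509) q1936, e3 q2614 (flp_d L39527) q3456, e3 q2615 L27532 q2615, e3 q2616 L27537 q1938, e3 q2617 L27547 q2617, e3 q2618 (flp_d L39574) q3462, e3 q2619 L27560 q1964, e3 q2620 L27567 q1941, e3 q2621 L27575 q2621, e3 q2622 L27579 q2622, e3 q2623 (flp_d L39619) q3468, trivial⟩ (by decide +kernel)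

theorem ce_d_41 : ∀ r, r < 64 → sm gd (Qf (2624 + r)) = Qf (tab Gen.d (2624 + r)) :=
  edges_tab (sm gd) Qf (tab Gen.d) 2624 [(2624, 2624), (2625, 2464), (2626, 1944), (2627, 3472), (2628, 1950), (2629, 2265), (2630, 1947), (2631, 3476), (2632, 1949), (2633, 1955), (2634, 3479), (2635, 3474), (2636, 1951), (2637, 3482), (2638, 2638), (2639, 1953), (2640, 2260), (2641, 3486), (2642, 3450), (2643, 1956), (2644, 3480), (2645, 2274), (2646, 3491), (2647, 2647), (2648, 1959), (2649, 2649), (2650, 3496), (2651, 2651), (2652, 2116), (2653, 3461), (2654, 1963), (2655, 2655), (2656, 2656), (2657, 3504), (2658, 3466), (2659, 3510), (2660, 1968), (2661, 2661), (2662, 2662), (2663, 2663), (2664, 2664), (2665, 3516), (2666, 1971), (2667, 3348), (2668, 2668), (2669, 3522), (2670, 1974), (2671, 3350), (2672, 2672), (2673, 3352), (2674, 3530), (2675, 2675), (2676, 1978), (2677, 2677), (2678, 3534), (2679, 3355), (2680, 3538), (2681, 2681), (2682, 3358), (2683, 3542), (2684, 1983), (2685, 3544), (2686, 2686), (2687, 2687)]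
    ⟨e3 q2624 L27595 q2624, e3 q2625 (flp_d L579544) q2464, e3 q2626 (flp_d L27611) q1944, e3 q2627 (flp_d L39667) q3472, e3 q2628 L27633 q1950, e3 q2629 L536407 q2265, e3 q2630 (flp_d L27650) q1947, e3 q2631 (flp_d L39730) q3476, e3 q2632 L27670 q1949, e3 q2633 L27680 q1955, e3 q2634 (flp_d L39761) q3479, e3 q2635 (flp_d L39693) q3474, e3 q2636 (flp_d L27700) q1951, e3 q2637 (flp_d L39808) q3482, e3 q2638 L27729 q2638, e3 q2639 L27734 q1953, e3 q2640 L563394 q2260, e3 q2641 (flp_d L39862) q3486, e3 q2642 (flp_d L39479) q3450, e3 q2643 L27768 q1956, e3 q2644 (flp_d L39771) q3480, e3 q2645 (flp_d L563409) q2274, e3 q2646 (flp_d L39914) q3491, e3 q2647 L27807 q2647, e3 q2648 L27813 q1959, e3 q2649 L27825 q2649, e3 q2650 (flp_d L39976) q3496, e3 q2651 L27839 q2651, e3 q2652 (flp_d L545964) q2116, e3 q2653 (flp_d L39566) q3461, e3 q2654 L27861 q1963, e3 q2655 L27871 q2655, e3 q2656 L27876 q2656, e3 q2657 (flp_d L40066) q3504, e3 q2658 (flp_d L39604) q3466, e3 q2659 L40108 q3510, e3 q2660 L27908 q1968, e3 q2661 L27919 q2661, e3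 q2662 L27924 q2662, e3 q2663 L27934 q2663, e3 q2664 L27945 q2664, e3 q2665 L40165 q3516, e3 q2666 (flp_d L27962) q1971, e3 q2667 (flp_d L38564) q3348, e3 q2668 L27990 q2668, e3 q2669 L40224 q3522, e3 q2670 (flp_d L28003) q1974, e3 q2671 (flp_d L38584) q3350, e3 q2672 L28033 q2672, e3 q2673 (flp_d L38598) q3352, e3 q2674 L40305 q3530, e3 q2675 L28056 q2675, e3 q2676 (flp_d L28062) q1978, e3 q2677 L28080 q2677, e3 q2678 (flp_d L40346) q3534, e3 q2679 (flp_d L38623) q3355, e3 q2680 L40397 q3538, e3 q2681 L28112 q2681, e3 q2682 (flp_d L38654) q3358, e3 q2683 L40433 q3542, e3 q2684 (flp_d L28134) q1983, e3 q2685 (flp_d L40451) q3544, e3 q2686 L28152 q2686, e3 q2687 L28166 q2687, trivial⟩ (by decide +kernel)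

theorem ce_d_42 : ∀ r, r < 64 → sm gd (Qf (2688 + r)) = Qf (tab Gen.d (2688 + r)) :=
  edges_tab (sm gd) Qf (tab Gen.d) 2688 [(2688, 2688), (2689, 3363), (2690, 3551), (2691, 2016), (2692, 3366), (2693, 3555), (2694, 1989), (2695, 3557), (2696, 2021), (2697, 3561), (2698, 2698), (2699, 3564), (2700, 1994), (2701, 3566), (2702, 2026), (2703, 3570), (2704, 1997), (2705, 3573), (2706, 1999), (2707, 2707), (2708, 3577), (2709, 2033), (2710, 2001), (2711, 3581), (2712, 2712), (2713, 2003), (2714, 3586), (2715, 2005), (2716, 3582), (2717, 3590), (2718, 2040), (2719, 2007), (2720, 3595), (2721, 2196), (2722, 2009), (2723, 2723), (2724, 3601), (2725, 2725), (2726, 2012), (2727, 2727), (2728, 2728), (2729, 3607), (2730, 3402), (2731, 3611), (2732, 2015), (2733, 3613), (2734, 3553), (2735, 3617), (2736, 2018), (2737, 3620), (2738, 2020), (2739, 2083), (2740, 3624), (2741, 3560), (2742, 3628), (2743, 2023), (2744, 3631), (2745, 2025), (2746, 2746), (2747, 3635), (2748, 3569), (2749, 2027), (2750, 3640), (2751, 2226)]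
    ⟨e3 q2688 L28178 q2688, e3 q2689 (flp_d L38690) q3363, e3 q2690 L40532 q3551, e3 q2691 L28203 q2016, e3 q2692 (flp_d L38724) q3366, e3 q2693 L40572 q3555, e3 q2694 (flp_d L28228) q1989, e3 q2695 (flp_d L40593) q3557, e3 q2696 L28249 q2021, e3 q2697 L40646 q3561, e3 q2698 L28278 q2698, e3 q2699 L40684 q3564, e3 q2700 (flp_d L28301) q1994, e3 q2701 (flp_d L40705) q3566, e3 q2702 L28322 q2026, e3 q2703 L40736 q3570, e3 q2704 (flp_d L28338) q1997, e3 q2705 (flp_d L40763) q3573, e3 q2706 L28356 q1999, e3 q2707 L28365 q2707, e3 q2708 (flp_d L40791) q3577, e3 q2709 L28379 q2033, e3 q2710 (flp_d L28405) q2001, e3 q2711 (flp_d L40852) q3581, e3 q2712 L28427 q2712, e3 q2713 (flp_d L28442) q2003, e3 q2714 (flp_d L40916) q3586, e3 q2715 L28464 q2005, e3 q2716 (flp_d L40862) q3582, e3 q2717 (flp_d L40949) q3590, e3 q2718 L28488 q2040, e3 q2719 (flp_d L28494) q2007, e3 q2720 (flp_d L40990) q3595, e3 q2721 L28515 q2196, e3 q2722 L28521 q2009, e3 q2723 L28529 q2723, e3 q2724 (flp_d L41035) q3601, e3 q2725 L28544 q2725, e3 q2726 L28550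 q2012, e3 q2727 L28560 q2727, e3 q2728 L28566 q2728, e3 q2729 (flp_d L41081) q3607, e3 q2730 (flp_d L39052) q3402, e3 q2731 L41114 q3611, e3 q2732 (flp_d L28600) q2015, e3 q2733 (flp_d L41138) q3613, e3 q2734 (flp_d L40556) q3553, e3 q2735 L41173 q3617, e3 q2736 (flp_d L28641) q2018, e3 q2737 (flp_d L41204) q3620, e3 q2738 L28662 q2020, e3 q2739 L28672 q2083, e3 q2740 (flp_d L41236) q3624, e3 q2741 (flp_d L40618) q3560, e3 q2742 L41267 q3628, e3 q2743 (flp_d L28706) q2023, e3 q2744 (flp_d L41299) q3631, e3 q2745 L28727 q2025, e3 q2746 L28736 q2746, e3 q2747 (flp_d L41331) q3635, e3 q2748 (flp_d L40730) q3569, e3 q2749 (flp_d L28759) q2027, e3 q2750 (flp_d L41375) q3640, e3 q2751 L28780 q2226, trivial⟩ (by decide +kernel)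

theorem ce_d_43 : ∀ r, r < 64 → sm gd (Qf (2752 + r)) = Qf (tab Gen.d (2752 + r)) :=
  edges_tab (sm gd) Qf (tab Gen.d) 2752 [(2752, 2029), (2753, 2090), (2754, 3646), (2755, 2755), (2756, 2032), (2757, 2094), (2758, 2095), (2759, 3652), (2760, 2034), (2761, 3656), (2762, 2237), (2763, 2036), (2764, 2764), (2765, 3662), (2766, 2058), (2767, 2039), (2768, 2768), (2769, 2769), (2770, 3668), (2771, 2246), (2772, 2042), (2773, 2099), (2774, 3675), (2775, 2249), (2776, 3682), (2777, 2069), (2778, 2046), (2779, 2105), (2780, 2106), (2781, 3686), (2782, 2074), (2783, 3692), (2784, 2051), (2785, 2111), (2786, 2112), (2787, 2053), (2788, 3697), (2789, 2264), (2790, 3661), (2791, 2057), (2792, 2792), (2793, 3703), (2794, 3666), (2795, 3708), (2796, 2062), (2797, 2797), (2798, 2798), (2799, 2275), (2800, 3674), (2801, 2066), (2802, 2115), (2803, 3716), (2804, 3718), (2805, 2280), (2806, 2806), (2807, 3684), (2808, 3726), (2809, 2073), (2810, 2121), (2811, 2122), (2812, 3689), (2813, 3690), (2814, 3733), (2815, 2075)]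
    ⟨e3 q2752 L28786 q2029, e3 q2753 L28794 q2090, e3 q2754 (flp_d L41419) q3646, e3 q2755 L28810 q2755, e3 q2756 L28814 q2032, e3 q2757 L28823 q2094, e3 q2758 L28828 q2095, e3 q2759 (flp_d L41464) q3652, e3 q2760 (flp_d L28842) q2034, e3 q2761 (flp_d L41498) q3656, e3 q2762 L28868 q2237, e3 q2763 L28874 q2036, e3 q2764 L28884 q2764, e3 q2765 (flp_d L41549) q3662, e3 q2766 L28902 q2058, e3 q2767 L28907 q2039, e3 q2768 L28917 q2768, e3 q2769 L28921 q2769, e3 q2770 (flp_d L41599) q3668, e3 q2771 L28941 q2246, e3 q2772 L28948 q2042, e3 q2773 L28957 q2099, e3 q2774 (flp_d L41654) q3675, e3 q2775 L28974 q2249, e3 q2776 L41704 q3682, e3 q2777 L28987 q2069, e3 q2778 L28993 q2046, e3 q2779 L29002 q2105, e3 q2780 L29008 q2106, e3 q2781 (flp_d L41735) q3686, e3 q2782 L29025 q2074, e3 q2783 L41775 q3692, e3 q2784 L29038 q2051, e3 q2785 L29046 q2111, e3 q2786 L29051 q2112, e3 q2787 L29071 q2053, e3 q2788 (flp_d L41846) q3697, e3 q2789 L29100 q2264, e3 q2790 (flp_d L41543) q3661, e3 q2791 L29123 q2057, e3 q2792 L29135 q2792, e3 q2793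 (flp_d L41944) q3703, e3 q2794 (flp_d L41584) q3666, e3 q2795 L41992 q3708, e3 q2796 L29175 q2062, e3 q2797 L29188 q2797, e3 q2798 L29193 q2798, e3 q2799 L29213 q2275, e3 q2800 (flp_d L41647) q3674, e3 q2801 L29236 q2066, e3 q2802 L29247 q2115, e3 q2803 (flp_d L42098) q3716, e3 q2804 L42122 q3718, e3 q2805 L29280 q2280, e3 q2806 L29291 q2806, e3 q2807 (flp_d L41720) q3684, e3 q2808 L42190 q3726, e3 q2809 L29317 q2073, e3 q2810 L29328 q2121, e3 q2811 L29334 q2122, e3 q2812 (flp_d L41758) q3689, e3 q2813 (flp_d L41763) q3690, e3 q2814 L42246 q3733, e3 q2815 (flp_d L29359) q2075, trivial⟩ (by decide +kernel)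

theorem ce_d_44 : ∀ r, r < 64 → sm gd (Qf (2816 + r)) = Qf (tab Gen.d (2816 + r)) :=
  edges_tab (sm gd) Qf (tab Gen.d) 2816 [(2816, 3736), (2817, 2128), (2818, 2129), (2819, 2079), (2820, 3739), (2821, 2287), (2822, 2081), (2823, 3621), (2824, 3745), (2825, 2825), (2826, 2084), (2827, 3625), (2828, 3626), (2829, 3751), (2830, 2296), (2831, 2087), (2832, 3641), (2833, 3757), (2834, 2299), (2835, 3764), (2836, 2836), (2837, 2091), (2838, 3647), (2839, 3648), (2840, 3768), (2841, 2841), (2842, 3774), (2843, 2096), (2844, 3653), (2845, 3654), (2846, 2310), (2847, 3587), (2848, 2113), (2849, 2100), (2850, 3676), (2851, 3677), (2852, 3784), (2853, 2853), (2854, 2313), (2855, 3791), (2856, 2102), (2857, 3794), (2858, 2118), (2859, 3798), (2860, 2107), (2861, 3687), (2862, 3688), (2863, 2123), (2864, 2124), (2865, 3805), (2866, 2109), (2867, 3808), (2868, 3694), (2869, 3695), (2870, 3782), (2871, 3813), (2872, 2117), (2873, 3717), (2874, 3501), (2875, 3795), (2876, 3796), (2877, 3820), (2878, 2119), (2879, 3823)]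
    ⟨e3 q2816 (flp_d L42271) q3736, e3 q2817 L29380 q2128, e3 q2818 L29386 q2129, e3 q2819 (flp_d L29391) q2079, e3 q2820 (flp_d L42302) q3739, e3 q2821 L29420 q2287, e3 q2822 L29426 q2081, e3 q2823 (flp_d L41215) q3621, e3 q2824 (flp_d L42358) q3745, e3 q2825 L29455 q2825, e3 q2826 L29461 q2084, e3 q2827 (flp_d L41246) q3625, e3 q2828 (flp_d L41251) q3626, e3 q2829 (flp_d L42411) q3751, e3 q2830 L29500 q2296, e3 q2831 L29507 q2087, e3 q2832 (flp_d L41384) q3641, e3 q2833 (flp_d L42474) q3757, e3 q2834 L29534 q2299, e3 q2835 L42530 q3764, e3 q2836 L29550 q2836, e3 q2837 L29556 q2091, e3 q2838 (flp_d L41429) q3647, e3 q2839 (flp_d L41435) q3648, e3 q2840 (flp_d L42565) q3768, e3 q2841 L29589 q2841, e3 q2842 L42610 q3774, e3 q2843 L29604 q2096, e3 q2844 (flp_d L41475) q3653, e3 q2845 (flp_d L41480) q3654, e3 q2846 L29639 q2310, e3 q2847 (flp_d L592360) q3587, e3 q2848 L29658 q2113, e3 q2849 L29666 q2100, e3 q2850 (flp_d L41664) q3676, e3 q2851 (flp_d L41671) q3677, e3 q2852 (flp_d L42726) q3784, e3 q2853 L29703 q2853, e3 q2854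 L29710 q2313, e3 q2855 L42780 q3791, e3 q2856 (flp_d L29721) q2102, e3 q2857 (flp_d L42807) q3794, e3 q2858 L29739 q2118, e3 q2859 L42836 q3798, e3 q2860 L29756 q2107, e3 q2861 (flp_d L41744) q3687, e3 q2862 (flp_d L41750) q3688, e3 q2863 L29778 q2123, e3 q2864 L29786 q2124, e3 q2865 L42892 q3805, e3 q2866 (flp_d L29800) q2109, e3 q2867 (flp_d L42919) q3808, e3 q2868 (flp_d L41795) q3694, e3 q2869 (flp_d L41800) q3695, e3 q2870 (flp_d L42707) q3782, e3 q2871 L42960 q3813, e3 q2872 L29855 q2117, e3 q2873 (flp_d L42110) q3717, e3 q2874 (flp_d L545981) q3501, e3 q2875 (flp_d L42814) q3795, e3 q2876 (flp_d L42822) q3796, e3 q2877 L43026 q3820, e3 q2878 (flp_d L29905) q2119, e3 q2879 (flp_d L43051) q3823, trivial⟩ (by decide +kernel)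

theorem ce_d_45 : ∀ r, r < 64 → sm gd (Qf (2880 + r)) = Qf (tab Gen.d (2880 + r)) :=
  edges_tab (sm gd) Qf (tab Gen.d) 2880 [(2880, 3728), (2881, 3729), (2882, 3802), (2883, 3827), (2884, 3829), (2885, 2125), (2886, 3832), (2887, 2135), (2888, 2127), (2889, 3737), (2890, 2890), (2891, 2134), (2892, 2131), (2893, 2132), (2894, 3831), (2895, 3833), (2896, 3834), (2897, 2138), (2898, 3839), (2899, 3841), (2900, 2900), (2901, 3844), (2902, 2142), (2903, 2903), (2904, 2904), (2905, 2905), (2906, 3851), (2907, 2907), (2908, 2908), (2909, 2147), (2910, 2148), (2911, 3854), (2912, 2912), (2913, 3857), (2914, 2914), (2915, 2915), (2916, 3861), (2917, 2153), (2918, 3863), (2919, 2919), (2920, 2158), (2921, 3867), (2922, 3869), (2923, 2160), (2924, 3871), (2925, 2925), (2926, 3874), (2927, 2163), (2928, 3877), (2929, 2165), (2930, 2930), (2931, 3881), (2932, 2932), (2933, 2933), (2934, 3885), (2935, 2169), (2936, 3887), (2937, 2209), (2938, 3890), (2939, 2172), (2940, 3893), (2941, 2174), (2942, 2942), (2943, 3897)]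
    ⟨e3 q2880 (flp_d L42212) q3728, e3 q2881 (flp_d L42218) q3729, e3 q2882 (flp_d L42871) q3802, e3 q2883 L43084 q3827, e3 q2884 L43100 q3829, e3 q2885 (flp_d L29967) q2125, e3 q2886 (flp_d L43127) q3832, e3 q2887 L29987 q2135, e3 q2888 L29992 q2127, e3 q2889 (flp_d L42280) q3737, e3 q2890 L30010 q2890, e3 q2891 L630232 q2134, e3 q2892 (flp_d L30024) q2131, e3 q2893 L647431 q2132, e3 q2894 (flp_d L43122) q3831, e3 q2895 (flp_d L43133) q3833, e3 q2896 (flp_d L43142) q3834, e3 q2897 (flp_d L30100) q2138, e3 q2898 (flp_d L43277) q3839, e3 q2899 (flp_d L43298) q3841, e3 q2900 L30149 q2900, e3 q2901 L43350 q3844, e3 q2902 (flp_d L30165) q2142, e3 q2903 L30186 q2903, e3 q2904 L30196 q2904, e3 q2905 L30199 q2905, e3 q2906 L43427 q3851, e3 q2907 L30219 q2907, e3 q2908 L30233 q2908, e3 q2909 L30240 q2147, e3 q2910 (flp_d L30270) q2148, e3 q2911 (flp_d L43522) q3854, e3 q2912 L30301 q2912, e3 q2913 L43574 q3857, e3 q2914 L30322 q2914, e3 q2915 L30331 q2915, e3 q2916 L43614 q3861, e3 q2917 (flp_d L30346) q2153, e3 q2918 (flp_d L43635)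 q3863, e3 q2919 L30369 q2919, e3 q2920 L30434 q2158, e3 q2921 (flp_d L43752) q3867, e3 q2922 L43811 q3869, e3 q2923 (flp_d L30480) q2160, e3 q2924 (flp_d L43832) q3871, e3 q2925 L30503 q2925, e3 q2926 L43864 q3874, e3 q2927 (flp_d L30517) q2163, e3 q2928 (flp_d L43890) q3877, e3 q2929 L30535 q2165, e3 q2930 L30544 q2930, e3 q2931 (flp_d L43920) q3881, e3 q2932 L30559 q2932, e3 q2933 L30610 q2933, e3 q2934 L44040 q3885, e3 q2935 (flp_d L30635) q2169, e3 q2936 (flp_d L44064) q3887, e3 q2937 L30661 q2209, e3 q2938 L44100 q3890, e3 q2939 (flp_d L30676) q2172, e3 q2940 (flp_d L44131) q3893, e3 q2941 L30697 q2174, e3 q2942 L30711 q2942, e3 q2943 (flp_d L44165) q3897, trivial⟩ (by decide +kernel)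

theorem ce_d_46 : ∀ r, r < 64 → sm gd (Qf (2944 + r)) = Qf (tab Gen.d (2944 + r)) :=
  edges_tab (sm gd) Qf (tab Gen.d) 2944 [(2944, 2216), (2945, 2945), (2946, 2177), (2947, 3903), (2948, 2179), (2949, 3906), (2950, 2223), (2951, 2181), (2952, 3909), (2953, 3572), (2954, 2183), (2955, 2955), (2956, 3915), (2957, 3880), (2958, 2186), (2959, 2959), (2960, 2960), (2961, 3921), (2962, 2962), (2963, 3585), (2964, 2190), (2965, 3926), (2966, 2966), (2967, 2192), (2968, 3929), (2969, 3594), (2970, 2195), (2971, 2971), (2972, 3934), (2973, 3598), (2974, 3940), (2975, 2975), (2976, 2199), (2977, 2977), (2978, 2978), (2979, 3943), (2980, 2980), (2981, 3949), (2982, 2204), (2983, 2983), (2984, 2984), (2985, 3953), (2986, 2206), (2987, 3956), (2988, 2208), (2989, 2989), (2990, 3960), (2991, 3889), (2992, 2210), (2993, 3965), (2994, 3619), (2995, 2212), (2996, 2289), (2997, 3970), (2998, 2998), (2999, 2215), (3000, 2293), (3001, 2294), (3002, 3920), (3003, 2217), (3004, 3975), (3005, 3630), (3006, 2219), (3007, 3007)]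
    ⟨e3 q2944 L30724 q2216, e3 q2945 L30796 q2945, e3 q2946 (flp_d L30812) q2177, e3 q2947 (flp_d L44343) q3903, e3 q2948 L30833 q2179, e3 q2949 (flp_d L44377) q3906, e3 q2950 L30860 q2223, e3 q2951 (flp_d L30866) q2181, e3 q2952 (flp_d L44425) q3909, e3 q2953 (flp_d L40757) q3572, e3 q2954 L30893 q2183, e3 q2955 L30902 q2955, e3 q2956 (flp_d L44470) q3915, e3 q2957 (flp_d L43912) q3880, e3 q2958 L30923 q2186, e3 q2959 L30935 q2959, e3 q2960 L30942 q2960, e3 q2961 (flp_d L44519) q3921, e3 q2962 L31058 q2962, e3 q2963 (flp_d L40910) q3585, e3 q2964 L31096 q2190, e3 q2965 (flp_d L44766) q3926, e3 q2966 L31123 q2966, e3 q2967 L31131 q2192, e3 q2968 (flp_d L44820) q3929, e3 q2969 (flp_d L40983) q3594, e3 q2970 L31176 q2195, e3 q2971 L31187 q2971, e3 q2972 (flp_d L44882) q3934, e3 q2973 (flp_d L41015) q3598, e3 q2974 L44935 q3940, e3 q2975 L31216 q2975, e3 q2976 L31222 q2199, e3 q2977 L31231 q2977, e3 q2978 L31236 q2978, e3 q2979 (flp_d L44968) q3943, e3 q2980 L31252 q2980, e3 q2981 L45014 q3949, e3 q2982 L31271 q2204, e3 q2983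 L31282 q2983, e3 q2984 L31289 q2984, e3 q2985 L45052 q3953, e3 q2986 (flp_d L31305) q2206, e3 q2987 (flp_d L45088) q3956, e3 q2988 L31329 q2208, e3 q2989 L31343 q2989, e3 q2990 (flp_d L45126) q3960, e3 q2991 (flp_d L44093) q3889, e3 q2992 (flp_d L31366) q2210, e3 q2993 (flp_d L45178) q3965, e3 q2994 (flp_d L41198) q3619, e3 q2995 L31397 q2212, e3 q2996 L31409 q2289, e3 q2997 (flp_d L45230) q3970, e3 q2998 L31425 q2998, e3 q2999 L31431 q2215, e3 q3000 L31442 q2293, e3 q3001 L31448 q2294, e3 q3002 L623604 q3920, e3 q3003 (flp_d L31466) q2217, e3 q3004 (flp_d L45322) q3975, e3 q3005 (flp_d L41293) q3630, e3 q3006 L31498 q2219, e3 q3007 L31509 q3007, trivial⟩ (by decide +kernel)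

theorem ce_d_47 : ∀ r, r < 64 → sm gd (Qf (3008 + r)) = Qf (tab Gen.d (3008 + r)) :=
  edges_tab (sm gd) Qf (tab Gen.d) 3008 [(3008, 3980), (3009, 3009), (3010, 2222), (3011, 3011), (3012, 3012), (3013, 3985), (3014, 3639), (3015, 2225), (3016, 3990), (3017, 3643), (3018, 3995), (3019, 3019), (3020, 2229), (3021, 2303), (3022, 3998), (3023, 3023), (3024, 3900), (3025, 2234), (3026, 2308), (3027, 2309), (3028, 3655), (3029, 2236), (3030, 4004), (3031, 3659), (3032, 3671), (3033, 2266), (3034, 2240), (3035, 3035), (3036, 4011), (3037, 2270), (3038, 4016), (3039, 2245), (3040, 3040), (3041, 3041), (3042, 3672), (3043, 2276), (3044, 2248), (3045, 4023), (3046, 4024), (3047, 3680), (3048, 4029), (3049, 2250), (3050, 2281), (3051, 3051), (3052, 2254), (3053, 2317), (3054, 2283), (3055, 2284), (3056, 3056), (3057, 3057), (3058, 2318), (3059, 2319), (3060, 3487), (3061, 4003), (3062, 2263), (3063, 3063), (3064, 4041), (3065, 4043), (3066, 3700), (3067, 3475), (3068, 4009), (3069, 4051), (3070, 2269), (3071, 3071)]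
    ⟨e3 q3008 (flp_d L45373) q3980, e3 q3009 L31526 q3009, e3 q3010 L31532 q2222, e3 q3011 L31544 q3011, e3 q3012 L31549 q3012, e3 q3013 (flp_d L45426) q3985, e3 q3014 (flp_d L41368) q3639, e3 q3015 L31580 q2225, e3 q3016 (flp_d L45486) q3990, e3 q3017 (flp_d L41402) q3643, e3 q3018 L45539 q3995, e3 q3019 L31619 q3019, e3 q3020 L31625 q2229, e3 q3021 L31635 q2303, e3 q3022 (flp_d L45570) q3998, e3 q3023 L31659 q3023, e3 q3024 (flp_d L626882) q3900, e3 q3025 L31673 q2234, e3 q3026 L31685 q2308, e3 q3027 L31691 q2309, e3 q3028 (flp_d L41491) q3655, e3 q3029 L31709 q2236, e3 q3030 (flp_d L45693) q4004, e3 q3031 (flp_d L41526) q3659, e3 q3032 (flp_d L576313) q3671, e3 q3033 L31754 q2266, e3 q3034 L31761 q2240, e3 q3035 L31772 q3035, e3 q3036 (flp_d L45785) q4011, e3 q3037 L31796 q2270, e3 q3038 L45835 q4016, e3 q3039 L31814 q2245, e3 q3040 L31825 q3040, e3 q3041 L31830 q3041, e3 q3042 (flp_d L41631) q3672, e3 q3043 L31864 q2276, e3 q3044 L31873 q2248, e3 q3045 (flp_d L45951) q4023, e3 q3046 L45975 q4024, e3 q3047 (flp_d L41695)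 q3680, e3 q3048 L46006 q4029, e3 q3049 (flp_d L31924) q2250, e3 q3050 L31939 q2281, e3 q3051 L31951 q3051, e3 q3052 L31956 q2254, e3 q3053 L31965 q2317, e3 q3054 L31980 q2283, e3 q3055 L31987 q2284, e3 q3056 L32000 q3056, e3 q3057 L32005 q3057, e3 q3058 L32017 q2318, e3 q3059 L32023 q2319, e3 q3060 (flp_d L563374) q3487, e3 q3061 (flp_d L45684) q4003, e3 q3062 L32072 q2263, e3 q3063 L32086 q3063, e3 q3064 (flp_d L46213) q4041, e3 q3065 L46230 q4043, e3 q3066 (flp_d L41895) q3700, e3 q3067 (flp_d L537343) q3475, e3 q3068 (flp_d L45767) q4009, e3 q3069 L46316 q4051, e3 q3070 L32153 q2269, e3 q3071 L32166 q3071, trivial⟩ (by decide +kernel)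

theorem ce_d_48 : ∀ r, r < 64 → sm gd (Qf (3072 + r)) = Qf (tab Gen.d (3072 + r)) :=
  edges_tab (sm gd) Qf (tab Gen.d) 3072 [(3072, 4013), (3073, 4014), (3074, 4056), (3075, 2271), (3076, 3076), (3077, 3493), (3078, 4060), (3079, 3713), (3080, 4022), (3081, 2278), (3082, 2279), (3083, 4065), (3084, 3721), (3085, 4031), (3086, 4032), (3087, 3948), (3088, 3738), (3089, 2286), (3090, 4072), (3091, 3742), (3092, 4077), (3093, 3093), (3094, 2290), (3095, 3971), (3096, 4080), (3097, 3097), (3098, 3865), (3099, 2295), (3100, 3896), (3101, 3973), (3102, 3754), (3103, 3103), (3104, 2298), (3105, 4087), (3106, 4088), (3107, 3762), (3108, 4093), (3109, 2300), (3110, 3110), (3111, 4097), (3112, 2304), (3113, 3999), (3114, 3114), (3115, 3883), (3116, 2306), (3117, 4100), (3118, 3919), (3119, 4001), (3120, 3779), (3121, 2312), (3122, 3789), (3123, 4104), (3124, 2314), (3125, 2340), (3126, 4034), (3127, 4036), (3128, 3128), (3129, 3129), (3130, 2322), (3131, 4110), (3132, 3132), (3133, 4114), (3134, 2324), (3135, 3135)]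
    ⟨e3 q3072 (flp_d L45811) q4013, e3 q3073 (flp_d L45820) q4014, e3 q3074 L46365 q4056, e3 q3075 (flp_d L32197) q2271, e3 q3076 L32214 q3076, e3 q3077 (flp_d L563404) q3493, e3 q3078 L46401 q4060, e3 q3079 (flp_d L42056) q3713, e3 q3080 (flp_d L45930) q4022, e3 q3081 L32257 q2278, e3 q3082 (flp_d L32262) q2279, e3 q3083 (flp_d L46447) q4065, e3 q3084 (flp_d L42148) q3721, e3 q3085 (flp_d L46037) q4031, e3 q3086 (flp_d L46044) q4032, e3 q3087 (flp_d L624652) q3948, e3 q3088 (flp_d L42295) q3738, e3 q3089 L32323 q2286, e3 q3090 (flp_d L46538) q4072, e3 q3091 (flp_d L42331) q3742, e3 q3092 L46601 q4077, e3 q3093 L32373 q3093, e3 q3094 L32380 q2290, e3 q3095 (flp_d L45241) q3971, e3 q3096 (flp_d L46640) q4080, e3 q3097 L32416 q3097, e3 q3098 L626911 q3865, e3 q3099 L32436 q2295, e3 q3100 L625736 q3896, e3 q3101 (flp_d L45301) q3973, e3 q3102 (flp_d L42449) q3754, e3 q3103 L32494 q3103, e3 q3104 L32503 q2298, e3 q3105 (flp_d L46821) q4087, e3 q3106 L46845 q4088, e3 q3107 (flp_d L42518) q3762, e3 q3108 L46887 q4093, e3 q3109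 (flp_d L32560) q2300, e3 q3110 L32579 q3110, e3 q3111 L46932 q4097, e3 q3112 L32596 q2304, e3 q3113 (flp_d L45582) q3999, e3 q3114 L32621 q3114, e3 q3115 (flp_d L626870) q3883, e3 q3116 (flp_d L32636) q2306, e3 q3117 (flp_d L47006) q4100, e3 q3118 (flp_d L625852) q3919, e3 q3119 (flp_d L45644) q4001, e3 q3120 (flp_d L42674) q3779, e3 q3121 L32731 q2312, e3 q3122 (flp_d L42769) q3789, e3 q3123 L47136 q4104, e3 q3124 (flp_d L32772) q2314, e3 q3125 L32792 q2340, e3 q3126 (flp_d L46074) q4034, e3 q3127 (flp_d L46123) q4036, e3 q3128 L32842 q3128, e3 q3129 L32864 q3129, e3 q3130 L32871 q2322, e3 q3131 L47304 q4110, e3 q3132 L32911 q3132, e3 q3133 L47339 q4114, e3 q3134 (flp_d L32924) q2324, e3 q3135 L32945 q3135, trivial⟩ (by decide +kernel)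

theorem ce_d_49 : ∀ r, r < 64 → sm gd (Qf (3136 + r)) = Qf (tab Gen.d (3136 + r)) :=
  edges_tab (sm gd) Qf (tab Gen.d) 3136 [(3136, 4118), (3137, 3137), (3138, 3138), (3139, 3852), (3140, 2329), (3141, 4120), (3142, 3142), (3143, 4121), (3144, 2334), (3145, 4123), (3146, 2335), (3147, 4094), (3148, 2337), (3149, 3149), (3150, 2339), (3151, 4106), (3152, 2341), (3153, 4132), (3154, 2343), (3155, 3155), (3156, 2344), (3157, 4136), (3158, 4137), (3159, 2346), (3160, 4138), (3161, 4140), (3162, 3162), (3163, 4141), (3164, 2351), (3165, 2516), (3166, 3166), (3167, 3167), (3168, 3168), (3169, 2357), (3170, 4144), (3171, 2358), (3172, 4146), (3173, 3173), (3174, 2360), (3175, 4147), (3176, 2362), (3177, 3177), (3178, 2499), (3179, 3179), (3180, 4150), (3181, 2367), (3182, 4151), (3183, 2369), (3184, 4154), (3185, 3185), (3186, 3186), (3187, 2372), (3188, 3188), (3189, 4155), (3190, 2395), (3191, 2375), (3192, 3192), (3193, 2508), (3194, 3194), (3195, 2379), (3196, 4161), (3197, 2418), (3198, 3198), (3199, 2382)]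
    ⟨e3 q3136 L47392 q4118, e3 q3137 L32966 q3137, e3 q3138 L32982 q3138, e3 q3139 L619942 q3852, e3 q3140 (flp_d L32996) q2329, e3 q3141 (flp_d L47461) q4120, e3 q3142 L33019 q3142, e3 q3143 L47503 q4121, e3 q3144 (flp_d L33098) q2334, e3 q3145 L47581 q4123, e3 q3146 (flp_d L33113) q2335, e3 q3147 (flp_d L46905) q4094, e3 q3148 (flp_d L33145) q2337, e3 q3149 L33167 q3149, e3 q3150 L33172 q2339, e3 q3151 (flp_d L47166) q4106, e3 q3152 (flp_d L33232) q2341, e3 q3153 (flp_d L47752) q4132, e3 q3154 L33276 q2343, e3 q3155 L33287 q3155, e3 q3156 L33291 q2344, e3 q3157 (flp_d L47829) q4136, e3 q3158 L47883 q4137, e3 q3159 (flp_d L33333) q2346, e3 q3160 (flp_d L47907) q4138, e3 q3161 L47957 q4140, e3 q3162 L33381 q3162, e3 q3163 L625565 q4141, e3 q3164 (flp_d L33404) q2351, e3 q3165 L625579 q2516, e3 q3166 L33421 q3166, e3 q3167 L33434 q3167, e3 q3168 L33444 q3168, e3 q3169 L33530 q2357, e3 q3170 (flp_d L48183) q4144, e3 q3171 (flp_d L33580) q2358, e3 q3172 (flp_d L48266) q4146, e3 q3173 L33601 q3173, e3 q3174 (flp_d L33614) q2360,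 e3 q3175 (flp_d L620206) q4147, e3 q3176 L33634 q2362, e3 q3177 L33644 q3177, e3 q3178 L626934 q2499, e3 q3179 L33655 q3179, e3 q3180 L48381 q4150, e3 q3181 L33788 q2367, e3 q3182 (flp_d L48576) q4151, e3 q3183 L33861 q2369, e3 q3184 (flp_d L48696) q4154, e3 q3185 L33882 q3185, e3 q3186 L33907 q3186, e3 q3187 L33912 q2372, e3 q3188 L33920 q3188, e3 q3189 (flp_d L620245) q4155, e3 q3190 L33933 q2395, e3 q3191 L33939 q2375, e3 q3192 L33947 q3192, e3 q3193 (flp_d L620291) q2508, e3 q3194 L34046 q3194, e3 q3195 L34084 q2379, e3 q3196 (flp_d L49036) q4161, e3 q3197 L34108 q2418, e3 q3198 L34139 q3198, e3 q3199 L34144 q2382, trivial⟩ (by decide +kernel)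

theorem ce_d_50 : ∀ r, r < 64 → sm gd (Qf (3200 + r)) = Qf (tab Gen.d (3200 + r)) :=
  edges_tab (sm gd) Qf (tab Gen.d) 3200 [(3200, 3200), (3201, 4160), (3202, 2501), (3203, 2385), (3204, 3204), (3205, 2441), (3206, 3206), (3207, 4153), (3208, 2389), (3209, 4165), (3210, 3210), (3211, 4157), (3212, 2394), (3213, 3213), (3214, 4164), (3215, 2510), (3216, 2426), (3217, 2398), (3218, 3218), (3219, 3219), (3220, 2402), (3221, 4172), (3222, 3222), (3223, 3223), (3224, 4176), (3225, 2407), (3226, 3226), (3227, 3227), (3228, 3228), (3229, 2492), (3230, 2409), (3231, 3231), (3232, 2412), (3233, 4178), (3234, 2414), (3235, 4181), (3236, 3236), (3237, 2417), (3238, 3238), (3239, 4166), (3240, 2420), (3241, 4184), (3242, 3242), (3243, 2422), (3244, 4168), (3245, 2428), (3246, 4187), (3247, 3247), (3248, 2430), (3249, 4190), (3250, 3250), (3251, 4182), (3252, 2434), (3253, 3253), (3254, 3254), (3255, 2436), (3256, 4192), (3257, 3257), (3258, 2439), (3259, 2465), (3260, 2445), (3261, 4194), (3262, 2473), (3263, 2448)]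
    ⟨e3 q3200 L34156 q3200, e3 q3201 (flp_d L626132) q4160, e3 q3202 L626157 q2501, e3 q3203 L34175 q2385, e3 q3204 L34186 q3204, e3 q3205 L625990 q2441, e3 q3206 L34317 q3206, e3 q3207 (flp_d L48690) q4153, e3 q3208 L34384 q2389, e3 q3209 (flp_d L49494) q4165, e3 q3210 L34449 q3210, e3 q3211 (flp_d L48768) q4157, e3 q3212 L34468 q2394, e3 q3213 L34478 q3213, e3 q3214 (flp_d L625951) q4164, e3 q3215 (flp_d L603450) q2510, e3 q3216 L626088 q2426, e3 q3217 L34512 q2398, e3 q3218 L34524 q3218, e3 q3219 L34804 q3219, e3 q3220 L34821 q2402, e3 q3221 L50270 q4172, e3 q3222 L34914 q3222, e3 q3223 L34943 q3223, e3 q3224 L50368 q4176, e3 q3225 L34958 q2407, e3 q3226 L34967 q3226, e3 q3227 L34980 q3227, e3 q3228 L34986 q3228, e3 q3229 L626475 q2492, e3 q3230 (flp_d L34998) q2409, e3 q3231 L35020 q3231, e3 q3232 (flp_d L35028) q2412, e3 q3233 (flp_d L50468) q4178, e3 q3234 L35062 q2414, e3 q3235 (flp_d L50524) q4181, e3 q3236 L35093 q3236, e3 q3237 L35097 q2417, e3 q3238 L35108 q3238, e3 q3239 (flp_d L626061) q4166, e3 q3240 L35142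 q2420, e3 q3241 (flp_d L50637) q4184, e3 q3242 L35186 q3242, e3 q3243 L35192 q2422, e3 q3244 L626079 q4168, e3 q3245 L35274 q2428, e3 q3246 (flp_d L50839) q4187, e3 q3247 L35317 q3247, e3 q3248 L35323 q2430, e3 q3249 (flp_d L50930) q4190, e3 q3250 L35359 q3250, e3 q3251 (flp_d L626050) q4182, e3 q3252 L35371 q2434, e3 q3253 L35383 q3253, e3 q3254 L35417 q3254, e3 q3255 L35423 q2436, e3 q3256 (flp_d L51075) q4192, e3 q3257 L35490 q3257, e3 q3258 L35504 q2439, e3 q3259 L35602 q2465, e3 q3260 L35609 q2445, e3 q3261 (flp_d L51352) q4194, e3 q3262 L35680 q2473, e3 q3263 L35698 q2448, trivial⟩ (by decide +kernel)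

theorem ce_d_51 : ∀ r, r < 64 → sm gd (Qf (3264 + r)) = Qf (tab Gen.d (3264 + r)) :=
  edges_tab (sm gd) Qf (tab Gen.d) 3264 [(3264, 2477), (3265, 2478), (3266, 4197), (3267, 2450), (3268, 3268), (3269, 2485), (3270, 2455), (3271, 2490), (3272, 2491), (3273, 3273), (3274, 4202), (3275, 3275), (3276, 3471), (3277, 4193), (3278, 4210), (3279, 2468), (3280, 3280), (3281, 2469), (3282, 4212), (3283, 3283), (3284, 3284), (3285, 4217), (3286, 2471), (3287, 4195), (3288, 4196), (3289, 4220), (3290, 2474), (3291, 3291), (3292, 4173), (3293, 4219), (3294, 4218), (3295, 2479), (3296, 3296), (3297, 4222), (3298, 3298), (3299, 2483), (3300, 4225), (3301, 3301), (3302, 4198), (3303, 4199), (3304, 2488), (3305, 4214), (3306, 4213), (3307, 4175), (3308, 3308), (3309, 2494), (3310, 4230), (3311, 3311), (3312, 2497), (3313, 3313), (3314, 2504), (3315, 3315), (3316, 3316), (3317, 3317), (3318, 3318), (3319, 2521), (3320, 3320), (3321, 3321), (3322, 4236), (3323, 2526), (3324, 3324), (3325, 2531), (3326, 2528), (3327, 3327)]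
    ⟨e3 q3264 L35722 q2477, e3 q3265 L35729 q2478, e3 q3266 L51525 q4197, e3 q3267 (flp_d L35742) q2450, e3 q3268 L35762 q3268, e3 q3269 L35826 q2485, e3 q3270 L35843 q2455, e3 q3271 L35929 q2490, e3 q3272 L35936 q2491, e3 q3273 L36015 q3273, e3 q3274 L51934 q4202, e3 q3275 L36044 q3275, e3 q3276 L579572 q3471, e3 q3277 (flp_d L51334) q4193, e3 q3278 L52031 q4210, e3 q3279 L36088 q2468, e3 q3280 L36101 q3280, e3 q3281 (flp_d L36103) q2469, e3 q3282 (flp_d L52052) q4212, e3 q3283 L417314 q3283, e3 q3284 L36135 q3284, e3 q3285 L52108 q4217, e3 q3286 (flp_d L36149) q2471, e3 q3287 (flp_d L51445) q4195, e3 q3288 (flp_d L51454) q4196, e3 q3289 L52160 q4220, e3 q3290 (flp_d L36193) q2474, e3 q3291 L36209 q3291, e3 q3292 (flp_d L626500) q4173, e3 q3293 L623955 q4219, e3 q3294 (flp_d L624347) q4218, e3 q3295 (flp_d L36236) q2479, e3 q3296 L36248 q3296, e3 q3297 L52218 q4222, e3 q3298 L36262 q3298, e3 q3299 (flp_d L36265) q2483, e3 q3300 (flp_d L52247) q4225, e3 q3301 L36287 q3301, e3 q3302 (flp_d L51677) q4198, e3 q3303 (flp_d L51684)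 q4199, e3 q3304 L36309 q2488, e3 q3305 (flp_d L616842) q4214, e3 q3306 L616858 q4213, e3 q3307 L624237 q4175, e3 q3308 L36389 q3308, e3 q3309 L36396 q2494, e3 q3310 (flp_d L52420) q4230, e3 q3311 L36477 q3311, e3 q3312 L36495 q2497, e3 q3313 L36638 q3313, e3 q3314 L36655 q2504, e3 q3315 L36752 q3315, e3 q3316 L37084 q3316, e3 q3317 L37194 q3317, e3 q3318 L37673 q3318, e3 q3319 (flp_d L37875) q2521, e3 q3320 L37901 q3320, e3 q3321 L38305 q3321, e3 q3322 L55049 q4236, e3 q3323 (flp_d L38322) q2526, e3 q3324 L38338 q3324, e3 q3325 L38346 q2531, e3 q3326 (flp_d L38348) q2528, e3 q3327 L38369 q3327, trivial⟩ (by decide +kernel)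

theorem ce_d_52 : ∀ r, r < 64 → sm gd (Qf (3328 + r)) = Qf (tab Gen.d (3328 + r)) :=
  edges_tab (sm gd) Qf (tab Gen.d) 3328 [(3328, 4238), (3329, 3329), (3330, 4249), (3331, 4241), (3332, 3332), (3333, 4254), (3334, 3334), (3335, 3335), (3336, 4258), (3337, 2535), (3338, 4260), (3339, 3339), (3340, 4264), (3341, 2538), (3342, 4267), (3343, 2540), (3344, 2573), (3345, 4271), (3346, 3346), (3347, 2542), (3348, 2667), (3349, 3349), (3350, 2671), (3351, 3351), (3352, 2673), (3353, 4285), (3354, 3354), (3355, 2679), (3356, 4289), (3357, 3357), (3358, 2682), (3359, 4293), (3360, 2550), (3361, 4295), (3362, 3362), (3363, 2689), (3364, 4300), (3365, 2580), (3366, 2692), (3367, 4304), (3368, 2555), (3369, 4306), (3370, 2585), (3371, 4310), (3372, 2558), (3373, 4312), (3374, 2593), (3375, 4316), (3376, 2561), (3377, 4319), (3378, 2563), (3379, 4261), (3380, 4323), (3381, 2600), (3382, 2565), (3383, 4328), (3384, 2567), (3385, 3385), (3386, 4332), (3387, 2612), (3388, 2569), (3389, 4337), (3390, 3390), (3391, 2571)]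
    ⟨e3 q3328 (flp_d L55075) q4238, e3 q3329 L38381 q3329, e3 q3330 L55175 q4249, e3 q3331 (flp_d L55097) q4241, e3 q3332 L38409 q3332, e3 q3333 L55223 q4254, e3 q3334 L38432 q3334, e3 q3335 L38441 q3335, e3 q3336 L55262 q4258, e3 q3337 (flp_d L38458) q2535, e3 q3338 (flp_d L55282) q4260, e3 q3339 L38478 q3339, e3 q3340 L55314 q4264, e3 q3341 (flp_d L38494) q2538, e3 q3342 (flp_d L55344) q4267, e3 q3343 L38515 q2540, e3 q3344 L38525 q2573, e3 q3345 (flp_d L55377) q4271, e3 q3346 L38540 q3346, e3 q3347 (flp_d L38546) q2542, e3 q3348 L38564 q2667, e3 q3349 L38573 q3349, e3 q3350 L38584 q2671, e3 q3351 L38595 q3351, e3 q3352 L38598 q2673, e3 q3353 L55506 q4285, e3 q3354 L38616 q3354, e3 q3355 L38623 q2679, e3 q3356 L55551 q4289, e3 q3357 L38645 q3357, e3 q3358 L38654 q2682, e3 q3359 L55588 q4293, e3 q3360 (flp_d L38666) q2550, e3 q3361 (flp_d L55606) q4295, e3 q3362 L38684 q3362, e3 q3363 L38690 q2689, e3 q3364 L55654 q4300, e3 q3365 L38714 q2580, e3 q3366 L38724 q2692, e3 q3367 L55695 q4304, e3 q3368 (flp_d L38738) q2555, e3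 q3369 (flp_d L55716) q4306, e3 q3370 L38759 q2585, e3 q3371 L55756 q4310, e3 q3372 (flp_d L38783) q2558, e3 q3373 (flp_d L55779) q4312, e3 q3374 L38806 q2593, e3 q3375 L55814 q4316, e3 q3376 (flp_d L38821) q2561, e3 q3377 (flp_d L55842) q4319, e3 q3378 L38839 q2563, e3 q3379 (flp_d L55292) q4261, e3 q3380 (flp_d L55871) q4323, e3 q3381 L38861 q2600, e3 q3382 (flp_d L38875) q2565, e3 q3383 (flp_d L55933) q4328, e3 q3384 L38899 q2567, e3 q3385 L38912 q3385, e3 q3386 (flp_d L55971) q4332, e3 q3387 L38926 q2612, e3 q3388 (flp_d L38933) q2569, e3 q3389 (flp_d L56018) q4337, e3 q3390 L38956 q3390, e3 q3391 L38961 q2571, trivial⟩ (by decide +kernel)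

theorem ce_d_53 : ∀ r, r < 64 → sm gd (Qf (3392 + r)) = Qf (tab Gen.d (3392 + r)) :=
  edges_tab (sm gd) Qf (tab Gen.d) 3392 [(3392, 4268), (3393, 4343), (3394, 3394), (3395, 2574), (3396, 4272), (3397, 4273), (3398, 4349), (3399, 3399), (3400, 4354), (3401, 3401), (3402, 2730), (3403, 4358), (3404, 2579), (3405, 4360), (3406, 4302), (3407, 4364), (3408, 2582), (3409, 4367), (3410, 2584), (3411, 3411), (3412, 4371), (3413, 4309), (3414, 3414), (3415, 4376), (3416, 2587), (3417, 4378), (3418, 3418), (3419, 4382), (3420, 2590), (3421, 4385), (3422, 2592), (3423, 4379), (3424, 4389), (3425, 4315), (3426, 2594), (3427, 4394), (3428, 3428), (3429, 2596), (3430, 3430), (3431, 4400), (3432, 3432), (3433, 2599), (3434, 3434), (3435, 3435), (3436, 4406), (3437, 4409), (3438, 2602), (3439, 4412), (3440, 2604), (3441, 2610), (3442, 4416), (3443, 3443), (3444, 2606), (3445, 4421), (3446, 3446), (3447, 2608), (3448, 4413), (3449, 4427), (3450, 2642), (3451, 2611), (3452, 4417), (3453, 4418), (3454, 4433), (3455, 3455)]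
    ⟨e3 q3392 (flp_d L55354) q4268, e3 q3393 (flp_d L56065) q4343, e3 q3394 L38983 q3394, e3 q3395 L38991 q2574, e3 q3396 (flp_d L55387) q4272, e3 q3397 (flp_d L55393) q4273, e3 q3398 (flp_d L56111) q4349, e3 q3399 L39018 q3399, e3 q3400 L56152 q4354, e3 q3401 L39042 q3401, e3 q3402 L39052 q2730, e3 q3403 L56193 q4358, e3 q3404 (flp_d L39071) q2579, e3 q3405 (flp_d L56217) q4360, e3 q3406 (flp_d L55680) q4302, e3 q3407 L56250 q4364, e3 q3408 (flp_d L39109) q2582, e3 q3409 (flp_d L56282) q4367, e3 q3410 L39130 q2584, e3 q3411 L39142 q3411, e3 q3412 (flp_d L56315) q4371, e3 q3413 (flp_d L55740) q4309, e3 q3414 L39163 q3414, e3 q3415 L56356 q4376, e3 q3416 (flp_d L39181) q2587, e3 q3417 (flp_d L56377) q4378, e3 q3418 L39202 q3418, e3 q3419 L56411 q4382, e3 q3420 (flp_d L39219) q2590, e3 q3421 (flp_d L56444) q4385, e3 q3422 L39240 q2592, e3 q3423 (flp_d L56387) q4379, e3 q3424 (flp_d L56477) q4389, e3 q3425 (flp_d L55807) q4315, e3 q3426 (flp_d L39270) q2594, e3 q3427 (flp_d L56521) q4394, e3 q3428 L39293 q3428, e3 q3429 L39298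 q2596, e3 q3430 L39308 q3430, e3 q3431 (flp_d L56567) q4400, e3 q3432 L39321 q3432, e3 q3433 L39327 q2599, e3 q3434 L39336 q3434, e3 q3435 L39340 q3435, e3 q3436 (flp_d L56612) q4406, e3 q3437 L56630 q4409, e3 q3438 (flp_d L39364) q2602, e3 q3439 (flp_d L56661) q4412, e3 q3440 L39386 q2604, e3 q3441 L39396 q2610, e3 q3442 (flp_d L56696) q4416, e3 q3443 L39412 q3443, e3 q3444 (flp_d L39419) q2606, e3 q3445 (flp_d L56743) q4421, e3 q3446 L39447 q3446, e3 q3447 L39452 q2608, e3 q3448 (flp_d L56671) q4413, e3 q3449 (flp_d L56796) q4427, e3 q3450 L39479 q2642, e3 q3451 L39486 q2611, e3 q3452 (flp_d L56706) q4417, e3 q3453 (flp_d L56712) q4418, e3 q3454 (flp_d L56846) q4433, e3 q3455 L39521 q3455, trivial⟩ (by decide +kernel)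

theorem ce_d_54 : ∀ r, r < 64 → sm gd (Qf (3456 + r)) = Qf (tab Gen.d (3456 + r)) :=
  edges_tab (sm gd) Qf (tab Gen.d) 3456 [(3456, 2614), (3457, 3457), (3458, 4440), (3459, 3459), (3460, 4447), (3461, 2653), (3462, 2618), (3463, 3463), (3464, 3464), (3465, 4451), (3466, 2658), (3467, 4457), (3468, 2623), (3469, 3469), (3470, 3470), (3471, 3276), (3472, 2627), (3473, 4463), (3474, 2635), (3475, 3067), (3476, 2631), (3477, 4467), (3478, 4415), (3479, 2634), (3480, 2644), (3481, 4471), (3482, 2637), (3483, 4474), (3484, 3484), (3485, 4426), (3486, 2641), (3487, 3060), (3488, 4480), (3489, 4431), (3490, 4485), (3491, 2646), (3492, 4472), (3493, 3077), (3494, 3494), (3495, 4439), (3496, 2650), (3497, 3497), (3498, 4493), (3499, 4495), (3500, 3500), (3501, 2874), (3502, 4449), (3503, 4503), (3504, 2657), (3505, 3505), (3506, 3506), (3507, 4454), (3508, 4455), (3509, 4510), (3510, 2659), (3511, 4513), (3512, 3512), (3513, 3513), (3514, 3514), (3515, 4516), (3516, 2665), (3517, 4275), (3518, 3518), (3519, 4277)]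
    ⟨e3 q3456 L39527 q2614, e3 q3457 L39538 q3457, e3 q3458 (flp_d L56903) q4440, e3 q3459 L39552 q3459, e3 q3460 L56952 q4447, e3 q3461 L39566 q2653, e3 q3462 L39574 q2618, e3 q3463 L39583 q3463, e3 q3464 L39588 q3464, e3 q3465 (flp_d L56985) q4451, e3 q3466 L39604 q2658, e3 q3467 L57025 q4457, e3 q3468 L39619 q2623, e3 q3469 L39627 q3469, e3 q3470 L39631 q3470, e3 q3471 (flp_d L579572) q3276, e3 q3472 L39667 q2627, e3 q3473 (flp_d L57122) q4463, e3 q3474 L39693 q2635, e3 q3475 L537343 q3067, e3 q3476 L39730 q2631, e3 q3477 (flp_d L57218) q4467, e3 q3478 (flp_d L56689) q4415, e3 q3479 L39761 q2634, e3 q3480 L39771 q2644, e3 q3481 (flp_d L57267) q4471, e3 q3482 L39808 q2637, e3 q3483 (flp_d L57335) q4474, e3 q3484 L39836 q3484, e3 q3485 (flp_d L56788) q4426, e3 q3486 L39862 q2641, e3 q3487 L563374 q3060, e3 q3488 (flp_d L57434) q4480, e3 q3489 (flp_d L56829) q4431, e3 q3490 L57482 q4485, e3 q3491 L39914 q2646, e3 q3492 (flp_d L57278) q4472, e3 q3493 L563404 q3077, e3 q3494 L39951 q3494, e3 q3495 (flp_d L56894) q4439, e3 q3496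 L39976 q2650, e3 q3497 L39987 q3497, e3 q3498 (flp_d L57601) q4493, e3 q3499 L57623 q4495, e3 q3500 L40020 q3500, e3 q3501 L545981 q2874, e3 q3502 (flp_d L56968) q4449, e3 q3503 L57710 q4503, e3 q3504 L40066 q2657, e3 q3505 L40077 q3505, e3 q3506 L40082 q3506, e3 q3507 (flp_d L57006) q4454, e3 q3508 (flp_d L57013) q4455, e3 q3509 L57769 q4510, e3 q3510 (flp_d L40108) q2659, e3 q3511 (flp_d L57794) q4513, e3 q3512 L40132 q3512, e3 q3513 L40137 q3513, e3 q3514 L40147 q3514, e3 q3515 L57821 q4516, e3 q3516 (flp_d L40165) q2665, e3 q3517 (flp_d L55418) q4275, e3 q3518 L40196 q3518, e3 q3519 (flp_d L55433) q4277, trivial⟩ (by decide +kernel)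

theorem ce_d_55 : ∀ r, r < 64 → sm gd (Qf (3520 + r)) = Qf (tab Gen.d (3520 + r)) :=
  edges_tab (sm gd) Qf (tab Gen.d) 3520 [(3520, 4524), (3521, 3521), (3522, 2669), (3523, 3523), (3524, 4528), (3525, 4280), (3526, 4532), (3527, 3527), (3528, 4283), (3529, 4536), (3530, 2674), (3531, 4538), (3532, 3532), (3533, 3533), (3534, 2678), (3535, 4544), (3536, 4543), (3537, 4547), (3538, 2680), (3539, 4549), (3540, 3540), (3541, 4553), (3542, 2683), (3543, 4556), (3544, 2685), (3545, 3545), (3546, 4560), (3547, 3547), (3548, 4564), (3549, 3549), (3550, 4567), (3551, 2690), (3552, 4569), (3553, 2734), (3554, 4573), (3555, 2693), (3556, 4576), (3557, 2695), (3558, 3558), (3559, 4580), (3560, 2741), (3561, 2697), (3562, 4584), (3563, 3563), (3564, 2699), (3565, 4589), (3566, 2701), (3567, 4585), (3568, 4593), (3569, 2748), (3570, 2703), (3571, 4598), (3572, 2953), (3573, 2705), (3574, 3574), (3575, 4604), (3576, 4559), (3577, 2708), (3578, 3578), (3579, 3579), (3580, 4610), (3581, 2711), (3582, 2716), (3583, 4614)]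
    ⟨e3 q3520 L57903 q4524, e3 q3521 L40220 q3521, e3 q3522 (flp_d L40224) q2669, e3 q3523 L40244 q3523, e3 q3524 (flp_d L57946) q4528, e3 q3525 (flp_d L55457) q4280, e3 q3526 L58003 q4532, e3 q3527 L40279 q3527, e3 q3528 (flp_d L55492) q4283, e3 q3529 L58042 q4536, e3 q3530 (flp_d L40305) q2674, e3 q3531 (flp_d L58063) q4538, e3 q3532 L40326 q3532, e3 q3533 L40337 q3533, e3 q3534 L40346 q2678, e3 q3535 L58142 q4544, e3 q3536 (flp_d L58115) q4543, e3 q3537 L58179 q4547, e3 q3538 (flp_d L40397) q2680, e3 q3539 (flp_d L58200) q4549, e3 q3540 L40418 q3540, e3 q3541 L58230 q4553, e3 q3542 (flp_d L40433) q2683, e3 q3543 (flp_d L58256) q4556, e3 q3544 L40451 q2685, e3 q3545 L40458 q3545, e3 q3546 (flp_d L58284) q4560, e3 q3547 L40473 q3547, e3 q3548 L58333 q4564, e3 q3549 L40505 q3549, e3 q3550 L58374 q4567, e3 q3551 (flp_d L40532) q2690, e3 q3552 (flp_d L58398) q4569, e3 q3553 L40556 q2734, e3 q3554 L58432 q4573, e3 q3555 (flp_d L40572) q2693, e3 q3556 (flp_d L58463) q4576, e3 q3557 L40593 q2695, e3 q3558 L40605 q3558, e3 q3559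 (flp_d L58495) q4580, e3 q3560 L40618 q2741, e3 q3561 (flp_d L40646) q2697, e3 q3562 (flp_d L58559) q4584, e3 q3563 L40667 q3563, e3 q3564 (flp_d L40684) q2699, e3 q3565 (flp_d L58624) q4589, e3 q3566 L40705 q2701, e3 q3567 (flp_d L58569) q4585, e3 q3568 (flp_d L58656) q4593, e3 q3569 L40730 q2748, e3 q3570 (flp_d L40736) q2703, e3 q3571 (flp_d L58700) q4598, e3 q3572 L40757 q2953, e3 q3573 L40763 q2705, e3 q3574 L40771 q3574, e3 q3575 (flp_d L58744) q4604, e3 q3576 (flp_d L58278) q4559, e3 q3577 L40791 q2708, e3 q3578 L40802 q3578, e3 q3579 L40808 q3579, e3 q3580 (flp_d L58790) q4610, e3 q3581 L40852 q2711, e3 q3582 L40862 q2716, e3 q3583 (flp_d L58878) q4614, trivial⟩ (by decide +kernel)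

theorem ce_d_56 : ∀ r, r < 64 → sm gd (Qf (3584 + r)) = Qf (tab Gen.d (3584 + r)) :=
  edges_tab (sm gd) Qf (tab Gen.d) 3584 [(3584, 3584), (3585, 2963), (3586, 2714), (3587, 2847), (3588, 4621), (3589, 3589), (3590, 2717), (3591, 4615), (3592, 4616), (3593, 4627), (3594, 2969), (3595, 2720), (3596, 3596), (3597, 4634), (3598, 2973), (3599, 4641), (3600, 3600), (3601, 2724), (3602, 3602), (3603, 3603), (3604, 4645), (3605, 3605), (3606, 4651), (3607, 2729), (3608, 3608), (3609, 3609), (3610, 4655), (3611, 2731), (3612, 4658), (3613, 2733), (3614, 3614), (3615, 4662), (3616, 4572), (3617, 2735), (3618, 4667), (3619, 2994), (3620, 2737), (3621, 2823), (3622, 4673), (3623, 3623), (3624, 2740), (3625, 2827), (3626, 2828), (3627, 4679), (3628, 2742), (3629, 4683), (3630, 3005), (3631, 2744), (3632, 3632), (3633, 4689), (3634, 3634), (3635, 2747), (3636, 3636), (3637, 3637), (3638, 4695), (3639, 3014), (3640, 2750), (3641, 2832), (3642, 4702), (3643, 3017), (3644, 4709), (3645, 3645), (3646, 2754), (3647, 2838)]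
    ⟨e3 q3584 L40878 q3584, e3 q3585 L40910 q2963, e3 q3586 L40916 q2714, e3 q3587 L592360 q2847, e3 q3588 (flp_d L58974) q4621, e3 q3589 L40943 q3589, e3 q3590 L40949 q2717, e3 q3591 (flp_d L58888) q4615, e3 q3592 (flp_d L58894) q4616, e3 q3593 (flp_d L59025) q4627, e3 q3594 L40983 q2969, e3 q3595 L40990 q2720, e3 q3596 L40999 q3596, e3 q3597 (flp_d L59083) q4634, e3 q3598 L41015 q2973, e3 q3599 L59135 q4641, e3 q3600 L41030 q3600, e3 q3601 L41035 q2724, e3 q3602 L41044 q3602, e3 q3603 L41049 q3603, e3 q3604 (flp_d L59168) q4645, e3 q3605 L41065 q3605, e3 q3606 L59210 q4651, e3 q3607 L41081 q2729, e3 q3608 L41091 q3608, e3 q3609 L41097 q3609, e3 q3610 L59241 q4655, e3 q3611 (flp_d L41114) q2731, e3 q3612 (flp_d L59277) q4658, e3 q3613 L41138 q2733, e3 q3614 L41150 q3614, e3 q3615 (flp_d L59313) q4662, e3 q3616 (flp_d L58425) q4572, e3 q3617 (flp_d L41173) q2735, e3 q3618 (flp_d L59361) q4667, e3 q3619 L41198 q2994, e3 q3620 L41204 q2737, e3 q3621 L41215 q2823, e3 q3622 (flp_d L59412) q4673, e3 q3623 L41232 q3623, e3 q3624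 L41236 q2740, e3 q3625 L41246 q2827, e3 q3626 L41251 q2828, e3 q3627 (flp_d L59462) q4679, e3 q3628 (flp_d L41267) q2742, e3 q3629 (flp_d L59499) q4683, e3 q3630 L41293 q3005, e3 q3631 L41299 q2744, e3 q3632 L41309 q3632, e3 q3633 (flp_d L59549) q4689, e3 q3634 L41327 q3634, e3 q3635 L41331 q2747, e3 q3636 L41342 q3636, e3 q3637 L41346 q3637, e3 q3638 (flp_d L59599) q4695, e3 q3639 L41368 q3014, e3 q3640 L41375 q2750, e3 q3641 L41384 q2832, e3 q3642 (flp_d L59655) q4702, e3 q3643 L41402 q3017, e3 q3644 L59707 q4709, e3 q3645 L41414 q3645, e3 q3646 L41419 q2754, e3 q3647 L41429 q2838, trivial⟩ (by decide +kernel)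

theorem ce_d_57 : ∀ r, r < 64 → sm gd (Qf (3648 + r)) = Qf (tab Gen.d (3648 + r)) :=
  edges_tab (sm gd) Qf (tab Gen.d) 3648 [(3648, 2839), (3649, 4713), (3650, 3650), (3651, 4719), (3652, 2759), (3653, 2844), (3654, 2845), (3655, 3028), (3656, 2761), (3657, 3657), (3658, 4727), (3659, 3031), (3660, 4734), (3661, 2790), (3662, 2765), (3663, 3663), (3664, 3664), (3665, 4738), (3666, 2794), (3667, 4744), (3668, 2770), (3669, 3669), (3670, 3670), (3671, 3032), (3672, 3042), (3673, 4619), (3674, 2800), (3675, 2774), (3676, 2850), (3677, 2851), (3678, 4755), (3679, 4758), (3680, 3047), (3681, 4763), (3682, 2776), (3683, 4766), (3684, 2807), (3685, 4770), (3686, 2781), (3687, 2861), (3688, 2862), (3689, 2812), (3690, 2813), (3691, 4777), (3692, 2783), (3693, 4780), (3694, 2868), (3695, 2869), (3696, 4726), (3697, 2788), (3698, 4783), (3699, 4784), (3700, 3066), (3701, 4736), (3702, 4790), (3703, 2793), (3704, 3704), (3705, 4741), (3706, 4742), (3707, 4795), (3708, 2795), (3709, 4798), (3710, 3710), (3711, 3711)]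
    ⟨e3 q3648 L41435 q2839, e3 q3649 (flp_d L59738) q4713, e3 q3650 L41453 q3650, e3 q3651 L59779 q4719, e3 q3652 L41464 q2759, e3 q3653 L41475 q2844, e3 q3654 L41480 q2845, e3 q3655 L41491 q3028, e3 q3656 L41498 q2761, e3 q3657 L41509 q3657, e3 q3658 (flp_d L59849) q4727, e3 q3659 L41526 q3031, e3 q3660 L59906 q4734, e3 q3661 L41543 q2790, e3 q3662 L41549 q2765, e3 q3663 L41560 q3663, e3 q3664 L41565 q3664, e3 q3665 (flp_d L59940) q4738, e3 q3666 L41584 q2794, e3 q3667 L59986 q4744, e3 q3668 L41599 q2770, e3 q3669 L41609 q3669, e3 q3670 L41613 q3670, e3 q3671 L576313 q3032, e3 q3672 L41631 q3042, e3 q3673 (flp_d L575531) q4619, e3 q3674 L41647 q2800, e3 q3675 L41654 q2774, e3 q3676 L41664 q2850, e3 q3677 L41671 q2851, e3 q3678 (flp_d L60092) q4755, e3 q3679 L60114 q4758, e3 q3680 L41695 q3047, e3 q3681 L60147 q4763, e3 q3682 (flp_d L41704) q2776, e3 q3683 (flp_d L60174) q4766, e3 q3684 L41720 q2807, e3 q3685 L60200 q4770, e3 q3686 L41735 q2781, e3 q3687 L41744 q2861, e3 q3688 L41750 q2862, e3 q3689 L41758 q2812, e3 q3690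 L41763 q2813, e3 q3691 L60253 q4777, e3 q3692 (flp_d L41775) q2783, e3 q3693 (flp_d L60280) q4780, e3 q3694 L41795 q2868, e3 q3695 L41800 q2869, e3 q3696 (flp_d L59842) q4726, e3 q3697 L41846 q2788, e3 q3698 (flp_d L60382) q4783, e3 q3699 L60408 q4784, e3 q3700 L41895 q3066, e3 q3701 (flp_d L59923) q4736, e3 q3702 L60512 q4790, e3 q3703 L41944 q2793, e3 q3704 L41957 q3704, e3 q3705 (flp_d L59965) q4741, e3 q3706 (flp_d L59972) q4742, e3 q3707 L60571 q4795, e3 q3708 (flp_d L41992) q2795, e3 q3709 (flp_d L60596) q4798, e3 q3710 L42014 q3710, e3 q3711 L42019 q3711, trivial⟩ (by decide +kernel)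

theorem ce_d_58 : ∀ r, r < 64 → sm gd (Qf (3712 + r)) = Qf (tab Gen.d (3712 + r)) :=
  edges_tab (sm gd) Qf (tab Gen.d) 3712 [(3712, 4800), (3713, 3079), (3714, 4753), (3715, 4806), (3716, 2803), (3717, 2873), (3718, 2804), (3719, 4808), (3720, 4813), (3721, 3084), (3722, 3722), (3723, 4767), (3724, 4768), (3725, 4818), (3726, 2808), (3727, 4821), (3728, 2880), (3729, 2881), (3730, 4774), (3731, 4825), (3732, 4827), (3733, 2814), (3734, 4830), (3735, 3735), (3736, 2816), (3737, 2889), (3738, 3088), (3739, 2820), (3740, 4668), (3741, 4837), (3742, 3091), (3743, 4844), (3744, 3744), (3745, 2824), (3746, 4674), (3747, 4675), (3748, 4848), (3749, 3749), (3750, 4854), (3751, 2829), (3752, 4680), (3753, 4681), (3754, 3102), (3755, 4590), (3756, 3756), (3757, 2833), (3758, 4703), (3759, 4704), (3760, 4864), (3761, 4867), (3762, 3107), (3763, 4872), (3764, 2835), (3765, 4875), (3766, 3766), (3767, 4879), (3768, 2840), (3769, 4714), (3770, 4715), (3771, 3771), (3772, 3772), (3773, 4886), (3774, 2842), (3775, 4889)]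
    ⟨e3 q3712 L60646 q4800, e3 q3713 L42056 q3079, e3 q3714 (flp_d L60075) q4753, e3 q3715 L60723 q4806, e3 q3716 L42098 q2803, e3 q3717 L42110 q2873, e3 q3718 (flp_d L42122) q2804, e3 q3719 (flp_d L60763) q4808, e3 q3720 L60796 q4813, e3 q3721 L42148 q3084, e3 q3722 L42160 q3722, e3 q3723 (flp_d L60181) q4767, e3 q3724 (flp_d L60187) q4768, e3 q3725 L60851 q4818, e3 q3726 (flp_d L42190) q2808, e3 q3727 (flp_d L60876) q4821, e3 q3728 L42212 q2880, e3 q3729 L42218 q2881, e3 q3730 (flp_d L60236) q4774, e3 q3731 L60906 q4825, e3 q3732 L60918 q4827, e3 q3733 (flp_d L42246) q2814, e3 q3734 (flp_d L60946) q4830, e3 q3735 L42267 q3735, e3 q3736 L42271 q2816, e3 q3737 L42280 q2889, e3 q3738 L42295 q3088, e3 q3739 L42302 q2820, e3 q3740 (flp_d L59373) q4668, e3 q3741 (flp_d L61020) q4837, e3 q3742 L42331 q3091, e3 q3743 L61082 q4844, e3 q3744 L42352 q3744, e3 q3745 L42358 q2824, e3 q3746 (flp_d L59423) q4674, e3 q3747 (flp_d L59429) q4675, e3 q3748 (flp_d L61121) q4848, e3 q3749 L42394 q3749, e3 q3750 L61169 q4854, e3 q3751 L42411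 q2829, e3 q3752 (flp_d L59473) q4680, e3 q3753 (flp_d L59478) q4681, e3 q3754 L42449 q3102, e3 q3755 L592224 q4590, e3 q3756 L42467 q3756, e3 q3757 L42474 q2833, e3 q3758 (flp_d L59666) q4703, e3 q3759 (flp_d L59673) q4704, e3 q3760 (flp_d L61288) q4864, e3 q3761 L61310 q4867, e3 q3762 L42518 q3107, e3 q3763 L61353 q4872, e3 q3764 (flp_d L42530) q2835, e3 q3765 (flp_d L61379) q4875, e3 q3766 L42550 q3766, e3 q3767 L61408 q4879, e3 q3768 L42565 q2840, e3 q3769 (flp_d L59750) q4714, e3 q3770 (flp_d L59756) q4715, e3 q3771 L42589 q3771, e3 q3772 L42598 q3772, e3 q3773 L61466 q4886, e3 q3774 (flp_d L42610) q2842, e3 q3775 (flp_d L61490) q4889, trivial⟩ (by decide +kernel)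

theorem ce_d_59 : ∀ r, r < 64 → sm gd (Qf (3776 + r)) = Qf (tab Gen.d (3776 + r)) :=
  edges_tab (sm gd) Qf (tab Gen.d) 3776 [(3776, 4721), (3777, 4722), (3778, 3778), (3779, 3120), (3780, 4622), (3781, 4623), (3782, 2870), (3783, 4899), (3784, 2852), (3785, 4756), (3786, 4757), (3787, 3787), (3788, 4906), (3789, 3122), (3790, 4909), (3791, 2855), (3792, 4912), (3793, 3793), (3794, 2857), (3795, 2875), (3796, 2876), (3797, 4918), (3798, 2859), (3799, 4921), (3800, 4772), (3801, 4773), (3802, 2882), (3803, 4925), (3804, 4927), (3805, 2865), (3806, 4930), (3807, 3807), (3808, 2867), (3809, 4781), (3810, 4896), (3811, 4897), (3812, 4937), (3813, 2871), (3814, 4940), (3815, 4807), (3816, 4499), (3817, 4915), (3818, 4944), (3819, 4946), (3820, 2877), (3821, 4949), (3822, 3822), (3823, 2879), (3824, 4822), (3825, 4923), (3826, 4953), (3827, 2883), (3828, 4956), (3829, 2884), (3830, 4954), (3831, 2894), (3832, 2886), (3833, 2895), (3834, 2896), (3835, 3835), (3836, 4957), (3837, 4959), (3838, 4960), (3839, 2898)]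
    ⟨e3 q3776 (flp_d L59797) q4721, e3 q3777 (flp_d L59802) q4722, e3 q3778 L42666 q3778, e3 q3779 L42674 q3120, e3 q3780 L592369 q4622, e3 q3781 (flp_d L592330) q4623, e3 q3782 L42707 q2870, e3 q3783 L61648 q4899, e3 q3784 L42726 q2852, e3 q3785 (flp_d L60102) q4756, e3 q3786 (flp_d L60109) q4757, e3 q3787 L42751 q3787, e3 q3788 L61710 q4906, e3 q3789 L42769 q3122, e3 q3790 L61734 q4909, e3 q3791 (flp_d L42780) q2855, e3 q3792 (flp_d L61758) q4912, e3 q3793 L42803 q3793, e3 q3794 L42807 q2857, e3 q3795 L42814 q2875, e3 q3796 L42822 q2876, e3 q3797 L61809 q4918, e3 q3798 (flp_d L42836) q2859, e3 q3799 (flp_d L61836) q4921, e3 q3800 (flp_d L60223) q4772, e3 q3801 (flp_d L60229) q4773, e3 q3802 L42871 q2882, e3 q3803 L61865 q4925, e3 q3804 L61881 q4927, e3 q3805 (flp_d L42892) q2865, e3 q3806 (flp_d L61910) q4930, e3 q3807 L42915 q3807, e3 q3808 L42919 q2867, e3 q3809 (flp_d L60288) q4781, e3 q3810 (flp_d L61624) q4896, e3 q3811 (flp_d L61633) q4897, e3 q3812 L61968 q4937, e3 q3813 (flp_d L42960) q2871, e3 q3814 (flp_d L61998)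 q4940, e3 q3815 (flp_d L60748) q4807, e3 q3816 (flp_d L545999) q4499, e3 q3817 (flp_d L61788) q4915, e3 q3818 L62032 q4944, e3 q3819 L62049 q4946, e3 q3820 (flp_d L43026) q2877, e3 q3821 (flp_d L62076) q4949, e3 q3822 L43046 q3822, e3 q3823 L43051 q2879, e3 q3824 (flp_d L60885) q4822, e3 q3825 (flp_d L61852) q4923, e3 q3826 L62111 q4953, e3 q3827 (flp_d L43084) q2883, e3 q3828 (flp_d L62145) q4956, e3 q3829 (flp_d L43100) q2884, e3 q3830 L647579 q4954, e3 q3831 L43122 q2894, e3 q3832 L43127 q2886, e3 q3833 L43133 q2895, e3 q3834 L43142 q2896, e3 q3835 L43151 q3835, e3 q3836 (flp_d L62168) q4957, e3 q3837 (flp_d L62189) q4959, e3 q3838 (flp_d L62198) q4960, e3 q3839 L43277 q2898, trivial⟩ (by decide +kernel)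

theorem ce_d_60 : ∀ r, r < 64 → sm gd (Qf (3840 + r)) = Qf (tab Gen.d (3840 + r)) :=
  edges_tab (sm gd) Qf (tab Gen.d) 3840 [(3840, 3840), (3841, 2899), (3842, 4966), (3843, 4967), (3844, 2901), (3845, 4968), (3846, 3846), (3847, 4971), (3848, 3848), (3849, 3849), (3850, 4975), (3851, 2906), (3852, 3139), (3853, 3853), (3854, 2911), (3855, 4977), (3856, 4979), (3857, 2913), (3858, 4981), (3859, 3859), (3860, 4984), (3861, 2916), (3862, 4987), (3863, 2918), (3864, 3864), (3865, 3098), (3866, 3866), (3867, 2921), (3868, 4990), (3869, 2922), (3870, 4993), (3871, 2924), (3872, 4996), (3873, 3873), (3874, 2926), (3875, 4999), (3876, 4555), (3877, 2928), (3878, 3878), (3879, 5005), (3880, 2957), (3881, 2931), (3882, 3882), (3883, 3115), (3884, 3884), (3885, 2934), (3886, 5010), (3887, 2936), (3888, 5013), (3889, 2991), (3890, 2938), (3891, 5016), (3892, 4575), (3893, 2940), (3894, 3894), (3895, 5022), (3896, 3100), (3897, 2943), (3898, 3898), (3899, 3899), (3900, 3024), (3901, 3901), (3902, 4588), (3903, 2947)]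
    ⟨e3 q3840 L43291 q3840, e3 q3841 L43298 q2899, e3 q3842 (flp_d L62400) q4966, e3 q3843 L62471 q4967, e3 q3844 (flp_d L43350) q2901, e3 q3845 (flp_d L62499) q4968, e3 q3846 L43382 q3846, e3 q3847 L62551 q4971, e3 q3848 L43404 q3848, e3 q3849 L43411 q3849, e3 q3850 L62592 q4975, e3 q3851 (flp_d L43427) q2906, e3 q3852 (flp_d L619942) q3139, e3 q3853 L43449 q3853, e3 q3854 L43522 q2911, e3 q3855 (flp_d L62740) q4977, e3 q3856 L62806 q4979, e3 q3857 (flp_d L43574) q2913, e3 q3858 (flp_d L62830) q4981, e3 q3859 L43600 q3859, e3 q3860 L62865 q4984, e3 q3861 (flp_d L43614) q2916, e3 q3862 (flp_d L62895) q4987, e3 q3863 L43635 q2918, e3 q3864 L43647 q3864, e3 q3865 (flp_d L626911) q3098, e3 q3866 L43661 q3866, e3 q3867 L43752 q2921, e3 q3868 (flp_d L63098) q4990, e3 q3869 (flp_d L43811) q2922, e3 q3870 (flp_d L63196) q4993, e3 q3871 L43832 q2924, e3 q3872 (flp_d L63230) q4996, e3 q3873 L43858 q3873, e3 q3874 (flp_d L43864) q2926, e3 q3875 (flp_d L63274) q4999, e3 q3876 (flp_d L58250) q4555, e3 q3877 L43890 q2928, e3 q3878 L43898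 q3878, e3 q3879 (flp_d L63318) q5005, e3 q3880 L43912 q2957, e3 q3881 L43920 q2931, e3 q3882 L43930 q3882, e3 q3883 L626870 q3115, e3 q3884 L44024 q3884, e3 q3885 (flp_d L44040) q2934, e3 q3886 (flp_d L63543) q5010, e3 q3887 L44064 q2936, e3 q3888 (flp_d L63581) q5013, e3 q3889 L44093 q2991, e3 q3890 (flp_d L44100) q2938, e3 q3891 (flp_d L63633) q5016, e3 q3892 (flp_d L58457) q4575, e3 q3893 L44131 q2940, e3 q3894 L44143 q3894, e3 q3895 (flp_d L63685) q5022, e3 q3896 (flp_d L625736) q3100, e3 q3897 L44165 q2943, e3 q3898 L44178 q3898, e3 q3899 L44185 q3899, e3 q3900 L626882 q3024, e3 q3901 L44305 q3901, e3 q3902 (flp_d L58618) q4588, e3 q3903 L44343 q2947, trivial⟩ (by decide +kernel)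

theorem ce_d_61 : ∀ r, r < 64 → sm gd (Qf (3904 + r)) = Qf (tab Gen.d (3904 + r)) :=
  edges_tab (sm gd) Qf (tab Gen.d) 3904 [(3904, 5029), (3905, 4995), (3906, 2949), (3907, 5032), (3908, 4597), (3909, 2952), (3910, 3910), (3911, 5037), (3912, 4601), (3913, 5043), (3914, 5004), (3915, 2956), (3916, 3916), (3917, 3917), (3918, 5046), (3919, 3118), (3920, 3002), (3921, 2961), (3922, 3922), (3923, 3923), (3924, 4618), (3925, 3925), (3926, 2965), (3927, 5054), (3928, 3928), (3929, 2968), (3930, 4630), (3931, 4631), (3932, 4723), (3933, 3933), (3934, 2972), (3935, 3935), (3936, 5063), (3937, 5065), (3938, 4639), (3939, 5070), (3940, 2974), (3941, 3941), (3942, 5075), (3943, 2979), (3944, 3944), (3945, 3945), (3946, 3946), (3947, 3947), (3948, 3087), (3949, 2981), (3950, 5080), (3951, 3951), (3952, 3952), (3953, 2985), (3954, 5083), (3955, 4657), (3956, 2987), (3957, 3957), (3958, 5088), (3959, 3959), (3960, 2990), (3961, 3961), (3962, 3962), (3963, 5049), (3964, 4666), (3965, 2993), (3966, 5096), (3967, 4670)]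
    ⟨e3 q3904 (flp_d L63990) q5029, e3 q3905 (flp_d L63222) q4995, e3 q3906 L44377 q2949, e3 q3907 (flp_d L64044) q5032, e3 q3908 (flp_d L58693) q4597, e3 q3909 L44425 q2952, e3 q3910 L44436 q3910, e3 q3911 (flp_d L64107) q5037, e3 q3912 (flp_d L58726) q4601, e3 q3913 L64162 q5043, e3 q3914 (flp_d L63311) q5004, e3 q3915 L44470 q2956, e3 q3916 L44480 q3916, e3 q3917 L44485 q3917, e3 q3918 (flp_d L64195) q5046, e3 q3919 L625852 q3118, e3 q3920 (flp_d L623604) q3002, e3 q3921 L44519 q2961, e3 q3922 L44533 q3922, e3 q3923 L44540 q3923, e3 q3924 (flp_d L58950) q4618, e3 q3925 L44760 q3925, e3 q3926 L44766 q2965, e3 q3927 (flp_d L64653) q5054, e3 q3928 L44799 q3928, e3 q3929 L44820 q2968, e3 q3930 (flp_d L59049) q4630, e3 q3931 (flp_d L59061) q4631, e3 q3932 L590834 q4723, e3 q3933 L44874 q3933, e3 q3934 L44882 q2972, e3 q3935 L44893 q3935, e3 q3936 (flp_d L64824) q5063, e3 q3937 L64846 q5065, e3 q3938 (flp_d L59124) q4639, e3 q3939 L64886 q5070, e3 q3940 (flp_d L44935) q2974, e3 q3941 L44953 q3941, e3 q3942 L64940 q5075, e3 q3943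 L44968 q2979, e3 q3944 L44977 q3944, e3 q3945 L44982 q3945, e3 q3946 L44992 q3946, e3 q3947 L45000 q3947, e3 q3948 L624652 q3087, e3 q3949 (flp_d L45014) q2981, e3 q3950 (flp_d L65024) q5080, e3 q3951 L45042 q3951, e3 q3952 L45049 q3952, e3 q3953 (flp_d L45052) q2985, e3 q3954 (flp_d L65055) q5083, e3 q3955 (flp_d L59271) q4657, e3 q3956 L45088 q2987, e3 q3957 L45102 q3957, e3 q3958 (flp_d L65113) q5088, e3 q3959 L45120 q3959, e3 q3960 L45126 q2990, e3 q3961 L45139 q3961, e3 q3962 L45144 q3962, e3 q3963 L623619 q5049, e3 q3964 (flp_d L59354) q4666, e3 q3965 L45178 q2993, e3 q3966 (flp_d L65239) q5096, e3 q3967 (flp_d L59390) q4670, trivial⟩ (by decide +kernel)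

theorem ce_d_62 : ∀ r, r < 64 → sm gd (Qf (3968 + r)) = Qf (tab Gen.d (3968 + r)) :=
  edges_tab (sm gd) Qf (tab Gen.d) 3968 [(3968, 5101), (3969, 3969), (3970, 2997), (3971, 3095), (3972, 5045), (3973, 3101), (3974, 4682), (3975, 3004), (3976, 5104), (3977, 4686), (3978, 4698), (3979, 3979), (3980, 3008), (3981, 3981), (3982, 5111), (3983, 3983), (3984, 5114), (3985, 3013), (3986, 3986), (3987, 3987), (3988, 4699), (3989, 3989), (3990, 3016), (3991, 5121), (3992, 5122), (3993, 4707), (3994, 5127), (3995, 3018), (3996, 3996), (3997, 5025), (3998, 3022), (3999, 3113), (4000, 5014), (4001, 3119), (4002, 4724), (4003, 3061), (4004, 3030), (4005, 5132), (4006, 5133), (4007, 4732), (4008, 4748), (4009, 3068), (4010, 5141), (4011, 3036), (4012, 4012), (4013, 3072), (4014, 3073), (4015, 5145), (4016, 3038), (4017, 5147), (4018, 4018), (4019, 4019), (4020, 5149), (4021, 4750), (4022, 3080), (4023, 3045), (4024, 3046), (4025, 5154), (4026, 5159), (4027, 4761), (4028, 5161), (4029, 3048), (4030, 4030), (4031, 3085)]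
    ⟨e3 q3968 L65298 q5101, e3 q3969 L45224 q3969, e3 q3970 L45230 q2997, e3 q3971 L45241 q3095, e3 q3972 (flp_d L621847) q5045, e3 q3973 L45301 q3101, e3 q3974 (flp_d L59492) q4682, e3 q3975 L45322 q3004, e3 q3976 (flp_d L65462) q5104, e3 q3977 (flp_d L59528) q4686, e3 q3978 L576326 q4698, e3 q3979 L45367 q3979, e3 q3980 L45373 q3008, e3 q3981 L45385 q3981, e3 q3982 (flp_d L65556) q5111, e3 q3983 L45410 q3983, e3 q3984 L65607 q5114, e3 q3985 L45426 q3013, e3 q3986 L45440 q3986, e3 q3987 L45445 q3987, e3 q3988 (flp_d L59634) q4699, e3 q3989 L45478 q3989, e3 q3990 L45486 q3016, e3 q3991 (flp_d L65722) q5121, e3 q3992 L65748 q5122, e3 q3993 (flp_d L59697) q4707, e3 q3994 L65779 q5127, e3 q3995 (flp_d L45539) q3018, e3 q3996 L45556 q3996, e3 q3997 (flp_d L622665) q5025, e3 q3998 L45570 q3022, e3 q3999 L45582 q3113, e3 q4000 (flp_d L626856) q5014, e3 q4001 L45644 q3119, e3 q4002 (flp_d L59822) q4724, e3 q4003 L45684 q3061, e3 q4004 L45693 q3030, e3 q4005 (flp_d L66022) q5132, e3 q4006 L66048 q5133, e3 q4007 (flp_d L59895) q4732,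 e3 q4008 L590943 q4748, e3 q4009 L45767 q3068, e3 q4010 L66139 q5141, e3 q4011 L45785 q3036, e3 q4012 L45796 q4012, e3 q4013 L45811 q3072, e3 q4014 L45820 q3073, e3 q4015 L66201 q5145, e3 q4016 (flp_d L45835) q3038, e3 q4017 (flp_d L66233) q5147, e3 q4018 L45861 q4018, e3 q4019 L45866 q4019, e3 q4020 L66285 q5149, e3 q4021 (flp_d L60043) q4750, e3 q4022 L45930 q3080, e3 q4023 L45951 q3045, e3 q4024 (flp_d L45975) q3046, e3 q4025 (flp_d L66428) q5154, e3 q4026 L66456 q5159, e3 q4027 (flp_d L60138) q4761, e3 q4028 L66476 q5161, e3 q4029 (flp_d L46006) q3048, e3 q4030 L46025 q4030, e3 q4031 L46037 q3085, trivial⟩ (by decide +kernel)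

theorem ce_d_63 : ∀ r, r < 64 → sm gd (Qf (4032 + r)) = Qf (tab Gen.d (4032 + r)) :=
  edges_tab (sm gd) Qf (tab Gen.d) 4032 [(4032, 3086), (4033, 4033), (4034, 3126), (4035, 4035), (4036, 3127), (4037, 5164), (4038, 4481), (4039, 5131), (4040, 5170), (4041, 3064), (4042, 4042), (4043, 3065), (4044, 5172), (4045, 5177), (4046, 4786), (4047, 4465), (4048, 5138), (4049, 5139), (4050, 5182), (4051, 3069), (4052, 4052), (4053, 5079), (4054, 5185), (4055, 5186), (4056, 3074), (4057, 4057), (4058, 5189), (4059, 4488), (4060, 3078), (4061, 5192), (4062, 4802), (4063, 5152), (4064, 5153), (4065, 3083), (4066, 4066), (4067, 5197), (4068, 5198), (4069, 5074), (4070, 4834), (4071, 4071), (4072, 3090), (4073, 5205), (4074, 5206), (4075, 4842), (4076, 5211), (4077, 3092), (4078, 4078), (4079, 4989), (4080, 3096), (4081, 5021), (4082, 4982), (4083, 5012), (4084, 5213), (4085, 4859), (4086, 4086), (4087, 3105), (4088, 3106), (4089, 5217), (4090, 5221), (4091, 4870), (4092, 5223), (4093, 3108), (4094, 3147), (4095, 4095)]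
    ⟨e3 q4032 L46044 q3086, e3 q4033 L46057 q4033, e3 q4034 L46074 q3126, e3 q4035 L46114 q4035, e3 q4036 L46123 q3127, e3 q4037 L66640 q5164, e3 q4038 (flp_d L536601) q4481, e3 q4039 (flp_d L66000) q5131, e3 q4040 L66739 q5170, e3 q4041 L46213 q3064, e3 q4042 L46228 q4042, e3 q4043 (flp_d L46230) q3065, e3 q4044 (flp_d L66764) q5172, e3 q4045 L66802 q5177, e3 q4046 (flp_d L60438) q4786, e3 q4047 (flp_d L537328) q4465, e3 q4048 (flp_d L66115) q5138, e3 q4049 (flp_d L66124) q5139, e3 q4050 L66867 q5182, e3 q4051 (flp_d L46316) q3069, e3 q4052 L46332 q4052, e3 q4053 (flp_d L624679) q5079, e3 q4054 L66902 q5185, e3 q4055 L66910 q5186, e3 q4056 (flp_d L46365) q3074, e3 q4057 L46381 q4057, e3 q4058 L66935 q5189, e3 q4059 L563278 q4488, e3 q4060 (flp_d L46401) q3078, e3 q4061 (flp_d L66966) q5192, e3 q4062 (flp_d L60676) q4802, e3 q4063 (flp_d L66367) q5152, e3 q4064 (flp_d L66376) q5153, e3 q4065 L46447 q3083, e3 q4066 L46454 q4066, e3 q4067 (flp_d L67007) q5197, e3 q4068 (flp_d L67013) q5198, e3 q4069 L624639 q5074, e3 q4070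 (flp_d L60990) q4834, e3 q4071 L46529 q4071, e3 q4072 L46538 q3090, e3 q4073 (flp_d L67143) q5205, e3 q4074 L67169 q5206, e3 q4075 (flp_d L61069) q4842, e3 q4076 L67214 q5211, e3 q4077 (flp_d L46601) q3092, e3 q4078 L46622 q4078, e3 q4079 (flp_d L626923) q4989, e3 q4080 L46640 q3096, e3 q4081 L621836 q5021, e3 q4082 (flp_d L626954) q4982, e3 q4083 L625769 q5012, e3 q4084 L67439 q5213, e3 q4085 (flp_d L61235) q4859, e3 q4086 L46800 q4086, e3 q4087 L46821 q3105, e3 q4088 (flp_d L46845) q3106, e3 q4089 (flp_d L67584) q5217, e3 q4090 L67613 q5221, e3 q4091 (flp_d L61339) q4870, e3 q4092 L67637 q5223, e3 q4093 (flp_d L46887) q3108, e3 q4094 L46905 q3147, e3 q4095 L46918 q4095, trivial⟩ (by decide +kernel)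

theorem ce_d_64 : ∀ r, r < 64 → sm gd (Qf (4096 + r)) = Qf (tab Gen.d (4096 + r)) :=
  edges_tab (sm gd) Qf (tab Gen.d) 4096 [(4096, 5007), (4097, 3111), (4098, 5044), (4099, 4997), (4100, 3117), (4101, 5031), (4102, 4893), (4103, 5228), (4104, 3123), (4105, 4105), (4106, 3151), (4107, 5232), (4108, 4108), (4109, 4109), (4110, 3131), (4111, 5235), (4112, 5239), (4113, 5240), (4114, 3133), (4115, 5212), (4116, 4116), (4117, 4976), (4118, 3136), (4119, 4972), (4120, 3141), (4121, 3143), (4122, 5246), (4123, 3145), (4124, 5249), (4125, 5225), (4126, 5248), (4127, 4127), (4128, 4128), (4129, 4129), (4130, 5231), (4131, 4131), (4132, 3153), (4133, 4133), (4134, 4134), (4135, 4135), (4136, 3157), (4137, 3158), (4138, 3160), (4139, 5263), (4140, 3161), (4141, 3163), (4142, 4142), (4143, 5265), (4144, 3170), (4145, 5266), (4146, 3172), (4147, 3175), (4148, 4148), (4149, 4149), (4150, 3180), (4151, 3182), (4152, 5269), (4153, 3207), (4154, 3184), (4155, 3189), (4156, 5270), (4157, 3211), (4158, 4158), (4159, 4159)]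
    ⟨e3 q4096 (flp_d L625140) q5007, e3 q4097 (flp_d L46932) q3111, e3 q4098 (flp_d L625064) q5044, e3 q4099 (flp_d L626843) q4997, e3 q4100 L47006 q3117, e3 q4101 L625801 q5031, e3 q4102 (flp_d L61573) q4893, e3 q4103 L67929 q5228, e3 q4104 (flp_d L47136) q3123, e3 q4105 L47154 q4105, e3 q4106 L47166 q3151, e3 q4107 L68050 q5232, e3 q4108 L47227 q4108, e3 q4109 L47266 q4109, e3 q4110 (flp_d L47304) q3131, e3 q4111 (flp_d L68187) q5235, e3 q4112 L68217 q5239, e3 q4113 L68232 q5240, e3 q4114 (flp_d L47339) q3133, e3 q4115 (flp_d L67237) q5212, e3 q4116 L47379 q4116, e3 q4117 (flp_d L619933) q4976, e3 q4118 (flp_d L47392) q3136, e3 q4119 L620021 q4972, e3 q4120 L47461 q3141, e3 q4121 (flp_d L47503) q3143, e3 q4122 L68543 q5246, e3 q4123 (flp_d L47581) q3145, e3 q4124 (flp_d L68565) q5249, e3 q4125 (flp_d L67667) q5225, e3 q4126 (flp_d L68559) q5248, e3 q4127 L47645 q4127, e3 q4128 L47655 q4128, e3 q4129 L47664 q4129, e3 q4130 (flp_d L67982) q5231, e3 q4131 L47746 q4131, e3 q4132 L47752 q3153, e3 q4133 L47765 q4133, e3 q4134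 L47816 q4134, e3 q4135 L47825 q4135, e3 q4136 L47829 q3157, e3 q4137 (flp_d L47883) q3158, e3 q4138 L47907 q3160, e3 q4139 (flp_d L69012) q5263, e3 q4140 (flp_d L47957) q3161, e3 q4141 (flp_d L625565) q3163, e3 q4142 L47977 q4142, e3 q4143 L69211 q5265, e3 q4144 L48183 q3170, e3 q4145 (flp_d L69433) q5266, e3 q4146 L48266 q3172, e3 q4147 L620206 q3175, e3 q4148 L48289 q4148, e3 q4149 L48335 q4149, e3 q4150 (flp_d L48381) q3180, e3 q4151 L48576 q3182, e3 q4152 (flp_d L70017) q5269, e3 q4153 L48690 q3207, e3 q4154 L48696 q3184, e3 q4155 L620245 q3189, e3 q4156 L70306 q5270, e3 q4157 L48768 q3211, e3 q4158 L48784 q4158, e3 q4159 L48960 q4159, trivial⟩ (by decide +kernel)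

theorem ce_d_65 : ∀ r, r < 64 → sm gd (Qf (4160 + r)) = Qf (tab Gen.d (4160 + r)) :=
  edges_tab (sm gd) Qf (tab Gen.d) 4160 [(4160, 3201), (4161, 3196), (4162, 4162), (4163, 4163), (4164, 3214), (4165, 3209), (4166, 3239), (4167, 4167), (4168, 3244), (4169, 4169), (4170, 4170), (4171, 4171), (4172, 3221), (4173, 3292), (4174, 4174), (4175, 3307), (4176, 3224), (4177, 4177), (4178, 3233), (4179, 5091), (4180, 4180), (4181, 3235), (4182, 3251), (4183, 4183), (4184, 3241), (4185, 5115), (4186, 4186), (4187, 3246), (4188, 5113), (4189, 4189), (4190, 3249), (4191, 4191), (4192, 3256), (4193, 3277), (4194, 3261), (4195, 3287), (4196, 3288), (4197, 3266), (4198, 3302), (4199, 3303), (4200, 5271), (4201, 4201), (4202, 3274), (4203, 5274), (4204, 4204), (4205, 4205), (4206, 4461), (4207, 5144), (4208, 5143), (4209, 5184), (4210, 3278), (4211, 4211), (4212, 3282), (4213, 3306), (4214, 3305), (4215, 4215), (4216, 5281), (4217, 3285), (4218, 3294), (4219, 3293), (4220, 3289), (4221, 4221), (4222, 3297), (4223, 5283)]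
    ⟨e3 q4160 L626132 q3201, e3 q4161 L49036 q3196, e3 q4162 L49107 q4162, e3 q4163 L49142 q4163, e3 q4164 L625951 q3214, e3 q4165 L49494 q3209, e3 q4166 L626061 q3239, e3 q4167 L49589 q4167, e3 q4168 (flp_d L626079) q3244, e3 q4169 L49646 q4169, e3 q4170 L50126 q4170, e3 q4171 L50134 q4171, e3 q4172 (flp_d L50270) q3221, e3 q4173 L626500 q3292, e3 q4174 L50302 q4174, e3 q4175 (flp_d L624237) q3307, e3 q4176 (flp_d L50368) q3224, e3 q4177 L50391 q4177, e3 q4178 L50468 q3233, e3 q4179 (flp_d L605829) q5091, e3 q4180 L50518 q4180, e3 q4181 L50524 q3235, e3 q4182 L626050 q3251, e3 q4183 L50631 q4183, e3 q4184 L50637 q3241, e3 q4185 (flp_d L626096) q5115, e3 q4186 L50833 q4186, e3 q4187 L50839 q3246, e3 q4188 L623421 q5113, e3 q4189 L50914 q4189, e3 q4190 L50930 q3249, e3 q4191 L51061 q4191, e3 q4192 L51075 q3256, e3 q4193 L51334 q3277, e3 q4194 L51352 q3261, e3 q4195 L51445 q3287, e3 q4196 L51454 q3288, e3 q4197 (flp_d L51525) q3266, e3 q4198 L51677 q3302, e3 q4199 L51684 q3303, e3 q4200 L74974 q5271, e3 q4201 L51912 q4201,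 e3 q4202 (flp_d L51934) q3274, e3 q4203 (flp_d L75054) q5274, e3 q4204 L429674 q4204, e3 q4205 L51970 q4205, e3 q4206 L579591 q4461, e3 q4207 (flp_d L624726) q5144, e3 q4208 L624467 q5143, e3 q4209 L624548 q5184, e3 q4210 (flp_d L52031) q3278, e3 q4211 L52047 q4211, e3 q4212 L52052 q3282, e3 q4213 (flp_d L616858) q3306, e3 q4214 L616842 q3305, e3 q4215 L417297 q4215, e3 q4216 L75276 q5281, e3 q4217 (flp_d L52108) q3285, e3 q4218 L624347 q3294, e3 q4219 (flp_d L623955) q3293, e3 q4220 (flp_d L52160) q3289, e3 q4221 L52210 q4221, e3 q4222 (flp_d L52218) q3297, e3 q4223 (flp_d L75423) q5283, trivial⟩ (by decide +kernel)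

theorem ce_d_66 : ∀ r, r < 64 → sm gd (Qf (4224 + r)) = Qf (tab Gen.d (4224 + r)) :=
  edges_tab (sm gd) Qf (tab Gen.d) 4224 [(4224, 4224), (4225, 3300), (4226, 5276), (4227, 5275), (4228, 5146), (4229, 4229), (4230, 3310), (4231, 4231), (4232, 4232), (4233, 4233), (4234, 4234), (4235, 5287), (4236, 3322), (4237, 4237), (4238, 3328), (4239, 4239), (4240, 5295), (4241, 3331), (4242, 4242), (4243, 5289), (4244, 4244), (4245, 5303), (4246, 5292), (4247, 4247), (4248, 5307), (4249, 3330), (4250, 5309), (4251, 5297), (4252, 4252), (4253, 5314), (4254, 3333), (4255, 5316), (4256, 4256), (4257, 5320), (4258, 3336), (4259, 5323), (4260, 3338), (4261, 3379), (4262, 5327), (4263, 4263), (4264, 3340), (4265, 5332), (4266, 4266), (4267, 3342), (4268, 3392), (4269, 5338), (4270, 4270), (4271, 3345), (4272, 3396), (4273, 3397), (4274, 5344), (4275, 3517), (4276, 4276), (4277, 3519), (4278, 5352), (4279, 4279), (4280, 3525), (4281, 5356), (4282, 4282), (4283, 3528), (4284, 5360), (4285, 3353), (4286, 5362), (4287, 4287)]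
    ⟨e3 q4224 L52239 q4224, e3 q4225 L52247 q3300, e3 q4226 L616824 q5276, e3 q4227 (flp_d L624363) q5275, e3 q4228 (flp_d L604899) q5146, e3 q4229 L52402 q4229, e3 q4230 L52420 q3310, e3 q4231 L52780 q4231, e3 q4232 L53375 q4232, e3 q4233 L54472 q4233, e3 q4234 L54479 q4234, e3 q4235 L79336 q5287, e3 q4236 (flp_d L55049) q3322, e3 q4237 L55066 q4237, e3 q4238 L55075 q3328, e3 q4239 L55079 q4239, e3 q4240 L79412 q5295, e3 q4241 L55097 q3331, e3 q4242 L55112 q4242, e3 q4243 (flp_d L79364) q5289, e3 q4244 L55125 q4244, e3 q4245 L79491 q5303, e3 q4246 (flp_d L79388) q5292, e3 q4247 L55158 q4247, e3 q4248 L79529 q5307, e3 q4249 (flp_d L55175) q3330, e3 q4250 (flp_d L79549) q5309, e3 q4251 (flp_d L79432) q5297, e3 q4252 L55204 q4252, e3 q4253 L79592 q5314, e3 q4254 (flp_d L55223) q3333, e3 q4255 (flp_d L79615) q5316, e3 q4256 L55246 q4256, e3 q4257 L79650 q5320, e3 q4258 (flp_d L55262) q3336, e3 q4259 (flp_d L79680) q5323, e3 q4260 L55282 q3338, e3 q4261 L55292 q3379, e3 q4262 (flp_d L79712) q5327, e3 q4263 L55308 q4263, e3 q4264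 (flp_d L55314) q3340, e3 q4265 (flp_d L79758) q5332, e3 q4266 L55339 q4266, e3 q4267 L55344 q3342, e3 q4268 L55354 q3392, e3 q4269 (flp_d L79808) q5338, e3 q4270 L55371 q4270, e3 q4271 L55377 q3345, e3 q4272 L55387 q3396, e3 q4273 L55393 q3397, e3 q4274 (flp_d L79859) q5344, e3 q4275 L55418 q3517, e3 q4276 L55430 q4276, e3 q4277 L55433 q3519, e3 q4278 L79932 q5352, e3 q4279 L55452 q4279, e3 q4280 L55457 q3525, e3 q4281 L79979 q5356, e3 q4282 L55481 q4282, e3 q4283 L55492 q3528, e3 q4284 L80019 q5360, e3 q4285 (flp_d L55506) q3353, e3 q4286 (flp_d L80040) q5362, e3 q4287 L55527 q4287, trivial⟩ (by decide +kernel)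

theorem ce_d_67 : ∀ r, r < 64 → sm gd (Qf (4288 + r)) = Qf (tab Gen.d (4288 + r)) :=
  edges_tab (sm gd) Qf (tab Gen.d) 4288 [(4288, 5366), (4289, 3356), (4290, 5368), (4291, 4291), (4292, 5372), (4293, 3359), (4294, 5375), (4295, 3361), (4296, 5310), (4297, 5379), (4298, 4298), (4299, 5383), (4300, 3364), (4301, 5385), (4302, 3406), (4303, 5389), (4304, 3367), (4305, 5392), (4306, 3369), (4307, 5317), (4308, 5396), (4309, 3413), (4310, 3371), (4311, 5401), (4312, 3373), (4313, 4313), (4314, 5405), (4315, 3425), (4316, 3375), (4317, 5410), (4318, 4318), (4319, 3377), (4320, 5324), (4321, 5416), (4322, 5378), (4323, 3380), (4324, 5328), (4325, 5329), (4326, 5422), (4327, 4327), (4328, 3383), (4329, 4329), (4330, 5428), (4331, 4331), (4332, 3386), (4333, 4333), (4334, 4334), (4335, 5434), (4336, 4336), (4337, 3389), (4338, 5333), (4339, 5441), (4340, 4340), (4341, 5448), (4342, 4342), (4343, 3393), (4344, 5339), (4345, 5340), (4346, 5452), (4347, 4347), (4348, 5458), (4349, 3398), (4350, 5345), (4351, 5346)]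
    ⟨e3 q4288 L80078 q5366, e3 q4289 (flp_d L55551) q3356, e3 q4290 (flp_d L80101) q5368, e3 q4291 L55574 q4291, e3 q4292 L80135 q5372, e3 q4293 (flp_d L55588) q3359, e3 q4294 (flp_d L80162) q5375, e3 q4295 L55606 q3361, e3 q4296 (flp_d L79557) q5310, e3 q4297 (flp_d L80191) q5379, e3 q4298 L55627 q4298, e3 q4299 L80227 q5383, e3 q4300 (flp_d L55654) q3364, e3 q4301 (flp_d L80253) q5385, e3 q4302 L55680 q3406, e3 q4303 L80291 q5389, e3 q4304 (flp_d L55695) q3367, e3 q4305 (flp_d L80323) q5392, e3 q4306 L55716 q3369, e3 q4307 (flp_d L79628) q5317, e3 q4308 (flp_d L80356) q5396, e3 q4309 L55740 q3413, e3 q4310 (flp_d L55756) q3371, e3 q4311 (flp_d L80421) q5401, e3 q4312 L55779 q3373, e3 q4313 L55792 q4313, e3 q4314 (flp_d L80458) q5405, e3 q4315 L55807 q3425, e3 q4316 (flp_d L55814) q3375, e3 q4317 (flp_d L80508) q5410, e3 q4318 L55837 q4318, e3 q4319 L55842 q3377, e3 q4320 (flp_d L79690) q5324, e3 q4321 (flp_d L80554) q5416, e3 q4322 (flp_d L80183) q5378, e3 q4323 L55871 q3380, e3 q4324 (flp_d L79723) q5328, e3 q4325 (flp_d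 L79729) q5329, e3 q4326 (flp_d L80600) q5422, e3 q4327 L55928 q4327, e3 q4328 L55933 q3383, e3 q4329 L55945 q4329, e3 q4330 (flp_d L80692) q5428, e3 q4331 L55963 q4331, e3 q4332 L55971 q3386, e3 q4333 L55983 q4333, e3 q4334 L55989 q4334, e3 q4335 (flp_d L80749) q5434, e3 q4336 L56012 q4336, e3 q4337 L56018 q3389, e3 q4338 (flp_d L79769) q5333, e3 q4339 (flp_d L80813) q5441, e3 q4340 L56042 q4340, e3 q4341 L80864 q5448, e3 q4342 L56058 q4342, e3 q4343 L56065 q3393, e3 q4344 (flp_d L79818) q5339, e3 q4345 (flp_d L79824) q5340, e3 q4346 (flp_d L80899) q5452, e3 q4347 L56093 q4347, e3 q4348 L80941 q5458, e3 q4349 L56111 q3398, e3 q4350 (flp_d L79869) q5345, e3 q4351 (flp_d L79875) q5346, trivial⟩ (by decide +kernel)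

theorem ce_d_68 : ∀ r, r < 64 → sm gd (Qf (4352 + r)) = Qf (tab Gen.d (4352 + r)) :=
  edges_tab (sm gd) Qf (tab Gen.d) 4352 [(4352, 4352), (4353, 5463), (4354, 3400), (4355, 5465), (4356, 4356), (4357, 5469), (4358, 3403), (4359, 5472), (4360, 3405), (4361, 5466), (4362, 5476), (4363, 5388), (4364, 3407), (4365, 5481), (4366, 4366), (4367, 3409), (4368, 4368), (4369, 5487), (4370, 4370), (4371, 3412), (4372, 4372), (4373, 4373), (4374, 5493), (4375, 5496), (4376, 3415), (4377, 5499), (4378, 3417), (4379, 3423), (4380, 5503), (4381, 4381), (4382, 3419), (4383, 5508), (4384, 4384), (4385, 3421), (4386, 5500), (4387, 5514), (4388, 4388), (4389, 3424), (4390, 5504), (4391, 5505), (4392, 5520), (4393, 4393), (4394, 3427), (4395, 4395), (4396, 5527), (4397, 4397), (4398, 5534), (4399, 4399), (4400, 3431), (4401, 4401), (4402, 4402), (4403, 5538), (4404, 4404), (4405, 5544), (4406, 3436), (4407, 4407), (4408, 4408), (4409, 3437), (4410, 5549), (4411, 4411), (4412, 3439), (4413, 3448), (4414, 5555), (4415, 3478)]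
    ⟨e3 q4352 L56132 q4352, e3 q4353 L80985 q5463, e3 q4354 (flp_d L56152) q3400, e3 q4355 (flp_d L81009) q5465, e3 q4356 L56176 q4356, e3 q4357 L81046 q5469, e3 q4358 (flp_d L56193) q3403, e3 q4359 (flp_d L81083) q5472, e3 q4360 L56217 q3405, e3 q4361 (flp_d L81022) q5466, e3 q4362 (flp_d L81120) q5476, e3 q4363 (flp_d L80283) q5388, e3 q4364 (flp_d L56250) q3407, e3 q4365 (flp_d L81168) q5481, e3 q4366 L56277 q4366, e3 q4367 L56282 q3409, e3 q4368 L56295 q4368, e3 q4369 (flp_d L81221) q5487, e3 q4370 L56309 q4370, e3 q4371 L56315 q3412, e3 q4372 L56325 q4372, e3 q4373 L56329 q4373, e3 q4374 (flp_d L81271) q5493, e3 q4375 L81291 q5496, e3 q4376 (flp_d L56356) q3415, e3 q4377 (flp_d L81322) q5499, e3 q4378 L56377 q3417, e3 q4379 L56387 q3423, e3 q4380 (flp_d L81356) q5503, e3 q4381 L56404 q4381, e3 q4382 (flp_d L56411) q3419, e3 q4383 (flp_d L81406) q5508, e3 q4384 L56439 q4384, e3 q4385 L56444 q3421, e3 q4386 (flp_d L81332) q5500, e3 q4387 (flp_d L81458) q5514, e3 q4388 L56471 q4388, e3 q4389 L56477 q3424, e3 q4390 (flp_d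 L81367) q5504, e3 q4391 (flp_d L81373) q5505, e3 q4392 (flp_d L81508) q5520, e3 q4393 L56515 q4393, e3 q4394 L56521 q3427, e3 q4395 L56532 q4395, e3 q4396 (flp_d L81566) q5527, e3 q4397 L56547 q4397, e3 q4398 L81617 q5534, e3 q4399 L56560 q4399, e3 q4400 L56567 q3431, e3 q4401 L56577 q4401, e3 q4402 L56582 q4402, e3 q4403 (flp_d L81650) q5538, e3 q4404 L56599 q4404, e3 q4405 L81691 q5544, e3 q4406 L56612 q3436, e3 q4407 L56623 q4407, e3 q4408 L56627 q4408, e3 q4409 (flp_d L56630) q3437, e3 q4410 (flp_d L81734) q5549, e3 q4411 L56656 q4411, e3 q4412 L56661 q3439, e3 q4413 L56671 q3448, e3 q4414 (flp_d L81786) q5555, e3 q4415 L56689 q3478, trivial⟩ (by decide +kernel)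

theorem ce_d_69 : ∀ r, r < 64 → sm gd (Qf (4416 + r)) = Qf (tab Gen.d (4416 + r)) :=
  edges_tab (sm gd) Qf (tab Gen.d) 4416 [(4416, 3442), (4417, 3452), (4418, 3453), (4419, 5561), (4420, 4420), (4421, 3445), (4422, 5550), (4423, 5568), (4424, 4424), (4425, 5575), (4426, 3485), (4427, 3449), (4428, 5556), (4429, 5557), (4430, 5579), (4431, 3489), (4432, 5585), (4433, 3454), (4434, 5562), (4435, 5563), (4436, 4436), (4437, 4437), (4438, 5594), (4439, 3495), (4440, 3458), (4441, 4441), (4442, 4442), (4443, 5598), (4444, 5601), (4445, 4445), (4446, 5606), (4447, 3460), (4448, 5609), (4449, 3502), (4450, 5613), (4451, 3465), (4452, 4452), (4453, 4453), (4454, 3507), (4455, 3508), (4456, 5620), (4457, 3467), (4458, 5623), (4459, 4459), (4460, 4460), (4461, 4206), (4462, 4462), (4463, 3473), (4464, 5627), (4465, 4047), (4466, 5554), (4467, 3477), (4468, 5630), (4469, 5559), (4470, 5634), (4471, 3481), (4472, 3492), (4473, 5567), (4474, 3483), (4475, 5637), (4476, 5638), (4477, 4477), (4478, 5577), (4479, 5644)]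
    ⟨e3 q4416 L56696 q3442, e3 q4417 L56706 q3452, e3 q4418 L56712 q3453, e3 q4419 (flp_d L81839) q5561, e3 q4420 L56737 q4420, e3 q4421 L56743 q3445, e3 q4422 (flp_d L81745) q5550, e3 q4423 (flp_d L81906) q5568, e3 q4424 L56770 q4424, e3 q4425 L81962 q5575, e3 q4426 L56788 q3485, e3 q4427 L56796 q3449, e3 q4428 (flp_d L81796) q5556, e3 q4429 (flp_d L81802) q5557, e3 q4430 (flp_d L81998) q5579, e3 q4431 L56829 q3489, e3 q4432 L82044 q5585, e3 q4433 L56846 q3454, e3 q4434 (flp_d L81849) q5562, e3 q4435 (flp_d L81855) q5563, e3 q4436 L56866 q4436, e3 q4437 L56877 q4437, e3 q4438 L82115 q5594, e3 q4439 L56894 q3495, e3 q4440 L56903 q3458, e3 q4441 L56913 q4441, e3 q4442 L56919 q4442, e3 q4443 (flp_d L82155) q5598, e3 q4444 L82175 q5601, e3 q4445 L56944 q4445, e3 q4446 L82210 q5606, e3 q4447 (flp_d L56952) q3460, e3 q4448 (flp_d L82234) q5609, e3 q4449 L56968 q3502, e3 q4450 L82262 q5613, e3 q4451 L56985 q3465, e3 q4452 L56994 q4452, e3 q4453 L56999 q4453, e3 q4454 L57006 q3507, e3 q4455 L57013 q3508, e3 q4456 L82318 q5620, e3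 q4457 (flp_d L57025) q3467, e3 q4458 (flp_d L82345) q5623, e3 q4459 L57048 q4459, e3 q4460 L57052 q4460, e3 q4461 (flp_d L579591) q4206, e3 q4462 L57115 q4462, e3 q4463 L57122 q3473, e3 q4464 (flp_d L82479) q5627, e3 q4465 L537328 q4047, e3 q4466 (flp_d L81779) q5554, e3 q4467 L57218 q3477, e3 q4468 (flp_d L82633) q5630, e3 q4469 (flp_d L81822) q5559, e3 q4470 L82677 q5634, e3 q4471 L57267 q3481, e3 q4472 L57278 q3492, e3 q4473 (flp_d L81897) q5567, e3 q4474 L57335 q3483, e3 q4475 (flp_d L82803) q5637, e3 q4476 L82827 q5638, e3 q4477 L57384 q4477, e3 q4478 (flp_d L81979) q5577, e3 q4479 L82931 q5644, trivial⟩ (by decide +kernel)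

theorem ce_d_70 : ∀ r, r < 64 → sm gd (Qf (4480 + r)) = Qf (tab Gen.d (4480 + r)) :=
  edges_tab (sm gd) Qf (tab Gen.d) 4480 [(4480, 3488), (4481, 4038), (4482, 5582), (4483, 5583), (4484, 5649), (4485, 3490), (4486, 5652), (4487, 5635), (4488, 4059), (4489, 5654), (4490, 4490), (4491, 5596), (4492, 5660), (4493, 3498), (4494, 4494), (4495, 3499), (4496, 5662), (4497, 5667), (4498, 4498), (4499, 3816), (4500, 5610), (4501, 5611), (4502, 5672), (4503, 3503), (4504, 5675), (4505, 4505), (4506, 4506), (4507, 5617), (4508, 5679), (4509, 5681), (4510, 3509), (4511, 5684), (4512, 4512), (4513, 3511), (4514, 4514), (4515, 5688), (4516, 3515), (4517, 4517), (4518, 5690), (4519, 5347), (4520, 5694), (4521, 4521), (4522, 5350), (4523, 5698), (4524, 3520), (4525, 5700), (4526, 4526), (4527, 4527), (4528, 3524), (4529, 5705), (4530, 5704), (4531, 5708), (4532, 3526), (4533, 5710), (4534, 4534), (4535, 5714), (4536, 3529), (4537, 5717), (4538, 3531), (4539, 4539), (4540, 5721), (4541, 4541), (4542, 5725), (4543, 3536)]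
    ⟨e3 q4480 L57434 q3488, e3 q4481 L536601 q4038, e3 q4482 (flp_d L82021) q5582, e3 q4483 (flp_d L82030) q5583, e3 q4484 L82993 q5649, e3 q4485 (flp_d L57482) q3490, e3 q4486 (flp_d L83018) q5652, e3 q4487 (flp_d L82699) q5635, e3 q4488 (flp_d L563278) q4059, e3 q4489 L83078 q5654, e3 q4490 L57549 q4490, e3 q4491 (flp_d L82136) q5596, e3 q4492 L83176 q5660, e3 q4493 L57601 q3498, e3 q4494 L57613 q4494, e3 q4495 (flp_d L57623) q3499, e3 q4496 (flp_d L83217) q5662, e3 q4497 L83252 q5667, e3 q4498 L57652 q4498, e3 q4499 L545999 q3816, e3 q4500 (flp_d L82241) q5610, e3 q4501 (flp_d L82249) q5611, e3 q4502 L83342 q5672, e3 q4503 (flp_d L57710) q3503, e3 q4504 (flp_d L83367) q5675, e3 q4505 L57735 q4505, e3 q4506 L57740 q4506, e3 q4507 (flp_d L82299) q5617, e3 q4508 L83399 q5679, e3 q4509 L83415 q5681, e3 q4510 (flp_d L57769) q3509, e3 q4511 (flp_d L83441) q5684, e3 q4512 L57790 q4512, e3 q4513 L57794 q3511, e3 q4514 L57804 q4514, e3 q4515 L83470 q5688, e3 q4516 (flp_d L57821) q3515, e3 q4517 L57841 q4517, e3 q4518 (flp_d L83500)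 q5690, e3 q4519 (flp_d L79883) q5347, e3 q4520 L83557 q5694, e3 q4521 L57878 q4521, e3 q4522 (flp_d L79917) q5350, e3 q4523 L83597 q5698, e3 q4524 (flp_d L57903) q3520, e3 q4525 (flp_d L83617) q5700, e3 q4526 L57923 q4526, e3 q4527 L57936 q4527, e3 q4528 L57946 q3524, e3 q4529 L83703 q5705, e3 q4530 (flp_d L83672) q5704, e3 q4531 L83743 q5708, e3 q4532 (flp_d L58003) q3526, e3 q4533 (flp_d L83767) q5710, e3 q4534 L58027 q4534, e3 q4535 L83800 q5714, e3 q4536 (flp_d L58042) q3529, e3 q4537 (flp_d L83830) q5717, e3 q4538 L58063 q3531, e3 q4539 L58073 q4539, e3 q4540 (flp_d L83862) q5721, e3 q4541 L58087 q4541, e3 q4542 L83909 q5725, e3 q4543 L58115 q3536, trivial⟩ (by decide +kernel)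

theorem ce_d_71 : ∀ r, r < 64 → sm gd (Qf (4544 + r)) = Qf (tab Gen.d (4544 + r)) :=
  edges_tab (sm gd) Qf (tab Gen.d) 4544 [(4544, 3535), (4545, 5728), (4546, 5727), (4547, 3537), (4548, 5733), (4549, 3539), (4550, 5729), (4551, 5737), (4552, 4552), (4553, 3541), (4554, 5741), (4555, 3876), (4556, 3543), (4557, 4557), (4558, 5745), (4559, 3576), (4560, 3546), (4561, 4561), (4562, 4562), (4563, 5751), (4564, 3548), (4565, 5754), (4566, 4566), (4567, 3550), (4568, 5759), (4569, 3552), (4570, 5755), (4571, 5763), (4572, 3616), (4573, 3554), (4574, 5768), (4575, 3892), (4576, 3556), (4577, 4577), (4578, 5774), (4579, 5720), (4580, 3559), (4581, 4581), (4582, 4582), (4583, 5780), (4584, 3562), (4585, 3567), (4586, 5784), (4587, 4587), (4588, 3902), (4589, 3565), (4590, 3755), (4591, 5791), (4592, 5736), (4593, 3568), (4594, 5785), (4595, 5786), (4596, 5797), (4597, 3908), (4598, 3571), (4599, 4599), (4600, 5804), (4601, 3912), (4602, 5811), (4603, 5744), (4604, 3575), (4605, 4605), (4606, 4606), (4607, 5815)]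
    ⟨e3 q4544 (flp_d L58142) q3535, e3 q4545 (flp_d L83968) q5728, e3 q4546 (flp_d L83930) q5727, e3 q4547 (flp_d L58179) q3537, e3 q4548 (flp_d L84031) q5733, e3 q4549 L58200 q3539, e3 q4550 (flp_d L83976) q5729, e3 q4551 (flp_d L84063) q5737, e3 q4552 L58224 q4552, e3 q4553 (flp_d L58230) q3541, e3 q4554 (flp_d L84103) q5741, e3 q4555 L58250 q3876, e3 q4556 L58256 q3543, e3 q4557 L58263 q4557, e3 q4558 (flp_d L84146) q5745, e3 q4559 L58278 q3576, e3 q4560 L58284 q3546, e3 q4561 L58293 q4561, e3 q4562 L58298 q4562, e3 q4563 (flp_d L84190) q5751, e3 q4564 (flp_d L58333) q3548, e3 q4565 (flp_d L84245) q5754, e3 q4566 L58357 q4566, e3 q4567 (flp_d L58374) q3550, e3 q4568 (flp_d L84317) q5759, e3 q4569 L58398 q3552, e3 q4570 (flp_d L84258) q5755, e3 q4571 (flp_d L84353) q5763, e3 q4572 L58425 q3616, e3 q4573 (flp_d L58432) q3554, e3 q4574 (flp_d L84401) q5768, e3 q4575 L58457 q3892, e3 q4576 L58463 q3556, e3 q4577 L58474 q4577, e3 q4578 (flp_d L84452) q5774, e3 q4579 (flp_d L83856) q5720, e3 q4580 L58495 q3559, e3 q4581 L58507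 q4581, e3 q4582 L58513 q4582, e3 q4583 (flp_d L84503) q5780, e3 q4584 L58559 q3562, e3 q4585 L58569 q3567, e3 q4586 (flp_d L84592) q5784, e3 q4587 L58586 q4587, e3 q4588 L58618 q3902, e3 q4589 L58624 q3565, e3 q4590 (flp_d L592224) q3755, e3 q4591 (flp_d L84690) q5791, e3 q4592 (flp_d L84057) q5736, e3 q4593 L58656 q3568, e3 q4594 (flp_d L84603) q5785, e3 q4595 (flp_d L84609) q5786, e3 q4596 (flp_d L84741) q5797, e3 q4597 L58693 q3908, e3 q4598 L58700 q3571, e3 q4599 L58709 q4599, e3 q4600 (flp_d L84800) q5804, e3 q4601 L58726 q3912, e3 q4602 L84854 q5811, e3 q4603 (flp_d L84140) q5744, e3 q4604 L58744 q3575, e3 q4605 L58754 q4605, e3 q4606 L58759 q4606, e3 q4607 (flp_d L84887) q5815, trivial⟩ (by decide +kernel)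

theorem ce_d_72 : ∀ r, r < 64 → sm gd (Qf (4608 + r)) = Qf (tab Gen.d (4608 + r)) :=
  edges_tab (sm gd) Qf (tab Gen.d) 4608 [(4608, 5749), (4609, 5821), (4610, 3580), (4611, 4611), (4612, 4612), (4613, 4613), (4614, 3583), (4615, 3591), (4616, 3592), (4617, 5827), (4618, 3924), (4619, 3673), (4620, 4620), (4621, 3588), (4622, 3780), (4623, 3781), (4624, 5836), (4625, 4625), (4626, 5842), (4627, 3593), (4628, 5828), (4629, 5829), (4630, 3930), (4631, 3931), (4632, 5851), (4633, 4633), (4634, 3597), (4635, 4635), (4636, 4636), (4637, 5855), (4638, 5858), (4639, 3938), (4640, 5863), (4641, 3599), (4642, 5866), (4643, 4643), (4644, 5870), (4645, 3604), (4646, 4646), (4647, 4647), (4648, 4648), (4649, 4649), (4650, 5877), (4651, 3606), (4652, 5880), (4653, 4653), (4654, 4654), (4655, 3610), (4656, 5883), (4657, 3955), (4658, 3612), (4659, 4659), (4660, 5889), (4661, 4661), (4662, 3615), (4663, 4663), (4664, 4664), (4665, 5895), (4666, 3964), (4667, 3618), (4668, 3740), (4669, 5902), (4670, 3967), (4671, 5909)]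
    ⟨e3 q4608 (flp_d L84176) q5749, e3 q4609 L84930 q5821, e3 q4610 L58790 q3580, e3 q4611 L58803 q4611, e3 q4612 L58809 q4612, e3 q4613 L58872 q4613, e3 q4614 L58878 q3583, e3 q4615 L58888 q3591, e3 q4616 L58894 q3592, e3 q4617 (flp_d L85079) q5827, e3 q4618 L58950 q3924, e3 q4619 L575531 q3673, e3 q4620 L58969 q4620, e3 q4621 L58974 q3588, e3 q4622 (flp_d L592369) q3780, e3 q4623 L592330 q3781, e3 q4624 (flp_d L85238) q5836, e3 q4625 L59007 q4625, e3 q4626 L85286 q5842, e3 q4627 L59025 q3593, e3 q4628 (flp_d L85089) q5828, e3 q4629 (flp_d L85095) q5829, e3 q4630 L59049 q3930, e3 q4631 L59061 q3931, e3 q4632 L85360 q5851, e3 q4633 L59077 q4633, e3 q4634 L59083 q3597, e3 q4635 L59093 q4635, e3 q4636 L59099 q4636, e3 q4637 (flp_d L85396) q5855, e3 q4638 L85416 q5858, e3 q4639 L59124 q3938, e3 q4640 L85458 q5863, e3 q4641 (flp_d L59135) q3599, e3 q4642 (flp_d L85490) q5866, e3 q4643 L59154 q4643, e3 q4644 L85514 q5870, e3 q4645 L59168 q3604, e3 q4646 L59177 q4646, e3 q4647 L59182 q4647, e3 q4648 L59191 q4648, e3 q4649 L59197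 q4649, e3 q4650 L85568 q5877, e3 q4651 (flp_d L59210) q3606, e3 q4652 (flp_d L85595) q5880, e3 q4653 L59232 q4653, e3 q4654 L59238 q4654, e3 q4655 (flp_d L59241) q3610, e3 q4656 (flp_d L85624) q5883, e3 q4657 L59271 q3955, e3 q4658 L59277 q3612, e3 q4659 L59290 q4659, e3 q4660 (flp_d L85681) q5889, e3 q4661 L59309 q4661, e3 q4662 L59313 q3615, e3 q4663 L59325 q4663, e3 q4664 L59329 q4664, e3 q4665 (flp_d L85736) q5895, e3 q4666 L59354 q3964, e3 q4667 L59361 q3618, e3 q4668 L59373 q3740, e3 q4669 (flp_d L85800) q5902, e3 q4670 L59390 q3967, e3 q4671 L85858 q5909, trivial⟩ (by decide +kernel)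

theorem ce_d_73 : ∀ r, r < 64 → sm gd (Qf (4672 + r)) = Qf (tab Gen.d (4672 + r)) :=
  edges_tab (sm gd) Qf (tab Gen.d) 4672 [(4672, 4672), (4673, 3622), (4674, 3746), (4675, 3747), (4676, 5913), (4677, 4677), (4678, 5919), (4679, 3627), (4680, 3752), (4681, 3753), (4682, 3974), (4683, 3629), (4684, 4684), (4685, 5927), (4686, 3977), (4687, 5934), (4688, 4688), (4689, 3633), (4690, 4690), (4691, 4691), (4692, 5938), (4693, 4693), (4694, 5944), (4695, 3638), (4696, 4696), (4697, 4697), (4698, 3978), (4699, 3988), (4700, 5789), (4701, 4701), (4702, 3642), (4703, 3758), (4704, 3759), (4705, 5955), (4706, 5958), (4707, 3993), (4708, 5963), (4709, 3644), (4710, 5966), (4711, 4711), (4712, 5970), (4713, 3649), (4714, 3769), (4715, 3770), (4716, 4716), (4717, 4717), (4718, 5977), (4719, 3651), (4720, 5980), (4721, 3776), (4722, 3777), (4723, 3932), (4724, 4002), (4725, 5847), (4726, 3696), (4727, 3658), (4728, 4728), (4729, 4729), (4730, 5989), (4731, 5992), (4732, 4007), (4733, 5997), (4734, 3660), (4735, 5999)]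
    ⟨e3 q4672 L59407 q4672, e3 q4673 L59412 q3622, e3 q4674 L59423 q3746, e3 q4675 L59429 q3747, e3 q4676 (flp_d L85893) q5913, e3 q4677 L59449 q4677, e3 q4678 L85937 q5919, e3 q4679 L59462 q3627, e3 q4680 L59473 q3752, e3 q4681 L59478 q3753, e3 q4682 L59492 q3974, e3 q4683 L59499 q3629, e3 q4684 L59510 q4684, e3 q4685 (flp_d L86010) q5927, e3 q4686 L59528 q3977, e3 q4687 L86069 q5934, e3 q4688 L59544 q4688, e3 q4689 L59549 q3633, e3 q4690 L59561 q4690, e3 q4691 L59566 q4691, e3 q4692 (flp_d L86103) q5938, e3 q4693 L59586 q4693, e3 q4694 L86150 q5944, e3 q4695 L59599 q3638, e3 q4696 L59612 q4696, e3 q4697 L59616 q4697, e3 q4698 (flp_d L576326) q3978, e3 q4699 L59634 q3988, e3 q4700 (flp_d L592229) q5789, e3 q4701 L59649 q4701, e3 q4702 L59655 q3642, e3 q4703 L59666 q3758, e3 q4704 L59673 q3759, e3 q4705 (flp_d L86256) q5955, e3 q4706 L86280 q5958, e3 q4707 L59697 q3993, e3 q4708 L86313 q5963, e3 q4709 (flp_d L59707) q3644, e3 q4710 (flp_d L86339) q5966, e3 q4711 L59725 q4711, e3 q4712 L86365 q5970, e3 q4713 L59738 q3649,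 e3 q4714 L59750 q3769, e3 q4715 L59756 q3770, e3 q4716 L59763 q4716, e3 q4717 L59769 q4717, e3 q4718 L86420 q5977, e3 q4719 (flp_d L59779) q3651, e3 q4720 (flp_d L86444) q5980, e3 q4721 L59797 q3776, e3 q4722 L59802 q3777, e3 q4723 (flp_d L590834) q3932, e3 q4724 L59822 q4002, e3 q4725 L553171 q5847, e3 q4726 L59842 q3696, e3 q4727 L59849 q3658, e3 q4728 L59861 q4728, e3 q4729 L59867 q4729, e3 q4730 (flp_d L86542) q5989, e3 q4731 L86566 q5992, e3 q4732 L59895 q4007, e3 q4733 L86605 q5997, e3 q4734 (flp_d L59906) q3660, e3 q4735 (flp_d L86631) q5999, trivial⟩ (by decide +kernel)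

theorem ce_d_74 : ∀ r, r < 64 → sm gd (Qf (4736 + r)) = Qf (tab Gen.d (4736 + r)) :=
  edges_tab (sm gd) Qf (tab Gen.d) 4736 [(4736, 3701), (4737, 6003), (4738, 3665), (4739, 4739), (4740, 4740), (4741, 3705), (4742, 3706), (4743, 6010), (4744, 3667), (4745, 6013), (4746, 4746), (4747, 4747), (4748, 4008), (4749, 6017), (4750, 4021), (4751, 5832), (4752, 5833), (4753, 3714), (4754, 6026), (4755, 3678), (4756, 3785), (4757, 3786), (4758, 3679), (4759, 6030), (4760, 6035), (4761, 4027), (4762, 6038), (4763, 3681), (4764, 6041), (4765, 5608), (4766, 3683), (4767, 3723), (4768, 3724), (4769, 6047), (4770, 3685), (4771, 6050), (4772, 3800), (4773, 3801), (4774, 3730), (4775, 6054), (4776, 6056), (4777, 3691), (4778, 6059), (4779, 5879), (4780, 3693), (4781, 3809), (4782, 5987), (4783, 3698), (4784, 3699), (4785, 6065), (4786, 4046), (4787, 6000), (4788, 6001), (4789, 6072), (4790, 3702), (4791, 4791), (4792, 6007), (4793, 6076), (4794, 6078), (4795, 3707), (4796, 6081), (4797, 4797), (4798, 3709), (4799, 4799)]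
    ⟨e3 q4736 L59923 q3701, e3 q4737 L86661 q6003, e3 q4738 L59940 q3665, e3 q4739 L59951 q4739, e3 q4740 L59956 q4740, e3 q4741 L59965 q3705, e3 q4742 L59972 q3706, e3 q4743 L86717 q6010, e3 q4744 (flp_d L59986) q3667, e3 q4745 (flp_d L86744) q6013, e3 q4746 L60007 q4746, e3 q4747 L60011 q4747, e3 q4748 (flp_d L590943) q4008, e3 q4749 L86791 q6017, e3 q4750 L60043 q4021, e3 q4751 (flp_d L592375) q5832, e3 q4752 (flp_d L575568) q5833, e3 q4753 L60075 q3714, e3 q4754 L86898 q6026, e3 q4755 L60092 q3678, e3 q4756 L60102 q3785, e3 q4757 L60109 q3786, e3 q4758 (flp_d L60114) q3679, e3 q4759 (flp_d L86939) q6030, e3 q4760 L86969 q6035, e3 q4761 L60138 q4027, e3 q4762 L86986 q6038, e3 q4763 (flp_d L60147) q3681, e3 q4764 (flp_d L87011) q6041, e3 q4765 (flp_d L82229) q5608, e3 q4766 L60174 q3683, e3 q4767 L60181 q3723, e3 q4768 L60187 q3724, e3 q4769 L87060 q6047, e3 q4770 (flp_d L60200) q3685, e3 q4771 (flp_d L87089) q6050, e3 q4772 L60223 q3800, e3 q4773 L60229 q3801, e3 q4774 L60236 q3730, e3 q4775 L87116 q6054, e3 q4776 L87128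 q6056, e3 q4777 (flp_d L60253) q3691, e3 q4778 (flp_d L87158) q6059, e3 q4779 (flp_d L85590) q5879, e3 q4780 L60280 q3693, e3 q4781 L60288 q3809, e3 q4782 (flp_d L86523) q5987, e3 q4783 L60382 q3698, e3 q4784 (flp_d L60408) q3699, e3 q4785 (flp_d L87392) q6065, e3 q4786 L60438 q4046, e3 q4787 (flp_d L86638) q6000, e3 q4788 (flp_d L86646) q6001, e3 q4789 L87531 q6072, e3 q4790 (flp_d L60512) q3702, e3 q4791 L60535 q4791, e3 q4792 (flp_d L86698) q6007, e3 q4793 L87588 q6076, e3 q4794 L87602 q6078, e3 q4795 (flp_d L60571) q3707, e3 q4796 (flp_d L87630) q6081, e3 q4797 L60592 q4797, e3 q4798 L60596 q3709, e3 q4799 L60604 q4799, trivial⟩ (by decide +kernel)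

theorem ce_d_75 : ∀ r, r < 64 → sm gd (Qf (4800 + r)) = Qf (tab Gen.d (4800 + r)) :=
  edges_tab (sm gd) Qf (tab Gen.d) 4800 [(4800, 3712), (4801, 6085), (4802, 4062), (4803, 6023), (4804, 6024), (4805, 6092), (4806, 3715), (4807, 3815), (4808, 3719), (4809, 6097), (4810, 6094), (4811, 6095), (4812, 6102), (4813, 3720), (4814, 4814), (4815, 6044), (4816, 6106), (4817, 6108), (4818, 3725), (4819, 6111), (4820, 6103), (4821, 3727), (4822, 3824), (4823, 6052), (4824, 6116), (4825, 3731), (4826, 6120), (4827, 3732), (4828, 6122), (4829, 4829), (4830, 3734), (4831, 4831), (4832, 4832), (4833, 6084), (4834, 4070), (4835, 5760), (4836, 4836), (4837, 3741), (4838, 5903), (4839, 5904), (4840, 6135), (4841, 6138), (4842, 4075), (4843, 6143), (4844, 3743), (4845, 6146), (4846, 4846), (4847, 6150), (4848, 3748), (4849, 5914), (4850, 5915), (4851, 4851), (4852, 4852), (4853, 6157), (4854, 3750), (4855, 6160), (4856, 5921), (4857, 5922), (4858, 6162), (4859, 4085), (4860, 5792), (4861, 5793), (4862, 4862), (4863, 6171)]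
    ⟨e3 q4800 (flp_d L60646) q3712, e3 q4801 (flp_d L87714) q6085, e3 q4802 L60676 q4062, e3 q4803 (flp_d L86877) q6023, e3 q4804 (flp_d L86884) q6024, e3 q4805 L87813 q6092, e3 q4806 (flp_d L60723) q3715, e3 q4807 L60748 q3815, e3 q4808 L60763 q3719, e3 q4809 L87879 q6097, e3 q4810 (flp_d L87862) q6094, e3 q4811 (flp_d L87867) q6095, e3 q4812 L87918 q6102, e3 q4813 (flp_d L60796) q3720, e3 q4814 L60818 q4814, e3 q4815 (flp_d L87041) q6044, e3 q4816 L87971 q6106, e3 q4817 L87984 q6108, e3 q4818 (flp_d L60851) q3725, e3 q4819 (flp_d L88012) q6111, e3 q4820 (flp_d L87937) q6103, e3 q4821 L60876 q3727, e3 q4822 L60885 q3824, e3 q4823 (flp_d L87106) q6052, e3 q4824 L88047 q6116, e3 q4825 (flp_d L60906) q3731, e3 q4826 (flp_d L88078) q6120, e3 q4827 (flp_d L60918) q3732, e3 q4828 (flp_d L88094) q6122, e3 q4829 L60942 q4829, e3 q4830 L60946 q3734, e3 q4831 L60954 q4831, e3 q4832 L60963 q4832, e3 q4833 (flp_d L87653) q6084, e3 q4834 L60990 q4070, e3 q4835 (flp_d L592204) q5760, e3 q4836 L61013 q4836, e3 q4837 L61020 q3741, e3 q4838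 (flp_d L85812) q5903, e3 q4839 (flp_d L85819) q5904, e3 q4840 (flp_d L88243) q6135, e3 q4841 L88267 q6138, e3 q4842 L61069 q4075, e3 q4843 L88314 q6143, e3 q4844 (flp_d L61082) q3743, e3 q4845 (flp_d L88345) q6146, e3 q4846 L61104 q4846, e3 q4847 L88376 q6150, e3 q4848 L61121 q3748, e3 q4849 (flp_d L85905) q5914, e3 q4850 (flp_d L85911) q5915, e3 q4851 L61147 q4851, e3 q4852 L61155 q4852, e3 q4853 L88438 q6157, e3 q4854 (flp_d L61169) q3750, e3 q4855 (flp_d L88464) q6160, e3 q4856 (flp_d L85960) q5921, e3 q4857 (flp_d L85965) q5922, e3 q4858 L88525 q6162, e3 q4859 L61235 q4085, e3 q4860 (flp_d L592212) q5792, e3 q4861 L592185 q5793, e3 q4862 L61271 q4862, e3 q4863 L88635 q6171, trivial⟩ (by decide +kernel)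

theorem ce_d_76 : ∀ r, r < 64 → sm gd (Qf (4864 + r)) = Qf (tab Gen.d (4864 + r)) :=
  edges_tab (sm gd) Qf (tab Gen.d) 4864 [(4864, 3760), (4865, 5956), (4866, 5957), (4867, 3761), (4868, 6175), (4869, 6180), (4870, 4091), (4871, 6183), (4872, 3763), (4873, 6186), (4874, 4874), (4875, 3765), (4876, 4876), (4877, 4877), (4878, 6192), (4879, 3767), (4880, 6195), (4881, 5972), (4882, 5973), (4883, 4883), (4884, 6199), (4885, 6201), (4886, 3773), (4887, 6204), (4888, 4888), (4889, 3775), (4890, 5981), (4891, 4891), (4892, 6211), (4893, 4102), (4894, 5837), (4895, 5838), (4896, 3810), (4897, 3811), (4898, 6218), (4899, 3783), (4900, 6221), (4901, 6028), (4902, 6029), (4903, 4903), (4904, 4904), (4905, 6226), (4906, 3788), (4907, 6230), (4908, 6231), (4909, 3790), (4910, 6234), (4911, 6229), (4912, 3792), (4913, 4913), (4914, 4914), (4915, 3817), (4916, 6241), (4917, 6243), (4918, 3797), (4919, 6246), (4920, 6228), (4921, 3799), (4922, 6051), (4923, 3825), (4924, 6251), (4925, 3803), (4926, 6255), (4927, 3804)]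
    ⟨e3 q4864 L61288 q3760, e3 q4865 (flp_d L86269) q5956, e3 q4866 (flp_d L86276) q5957, e3 q4867 (flp_d L61310) q3761, e3 q4868 (flp_d L88674) q6175, e3 q4869 L88712 q6180, e3 q4870 L61339 q4091, e3 q4871 L88734 q6183, e3 q4872 (flp_d L61353) q3763, e3 q4873 (flp_d L88761) q6186, e3 q4874 L61375 q4874, e3 q4875 L61379 q3765, e3 q4876 L61387 q4876, e3 q4877 L61396 q4877, e3 q4878 L88814 q6192, e3 q4879 (flp_d L61408) q3767, e3 q4880 (flp_d L88838) q6195, e3 q4881 (flp_d L86386) q5972, e3 q4882 (flp_d L86392) q5973, e3 q4883 L61443 q4883, e3 q4884 L88869 q6199, e3 q4885 L88886 q6201, e3 q4886 (flp_d L61466) q3773, e3 q4887 (flp_d L88911) q6204, e3 q4888 L61486 q4888, e3 q4889 L61490 q3775, e3 q4890 (flp_d L86451) q5981, e3 q4891 L61553 q4891, e3 q4892 L89045 q6211, e3 q4893 L61573 q4102, e3 q4894 L592394 q5837, e3 q4895 L592340 q5838, e3 q4896 L61624 q3810, e3 q4897 L61633 q3811, e3 q4898 L89157 q6218, e3 q4899 (flp_d L61648) q3783, e3 q4900 (flp_d L89189) q6221, e3 q4901 (flp_d L86924) q6028, e3 q4902 (flp_d L86931) q6029,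 e3 q4903 L61688 q4903, e3 q4904 L61696 q4904, e3 q4905 L89229 q6226, e3 q4906 (flp_d L61710) q3788, e3 q4907 (flp_d L89262) q6230, e3 q4908 L89266 q6231, e3 q4909 (flp_d L61734) q3790, e3 q4910 (flp_d L89293) q6234, e3 q4911 (flp_d L89257) q6229, e3 q4912 L61758 q3792, e3 q4913 L61766 q4913, e3 q4914 L61773 q4914, e3 q4915 L61788 q3817, e3 q4916 L89358 q6241, e3 q4917 L89375 q6243, e3 q4918 (flp_d L61809) q3797, e3 q4919 (flp_d L89404) q6246, e3 q4920 (flp_d L89250) q6228, e3 q4921 L61836 q3799, e3 q4922 (flp_d L87098) q6051, e3 q4923 L61852 q3825, e3 q4924 L89439 q6251, e3 q4925 (flp_d L61865) q3803, e3 q4926 (flp_d L89475) q6255, e3 q4927 (flp_d L61881) q3804, trivial⟩ (by decide +kernel)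

theorem ce_d_77 : ∀ r, r < 64 → sm gd (Qf (4928 + r)) = Qf (tab Gen.d (4928 + r)) :=
  edges_tab (sm gd) Qf (tab Gen.d) 4928 [(4928, 6257), (4929, 4929), (4930, 3806), (4931, 4931), (4932, 4932), (4933, 4933), (4934, 6215), (4935, 6266), (4936, 6268), (4937, 3812), (4938, 6271), (4939, 4939), (4940, 3814), (4941, 5668), (4942, 6239), (4943, 6275), (4944, 3818), (4945, 6278), (4946, 3819), (4947, 6280), (4948, 4948), (4949, 3821), (4950, 4950), (4951, 4951), (4952, 4952), (4953, 3826), (4954, 3830), (4955, 4955), (4956, 3828), (4957, 3836), (4958, 4958), (4959, 3837), (4960, 3838), (4961, 6250), (4962, 6287), (4963, 6288), (4964, 4964), (4965, 4965), (4966, 3842), (4967, 3843), (4968, 3845), (4969, 6293), (4970, 6295), (4971, 3847), (4972, 4119), (4973, 4973), (4974, 6296), (4975, 3850), (4976, 4117), (4977, 3855), (4978, 6298), (4979, 3856), (4980, 6301), (4981, 3858), (4982, 4082), (4983, 4983), (4984, 3860), (4985, 6302), (4986, 5716), (4987, 3862), (4988, 4988), (4989, 4079), (4990, 3868), (4991, 6307)]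
    ⟨e3 q4928 (flp_d L89492) q6257, e3 q4929 L61906 q4929, e3 q4930 L61910 q3806, e3 q4931 L61916 q4931, e3 q4932 L61926 q4932, e3 q4933 L61934 q4933, e3 q4934 (flp_d L89134) q6215, e3 q4935 L89565 q6266, e3 q4936 L89584 q6268, e3 q4937 (flp_d L61968) q3812, e3 q4938 (flp_d L89616) q6271, e3 q4939 L61992 q4939, e3 q4940 L61998 q3814, e3 q4941 (flp_d L546009) q5668, e3 q4942 (flp_d L89345) q6239, e3 q4943 L89653 q6275, e3 q4944 (flp_d L62032) q3818, e3 q4945 (flp_d L89688) q6278, e3 q4946 (flp_d L62049) q3819, e3 q4947 (flp_d L89703) q6280, e3 q4948 L62071 q4948, e3 q4949 L62076 q3821, e3 q4950 L62082 q4950, e3 q4951 L62091 q4951, e3 q4952 L62100 q4952, e3 q4953 (flp_d L62111) q3826, e3 q4954 (flp_d L647579) q3830, e3 q4955 L62141 q4955, e3 q4956 L62145 q3828, e3 q4957 L62168 q3836, e3 q4958 L62186 q4958, e3 q4959 L62189 q3837, e3 q4960 L62198 q3838, e3 q4961 (flp_d L647241) q6250, e3 q4962 (flp_d L89856) q6287, e3 q4963 (flp_d L89881) q6288, e3 q4964 L62381 q4964, e3 q4965 L62393 q4965, e3 q4966 L62400 q3842, e3 q4967 (flp_d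 L62471) q3843, e3 q4968 L62499 q3845, e3 q4969 (flp_d L90275) q6293, e3 q4970 L90341 q6295, e3 q4971 (flp_d L62551) q3847, e3 q4972 (flp_d L620021) q4119, e3 q4973 L62576 q4973, e3 q4974 (flp_d L609286) q6296, e3 q4975 (flp_d L62592) q3850, e3 q4976 L619933 q4117, e3 q4977 L62740 q3855, e3 q4978 (flp_d L90650) q6298, e3 q4979 (flp_d L62806) q3856, e3 q4980 (flp_d L90758) q6301, e3 q4981 L62830 q3858, e3 q4982 L626954 q4082, e3 q4983 L62858 q4983, e3 q4984 (flp_d L62865) q3860, e3 q4985 (flp_d L625206) q6302, e3 q4986 (flp_d L83824) q5716, e3 q4987 L62895 q3862, e3 q4988 L62906 q4988, e3 q4989 L626923 q4079, e3 q4990 L63098 q3868, e3 q4991 (flp_d L91176) q6307, trivial⟩ (by decide +kernel)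

theorem ce_d_78 : ∀ r, r < 64 → sm gd (Qf (4992 + r)) = Qf (tab Gen.d (4992 + r)) :=
  edges_tab (sm gd) Qf (tab Gen.d) 4992 [(4992, 5732), (4993, 3870), (4994, 6310), (4995, 3905), (4996, 3872), (4997, 4099), (4998, 5376), (4999, 3875), (5000, 5000), (5001, 6311), (5002, 5743), (5003, 5306), (5004, 3914), (5005, 3879), (5006, 5006), (5007, 4096), (5008, 5008), (5009, 5758), (5010, 3886), (5011, 6320), (5012, 4083), (5013, 3888), (5014, 4000), (5015, 5767), (5016, 3891), (5017, 5017), (5018, 6319), (5019, 5771), (5020, 6328), (5021, 4081), (5022, 3895), (5023, 5023), (5024, 5024), (5025, 3997), (5026, 5026), (5027, 5788), (5028, 6309), (5029, 3904), (5030, 6333), (5031, 4101), (5032, 3907), (5033, 5800), (5034, 5801), (5035, 5923), (5036, 6313), (5037, 3911), (5038, 5038), (5039, 6332), (5040, 6340), (5041, 5809), (5042, 6345), (5043, 3913), (5044, 4098), (5045, 3972), (5046, 3918), (5047, 5047), (5048, 5048), (5049, 3963), (5050, 5050), (5051, 6349), (5052, 5831), (5053, 5053), (5054, 3927), (5055, 5055)]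
    ⟨e3 q4992 (flp_d L84025) q5732, e3 q4993 L63196 q3870, e3 q4994 (flp_d L91336) q6310, e3 q4995 L63222 q3905, e3 q4996 L63230 q3872, e3 q4997 L626843 q4099, e3 q4998 (flp_d L644652) q5376, e3 q4999 L63274 q3875, e3 q5000 L63284 q5000, e3 q5001 (flp_d L625168) q6311, e3 q5002 (flp_d L84128) q5743, e3 q5003 (flp_d L641981) q5306, e3 q5004 L63311 q3914, e3 q5005 L63318 q3879, e3 q5006 L63327 q5006, e3 q5007 L625140 q4096, e3 q5008 L63500 q5008, e3 q5009 (flp_d L84311) q5758, e3 q5010 L63543 q3886, e3 q5011 (flp_d L91857) q6320, e3 q5012 (flp_d L625769) q4083, e3 q5013 L63581 q3888, e3 q5014 L626856 q4000, e3 q5015 (flp_d L84394) q5767, e3 q5016 L63633 q3891, e3 q5017 L63647 q5017, e3 q5018 L607459 q6319, e3 q5019 (flp_d L84429) q5771, e3 q5020 L92048 q6328, e3 q5021 (flp_d L621836) q4081, e3 q5022 L63685 q3895, e3 q5023 L63696 q5023, e3 q5024 L63701 q5024, e3 q5025 L622665 q3997, e3 q5026 L63760 q5026, e3 q5027 (flp_d L84668) q5788, e3 q5028 (flp_d L91329) q6309, e3 q5029 L63990 q3904, e3 q5030 (flp_d L92554) q6333, e3 q5031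 (flp_d L625801) q4101, e3 q5032 L64044 q3907, e3 q5033 (flp_d L84767) q5800, e3 q5034 (flp_d L84780) q5801, e3 q5035 L576291 q5923, e3 q5036 (flp_d L91437) q6313, e3 q5037 L64107 q3911, e3 q5038 L64119 q5038, e3 q5039 (flp_d L625047) q6332, e3 q5040 L92750 q6340, e3 q5041 (flp_d L84842) q5809, e3 q5042 L92790 q6345, e3 q5043 (flp_d L64162) q3913, e3 q5044 L625064 q4098, e3 q5045 L621847 q3972, e3 q5046 L64195 q3918, e3 q5047 L64207 q5047, e3 q5048 L64212 q5048, e3 q5049 (flp_d L623619) q3963, e3 q5050 L64274 q5050, e3 q5051 L93416 q6349, e3 q5052 (flp_d L85189) q5831, e3 q5053 L64636 q5053, e3 q5054 L64653 q3927, e3 q5055 L64679 q5055, trivial⟩ (by decide +kernel)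

theorem ce_d_79 : ∀ r, r < 64 → sm gd (Qf (5056 + r)) = Qf (tab Gen.d (5056 + r)) :=
  edges_tab (sm gd) Qf (tab Gen.d) 5056 [(5056, 5056), (5057, 5846), (5058, 6356), (5059, 5849), (5060, 5982), (5061, 5061), (5062, 6362), (5063, 3936), (5064, 5064), (5065, 3937), (5066, 6364), (5067, 6369), (5068, 5861), (5069, 6371), (5070, 3939), (5071, 5071), (5072, 5072), (5073, 5073), (5074, 4069), (5075, 3942), (5076, 6376), (5077, 5077), (5078, 5078), (5079, 4053), (5080, 3950), (5081, 5081), (5082, 5882), (5083, 3954), (5084, 6380), (5085, 5886), (5086, 5898), (5087, 5087), (5088, 3958), (5089, 5089), (5090, 6347), (5091, 4179), (5092, 5092), (5093, 5093), (5094, 5899), (5095, 5095), (5096, 3966), (5097, 6338), (5098, 6387), (5099, 5907), (5100, 6388), (5101, 3968), (5102, 5924), (5103, 5103), (5104, 3976), (5105, 6393), (5106, 6394), (5107, 5932), (5108, 5948), (5109, 5109), (5110, 6381), (5111, 3982), (5112, 5112), (5113, 4188), (5114, 3984), (5115, 4185), (5116, 5116), (5117, 5117), (5118, 6399), (5119, 5950)]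
    ⟨e3 q5056 L64689 q5056, e3 q5057 (flp_d L85325) q5846, e3 q5058 L93675 q6356, e3 q5059 (flp_d L85349) q5849, e3 q5060 (flp_d L590848) q5982, e3 q5061 L64805 q5061, e3 q5062 L93775 q6362, e3 q5063 L64824 q3936, e3 q5064 L64835 q5064, e3 q5065 (flp_d L64846) q3937, e3 q5066 (flp_d L93819) q6364, e3 q5067 L93854 q6369, e3 q5068 (flp_d L85447) q5861, e3 q5069 L93879 q6371, e3 q5070 (flp_d L64886) q3939, e3 q5071 L64909 q5071, e3 q5072 L64922 q5072, e3 q5073 L64928 q5073, e3 q5074 (flp_d L624639) q4069, e3 q5075 (flp_d L64940) q3942, e3 q5076 (flp_d L93982) q6376, e3 q5077 L64963 q5077, e3 q5078 L64968 q5078, e3 q5079 L624679 q4053, e3 q5080 L65024 q3950, e3 q5081 L65035 q5081, e3 q5082 (flp_d L85617) q5882, e3 q5083 L65055 q3954, e3 q5084 (flp_d L94120) q6380, e3 q5085 (flp_d L85655) q5886, e3 q5086 L591221 q5898, e3 q5087 L65107 q5087, e3 q5088 L65113 q3958, e3 q5089 L65126 q5089, e3 q5090 (flp_d L617885) q6347, e3 q5091 L605829 q4179, e3 q5092 L65185 q5092, e3 q5093 L65190 q5093, e3 q5094 (flp_d L85774) q5899, e3 q5095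 L65231 q5095, e3 q5096 L65239 q3966, e3 q5097 L623439 q6338, e3 q5098 L94435 q6387, e3 q5099 (flp_d L85847) q5907, e3 q5100 L94470 q6388, e3 q5101 (flp_d L65298) q3968, e3 q5102 (flp_d L85985) q5924, e3 q5103 L65454 q5103, e3 q5104 L65462 q3976, e3 q5105 (flp_d L94729) q6393, e3 q5106 L94757 q6394, e3 q5107 (flp_d L86057) q5932, e3 q5108 L591431 q5948, e3 q5109 L65540 q5109, e3 q5110 (flp_d L623430) q6381, e3 q5111 L65556 q3982, e3 q5112 L65570 q5112, e3 q5113 (flp_d L623421) q4188, e3 q5114 (flp_d L65607) q3984, e3 q5115 L626096 q4185, e3 q5116 L65631 q5116, e3 q5117 L65636 q5117, e3 q5118 L94993 q6399, e3 q5119 (flp_d L86206) q5950, trivial⟩ (by decide +kernel)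

theorem ce_d_80 : ∀ r, r < 64 → sm gd (Qf (5120 + r)) = Qf (tab Gen.d (5120 + r)) :=
  edges_tab (sm gd) Qf (tab Gen.d) 5120 [(5120, 5120), (5121, 3991), (5122, 3992), (5123, 6402), (5124, 6404), (5125, 5961), (5126, 6405), (5127, 3994), (5128, 5128), (5129, 6408), (5130, 5984), (5131, 4039), (5132, 4005), (5133, 4006), (5134, 6413), (5135, 6418), (5136, 5995), (5137, 6016), (5138, 4048), (5139, 4049), (5140, 6420), (5141, 4010), (5142, 5142), (5143, 4208), (5144, 4207), (5145, 4015), (5146, 4228), (5147, 4017), (5148, 5148), (5149, 4020), (5150, 6422), (5151, 6020), (5152, 4063), (5153, 4064), (5154, 4025), (5155, 6429), (5156, 6426), (5157, 6427), (5158, 6431), (5159, 4026), (5160, 6433), (5161, 4028), (5162, 6432), (5163, 5163), (5164, 4037), (5165, 6437), (5166, 5645), (5167, 6411), (5168, 6412), (5169, 6443), (5170, 4040), (5171, 5171), (5172, 4044), (5173, 6448), (5174, 6445), (5175, 6446), (5176, 6453), (5177, 4045), (5178, 5628), (5179, 6374), (5180, 6442), (5181, 6441), (5182, 4050), (5183, 6454)]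
    ⟨e3 q5120 L65704 q5120, e3 q5121 L65722 q3991, e3 q5122 (flp_d L65748) q3992, e3 q5123 (flp_d L95144) q6402, e3 q5124 L95171 q6404, e3 q5125 (flp_d L86301) q5961, e3 q5126 L95189 q6405, e3 q5127 (flp_d L65779) q3994, e3 q5128 L65797 q5128, e3 q5129 L95442 q6408, e3 q5130 (flp_d L86488) q5984, e3 q5131 L66000 q4039, e3 q5132 L66022 q4005, e3 q5133 (flp_d L66048) q4006, e3 q5134 (flp_d L95605) q6413, e3 q5135 L95639 q6418, e3 q5136 (flp_d L86594) q5995, e3 q5137 L591441 q6016, e3 q5138 L66115 q4048, e3 q5139 L66124 q4049, e3 q5140 L95729 q6420, e3 q5141 (flp_d L66139) q4010, e3 q5142 L66165 q5142, e3 q5143 (flp_d L624467) q4208, e3 q5144 L624726 q4207, e3 q5145 (flp_d L66201) q4015, e3 q5146 L604899 q4228, e3 q5147 L66233 q4017, e3 q5148 L66243 q5148, e3 q5149 (flp_d L66285) q4020, e3 q5150 (flp_d L95949) q6422, e3 q5151 (flp_d L86823) q6020, e3 q5152 L66367 q4063, e3 q5153 L66376 q4064, e3 q5154 L66428 q4025, e3 q5155 L96144 q6429, e3 q5156 (flp_d L96128) q6426, e3 q5157 (flp_d L96135) q6427, e3 q5158 L96179 q6431, e3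 q5159 (flp_d L66456) q4026, e3 q5160 L96205 q6433, e3 q5161 (flp_d L66476) q4028, e3 q5162 (flp_d L96196) q6432, e3 q5163 L66506 q5163, e3 q5164 (flp_d L66640) q4037, e3 q5165 (flp_d L96412) q6437, e3 q5166 (flp_d L563242) q5645, e3 q5167 (flp_d L95529) q6411, e3 q5168 (flp_d L95540) q6412, e3 q5169 L96530 q6443, e3 q5170 (flp_d L66739) q4040, e3 q5171 L66759 q5171, e3 q5172 L66764 q4044, e3 q5173 L96569 q6448, e3 q5174 (flp_d L96551) q6445, e3 q5175 (flp_d L96559) q6446, e3 q5176 L96614 q6453, e3 q5177 (flp_d L66802) q4045, e3 q5178 (flp_d L537305) q5628, e3 q5179 L624666 q6374, e3 q5180 L624488 q6442, e3 q5181 (flp_d L624523) q6441, e3 q5182 (flp_d L66867) q4050, e3 q5183 (flp_d L96625) q6454, trivial⟩ (by decide +kernel)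

theorem ce_d_81 : ∀ r, r < 64 → sm gd (Qf (5184 + r)) = Qf (tab Gen.d (5184 + r)) :=
  edges_tab (sm gd) Qf (tab Gen.d) 5184 [(5184, 4209), (5185, 4054), (5186, 4055), (5187, 5187), (5188, 5188), (5189, 4058), (5190, 6461), (5191, 5653), (5192, 4061), (5193, 5193), (5194, 6465), (5195, 6466), (5196, 6361), (5197, 4067), (5198, 4068), (5199, 5199), (5200, 5200), (5201, 6471), (5202, 6475), (5203, 6130), (5204, 5204), (5205, 4073), (5206, 4074), (5207, 6478), (5208, 6480), (5209, 6141), (5210, 6481), (5211, 4076), (5212, 4115), (5213, 4084), (5214, 6484), (5215, 6165), (5216, 5216), (5217, 4089), (5218, 6489), (5219, 6487), (5220, 6491), (5221, 4090), (5222, 6494), (5223, 4092), (5224, 6493), (5225, 4125), (5226, 6492), (5227, 5227), (5228, 4103), (5229, 5229), (5230, 5230), (5231, 4130), (5232, 4107), (5233, 6502), (5234, 5234), (5235, 4111), (5236, 6507), (5237, 6505), (5238, 6509), (5239, 4112), (5240, 4113), (5241, 6511), (5242, 6483), (5243, 6510), (5244, 5244), (5245, 5734), (5246, 4122), (5247, 6518)]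
    ⟨e3 q5184 (flp_d L624548) q4209, e3 q5185 (flp_d L66902) q4054, e3 q5186 (flp_d L66910) q4055, e3 q5187 L66927 q5187, e3 q5188 L66930 q5188, e3 q5189 (flp_d L66935) q4058, e3 q5190 (flp_d L96790) q6461, e3 q5191 L563255 q5653, e3 q5192 L66966 q4061, e3 q5193 L66974 q5193, e3 q5194 (flp_d L96825) q6465, e3 q5195 (flp_d L96832) q6466, e3 q5196 (flp_d L624742) q6361, e3 q5197 L67007 q4067, e3 q5198 L67013 q4068, e3 q5199 L67021 q5199, e3 q5200 L67025 q5200, e3 q5201 (flp_d L96877) q6471, e3 q5202 L96963 q6475, e3 q5203 (flp_d L88185) q6130, e3 q5204 L67121 q5204, e3 q5205 L67143 q4073, e3 q5206 (flp_d L67169) q4074, e3 q5207 (flp_d L97132) q6478, e3 q5208 L97171 q6480, e3 q5209 (flp_d L88300) q6141, e3 q5210 L97200 q6481, e3 q5211 (flp_d L67214) q4076, e3 q5212 L67237 q4115, e3 q5213 (flp_d L67439) q4084, e3 q5214 (flp_d L97520) q6484, e3 q5215 (flp_d L88558) q6165, e3 q5216 L67523 q5216, e3 q5217 L67584 q4089, e3 q5218 L97709 q6489, e3 q5219 (flp_d L97698) q6487, e3 q5220 L97733 q6491, e3 q5221 (flp_d L67613) q4090, e3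 q5222 L97768 q6494, e3 q5223 (flp_d L67637) q4092, e3 q5224 (flp_d L97759) q6493, e3 q5225 L67667 q4125, e3 q5226 (flp_d L97754) q6492, e3 q5227 L67791 q5227, e3 q5228 (flp_d L67929) q4103, e3 q5229 L67950 q5229, e3 q5230 L67961 q5230, e3 q5231 L67982 q4130, e3 q5232 (flp_d L68050) q4107, e3 q5233 (flp_d L98308) q6502, e3 q5234 L68135 q5234, e3 q5235 L68187 q4111, e3 q5236 L98494 q6507, e3 q5237 (flp_d L98482) q6505, e3 q5238 L98518 q6509, e3 q5239 (flp_d L68217) q4112, e3 q5240 (flp_d L68232) q4113, e3 q5241 (flp_d L98546) q6511, e3 q5242 (flp_d L97232) q6483, e3 q5243 (flp_d L98539) q6510, e3 q5244 L68397 q5244, e3 q5245 (flp_d L565849) q5734, e3 q5246 (flp_d L68543) q4122, e3 q5247 (flp_d L98995) q6518, trivial⟩ (by decide +kernel)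

theorem ce_d_82 : ∀ r, r < 64 → sm gd (Qf (5248 + r)) = Qf (tab Gen.d (5248 + r)) :=
  edges_tab (sm gd) Qf (tab Gen.d) 5248 [(5248, 4126), (5249, 4124), (5250, 6519), (5251, 6497), (5252, 5381), (5253, 5253), (5254, 5294), (5255, 6501), (5256, 5256), (5257, 6524), (5258, 5258), (5259, 5259), (5260, 6526), (5261, 5261), (5262, 5262), (5263, 4139), (5264, 6528), (5265, 4143), (5266, 4145), (5267, 6530), (5268, 5268), (5269, 4152), (5270, 4156), (5271, 4200), (5272, 6533), (5273, 5273), (5274, 4203), (5275, 4227), (5276, 4226), (5277, 5277), (5278, 5625), (5279, 5279), (5280, 5280), (5281, 4216), (5282, 6460), (5283, 4223), (5284, 6535), (5285, 6534), (5286, 6537), (5287, 4235), (5288, 5288), (5289, 4243), (5290, 5290), (5291, 6545), (5292, 4246), (5293, 5293), (5294, 5254), (5295, 4240), (5296, 6549), (5297, 4251), (5298, 5298), (5299, 6554), (5300, 6542), (5301, 5301), (5302, 6558), (5303, 4245), (5304, 6560), (5305, 6547), (5306, 5003), (5307, 4248), (5308, 6565), (5309, 4250), (5310, 4296), (5311, 6568)]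
    ⟨e3 q5248 L68559 q4126, e3 q5249 L68565 q4124, e3 q5250 (flp_d L99020) q6519, e3 q5251 (flp_d L97818) q6497, e3 q5252 L643267 q5381, e3 q5253 L68651 q5253, e3 q5254 (flp_d L638576) q5294, e3 q5255 (flp_d L98187) q6501, e3 q5256 L68766 q5256, e3 q5257 L99285 q6524, e3 q5258 L68797 q5258, e3 q5259 L68808 q5259, e3 q5260 L99434 q6526, e3 q5261 L68891 q5261, e3 q5262 L68991 q5262, e3 q5263 L69012 q4139, e3 q5264 (flp_d L99639) q6528, e3 q5265 (flp_d L69211) q4143, e3 q5266 L69433 q4145, e3 q5267 (flp_d L100266) q6530, e3 q5268 L69729 q5268, e3 q5269 L70017 q4152, e3 q5270 (flp_d L70306) q4156, e3 q5271 (flp_d L74974) q4200, e3 q5272 (flp_d L108510) q6533, e3 q5273 L75008 q5273, e3 q5274 L75054 q4203, e3 q5275 L624363 q4227, e3 q5276 (flp_d L616824) q4226, e3 q5277 L429687 q5277, e3 q5278 L561031 q5625, e3 q5279 L429680 q5279, e3 q5280 L417280 q5280, e3 q5281 (flp_d L75276) q4216, e3 q5282 (flp_d L96783) q6460, e3 q5283 L75423 q4223, e3 q5284 (flp_d L616834) q6535, e3 q5285 L616849 q6534, e3 q5286 L113545 q6537, e3 q5287 (flp_d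 L79336) q4235, e3 q5288 L79354 q5288, e3 q5289 L79364 q4243, e3 q5290 L79368 q5290, e3 q5291 L114643 q6545, e3 q5292 L79388 q4246, e3 q5293 L79398 q5293, e3 q5294 L638576 q5254, e3 q5295 (flp_d L79412) q4240, e3 q5296 (flp_d L114700) q6549, e3 q5297 L79432 q4251, e3 q5298 L79440 q5298, e3 q5299 L114753 q6554, e3 q5300 (flp_d L114619) q6542, e3 q5301 L79472 q5301, e3 q5302 L114792 q6558, e3 q5303 (flp_d L79491) q4245, e3 q5304 (flp_d L114815) q6560, e3 q5305 (flp_d L114666) q6547, e3 q5306 L641981 q5003, e3 q5307 (flp_d L79529) q4248, e3 q5308 (flp_d L114878) q6565, e3 q5309 L79549 q4250, e3 q5310 L79557 q4296, e3 q5311 (flp_d L114910) q6568, trivial⟩ (by decide +kernel)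

theorem ce_d_83 : ∀ r, r < 64 → sm gd (Qf (5312 + r)) = Qf (tab Gen.d (5312 + r)) :=
  edges_tab (sm gd) Qf (tab Gen.d) 5312 [(5312, 6551), (5313, 6571), (5314, 4253), (5315, 6574), (5316, 4255), (5317, 4307), (5318, 6578), (5319, 5319), (5320, 4257), (5321, 6583), (5322, 5322), (5323, 4259), (5324, 4320), (5325, 6589), (5326, 6567), (5327, 4262), (5328, 4324), (5329, 4325), (5330, 6595), (5331, 5331), (5332, 4265), (5333, 4338), (5334, 6602), (5335, 5335), (5336, 6609), (5337, 5337), (5338, 4269), (5339, 4344), (5340, 4345), (5341, 6613), (5342, 5342), (5343, 6619), (5344, 4274), (5345, 4350), (5346, 4351), (5347, 4519), (5348, 6624), (5349, 5349), (5350, 4522), (5351, 6628), (5352, 4278), (5353, 6630), (5354, 5354), (5355, 6634), (5356, 4281), (5357, 6636), (5358, 5358), (5359, 6640), (5360, 4284), (5361, 6643), (5362, 4286), (5363, 6561), (5364, 6647), (5365, 5365), (5366, 4288), (5367, 6652), (5368, 4290), (5369, 5369), (5370, 6656), (5371, 5371), (5372, 4292), (5373, 6660), (5374, 5374), (5375, 4294)]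
    ⟨e3 q5312 (flp_d L114724) q6551, e3 q5313 L114940 q6571, e3 q5314 (flp_d L79592) q4253, e3 q5315 (flp_d L114974) q6574, e3 q5316 L79615 q4255, e3 q5317 L79628 q4307, e3 q5318 (flp_d L115010) q6578, e3 q5319 L79643 q5319, e3 q5320 (flp_d L79650) q4257, e3 q5321 (flp_d L115060) q6583, e3 q5322 L79675 q5322, e3 q5323 L79680 q4259, e3 q5324 L79690 q4320, e3 q5325 (flp_d L115109) q6589, e3 q5326 (flp_d L114904) q6567, e3 q5327 L79712 q4262, e3 q5328 L79723 q4324, e3 q5329 L79729 q4325, e3 q5330 (flp_d L115160) q6595, e3 q5331 L79752 q5331, e3 q5332 L79758 q4265, e3 q5333 L79769 q4338, e3 q5334 (flp_d L115223) q6602, e3 q5335 L79786 q5335, e3 q5336 L115280 q6609, e3 q5337 L79802 q5337, e3 q5338 L79808 q4269, e3 q5339 L79818 q4344, e3 q5340 L79824 q4345, e3 q5341 (flp_d L115315) q6613, e3 q5342 L79843 q5342, e3 q5343 L115361 q6619, e3 q5344 L79859 q4274, e3 q5345 L79869 q4350, e3 q5346 L79875 q4351, e3 q5347 L79883 q4519, e3 q5348 L115420 q6624, e3 q5349 L79908 q5349, e3 q5350 L79917 q4522, e3 q5351 L115461 q6628, e3 q5352 (flp_d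 L79932) q4278, e3 q5353 (flp_d L115481) q6630, e3 q5354 L79952 q5354, e3 q5355 L115521 q6634, e3 q5356 (flp_d L79979) q4281, e3 q5357 (flp_d L115547) q6636, e3 q5358 L80005 q5358, e3 q5359 L115584 q6640, e3 q5360 (flp_d L80019) q4284, e3 q5361 (flp_d L115615) q6643, e3 q5362 L80040 q4286, e3 q5363 (flp_d L114826) q6561, e3 q5364 (flp_d L115648) q6647, e3 q5365 L80063 q5365, e3 q5366 (flp_d L80078) q4288, e3 q5367 (flp_d L115709) q6652, e3 q5368 L80101 q4290, e3 q5369 L80112 q5369, e3 q5370 (flp_d L115746) q6656, e3 q5371 L80128 q5371, e3 q5372 (flp_d L80135) q4292, e3 q5373 (flp_d L115792) q6660, e3 q5374 L80157 q5374, e3 q5375 L80162 q4294, trivial⟩ (by decide +kernel)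

theorem ce_d_84 : ∀ r, r < 64 → sm gd (Qf (5376 + r)) = Qf (tab Gen.d (5376 + r)) :=
  edges_tab (sm gd) Qf (tab Gen.d) 5376 [(5376, 4998), (5377, 6664), (5378, 4322), (5379, 4297), (5380, 6569), (5381, 5252), (5382, 6669), (5383, 4299), (5384, 6673), (5385, 4301), (5386, 5386), (5387, 6677), (5388, 4363), (5389, 4303), (5390, 6682), (5391, 5391), (5392, 4305), (5393, 6575), (5394, 6688), (5395, 6646), (5396, 4308), (5397, 6579), (5398, 6580), (5399, 6694), (5400, 5400), (5401, 4311), (5402, 5402), (5403, 6700), (5404, 6655), (5405, 4314), (5406, 5406), (5407, 5407), (5408, 6706), (5409, 5409), (5410, 4317), (5411, 6584), (5412, 6713), (5413, 5413), (5414, 6720), (5415, 6663), (5416, 4321), (5417, 6590), (5418, 6591), (5419, 6724), (5420, 6667), (5421, 6730), (5422, 4326), (5423, 6596), (5424, 6597), (5425, 5425), (5426, 6737), (5427, 5427), (5428, 4330), (5429, 5429), (5430, 5430), (5431, 6741), (5432, 5432), (5433, 6747), (5434, 4335), (5435, 5435), (5436, 5436), (5437, 5437), (5438, 5438), (5439, 6756)]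
    ⟨e3 q5376 L644652 q4998, e3 q5377 (flp_d L115837) q6664, e3 q5378 L80183 q4322, e3 q5379 L80191 q4297, e3 q5380 (flp_d L114919) q6569, e3 q5381 (flp_d L643267) q5252, e3 q5382 (flp_d L115881) q6669, e3 q5383 (flp_d L80227) q4299, e3 q5384 (flp_d L115936) q6673, e3 q5385 L80253 q4301, e3 q5386 L80269 q5386, e3 q5387 (flp_d L115977) q6677, e3 q5388 L80283 q4363, e3 q5389 (flp_d L80291) q4303, e3 q5390 (flp_d L116031) q6682, e3 q5391 L80318 q5391, e3 q5392 L80323 q4305, e3 q5393 (flp_d L114987) q6575, e3 q5394 (flp_d L116084) q6688, e3 q5395 (flp_d L115640) q6646, e3 q5396 L80356 q4308, e3 q5397 (flp_d L115022) q6579, e3 q5398 (flp_d L115028) q6580, e3 q5399 (flp_d L116135) q6694, e3 q5400 L80416 q5400, e3 q5401 L80421 q4311, e3 q5402 L80433 q5402, e3 q5403 (flp_d L116229) q6700, e3 q5404 (flp_d L115738) q6655, e3 q5405 L80458 q4314, e3 q5406 L80471 q5406, e3 q5407 L80477 q5407, e3 q5408 (flp_d L116286) q6706, e3 q5409 L80502 q5409, e3 q5410 L80508 q4317, e3 q5411 (flp_d L115071) q6584, e3 q5412 (flp_d L116351) q6713, e3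 q5413 L80533 q5413, e3 q5414 L116404 q6720, e3 q5415 (flp_d L115829) q6663, e3 q5416 L80554 q4321, e3 q5417 (flp_d L115120) q6590, e3 q5418 (flp_d L115126) q6591, e3 q5419 (flp_d L116439) q6724, e3 q5420 (flp_d L115865) q6667, e3 q5421 L116482 q6730, e3 q5422 L80600 q4326, e3 q5423 (flp_d L115173) q6596, e3 q5424 (flp_d L115179) q6597, e3 q5425 L80665 q5425, e3 q5426 L116624 q6737, e3 q5427 L80685 q5427, e3 q5428 L80692 q4330, e3 q5429 L80703 q5429, e3 q5430 L80708 q5430, e3 q5431 (flp_d L116664) q6741, e3 q5432 L80729 q5432, e3 q5433 L116716 q6747, e3 q5434 L80749 q4335, e3 q5435 L80761 q5435, e3 q5436 L80767 q5436, e3 q5437 L80775 q5437, e3 q5438 L80788 q5438, e3 q5439 L116799 q6756, trivial⟩ (by decide +kernel)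

theorem ce_d_85 : ∀ r, r < 64 → sm gd (Qf (5440 + r)) = Qf (tab Gen.d (5440 + r)) :=
  edges_tab (sm gd) Qf (tab Gen.d) 5440 [(5440, 5440), (5441, 4339), (5442, 6603), (5443, 6604), (5444, 6760), (5445, 6763), (5446, 5446), (5447, 6768), (5448, 4341), (5449, 6771), (5450, 5450), (5451, 6775), (5452, 4346), (5453, 6614), (5454, 6615), (5455, 5455), (5456, 5456), (5457, 6782), (5458, 4348), (5459, 6785), (5460, 6621), (5461, 6622), (5462, 6787), (5463, 4353), (5464, 6790), (5465, 4355), (5466, 4361), (5467, 6794), (5468, 5468), (5469, 4357), (5470, 6799), (5471, 5471), (5472, 4359), (5473, 6791), (5474, 6805), (5475, 5475), (5476, 4362), (5477, 6795), (5478, 6796), (5479, 6811), (5480, 5480), (5481, 4365), (5482, 5482), (5483, 6818), (5484, 5484), (5485, 6825), (5486, 5486), (5487, 4369), (5488, 5488), (5489, 5489), (5490, 6829), (5491, 5491), (5492, 6835), (5493, 4374), (5494, 5494), (5495, 5495), (5496, 4375), (5497, 6840), (5498, 5498), (5499, 4377), (5500, 4386), (5501, 6846), (5502, 5502), (5503, 4380)]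
    ⟨e3 q5440 L80805 q5440, e3 q5441 L80813 q4339, e3 q5442 (flp_d L115234) q6603, e3 q5443 (flp_d L115241) q6604, e3 q5444 (flp_d L116837) q6760, e3 q5445 L116855 q6763, e3 q5446 L80854 q5446, e3 q5447 L116899 q6768, e3 q5448 (flp_d L80864) q4341, e3 q5449 (flp_d L116928) q6771, e3 q5450 L80883 q5450, e3 q5451 L116954 q6775, e3 q5452 L80899 q4346, e3 q5453 (flp_d L115325) q6614, e3 q5454 (flp_d L115331) q6615, e3 q5455 L80920 q5455, e3 q5456 L80928 q5456, e3 q5457 L117011 q6782, e3 q5458 (flp_d L80941) q4348, e3 q5459 (flp_d L117038) q6785, e3 q5460 (flp_d L115385) q6621, e3 q5461 (flp_d L115391) q6622, e3 q5462 L117051 q6787, e3 q5463 (flp_d L80985) q4353, e3 q5464 (flp_d L117086) q6790, e3 q5465 L81009 q4355, e3 q5466 L81022 q4361, e3 q5467 (flp_d L117124) q6794, e3 q5468 L81038 q5468, e3 q5469 (flp_d L81046) q4357, e3 q5470 (flp_d L117178) q6799, e3 q5471 L81078 q5471, e3 q5472 L81083 q4359, e3 q5473 (flp_d L117099) q6791, e3 q5474 (flp_d L117237) q6805, e3 q5475 L81114 q5475, e3 q5476 L81120 q4362, e3 q5477 (flp_d L117136)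 q6795, e3 q5478 (flp_d L117142) q6796, e3 q5479 (flp_d L117292) q6811, e3 q5480 L81162 q5480, e3 q5481 L81168 q4365, e3 q5482 L81182 q5482, e3 q5483 (flp_d L117358) q6818, e3 q5484 L81196 q5484, e3 q5485 L117415 q6825, e3 q5486 L81214 q5486, e3 q5487 L81221 q4369, e3 q5488 L81232 q5488, e3 q5489 L81237 q5489, e3 q5490 (flp_d L117452) q6829, e3 q5491 L81256 q5491, e3 q5492 L117496 q6835, e3 q5493 L81271 q4374, e3 q5494 L81282 q5494, e3 q5495 L81286 q5495, e3 q5496 (flp_d L81291) q4375, e3 q5497 (flp_d L117544) q6840, e3 q5498 L81317 q5498, e3 q5499 L81322 q4377, e3 q5500 L81332 q4386, e3 q5501 (flp_d L117595) q6846, e3 q5502 L81350 q5502, e3 q5503 L81356 q4380, trivial⟩ (by decide +kernel)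

theorem ce_d_86 : ∀ r, r < 64 → sm gd (Qf (5504 + r)) = Qf (tab Gen.d (5504 + r)) :=
  edges_tab (sm gd) Qf (tab Gen.d) 5504 [(5504, 4390), (5505, 4391), (5506, 6852), (5507, 5507), (5508, 4383), (5509, 6841), (5510, 6859), (5511, 5511), (5512, 6866), (5513, 5513), (5514, 4387), (5515, 6847), (5516, 6848), (5517, 6870), (5518, 5518), (5519, 6876), (5520, 4392), (5521, 6853), (5522, 6854), (5523, 5523), (5524, 5524), (5525, 6885), (5526, 5526), (5527, 4396), (5528, 5528), (5529, 5529), (5530, 6889), (5531, 6892), (5532, 5532), (5533, 6897), (5534, 4398), (5535, 6900), (5536, 5536), (5537, 6904), (5538, 4403), (5539, 5539), (5540, 5540), (5541, 5541), (5542, 5542), (5543, 6911), (5544, 4405), (5545, 6914), (5546, 5546), (5547, 5547), (5548, 5548), (5549, 4410), (5550, 4422), (5551, 6919), (5552, 5552), (5553, 6926), (5554, 4466), (5555, 4414), (5556, 4428), (5557, 4429), (5558, 6930), (5559, 4469), (5560, 6936), (5561, 4419), (5562, 4434), (5563, 4435), (5564, 5564), (5565, 5565), (5566, 6945), (5567, 4473)]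
    ⟨e3 q5504 L81367 q4390, e3 q5505 L81373 q4391, e3 q5506 (flp_d L117648) q6852, e3 q5507 L81400 q5507, e3 q5508 L81406 q4383, e3 q5509 (flp_d L117555) q6841, e3 q5510 (flp_d L117716) q6859, e3 q5511 L81434 q5511, e3 q5512 L117774 q6866, e3 q5513 L81451 q5513, e3 q5514 L81458 q4387, e3 q5515 (flp_d L117606) q6847, e3 q5516 (flp_d L117612) q6848, e3 q5517 (flp_d L117810) q6870, e3 q5518 L81493 q5518, e3 q5519 L117857 q6876, e3 q5520 L81508 q4392, e3 q5521 (flp_d L117661) q6853, e3 q5522 (flp_d L117667) q6854, e3 q5523 L81530 q5523, e3 q5524 L81542 q5524, e3 q5525 L117928 q6885, e3 q5526 L81558 q5526, e3 q5527 L81566 q4396, e3 q5528 L81577 q5528, e3 q5529 L81583 q5529, e3 q5530 (flp_d L117968) q6889, e3 q5531 L117990 q6892, e3 q5532 L81608 q5532, e3 q5533 L118025 q6897, e3 q5534 (flp_d L81617) q4398, e3 q5535 (flp_d L118048) q6900, e3 q5536 L81635 q5536, e3 q5537 L118076 q6904, e3 q5538 L81650 q4403, e3 q5539 L81662 q5539, e3 q5540 L81667 q5540, e3 q5541 L81673 q5541, e3 q5542 L81681 q5542, e3 q5543 L118134 q6911, e3 q5544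 (flp_d L81691) q4405, e3 q5545 (flp_d L118158) q6914, e3 q5546 L81712 q5546, e3 q5547 L81716 q5547, e3 q5548 L81728 q5548, e3 q5549 L81734 q4410, e3 q5550 L81745 q4422, e3 q5551 (flp_d L118211) q6919, e3 q5552 L81763 q5552, e3 q5553 L118269 q6926, e3 q5554 L81779 q4466, e3 q5555 L81786 q4414, e3 q5556 L81796 q4428, e3 q5557 L81802 q4429, e3 q5558 (flp_d L118305) q6930, e3 q5559 L81822 q4469, e3 q5560 L118353 q6936, e3 q5561 L81839 q4419, e3 q5562 L81849 q4434, e3 q5563 L81855 q4435, e3 q5564 L81863 q5564, e3 q5565 L81876 q5565, e3 q5566 L118435 q6945, e3 q5567 L81897 q4473, trivial⟩ (by decide +kernel)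

theorem ce_d_87 : ∀ r, r < 64 → sm gd (Qf (5568 + r)) = Qf (tab Gen.d (5568 + r)) :=
  edges_tab (sm gd) Qf (tab Gen.d) 5568 [(5568, 4423), (5569, 6920), (5570, 6921), (5571, 6949), (5572, 6952), (5573, 5573), (5574, 6957), (5575, 4425), (5576, 6960), (5577, 4478), (5578, 6964), (5579, 4430), (5580, 6931), (5581, 6932), (5582, 4482), (5583, 4483), (5584, 6971), (5585, 4432), (5586, 6974), (5587, 6938), (5588, 6939), (5589, 5589), (5590, 6959), (5591, 6980), (5592, 5592), (5593, 6985), (5594, 4438), (5595, 6987), (5596, 4491), (5597, 6991), (5598, 4443), (5599, 5599), (5600, 5600), (5601, 4444), (5602, 6995), (5603, 7000), (5604, 5604), (5605, 7003), (5606, 4446), (5607, 7006), (5608, 4765), (5609, 4448), (5610, 4500), (5611, 4501), (5612, 7013), (5613, 4450), (5614, 7016), (5615, 5615), (5616, 5616), (5617, 4507), (5618, 7020), (5619, 7022), (5620, 4456), (5621, 7025), (5622, 6784), (5623, 4458), (5624, 5624), (5625, 5278), (5626, 5626), (5627, 4464), (5628, 5178), (5629, 6928), (5630, 4468), (5631, 6933)]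
    ⟨e3 q5568 L81906 q4423, e3 q5569 (flp_d L118222) q6920, e3 q5570 (flp_d L118229) q6921, e3 q5571 (flp_d L118478) q6949, e3 q5572 L118500 q6952, e3 q5573 L81952 q5573, e3 q5574 L118541 q6957, e3 q5575 (flp_d L81962) q4425, e3 q5576 (flp_d L118564) q6960, e3 q5577 L81979 q4478, e3 q5578 L118596 q6964, e3 q5579 L81998 q4430, e3 q5580 (flp_d L118315) q6931, e3 q5581 (flp_d L118321) q6932, e3 q5582 L82021 q4482, e3 q5583 L82030 q4483, e3 q5584 L118655 q6971, e3 q5585 (flp_d L82044) q4432, e3 q5586 (flp_d L118682) q6974, e3 q5587 (flp_d L118378) q6938, e3 q5588 (flp_d L118384) q6939, e3 q5589 L82080 q5589, e3 q5590 (flp_d L553621) q6959, e3 q5591 L118731 q6980, e3 q5592 L82105 q5592, e3 q5593 L118776 q6985, e3 q5594 (flp_d L82115) q4438, e3 q5595 (flp_d L118808) q6987, e3 q5596 L82136 q4491, e3 q5597 L118839 q6991, e3 q5598 L82155 q4443, e3 q5599 L82165 q5599, e3 q5600 L82171 q5600, e3 q5601 (flp_d L82175) q4444, e3 q5602 (flp_d L118881) q6995, e3 q5603 L118913 q7000, e3 q5604 L82202 q5604, e3 q5605 L118934 q7003, e3 q5606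 (flp_d L82210) q4446, e3 q5607 (flp_d L118954) q7006, e3 q5608 L82229 q4765, e3 q5609 L82234 q4448, e3 q5610 L82241 q4500, e3 q5611 L82249 q4501, e3 q5612 L119004 q7013, e3 q5613 (flp_d L82262) q4450, e3 q5614 (flp_d L119033) q7016, e3 q5615 L82288 q5615, e3 q5616 L82293 q5616, e3 q5617 L82299 q4507, e3 q5618 L119062 q7020, e3 q5619 L119078 q7022, e3 q5620 (flp_d L82318) q4456, e3 q5621 (flp_d L119106) q7025, e3 q5622 (flp_d L117033) q6784, e3 q5623 L82345 q4458, e3 q5624 L82354 q5624, e3 q5625 (flp_d L561031) q5278, e3 q5626 L82461 q5626, e3 q5627 L82479 q4464, e3 q5628 L537305 q5178, e3 q5629 (flp_d L118288) q6928, e3 q5630 L82633 q4468, e3 q5631 (flp_d L118331) q6933, trivial⟩ (by decide +kernel)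

theorem ce_d_88 : ∀ r, r < 64 → sm gd (Qf (5632 + r)) = Qf (tab Gen.d (5632 + r)) :=
  edges_tab (sm gd) Qf (tab Gen.d) 5632 [(5632, 6934), (5633, 7036), (5634, 4470), (5635, 4487), (5636, 6947), (5637, 4475), (5638, 4476), (5639, 7040), (5640, 5640), (5641, 6961), (5642, 6962), (5643, 7047), (5644, 4479), (5645, 5166), (5646, 6968), (5647, 7051), (5648, 7053), (5649, 4484), (5650, 7056), (5651, 5651), (5652, 4486), (5653, 5191), (5654, 4489), (5655, 7060), (5656, 5656), (5657, 6988), (5658, 6989), (5659, 7067), (5660, 4492), (5661, 5661), (5662, 4496), (5663, 7072), (5664, 7069), (5665, 7070), (5666, 7077), (5667, 4497), (5668, 4941), (5669, 7010), (5670, 7081), (5671, 7083), (5672, 4502), (5673, 7086), (5674, 7078), (5675, 4504), (5676, 5676), (5677, 7018), (5678, 7091), (5679, 4508), (5680, 7095), (5681, 4509), (5682, 7097), (5683, 5683), (5684, 4511), (5685, 5685), (5686, 5686), (5687, 7059), (5688, 4515), (5689, 5689), (5690, 4518), (5691, 6555), (5692, 6541), (5693, 7104), (5694, 4520), (5695, 6631)]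
    ⟨e3 q5632 (flp_d L118339) q6934, e3 q5633 L119625 q7036, e3 q5634 (flp_d L82677) q4470, e3 q5635 L82699 q4487, e3 q5636 (flp_d L118457) q6947, e3 q5637 L82803 q4475, e3 q5638 (flp_d L82827) q4476, e3 q5639 (flp_d L119874) q7040, e3 q5640 L82860 q5640, e3 q5641 (flp_d L118571) q6961, e3 q5642 (flp_d L118581) q6962, e3 q5643 L120023 q7047, e3 q5644 (flp_d L82931) q4479, e3 q5645 L563242 q5166, e3 q5646 (flp_d L118634) q6968, e3 q5647 L120082 q7051, e3 q5648 L120100 q7053, e3 q5649 (flp_d L82993) q4484, e3 q5650 (flp_d L120126) q7056, e3 q5651 L83014 q5651, e3 q5652 L83018 q4486, e3 q5653 (flp_d L563255) q5191, e3 q5654 (flp_d L83078) q4489, e3 q5655 (flp_d L120240) q7060, e3 q5656 L83111 q5656, e3 q5657 (flp_d L118816) q6988, e3 q5658 (flp_d L118825) q6989, e3 q5659 L120380 q7067, e3 q5660 (flp_d L83176) q4492, e3 q5661 L83204 q5661, e3 q5662 L83217 q4496, e3 q5663 L120446 q7072, e3 q5664 (flp_d L120429) q7069, e3 q5665 (flp_d L120436) q7070, e3 q5666 L120489 q7077, e3 q5667 (flp_d L83252) q4497, e3 q5668 L546009 q4941,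 e3 q5669 (flp_d L118983) q7010, e3 q5670 L120592 q7081, e3 q5671 L120609 q7083, e3 q5672 (flp_d L83342) q4502, e3 q5673 (flp_d L120635) q7086, e3 q5674 (flp_d L120508) q7078, e3 q5675 L83367 q4504, e3 q5676 L83377 q5676, e3 q5677 (flp_d L119050) q7018, e3 q5678 L120674 q7091, e3 q5679 (flp_d L83399) q4508, e3 q5680 (flp_d L120708) q7095, e3 q5681 (flp_d L83415) q4509, e3 q5682 (flp_d L120725) q7097, e3 q5683 L83437 q5683, e3 q5684 L83441 q4511, e3 q5685 L83448 q5685, e3 q5686 L83458 q5686, e3 q5687 (flp_d L120151) q7059, e3 q5688 (flp_d L83470) q4515, e3 q5689 L83489 q5689, e3 q5690 L83500 q4518, e3 q5691 L643473 q6555, e3 q5692 L639307 q6541, e3 q5693 L120894 q7104, e3 q5694 (flp_d L83557) q4520, e3 q5695 L643393 q6631, trivial⟩ (by decide +kernel)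

theorem ce_d_89 : ∀ r, r < 64 → sm gd (Qf (5696 + r)) = Qf (tab Gen.d (5696 + r)) :=
  edges_tab (sm gd) Qf (tab Gen.d) 5696 [(5696, 5696), (5697, 7106), (5698, 4523), (5699, 7109), (5700, 4525), (5701, 5701), (5702, 6649), (5703, 6556), (5704, 4530), (5705, 4529), (5706, 6562), (5707, 6546), (5708, 4531), (5709, 7114), (5710, 4533), (5711, 6632), (5712, 6648), (5713, 5713), (5714, 4535), (5715, 7119), (5716, 4986), (5717, 4537), (5718, 5718), (5719, 7123), (5720, 4579), (5721, 4540), (5722, 5722), (5723, 5723), (5724, 6671), (5725, 4542), (5726, 6563), (5727, 4546), (5728, 4545), (5729, 4550), (5730, 6570), (5731, 6550), (5732, 4992), (5733, 4548), (5734, 5245), (5735, 7134), (5736, 4592), (5737, 4551), (5738, 6650), (5739, 7130), (5740, 6670), (5741, 4554), (5742, 7142), (5743, 5002), (5744, 4603), (5745, 4558), (5746, 5746), (5747, 5747), (5748, 7148), (5749, 4608), (5750, 7154), (5751, 4563), (5752, 5752), (5753, 5753), (5754, 4565), (5755, 4570), (5756, 6577), (5757, 5757), (5758, 5009), (5759, 4568)]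
    ⟨e3 q5696 L83580 q5696, e3 q5697 L120951 q7106, e3 q5698 (flp_d L83597) q4523, e3 q5699 (flp_d L120981) q7109, e3 q5700 L83617 q4525, e3 q5701 L83627 q5701, e3 q5702 (flp_d L643345) q6649, e3 q5703 L643742 q6556, e3 q5704 L83672 q4530, e3 q5705 (flp_d L83703) q4529, e3 q5706 (flp_d L643950) q6562, e3 q5707 (flp_d L643679) q6546, e3 q5708 (flp_d L83743) q4531, e3 q5709 (flp_d L121198) q7114, e3 q5710 L83767 q4533, e3 q5711 (flp_d L643770) q6632, e3 q5712 (flp_d L643197) q6648, e3 q5713 L83793 q5713, e3 q5714 (flp_d L83800) q4535, e3 q5715 (flp_d L121278) q7119, e3 q5716 L83824 q4986, e3 q5717 L83830 q4537, e3 q5718 L83840 q5718, e3 q5719 (flp_d L121328) q7123, e3 q5720 L83856 q4579, e3 q5721 L83862 q4540, e3 q5722 L83872 q5722, e3 q5723 L83877 q5723, e3 q5724 L632977 q6671, e3 q5725 (flp_d L83909) q4542, e3 q5726 (flp_d L643812) q6563, e3 q5727 L83930 q4546, e3 q5728 L83968 q4545, e3 q5729 L83976 q4550, e3 q5730 (flp_d L643874) q6570, e3 q5731 (flp_d L643637) q6550, e3 q5732 L84025 q4992, e3 q5733 L84031 q4548, e3 q5734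 L565849 q5245, e3 q5735 (flp_d L121616) q7134, e3 q5736 L84057 q4592, e3 q5737 L84063 q4551, e3 q5738 L644489 q6650, e3 q5739 (flp_d L121537) q7130, e3 q5740 (flp_d L644633) q6670, e3 q5741 L84103 q4554, e3 q5742 (flp_d L121719) q7142, e3 q5743 L84128 q5002, e3 q5744 L84140 q4603, e3 q5745 L84146 q4558, e3 q5746 L84155 q5746, e3 q5747 L84160 q5747, e3 q5748 (flp_d L121799) q7148, e3 q5749 L84176 q4608, e3 q5750 L121840 q7154, e3 q5751 L84190 q4563, e3 q5752 L84200 q5752, e3 q5753 L84205 q5753, e3 q5754 L84245 q4565, e3 q5755 L84258 q4570, e3 q5756 L643128 q6577, e3 q5757 L84274 q5757, e3 q5758 L84311 q5009, e3 q5759 L84317 q4568, trivial⟩ (by decide +kernel)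

theorem ce_d_90 : ∀ r, r < 64 → sm gd (Qf (5760 + r)) = Qf (tab Gen.d (5760 + r)) :=
  edges_tab (sm gd) Qf (tab Gen.d) 5760 [(5760, 4835), (5761, 7163), (5762, 7117), (5763, 4571), (5764, 7158), (5765, 7159), (5766, 7169), (5767, 5015), (5768, 4574), (5769, 5769), (5770, 7176), (5771, 5019), (5772, 7183), (5773, 7122), (5774, 4578), (5775, 5775), (5776, 5776), (5777, 7187), (5778, 7126), (5779, 7193), (5780, 4583), (5781, 5781), (5782, 5782), (5783, 6581), (5784, 4586), (5785, 4594), (5786, 4595), (5787, 6593), (5788, 5027), (5789, 4700), (5790, 7133), (5791, 4591), (5792, 4860), (5793, 4861), (5794, 7206), (5795, 7138), (5796, 7212), (5797, 4596), (5798, 7198), (5799, 7199), (5800, 5033), (5801, 5034), (5802, 7221), (5803, 7141), (5804, 4600), (5805, 5805), (5806, 5806), (5807, 7225), (5808, 7228), (5809, 5041), (5810, 7233), (5811, 4602), (5812, 7236), (5813, 7146), (5814, 7240), (5815, 4607), (5816, 5816), (5817, 5817), (5818, 7151), (5819, 7152), (5820, 7247), (5821, 4609), (5822, 7250), (5823, 5823)]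
    ⟨e3 q5760 L592204 q4835, e3 q5761 (flp_d L122050) q7163, e3 q5762 (flp_d L121228) q7117, e3 q5763 L84353 q4571, e3 q5764 (flp_d L121953) q7158, e3 q5765 (flp_d L121959) q7159, e3 q5766 (flp_d L122106) q7169, e3 q5767 L84394 q5015, e3 q5768 L84401 q4574, e3 q5769 L84413 q5769, e3 q5770 (flp_d L122173) q7176, e3 q5771 L84429 q5019, e3 q5772 L122233 q7183, e3 q5773 (flp_d L121322) q7122, e3 q5774 L84452 q4578, e3 q5775 L84463 q5775, e3 q5776 L84468 q5776, e3 q5777 (flp_d L122270) q7187, e3 q5778 (flp_d L121361) q7126, e3 q5779 L122316 q7193, e3 q5780 L84503 q4583, e3 q5781 L84516 q5781, e3 q5782 L84522 q5782, e3 q5783 L643919 q6581, e3 q5784 L84592 q4586, e3 q5785 L84603 q4594, e3 q5786 L84609 q4595, e3 q5787 L643049 q6593, e3 q5788 L84668 q5027, e3 q5789 L592229 q4700, e3 q5790 (flp_d L121610) q7133, e3 q5791 L84690 q4591, e3 q5792 L592212 q4860, e3 q5793 (flp_d L592185) q4861, e3 q5794 (flp_d L122631) q7206, e3 q5795 (flp_d L121649) q7138, e3 q5796 L122680 q7212, e3 q5797 L84741 q4596, e3 q5798 (flp_d L122482) q7198, e3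 q5799 (flp_d L122488) q7199, e3 q5800 L84767 q5033, e3 q5801 L84780 q5034, e3 q5802 L122754 q7221, e3 q5803 (flp_d L121712) q7141, e3 q5804 L84800 q4600, e3 q5805 L84811 q5805, e3 q5806 L84817 q5806, e3 q5807 (flp_d L122790) q7225, e3 q5808 L122812 q7228, e3 q5809 L84842 q5041, e3 q5810 L122854 q7233, e3 q5811 (flp_d L84854) q4602, e3 q5812 (flp_d L122885) q7236, e3 q5813 (flp_d L121785) q7146, e3 q5814 L122909 q7240, e3 q5815 L84887 q4607, e3 q5816 L84899 q5816, e3 q5817 L84904 q5817, e3 q5818 (flp_d L121821) q7151, e3 q5819 (flp_d L121828) q7152, e3 q5820 L122965 q7247, e3 q5821 (flp_d L84930) q4609, e3 q5822 (flp_d L122989) q7250, e3 q5823 L84950 q5823, trivial⟩ (by decide +kernel)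

theorem ce_d_91 : ∀ r, r < 64 → sm gd (Qf (5824 + r)) = Qf (tab Gen.d (5824 + r)) :=
  edges_tab (sm gd) Qf (tab Gen.d) 5824 [(5824, 5824), (5825, 5825), (5826, 7253), (5827, 4617), (5828, 4628), (5829, 4629), (5830, 7257), (5831, 5052), (5832, 4751), (5833, 4752), (5834, 5834), (5835, 7266), (5836, 4624), (5837, 4894), (5838, 4895), (5839, 5839), (5840, 5840), (5841, 7273), (5842, 4626), (5843, 7276), (5844, 7255), (5845, 7256), (5846, 5057), (5847, 4725), (5848, 7282), (5849, 5059), (5850, 7287), (5851, 4632), (5852, 7289), (5853, 5853), (5854, 7293), (5855, 4637), (5856, 5856), (5857, 5857), (5858, 4638), (5859, 7297), (5860, 7302), (5861, 5068), (5862, 7305), (5863, 4640), (5864, 7308), (5865, 6770), (5866, 4642), (5867, 5867), (5868, 5868), (5869, 7314), (5870, 4644), (5871, 7317), (5872, 5872), (5873, 5873), (5874, 5874), (5875, 7321), (5876, 7323), (5877, 4650), (5878, 7326), (5879, 4779), (5880, 4652), (5881, 5881), (5882, 5082), (5883, 4656), (5884, 5884), (5885, 7334), (5886, 5085), (5887, 7341)]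
    ⟨e3 q5824 L84956 q5824, e3 q5825 L85063 q5825, e3 q5826 L123184 q7253, e3 q5827 L85079 q4617, e3 q5828 L85089 q4628, e3 q5829 L85095 q4629, e3 q5830 L123328 q7257, e3 q5831 L85189 q5052, e3 q5832 L592375 q4751, e3 q5833 L575568 q4752, e3 q5834 L85222 q5834, e3 q5835 L123435 q7266, e3 q5836 L85238 q4624, e3 q5837 (flp_d L592394) q4894, e3 q5838 (flp_d L592340) q4895, e3 q5839 L85263 q5839, e3 q5840 L85271 q5840, e3 q5841 L123492 q7273, e3 q5842 (flp_d L85286) q4626, e3 q5843 (flp_d L123519) q7276, e3 q5844 (flp_d L123208) q7255, e3 q5845 (flp_d L123214) q7256, e3 q5846 L85325 q5057, e3 q5847 (flp_d L553171) q4725, e3 q5848 L123576 q7282, e3 q5849 L85349 q5059, e3 q5850 L123618 q7287, e3 q5851 (flp_d L85360) q4632, e3 q5852 (flp_d L123650) q7289, e3 q5853 L85380 q5853, e3 q5854 L123677 q7293, e3 q5855 L85396 q4637, e3 q5856 L85406 q5856, e3 q5857 L85412 q5857, e3 q5858 (flp_d L85416) q4638, e3 q5859 (flp_d L123715) q7297, e3 q5860 L123752 q7302, e3 q5861 L85447 q5068, e3 q5862 L123775 q7305, e3 q5863 (flp_d L85458) q4640,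 e3 q5864 (flp_d L123805) q7308, e3 q5865 (flp_d L116922) q6770, e3 q5866 L85490 q4642, e3 q5867 L85497 q5867, e3 q5868 L85502 q5868, e3 q5869 L123856 q7314, e3 q5870 (flp_d L85514) q4644, e3 q5871 (flp_d L123881) q7317, e3 q5872 L85535 q5872, e3 q5873 L85540 q5873, e3 q5874 L85548 q5874, e3 q5875 L123909 q7321, e3 q5876 L123922 q7323, e3 q5877 (flp_d L85568) q4650, e3 q5878 (flp_d L123952) q7326, e3 q5879 L85590 q4779, e3 q5880 L85595 q4652, e3 q5881 L85604 q5881, e3 q5882 L85617 q5082, e3 q5883 L85624 q4656, e3 q5884 L85638 q5884, e3 q5885 (flp_d L124025) q7334, e3 q5886 L85655 q5085, e3 q5887 L124090 q7341, trivial⟩ (by decide +kernel)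

theorem ce_d_92 : ∀ r, r < 64 → sm gd (Qf (5888 + r)) = Qf (tab Gen.d (5888 + r)) :=
  edges_tab (sm gd) Qf (tab Gen.d) 5888 [(5888, 5888), (5889, 4660), (5890, 5890), (5891, 5891), (5892, 7345), (5893, 5893), (5894, 7351), (5895, 4665), (5896, 5896), (5897, 5897), (5898, 5086), (5899, 5094), (5900, 7161), (5901, 5901), (5902, 4669), (5903, 4838), (5904, 4839), (5905, 7362), (5906, 7365), (5907, 5099), (5908, 7370), (5909, 4671), (5910, 7373), (5911, 5911), (5912, 7377), (5913, 4676), (5914, 4849), (5915, 4850), (5916, 5916), (5917, 5917), (5918, 7384), (5919, 4678), (5920, 7387), (5921, 4856), (5922, 4857), (5923, 5035), (5924, 5102), (5925, 7217), (5926, 5926), (5927, 4685), (5928, 5928), (5929, 5929), (5930, 7396), (5931, 7399), (5932, 5107), (5933, 7404), (5934, 4687), (5935, 7406), (5936, 5936), (5937, 7410), (5938, 4692), (5939, 5939), (5940, 5940), (5941, 5941), (5942, 5942), (5943, 7417), (5944, 4694), (5945, 7420), (5946, 5946), (5947, 5947), (5948, 5108), (5949, 7424), (5950, 5119), (5951, 7202)]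
    ⟨e3 q5888 L85676 q5888, e3 q5889 L85681 q4660, e3 q5890 L85694 q5890, e3 q5891 L85699 q5891, e3 q5892 (flp_d L124128) q7345, e3 q5893 L85721 q5893, e3 q5894 L124178 q7351, e3 q5895 L85736 q4665, e3 q5896 L85749 q5896, e3 q5897 L85753 q5897, e3 q5898 (flp_d L591221) q5086, e3 q5899 L85774 q5094, e3 q5900 (flp_d L575399) q7161, e3 q5901 L85794 q5901, e3 q5902 L85800 q4669, e3 q5903 L85812 q4838, e3 q5904 L85819 q4839, e3 q5905 (flp_d L124298) q7362, e3 q5906 L124324 q7365, e3 q5907 L85847 q5099, e3 q5908 L124361 q7370, e3 q5909 (flp_d L85858) q4671, e3 q5910 (flp_d L124392) q7373, e3 q5911 L85878 q5911, e3 q5912 L124420 q7377, e3 q5913 L85893 q4676, e3 q5914 L85905 q4849, e3 q5915 L85911 q4850, e3 q5916 L85920 q5916, e3 q5917 L85925 q5917, e3 q5918 L124479 q7384, e3 q5919 (flp_d L85937) q4678, e3 q5920 (flp_d L124505) q7387, e3 q5921 L85960 q4856, e3 q5922 L85965 q4857, e3 q5923 (flp_d L576291) q5035, e3 q5924 L85985 q5102, e3 q5925 L576258 q7217, e3 q5926 L86004 q5926, e3 q5927 L86010 q4685, e3 q5928 L86023 q5928, e3 q5929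 L86029 q5929, e3 q5930 (flp_d L124606) q7396, e3 q5931 L124632 q7399, e3 q5932 L86057 q5107, e3 q5933 L124671 q7404, e3 q5934 (flp_d L86069) q4687, e3 q5935 (flp_d L124696) q7406, e3 q5936 L86088 q5936, e3 q5937 L124726 q7410, e3 q5938 L86103 q4692, e3 q5939 L86117 q5939, e3 q5940 L86122 q5940, e3 q5941 L86130 q5941, e3 q5942 L86138 q5942, e3 q5943 L124784 q7417, e3 q5944 (flp_d L86150) q4694, e3 q5945 (flp_d L124808) q7420, e3 q5946 L86169 q5946, e3 q5947 L86173 q5947, e3 q5948 (flp_d L591431) q5108, e3 q5949 L124857 q7424, e3 q5950 L86206 q5119, e3 q5951 L576376 q7202, trivial⟩ (by decide +kernel)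

theorem ce_d_93 : ∀ r, r < 64 → sm gd (Qf (5952 + r)) = Qf (tab Gen.d (5952 + r)) :=
  edges_tab (sm gd) Qf (tab Gen.d) 5952 [(5952, 7203), (5953, 5953), (5954, 7433), (5955, 4705), (5956, 4865), (5957, 4866), (5958, 4706), (5959, 7437), (5960, 7442), (5961, 5125), (5962, 7445), (5963, 4708), (5964, 7448), (5965, 6899), (5966, 4710), (5967, 5967), (5968, 5968), (5969, 7454), (5970, 4712), (5971, 7457), (5972, 4881), (5973, 4882), (5974, 5974), (5975, 7461), (5976, 7463), (5977, 4718), (5978, 7466), (5979, 7249), (5980, 4720), (5981, 4890), (5982, 5060), (5983, 7048), (5984, 5130), (5985, 7280), (5986, 7281), (5987, 4782), (5988, 7041), (5989, 4730), (5990, 5990), (5991, 5991), (5992, 4731), (5993, 7483), (5994, 7488), (5995, 5136), (5996, 7491), (5997, 4733), (5998, 7494), (5999, 4735), (6000, 4787), (6001, 4788), (6002, 7498), (6003, 4737), (6004, 7501), (6005, 6005), (6006, 6006), (6007, 4792), (6008, 7505), (6009, 7507), (6010, 4743), (6011, 7510), (6012, 7275), (6013, 4745), (6014, 6014), (6015, 7514)]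
    ⟨e3 q5952 (flp_d L592192) q7203, e3 q5953 L86241 q5953, e3 q5954 L124963 q7433, e3 q5955 L86256 q4705, e3 q5956 L86269 q4865, e3 q5957 L86276 q4866, e3 q5958 (flp_d L86280) q4706, e3 q5959 (flp_d L125003) q7437, e3 q5960 L125032 q7442, e3 q5961 L86301 q5125, e3 q5962 L125048 q7445, e3 q5963 (flp_d L86313) q4708, e3 q5964 (flp_d L125076) q7448, e3 q5965 (flp_d L118043) q6899, e3 q5966 L86339 q4710, e3 q5967 L86347 q5967, e3 q5968 L86354 q5968, e3 q5969 L125127 q7454, e3 q5970 (flp_d L86365) q4712, e3 q5971 (flp_d L125153) q7457, e3 q5972 L86386 q4881, e3 q5973 L86392 q4882, e3 q5974 L86401 q5974, e3 q5975 L125182 q7461, e3 q5976 L125195 q7463, e3 q5977 (flp_d L86420) q4718, e3 q5978 (flp_d L125221) q7466, e3 q5979 (flp_d L122984) q7249, e3 q5980 L86444 q4720, e3 q5981 L86451 q4890, e3 q5982 L590848 q5060, e3 q5983 L553123 q7048, e3 q5984 L86488 q5130, e3 q5985 (flp_d L553179) q7280, e3 q5986 L535274 q7281, e3 q5987 L86523 q4782, e3 q5988 (flp_d L562060) q7041, e3 q5989 L86542 q4730, e3 q5990 L86554 q5990, e3 q5991 L86560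 q5991, e3 q5992 (flp_d L86566) q4731, e3 q5993 (flp_d L125443) q7483, e3 q5994 L125479 q7488, e3 q5995 L86594 q5136, e3 q5996 L125498 q7491, e3 q5997 (flp_d L86605) q4733, e3 q5998 (flp_d L125522) q7494, e3 q5999 L86631 q4735, e3 q6000 L86638 q4787, e3 q6001 L86646 q4788, e3 q6002 L125572 q7498, e3 q6003 (flp_d L86661) q4737, e3 q6004 (flp_d L125601) q7501, e3 q6005 L86685 q6005, e3 q6006 L86690 q6006, e3 q6007 L86698 q4792, e3 q6008 L125630 q7505, e3 q6009 L125644 q7507, e3 q6010 (flp_d L86717) q4743, e3 q6011 (flp_d L125674) q7510, e3 q6012 (flp_d L123514) q7275, e3 q6013 L86744 q4745, e3 q6014 L86751 q6014, e3 q6015 L125701 q7514, trivial⟩ (by decide +kernel)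

theorem ce_d_94 : ∀ r, r < 64 → sm gd (Qf (6016 + r)) = Qf (tab Gen.d (6016 + r)) :=
  edges_tab (sm gd) Qf (tab Gen.d) 6016 [(6016, 5137), (6017, 4749), (6018, 7517), (6019, 7522), (6020, 5151), (6021, 7261), (6022, 7262), (6023, 4803), (6024, 4804), (6025, 7529), (6026, 4754), (6027, 7532), (6028, 4901), (6029, 4902), (6030, 4759), (6031, 7537), (6032, 7534), (6033, 7535), (6034, 7542), (6035, 4760), (6036, 7546), (6037, 7547), (6038, 4762), (6039, 7550), (6040, 7545), (6041, 4764), (6042, 7007), (6043, 7008), (6044, 4815), (6045, 7557), (6046, 7559), (6047, 4769), (6048, 7562), (6049, 7544), (6050, 4771), (6051, 4922), (6052, 4823), (6053, 7567), (6054, 4775), (6055, 7571), (6056, 4776), (6057, 7573), (6058, 7325), (6059, 4778), (6060, 7327), (6061, 7328), (6062, 7513), (6063, 7477), (6064, 7478), (6065, 4785), (6066, 6948), (6067, 7581), (6068, 7582), (6069, 7495), (6070, 7588), (6071, 7589), (6072, 4789), (6073, 6942), (6074, 7503), (6075, 7593), (6076, 4793), (6077, 7597), (6078, 4794), (6079, 7599)]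
    ⟨e3 q6016 (flp_d L591441) q5137, e3 q6017 (flp_d L86791) q4749, e3 q6018 (flp_d L125783) q7517, e3 q6019 L125821 q7522, e3 q6020 L86823 q5151, e3 q6021 (flp_d L592398) q7261, e3 q6022 (flp_d L592347) q7262, e3 q6023 L86877 q4803, e3 q6024 L86884 q4804, e3 q6025 L125935 q7529, e3 q6026 (flp_d L86898) q4754, e3 q6027 (flp_d L125969) q7532, e3 q6028 L86924 q4901, e3 q6029 L86931 q4902, e3 q6030 L86939 q4759, e3 q6031 L126007 q7537, e3 q6032 (flp_d L125988) q7534, e3 q6033 (flp_d L125994) q7535, e3 q6034 L126040 q7542, e3 q6035 (flp_d L86969) q4760, e3 q6036 (flp_d L126064) q7546, e3 q6037 L126067 q7547, e3 q6038 (flp_d L86986) q4762, e3 q6039 (flp_d L126095) q7550, e3 q6040 (flp_d L126060) q7545, e3 q6041 L87011 q4764, e3 q6042 (flp_d L118962) q7007, e3 q6043 (flp_d L118969) q7008, e3 q6044 L87041 q4815, e3 q6045 L126161 q7557, e3 q6046 L126175 q7559, e3 q6047 (flp_d L87060) q4769, e3 q6048 (flp_d L126207) q7562, e3 q6049 (flp_d L126055) q7544, e3 q6050 L87089 q4771, e3 q6051 L87098 q4922, e3 q6052 L87106 q4823, e3 q6053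 L126244 q7567, e3 q6054 (flp_d L87116) q4775, e3 q6055 (flp_d L126277) q7571, e3 q6056 (flp_d L87128) q4776, e3 q6057 (flp_d L126294) q7573, e3 q6058 (flp_d L123947) q7325, e3 q6059 L87158 q4778, e3 q6060 (flp_d L123959) q7327, e3 q6061 (flp_d L123969) q7328, e3 q6062 (flp_d L125697) q7513, e3 q6063 (flp_d L125376) q7477, e3 q6064 (flp_d L125385) q7478, e3 q6065 L87392 q4785, e3 q6066 (flp_d L561923) q6948, e3 q6067 (flp_d L126659) q7581, e3 q6068 (flp_d L126666) q7582, e3 q6069 (flp_d L125551) q7495, e3 q6070 L126843 q7588, e3 q6071 L126858 q7589, e3 q6072 (flp_d L87531) q4789, e3 q6073 (flp_d L554383) q6942, e3 q6074 (flp_d L125618) q7503, e3 q6075 L126919 q7593, e3 q6076 (flp_d L87588) q4793, e3 q6077 (flp_d L126951) q7597, e3 q6078 (flp_d L87602) q4794, e3 q6079 (flp_d L126966) q7599, trivial⟩ (by decide +kernel)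

theorem ce_d_95 : ∀ r, r < 64 → sm gd (Qf (6080 + r)) = Qf (tab Gen.d (6080 + r)) :=
  edges_tab (sm gd) Qf (tab Gen.d) 6080 [(6080, 6080), (6081, 4796), (6082, 6082), (6083, 6083), (6084, 4833), (6085, 4801), (6086, 7089), (6087, 7606), (6088, 7607), (6089, 7526), (6090, 7613), (6091, 7614), (6092, 4805), (6093, 7088), (6094, 4810), (6095, 4811), (6096, 7621), (6097, 4809), (6098, 7624), (6099, 7618), (6100, 7627), (6101, 7628), (6102, 4812), (6103, 4820), (6104, 7555), (6105, 7632), (6106, 4816), (6107, 7636), (6108, 4817), (6109, 7638), (6110, 7629), (6111, 4819), (6112, 7630), (6113, 7068), (6114, 7061), (6115, 7645), (6116, 4824), (6117, 7649), (6118, 6118), (6119, 6119), (6120, 4826), (6121, 6121), (6122, 4828), (6123, 6123), (6124, 6124), (6125, 7602), (6126, 6126), (6127, 6127), (6128, 7659), (6129, 6576), (6130, 5203), (6131, 7164), (6132, 7165), (6133, 6133), (6134, 7664), (6135, 4840), (6136, 7363), (6137, 7364), (6138, 4841), (6139, 6572), (6140, 7669), (6141, 5209), (6142, 7672), (6143, 4843)]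
    ⟨e3 q6080 L87626 q6080, e3 q6081 L87630 q4796, e3 q6082 L87637 q6082, e3 q6083 L87645 q6083, e3 q6084 L87653 q4833, e3 q6085 L87714 q4801, e3 q6086 (flp_d L562384) q7089, e3 q6087 (flp_d L127106) q7606, e3 q6088 (flp_d L127112) q7607, e3 q6089 (flp_d L125914) q7526, e3 q6090 L127230 q7613, e3 q6091 L127245 q7614, e3 q6092 (flp_d L87813) q4805, e3 q6093 L546616 q7088, e3 q6094 L87862 q4810, e3 q6095 L87867 q4811, e3 q6096 L127333 q7621, e3 q6097 (flp_d L87879) q4809, e3 q6098 (flp_d L127357) q7624, e3 q6099 (flp_d L127316) q7618, e3 q6100 L127378 q7627, e3 q6101 L127391 q7628, e3 q6102 (flp_d L87918) q4812, e3 q6103 L87937 q4820, e3 q6104 (flp_d L126150) q7555, e3 q6105 L127451 q7632, e3 q6106 (flp_d L87971) q4816, e3 q6107 (flp_d L127483) q7636, e3 q6108 (flp_d L87984) q4817, e3 q6109 (flp_d L127498) q7638, e3 q6110 (flp_d L127413) q7629, e3 q6111 L88012 q4819, e3 q6112 (flp_d L127425) q7630, e3 q6113 (flp_d L546605) q7068, e3 q6114 L546668 q7061, e3 q6115 L127552 q7645, e3 q6116 (flp_d L88047) q4824, e3 q6117 (flp_d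 L127585) q7649, e3 q6118 L88068 q6118, e3 q6119 L88072 q6119, e3 q6120 L88078 q4826, e3 q6121 L88090 q6121, e3 q6122 L88094 q4828, e3 q6123 L88103 q6123, e3 q6124 L88113 q6124, e3 q6125 (flp_d L126993) q7602, e3 q6126 L88127 q6126, e3 q6127 L88136 q6127, e3 q6128 L127693 q7659, e3 q6129 (flp_d L643977) q6576, e3 q6130 L88185 q5203, e3 q6131 (flp_d L592704) q7164, e3 q6132 (flp_d L592174) q7165, e3 q6133 L88224 q6133, e3 q6134 L127870 q7664, e3 q6135 L88243 q4840, e3 q6136 (flp_d L124311) q7363, e3 q6137 (flp_d L124318) q7364, e3 q6138 (flp_d L88267) q4841, e3 q6139 (flp_d L645284) q6572, e3 q6140 L127954 q7669, e3 q6141 L88300 q5209, e3 q6142 L127981 q7672, e3 q6143 (flp_d L88314) q4843, trivial⟩ (by decide +kernel)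

theorem ce_d_96 : ∀ r, r < 64 → sm gd (Qf (6144 + r)) = Qf (tab Gen.d (6144 + r)) :=
  edges_tab (sm gd) Qf (tab Gen.d) 6144 [(6144, 7675), (6145, 6145), (6146, 4845), (6147, 6147), (6148, 6148), (6149, 7680), (6150, 4847), (6151, 7683), (6152, 7379), (6153, 7380), (6154, 6154), (6155, 7686), (6156, 7688), (6157, 4853), (6158, 7691), (6159, 6159), (6160, 4855), (6161, 7388), (6162, 4858), (6163, 6592), (6164, 7696), (6165, 5215), (6166, 7207), (6167, 7208), (6168, 6168), (6169, 6169), (6170, 7702), (6171, 4863), (6172, 7705), (6173, 7435), (6174, 7436), (6175, 4868), (6176, 7707), (6177, 6605), (6178, 6585), (6179, 7711), (6180, 4869), (6181, 7715), (6182, 7716), (6183, 4871), (6184, 7719), (6185, 7714), (6186, 4873), (6187, 6187), (6188, 6188), (6189, 6189), (6190, 7725), (6191, 7727), (6192, 4878), (6193, 7730), (6194, 7713), (6195, 4880), (6196, 7458), (6197, 6197), (6198, 7735), (6199, 4884), (6200, 7739), (6201, 4885), (6202, 7741), (6203, 6203), (6204, 4887), (6205, 6205), (6206, 6206), (6207, 6207)]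
    ⟨e3 q6144 (flp_d L128008) q7675, e3 q6145 L88341 q6145, e3 q6146 L88345 q4845, e3 q6147 L88354 q6147, e3 q6148 L88362 q6148, e3 q6149 L128067 q7680, e3 q6150 (flp_d L88376) q4847, e3 q6151 (flp_d L128093) q7683, e3 q6152 (flp_d L124446) q7379, e3 q6153 (flp_d L124452) q7380, e3 q6154 L88415 q6154, e3 q6155 L128127 q7686, e3 q6156 L128143 q7688, e3 q6157 (flp_d L88438) q4853, e3 q6158 (flp_d L128172) q7691, e3 q6159 L88460 q6159, e3 q6160 L88464 q4855, e3 q6161 (flp_d L124514) q7388, e3 q6162 (flp_d L88525) q4858, e3 q6163 (flp_d L643898) q6592, e3 q6164 L128340 q7696, e3 q6165 L88558 q5215, e3 q6166 (flp_d L592600) q7207, e3 q6167 (flp_d L592674) q7208, e3 q6168 L88612 q6168, e3 q6169 L88622 q6169, e3 q6170 L128455 q7702, e3 q6171 (flp_d L88635) q4863, e3 q6172 (flp_d L128484) q7705, e3 q6173 (flp_d L124987) q7435, e3 q6174 (flp_d L124994) q7436, e3 q6175 L88674 q4868, e3 q6176 L128523 q7707, e3 q6177 (flp_d L640666) q6605, e3 q6178 L645365 q6585, e3 q6179 L128566 q7711, e3 q6180 (flp_d L88712) q4869, e3 q6181 (flp_d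 L128594) q7715, e3 q6182 L128597 q7716, e3 q6183 (flp_d L88734) q4871, e3 q6184 (flp_d L128626) q7719, e3 q6185 (flp_d L128589) q7714, e3 q6186 L88761 q4873, e3 q6187 L88768 q6187, e3 q6188 L88774 q6188, e3 q6189 L88791 q6189, e3 q6190 L128694 q7725, e3 q6191 L128712 q7727, e3 q6192 (flp_d L88814) q4878, e3 q6193 (flp_d L128737) q7730, e3 q6194 (flp_d L128584) q7713, e3 q6195 L88838 q4880, e3 q6196 (flp_d L125161) q7458, e3 q6197 L88854 q6197, e3 q6198 L128768 q7735, e3 q6199 (flp_d L88869) q4884, e3 q6200 (flp_d L128805) q7739, e3 q6201 (flp_d L88886) q4885, e3 q6202 (flp_d L128820) q7741, e3 q6203 L88907 q6203, e3 q6204 L88911 q4887, e3 q6205 L88917 q6205, e3 q6206 L88925 q6206, e3 q6207 L88931 q6207, trivial⟩ (by decide +kernel)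

theorem ce_d_97 : ∀ r, r < 64 → sm gd (Qf (6208 + r)) = Qf (tab Gen.d (6208 + r)) :=
  edges_tab (sm gd) Qf (tab Gen.d) 6208 [(6208, 6208), (6209, 6209), (6210, 7750), (6211, 4892), (6212, 7753), (6213, 7268), (6214, 7269), (6215, 4934), (6216, 7756), (6217, 7758), (6218, 4898), (6219, 7761), (6220, 7752), (6221, 4900), (6222, 7533), (6223, 6223), (6224, 7766), (6225, 7768), (6226, 4905), (6227, 7772), (6228, 4920), (6229, 4911), (6230, 4907), (6231, 4908), (6232, 7780), (6233, 7771), (6234, 4910), (6235, 7776), (6236, 7777), (6237, 6237), (6238, 6238), (6239, 4942), (6240, 7788), (6241, 4916), (6242, 7792), (6243, 4917), (6244, 7794), (6245, 7770), (6246, 4919), (6247, 7773), (6248, 7775), (6249, 6249), (6250, 4961), (6251, 4924), (6252, 7802), (6253, 6253), (6254, 7738), (6255, 4926), (6256, 6256), (6257, 4928), (6258, 6258), (6259, 6259), (6260, 6260), (6261, 6261), (6262, 6262), (6263, 7801), (6264, 6606), (6265, 7812), (6266, 4935), (6267, 7815), (6268, 4936), (6269, 7817), (6270, 6270), (6271, 4938)]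
    ⟨e3 q6208 L89021 q6208, e3 q6209 L89030 q6209, e3 q6210 L129039 q7750, e3 q6211 (flp_d L89045) q4892, e3 q6212 (flp_d L129078) q7753, e3 q6213 (flp_d L592573) q7268, e3 q6214 (flp_d L592540) q7269, e3 q6215 L89134 q4934, e3 q6216 L129186 q7756, e3 q6217 L129205 q7758, e3 q6218 (flp_d L89157) q4898, e3 q6219 (flp_d L129239) q7761, e3 q6220 (flp_d L129064) q7752, e3 q6221 L89189 q4900, e3 q6222 (flp_d L125979) q7533, e3 q6223 L89207 q6223, e3 q6224 L129286 q7766, e3 q6225 L129302 q7768, e3 q6226 (flp_d L89229) q4905, e3 q6227 (flp_d L129338) q7772, e3 q6228 L89250 q4920, e3 q6229 L89257 q4911, e3 q6230 L89262 q4907, e3 q6231 (flp_d L89266) q4908, e3 q6232 (flp_d L129398) q7780, e3 q6233 (flp_d L129333) q7771, e3 q6234 L89293 q4910, e3 q6235 (flp_d L129367) q7776, e3 q6236 (flp_d L129375) q7777, e3 q6237 L89323 q6237, e3 q6238 L89329 q6238, e3 q6239 L89345 q4942, e3 q6240 L129483 q7788, e3 q6241 (flp_d L89358) q4916, e3 q6242 (flp_d L129520) q7792, e3 q6243 (flp_d L89375) q4917, e3 q6244 (flp_d L129536) q7794, e3 q6245 (flp_d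 L129325) q7770, e3 q6246 L89404 q4919, e3 q6247 (flp_d L129344) q7773, e3 q6248 (flp_d L129360) q7775, e3 q6249 L89428 q6249, e3 q6250 L647241 q4961, e3 q6251 (flp_d L89439) q4924, e3 q6252 (flp_d L129626) q7802, e3 q6253 L89465 q6253, e3 q6254 (flp_d L128800) q7738, e3 q6255 L89475 q4926, e3 q6256 L89488 q6256, e3 q6257 L89492 q4928, e3 q6258 L89499 q6258, e3 q6259 L89509 q6259, e3 q6260 L89517 q6260, e3 q6261 L89522 q6261, e3 q6262 L89532 q6262, e3 q6263 (flp_d L647785) q7801, e3 q6264 L647482 q6606, e3 q6265 L129758 q7812, e3 q6266 (flp_d L89565) q4935, e3 q6267 (flp_d L129799) q7815, e3 q6268 (flp_d L89584) q4936, e3 q6269 (flp_d L129817) q7817, e3 q6270 L89610 q6270, e3 q6271 L89616 q4938, trivial⟩ (by decide +kernel)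

theorem ce_d_98 : ∀ r, r < 64 → sm gd (Qf (6272 + r)) = Qf (tab Gen.d (6272 + r)) :=
  edges_tab (sm gd) Qf (tab Gen.d) 6272 [(6272, 6272), (6273, 6273), (6274, 6274), (6275, 4943), (6276, 6276), (6277, 6277), (6278, 4945), (6279, 6279), (6280, 4947), (6281, 6281), (6282, 6282), (6283, 6283), (6284, 6284), (6285, 6285), (6286, 7832), (6287, 4962), (6288, 4963), (6289, 7787), (6290, 7834), (6291, 6291), (6292, 6292), (6293, 4969), (6294, 6544), (6295, 4970), (6296, 4974), (6297, 7108), (6298, 4978), (6299, 6548), (6300, 7113), (6301, 4980), (6302, 4985), (6303, 6644), (6304, 6304), (6305, 7121), (6306, 6557), (6307, 4991), (6308, 7131), (6309, 5028), (6310, 4994), (6311, 5001), (6312, 6665), (6313, 5036), (6314, 6314), (6315, 7835), (6316, 7145), (6317, 6564), (6318, 7160), (6319, 5018), (6320, 5011), (6321, 7172), (6322, 7173), (6323, 7330), (6324, 6324), (6325, 7840), (6326, 7181), (6327, 7841), (6328, 5020), (6329, 6329), (6330, 7843), (6331, 7201), (6332, 5039), (6333, 5030), (6334, 7216), (6335, 7848)]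
    ⟨e3 q6272 L89622 q6272, e3 q6273 L89632 q6273, e3 q6274 L89642 q6274, e3 q6275 (flp_d L89653) q4943, e3 q6276 L89677 q6276, e3 q6277 L89683 q6277, e3 q6278 L89688 q4945, e3 q6279 L89698 q6279, e3 q6280 L89703 q4947, e3 q6281 L89710 q6281, e3 q6282 L89719 q6282, e3 q6283 L89728 q6283, e3 q6284 L89733 q6284, e3 q6285 L89742 q6285, e3 q6286 L130012 q7832, e3 q6287 L89856 q4962, e3 q6288 L89881 q4963, e3 q6289 (flp_d L647823) q7787, e3 q6290 L130492 q7834, e3 q6291 L90123 q6291, e3 q6292 L90252 q6292, e3 q6293 L90275 q4969, e3 q6294 (flp_d L639556) q6544, e3 q6295 (flp_d L90341) q4970, e3 q6296 L609286 q4974, e3 q6297 (flp_d L120975) q7108, e3 q6298 L90650 q4978, e3 q6299 L639635 q6548, e3 q6300 (flp_d L121192) q7113, e3 q6301 L90758 q4980, e3 q6302 L625206 q4985, e3 q6303 (flp_d L639963) q6644, e3 q6304 L90857 q6304, e3 q6305 (flp_d L121305) q7121, e3 q6306 (flp_d L642093) q6557, e3 q6307 L91176 q4991, e3 q6308 (flp_d L121594) q7131, e3 q6309 L91329 q5028, e3 q6310 L91336 q4994, e3 q6311 L625168 q5001, e3 q6312 L644670 q6665,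 e3 q6313 L91437 q5036, e3 q6314 L91457 q6314, e3 q6315 L132550 q7835, e3 q6316 (flp_d L121758) q7145, e3 q6317 (flp_d L642271) q6564, e3 q6318 (flp_d L122023) q7160, e3 q6319 (flp_d L607459) q5018, e3 q6320 L91857 q5011, e3 q6321 (flp_d L122134) q7172, e3 q6322 (flp_d L122148) q7173, e3 q6323 (flp_d L576269) q7330, e3 q6324 L92000 q6324, e3 q6325 L133373 q7840, e3 q6326 (flp_d L122220) q7181, e3 q6327 L133417 q7841, e3 q6328 (flp_d L92048) q5020, e3 q6329 L92102 q6329, e3 q6330 L134065 q7843, e3 q6331 (flp_d L122581) q7201, e3 q6332 L625047 q5039, e3 q6333 L92554 q5030, e3 q6334 (flp_d L122719) q7216, e3 q6335 L134324 q7848, trivial⟩ (by decide +kernel)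

theorem ce_d_99 : ∀ r, r < 64 → sm gd (Qf (6336 + r)) = Qf (tab Gen.d (6336 + r)) :=
  edges_tab (sm gd) Qf (tab Gen.d) 6336 [(6336, 7219), (6337, 7389), (6338, 5097), (6339, 6339), (6340, 5040), (6341, 7851), (6342, 7368), (6343, 7231), (6344, 7853), (6345, 5042), (6346, 6346), (6347, 5090), (6348, 6348), (6349, 5051), (6350, 7856), (6351, 7260), (6352, 6352), (6353, 6353), (6354, 7860), (6355, 7279), (6356, 5058), (6357, 7863), (6358, 7866), (6359, 7285), (6360, 7471), (6361, 5196), (6362, 5062), (6363, 6363), (6364, 5066), (6365, 7872), (6366, 7869), (6367, 7870), (6368, 7874), (6369, 5067), (6370, 7877), (6371, 5069), (6372, 7876), (6373, 6373), (6374, 5179), (6375, 7875), (6376, 5076), (6377, 6377), (6378, 7331), (6379, 6379), (6380, 5084), (6381, 5110), (6382, 7884), (6383, 7339), (6384, 7355), (6385, 7885), (6386, 7357), (6387, 5098), (6388, 5100), (6389, 6389), (6390, 7889), (6391, 7391), (6392, 6392), (6393, 5105), (6394, 5106), (6395, 7892), (6396, 7894), (6397, 7402), (6398, 7423), (6399, 5118)]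
    ⟨e3 q6336 (flp_d L122742) q7219, e3 q6337 L601139 q7389, e3 q6338 (flp_d L623439) q5097, e3 q6339 L92740 q6339, e3 q6340 (flp_d L92750) q5040, e3 q6341 (flp_d L134466) q7851, e3 q6342 L622583 q7368, e3 q6343 (flp_d L122840) q7231, e3 q6344 L134524 q7853, e3 q6345 (flp_d L92790) q5042, e3 q6346 L92812 q6346, e3 q6347 L617885 q5090, e3 q6348 L92869 q6348, e3 q6349 (flp_d L93416) q5051, e3 q6350 (flp_d L135474) q7856, e3 q6351 (flp_d L123363) q7260, e3 q6352 L93497 q6352, e3 q6353 L93505 q6353, e3 q6354 L135761 q7860, e3 q6355 (flp_d L123547) q7279, e3 q6356 (flp_d L93675) q5058, e3 q6357 (flp_d L135860) q7863, e3 q6358 L135895 q7866, e3 q6359 (flp_d L123607) q7285, e3 q6360 L590825 q7471, e3 q6361 L624742 q5196, e3 q6362 (flp_d L93775) q5062, e3 q6363 L93804 q6363, e3 q6364 L93819 q5066, e3 q6365 L136074 q7872, e3 q6366 (flp_d L136056) q7869, e3 q6367 (flp_d L136064) q7870, e3 q6368 L136117 q7874, e3 q6369 (flp_d L93854) q5067, e3 q6370 L136155 q7877, e3 q6371 (flp_d L93879) q5069, e3 q6372 (flp_d L136145) q7876, e3 q6373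 L93915 q6373, e3 q6374 (flp_d L624666) q5179, e3 q6375 (flp_d L136138) q7875, e3 q6376 L93982 q5076, e3 q6377 L93991 q6377, e3 q6378 (flp_d L123995) q7331, e3 q6379 L94112 q6379, e3 q6380 L94120 q5084, e3 q6381 L623430 q5110, e3 q6382 L136511 q7884, e3 q6383 (flp_d L124077) q7339, e3 q6384 (flp_d L591233) q7355, e3 q6385 L136772 q7885, e3 q6386 (flp_d L124243) q7357, e3 q6387 (flp_d L94435) q5098, e3 q6388 (flp_d L94470) q5100, e3 q6389 L94493 q6389, e3 q6390 L137265 q7889, e3 q6391 (flp_d L124551) q7391, e3 q6392 L94709 q6392, e3 q6393 L94729 q5105, e3 q6394 (flp_d L94757) q5106, e3 q6395 (flp_d L137426) q7892, e3 q6396 L137459 q7894, e3 q6397 (flp_d L124657) q7402, e3 q6398 (flp_d L591450) q7423, e3 q6399 (flp_d L94993) q5118, trivial⟩ (by decide +kernel)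

theorem ce_d_100 : ∀ r, r < 64 → sm gd (Qf (6400 + r)) = Qf (tab Gen.d (6400 + r)) :=
  edges_tab (sm gd) Qf (tab Gen.d) 6400 [(6400, 7895), (6401, 7427), (6402, 5123), (6403, 7898), (6404, 5124), (6405, 5126), (6406, 7900), (6407, 6407), (6408, 5129), (6409, 7904), (6410, 7474), (6411, 5167), (6412, 5168), (6413, 5134), (6414, 7911), (6415, 7908), (6416, 7909), (6417, 7913), (6418, 5135), (6419, 7516), (6420, 5140), (6421, 7914), (6422, 5150), (6423, 7857), (6424, 7916), (6425, 7917), (6426, 5156), (6427, 5157), (6428, 7923), (6429, 5155), (6430, 7926), (6431, 5158), (6432, 5162), (6433, 5160), (6434, 7927), (6435, 7928), (6436, 6436), (6437, 5165), (6438, 6929), (6439, 7933), (6440, 7934), (6441, 5181), (6442, 5180), (6443, 5169), (6444, 6923), (6445, 5174), (6446, 5175), (6447, 7942), (6448, 5173), (6449, 7945), (6450, 7939), (6451, 7946), (6452, 7947), (6453, 5176), (6454, 5183), (6455, 7948), (6456, 7949), (6457, 6457), (6458, 6458), (6459, 6459), (6460, 5282), (6461, 5190), (6462, 6462), (6463, 7952)]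
    ⟨e3 q6400 (flp_d L137773) q7895, e3 q6401 (flp_d L124886) q7427, e3 q6402 L95144 q5123, e3 q6403 L137994 q7898, e3 q6404 (flp_d L95171) q5124, e3 q6405 (flp_d L95189) q5126, e3 q6406 (flp_d L138047) q7900, e3 q6407 L95221 q6407, e3 q6408 (flp_d L95442) q5129, e3 q6409 (flp_d L138425) q7904, e3 q6410 (flp_d L125321) q7474, e3 q6411 L95529 q5167, e3 q6412 L95540 q5168, e3 q6413 L95605 q5134, e3 q6414 L138663 q7911, e3 q6415 (flp_d L138643) q7908, e3 q6416 (flp_d L138652) q7909, e3 q6417 L138701 q7913, e3 q6418 (flp_d L95639) q5135, e3 q6419 L554203 q7516, e3 q6420 (flp_d L95729) q5140, e3 q6421 (flp_d L138719) q7914, e3 q6422 L95949 q5150, e3 q6423 L590586 q7857, e3 q6424 (flp_d L139146) q7916, e3 q6425 (flp_d L139155) q7917, e3 q6426 L96128 q5156, e3 q6427 L96135 q5157, e3 q6428 L139404 q7923, e3 q6429 (flp_d L96144) q5155, e3 q6430 (flp_d L139426) q7926, e3 q6431 (flp_d L96179) q5158, e3 q6432 L96196 q5162, e3 q6433 (flp_d L96205) q5160, e3 q6434 (flp_d L139477) q7927, e3 q6435 (flp_d L139489) q7928, e3 q6436 L96258 q6436,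 e3 q6437 L96412 q5165, e3 q6438 L561739 q6929, e3 q6439 (flp_d L139740) q7933, e3 q6440 (flp_d L139749) q7934, e3 q6441 L624523 q5181, e3 q6442 (flp_d L624488) q5180, e3 q6443 (flp_d L96530) q5169, e3 q6444 (flp_d L533179) q6923, e3 q6445 L96551 q5174, e3 q6446 L96559 q5175, e3 q6447 L139957 q7942, e3 q6448 (flp_d L96569) q5173, e3 q6449 (flp_d L139986) q7945, e3 q6450 (flp_d L139939) q7939, e3 q6451 L140012 q7946, e3 q6452 L140019 q7947, e3 q6453 (flp_d L96614) q5176, e3 q6454 L96625 q5183, e3 q6455 (flp_d L140031) q7948, e3 q6456 (flp_d L140043) q7949, e3 q6457 L96743 q6457, e3 q6458 L96761 q6458, e3 q6459 L96764 q6459, e3 q6460 L96783 q5282, e3 q6461 L96790 q5190, e3 q6462 L96799 q6462, e3 q6463 (flp_d L140229) q7952, trivial⟩ (by decide +kernel)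

theorem ce_d_101 : ∀ r, r < 64 → sm gd (Qf (6464 + r)) = Qf (tab Gen.d (6464 + r)) :=
  edges_tab (sm gd) Qf (tab Gen.d) 6464 [(6464, 7953), (6465, 5194), (6466, 5195), (6467, 6467), (6468, 6468), (6469, 7958), (6470, 6470), (6471, 5201), (6472, 6472), (6473, 6473), (6474, 6474), (6475, 5202), (6476, 6559), (6477, 6588), (6478, 5207), (6479, 7967), (6480, 5208), (6481, 5210), (6482, 7969), (6483, 5242), (6484, 5214), (6485, 7135), (6486, 6566), (6487, 5219), (6488, 7974), (6489, 5218), (6490, 7978), (6491, 5220), (6492, 5226), (6493, 5224), (6494, 5222), (6495, 7979), (6496, 7981), (6497, 5251), (6498, 6498), (6499, 6499), (6500, 6500), (6501, 5255), (6502, 5233), (6503, 7115), (6504, 6553), (6505, 5237), (6506, 7990), (6507, 5236), (6508, 7994), (6509, 5238), (6510, 5243), (6511, 5241), (6512, 7995), (6513, 7996), (6514, 7972), (6515, 7136), (6516, 6516), (6517, 6517), (6518, 5247), (6519, 5250), (6520, 7998), (6521, 7985), (6522, 7999), (6523, 8001), (6524, 5257), (6525, 8003), (6526, 5260), (6527, 6527)]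
    ⟨e3 q6464 (flp_d L140237) q7953, e3 q6465 L96825 q5194, e3 q6466 L96832 q5195, e3 q6467 L96841 q6467, e3 q6468 L96846 q6468, e3 q6469 (flp_d L140277) q7958, e3 q6470 L96873 q6470, e3 q6471 L96877 q5201, e3 q6472 L96887 q6472, e3 q6473 L96894 q6473, e3 q6474 L96898 q6474, e3 q6475 (flp_d L96963) q5202, e3 q6476 L643150 q6559, e3 q6477 (flp_d L645259) q6588, e3 q6478 L97132 q5207, e3 q6479 L140710 q7967, e3 q6480 (flp_d L97171) q5208, e3 q6481 (flp_d L97200) q5210, e3 q6482 (flp_d L140787) q7969, e3 q6483 L97232 q5242, e3 q6484 L97520 q5214, e3 q6485 (flp_d L566976) q7135, e3 q6486 (flp_d L643628) q6566, e3 q6487 L97698 q5219, e3 q6488 L141485 q7974, e3 q6489 (flp_d L97709) q5218, e3 q6490 (flp_d L141516) q7978, e3 q6491 (flp_d L97733) q5220, e3 q6492 L97754 q5226, e3 q6493 L97759 q5224, e3 q6494 (flp_d L97768) q5222, e3 q6495 (flp_d L141549) q7979, e3 q6496 (flp_d L141581) q7981, e3 q6497 L97818 q5251, e3 q6498 L98136 q6498, e3 q6499 L98148 q6499, e3 q6500 L98166 q6500, e3 q6501 L98187 q5255, e3 q6502 L98308 q5233, e3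 q6503 (flp_d L567498) q7115, e3 q6504 (flp_d L643540) q6553, e3 q6505 L98482 q5237, e3 q6506 L142566 q7990, e3 q6507 (flp_d L98494) q5236, e3 q6508 (flp_d L142601) q7994, e3 q6509 (flp_d L98518) q5238, e3 q6510 L98539 q5243, e3 q6511 L98546 q5241, e3 q6512 (flp_d L142634) q7995, e3 q6513 (flp_d L142669) q7996, e3 q6514 (flp_d L140855) q7972, e3 q6515 (flp_d L566924) q7136, e3 q6516 L98984 q6516, e3 q6517 L98991 q6517, e3 q6518 L98995 q5247, e3 q6519 L99020 q5250, e3 q6520 (flp_d L143332) q7998, e3 q6521 (flp_d L141652) q7985, e3 q6522 L143623 q7999, e3 q6523 L143656 q8001, e3 q6524 (flp_d L99285) q5257, e3 q6525 L143728 q8003, e3 q6526 (flp_d L99434) q5260, e3 q6527 L99597 q6527, trivial⟩ (by decide +kernel)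

theorem ce_d_102 : ∀ r, r < 64 → sm gd (Qf (6528 + r)) = Qf (tab Gen.d (6528 + r)) :=
  edges_tab (sm gd) Qf (tab Gen.d) 6528 [(6528, 5264), (6529, 6529), (6530, 5267), (6531, 6531), (6532, 7037), (6533, 5272), (6534, 5285), (6535, 5284), (6536, 7950), (6537, 5286), (6538, 6538), (6539, 6539), (6540, 6540), (6541, 5692), (6542, 5300), (6543, 6543), (6544, 6294), (6545, 5291), (6546, 5707), (6547, 5305), (6548, 6299), (6549, 5296), (6550, 5731), (6551, 5312), (6552, 6552), (6553, 6504), (6554, 5299), (6555, 5691), (6556, 5703), (6557, 6306), (6558, 5302), (6559, 6476), (6560, 5304), (6561, 5363), (6562, 5706), (6563, 5726), (6564, 6317), (6565, 5308), (6566, 6486), (6567, 5326), (6568, 5311), (6569, 5380), (6570, 5730), (6571, 5313), (6572, 6139), (6573, 6573), (6574, 5315), (6575, 5393), (6576, 6129), (6577, 5756), (6578, 5318), (6579, 5397), (6580, 5398), (6581, 5783), (6582, 6582), (6583, 5321), (6584, 5411), (6585, 6178), (6586, 6586), (6587, 8019), (6588, 6477), (6589, 5325), (6590, 5417), (6591, 5418)]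
    ⟨e3 q6528 L99639 q5264, e3 q6529 L99941 q6529, e3 q6530 L100266 q5267, e3 q6531 L100707 q6531, e3 q6532 (flp_d L561590) q7037, e3 q6533 L108510 q5272, e3 q6534 (flp_d L616849) q5285, e3 q6535 L616834 q5284, e3 q6536 (flp_d L140215) q7950, e3 q6537 (flp_d L113545) q5286, e3 q6538 L114586 q6538, e3 q6539 L114595 q6539, e3 q6540 L114598 q6540, e3 q6541 (flp_d L639307) q5692, e3 q6542 L114619 q5300, e3 q6543 L114627 q6543, e3 q6544 L639556 q6294, e3 q6545 (flp_d L114643) q5291, e3 q6546 L643679 q5707, e3 q6547 L114666 q5305, e3 q6548 (flp_d L639635) q6299, e3 q6549 L114700 q5296, e3 q6550 L643637 q5731, e3 q6551 L114724 q5312, e3 q6552 L114733 q6552, e3 q6553 L643540 q6504, e3 q6554 (flp_d L114753) q5299, e3 q6555 (flp_d L643473) q5691, e3 q6556 (flp_d L643742) q5703, e3 q6557 L642093 q6306, e3 q6558 (flp_d L114792) q5302, e3 q6559 (flp_d L643150) q6476, e3 q6560 L114815 q5304, e3 q6561 L114826 q5363, e3 q6562 L643950 q5706, e3 q6563 L643812 q5726, e3 q6564 L642271 q6317, e3 q6565 L114878 q5308, e3 q6566 L643628 q6486, e3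 q6567 L114904 q5326, e3 q6568 L114910 q5311, e3 q6569 L114919 q5380, e3 q6570 L643874 q5730, e3 q6571 (flp_d L114940) q5313, e3 q6572 L645284 q6139, e3 q6573 L114969 q6573, e3 q6574 L114974 q5315, e3 q6575 L114987 q5393, e3 q6576 L643977 q6129, e3 q6577 (flp_d L643128) q5756, e3 q6578 L115010 q5318, e3 q6579 L115022 q5397, e3 q6580 L115028 q5398, e3 q6581 (flp_d L643919) q5783, e3 q6582 L115054 q6582, e3 q6583 L115060 q5321, e3 q6584 L115071 q5411, e3 q6585 (flp_d L645365) q6178, e3 q6586 L115089 q6586, e3 q6587 L166725 q8019, e3 q6588 L645259 q6477, e3 q6589 L115109 q5325, e3 q6590 L115120 q5417, e3 q6591 L115126 q5418, trivial⟩ (by decide +kernel)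

theorem ce_d_103 : ∀ r, r < 64 → sm gd (Qf (6592 + r)) = Qf (tab Gen.d (6592 + r)) :=
  edges_tab (sm gd) Qf (tab Gen.d) 6592 [(6592, 6163), (6593, 5787), (6594, 8025), (6595, 5330), (6596, 5423), (6597, 5424), (6598, 6598), (6599, 6599), (6600, 8031), (6601, 6601), (6602, 5334), (6603, 5442), (6604, 5443), (6605, 6177), (6606, 6264), (6607, 6607), (6608, 8038), (6609, 5336), (6610, 8041), (6611, 6611), (6612, 8043), (6613, 5341), (6614, 5453), (6615, 5454), (6616, 6616), (6617, 6617), (6618, 8049), (6619, 5343), (6620, 8052), (6621, 5460), (6622, 5461), (6623, 8054), (6624, 5348), (6625, 8056), (6626, 6626), (6627, 8060), (6628, 5351), (6629, 8062), (6630, 5353), (6631, 5695), (6632, 5711), (6633, 6633), (6634, 5355), (6635, 8065), (6636, 5357), (6637, 6637), (6638, 8069), (6639, 6639), (6640, 5359), (6641, 8073), (6642, 6642), (6643, 5361), (6644, 6303), (6645, 8076), (6646, 5395), (6647, 5364), (6648, 5712), (6649, 5702), (6650, 5738), (6651, 6651), (6652, 5367), (6653, 6653), (6654, 8082), (6655, 5404)]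
    ⟨e3 q6592 L643898 q6163, e3 q6593 (flp_d L643049) q5787, e3 q6594 L166807 q8025, e3 q6595 L115160 q5330, e3 q6596 L115173 q5423, e3 q6597 L115179 q5424, e3 q6598 L115186 q6598, e3 q6599 L115198 q6599, e3 q6600 L166885 q8031, e3 q6601 L115216 q6601, e3 q6602 L115223 q5334, e3 q6603 L115234 q5442, e3 q6604 L115241 q5443, e3 q6605 L640666 q6177, e3 q6606 (flp_d L647482) q6264, e3 q6607 L115270 q6607, e3 q6608 L166989 q8038, e3 q6609 (flp_d L115280) q5336, e3 q6610 (flp_d L167020) q8041, e3 q6611 L115299 q6611, e3 q6612 L167047 q8043, e3 q6613 L115315 q5341, e3 q6614 L115325 q5453, e3 q6615 L115331 q5454, e3 q6616 L115341 q6616, e3 q6617 L115348 q6617, e3 q6618 L167107 q8049, e3 q6619 (flp_d L115361) q5343, e3 q6620 (flp_d L167136) q8052, e3 q6621 L115385 q5460, e3 q6622 L115391 q5461, e3 q6623 L167164 q8054, e3 q6624 (flp_d L115420) q5348, e3 q6625 (flp_d L167189) q8056, e3 q6626 L115445 q6626, e3 q6627 L167227 q8060, e3 q6628 (flp_d L115461) q5351, e3 q6629 (flp_d L167258) q8062, e3 q6630 L115481 q5353, e3 q6631 (flp_d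 L643393) q5695, e3 q6632 L643770 q5711, e3 q6633 L115505 q6633, e3 q6634 (flp_d L115521) q5355, e3 q6635 (flp_d L167357) q8065, e3 q6636 L115547 q5357, e3 q6637 L115561 q6637, e3 q6638 (flp_d L167398) q8069, e3 q6639 L115576 q6639, e3 q6640 (flp_d L115584) q5359, e3 q6641 (flp_d L167448) q8073, e3 q6642 L115610 q6642, e3 q6643 L115615 q5361, e3 q6644 L639963 q6303, e3 q6645 (flp_d L167500) q8076, e3 q6646 L115640 q5395, e3 q6647 L115648 q5364, e3 q6648 L643197 q5712, e3 q6649 L643345 q5702, e3 q6650 (flp_d L644489) q5738, e3 q6651 L115704 q6651, e3 q6652 L115709 q5367, e3 q6653 L115720 q6653, e3 q6654 (flp_d L167637) q8082, e3 q6655 L115738 q5404, trivial⟩ (by decide +kernel)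

theorem ce_d_104 : ∀ r, r < 64 → sm gd (Qf (6656 + r)) = Qf (tab Gen.d (6656 + r)) :=
  edges_tab (sm gd) Qf (tab Gen.d) 6656 [(6656, 5370), (6657, 6657), (6658, 6658), (6659, 8087), (6660, 5373), (6661, 8091), (6662, 6662), (6663, 5415), (6664, 5377), (6665, 6312), (6666, 8096), (6667, 5420), (6668, 8101), (6669, 5382), (6670, 5740), (6671, 5724), (6672, 6672), (6673, 5384), (6674, 6674), (6675, 8106), (6676, 8068), (6677, 5387), (6678, 6678), (6679, 6679), (6680, 8112), (6681, 6681), (6682, 5390), (6683, 8008), (6684, 8119), (6685, 6685), (6686, 8125), (6687, 8075), (6688, 5394), (6689, 8010), (6690, 8011), (6691, 8129), (6692, 8078), (6693, 8135), (6694, 5399), (6695, 8013), (6696, 8014), (6697, 6697), (6698, 8142), (6699, 8081), (6700, 5403), (6701, 6701), (6702, 6702), (6703, 8146), (6704, 8085), (6705, 8152), (6706, 5408), (6707, 6707), (6708, 6708), (6709, 6709), (6710, 6710), (6711, 8161), (6712, 8090), (6713, 5412), (6714, 8016), (6715, 8017), (6716, 8165), (6717, 8168), (6718, 6718), (6719, 8173)]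
    ⟨e3 q6656 L115746 q5370, e3 q6657 L115757 q6657, e3 q6658 L115762 q6658, e3 q6659 (flp_d L167692) q8087, e3 q6660 L115792 q5373, e3 q6661 (flp_d L167752) q8091, e3 q6662 L115816 q6662, e3 q6663 L115829 q5415, e3 q6664 L115837 q5377, e3 q6665 (flp_d L644670) q6312, e3 q6666 (flp_d L167833) q8096, e3 q6667 L115865 q5420, e3 q6668 L167874 q8101, e3 q6669 L115881 q5382, e3 q6670 L644633 q5740, e3 q6671 (flp_d L632977) q5724, e3 q6672 L115931 q6672, e3 q6673 L115936 q5384, e3 q6674 L115951 q6674, e3 q6675 (flp_d L167983) q8106, e3 q6676 (flp_d L167390) q8068, e3 q6677 L115977 q5387, e3 q6678 L115991 q6678, e3 q6679 L115997 q6679, e3 q6680 (flp_d L168045) q8112, e3 q6681 L116025 q6681, e3 q6682 L116031 q5390, e3 q6683 (flp_d L166504) q8008, e3 q6684 (flp_d L168118) q8119, e3 q6685 L116058 q6685, e3 q6686 L168177 q8125, e3 q6687 (flp_d L167492) q8075, e3 q6688 L116084 q5394, e3 q6689 (flp_d L166558) q8010, e3 q6690 (flp_d L166564) q8011, e3 q6691 (flp_d L168216) q8129, e3 q6692 (flp_d L167531) q8078, e3 q6693 L168262 q8135,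 e3 q6694 L116135 q5399, e3 q6695 (flp_d L166615) q8013, e3 q6696 (flp_d L166621) q8014, e3 q6697 L116204 q6697, e3 q6698 L168409 q8142, e3 q6699 (flp_d L167629) q8081, e3 q6700 L116229 q5403, e3 q6701 L116241 q6701, e3 q6702 L116246 q6702, e3 q6703 (flp_d L168449) q8146, e3 q6704 (flp_d L167674) q8085, e3 q6705 L168502 q8152, e3 q6706 L116286 q5408, e3 q6707 L116301 q6707, e3 q6708 L116307 q6708, e3 q6709 L116314 q6709, e3 q6710 L116328 q6710, e3 q6711 L168585 q8161, e3 q6712 (flp_d L167743) q8090, e3 q6713 L116351 q5412, e3 q6714 (flp_d L166678) q8016, e3 q6715 (flp_d L166685) q8017, e3 q6716 (flp_d L168623) q8165, e3 q6717 L168643 q8168, e3 q6718 L116393 q6718, e3 q6719 L168687 q8173, trivial⟩ (by decide +kernel)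

theorem ce_d_105 : ∀ r, r < 64 → sm gd (Qf (6720 + r)) = Qf (tab Gen.d (6720 + r)) :=
  edges_tab (sm gd) Qf (tab Gen.d) 6720 [(6720, 5414), (6721, 8176), (6722, 8094), (6723, 8180), (6724, 5419), (6725, 8022), (6726, 8023), (6727, 8098), (6728, 8099), (6729, 8187), (6730, 5421), (6731, 8190), (6732, 8027), (6733, 8028), (6734, 8192), (6735, 6735), (6736, 8197), (6737, 5426), (6738, 8199), (6739, 6739), (6740, 8203), (6741, 5431), (6742, 6742), (6743, 6743), (6744, 6744), (6745, 6745), (6746, 8210), (6747, 5433), (6748, 8213), (6749, 6749), (6750, 6750), (6751, 6751), (6752, 8218), (6753, 8220), (6754, 6754), (6755, 8225), (6756, 5439), (6757, 8228), (6758, 6758), (6759, 8232), (6760, 5444), (6761, 8034), (6762, 8035), (6763, 5445), (6764, 8236), (6765, 8241), (6766, 6766), (6767, 8244), (6768, 5447), (6769, 8247), (6770, 5865), (6771, 5449), (6772, 6772), (6773, 6773), (6774, 8254), (6775, 5451), (6776, 8257), (6777, 8045), (6778, 8046), (6779, 6779), (6780, 8261), (6781, 8263), (6782, 5457), (6783, 8266)]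
    ⟨e3 q6720 (flp_d L116404) q5414, e3 q6721 (flp_d L168715) q8176, e3 q6722 (flp_d L167817) q8094, e3 q6723 L168741 q8180, e3 q6724 L116439 q5419, e3 q6725 (flp_d L166773) q8022, e3 q6726 (flp_d L166779) q8023, e3 q6727 (flp_d L167853) q8098, e3 q6728 (flp_d L167862) q8099, e3 q6729 L168800 q8187, e3 q6730 (flp_d L116482) q5421, e3 q6731 (flp_d L168824) q8190, e3 q6732 (flp_d L166829) q8027, e3 q6733 (flp_d L166835) q8028, e3 q6734 L168954 q8192, e3 q6735 L116612 q6735, e3 q6736 L169004 q8197, e3 q6737 (flp_d L116624) q5426, e3 q6738 (flp_d L169038) q8199, e3 q6739 L116646 q6739, e3 q6740 L169068 q8203, e3 q6741 L116664 q5431, e3 q6742 L116675 q6742, e3 q6743 L116680 q6743, e3 q6744 L116691 q6744, e3 q6745 L116701 q6745, e3 q6746 L169134 q8210, e3 q6747 (flp_d L116716) q5433, e3 q6748 (flp_d L169165) q8213, e3 q6749 L116744 q6749, e3 q6750 L116750 q6750, e3 q6751 L116762 q6751, e3 q6752 L169210 q8218, e3 q6753 L169228 q8220, e3 q6754 L116789 q6754, e3 q6755 L169272 q8225, e3 q6756 (flp_d L116799) q5439, e3 q6757 (flp_d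 L169301) q8228, e3 q6758 L116819 q6758, e3 q6759 L169330 q8232, e3 q6760 L116837 q5444, e3 q6761 (flp_d L166936) q8034, e3 q6762 (flp_d L166943) q8035, e3 q6763 (flp_d L116855) q5445, e3 q6764 (flp_d L169369) q8236, e3 q6765 L169408 q8241, e3 q6766 L116889 q6766, e3 q6767 L169435 q8244, e3 q6768 (flp_d L116899) q5447, e3 q6769 (flp_d L169460) q8247, e3 q6770 L116922 q5865, e3 q6771 L116928 q5449, e3 q6772 L116935 q6772, e3 q6773 L116942 q6773, e3 q6774 L169512 q8254, e3 q6775 (flp_d L116954) q5451, e3 q6776 (flp_d L169537) q8257, e3 q6777 (flp_d L167072) q8045, e3 q6778 (flp_d L167078) q8046, e3 q6779 L116989 q6779, e3 q6780 L169567 q8261, e3 q6781 L169584 q8263, e3 q6782 (flp_d L117011) q5457, e3 q6783 (flp_d L169612) q8266, trivial⟩ (by decide +kernel)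

theorem ce_d_106 : ∀ r, r < 64 → sm gd (Qf (6784 + r)) = Qf (tab Gen.d (6784 + r)) :=
  edges_tab (sm gd) Qf (tab Gen.d) 6784 [(6784, 5622), (6785, 5459), (6786, 8053), (6787, 5462), (6788, 8271), (6789, 6789), (6790, 5464), (6791, 5473), (6792, 8277), (6793, 6793), (6794, 5467), (6795, 5477), (6796, 5478), (6797, 8283), (6798, 6798), (6799, 5470), (6800, 8272), (6801, 8290), (6802, 6802), (6803, 8297), (6804, 6804), (6805, 5474), (6806, 8278), (6807, 8279), (6808, 8301), (6809, 6809), (6810, 8307), (6811, 5479), (6812, 8284), (6813, 8285), (6814, 6814), (6815, 6815), (6816, 8316), (6817, 6817), (6818, 5483), (6819, 6819), (6820, 6820), (6821, 8320), (6822, 8323), (6823, 6823), (6824, 8328), (6825, 5485), (6826, 8331), (6827, 6827), (6828, 8335), (6829, 5490), (6830, 6830), (6831, 6831), (6832, 6832), (6833, 6833), (6834, 8342), (6835, 5492), (6836, 8345), (6837, 6837), (6838, 6838), (6839, 6839), (6840, 5497), (6841, 5509), (6842, 8351), (6843, 6843), (6844, 8358), (6845, 6845), (6846, 5501), (6847, 5515)]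
    ⟨e3 q6784 L117033 q5622, e3 q6785 L117038 q5459, e3 q6786 (flp_d L167146) q8053, e3 q6787 (flp_d L117051) q5462, e3 q6788 (flp_d L169656) q8271, e3 q6789 L117081 q6789, e3 q6790 L117086 q5464, e3 q6791 L117099 q5473, e3 q6792 (flp_d L169714) q8277, e3 q6793 L117118 q6793, e3 q6794 L117124 q5467, e3 q6795 L117136 q5477, e3 q6796 L117142 q5478, e3 q6797 (flp_d L169772) q8283, e3 q6798 L117172 q6798, e3 q6799 L117178 q5470, e3 q6800 (flp_d L169670) q8272, e3 q6801 (flp_d L169848) q8290, e3 q6802 L117208 q6802, e3 q6803 L169912 q8297, e3 q6804 L117230 q6804, e3 q6805 L117237 q5474, e3 q6806 (flp_d L169726) q8278, e3 q6807 (flp_d L169732) q8279, e3 q6808 (flp_d L169952) q8301, e3 q6809 L117275 q6809, e3 q6810 L170002 q8307, e3 q6811 L117292 q5479, e3 q6812 (flp_d L169785) q8284, e3 q6813 (flp_d L169791) q8285, e3 q6814 L117316 q6814, e3 q6815 L117329 q6815, e3 q6816 L170083 q8316, e3 q6817 L117350 q6817, e3 q6818 L117358 q5483, e3 q6819 L117370 q6819, e3 q6820 L117376 q6820, e3 q6821 (flp_d L170127) q8320, e3 q6822 L170151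 q8323, e3 q6823 L117405 q6823, e3 q6824 L170190 q8328, e3 q6825 (flp_d L117415) q5485, e3 q6826 (flp_d L170218) q8331, e3 q6827 L117435 q6827, e3 q6828 L170248 q8335, e3 q6829 L117452 q5490, e3 q6830 L117464 q6830, e3 q6831 L117469 q6831, e3 q6832 L117477 q6832, e3 q6833 L117484 q6833, e3 q6834 L170310 q8342, e3 q6835 (flp_d L117496) q5492, e3 q6836 (flp_d L170336) q8345, e3 q6837 L117522 q6837, e3 q6838 L117526 q6838, e3 q6839 L117538 q6839, e3 q6840 L117544 q5497, e3 q6841 L117555 q5509, e3 q6842 (flp_d L170391) q8351, e3 q6843 L117574 q6843, e3 q6844 L170451 q8358, e3 q6845 L117589 q6845, e3 q6846 L117595 q5501, e3 q6847 L117606 q5515, trivial⟩ (by decide +kernel)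

theorem ce_d_107 : ∀ r, r < 64 → sm gd (Qf (6848 + r)) = Qf (tab Gen.d (6848 + r)) :=
  edges_tab (sm gd) Qf (tab Gen.d) 6848 [(6848, 5516), (6849, 8362), (6850, 6850), (6851, 8368), (6852, 5506), (6853, 5521), (6854, 5522), (6855, 6855), (6856, 6856), (6857, 8377), (6858, 6858), (6859, 5510), (6860, 8352), (6861, 8353), (6862, 8381), (6863, 8384), (6864, 6864), (6865, 8389), (6866, 5512), (6867, 8392), (6868, 6868), (6869, 8396), (6870, 5517), (6871, 8363), (6872, 8364), (6873, 6873), (6874, 6874), (6875, 8403), (6876, 5519), (6877, 8406), (6878, 8370), (6879, 8371), (6880, 6880), (6881, 8391), (6882, 8412), (6883, 6883), (6884, 8417), (6885, 5525), (6886, 8419), (6887, 6887), (6888, 8423), (6889, 5530), (6890, 6890), (6891, 6891), (6892, 5531), (6893, 8427), (6894, 8432), (6895, 6895), (6896, 8435), (6897, 5533), (6898, 8438), (6899, 5965), (6900, 5535), (6901, 6901), (6902, 6902), (6903, 8445), (6904, 5537), (6905, 8448), (6906, 6906), (6907, 6907), (6908, 6908), (6909, 8452), (6910, 8454), (6911, 5543)]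
    ⟨e3 q6848 L117612 q5516, e3 q6849 (flp_d L170487) q8362, e3 q6850 L117633 q6850, e3 q6851 L170536 q8368, e3 q6852 L117648 q5506, e3 q6853 L117661 q5521, e3 q6854 L117667 q5522, e3 q6855 L117674 q6855, e3 q6856 L117688 q6856, e3 q6857 L170618 q8377, e3 q6858 L117708 q6858, e3 q6859 L117716 q5510, e3 q6860 (flp_d L170403) q8352, e3 q6861 (flp_d L170410) q8353, e3 q6862 (flp_d L170661) q8381, e3 q6863 L170685 q8384, e3 q6864 L117763 q6864, e3 q6865 L170726 q8389, e3 q6866 (flp_d L117774) q5512, e3 q6867 (flp_d L170748) q8392, e3 q6868 L117793 q6868, e3 q6869 L170780 q8396, e3 q6870 L117810 q5517, e3 q6871 (flp_d L170500) q8363, e3 q6872 (flp_d L170506) q8364, e3 q6873 L117835 q6873, e3 q6874 L117845 q6874, e3 q6875 L170841 q8403, e3 q6876 (flp_d L117857) q5519, e3 q6877 (flp_d L170865) q8406, e3 q6878 (flp_d L170559) q8370, e3 q6879 (flp_d L170565) q8371, e3 q6880 L117893 q6880, e3 q6881 (flp_d L553593) q8391, e3 q6882 L170916 q8412, e3 q6883 L117917 q6883, e3 q6884 L170961 q8417, e3 q6885 (flp_d L117928) q5525, e3 q6886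 (flp_d L170992) q8419, e3 q6887 L117951 q6887, e3 q6888 L171023 q8423, e3 q6889 L117968 q5530, e3 q6890 L117981 q6890, e3 q6891 L117987 q6891, e3 q6892 (flp_d L117990) q5531, e3 q6893 (flp_d L171064) q8427, e3 q6894 L171095 q8432, e3 q6895 L118014 q6895, e3 q6896 L171115 q8435, e3 q6897 (flp_d L118025) q5533, e3 q6898 (flp_d L171138) q8438, e3 q6899 L118043 q5965, e3 q6900 L118048 q5535, e3 q6901 L118056 q6901, e3 q6902 L118065 q6902, e3 q6903 L171190 q8445, e3 q6904 (flp_d L118076) q5537, e3 q6905 (flp_d L171216) q8448, e3 q6906 L118100 q6906, e3 q6907 L118105 q6907, e3 q6908 L118113 q6908, e3 q6909 L171247 q8452, e3 q6910 L171264 q8454, e3 q6911 (flp_d L118134) q5543, trivial⟩ (by decide +kernel)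

theorem ce_d_108 : ∀ r, r < 64 → sm gd (Qf (6912 + r)) = Qf (tab Gen.d (6912 + r)) :=
  edges_tab (sm gd) Qf (tab Gen.d) 6912 [(6912, 8457), (6913, 8189), (6914, 5545), (6915, 6915), (6916, 6916), (6917, 6917), (6918, 8465), (6919, 5551), (6920, 5569), (6921, 5570), (6922, 8467), (6923, 6444), (6924, 6924), (6925, 8474), (6926, 5553), (6927, 8477), (6928, 5629), (6929, 6438), (6930, 5558), (6931, 5580), (6932, 5581), (6933, 5631), (6934, 5632), (6935, 8487), (6936, 5560), (6937, 8490), (6938, 5587), (6939, 5588), (6940, 6940), (6941, 8227), (6942, 6073), (6943, 6943), (6944, 8500), (6945, 5566), (6946, 8502), (6947, 5636), (6948, 6066), (6949, 5571), (6950, 8468), (6951, 8469), (6952, 5572), (6953, 8509), (6954, 8514), (6955, 6955), (6956, 8517), (6957, 5574), (6958, 8520), (6959, 5590), (6960, 5576), (6961, 5641), (6962, 5642), (6963, 8527), (6964, 5578), (6965, 8530), (6966, 8482), (6967, 8483), (6968, 5646), (6969, 8534), (6970, 8536), (6971, 5584), (6972, 8539), (6973, 8212), (6974, 5586), (6975, 8491)]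
    ⟨e3 q6912 (flp_d L171288) q8457, e3 q6913 (flp_d L168819) q8189, e3 q6914 L118158 q5545, e3 q6915 L118166 q6915, e3 q6916 L118173 q6916, e3 q6917 L118185 q6917, e3 q6918 L171357 q8465, e3 q6919 L118211 q5551, e3 q6920 L118222 q5569, e3 q6921 L118229 q5570, e3 q6922 (flp_d L171398) q8467, e3 q6923 L533179 q6444, e3 q6924 L118259 q6924, e3 q6925 L171463 q8474, e3 q6926 (flp_d L118269) q5553, e3 q6927 (flp_d L171494) q8477, e3 q6928 L118288 q5629, e3 q6929 (flp_d L561739) q6438, e3 q6930 L118305 q5558, e3 q6931 L118315 q5580, e3 q6932 L118321 q5581, e3 q6933 L118331 q5631, e3 q6934 L118339 q5632, e3 q6935 L171585 q8487, e3 q6936 (flp_d L118353) q5560, e3 q6937 (flp_d L171616) q8490, e3 q6938 L118378 q5587, e3 q6939 L118384 q5588, e3 q6940 L118394 q6940, e3 q6941 (flp_d L554517) q8227, e3 q6942 L554383 q6073, e3 q6943 L118423 q6943, e3 q6944 L171725 q8500, e3 q6945 (flp_d L118435) q5566, e3 q6946 (flp_d L171756) q8502, e3 q6947 L118457 q5636, e3 q6948 L561923 q6066, e3 q6949 L118478 q5571, e3 q6950 (flp_d L171409) q8468,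 e3 q6951 (flp_d L171416) q8469, e3 q6952 (flp_d L118500) q5572, e3 q6953 (flp_d L171834) q8509, e3 q6954 L171872 q8514, e3 q6955 L118531 q6955, e3 q6956 L171895 q8517, e3 q6957 (flp_d L118541) q5574, e3 q6958 (flp_d L171914) q8520, e3 q6959 L553621 q5590, e3 q6960 L118564 q5576, e3 q6961 L118571 q5641, e3 q6962 L118581 q5642, e3 q6963 L171965 q8527, e3 q6964 (flp_d L118596) q5578, e3 q6965 (flp_d L171994) q8530, e3 q6966 (flp_d L171549) q8482, e3 q6967 (flp_d L171555) q8483, e3 q6968 L118634 q5646, e3 q6969 L172025 q8534, e3 q6970 L172043 q8536, e3 q6971 (flp_d L118655) q5584, e3 q6972 (flp_d L172071) q8539, e3 q6973 (flp_d L169160) q8212, e3 q6974 L118682 q5586, e3 q6975 (flp_d L171626) q8491, trivial⟩ (by decide +kernel)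

theorem ce_d_109 : ∀ r, r < 64 → sm gd (Qf (6976 + r)) = Qf (tab Gen.d (6976 + r)) :=
  edges_tab (sm gd) Qf (tab Gen.d) 6976 [(6976, 8543), (6977, 6977), (6978, 8521), (6979, 8522), (6980, 5591), (6981, 8549), (6982, 8554), (6983, 6983), (6984, 8557), (6985, 5593), (6986, 8560), (6987, 5595), (6988, 5657), (6989, 5658), (6990, 8565), (6991, 5597), (6992, 8568), (6993, 6993), (6994, 6994), (6995, 5602), (6996, 8573), (6997, 8570), (6998, 8571), (6999, 8578), (7000, 5603), (7001, 8582), (7002, 8583), (7003, 5605), (7004, 8586), (7005, 8581), (7006, 5607), (7007, 6042), (7008, 6043), (7009, 8523), (7010, 5669), (7011, 8595), (7012, 8597), (7013, 5612), (7014, 8600), (7015, 8580), (7016, 5614), (7017, 7017), (7018, 5677), (7019, 8605), (7020, 5618), (7021, 8609), (7022, 5619), (7023, 8611), (7024, 8265), (7025, 5621), (7026, 8267), (7027, 8268), (7028, 8542), (7029, 7029), (7030, 7030), (7031, 8478), (7032, 8479), (7033, 8484), (7034, 8618), (7035, 8619), (7036, 5633), (7037, 6532), (7038, 8503), (7039, 8504)]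
    ⟨e3 q6976 L172100 q8543, e3 q6977 L118708 q6977, e3 q6978 L553602 q8521, e3 q6979 L553685 q8522, e3 q6980 (flp_d L118731) q5591, e3 q6981 (flp_d L172182) q8549, e3 q6982 L172222 q8554, e3 q6983 L118766 q6983, e3 q6984 L172249 q8557, e3 q6985 (flp_d L118776) q5593, e3 q6986 (flp_d L172277) q8560, e3 q6987 L118808 q5595, e3 q6988 L118816 q5657, e3 q6989 L118825 q5658, e3 q6990 L172336 q8565, e3 q6991 (flp_d L118839) q5597, e3 q6992 (flp_d L172370) q8568, e3 q6993 L118868 q6993, e3 q6994 L118874 q6994, e3 q6995 L118881 q5602, e3 q6996 L172408 q8573, e3 q6997 (flp_d L172389) q8570, e3 q6998 (flp_d L172397) q8571, e3 q6999 L172446 q8578, e3 q7000 (flp_d L118913) q5603, e3 q7001 (flp_d L172472) q8582, e3 q7002 L172477 q8583, e3 q7003 (flp_d L118934) q5605, e3 q7004 (flp_d L172500) q8586, e3 q7005 (flp_d L172468) q8581, e3 q7006 L118954 q5607, e3 q7007 L118962 q6042, e3 q7008 L118969 q6043, e3 q7009 (flp_d L171935) q8523, e3 q7010 L118983 q5669, e3 q7011 L172562 q8595, e3 q7012 L172580 q8597, e3 q7013 (flp_d L119004) q5612,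 e3 q7014 (flp_d L172610) q8600, e3 q7015 (flp_d L172463) q8580, e3 q7016 L119033 q5614, e3 q7017 L119043 q7017, e3 q7018 L119050 q5677, e3 q7019 L172651 q8605, e3 q7020 (flp_d L119062) q5618, e3 q7021 (flp_d L172687) q8609, e3 q7022 (flp_d L119078) q5619, e3 q7023 (flp_d L172705) q8611, e3 q7024 (flp_d L169607) q8265, e3 q7025 L119106 q5621, e3 q7026 (flp_d L169618) q8267, e3 q7027 (flp_d L169629) q8268, e3 q7028 (flp_d L172096) q8542, e3 q7029 L119305 q7029, e3 q7030 L119314 q7030, e3 q7031 (flp_d L171501) q8478, e3 q7032 (flp_d L171509) q8479, e3 q7033 (flp_d L171564) q8484, e3 q7034 L173479 q8618, e3 q7035 L173493 q8619, e3 q7036 (flp_d L119625) q5633, e3 q7037 L561590 q6532, e3 q7038 (flp_d L171764) q8503, e3 q7039 (flp_d L171775) q8504, trivial⟩ (by decide +kernel)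

theorem ce_d_110 : ∀ r, r < 64 → sm gd (Qf (7040 + r)) = Qf (tab Gen.d (7040 + r)) :=
  edges_tab (sm gd) Qf (tab Gen.d) 7040 [(7040, 5639), (7041, 5988), (7042, 8623), (7043, 8624), (7044, 8524), (7045, 8630), (7046, 8631), (7047, 5643), (7048, 5983), (7049, 8532), (7050, 8635), (7051, 5647), (7052, 8639), (7053, 5648), (7054, 8641), (7055, 7055), (7056, 5650), (7057, 7057), (7058, 7058), (7059, 5687), (7060, 5655), (7061, 6114), (7062, 8648), (7063, 8649), (7064, 8562), (7065, 8655), (7066, 8656), (7067, 5659), (7068, 6113), (7069, 5664), (7070, 5665), (7071, 8663), (7072, 5663), (7073, 8666), (7074, 8660), (7075, 8669), (7076, 8670), (7077, 5666), (7078, 5674), (7079, 8593), (7080, 8674), (7081, 5670), (7082, 8678), (7083, 5671), (7084, 8680), (7085, 8671), (7086, 5673), (7087, 8672), (7088, 6093), (7089, 6086), (7090, 8687), (7091, 5678), (7092, 8691), (7093, 7093), (7094, 7094), (7095, 5680), (7096, 7096), (7097, 5682), (7098, 7098), (7099, 7099), (7100, 8644), (7101, 7101), (7102, 7102), (7103, 8705)]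
    ⟨e3 q7040 L119874 q5639, e3 q7041 L562060 q5988, e3 q7042 (flp_d L173866) q8623, e3 q7043 (flp_d L173875) q8624, e3 q7044 (flp_d L171942) q8524, e3 q7045 L174069 q8630, e3 q7046 L174088 q8631, e3 q7047 (flp_d L120023) q5643, e3 q7048 (flp_d L553123) q5983, e3 q7049 (flp_d L172011) q8532, e3 q7050 L174151 q8635, e3 q7051 (flp_d L120082) q5647, e3 q7052 (flp_d L174186) q8639, e3 q7053 (flp_d L120100) q5648, e3 q7054 (flp_d L174202) q8641, e3 q7055 L120122 q7055, e3 q7056 L120126 q5650, e3 q7057 L120132 q7057, e3 q7058 L120141 q7058, e3 q7059 L120151 q5687, e3 q7060 L120240 q5655, e3 q7061 (flp_d L546668) q6114, e3 q7062 (flp_d L174400) q8648, e3 q7063 (flp_d L174408) q8649, e3 q7064 (flp_d L172313) q8562, e3 q7065 L174584 q8655, e3 q7066 L174603 q8656, e3 q7067 (flp_d L120380) q5659, e3 q7068 L546605 q6113, e3 q7069 L120429 q5664, e3 q7070 L120436 q5665, e3 q7071 L174693 q8663, e3 q7072 (flp_d L120446) q5663, e3 q7073 (flp_d L174724) q8666, e3 q7074 (flp_d L174675) q8660, e3 q7075 L174748 q8669, e3 q7076 L174765 q8670,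 e3 q7077 (flp_d L120489) q5666, e3 q7078 L120508 q5674, e3 q7079 (flp_d L172549) q8593, e3 q7080 L174900 q8674, e3 q7081 (flp_d L120592) q5670, e3 q7082 (flp_d L174935) q8678, e3 q7083 (flp_d L120609) q5671, e3 q7084 (flp_d L174951) q8680, e3 q7085 (flp_d L174785) q8671, e3 q7086 L120635 q5673, e3 q7087 (flp_d L174803) q8672, e3 q7088 (flp_d L546616) q6093, e3 q7089 L562384 q6086, e3 q7090 L175004 q8687, e3 q7091 (flp_d L120674) q5678, e3 q7092 (flp_d L175040) q8691, e3 q7093 L120697 q7093, e3 q7094 L120703 q7094, e3 q7095 L120708 q5680, e3 q7096 L120721 q7096, e3 q7097 L120725 q5682, e3 q7098 L120733 q7098, e3 q7099 L120742 q7099, e3 q7100 (flp_d L174225) q8644, e3 q7101 L120754 q7101, e3 q7102 L120764 q7102, e3 q7103 L175152 q8705, trivial⟩ (by decide +kernel)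

theorem ce_d_111 : ∀ r, r < 64 → sm gd (Qf (7104 + r)) = Qf (tab Gen.d (7104 + r)) :=
  edges_tab (sm gd) Qf (tab Gen.d) 7104 [(7104, 5693), (7105, 8063), (7106, 5697), (7107, 8706), (7108, 6297), (7109, 5699), (7110, 7110), (7111, 7111), (7112, 7112), (7113, 6300), (7114, 5709), (7115, 6503), (7116, 8077), (7117, 5762), (7118, 8058), (7119, 5715), (7120, 8709), (7121, 6305), (7122, 5773), (7123, 5719), (7124, 7124), (7125, 7125), (7126, 5778), (7127, 8721), (7128, 7128), (7129, 7129), (7130, 5739), (7131, 6308), (7132, 7132), (7133, 5790), (7134, 5735), (7135, 6485), (7136, 6515), (7137, 8097), (7138, 5795), (7139, 8133), (7140, 8072), (7141, 5803), (7142, 5742), (7143, 8723), (7144, 8731), (7145, 6316), (7146, 5813), (7147, 8736), (7148, 5748), (7149, 7149), (7150, 7150), (7151, 5818), (7152, 5819), (7153, 8743), (7154, 5750), (7155, 8746), (7156, 7156), (7157, 7157), (7158, 5764), (7159, 5765), (7160, 6318), (7161, 5900), (7162, 8711), (7163, 5761), (7164, 6131), (7165, 6132), (7166, 8754), (7167, 8079)]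
    ⟨e3 q7104 (flp_d L120894) q5693, e3 q7105 (flp_d L643405) q8063, e3 q7106 (flp_d L120951) q5697, e3 q7107 (flp_d L620845) q8706, e3 q7108 L120975 q6297, e3 q7109 L120981 q5699, e3 q7110 L120991 q7110, e3 q7111 L121007 q7111, e3 q7112 L121023 q7112, e3 q7113 L121192 q6300, e3 q7114 L121198 q5709, e3 q7115 L567498 q6503, e3 q7116 (flp_d L644823) q8077, e3 q7117 L121228 q5762, e3 q7118 (flp_d L643787) q8058, e3 q7119 L121278 q5715, e3 q7120 L621814 q8709, e3 q7121 L121305 q6305, e3 q7122 L121322 q5773, e3 q7123 L121328 q5719, e3 q7124 L121338 q7124, e3 q7125 L121343 q7125, e3 q7126 L121361 q5778, e3 q7127 L176045 q8721, e3 q7128 L121387 q7128, e3 q7129 L121392 q7129, e3 q7130 L121537 q5739, e3 q7131 L121594 q6308, e3 q7132 L436408 q7132, e3 q7133 L121610 q5790, e3 q7134 L121616 q5735, e3 q7135 L566976 q6485, e3 q7136 L566924 q6515, e3 q7137 L644620 q8097, e3 q7138 L121649 q5795, e3 q7139 (flp_d L644301) q8133, e3 q7140 L644285 q8072, e3 q7141 L121712 q5803, e3 q7142 L121719 q5742, e3 q7143 (flp_d L621350) q8723, e3 q7144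 L176605 q8731, e3 q7145 L121758 q6316, e3 q7146 L121785 q5813, e3 q7147 L176694 q8736, e3 q7148 L121799 q5748, e3 q7149 L121809 q7149, e3 q7150 L121814 q7150, e3 q7151 L121821 q5818, e3 q7152 L121828 q5819, e3 q7153 L176747 q8743, e3 q7154 (flp_d L121840) q5750, e3 q7155 (flp_d L176773) q8746, e3 q7156 L121859 q7156, e3 q7157 L121864 q7157, e3 q7158 L121953 q5764, e3 q7159 L121959 q5765, e3 q7160 L122023 q6318, e3 q7161 L575399 q5900, e3 q7162 (flp_d L175789) q8711, e3 q7163 L122050 q5761, e3 q7164 L592704 q6131, e3 q7165 L592174 q6132, e3 q7166 (flp_d L177095) q8754, e3 q7167 (flp_d L644401) q8079, trivial⟩ (by decide +kernel)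

theorem ce_d_112 : ∀ r, r < 64 → sm gd (Qf (7168 + r)) = Qf (tab Gen.d (7168 + r)) :=
  edges_tab (sm gd) Qf (tab Gen.d) 7168 [(7168, 8134), (7169, 5766), (7170, 8012), (7171, 8747), (7172, 6321), (7173, 6322), (7174, 8764), (7175, 8713), (7176, 5770), (7177, 7177), (7178, 7178), (7179, 8768), (7180, 8771), (7181, 6326), (7182, 8775), (7183, 5772), (7184, 8778), (7185, 8715), (7186, 8782), (7187, 5777), (7188, 7188), (7189, 7189), (7190, 8719), (7191, 8102), (7192, 8788), (7193, 5779), (7194, 8791), (7195, 7195), (7196, 7196), (7197, 8137), (7198, 5798), (7199, 5799), (7200, 8795), (7201, 6331), (7202, 5951), (7203, 5952), (7204, 8725), (7205, 8804), (7206, 5794), (7207, 6166), (7208, 6167), (7209, 8728), (7210, 8100), (7211, 8186), (7212, 5796), (7213, 8811), (7214, 8024), (7215, 8794), (7216, 6334), (7217, 5925), (7218, 8817), (7219, 6336), (7220, 8822), (7221, 5802), (7222, 8824), (7223, 8730), (7224, 8828), (7225, 5807), (7226, 7226), (7227, 7227), (7228, 5808), (7229, 8832), (7230, 8837), (7231, 6343)]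
    ⟨e3 q7168 (flp_d L644179) q8134, e3 q7169 L122106 q5766, e3 q7170 L642828 q8012, e3 q7171 (flp_d L176934) q8747, e3 q7172 L122134 q6321, e3 q7173 L122148 q6322, e3 q7174 L177231 q8764, e3 q7175 (flp_d L175904) q8713, e3 q7176 L122173 q5770, e3 q7177 L122185 q7177, e3 q7178 L122191 q7178, e3 q7179 (flp_d L177271) q8768, e3 q7180 L177295 q8771, e3 q7181 L122220 q6326, e3 q7182 L177341 q8775, e3 q7183 (flp_d L122233) q5772, e3 q7184 (flp_d L177377) q8778, e3 q7185 (flp_d L175985) q8715, e3 q7186 L177403 q8782, e3 q7187 L122270 q5777, e3 q7188 L122282 q7188, e3 q7189 L122287 q7189, e3 q7190 (flp_d L176025) q8719, e3 q7191 (flp_d L644458) q8102, e3 q7192 L177463 q8788, e3 q7193 (flp_d L122316) q5779, e3 q7194 (flp_d L177489) q8791, e3 q7195 L122341 q7195, e3 q7196 L122347 q7196, e3 q7197 (flp_d L644036) q8137, e3 q7198 L122482 q5798, e3 q7199 L122488 q5799, e3 q7200 L177835 q8795, e3 q7201 L122581 q6331, e3 q7202 (flp_d L576376) q5951, e3 q7203 L592192 q5952, e3 q7204 (flp_d L176419) q8725, e3 q7205 L177941 q8804, e3 q7206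 L122631 q5794, e3 q7207 L592600 q6166, e3 q7208 L592674 q6167, e3 q7209 (flp_d L176459) q8728, e3 q7210 L644447 q8100, e3 q7211 (flp_d L644256) q8186, e3 q7212 (flp_d L122680) q5796, e3 q7213 (flp_d L178024) q8811, e3 q7214 (flp_d L642985) q8024, e3 q7215 (flp_d L177717) q8794, e3 q7216 L122719 q6334, e3 q7217 (flp_d L576258) q5925, e3 q7218 L178083 q8817, e3 q7219 L122742 q6336, e3 q7220 L178125 q8822, e3 q7221 (flp_d L122754) q5802, e3 q7222 (flp_d L178156) q8824, e3 q7223 (flp_d L176569) q8730, e3 q7224 L178183 q8828, e3 q7225 L122790 q5807, e3 q7226 L122803 q7226, e3 q7227 L122809 q7227, e3 q7228 (flp_d L122812) q5808, e3 q7229 (flp_d L178220) q8832, e3 q7230 L178256 q8837, e3 q7231 L122840 q6343, trivial⟩ (by decide +kernel)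

theorem ce_d_113 : ∀ r, r < 64 → sm gd (Qf (7232 + r)) = Qf (tab Gen.d (7232 + r)) :=
  edges_tab (sm gd) Qf (tab Gen.d) 7232 [(7232, 8840), (7233, 5810), (7234, 8843), (7235, 8175), (7236, 5812), (7237, 8733), (7238, 8734), (7239, 8849), (7240, 5814), (7241, 8852), (7242, 7242), (7243, 7243), (7244, 8740), (7245, 8856), (7246, 8858), (7247, 5820), (7248, 8861), (7249, 5979), (7250, 5822), (7251, 7251), (7252, 8865), (7253, 5826), (7254, 8868), (7255, 5844), (7256, 5845), (7257, 5830), (7258, 8870), (7259, 8875), (7260, 6351), (7261, 6021), (7262, 6022), (7263, 7263), (7264, 7264), (7265, 8882), (7266, 5835), (7267, 8885), (7268, 6213), (7269, 6214), (7270, 7270), (7271, 8889), (7272, 8891), (7273, 5841), (7274, 8894), (7275, 6012), (7276, 5843), (7277, 8869), (7278, 8898), (7279, 6355), (7280, 5985), (7281, 5986), (7282, 5848), (7283, 8904), (7284, 8909), (7285, 6359), (7286, 8912), (7287, 5850), (7288, 8915), (7289, 5852), (7290, 7290), (7291, 7291), (7292, 8919), (7293, 5854), (7294, 8922), (7295, 7295)]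
    ⟨e3 q7232 L178278 q8840, e3 q7233 (flp_d L122854) q5810, e3 q7234 (flp_d L178311) q8843, e3 q7235 (flp_d L168709) q8175, e3 q7236 L122885 q5812, e3 q7237 (flp_d L176675) q8733, e3 q7238 (flp_d L176682) q8734, e3 q7239 L178364 q8849, e3 q7240 (flp_d L122909) q5814, e3 q7241 (flp_d L178386) q8852, e3 q7242 L122928 q7242, e3 q7243 L122933 q7243, e3 q7244 (flp_d L176727) q8740, e3 q7245 L178416 q8856, e3 q7246 L178430 q8858, e3 q7247 (flp_d L122965) q5820, e3 q7248 (flp_d L178456) q8861, e3 q7249 L122984 q5979, e3 q7250 L122989 q5822, e3 q7251 L122997 q7251, e3 q7252 L178750 q8865, e3 q7253 (flp_d L123184) q5826, e3 q7254 (flp_d L178779) q8868, e3 q7255 L123208 q5844, e3 q7256 L123214 q5845, e3 q7257 (flp_d L123328) q5830, e3 q7258 (flp_d L178994) q8870, e3 q7259 L179037 q8875, e3 q7260 L123363 q6351, e3 q7261 L592398 q6021, e3 q7262 L592347 q6022, e3 q7263 L123414 q7263, e3 q7264 L123421 q7264, e3 q7265 L179143 q8882, e3 q7266 (flp_d L123435) q5835, e3 q7267 (flp_d L179168) q8885, e3 q7268 L592573 q6213, e3 q7269 L592540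 q6214, e3 q7270 L123470 q7270, e3 q7271 L179198 q8889, e3 q7272 L179213 q8891, e3 q7273 (flp_d L123492) q5841, e3 q7274 (flp_d L179243) q8894, e3 q7275 L123514 q6012, e3 q7276 L123519 q5843, e3 q7277 (flp_d L178789) q8869, e3 q7278 L179268 q8898, e3 q7279 L123547 q6355, e3 q7280 L553179 q5985, e3 q7281 (flp_d L535274) q5986, e3 q7282 (flp_d L123576) q5848, e3 q7283 (flp_d L179368) q8904, e3 q7284 L179405 q8909, e3 q7285 L123607 q6359, e3 q7286 L179428 q8912, e3 q7287 (flp_d L123618) q5850, e3 q7288 (flp_d L179458) q8915, e3 q7289 L123650 q5852, e3 q7290 L123658 q7290, e3 q7291 L123664 q7291, e3 q7292 L179512 q8919, e3 q7293 (flp_d L123677) q5854, e3 q7294 (flp_d L179542) q8922, e3 q7295 L123701 q7295, trivial⟩ (by decide +kernel)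

theorem ce_d_114 : ∀ r, r < 64 → sm gd (Qf (7296 + r)) = Qf (tab Gen.d (7296 + r)) :=
  edges_tab (sm gd) Qf (tab Gen.d) 7296 [(7296, 7296), (7297, 5859), (7298, 8927), (7299, 8924), (7300, 8925), (7301, 8932), (7302, 5860), (7303, 8936), (7304, 8937), (7305, 5862), (7306, 8940), (7307, 8935), (7308, 5864), (7309, 8248), (7310, 8249), (7311, 7311), (7312, 8947), (7313, 8949), (7314, 5869), (7315, 8952), (7316, 8934), (7317, 5871), (7318, 7318), (7319, 7319), (7320, 8957), (7321, 5875), (7322, 8961), (7323, 5876), (7324, 8963), (7325, 6058), (7326, 5878), (7327, 6060), (7328, 6061), (7329, 8897), (7330, 6323), (7331, 6378), (7332, 8760), (7333, 7333), (7334, 5885), (7335, 7335), (7336, 7336), (7337, 8977), (7338, 8980), (7339, 6383), (7340, 8985), (7341, 5887), (7342, 8987), (7343, 7343), (7344, 8991), (7345, 5892), (7346, 7346), (7347, 7347), (7348, 7348), (7349, 7349), (7350, 8344), (7351, 5894), (7352, 8996), (7353, 7353), (7354, 7354), (7355, 6384), (7356, 9000), (7357, 6386), (7358, 8750), (7359, 8751)]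
    ⟨e3 q7296 L123707 q7296, e3 q7297 L123715 q5859, e3 q7298 L179581 q8927, e3 q7299 (flp_d L179560) q8924, e3 q7300 (flp_d L179567) q8925, e3 q7301 L179623 q8932, e3 q7302 (flp_d L123752) q5860, e3 q7303 (flp_d L179655) q8936, e3 q7304 L179658 q8937, e3 q7305 (flp_d L123775) q5862, e3 q7306 (flp_d L179691) q8940, e3 q7307 (flp_d L179649) q8935, e3 q7308 L123805 q5864, e3 q7309 (flp_d L169469) q8248, e3 q7310 (flp_d L169477) q8249, e3 q7311 L123838 q7311, e3 q7312 L179762 q8947, e3 q7313 L179775 q8949, e3 q7314 (flp_d L123856) q5869, e3 q7315 (flp_d L179803) q8952, e3 q7316 (flp_d L179642) q8934, e3 q7317 L123881 q5871, e3 q7318 L123889 q7318, e3 q7319 L123898 q7319, e3 q7320 L179836 q8957, e3 q7321 (flp_d L123909) q5875, e3 q7322 (flp_d L179869) q8961, e3 q7323 (flp_d L123922) q5876, e3 q7324 (flp_d L179886) q8963, e3 q7325 L123947 q6058, e3 q7326 L123952 q5878, e3 q7327 L123959 q6060, e3 q7328 L123969 q6061, e3 q7329 (flp_d L179265) q8897, e3 q7330 L576269 q6323, e3 q7331 L123995 q6378, e3 q7332 L576229 q8760, e3 q7333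 L124019 q7333, e3 q7334 L124025 q5885, e3 q7335 L124039 q7335, e3 q7336 L124045 q7336, e3 q7337 (flp_d L180036) q8977, e3 q7338 L180064 q8980, e3 q7339 L124077 q6383, e3 q7340 L180107 q8985, e3 q7341 (flp_d L124090) q5887, e3 q7342 (flp_d L180137) q8987, e3 q7343 L124111 q7343, e3 q7344 L180169 q8991, e3 q7345 L124128 q5892, e3 q7346 L124142 q7346, e3 q7347 L124147 q7347, e3 q7348 L124157 q7348, e3 q7349 L124164 q7349, e3 q7350 (flp_d L641321) q8344, e3 q7351 (flp_d L124178) q5894, e3 q7352 (flp_d L180257) q8996, e3 q7353 L124202 q7353, e3 q7354 L124206 q7354, e3 q7355 L591233 q6384, e3 q7356 L180314 q9000, e3 q7357 L124243 q6386, e3 q7358 (flp_d L591668) q8750, e3 q7359 (flp_d L575432) q8751, trivial⟩ (by decide +kernel)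

theorem ce_d_115 : ∀ r, r < 64 → sm gd (Qf (7360 + r)) = Qf (tab Gen.d (7360 + r)) :=
  edges_tab (sm gd) Qf (tab Gen.d) 7360 [(7360, 7360), (7361, 9009), (7362, 5905), (7363, 6136), (7364, 6137), (7365, 5906), (7366, 9013), (7367, 9018), (7368, 6342), (7369, 9021), (7370, 5908), (7371, 9024), (7372, 8330), (7373, 5910), (7374, 7374), (7375, 7375), (7376, 9030), (7377, 5912), (7378, 9033), (7379, 6152), (7380, 6153), (7381, 7381), (7382, 9037), (7383, 9039), (7384, 5918), (7385, 9042), (7386, 8790), (7387, 5920), (7388, 6161), (7389, 6337), (7390, 9048), (7391, 6391), (7392, 8815), (7393, 8816), (7394, 7394), (7395, 9057), (7396, 5930), (7397, 7397), (7398, 7398), (7399, 5931), (7400, 9061), (7401, 9066), (7402, 6397), (7403, 9069), (7404, 5933), (7405, 9072), (7406, 5935), (7407, 7407), (7408, 7408), (7409, 9076), (7410, 5937), (7411, 9079), (7412, 7412), (7413, 7413), (7414, 7414), (7415, 9083), (7416, 8456), (7417, 5943), (7418, 9086), (7419, 8341), (7420, 5945), (7421, 7421), (7422, 9090), (7423, 6398)]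
    ⟨e3 q7360 L124281 q7360, e3 q7361 L180431 q9009, e3 q7362 L124298 q5905, e3 q7363 L124311 q6136, e3 q7364 L124318 q6137, e3 q7365 (flp_d L124324) q5906, e3 q7366 (flp_d L180475) q9013, e3 q7367 L180507 q9018, e3 q7368 (flp_d L622583) q6342, e3 q7369 L180528 q9021, e3 q7370 (flp_d L124361) q5908, e3 q7371 (flp_d L180556) q9024, e3 q7372 (flp_d L170213) q8330, e3 q7373 L124392 q5910, e3 q7374 L124401 q7374, e3 q7375 L124407 q7375, e3 q7376 L180613 q9030, e3 q7377 (flp_d L124420) q5912, e3 q7378 (flp_d L180641) q9033, e3 q7379 L124446 q6152, e3 q7380 L124452 q6153, e3 q7381 L124460 q7381, e3 q7382 L180673 q9037, e3 q7383 L180685 q9039, e3 q7384 (flp_d L124479) q5918, e3 q7385 (flp_d L180715) q9042, e3 q7386 (flp_d L177484) q8790, e3 q7387 L124505 q5920, e3 q7388 L124514 q6161, e3 q7389 (flp_d L601139) q6337, e3 q7390 L180787 q9048, e3 q7391 L124551 q6391, e3 q7392 (flp_d L576382) q8815, e3 q7393 L601510 q8816, e3 q7394 L124589 q7394, e3 q7395 L180902 q9057, e3 q7396 L124606 q5930, e3 q7397 L124621 q7397, e3 q7398 L124627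 q7398, e3 q7399 (flp_d L124632) q5931, e3 q7400 (flp_d L180943) q9061, e3 q7401 L180978 q9066, e3 q7402 L124657 q6397, e3 q7403 L180996 q9069, e3 q7404 (flp_d L124671) q5933, e3 q7405 (flp_d L181023) q9072, e3 q7406 L124696 q5935, e3 q7407 L124704 q7407, e3 q7408 L124713 q7408, e3 q7409 L181075 q9076, e3 q7410 (flp_d L124726) q5937, e3 q7411 (flp_d L181101) q9079, e3 q7412 L124748 q7412, e3 q7413 L124753 q7413, e3 q7414 L124763 q7414, e3 q7415 L181132 q9083, e3 q7416 (flp_d L637670) q8456, e3 q7417 (flp_d L124784) q5943, e3 q7418 (flp_d L181173) q9086, e3 q7419 (flp_d L644083) q8341, e3 q7420 L124808 q5945, e3 q7421 L124814 q7421, e3 q7422 L181195 q9090, e3 q7423 L591450 q6398, trivial⟩ (by decide +kernel)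

theorem ce_d_116 : ∀ r, r < 64 → sm gd (Qf (7424 + r)) = Qf (tab Gen.d (7424 + r)) :=
  edges_tab (sm gd) Qf (tab Gen.d) 7424 [(7424, 5949), (7425, 9093), (7426, 9098), (7427, 6401), (7428, 8799), (7429, 8800), (7430, 7430), (7431, 7431), (7432, 9105), (7433, 5954), (7434, 9108), (7435, 6173), (7436, 6174), (7437, 5959), (7438, 9113), (7439, 9110), (7440, 9111), (7441, 9118), (7442, 5960), (7443, 9122), (7444, 9123), (7445, 5962), (7446, 9126), (7447, 9121), (7448, 5964), (7449, 8439), (7450, 8440), (7451, 7451), (7452, 9133), (7453, 9135), (7454, 5969), (7455, 9138), (7456, 9120), (7457, 5971), (7458, 6196), (7459, 7459), (7460, 9143), (7461, 5975), (7462, 9147), (7463, 5976), (7464, 9149), (7465, 8860), (7466, 5978), (7467, 8862), (7468, 8863), (7469, 9089), (7470, 8633), (7471, 6360), (7472, 8632), (7473, 9161), (7474, 6410), (7475, 8902), (7476, 8903), (7477, 6063), (7478, 6064), (7479, 8625), (7480, 8626), (7481, 7481), (7482, 7482), (7483, 5993), (7484, 9173), (7485, 9170), (7486, 9171), (7487, 9178)]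
    ⟨e3 q7424 (flp_d L124857) q5949, e3 q7425 (flp_d L181278) q9093, e3 q7426 L181315 q9098, e3 q7427 L124886 q6401, e3 q7428 (flp_d L576055) q8799, e3 q7429 L576414 q8800, e3 q7430 L124943 q7430, e3 q7431 L124951 q7431, e3 q7432 L181433 q9105, e3 q7433 (flp_d L124963) q5954, e3 q7434 (flp_d L181464) q9108, e3 q7435 L124987 q6173, e3 q7436 L124994 q6174, e3 q7437 L125003 q5959, e3 q7438 L181498 q9113, e3 q7439 (flp_d L181482) q9110, e3 q7440 (flp_d L181487) q9111, e3 q7441 L181531 q9118, e3 q7442 (flp_d L125032) q5960, e3 q7443 (flp_d L181553) q9122, e3 q7444 L181555 q9123, e3 q7445 (flp_d L125048) q5962, e3 q7446 (flp_d L181585) q9126, e3 q7447 (flp_d L181549) q9121, e3 q7448 L125076 q5964, e3 q7449 (flp_d L171145) q8439, e3 q7450 (flp_d L171151) q8440, e3 q7451 L125106 q7451, e3 q7452 L181654 q9133, e3 q7453 L181669 q9135, e3 q7454 (flp_d L125127) q5969, e3 q7455 (flp_d L181697) q9138, e3 q7456 (flp_d L181545) q9120, e3 q7457 L125153 q5971, e3 q7458 L125161 q6196, e3 q7459 L125170 q7459, e3 q7460 L181730 q9143, e3 q7461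 (flp_d L125182) q5975, e3 q7462 (flp_d L181764) q9147, e3 q7463 (flp_d L125195) q5976, e3 q7464 (flp_d L181779) q9149, e3 q7465 (flp_d L178451) q8860, e3 q7466 L125221 q5978, e3 q7467 (flp_d L178463) q8862, e3 q7468 (flp_d L178471) q8863, e3 q7469 (flp_d L181192) q9089, e3 q7470 L552138 q8633, e3 q7471 (flp_d L590825) q6360, e3 q7472 L552159 q8632, e3 q7473 L181962 q9161, e3 q7474 L125321 q6410, e3 q7475 L553154 q8902, e3 q7476 L601468 q8903, e3 q7477 L125376 q6063, e3 q7478 L125385 q6064, e3 q7479 L562074 q8625, e3 q7480 (flp_d L562096) q8626, e3 q7481 L125428 q7481, e3 q7482 L125434 q7482, e3 q7483 L125443 q5993, e3 q7484 L182154 q9173, e3 q7485 (flp_d L182131) q9170, e3 q7486 (flp_d L182139) q9171, e3 q7487 L182191 q9178, trivial⟩ (by decide +kernel)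

theorem ce_d_117 : ∀ r, r < 64 → sm gd (Qf (7488 + r)) = Qf (tab Gen.d (7488 + r)) :=
  edges_tab (sm gd) Qf (tab Gen.d) 7488 [(7488, 5994), (7489, 9182), (7490, 9183), (7491, 5996), (7492, 9186), (7493, 9181), (7494, 5998), (7495, 6069), (7496, 9190), (7497, 9192), (7498, 6002), (7499, 9195), (7500, 9180), (7501, 6004), (7502, 7502), (7503, 6074), (7504, 9199), (7505, 6008), (7506, 9203), (7507, 6009), (7508, 9205), (7509, 8893), (7510, 6011), (7511, 8895), (7512, 8896), (7513, 6062), (7514, 6015), (7515, 9212), (7516, 6419), (7517, 6018), (7518, 9219), (7519, 9216), (7520, 9217), (7521, 9224), (7522, 6019), (7523, 9227), (7524, 8877), (7525, 8878), (7526, 6089), (7527, 9231), (7528, 9233), (7529, 6025), (7530, 9236), (7531, 9226), (7532, 6027), (7533, 6222), (7534, 6032), (7535, 6033), (7536, 9243), (7537, 6031), (7538, 9247), (7539, 9240), (7540, 9250), (7541, 9252), (7542, 6034), (7543, 9256), (7544, 6049), (7545, 6040), (7546, 6036), (7547, 6037), (7548, 9264), (7549, 9255), (7550, 6039), (7551, 9260)]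
    ⟨e3 q7488 (flp_d L125479) q5994, e3 q7489 (flp_d L182217) q9182, e3 q7490 L182220 q9183, e3 q7491 (flp_d L125498) q5996, e3 q7492 (flp_d L182247) q9186, e3 q7493 (flp_d L182213) q9181, e3 q7494 L125522 q5998, e3 q7495 L125551 q6069, e3 q7496 L182311 q9190, e3 q7497 L182327 q9192, e3 q7498 (flp_d L125572) q6002, e3 q7499 (flp_d L182359) q9195, e3 q7500 (flp_d L182208) q9180, e3 q7501 L125601 q6004, e3 q7502 L125609 q7502, e3 q7503 L125618 q6074, e3 q7504 L182394 q9199, e3 q7505 (flp_d L125630) q6008, e3 q7506 (flp_d L182428) q9203, e3 q7507 (flp_d L125644) q6009, e3 q7508 (flp_d L182444) q9205, e3 q7509 (flp_d L179238) q8893, e3 q7510 L125674 q6011, e3 q7511 (flp_d L179249) q8895, e3 q7512 (flp_d L179258) q8896, e3 q7513 L125697 q6062, e3 q7514 (flp_d L125701) q6015, e3 q7515 (flp_d L182509) q9212, e3 q7516 (flp_d L554203) q6419, e3 q7517 L125783 q6018, e3 q7518 L182671 q9219, e3 q7519 (flp_d L182648) q9216, e3 q7520 (flp_d L182656) q9217, e3 q7521 L182714 q9224, e3 q7522 (flp_d L125821) q6019, e3 q7523 (flp_d L182748)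 q9227, e3 q7524 (flp_d L575932) q8877, e3 q7525 (flp_d L575887) q8878, e3 q7526 L125914 q6089, e3 q7527 L182867 q9231, e3 q7528 L182883 q9233, e3 q7529 (flp_d L125935) q6025, e3 q7530 (flp_d L182920) q9236, e3 q7531 (flp_d L182735) q9226, e3 q7532 L125969 q6027, e3 q7533 L125979 q6222, e3 q7534 L125988 q6032, e3 q7535 L125994 q6033, e3 q7536 L182982 q9243, e3 q7537 (flp_d L126007) q6031, e3 q7538 (flp_d L183012) q9247, e3 q7539 (flp_d L182963) q9240, e3 q7540 L183028 q9250, e3 q7541 L183038 q9252, e3 q7542 (flp_d L126040) q6034, e3 q7543 (flp_d L183066) q9256, e3 q7544 L126055 q6049, e3 q7545 L126060 q6040, e3 q7546 L126064 q6036, e3 q7547 (flp_d L126067) q6037, e3 q7548 (flp_d L183117) q9264, e3 q7549 (flp_d L183062) q9255, e3 q7550 L126095 q6039, e3 q7551 (flp_d L183091) q9260, trivial⟩ (by decide +kernel)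

theorem ce_d_118 : ∀ r, r < 64 → sm gd (Qf (7552 + r)) = Qf (tab Gen.d (7552 + r)) :=
  edges_tab (sm gd) Qf (tab Gen.d) 7552 [(7552, 9261), (7553, 8590), (7554, 8591), (7555, 6104), (7556, 9272), (7557, 6045), (7558, 9276), (7559, 6046), (7560, 9278), (7561, 9254), (7562, 6048), (7563, 9257), (7564, 9259), (7565, 8651), (7566, 9285), (7567, 6053), (7568, 9289), (7569, 8959), (7570, 9146), (7571, 6055), (7572, 8962), (7573, 6057), (7574, 8964), (7575, 8965), (7576, 9208), (7577, 8967), (7578, 8968), (7579, 9303), (7580, 9165), (7581, 6067), (7582, 6068), (7583, 8505), (7584, 8506), (7585, 9306), (7586, 9188), (7587, 9312), (7588, 6070), (7589, 6071), (7590, 8496), (7591, 8492), (7592, 9318), (7593, 6075), (7594, 9322), (7595, 7595), (7596, 7596), (7597, 6077), (7598, 7598), (7599, 6079), (7600, 7600), (7601, 7601), (7602, 6125), (7603, 7603), (7604, 7604), (7605, 9336), (7606, 6087), (7607, 6088), (7608, 8683), (7609, 8603), (7610, 9338), (7611, 9229), (7612, 9344), (7613, 6090), (7614, 6091), (7615, 8682)]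
    ⟨e3 q7552 (flp_d L183096) q9261, e3 q7553 (flp_d L172527) q8590, e3 q7554 (flp_d L172533) q8591, e3 q7555 L126150 q6104, e3 q7556 L183204 q9272, e3 q7557 (flp_d L126161) q6045, e3 q7558 (flp_d L183240) q9276, e3 q7559 (flp_d L126175) q6046, e3 q7560 (flp_d L183257) q9278, e3 q7561 (flp_d L183056) q9254, e3 q7562 L126207 q6048, e3 q7563 (flp_d L183072) q9257, e3 q7564 (flp_d L183086) q9259, e3 q7565 L546690 q8651, e3 q7566 L183319 q9285, e3 q7567 (flp_d L126244) q6053, e3 q7568 (flp_d L183354) q9289, e3 q7569 (flp_d L179859) q8959, e3 q7570 (flp_d L181757) q9146, e3 q7571 L126277 q6055, e3 q7572 (flp_d L179881) q8962, e3 q7573 L126294 q6057, e3 q7574 (flp_d L179894) q8964, e3 q7575 (flp_d L179905) q8965, e3 q7576 (flp_d L182471) q9208, e3 q7577 (flp_d L179919) q8967, e3 q7578 (flp_d L179929) q8968, e3 q7579 L183470 q9303, e3 q7580 (flp_d L182055) q9165, e3 q7581 L126659 q6067, e3 q7582 L126666 q6068, e3 q7583 (flp_d L561905) q8505, e3 q7584 (flp_d L561949) q8506, e3 q7585 (flp_d L183948) q9306, e3 q7586 (flp_d L182298)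 q9188, e3 q7587 L184191 q9312, e3 q7588 (flp_d L126843) q6070, e3 q7589 (flp_d L126858) q6071, e3 q7590 (flp_d L552078) q8496, e3 q7591 L552087 q8492, e3 q7592 L184287 q9318, e3 q7593 (flp_d L126919) q6075, e3 q7594 (flp_d L184321) q9322, e3 q7595 L126942 q7595, e3 q7596 L126946 q7596, e3 q7597 L126951 q6077, e3 q7598 L126962 q7598, e3 q7599 L126966 q6079, e3 q7600 L126974 q7600, e3 q7601 L126983 q7601, e3 q7602 L126993 q6125, e3 q7603 L126997 q7603, e3 q7604 L127005 q7604, e3 q7605 L184423 q9336, e3 q7606 L127106 q6087, e3 q7607 L127112 q6088, e3 q7608 L562396 q8683, e3 q7609 (flp_d L562420) q8603, e3 q7610 (flp_d L184573) q9338, e3 q7611 (flp_d L182855) q9229, e3 q7612 L184727 q9344, e3 q7613 (flp_d L127230) q6090, e3 q7614 (flp_d L127245) q6091, e3 q7615 (flp_d L546502) q8682, trivial⟩ (by decide +kernel)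

theorem ce_d_119 : ∀ r, r < 64 → sm gd (Qf (7616 + r)) = Qf (tab Gen.d (7616 + r)) :=
  edges_tab (sm gd) Qf (tab Gen.d) 7616 [(7616, 8685), (7617, 7617), (7618, 6099), (7619, 9354), (7620, 9356), (7621, 6096), (7622, 9359), (7623, 9245), (7624, 6098), (7625, 9352), (7626, 9363), (7627, 6100), (7628, 6101), (7629, 6110), (7630, 6112), (7631, 9369), (7632, 6105), (7633, 9373), (7634, 9364), (7635, 7635), (7636, 6107), (7637, 9366), (7638, 6109), (7639, 9367), (7640, 8657), (7641, 8650), (7642, 9368), (7643, 8658), (7644, 9387), (7645, 6115), (7646, 8693), (7647, 7647), (7648, 7648), (7649, 6117), (7650, 7650), (7651, 9327), (7652, 7652), (7653, 9330), (7654, 7654), (7655, 7655), (7656, 9392), (7657, 7657), (7658, 9394), (7659, 6128), (7660, 8130), (7661, 8755), (7662, 8756), (7663, 9398), (7664, 6134), (7665, 9401), (7666, 9011), (7667, 9012), (7668, 8120), (7669, 6140), (7670, 9406), (7671, 9407), (7672, 6142), (7673, 9410), (7674, 9405), (7675, 6144), (7676, 7676), (7677, 7677), (7678, 9415), (7679, 9417)]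
    ⟨e3 q7616 (flp_d L543444) q8685, e3 q7617 L127310 q7617, e3 q7618 L127316 q6099, e3 q7619 L184869 q9354, e3 q7620 L184881 q9356, e3 q7621 (flp_d L127333) q6096, e3 q7622 (flp_d L184908) q9359, e3 q7623 (flp_d L183001) q9245, e3 q7624 L127357 q6098, e3 q7625 (flp_d L184859) q9352, e3 q7626 L184942 q9363, e3 q7627 (flp_d L127378) q6100, e3 q7628 (flp_d L127391) q6101, e3 q7629 L127413 q6110, e3 q7630 L127425 q6112, e3 q7631 L185039 q9369, e3 q7632 (flp_d L127451) q6105, e3 q7633 (flp_d L185073) q9373, e3 q7634 (flp_d L184963) q9364, e3 q7635 L127476 q7635, e3 q7636 L127483 q6107, e3 q7637 (flp_d L184983) q9366, e3 q7638 L127498 q6109, e3 q7639 (flp_d L184996) q9367, e3 q7640 L546456 q8657, e3 q7641 (flp_d L562172) q8650, e3 q7642 (flp_d L185020) q9368, e3 q7643 (flp_d L543454) q8658, e3 q7644 L185183 q9387, e3 q7645 (flp_d L127552) q6115, e3 q7646 (flp_d L647080) q8693, e3 q7647 L127573 q7647, e3 q7648 L127579 q7648, e3 q7649 L127585 q6117, e3 q7650 L127593 q7650, e3 q7651 (flp_d L184358) q9327, e3 q7652 L127626 q7652,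 e3 q7653 (flp_d L184384) q9330, e3 q7654 L127653 q7654, e3 q7655 L127663 q7655, e3 q7656 L185346 q9392, e3 q7657 L127682 q7657, e3 q7658 L185360 q9394, e3 q7659 (flp_d L127693) q6128, e3 q7660 L642750 q8130, e3 q7661 (flp_d L592714) q8755, e3 q7662 (flp_d L592688) q8756, e3 q7663 L185653 q9398, e3 q7664 (flp_d L127870) q6134, e3 q7665 (flp_d L185684) q9401, e3 q7666 (flp_d L180460) q9011, e3 q7667 (flp_d L180467) q9012, e3 q7668 (flp_d L645306) q8120, e3 q7669 (flp_d L127954) q6140, e3 q7670 (flp_d L185806) q9406, e3 q7671 L185811 q9407, e3 q7672 (flp_d L127981) q6142, e3 q7673 (flp_d L185842) q9410, e3 q7674 (flp_d L185801) q9405, e3 q7675 L128008 q6144, e3 q7676 L128017 q7676, e3 q7677 L128025 q7677, e3 q7678 L185917 q9415, e3 q7679 L185934 q9417, trivial⟩ (by decide +kernel)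

theorem ce_d_120 : ∀ r, r < 64 → sm gd (Qf (7680 + r)) = Qf (tab Gen.d (7680 + r)) :=
  edges_tab (sm gd) Qf (tab Gen.d) 7680 [(7680, 6149), (7681, 9420), (7682, 9404), (7683, 6151), (7684, 9034), (7685, 9424), (7686, 6155), (7687, 9428), (7688, 6156), (7689, 9430), (7690, 7690), (7691, 6158), (7692, 7692), (7693, 7693), (7694, 7694), (7695, 8182), (7696, 6164), (7697, 9439), (7698, 8806), (7699, 8807), (7700, 9441), (7701, 9443), (7702, 6170), (7703, 9446), (7704, 9438), (7705, 6172), (7706, 9109), (7707, 6176), (7708, 9452), (7709, 8234), (7710, 8166), (7711, 6179), (7712, 9457), (7713, 6194), (7714, 6185), (7715, 6181), (7716, 6182), (7717, 9465), (7718, 9456), (7719, 6184), (7720, 9461), (7721, 9462), (7722, 7722), (7723, 7723), (7724, 9472), (7725, 6190), (7726, 9476), (7727, 6191), (7728, 9478), (7729, 9455), (7730, 6193), (7731, 9458), (7732, 9460), (7733, 7733), (7734, 9395), (7735, 6198), (7736, 9487), (7737, 7737), (7738, 6254), (7739, 6200), (7740, 7740), (7741, 6202), (7742, 7742), (7743, 7743)]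
    ⟨e3 q7680 (flp_d L128067) q6149, e3 q7681 (flp_d L185963) q9420, e3 q7682 (flp_d L185794) q9404, e3 q7683 L128093 q6151, e3 q7684 (flp_d L180651) q9034, e3 q7685 L186001 q9424, e3 q7686 (flp_d L128127) q6155, e3 q7687 (flp_d L186036) q9428, e3 q7688 (flp_d L128143) q6156, e3 q7689 (flp_d L186053) q9430, e3 q7690 L128168 q7690, e3 q7691 L128172 q6158, e3 q7692 L128178 q7692, e3 q7693 L128188 q7693, e3 q7694 L128198 q7694, e3 q7695 L642645 q8182, e3 q7696 (flp_d L128340) q6164, e3 q7697 (flp_d L186389) q9439, e3 q7698 (flp_d L592584) q8806, e3 q7699 (flp_d L549742) q8807, e3 q7700 L186501 q9441, e3 q7701 L186521 q9443, e3 q7702 (flp_d L128455) q6170, e3 q7703 (flp_d L186551) q9446, e3 q7704 (flp_d L186377) q9438, e3 q7705 L128484 q6172, e3 q7706 (flp_d L181473) q9109, e3 q7707 (flp_d L128523) q6176, e3 q7708 (flp_d L186633) q9452, e3 q7709 (flp_d L635634) q8234, e3 q7710 (flp_d L645385) q8166, e3 q7711 (flp_d L128566) q6179, e3 q7712 (flp_d L186704) q9457, e3 q7713 L128584 q6194, e3 q7714 L128589 q6185, e3 q7715 L128594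 q6181, e3 q7716 (flp_d L128597) q6182, e3 q7717 (flp_d L186753) q9465, e3 q7718 (flp_d L186699) q9456, e3 q7719 L128626 q6184, e3 q7720 (flp_d L186728) q9461, e3 q7721 (flp_d L186734) q9462, e3 q7722 L128655 q7722, e3 q7723 L128663 q7723, e3 q7724 L186845 q9472, e3 q7725 (flp_d L128694) q6190, e3 q7726 (flp_d L186883) q9476, e3 q7727 (flp_d L128712) q6191, e3 q7728 (flp_d L186897) q9478, e3 q7729 (flp_d L186692) q9455, e3 q7730 L128737 q6193, e3 q7731 (flp_d L186710) q9458, e3 q7732 (flp_d L186722) q9460, e3 q7733 L128757 q7733, e3 q7734 L647839 q9395, e3 q7735 (flp_d L128768) q6198, e3 q7736 (flp_d L186978) q9487, e3 q7737 L128794 q7737, e3 q7738 L128800 q6254, e3 q7739 L128805 q6200, e3 q7740 L128816 q7740, e3 q7741 L128820 q6202, e3 q7742 L128826 q7742, e3 q7743 L128835 q7743, trivial⟩ (by decide +kernel)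

theorem ce_d_121 : ∀ r, r < 64 → sm gd (Qf (7744 + r)) = Qf (tab Gen.d (7744 + r)) :=
  edges_tab (sm gd) Qf (tab Gen.d) 7744 [(7744, 7744), (7745, 7745), (7746, 7746), (7747, 9501), (7748, 9502), (7749, 9504), (7750, 6210), (7751, 9507), (7752, 6220), (7753, 6212), (7754, 8886), (7755, 9511), (7756, 6216), (7757, 9515), (7758, 6217), (7759, 9517), (7760, 9506), (7761, 6219), (7762, 9508), (7763, 9509), (7764, 7764), (7765, 9524), (7766, 6224), (7767, 9528), (7768, 6225), (7769, 9531), (7770, 6245), (7771, 6233), (7772, 6227), (7773, 6247), (7774, 9258), (7775, 6248), (7776, 6235), (7777, 6236), (7778, 7778), (7779, 9530), (7780, 6232), (7781, 9535), (7782, 9536), (7783, 9544), (7784, 9545), (7785, 7785), (7786, 7786), (7787, 6289), (7788, 6240), (7789, 9556), (7790, 9526), (7791, 9475), (7792, 6242), (7793, 9529), (7794, 6244), (7795, 9532), (7796, 9534), (7797, 7797), (7798, 9538), (7799, 9540), (7800, 9570), (7801, 6263), (7802, 6252), (7803, 7803), (7804, 7804), (7805, 9491), (7806, 7806), (7807, 7807)]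
    ⟨e3 q7744 L128843 q7744, e3 q7745 L128847 q7745, e3 q7746 L128855 q7746, e3 q7747 L187079 q9501, e3 q7748 L187329 q9502, e3 q7749 L187347 q9504, e3 q7750 (flp_d L129039) q6210, e3 q7751 (flp_d L187389) q9507, e3 q7752 L129064 q6220, e3 q7753 L129078 q6212, e3 q7754 (flp_d L592552) q8886, e3 q7755 L187553 q9511, e3 q7756 (flp_d L129186) q6216, e3 q7757 (flp_d L187596) q9515, e3 q7758 (flp_d L129205) q6217, e3 q7759 (flp_d L187615) q9517, e3 q7760 (flp_d L187374) q9506, e3 q7761 L129239 q6219, e3 q7762 (flp_d L187395) q9508, e3 q7763 (flp_d L187414) q9509, e3 q7764 L129265 q7764, e3 q7765 L187680 q9524, e3 q7766 (flp_d L129286) q6224, e3 q7767 (flp_d L187714) q9528, e3 q7768 (flp_d L129302) q6225, e3 q7769 (flp_d L187739) q9531, e3 q7770 L129325 q6245, e3 q7771 L129333 q6233, e3 q7772 L129338 q6227, e3 q7773 L129344 q6247, e3 q7774 (flp_d L183080) q9258, e3 q7775 L129360 q6248, e3 q7776 L129367 q6235, e3 q7777 L129375 q6236, e3 q7778 L129385 q7778, e3 q7779 (flp_d L187734) q9530, e3 q7780 L129398 q6232, e3 q7781 (flp_d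 L187770) q9535, e3 q7782 (flp_d L187776) q9536, e3 q7783 (flp_d L187837) q9544, e3 q7784 (flp_d L187844) q9545, e3 q7785 L129449 q7785, e3 q7786 L129456 q7786, e3 q7787 L647823 q6289, e3 q7788 (flp_d L129483) q6240, e3 q7789 (flp_d L188003) q9556, e3 q7790 (flp_d L187704) q9526, e3 q7791 (flp_d L186877) q9475, e3 q7792 L129520 q6242, e3 q7793 (flp_d L187725) q9529, e3 q7794 L129536 q6244, e3 q7795 (flp_d L187746) q9532, e3 q7796 (flp_d L187763) q9534, e3 q7797 L129561 q7797, e3 q7798 (flp_d L187792) q9538, e3 q7799 (flp_d L187809) q9540, e3 q7800 L188117 q9570, e3 q7801 L647785 q6263, e3 q7802 L129626 q6252, e3 q7803 L129634 q7803, e3 q7804 L129653 q7804, e3 q7805 (flp_d L187010) q9491, e3 q7806 L129669 q7806, e3 q7807 L129674 q7807, trivial⟩ (by decide +kernel)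

theorem ce_d_122 : ∀ r, r < 64 → sm gd (Qf (7808 + r)) = Qf (tab Gen.d (7808 + r)) :=
  edges_tab (sm gd) Qf (tab Gen.d) 7808 [(7808, 7808), (7809, 7809), (7810, 7810), (7811, 9554), (7812, 6265), (7813, 7813), (7814, 7814), (7815, 6267), (7816, 7816), (7817, 6269), (7818, 7818), (7819, 7819), (7820, 7820), (7821, 7821), (7822, 7822), (7823, 9586), (7824, 7824), (7825, 7825), (7826, 9587), (7827, 7827), (7828, 7828), (7829, 9588), (7830, 7830), (7831, 9590), (7832, 6286), (7833, 8036), (7834, 6290), (7835, 6315), (7836, 8762), (7837, 8749), (7838, 8759), (7839, 8970), (7840, 6325), (7841, 6327), (7842, 7842), (7843, 6330), (7844, 8820), (7845, 8798), (7846, 8983), (7847, 8814), (7848, 6335), (7849, 9003), (7850, 9047), (7851, 6341), (7852, 9020), (7853, 6344), (7854, 9016), (7855, 7855), (7856, 6350), (7857, 6423), (7858, 9599), (7859, 9600), (7860, 6354), (7861, 9604), (7862, 8901), (7863, 6357), (7864, 9607), (7865, 9609), (7866, 6358), (7867, 9157), (7868, 8621), (7869, 6366), (7870, 6367), (7871, 9613)]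
    ⟨e3 q7808 L129700 q7808, e3 q7809 L129710 q7809, e3 q7810 L129727 q7810, e3 q7811 L647769 q9554, e3 q7812 (flp_d L129758) q6265, e3 q7813 L129786 q7813, e3 q7814 L129793 q7814, e3 q7815 L129799 q6267, e3 q7816 L129811 q7816, e3 q7817 L129817 q6269, e3 q7818 L129824 q7818, e3 q7819 L129834 q7819, e3 q7820 L129844 q7820, e3 q7821 L129848 q7821, e3 q7822 L129858 q7822, e3 q7823 L188487 q9586, e3 q7824 L129894 q7824, e3 q7825 L129914 q7825, e3 q7826 L188587 q9587, e3 q7827 L129929 q7827, e3 q7828 L129977 q7828, e3 q7829 L188655 q9588, e3 q7830 L130001 q7830, e3 q7831 L188669 q9590, e3 q7832 (flp_d L130012) q6286, e3 q7833 L547820 q8036, e3 q7834 (flp_d L130492) q6290, e3 q7835 (flp_d L132550) q6315, e3 q7836 L622503 q8762, e3 q7837 (flp_d L177040) q8749, e3 q7838 (flp_d L177190) q8759, e3 q7839 L601159 q8970, e3 q7840 (flp_d L133373) q6325, e3 q7841 (flp_d L133417) q6327, e3 q7842 L133444 q7842, e3 q7843 (flp_d L134065) q6330, e3 q7844 L622321 q8820, e3 q7845 (flp_d L177867) q8798, e3 q7846 L622619 q8983, e3 q7847 (flp_d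 L178051) q8814, e3 q7848 (flp_d L134324) q6335, e3 q7849 (flp_d L622577) q9003, e3 q7850 L576673 q9047, e3 q7851 L134466 q6341, e3 q7852 L621717 q9020, e3 q7853 (flp_d L134524) q6344, e3 q7854 L622095 q9016, e3 q7855 L134562 q7855, e3 q7856 L135474 q6350, e3 q7857 (flp_d L590586) q6423, e3 q7858 (flp_d L196728) q9599, e3 q7859 (flp_d L196738) q9600, e3 q7860 (flp_d L135761) q6354, e3 q7861 (flp_d L197142) q9604, e3 q7862 (flp_d L179303) q8901, e3 q7863 L135860 q6357, e3 q7864 L197327 q9607, e3 q7865 L197370 q9609, e3 q7866 (flp_d L135895) q6358, e3 q7867 L554228 q9157, e3 q7868 L513626 q8621, e3 q7869 L136056 q6366, e3 q7870 L136064 q6367, e3 q7871 L197627 q9613, trivial⟩ (by decide +kernel)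

theorem ce_d_123 : ∀ r, r < 64 → sm gd (Qf (7872 + r)) = Qf (tab Gen.d (7872 + r)) :=
  edges_tab (sm gd) Qf (tab Gen.d) 7872 [(7872, 6365), (7873, 9617), (7874, 6368), (7875, 6375), (7876, 6372), (7877, 6370), (7878, 9618), (7879, 9317), (7880, 7880), (7881, 9603), (7882, 8999), (7883, 8972), (7884, 6382), (7885, 6385), (7886, 8774), (7887, 8772), (7888, 7888), (7889, 6390), (7890, 9092), (7891, 9051), (7892, 6395), (7893, 9630), (7894, 6396), (7895, 6400), (7896, 9594), (7897, 8839), (7898, 6403), (7899, 9636), (7900, 6406), (7901, 8835), (7902, 9637), (7903, 7903), (7904, 6409), (7905, 9605), (7906, 9641), (7907, 9642), (7908, 6415), (7909, 6416), (7910, 9648), (7911, 6414), (7912, 9651), (7913, 6417), (7914, 6421), (7915, 9652), (7916, 6424), (7917, 6425), (7918, 9601), (7919, 9602), (7920, 9619), (7921, 9612), (7922, 9611), (7923, 6428), (7924, 9661), (7925, 9246), (7926, 6430), (7927, 6434), (7928, 6435), (7929, 9610), (7930, 9664), (7931, 9665), (7932, 7932), (7933, 6439), (7934, 6440), (7935, 8480)]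
    ⟨e3 q7872 (flp_d L136074) q6365, e3 q7873 (flp_d L197661) q9617, e3 q7874 (flp_d L136117) q6368, e3 q7875 L136138 q6375, e3 q7876 L136145 q6372, e3 q7877 (flp_d L136155) q6370, e3 q7878 (flp_d L197730) q9618, e3 q7879 L552094 q9317, e3 q7880 L136217 q7880, e3 q7881 L533260 q9603, e3 q7882 L622558 q8999, e3 q7883 (flp_d L179976) q8972, e3 q7884 (flp_d L136511) q6382, e3 q7885 (flp_d L136772) q6385, e3 q7886 L621661 q8774, e3 q7887 L612262 q8772, e3 q7888 L137025 q7888, e3 q7889 (flp_d L137265) q6390, e3 q7890 L622396 q9092, e3 q7891 (flp_d L180820) q9051, e3 q7892 L137426 q6395, e3 q7893 L199592 q9630, e3 q7894 (flp_d L137459) q6396, e3 q7895 L137773 q6400, e3 q7896 (flp_d L576780) q9594, e3 q7897 L622221 q8839, e3 q7898 (flp_d L137994) q6403, e3 q7899 (flp_d L200437) q9636, e3 q7900 L138047 q6406, e3 q7901 L622111 q8835, e3 q7902 (flp_d L200521) q9637, e3 q7903 L138108 q7903, e3 q7904 L138425 q6409, e3 q7905 (flp_d L551375) q9605, e3 q7906 (flp_d L201034) q9641, e3 q7907 (flp_d L201045) q9642, e3 q7908 L138643 q6415,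 e3 q7909 L138652 q6416, e3 q7910 L201371 q9648, e3 q7911 (flp_d L138663) q6414, e3 q7912 (flp_d L201400) q9651, e3 q7913 (flp_d L138701) q6417, e3 q7914 L138719 q6421, e3 q7915 (flp_d L201454) q9652, e3 q7916 L139146 q6424, e3 q7917 L139155 q6425, e3 q7918 L547246 q9601, e3 q7919 (flp_d L590556) q9602, e3 q7920 (flp_d L617282) q9619, e3 q7921 L615138 q9612, e3 q7922 L615144 q9611, e3 q7923 (flp_d L139404) q6428, e3 q7924 (flp_d L202426) q9661, e3 q7925 (flp_d L183008) q9246, e3 q7926 L139426 q6430, e3 q7927 L139477 q6434, e3 q7928 L139489 q6435, e3 q7929 (flp_d L617274) q9610, e3 q7930 (flp_d L202504) q9664, e3 q7931 (flp_d L202523) q9665, e3 q7932 L139566 q7932, e3 q7933 L139740 q6439, e3 q7934 L139749 q6440, e3 q7935 (flp_d L561753) q8480, trivial⟩ (by decide +kernel)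

theorem ce_d_124 : ∀ r, r < 64 → sm gd (Qf (7936 + r)) = Qf (tab Gen.d (7936 + r)) :=
  edges_tab (sm gd) Qf (tab Gen.d) 7936 [(7936, 8481), (7937, 8470), (7938, 7938), (7939, 6450), (7940, 9676), (7941, 9678), (7942, 6447), (7943, 9681), (7944, 9650), (7945, 6449), (7946, 6451), (7947, 6452), (7948, 6455), (7949, 6456), (7950, 6536), (7951, 9682), (7952, 6463), (7953, 6464), (7954, 7954), (7955, 7955), (7956, 8620), (7957, 7957), (7958, 6469), (7959, 7959), (7960, 7960), (7961, 7961), (7962, 7962), (7963, 9694), (7964, 7964), (7965, 7965), (7966, 7966), (7967, 6479), (7968, 9698), (7969, 6482), (7970, 8714), (7971, 9699), (7972, 6514), (7973, 8727), (7974, 6488), (7975, 9703), (7976, 7976), (7977, 9451), (7978, 6490), (7979, 6495), (7980, 8780), (7981, 6496), (7982, 8732), (7983, 9707), (7984, 9708), (7985, 6521), (7986, 7986), (7987, 7987), (7988, 7988), (7989, 8712), (7990, 6506), (7991, 9715), (7992, 7992), (7993, 7993), (7994, 6508), (7995, 6512), (7996, 6513), (7997, 7997), (7998, 6520), (7999, 6522)]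
    ⟨e3 q7936 L561765 q8481, e3 q7937 (flp_d L537030) q8470, e3 q7938 L139935 q7938, e3 q7939 L139939 q6450, e3 q7940 L203124 q9676, e3 q7941 L203140 q9678, e3 q7942 (flp_d L139957) q6447, e3 q7943 (flp_d L203172) q9681, e3 q7944 (flp_d L201391) q9650, e3 q7945 L139986 q6449, e3 q7946 (flp_d L140012) q6451, e3 q7947 (flp_d L140019) q6452, e3 q7948 L140031 q6455, e3 q7949 L140043 q6456, e3 q7950 L140215 q6536, e3 q7951 L533011 q9682, e3 q7952 L140229 q6463, e3 q7953 L140237 q6464, e3 q7954 L140247 q7954, e3 q7955 L140253 q7955, e3 q7956 (flp_d L616638) q8620, e3 q7957 L140272 q7957, e3 q7958 L140277 q6469, e3 q7959 L140288 q7959, e3 q7960 L140296 q7960, e3 q7961 L140301 q7961, e3 q7962 L140317 q7962, e3 q7963 L203620 q9694, e3 q7964 L140340 q7964, e3 q7965 L140344 q7965, e3 q7966 L140351 q7966, e3 q7967 (flp_d L140710) q6479, e3 q7968 (flp_d L204226) q9698, e3 q7969 L140787 q6482, e3 q7970 (flp_d L620593) q8714, e3 q7971 (flp_d L204328) q9699, e3 q7972 L140855 q6514, e3 q7973 L566932 q8727, e3 q7974 (flp_d L141485) q6488,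 e3 q7975 (flp_d L205300) q9703, e3 q7976 L141507 q7976, e3 q7977 (flp_d L186628) q9451, e3 q7978 L141516 q6490, e3 q7979 L141549 q6495, e3 q7980 (flp_d L620689) q8780, e3 q7981 L141581 q6496, e3 q7982 L621442 q8732, e3 q7983 (flp_d L205394) q9707, e3 q7984 (flp_d L205455) q9708, e3 q7985 L141652 q6521, e3 q7986 L142052 q7986, e3 q7987 L142074 q7987, e3 q7988 L142093 q7988, e3 q7989 (flp_d L566017) q8712, e3 q7990 (flp_d L142566) q6506, e3 q7991 (flp_d L206799) q9715, e3 q7992 L142589 q7992, e3 q7993 L142597 q7993, e3 q7994 L142601 q6508, e3 q7995 L142634 q6512, e3 q7996 L142669 q6513, e3 q7997 L143273 q7997, e3 q7998 L143332 q6520, e3 q7999 (flp_d L143623) q6522, trivial⟩ (by decide +kernel)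

theorem ce_d_125 : ∀ r, r < 64 → sm gd (Qf (8000 + r)) = Qf (tab Gen.d (8000 + r)) :=
  edges_tab (sm gd) Qf (tab Gen.d) 8000 [(8000, 8000), (8001, 6523), (8002, 8002), (8003, 6525), (8004, 8004), (8005, 8005), (8006, 8006), (8007, 8007), (8008, 6683), (8009, 9719), (8010, 6689), (8011, 6690), (8012, 7170), (8013, 6695), (8014, 6696), (8015, 9724), (8016, 6714), (8017, 6715), (8018, 9727), (8019, 6587), (8020, 9730), (8021, 9731), (8022, 6725), (8023, 6726), (8024, 7214), (8025, 6594), (8026, 9735), (8027, 6732), (8028, 6733), (8029, 9737), (8030, 9739), (8031, 6600), (8032, 9742), (8033, 9743), (8034, 6761), (8035, 6762), (8036, 7833), (8037, 9747), (8038, 6608), (8039, 9750), (8040, 8040), (8041, 6610), (8042, 9754), (8043, 6612), (8044, 9757), (8045, 6777), (8046, 6778), (8047, 9759), (8048, 9761), (8049, 6618), (8050, 9764), (8051, 8051), (8052, 6620), (8053, 6786), (8054, 6623), (8055, 9769), (8056, 6625), (8057, 8057), (8058, 7118), (8059, 8059), (8060, 6627), (8061, 8061), (8062, 6629), (8063, 7105)]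
    ⟨e3 q8000 L143644 q8000, e3 q8001 (flp_d L143656) q6523, e3 q8002 L143696 q8002, e3 q8003 (flp_d L143728) q6525, e3 q8004 L143914 q8004, e3 q8005 L144665 q8005, e3 q8006 L145830 q8006, e3 q8007 L164525 q8007, e3 q8008 L166504 q6683, e3 q8009 L241506 q9719, e3 q8010 L166558 q6689, e3 q8011 L166564 q6690, e3 q8012 (flp_d L642828) q7170, e3 q8013 L166615 q6695, e3 q8014 L166621 q6696, e3 q8015 L241677 q9724, e3 q8016 L166678 q6714, e3 q8017 L166685 q6715, e3 q8018 L241783 q9727, e3 q8019 (flp_d L166725) q6587, e3 q8020 (flp_d L241813) q9730, e3 q8021 L241840 q9731, e3 q8022 L166773 q6725, e3 q8023 L166779 q6726, e3 q8024 L642985 q7214, e3 q8025 (flp_d L166807) q6594, e3 q8026 (flp_d L241928) q9735, e3 q8027 L166829 q6732, e3 q8028 L166835 q6733, e3 q8029 L241970 q9737, e3 q8030 L242031 q9739, e3 q8031 (flp_d L166885) q6600, e3 q8032 (flp_d L242066) q9742, e3 q8033 L242096 q9743, e3 q8034 L166936 q6761, e3 q8035 L166943 q6762, e3 q8036 (flp_d L547820) q7833, e3 q8037 L242199 q9747, e3 q8038 (flp_d L166989) q6608, e3 q8039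 (flp_d L242227) q9750, e3 q8040 L167014 q8040, e3 q8041 L167020 q6610, e3 q8042 L242281 q9754, e3 q8043 (flp_d L167047) q6612, e3 q8044 (flp_d L242310) q9757, e3 q8045 L167072 q6777, e3 q8046 L167078 q6778, e3 q8047 L242342 q9759, e3 q8048 L242357 q9761, e3 q8049 (flp_d L167107) q6618, e3 q8050 (flp_d L242388) q9764, e3 q8051 L167132 q8051, e3 q8052 L167136 q6620, e3 q8053 L167146 q6786, e3 q8054 (flp_d L167164) q6623, e3 q8055 (flp_d L242459) q9769, e3 q8056 L167189 q6625, e3 q8057 L167203 q8057, e3 q8058 L643787 q7118, e3 q8059 L167219 q8059, e3 q8060 (flp_d L167227) q6627, e3 q8061 L167253 q8061, e3 q8062 L167258 q6629, e3 q8063 L643405 q7105, trivial⟩ (by decide +kernel)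

theorem ce_d_126 : ∀ r, r < 64 → sm gd (Qf (8064 + r)) = Qf (tab Gen.d (8064 + r)) :=
  edges_tab (sm gd) Qf (tab Gen.d) 8064 [(8064, 8064), (8065, 6635), (8066, 8066), (8067, 9774), (8068, 6676), (8069, 6638), (8070, 8070), (8071, 8071), (8072, 7140), (8073, 6641), (8074, 8074), (8075, 6687), (8076, 6645), (8077, 7116), (8078, 6692), (8079, 7167), (8080, 8080), (8081, 6699), (8082, 6654), (8083, 8083), (8084, 9787), (8085, 6704), (8086, 9792), (8087, 6659), (8088, 8088), (8089, 8089), (8090, 6712), (8091, 6661), (8092, 9795), (8093, 8093), (8094, 6722), (8095, 9801), (8096, 6666), (8097, 7137), (8098, 6727), (8099, 6728), (8100, 7210), (8101, 6668), (8102, 7191), (8103, 8103), (8104, 9807), (8105, 9773), (8106, 6675), (8107, 8107), (8108, 8108), (8109, 9811), (8110, 9776), (8111, 9817), (8112, 6680), (8113, 8113), (8114, 8114), (8115, 8115), (8116, 8116), (8117, 9826), (8118, 9778), (8119, 6684), (8120, 7668), (8121, 9718), (8122, 9831), (8123, 8123), (8124, 9836), (8125, 6686), (8126, 9839), (8127, 9781)]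
    ⟨e3 q8064 L167352 q8064, e3 q8065 L167357 q6635, e3 q8066 L167371 q8066, e3 q8067 (flp_d L242750) q9774, e3 q8068 L167390 q6676, e3 q8069 L167398 q6638, e3 q8070 L167410 q8070, e3 q8071 L167415 q8071, e3 q8072 (flp_d L644285) q7140, e3 q8073 L167448 q6641, e3 q8074 L167474 q8074, e3 q8075 L167492 q6687, e3 q8076 L167500 q6645, e3 q8077 L644823 q7116, e3 q8078 L167531 q6692, e3 q8079 L644401 q7167, e3 q8080 L167612 q8080, e3 q8081 L167629 q6699, e3 q8082 L167637 q6654, e3 q8083 L167648 q8083, e3 q8084 (flp_d L243189) q9787, e3 q8085 L167674 q6704, e3 q8086 L243240 q9792, e3 q8087 L167692 q6659, e3 q8088 L167704 q8088, e3 q8089 L167709 q8089, e3 q8090 L167743 q6712, e3 q8091 L167752 q6661, e3 q8092 L243372 q9795, e3 q8093 L167791 q8093, e3 q8094 L167817 q6722, e3 q8095 L243462 q9801, e3 q8096 L167833 q6666, e3 q8097 (flp_d L644620) q7137, e3 q8098 L167853 q6727, e3 q8099 L167862 q6728, e3 q8100 (flp_d L644447) q7210, e3 q8101 (flp_d L167874) q6668, e3 q8102 L644458 q7191, e3 q8103 L167953 q8103, e3 q8104 L243678 q9807,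 e3 q8105 (flp_d L242742) q9773, e3 q8106 L167983 q6675, e3 q8107 L167996 q8107, e3 q8108 L168001 q8108, e3 q8109 (flp_d L243722) q9811, e3 q8110 (flp_d L242790) q9776, e3 q8111 L243778 q9817, e3 q8112 L168045 q6680, e3 q8113 L168060 q8113, e3 q8114 L168066 q8114, e3 q8115 L168075 q8115, e3 q8116 L168090 q8116, e3 q8117 L243871 q9826, e3 q8118 (flp_d L242869) q9778, e3 q8119 L168118 q6684, e3 q8120 L645306 q7668, e3 q8121 (flp_d L241461) q9718, e3 q8122 L243935 q9831, e3 q8123 L168165 q8123, e3 q8124 L243983 q9836, e3 q8125 (flp_d L168177) q6686, e3 q8126 (flp_d L244016) q9839, e3 q8127 (flp_d L242951) q9781, trivial⟩ (by decide +kernel)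

theorem ce_d_127 : ∀ r, r < 64 → sm gd (Qf (8128 + r)) = Qf (tab Gen.d (8128 + r)) :=
  edges_tab (sm gd) Qf (tab Gen.d) 8128 [(8128, 9843), (8129, 6691), (8130, 7660), (8131, 9721), (8132, 9777), (8133, 7139), (8134, 7168), (8135, 6693), (8136, 9847), (8137, 7197), (8138, 9723), (8139, 9849), (8140, 8140), (8141, 9854), (8142, 6698), (8143, 9856), (8144, 9785), (8145, 9860), (8146, 6703), (8147, 8147), (8148, 8148), (8149, 9789), (8150, 9790), (8151, 9867), (8152, 6705), (8153, 9870), (8154, 8154), (8155, 8155), (8156, 8156), (8157, 9875), (8158, 9877), (8159, 8159), (8160, 9882), (8161, 6711), (8162, 9885), (8163, 9794), (8164, 9889), (8165, 6716), (8166, 7710), (8167, 9726), (8168, 6717), (8169, 9892), (8170, 9897), (8171, 8171), (8172, 9900), (8173, 6719), (8174, 9903), (8175, 7235), (8176, 6721), (8177, 9798), (8178, 9799), (8179, 9910), (8180, 6723), (8181, 9913), (8182, 7695), (8183, 9733), (8184, 9802), (8185, 9917), (8186, 7211), (8187, 6729), (8188, 9920), (8189, 6913), (8190, 6731), (8191, 9736)]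
    ⟨e3 q8128 L244044 q9843, e3 q8129 L168216 q6691, e3 q8130 (flp_d L642750) q7660, e3 q8131 (flp_d L241564) q9721, e3 q8132 (flp_d L644124) q9777, e3 q8133 L644301 q7139, e3 q8134 L644179 q7168, e3 q8135 (flp_d L168262) q6693, e3 q8136 (flp_d L244133) q9847, e3 q8137 L644036 q7197, e3 q8138 (flp_d L241628) q9723, e3 q8139 L244268 q9849, e3 q8140 L168396 q8140, e3 q8141 L244318 q9854, e3 q8142 (flp_d L168409) q6698, e3 q8143 (flp_d L244351) q9856, e3 q8144 (flp_d L243171) q9785, e3 q8145 L244381 q9860, e3 q8146 L168449 q6703, e3 q8147 L168463 q8147, e3 q8148 L168468 q8148, e3 q8149 (flp_d L243215) q9789, e3 q8150 (flp_d L243226) q9790, e3 q8151 L244449 q9867, e3 q8152 (flp_d L168502) q6705, e3 q8153 (flp_d L244477) q9870, e3 q8154 L168528 q8154, e3 q8155 L168534 q8155, e3 q8156 L168548 q8156, e3 q8157 L244522 q9875, e3 q8158 L244542 q9877, e3 q8159 L168574 q8159, e3 q8160 L244586 q9882, e3 q8161 (flp_d L168585) q6711, e3 q8162 (flp_d L244614) q9885, e3 q8163 (flp_d L243336) q9794, e3 q8164 L244643 q9889, e3 q8165 L168623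 q6716, e3 q8166 L645385 q7710, e3 q8167 (flp_d L241738) q9726, e3 q8168 (flp_d L168643) q6717, e3 q8169 (flp_d L244681) q9892, e3 q8170 L244719 q9897, e3 q8171 L168674 q8171, e3 q8172 L244745 q9900, e3 q8173 (flp_d L168687) q6719, e3 q8174 (flp_d L244773) q9903, e3 q8175 L168709 q7235, e3 q8176 L168715 q6721, e3 q8177 (flp_d L243441) q9798, e3 q8178 (flp_d L243450) q9799, e3 q8179 L244827 q9910, e3 q8180 (flp_d L168741) q6723, e3 q8181 (flp_d L244849) q9913, e3 q8182 (flp_d L642645) q7695, e3 q8183 (flp_d L241869) q9733, e3 q8184 (flp_d L243496) q9802, e3 q8185 L244881 q9917, e3 q8186 L644256 q7211, e3 q8187 (flp_d L168800) q6729, e3 q8188 (flp_d L244923) q9920, e3 q8189 L168819 q6913, e3 q8190 L168824 q6731, e3 q8191 (flp_d L241937) q9736, trivial⟩ (by decide +kernel)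

theorem ce_d_128 : ∀ r, r < 64 → sm gd (Qf (8192 + r)) = Qf (tab Gen.d (8192 + r)) :=
  edges_tab (sm gd) Qf (tab Gen.d) 8192 [(8192, 6734), (8193, 9924), (8194, 9929), (8195, 8195), (8196, 9932), (8197, 6736), (8198, 9935), (8199, 6738), (8200, 8200), (8201, 8201), (8202, 9940), (8203, 6740), (8204, 9943), (8205, 8205), (8206, 8206), (8207, 8207), (8208, 9947), (8209, 9949), (8210, 6746), (8211, 9952), (8212, 6973), (8213, 6748), (8214, 8214), (8215, 9956), (8216, 8216), (8217, 9961), (8218, 6752), (8219, 9964), (8220, 6753), (8221, 9965), (8222, 9970), (8223, 8223), (8224, 9973), (8225, 6755), (8226, 9976), (8227, 6941), (8228, 6757), (8229, 8229), (8230, 8230), (8231, 9983), (8232, 6759), (8233, 9986), (8234, 7709), (8235, 9745), (8236, 6764), (8237, 9991), (8238, 9988), (8239, 9989), (8240, 9996), (8241, 6765), (8242, 10000), (8243, 10001), (8244, 6767), (8245, 10004), (8246, 9999), (8247, 6769), (8248, 7309), (8249, 7310), (8250, 9936), (8251, 8251), (8252, 10013), (8253, 10015), (8254, 6774), (8255, 10018)]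
    ⟨e3 q8192 (flp_d L168954) q6734, e3 q8193 (flp_d L245162) q9924, e3 q8194 L245207 q9929, e3 q8195 L168992 q8195, e3 q8196 L245236 q9932, e3 q8197 (flp_d L169004) q6736, e3 q8198 (flp_d L245266) q9935, e3 q8199 L169038 q6738, e3 q8200 L169045 q8200, e3 q8201 L169054 q8201, e3 q8202 L245325 q9940, e3 q8203 (flp_d L169068) q6740, e3 q8204 (flp_d L245354) q9943, e3 q8205 L169095 q8205, e3 q8206 L169100 q8206, e3 q8207 L169110 q8207, e3 q8208 L245390 q9947, e3 q8209 L245409 q9949, e3 q8210 (flp_d L169134) q6746, e3 q8211 (flp_d L245441) q9952, e3 q8212 L169160 q6973, e3 q8213 L169165 q6748, e3 q8214 L169176 q8214, e3 q8215 L245476 q9956, e3 q8216 L169199 q8216, e3 q8217 L245525 q9961, e3 q8218 (flp_d L169210) q6752, e3 q8219 (flp_d L245568) q9964, e3 q8220 (flp_d L169228) q6753, e3 q8221 (flp_d L245576) q9965, e3 q8222 L245615 q9970, e3 q8223 L169262 q8223, e3 q8224 L245642 q9973, e3 q8225 (flp_d L169272) q6755, e3 q8226 (flp_d L245667) q9976, e3 q8227 L554517 q6941, e3 q8228 L169301 q6757, e3 q8229 L169309 q8229, e3 q8230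 L169317 q8230, e3 q8231 L245722 q9983, e3 q8232 (flp_d L169330) q6759, e3 q8233 (flp_d L245752) q9986, e3 q8234 L635634 q7709, e3 q8235 (flp_d L242131) q9745, e3 q8236 L169369 q6764, e3 q8237 L245791 q9991, e3 q8238 (flp_d L245770) q9988, e3 q8239 (flp_d L245779) q9989, e3 q8240 L245838 q9996, e3 q8241 (flp_d L169408) q6765, e3 q8242 (flp_d L245872) q10000, e3 q8243 L245877 q10001, e3 q8244 (flp_d L169435) q6767, e3 q8245 (flp_d L245905) q10004, e3 q8246 (flp_d L245866) q9999, e3 q8247 L169460 q6769, e3 q8248 L169469 q7309, e3 q8249 L169477 q7310, e3 q8250 (flp_d L245296) q9936, e3 q8251 L169492 q8251, e3 q8252 L245972 q10013, e3 q8253 L245989 q10015, e3 q8254 (flp_d L169512) q6774, e3 q8255 (flp_d L246015) q10018, trivial⟩ (by decide +kernel)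

theorem ce_d_129 : ∀ r, r < 64 → sm gd (Qf (8256 + r)) = Qf (tab Gen.d (8256 + r)) :=
  edges_tab (sm gd) Qf (tab Gen.d) 8256 [(8256, 9998), (8257, 6776), (8258, 9758), (8259, 8259), (8260, 10023), (8261, 6780), (8262, 10027), (8263, 6781), (8264, 10029), (8265, 7024), (8266, 6783), (8267, 7026), (8268, 7027), (8269, 9955), (8270, 8270), (8271, 6788), (8272, 6800), (8273, 10040), (8274, 8274), (8275, 10045), (8276, 8276), (8277, 6792), (8278, 6806), (8279, 6807), (8280, 10048), (8281, 8281), (8282, 10053), (8283, 6797), (8284, 6812), (8285, 6813), (8286, 8286), (8287, 8287), (8288, 10062), (8289, 8289), (8290, 6801), (8291, 10041), (8292, 10042), (8293, 10066), (8294, 10069), (8295, 8295), (8296, 10074), (8297, 6803), (8298, 10077), (8299, 8299), (8300, 10081), (8301, 6808), (8302, 10049), (8303, 10050), (8304, 8304), (8305, 8305), (8306, 10088), (8307, 6810), (8308, 10091), (8309, 10055), (8310, 10056), (8311, 8311), (8312, 10076), (8313, 10097), (8314, 8314), (8315, 10102), (8316, 6816), (8317, 10104), (8318, 8318), (8319,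 10108)]
    ⟨e3 q8256 (flp_d L245859) q9998, e3 q8257 L169537 q6776, e3 q8258 (flp_d L242320) q9758, e3 q8259 L169554 q8259, e3 q8260 L246052 q10023, e3 q8261 (flp_d L169567) q6780, e3 q8262 (flp_d L246088) q10027, e3 q8263 (flp_d L169584) q6781, e3 q8264 (flp_d L246106) q10029, e3 q8265 L169607 q7024, e3 q8266 L169612 q6783, e3 q8267 L169618 q7026, e3 q8268 L169629 q7027, e3 q8269 (flp_d L245473) q9955, e3 q8270 L169650 q8270, e3 q8271 L169656 q6788, e3 q8272 L169670 q6800, e3 q8273 (flp_d L246205) q10040, e3 q8274 L169688 q8274, e3 q8275 L246271 q10045, e3 q8276 L169708 q8276, e3 q8277 L169714 q6792, e3 q8278 L169726 q6806, e3 q8279 L169732 q6807, e3 q8280 (flp_d L246311) q10048, e3 q8281 L169755 q8281, e3 q8282 L246363 q10053, e3 q8283 L169772 q6797, e3 q8284 L169785 q6812, e3 q8285 L169791 q6813, e3 q8286 L169800 q8286, e3 q8287 L169815 q8287, e3 q8288 L246455 q10062, e3 q8289 L169840 q8289, e3 q8290 L169848 q6801, e3 q8291 (flp_d L246218) q10041, e3 q8292 (flp_d L246225) q10042, e3 q8293 (flp_d L246502) q10066, e3 q8294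 L246528 q10069, e3 q8295 L169900 q8295, e3 q8296 L246573 q10074, e3 q8297 (flp_d L169912) q6803, e3 q8298 (flp_d L246600) q10077, e3 q8299 L169933 q8299, e3 q8300 L246634 q10081, e3 q8301 L169952 q6808, e3 q8302 (flp_d L246324) q10049, e3 q8303 (flp_d L246330) q10050, e3 q8304 L169979 q8304, e3 q8305 L169988 q8305, e3 q8306 L246699 q10088, e3 q8307 (flp_d L170002) q6810, e3 q8308 (flp_d L246725) q10091, e3 q8309 (flp_d L246391) q10055, e3 q8310 (flp_d L246397) q10056, e3 q8311 L170042 q8311, e3 q8312 L553581 q10076, e3 q8313 L246784 q10097, e3 q8314 L170071 q8314, e3 q8315 L246833 q10102, e3 q8316 (flp_d L170083) q6816, e3 q8317 (flp_d L246869) q10104, e3 q8318 L170108 q8318, e3 q8319 L246902 q10108, trivial⟩ (by decide +kernel)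

theorem ce_d_130 : ∀ r, r < 64 → sm gd (Qf (8320 + r)) = Qf (tab Gen.d (8320 + r)) :=
  edges_tab (sm gd) Qf (tab Gen.d) 8320 [(8320, 6821), (8321, 8321), (8322, 8322), (8323, 6822), (8324, 10112), (8325, 10117), (8326, 8326), (8327, 10120), (8328, 6824), (8329, 10123), (8330, 7372), (8331, 6826), (8332, 8332), (8333, 8333), (8334, 10130), (8335, 6828), (8336, 10133), (8337, 8337), (8338, 8338), (8339, 8339), (8340, 10090), (8341, 7419), (8342, 6834), (8343, 10138), (8344, 7350), (8345, 6836), (8346, 8346), (8347, 8347), (8348, 8348), (8349, 10145), (8350, 8350), (8351, 6842), (8352, 6860), (8353, 6861), (8354, 10149), (8355, 10043), (8356, 8356), (8357, 10154), (8358, 6844), (8359, 10157), (8360, 8360), (8361, 10160), (8362, 6849), (8363, 6871), (8364, 6872), (8365, 8365), (8366, 8366), (8367, 10167), (8368, 6851), (8369, 10170), (8370, 6878), (8371, 6879), (8372, 8372), (8373, 9884), (8374, 10176), (8375, 8375), (8376, 10181), (8377, 6857), (8378, 10183), (8379, 8379), (8380, 10187), (8381, 6862), (8382, 10150), (8383,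 10151)]
    ⟨e3 q8320 L170127 q6821, e3 q8321 L170140 q8321, e3 q8322 L170146 q8322, e3 q8323 (flp_d L170151) q6822, e3 q8324 (flp_d L246947) q10112, e3 q8325 L246981 q10117, e3 q8326 L170179 q8326, e3 q8327 L247006 q10120, e3 q8328 (flp_d L170190) q6824, e3 q8329 (flp_d L247029) q10123, e3 q8330 L170213 q7372, e3 q8331 L170218 q6826, e3 q8332 L170227 q8332, e3 q8333 L170235 q8333, e3 q8334 L247087 q10130, e3 q8335 (flp_d L170248) q6828, e3 q8336 (flp_d L247115) q10133, e3 q8337 L170277 q8337, e3 q8338 L170282 q8338, e3 q8339 L170289 q8339, e3 q8340 L644144 q10090, e3 q8341 L644083 q7419, e3 q8342 (flp_d L170310) q6834, e3 q8343 (flp_d L247193) q10138, e3 q8344 L641321 q7350, e3 q8345 L170336 q6836, e3 q8346 L170346 q8346, e3 q8347 L170354 q8347, e3 q8348 L170367 q8348, e3 q8349 L247268 q10145, e3 q8350 L170384 q8350, e3 q8351 L170391 q6842, e3 q8352 L170403 q6860, e3 q8353 L170410 q6861, e3 q8354 (flp_d L247309) q10149, e3 q8355 (flp_d L614248) q10043, e3 q8356 L170440 q8356, e3 q8357 L247376 q10154, e3 q8358 (flp_d L170451)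 q6844, e3 q8359 (flp_d L247406) q10157, e3 q8360 L170472 q8360, e3 q8361 L247435 q10160, e3 q8362 L170487 q6849, e3 q8363 L170500 q6871, e3 q8364 L170506 q6872, e3 q8365 L170515 q8365, e3 q8366 L170524 q8366, e3 q8367 L247499 q10167, e3 q8368 (flp_d L170536) q6851, e3 q8369 (flp_d L247527) q10170, e3 q8370 L170559 q6878, e3 q8371 L170565 q6879, e3 q8372 L170577 q8372, e3 q8373 L576250 q9884, e3 q8374 L247587 q10176, e3 q8375 L170605 q8375, e3 q8376 L247638 q10181, e3 q8377 (flp_d L170618) q6857, e3 q8378 (flp_d L247668) q10183, e3 q8379 L170642 q8379, e3 q8380 L247703 q10187, e3 q8381 L170661 q6862, e3 q8382 (flp_d L247323) q10150, e3 q8383 (flp_d L247330) q10151, trivial⟩ (by decide +kernel)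

theorem ce_d_131 : ∀ r, r < 64 → sm gd (Qf (8384 + r)) = Qf (tab Gen.d (8384 + r)) :=
  edges_tab (sm gd) Qf (tab Gen.d) 8384 [(8384, 6863), (8385, 10191), (8386, 10196), (8387, 8387), (8388, 10199), (8389, 6865), (8390, 10202), (8391, 6881), (8392, 6867), (8393, 8393), (8394, 8394), (8395, 10209), (8396, 6869), (8397, 10212), (8398, 10162), (8399, 10163), (8400, 8400), (8401, 10216), (8402, 10218), (8403, 6875), (8404, 10221), (8405, 9869), (8406, 6877), (8407, 10171), (8408, 10225), (8409, 8409), (8410, 10203), (8411, 10204), (8412, 6882), (8413, 10231), (8414, 10236), (8415, 8415), (8416, 10239), (8417, 6884), (8418, 10242), (8419, 6886), (8420, 8420), (8421, 8421), (8422, 10247), (8423, 6888), (8424, 10250), (8425, 8425), (8426, 8426), (8427, 6893), (8428, 10255), (8429, 10252), (8430, 10253), (8431, 10260), (8432, 6894), (8433, 10264), (8434, 10265), (8435, 6896), (8436, 10268), (8437, 10263), (8438, 6898), (8439, 7449), (8440, 7450), (8441, 10205), (8442, 8442), (8443, 10277), (8444, 10279), (8445, 6903), (8446, 10282),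 (8447, 10262)]
    ⟨e3 q8384 (flp_d L170685) q6863, e3 q8385 (flp_d L247745) q10191, e3 q8386 L247782 q10196, e3 q8387 L170713 q8387, e3 q8388 L247804 q10199, e3 q8389 (flp_d L170726) q6865, e3 q8390 (flp_d L247826) q10202, e3 q8391 L553593 q6881, e3 q8392 L170748 q6867, e3 q8393 L170756 q8393, e3 q8394 L170767 q8394, e3 q8395 L247879 q10209, e3 q8396 (flp_d L170780) q6869, e3 q8397 (flp_d L247905) q10212, e3 q8398 (flp_d L247459) q10162, e3 q8399 (flp_d L247465) q10163, e3 q8400 L170818 q8400, e3 q8401 L247938 q10216, e3 q8402 L247957 q10218, e3 q8403 (flp_d L170841) q6875, e3 q8404 (flp_d L247981) q10221, e3 q8405 (flp_d L244472) q9869, e3 q8406 L170865 q6877, e3 q8407 (flp_d L247536) q10171, e3 q8408 L248005 q10225, e3 q8409 L170890 q8409, e3 q8410 L553587 q10203, e3 q8411 (flp_d L553574) q10204, e3 q8412 (flp_d L170916) q6882, e3 q8413 (flp_d L248088) q10231, e3 q8414 L248127 q10236, e3 q8415 L170948 q8415, e3 q8416 L248153 q10239, e3 q8417 (flp_d L170961) q6884, e3 q8418 (flp_d L248184) q10242, e3 q8419 L170992 q6886,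 e3 q8420 L171001 q8420, e3 q8421 L171011 q8421, e3 q8422 L248245 q10247, e3 q8423 (flp_d L171023) q6888, e3 q8424 (flp_d L248276) q10250, e3 q8425 L171050 q8425, e3 q8426 L171056 q8426, e3 q8427 L171064 q6893, e3 q8428 L248310 q10255, e3 q8429 (flp_d L248294) q10252, e3 q8430 (flp_d L248301) q10253, e3 q8431 L248348 q10260, e3 q8432 (flp_d L171095) q6894, e3 q8433 (flp_d L248372) q10264, e3 q8434 L248376 q10265, e3 q8435 (flp_d L171115) q6896, e3 q8436 (flp_d L248401) q10268, e3 q8437 (flp_d L248368) q10263, e3 q8438 L171138 q6898, e3 q8439 L171145 q7449, e3 q8440 L171151 q7450, e3 q8441 (flp_d L247847) q10205, e3 q8442 L171167 q8442, e3 q8443 L248466 q10277, e3 q8444 L248485 q10279, e3 q8445 (flp_d L171190) q6903, e3 q8446 (flp_d L248511) q10282, e3 q8447 (flp_d L248364) q10262, trivial⟩ (by decide +kernel)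

theorem ce_d_132 : ∀ r, r < 64 → sm gd (Qf (8448 + r)) = Qf (tab Gen.d (8448 + r)) :=
  edges_tab (sm gd) Qf (tab Gen.d) 8448 [(8448, 6905), (8449, 8449), (8450, 8450), (8451, 10287), (8452, 6909), (8453, 10291), (8454, 6910), (8455, 10292), (8456, 7416), (8457, 6912), (8458, 9921), (8459, 9922), (8460, 10224), (8461, 8461), (8462, 10300), (8463, 8463), (8464, 10303), (8465, 6918), (8466, 10305), (8467, 6922), (8468, 6950), (8469, 6951), (8470, 7937), (8471, 10309), (8472, 8472), (8473, 10312), (8474, 6925), (8475, 10315), (8476, 8476), (8477, 6927), (8478, 7031), (8479, 7032), (8480, 7935), (8481, 7936), (8482, 6966), (8483, 6967), (8484, 7033), (8485, 10324), (8486, 10326), (8487, 6935), (8488, 10329), (8489, 8489), (8490, 6937), (8491, 6975), (8492, 7591), (8493, 8493), (8494, 9977), (8495, 9978), (8496, 7590), (8497, 10340), (8498, 8498), (8499, 10343), (8500, 6944), (8501, 10346), (8502, 6946), (8503, 7038), (8504, 7039), (8505, 7583), (8506, 7584), (8507, 10306), (8508, 10307), (8509, 6953), (8510, 10356), (8511, 10353)]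
    ⟨e3 q8448 L171216 q6905, e3 q8449 L171225 q8449, e3 q8450 L171233 q8450, e3 q8451 L248548 q10287, e3 q8452 (flp_d L171247) q6909, e3 q8453 (flp_d L248585) q10291, e3 q8454 (flp_d L171264) q6910, e3 q8455 (flp_d L248601) q10292, e3 q8456 L637670 q7416, e3 q8457 L171288 q6912, e3 q8458 (flp_d L244929) q9921, e3 q8459 (flp_d L244938) q9922, e3 q8460 (flp_d L248002) q10224, e3 q8461 L171320 q8461, e3 q8462 L248676 q10300, e3 q8463 L171346 q8463, e3 q8464 L248738 q10303, e3 q8465 (flp_d L171357) q6918, e3 q8466 (flp_d L248773) q10305, e3 q8467 L171398 q6922, e3 q8468 L171409 q6950, e3 q8469 L171416 q6951, e3 q8470 L537030 q7937, e3 q8471 L248888 q10309, e3 q8472 L171453 q8472, e3 q8473 L248911 q10312, e3 q8474 (flp_d L171463) q6925, e3 q8475 (flp_d L248939) q10315, e3 q8476 L171488 q8476, e3 q8477 L171494 q6927, e3 q8478 L171501 q7031, e3 q8479 L171509 q7032, e3 q8480 L561753 q7935, e3 q8481 (flp_d L561765) q7936, e3 q8482 L171549 q6966, e3 q8483 L171555 q6967, e3 q8484 L171564 q7033, e3 q8485 L249058 q10324, e3 q8486 L249074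 q10326, e3 q8487 (flp_d L171585) q6935, e3 q8488 (flp_d L249107) q10329, e3 q8489 L171612 q8489, e3 q8490 L171616 q6937, e3 q8491 L171626 q6975, e3 q8492 (flp_d L552087) q7591, e3 q8493 L171647 q8493, e3 q8494 (flp_d L554494) q9977, e3 q8495 L554630 q9978, e3 q8496 L552078 q7590, e3 q8497 L249277 q10340, e3 q8498 L171713 q8498, e3 q8499 L249306 q10343, e3 q8500 (flp_d L171725) q6944, e3 q8501 (flp_d L249333) q10346, e3 q8502 L171756 q6946, e3 q8503 L171764 q7038, e3 q8504 L171775 q7039, e3 q8505 L561905 q7583, e3 q8506 L561949 q7584, e3 q8507 (flp_d L248834) q10306, e3 q8508 (flp_d L248841) q10307, e3 q8509 L171834 q6953, e3 q8510 L249469 q10356, e3 q8511 (flp_d L249446) q10353, trivial⟩ (by decide +kernel)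

theorem ce_d_133 : ∀ r, r < 64 → sm gd (Qf (8512 + r)) = Qf (tab Gen.d (8512 + r)) :=
  edges_tab (sm gd) Qf (tab Gen.d) 8512 [(8512, 10354), (8513, 10361), (8514, 6954), (8515, 10365), (8516, 10366), (8517, 6956), (8518, 10369), (8519, 10364), (8520, 6958), (8521, 6978), (8522, 6979), (8523, 7009), (8524, 7044), (8525, 10378), (8526, 10380), (8527, 6963), (8528, 10383), (8529, 10363), (8530, 6965), (8531, 10322), (8532, 7049), (8533, 10387), (8534, 6969), (8535, 10391), (8536, 6970), (8537, 10393), (8538, 9951), (8539, 6972), (8540, 9953), (8541, 9954), (8542, 7028), (8543, 6976), (8544, 10400), (8545, 10405), (8546, 8546), (8547, 10373), (8548, 10374), (8549, 6981), (8550, 10412), (8551, 10409), (8552, 10410), (8553, 10417), (8554, 6982), (8555, 10421), (8556, 10422), (8557, 6984), (8558, 10425), (8559, 10420), (8560, 6986), (8561, 10347), (8562, 7064), (8563, 10430), (8564, 10432), (8565, 6990), (8566, 10435), (8567, 10419), (8568, 6992), (8569, 8569), (8570, 6997), (8571, 6998), (8572, 10442), (8573, 6996), (8574, 10446),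 (8575, 10439)]
    ⟨e3 q8512 (flp_d L249456) q10354, e3 q8513 L249511 q10361, e3 q8514 (flp_d L171872) q6954, e3 q8515 (flp_d L249539) q10365, e3 q8516 L249544 q10366, e3 q8517 (flp_d L171895) q6956, e3 q8518 (flp_d L249566) q10369, e3 q8519 (flp_d L249535) q10364, e3 q8520 L171914 q6958, e3 q8521 (flp_d L553602) q6978, e3 q8522 (flp_d L553685) q6979, e3 q8523 L171935 q7009, e3 q8524 L171942 q7044, e3 q8525 L249626 q10378, e3 q8526 L249646 q10380, e3 q8527 (flp_d L171965) q6963, e3 q8528 (flp_d L249676) q10383, e3 q8529 (flp_d L249530) q10363, e3 q8530 L171994 q6965, e3 q8531 (flp_d L249035) q10322, e3 q8532 L172011 q7049, e3 q8533 L249715 q10387, e3 q8534 (flp_d L172025) q6969, e3 q8535 (flp_d L249752) q10391, e3 q8536 (flp_d L172043) q6970, e3 q8537 (flp_d L249769) q10393, e3 q8538 (flp_d L245436) q9951, e3 q8539 L172071 q6972, e3 q8540 (flp_d L245448) q9953, e3 q8541 (flp_d L245460) q9954, e3 q8542 L172096 q7028, e3 q8543 (flp_d L172100) q6976, e3 q8544 (flp_d L249834) q10400, e3 q8545 L249869 q10405, e3 q8546 L172130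 q8546, e3 q8547 L553429 q10373, e3 q8548 L553387 q10374, e3 q8549 L172182 q6981, e3 q8550 L249997 q10412, e3 q8551 (flp_d L249974) q10409, e3 q8552 (flp_d L249984) q10410, e3 q8553 L250045 q10417, e3 q8554 (flp_d L172222) q6982, e3 q8555 (flp_d L250081) q10421, e3 q8556 L250086 q10422, e3 q8557 (flp_d L172249) q6984, e3 q8558 (flp_d L250117) q10425, e3 q8559 (flp_d L250075) q10420, e3 q8560 L172277 q6986, e3 q8561 (flp_d L249360) q10347, e3 q8562 L172313 q7064, e3 q8563 L250193 q10430, e3 q8564 L250213 q10432, e3 q8565 (flp_d L172336) q6990, e3 q8566 (flp_d L250248) q10435, e3 q8567 (flp_d L250068) q10419, e3 q8568 L172370 q6992, e3 q8569 L172381 q8569, e3 q8570 L172389 q6997, e3 q8571 L172397 q6998, e3 q8572 L250314 q10442, e3 q8573 (flp_d L172408) q6996, e3 q8574 (flp_d L250344) q10446, e3 q8575 (flp_d L250294) q10439, trivial⟩ (by decide +kernel)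

theorem ce_d_134 : ∀ r, r < 64 → sm gd (Qf (8576 + r)) = Qf (tab Gen.d (8576 + r)) :=
  edges_tab (sm gd) Qf (tab Gen.d) 8576 [(8576, 10449), (8577, 10451), (8578, 6999), (8579, 10455), (8580, 7015), (8581, 7005), (8582, 7001), (8583, 7002), (8584, 10463), (8585, 10454), (8586, 7004), (8587, 10459), (8588, 10460), (8589, 10372), (8590, 7553), (8591, 7554), (8592, 9979), (8593, 7079), (8594, 10474), (8595, 7011), (8596, 10478), (8597, 7012), (8598, 10480), (8599, 10453), (8600, 7014), (8601, 10456), (8602, 10458), (8603, 7609), (8604, 10487), (8605, 7019), (8606, 10491), (8607, 10025), (8608, 10290), (8609, 7021), (8610, 10028), (8611, 7023), (8612, 10030), (8613, 10031), (8614, 10396), (8615, 10033), (8616, 10034), (8617, 10505), (8618, 7034), (8619, 7035), (8620, 7956), (8621, 7868), (8622, 10348), (8623, 7042), (8624, 7043), (8625, 7479), (8626, 7480), (8627, 10509), (8628, 10376), (8629, 10515), (8630, 7045), (8631, 7046), (8632, 7472), (8633, 7470), (8634, 10520), (8635, 7050), (8636, 10524), (8637, 8637), (8638, 8638),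 (8639, 7052)]
    ⟨e3 q8576 L250364 q10449, e3 q8577 L250378 q10451, e3 q8578 (flp_d L172446) q6999, e3 q8579 (flp_d L250406) q10455, e3 q8580 L172463 q7015, e3 q8581 L172468 q7005, e3 q8582 L172472 q7001, e3 q8583 (flp_d L172477) q7002, e3 q8584 (flp_d L250461) q10463, e3 q8585 (flp_d L250402) q10454, e3 q8586 L172500 q7004, e3 q8587 (flp_d L250434) q10459, e3 q8588 (flp_d L250441) q10460, e3 q8589 (flp_d L249586) q10372, e3 q8590 L172527 q7553, e3 q8591 L172533 q7554, e3 q8592 L553747 q9979, e3 q8593 L172549 q7079, e3 q8594 L250540 q10474, e3 q8595 (flp_d L172562) q7011, e3 q8596 (flp_d L250579) q10478, e3 q8597 (flp_d L172580) q7012, e3 q8598 (flp_d L250597) q10480, e3 q8599 (flp_d L250396) q10453, e3 q8600 L172610 q7014, e3 q8601 (flp_d L250412) q10456, e3 q8602 (flp_d L250427) q10458, e3 q8603 L562420 q7609, e3 q8604 L250658 q10487, e3 q8605 (flp_d L172651) q7019, e3 q8606 (flp_d L250696) q10491, e3 q8607 (flp_d L246077) q10025, e3 q8608 (flp_d L248579) q10290, e3 q8609 L172687 q7021, e3 q8610 (flp_d L246101) q10028,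 e3 q8611 L172705 q7023, e3 q8612 (flp_d L246113) q10030, e3 q8613 (flp_d L246123) q10031, e3 q8614 (flp_d L249792) q10396, e3 q8615 (flp_d L246135) q10033, e3 q8616 (flp_d L246146) q10034, e3 q8617 L250816 q10505, e3 q8618 (flp_d L173479) q7034, e3 q8619 (flp_d L173493) q7035, e3 q8620 L616638 q7956, e3 q8621 (flp_d L513626) q7868, e3 q8622 (flp_d L249368) q10348, e3 q8623 L173866 q7042, e3 q8624 L173875 q7043, e3 q8625 (flp_d L562074) q7479, e3 q8626 L562096 q7480, e3 q8627 (flp_d L252507) q10509, e3 q8628 (flp_d L249611) q10376, e3 q8629 L252780 q10515, e3 q8630 (flp_d L174069) q7045, e3 q8631 (flp_d L174088) q7046, e3 q8632 (flp_d L552159) q7472, e3 q8633 (flp_d L552138) q7470, e3 q8634 L252879 q10520, e3 q8635 (flp_d L174151) q7050, e3 q8636 (flp_d L252916) q10524, e3 q8637 L174176 q8637, e3 q8638 L174182 q8638, e3 q8639 L174186 q7052, trivial⟩ (by decide +kernel)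

theorem ce_d_135 : ∀ r, r < 64 → sm gd (Qf (8640 + r)) = Qf (tab Gen.d (8640 + r)) :=
  edges_tab (sm gd) Qf (tab Gen.d) 8640 [(8640, 8640), (8641, 7054), (8642, 8642), (8643, 8643), (8644, 7100), (8645, 8645), (8646, 8646), (8647, 10532), (8648, 7062), (8649, 7063), (8650, 7641), (8651, 7565), (8652, 10534), (8653, 10428), (8654, 10540), (8655, 7065), (8656, 7066), (8657, 7640), (8658, 7643), (8659, 8659), (8660, 7074), (8661, 10550), (8662, 10552), (8663, 7071), (8664, 10555), (8665, 10444), (8666, 7073), (8667, 10548), (8668, 10559), (8669, 7075), (8670, 7076), (8671, 7085), (8672, 7087), (8673, 10565), (8674, 7080), (8675, 10569), (8676, 10560), (8677, 8677), (8678, 7082), (8679, 10562), (8680, 7084), (8681, 10563), (8682, 7615), (8683, 7608), (8684, 10564), (8685, 7616), (8686, 10583), (8687, 7090), (8688, 10586), (8689, 8689), (8690, 8690), (8691, 7092), (8692, 8692), (8693, 7646), (8694, 8694), (8695, 8695), (8696, 10526), (8697, 8697), (8698, 8698), (8699, 10527), (8700, 8700), (8701, 8701), (8702, 10599), (8703,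 8703)]
    ⟨e3 q8640 L174198 q8640, e3 q8641 L174202 q7054, e3 q8642 L174209 q8642, e3 q8643 L174217 q8643, e3 q8644 L174225 q7100, e3 q8645 L174229 q8645, e3 q8646 L174238 q8646, e3 q8647 L253022 q10532, e3 q8648 L174400 q7062, e3 q8649 L174408 q7063, e3 q8650 L562172 q7641, e3 q8651 (flp_d L546690) q7565, e3 q8652 (flp_d L253272) q10534, e3 q8653 (flp_d L250179) q10428, e3 q8654 L253527 q10540, e3 q8655 (flp_d L174584) q7065, e3 q8656 (flp_d L174603) q7066, e3 q8657 (flp_d L546456) q7640, e3 q8658 L543454 q7643, e3 q8659 L174670 q8659, e3 q8660 L174675 q7074, e3 q8661 L253674 q10550, e3 q8662 L253690 q10552, e3 q8663 (flp_d L174693) q7071, e3 q8664 (flp_d L253722) q10555, e3 q8665 (flp_d L250334) q10444, e3 q8666 L174724 q7073, e3 q8667 (flp_d L253662) q10548, e3 q8668 L253776 q10559, e3 q8669 (flp_d L174748) q7075, e3 q8670 (flp_d L174765) q7076, e3 q8671 L174785 q7085, e3 q8672 L174803 q7087, e3 q8673 L253979 q10565, e3 q8674 (flp_d L174900) q7080, e3 q8675 (flp_d L254016) q10569, e3 q8676 (flp_d L253799) q10560, e3 q8677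 L174929 q8677, e3 q8678 L174935 q7082, e3 q8679 (flp_d L253821) q10562, e3 q8680 L174951 q7084, e3 q8681 (flp_d L253841) q10563, e3 q8682 L546502 q7615, e3 q8683 (flp_d L562396) q7608, e3 q8684 (flp_d L253884) q10564, e3 q8685 L543444 q7616, e3 q8686 L254130 q10583, e3 q8687 (flp_d L175004) q7090, e3 q8688 (flp_d L254155) q10586, e3 q8689 L175029 q8689, e3 q8690 L175035 q8690, e3 q8691 L175040 q7092, e3 q8692 L175048 q8692, e3 q8693 L647080 q7646, e3 q8694 L175066 q8694, e3 q8695 L175074 q8695, e3 q8696 (flp_d L252961) q10526, e3 q8697 L175089 q8697, e3 q8698 L175099 q8698, e3 q8699 (flp_d L252984) q10527, e3 q8700 L175113 q8700, e3 q8701 L175122 q8701, e3 q8702 L254304 q10599, e3 q8703 L175139 q8703, trivial⟩ (by decide +kernel)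

theorem ce_d_136 : ∀ r, r < 64 → sm gd (Qf (8704 + r)) = Qf (tab Gen.d (8704 + r)) :=
  edges_tab (sm gd) Qf (tab Gen.d) 8704 [(8704, 10601), (8705, 7103), (8706, 7107), (8707, 8707), (8708, 8708), (8709, 7120), (8710, 8710), (8711, 7162), (8712, 7989), (8713, 7175), (8714, 7970), (8715, 7185), (8716, 10606), (8717, 8717), (8718, 8718), (8719, 7190), (8720, 9814), (8721, 7127), (8722, 10607), (8723, 7143), (8724, 8724), (8725, 7204), (8726, 9841), (8727, 7973), (8728, 7209), (8729, 9815), (8730, 7223), (8731, 7144), (8732, 7982), (8733, 7237), (8734, 7238), (8735, 10617), (8736, 7147), (8737, 10619), (8738, 8738), (8739, 8739), (8740, 7244), (8741, 10622), (8742, 10623), (8743, 7153), (8744, 10625), (8745, 8745), (8746, 7155), (8747, 7171), (8748, 10628), (8749, 7837), (8750, 7358), (8751, 7359), (8752, 9782), (8753, 9842), (8754, 7166), (8755, 7661), (8756, 7662), (8757, 9846), (8758, 9722), (8759, 7838), (8760, 7332), (8761, 10629), (8762, 7836), (8763, 10640), (8764, 7174), (8765, 10642), (8766, 10603), (8767, 10645)]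
    ⟨e3 q8704 L254319 q10601, e3 q8705 (flp_d L175152) q7103, e3 q8706 L620845 q7107, e3 q8707 L175474 q8707, e3 q8708 L175490 q8708, e3 q8709 (flp_d L621814) q7120, e3 q8710 L436420 q8710, e3 q8711 L175789 q7162, e3 q8712 L566017 q7989, e3 q8713 L175904 q7175, e3 q8714 L620593 q7970, e3 q8715 L175985 q7185, e3 q8716 L255606 q10606, e3 q8717 L176011 q8717, e3 q8718 L176016 q8718, e3 q8719 L176025 q7190, e3 q8720 L636251 q9814, e3 q8721 (flp_d L176045) q7127, e3 q8722 L256153 q10607, e3 q8723 L621350 q7143, e3 q8724 L404349 q8724, e3 q8725 L176419 q7204, e3 q8726 L644307 q9841, e3 q8727 (flp_d L566932) q7973, e3 q8728 L176459 q7209, e3 q8729 (flp_d L644293) q9815, e3 q8730 L176569 q7223, e3 q8731 (flp_d L176605) q7144, e3 q8732 (flp_d L621442) q7982, e3 q8733 L176675 q7237, e3 q8734 L176682 q7238, e3 q8735 L256647 q10617, e3 q8736 (flp_d L176694) q7147, e3 q8737 (flp_d L256673) q10619, e3 q8738 L176714 q8738, e3 q8739 L176719 q8739, e3 q8740 L176727 q7244, e3 q8741 L256700 q10622, e3 q8742 L256714 q10623, e3 q8743 (flp_d L176747)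 q7153, e3 q8744 (flp_d L256742) q10625, e3 q8745 L176769 q8745, e3 q8746 L176773 q7155, e3 q8747 L176934 q7171, e3 q8748 L257131 q10628, e3 q8749 L177040 q7837, e3 q8750 L591668 q7358, e3 q8751 L575432 q7359, e3 q8752 (flp_d L644977) q9782, e3 q8753 (flp_d L642721) q9842, e3 q8754 L177095 q7166, e3 q8755 L592714 q7661, e3 q8756 L592688 q7662, e3 q8757 L644159 q9846, e3 q8758 L642786 q9722, e3 q8759 L177190 q7838, e3 q8760 (flp_d L576229) q7332, e3 q8761 (flp_d L620498) q10629, e3 q8762 (flp_d L622503) q7836, e3 q8763 L257450 q10640, e3 q8764 (flp_d L177231) q7174, e3 q8765 (flp_d L257486) q10642, e3 q8766 (flp_d L620550) q10603, e3 q8767 L257515 q10645, trivial⟩ (by decide +kernel)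

theorem ce_d_137 : ∀ r, r < 64 → sm gd (Qf (8768 + r)) = Qf (tab Gen.d (8768 + r)) :=
  edges_tab (sm gd) Qf (tab Gen.d) 8768 [(8768, 7179), (8769, 8769), (8770, 8770), (8771, 7180), (8772, 7887), (8773, 10652), (8774, 7886), (8775, 7182), (8776, 10656), (8777, 9838), (8778, 7184), (8779, 10604), (8780, 7980), (8781, 10661), (8782, 7186), (8783, 10664), (8784, 8784), (8785, 8785), (8786, 9816), (8787, 10667), (8788, 7192), (8789, 10668), (8790, 7386), (8791, 7194), (8792, 8792), (8793, 9848), (8794, 7215), (8795, 7200), (8796, 10671), (8797, 10676), (8798, 7845), (8799, 7428), (8800, 7429), (8801, 10610), (8802, 9800), (8803, 9909), (8804, 7205), (8805, 10684), (8806, 7698), (8807, 7699), (8808, 9803), (8809, 9916), (8810, 9919), (8811, 7213), (8812, 9734), (8813, 10688), (8814, 7847), (8815, 7392), (8816, 7393), (8817, 7218), (8818, 10674), (8819, 10695), (8820, 7844), (8821, 10698), (8822, 7220), (8823, 10701), (8824, 7222), (8825, 10612), (8826, 10608), (8827, 10705), (8828, 7224), (8829, 10707), (8830, 8830), (8831,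 8831)]
    ⟨e3 q8768 L177271 q7179, e3 q8769 L177284 q8769, e3 q8770 L177290 q8770, e3 q8771 (flp_d L177295) q7180, e3 q8772 (flp_d L612262) q7887, e3 q8773 L257595 q10652, e3 q8774 (flp_d L621661) q7886, e3 q8775 (flp_d L177341) q7182, e3 q8776 (flp_d L257655) q10656, e3 q8777 (flp_d L244010) q9838, e3 q8778 L177377 q7184, e3 q8779 (flp_d L255586) q10604, e3 q8780 L620689 q7980, e3 q8781 L257714 q10661, e3 q8782 (flp_d L177403) q7186, e3 q8783 (flp_d L257738) q10664, e3 q8784 L177427 q8784, e3 q8785 L177432 q8785, e3 q8786 L644135 q9816, e3 q8787 L257784 q10667, e3 q8788 (flp_d L177463) q7192, e3 q8789 (flp_d L257814) q10668, e3 q8790 L177484 q7386, e3 q8791 L177489 q7194, e3 q8792 L177499 q8792, e3 q8793 (flp_d L644047) q9848, e3 q8794 L177717 q7215, e3 q8795 (flp_d L177835) q7200, e3 q8796 (flp_d L258358) q10671, e3 q8797 L258400 q10676, e3 q8798 L177867 q7845, e3 q8799 L576055 q7428, e3 q8800 (flp_d L576414) q7429, e3 q8801 (flp_d L256228) q10610, e3 q8802 (flp_d L644606) q9800, e3 q8803 (flp_d L642632) q9909, e3 q8804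 (flp_d L177941) q7205, e3 q8805 (flp_d L258532) q10684, e3 q8806 L592584 q7698, e3 q8807 L549742 q7699, e3 q8808 (flp_d L644427) q9803, e3 q8809 L644263 q9916, e3 q8810 L644234 q9919, e3 q8811 L178024 q7213, e3 q8812 L642954 q9734, e3 q8813 L258626 q10688, e3 q8814 L178051 q7847, e3 q8815 L576382 q7392, e3 q8816 (flp_d L601510) q7393, e3 q8817 (flp_d L178083) q7218, e3 q8818 L622146 q10674, e3 q8819 L258763 q10695, e3 q8820 (flp_d L622321) q7844, e3 q8821 L258785 q10698, e3 q8822 (flp_d L178125) q7220, e3 q8823 (flp_d L258818) q10701, e3 q8824 L178156 q7222, e3 q8825 (flp_d L256462) q10612, e3 q8826 L621451 q10608, e3 q8827 L258874 q10705, e3 q8828 (flp_d L178183) q7224, e3 q8829 (flp_d L258901) q10707, e3 q8830 L178205 q8830, e3 q8831 L178211 q8831, trivial⟩ (by decide +kernel)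

theorem ce_d_138 : ∀ r, r < 64 → sm gd (Qf (8832 + r)) = Qf (tab Gen.d (8832 + r)) :=
  edges_tab (sm gd) Qf (tab Gen.d) 8832 [(8832, 7229), (8833, 10711), (8834, 10709), (8835, 7901), (8836, 10716), (8837, 7230), (8838, 10720), (8839, 7897), (8840, 7232), (8841, 10723), (8842, 10719), (8843, 7234), (8844, 9904), (8845, 9905), (8846, 10614), (8847, 10730), (8848, 10732), (8849, 7239), (8850, 10735), (8851, 10718), (8852, 7241), (8853, 8853), (8854, 10620), (8855, 10740), (8856, 7245), (8857, 10744), (8858, 7246), (8859, 10746), (8860, 7465), (8861, 7248), (8862, 7467), (8863, 7468), (8864, 10687), (8865, 7252), (8866, 10754), (8867, 8867), (8868, 7254), (8869, 7277), (8870, 7258), (8871, 10761), (8872, 10758), (8873, 10759), (8874, 10766), (8875, 7259), (8876, 10769), (8877, 7524), (8878, 7525), (8879, 8879), (8880, 10773), (8881, 10775), (8882, 7265), (8883, 10778), (8884, 10768), (8885, 7267), (8886, 7754), (8887, 8887), (8888, 10026), (8889, 7271), (8890, 10784), (8891, 7272), (8892, 10786), (8893, 7509), (8894, 7274),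 (8895, 7511)]
    ⟨e3 q8832 L178220 q7229, e3 q8833 L258936 q10711, e3 q8834 (flp_d L258918) q10709, e3 q8835 (flp_d L622111) q7901, e3 q8836 L258978 q10716, e3 q8837 (flp_d L178256) q7230, e3 q8838 (flp_d L259008) q10720, e3 q8839 (flp_d L622221) q7897, e3 q8840 (flp_d L178278) q7232, e3 q8841 (flp_d L259045) q10723, e3 q8842 (flp_d L259002) q10719, e3 q8843 L178311 q7234, e3 q8844 (flp_d L244781) q9904, e3 q8845 (flp_d L244788) q9905, e3 q8846 (flp_d L256627) q10614, e3 q8847 L259119 q10730, e3 q8848 L259133 q10732, e3 q8849 (flp_d L178364) q7239, e3 q8850 (flp_d L259157) q10735, e3 q8851 (flp_d L258996) q10718, e3 q8852 L178386 q7241, e3 q8853 L178393 q8853, e3 q8854 (flp_d L256688) q10620, e3 q8855 L259186 q10740, e3 q8856 (flp_d L178416) q7245, e3 q8857 (flp_d L259220) q10744, e3 q8858 (flp_d L178430) q7246, e3 q8859 (flp_d L259235) q10746, e3 q8860 L178451 q7465, e3 q8861 L178456 q7248, e3 q8862 L178463 q7467, e3 q8863 L178471 q7468, e3 q8864 (flp_d L258624) q10687, e3 q8865 (flp_d L178750) q7252, e3 q8866 (flp_d L259738)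 q10754, e3 q8867 L178775 q8867, e3 q8868 L178779 q7254, e3 q8869 L178789 q7277, e3 q8870 L178994 q7258, e3 q8871 L260103 q10761, e3 q8872 (flp_d L260078) q10758, e3 q8873 (flp_d L260087) q10759, e3 q8874 L260149 q10766, e3 q8875 (flp_d L179037) q7259, e3 q8876 (flp_d L260183) q10769, e3 q8877 L575932 q7524, e3 q8878 L575887 q7525, e3 q8879 L179123 q8879, e3 q8880 L260287 q10773, e3 q8881 L260302 q10775, e3 q8882 (flp_d L179143) q7265, e3 q8883 (flp_d L260330) q10778, e3 q8884 (flp_d L260170) q10768, e3 q8885 L179168 q7267, e3 q8886 L592552 q7754, e3 q8887 L179185 q8887, e3 q8888 (flp_d L635173) q10026, e3 q8889 (flp_d L179198) q7271, e3 q8890 (flp_d L260395) q10784, e3 q8891 (flp_d L179213) q7272, e3 q8892 (flp_d L260411) q10786, e3 q8893 L179238 q7509, e3 q8894 L179243 q7274, e3 q8895 L179249 q7511, trivial⟩ (by decide +kernel)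

theorem ce_d_139 : ∀ r, r < 64 → sm gd (Qf (8896 + r)) = Qf (tab Gen.d (8896 + r)) :=
  edges_tab (sm gd) Qf (tab Gen.d) 8896 [(8896, 7512), (8897, 7329), (8898, 7278), (8899, 10793), (8900, 10798), (8901, 7862), (8902, 7475), (8903, 7476), (8904, 7283), (8905, 10805), (8906, 10802), (8907, 10803), (8908, 10810), (8909, 7284), (8910, 10814), (8911, 10815), (8912, 7286), (8913, 10818), (8914, 10813), (8915, 7288), (8916, 8916), (8917, 10822), (8918, 10824), (8919, 7292), (8920, 10827), (8921, 10812), (8922, 7294), (8923, 8923), (8924, 7299), (8925, 7300), (8926, 10835), (8927, 7298), (8928, 10839), (8929, 10832), (8930, 10842), (8931, 10844), (8932, 7301), (8933, 10848), (8934, 7316), (8935, 7307), (8936, 7303), (8937, 7304), (8938, 10856), (8939, 10847), (8940, 7306), (8941, 10852), (8942, 10853), (8943, 10008), (8944, 10009), (8945, 8945), (8946, 10864), (8947, 7312), (8948, 10868), (8949, 7313), (8950, 10870), (8951, 10846), (8952, 7315), (8953, 10849), (8954, 10851), (8955, 10781), (8956, 10877), (8957, 7320), (8958,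 10881), (8959, 7569)]
    ⟨e3 q8896 L179258 q7512, e3 q8897 L179265 q7329, e3 q8898 (flp_d L179268) q7278, e3 q8899 (flp_d L260476) q10793, e3 q8900 L260517 q10798, e3 q8901 L179303 q7862, e3 q8902 (flp_d L553154) q7475, e3 q8903 (flp_d L601468) q7476, e3 q8904 L179368 q7283, e3 q8905 L260666 q10805, e3 q8906 (flp_d L260645) q10802, e3 q8907 (flp_d L260652) q10803, e3 q8908 L260708 q10810, e3 q8909 (flp_d L179405) q7284, e3 q8910 (flp_d L260742) q10814, e3 q8911 L260745 q10815, e3 q8912 (flp_d L179428) q7286, e3 q8913 (flp_d L260778) q10818, e3 q8914 (flp_d L260736) q10813, e3 q8915 L179458 q7288, e3 q8916 L179492 q8916, e3 q8917 L260851 q10822, e3 q8918 L260866 q10824, e3 q8919 (flp_d L179512) q7292, e3 q8920 (flp_d L260899) q10827, e3 q8921 (flp_d L260729) q10812, e3 q8922 L179542 q7294, e3 q8923 L179551 q8923, e3 q8924 L179560 q7299, e3 q8925 L179567 q7300, e3 q8926 L260959 q10835, e3 q8927 (flp_d L179581) q7298, e3 q8928 (flp_d L260995) q10839, e3 q8929 (flp_d L260938) q10832, e3 q8930 L261015 q10842, e3 q8931 L261029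 q10844, e3 q8932 (flp_d L179623) q7301, e3 q8933 (flp_d L261065) q10848, e3 q8934 L179642 q7316, e3 q8935 L179649 q7307, e3 q8936 L179655 q7303, e3 q8937 (flp_d L179658) q7304, e3 q8938 (flp_d L261125) q10856, e3 q8939 (flp_d L261059) q10847, e3 q8940 L179691 q7306, e3 q8941 (flp_d L261093) q10852, e3 q8942 (flp_d L261100) q10853, e3 q8943 (flp_d L245936) q10008, e3 q8944 (flp_d L245943) q10009, e3 q8945 L179752 q8945, e3 q8946 L261223 q10864, e3 q8947 (flp_d L179762) q7312, e3 q8948 (flp_d L261255) q10868, e3 q8949 (flp_d L179775) q7313, e3 q8950 (flp_d L261270) q10870, e3 q8951 (flp_d L261051) q10846, e3 q8952 L179803 q7315, e3 q8953 (flp_d L261071) q10849, e3 q8954 (flp_d L261086) q10851, e3 q8955 (flp_d L260350) q10781, e3 q8956 L261321 q10877, e3 q8957 (flp_d L179836) q7320, e3 q8958 (flp_d L261356) q10881, e3 q8959 L179859 q7569, trivial⟩ (by decide +kernel)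

theorem ce_d_140 : ∀ r, r < 64 → sm gd (Qf (8960 + r)) = Qf (tab Gen.d (8960 + r)) :=
  edges_tab (sm gd) Qf (tab Gen.d) 8960 [(8960, 10743), (8961, 7322), (8962, 7572), (8963, 7324), (8964, 7574), (8965, 7575), (8966, 10789), (8967, 7577), (8968, 7578), (8969, 10895), (8970, 7839), (8971, 10897), (8972, 7883), (8973, 10636), (8974, 10637), (8975, 8975), (8976, 10905), (8977, 7337), (8978, 8978), (8979, 8979), (8980, 7338), (8981, 10635), (8982, 10912), (8983, 7846), (8984, 10915), (8985, 7340), (8986, 10918), (8987, 7342), (8988, 8988), (8989, 8989), (8990, 10139), (8991, 7344), (8992, 10921), (8993, 8993), (8994, 8994), (8995, 10140), (8996, 7352), (8997, 8997), (8998, 10898), (8999, 7882), (9000, 7356), (9001, 10896), (9002, 10928), (9003, 7849), (9004, 10631), (9005, 10632), (9006, 9006), (9007, 9007), (9008, 10935), (9009, 7361), (9010, 10938), (9011, 7666), (9012, 7667), (9013, 7366), (9014, 10941), (9015, 10940), (9016, 7854), (9017, 10946), (9018, 7367), (9019, 10950), (9020, 7852), (9021, 7369), (9022, 10952), (9023,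 10949)]
    ⟨e3 q8960 (flp_d L259214) q10743, e3 q8961 L179869 q7322, e3 q8962 L179881 q7572, e3 q8963 L179886 q7324, e3 q8964 L179894 q7574, e3 q8965 L179905 q7575, e3 q8966 (flp_d L260437) q10789, e3 q8967 L179919 q7577, e3 q8968 L179929 q7578, e3 q8969 L261468 q10895, e3 q8970 (flp_d L601159) q7839, e3 q8971 L261522 q10897, e3 q8972 L179976 q7883, e3 q8973 (flp_d L550890) q10636, e3 q8974 L576197 q10637, e3 q8975 L180017 q8975, e3 q8976 L261648 q10905, e3 q8977 L180036 q7337, e3 q8978 L180051 q8978, e3 q8979 L180057 q8979, e3 q8980 (flp_d L180064) q7338, e3 q8981 L617602 q10635, e3 q8982 L261731 q10912, e3 q8983 (flp_d L622619) q7846, e3 q8984 L261754 q10915, e3 q8985 (flp_d L180107) q7340, e3 q8986 (flp_d L261781) q10918, e3 q8987 L180137 q7342, e3 q8988 L180146 q8988, e3 q8989 L180154 q8989, e3 q8990 L641327 q10139, e3 q8991 (flp_d L180169) q7344, e3 q8992 (flp_d L261867) q10921, e3 q8993 L180196 q8993, e3 q8994 L180201 q8994, e3 q8995 (flp_d L641280) q10140, e3 q8996 L180257 q7352, e3 q8997 L180265 q8997, e3 q8998 (flp_d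 L611888) q10898, e3 q8999 (flp_d L622558) q7882, e3 q9000 (flp_d L180314) q7356, e3 q9001 (flp_d L612413) q10896, e3 q9002 L262107 q10928, e3 q9003 L622577 q7849, e3 q9004 (flp_d L591650) q10631, e3 q9005 (flp_d L591687) q10632, e3 q9006 L180410 q9006, e3 q9007 L180417 q9007, e3 q9008 L262236 q10935, e3 q9009 (flp_d L180431) q7361, e3 q9010 (flp_d L262269) q10938, e3 q9011 L180460 q7666, e3 q9012 L180467 q7667, e3 q9013 L180475 q7366, e3 q9014 L262308 q10941, e3 q9015 (flp_d L262290) q10940, e3 q9016 (flp_d L622095) q7854, e3 q9017 L262345 q10946, e3 q9018 (flp_d L180507) q7367, e3 q9019 (flp_d L262371) q10950, e3 q9020 (flp_d L621717) q7852, e3 q9021 (flp_d L180528) q7369, e3 q9022 (flp_d L262407) q10952, e3 q9023 (flp_d L262367) q10949, trivial⟩ (by decide +kernel)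

theorem ce_d_141 : ∀ r, r < 64 → sm gd (Qf (9024 + r)) = Qf (tab Gen.d (9024 + r)) :=
  edges_tab (sm gd) Qf (tab Gen.d) 9024 [(9024, 7371), (9025, 10124), (9026, 10125), (9027, 9027), (9028, 10959), (9029, 10961), (9030, 7376), (9031, 10964), (9032, 10948), (9033, 7378), (9034, 7684), (9035, 9035), (9036, 10969), (9037, 7382), (9038, 10971), (9039, 7383), (9040, 10973), (9041, 10086), (9042, 7385), (9043, 10669), (9044, 10670), (9045, 10923), (9046, 10926), (9047, 7850), (9048, 7390), (9049, 10981), (9050, 10986), (9051, 7891), (9052, 10691), (9053, 10692), (9054, 9054), (9055, 9055), (9056, 10993), (9057, 7395), (9058, 10996), (9059, 9059), (9060, 9060), (9061, 7400), (9062, 11000), (9063, 10998), (9064, 10689), (9065, 11005), (9066, 7401), (9067, 11009), (9068, 11010), (9069, 7403), (9070, 11013), (9071, 11008), (9072, 7405), (9073, 9073), (9074, 11017), (9075, 10293), (9076, 7409), (9077, 11021), (9078, 11007), (9079, 7411), (9080, 9080), (9081, 9081), (9082, 10289), (9083, 7415), (9084, 11027), (9085, 10294), (9086,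 7418), (9087, 10129)]
    ⟨e3 q9024 L180556 q7371, e3 q9025 (flp_d L247038) q10124, e3 q9026 (flp_d L247046) q10125, e3 q9027 L180592 q9027, e3 q9028 L262483 q10959, e3 q9029 L262497 q10961, e3 q9030 (flp_d L180613) q7376, e3 q9031 (flp_d L262529) q10964, e3 q9032 (flp_d L262361) q10948, e3 q9033 L180641 q7378, e3 q9034 L180651 q7684, e3 q9035 L180661 q9035, e3 q9036 L262569 q10969, e3 q9037 (flp_d L180673) q7382, e3 q9038 (flp_d L262601) q10971, e3 q9039 (flp_d L180685) q7383, e3 q9040 (flp_d L262618) q10973, e3 q9041 (flp_d L640284) q10086, e3 q9042 L180715 q7385, e3 q9043 (flp_d L257821) q10669, e3 q9044 (flp_d L257831) q10670, e3 q9045 (flp_d L261970) q10923, e3 q9046 (flp_d L617572) q10926, e3 q9047 (flp_d L576673) q7850, e3 q9048 (flp_d L180787) q7390, e3 q9049 (flp_d L262766) q10981, e3 q9050 L262809 q10986, e3 q9051 L180820 q7891, e3 q9052 L576471 q10691, e3 q9053 (flp_d L576560) q10692, e3 q9054 L180878 q9054, e3 q9055 L180888 q9055, e3 q9056 L262929 q10993, e3 q9057 (flp_d L180902) q7395, e3 q9058 (flp_d L262960)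 q10996, e3 q9059 L180927 q9059, e3 q9060 L180933 q9060, e3 q9061 L180943 q7400, e3 q9062 L262998 q11000, e3 q9063 (flp_d L262978) q10998, e3 q9064 L622142 q10689, e3 q9065 L263035 q11005, e3 q9066 (flp_d L180978) q7401, e3 q9067 (flp_d L263059) q11009, e3 q9068 L263061 q11010, e3 q9069 (flp_d L180996) q7403, e3 q9070 (flp_d L263090) q11013, e3 q9071 (flp_d L263055) q11008, e3 q9072 L181023 q7405, e3 q9073 L181052 q9073, e3 q9074 L263157 q11017, e3 q9075 L637676 q10293, e3 q9076 (flp_d L181075) q7409, e3 q9077 (flp_d L263202) q11021, e3 q9078 (flp_d L263051) q11007, e3 q9079 L181101 q7411, e3 q9080 L181108 q9080, e3 q9081 L181118 q9081, e3 q9082 L641020 q10289, e3 q9083 (flp_d L181132) q7415, e3 q9084 (flp_d L263268) q11027, e3 q9085 L641241 q10294, e3 q9086 L181173 q7418, e3 q9087 (flp_d L637552) q10129, trivial⟩ (by decide +kernel)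

theorem ce_d_142 : ∀ r, r < 64 → sm gd (Qf (9088 + r)) = Qf (tab Gen.d (9088 + r)) :=
  edges_tab (sm gd) Qf (tab Gen.d) 9088 [(9088, 10137), (9089, 7469), (9090, 7422), (9091, 10984), (9092, 7890), (9093, 7425), (9094, 11036), (9095, 11034), (9096, 10980), (9097, 11041), (9098, 7426), (9099, 11044), (9100, 10678), (9101, 10679), (9102, 9102), (9103, 11048), (9104, 11050), (9105, 7432), (9106, 11053), (9107, 11043), (9108, 7434), (9109, 7706), (9110, 7439), (9111, 7440), (9112, 11060), (9113, 7438), (9114, 11064), (9115, 11058), (9116, 11067), (9117, 11069), (9118, 7441), (9119, 11073), (9120, 7456), (9121, 7447), (9122, 7443), (9123, 7444), (9124, 11080), (9125, 11072), (9126, 7446), (9127, 11077), (9128, 11078), (9129, 10272), (9130, 10273), (9131, 9131), (9132, 11088), (9133, 7452), (9134, 11092), (9135, 7453), (9136, 11094), (9137, 11071), (9138, 7455), (9139, 11074), (9140, 11076), (9141, 11024), (9142, 11101), (9143, 7460), (9144, 11105), (9145, 10742), (9146, 7570), (9147, 7462), (9148, 10745), (9149, 7464), (9150,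 10747), (9151, 10748)]
    ⟨e3 q9088 L644063 q10137, e3 q9089 L181192 q7469, e3 q9090 (flp_d L181195) q7422, e3 q9091 L622151 q10984, e3 q9092 (flp_d L622396) q7890, e3 q9093 L181278 q7425, e3 q9094 L263498 q11036, e3 q9095 (flp_d L263478) q11034, e3 q9096 (flp_d L622119) q10980, e3 q9097 L263541 q11041, e3 q9098 (flp_d L181315) q7426, e3 q9099 (flp_d L263573) q11044, e3 q9100 (flp_d L591946) q10678, e3 q9101 (flp_d L576041) q10679, e3 q9102 L181410 q9102, e3 q9103 L263696 q11048, e3 q9104 L263713 q11050, e3 q9105 (flp_d L181433) q7432, e3 q9106 (flp_d L263746) q11053, e3 q9107 (flp_d L263561) q11043, e3 q9108 L181464 q7434, e3 q9109 L181473 q7706, e3 q9110 L181482 q7439, e3 q9111 L181487 q7440, e3 q9112 L263800 q11060, e3 q9113 (flp_d L181498) q7438, e3 q9114 (flp_d L263826) q11064, e3 q9115 (flp_d L263784) q11058, e3 q9116 L263844 q11067, e3 q9117 L263856 q11069, e3 q9118 (flp_d L181531) q7441, e3 q9119 (flp_d L263882) q11073, e3 q9120 L181545 q7456, e3 q9121 L181549 q7447, e3 q9122 L181553 q7443, e3 q9123 (flp_d L181555)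 q7444, e3 q9124 (flp_d L263926) q11080, e3 q9125 (flp_d L263878) q11072, e3 q9126 L181585 q7446, e3 q9127 (flp_d L263904) q11077, e3 q9128 (flp_d L263908) q11078, e3 q9129 (flp_d L248427) q10272, e3 q9130 (flp_d L248435) q10273, e3 q9131 L181641 q9131, e3 q9132 L264020 q11088, e3 q9133 (flp_d L181654) q7452, e3 q9134 (flp_d L264057) q11092, e3 q9135 (flp_d L181669) q7453, e3 q9136 (flp_d L264072) q11094, e3 q9137 (flp_d L263872) q11071, e3 q9138 L181697 q7455, e3 q9139 (flp_d L263888) q11074, e3 q9140 (flp_d L263900) q11076, e3 q9141 (flp_d L263223) q11024, e3 q9142 L264126 q11101, e3 q9143 (flp_d L181730) q7460, e3 q9144 (flp_d L264160) q11105, e3 q9145 (flp_d L259209) q10742, e3 q9146 L181757 q7570, e3 q9147 L181764 q7462, e3 q9148 (flp_d L259230) q10745, e3 q9149 L181779 q7464, e3 q9150 (flp_d L259242) q10747, e3 q9151 (flp_d L259252) q10748, trivial⟩ (by decide +kernel)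

theorem ce_d_143 : ∀ r, r < 64 → sm gd (Qf (9152 + r)) = Qf (tab Gen.d (9152 + r)) :=
  edges_tab (sm gd) Qf (tab Gen.d) 9152 [(9152, 11028), (9153, 10750), (9154, 10751), (9155, 11119), (9156, 10519), (9157, 7867), (9158, 10516), (9159, 10518), (9160, 11125), (9161, 7473), (9162, 11127), (9163, 10800), (9164, 10801), (9165, 7580), (9166, 10510), (9167, 10511), (9168, 10512), (9169, 9169), (9170, 7485), (9171, 7486), (9172, 11137), (9173, 7484), (9174, 11140), (9175, 11134), (9176, 11143), (9177, 11145), (9178, 7487), (9179, 11149), (9180, 7500), (9181, 7493), (9182, 7489), (9183, 7490), (9184, 11156), (9185, 11148), (9186, 7492), (9187, 11153), (9188, 7586), (9189, 11160), (9190, 7496), (9191, 11164), (9192, 7497), (9193, 11166), (9194, 11147), (9195, 7499), (9196, 11150), (9197, 11152), (9198, 11171), (9199, 7504), (9200, 11175), (9201, 10783), (9202, 11026), (9203, 7506), (9204, 10785), (9205, 7508), (9206, 10787), (9207, 10788), (9208, 7576), (9209, 10790), (9210, 10791), (9211, 11189), (9212, 7515), (9213, 11139), (9214,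 11190), (9215, 11191)]
    ⟨e3 q9152 (flp_d L263307) q11028, e3 q9153 (flp_d L259265) q10750, e3 q9154 (flp_d L259273) q10751, e3 q9155 L264265 q11119, e3 q9156 (flp_d L552153) q10519, e3 q9157 (flp_d L554228) q7867, e3 q9158 (flp_d L546967) q10516, e3 q9159 (flp_d L546939) q10518, e3 q9160 L264505 q11125, e3 q9161 (flp_d L181962) q7473, e3 q9162 (flp_d L264541) q11127, e3 q9163 (flp_d L554169) q10800, e3 q9164 L551233 q10801, e3 q9165 L182055 q7580, e3 q9166 (flp_d L562068) q10510, e3 q9167 (flp_d L562050) q10511, e3 q9168 L562107 q10512, e3 q9169 L182121 q9169, e3 q9170 L182131 q7485, e3 q9171 L182139 q7486, e3 q9172 L264776 q11137, e3 q9173 (flp_d L182154) q7484, e3 q9174 (flp_d L264808) q11140, e3 q9175 (flp_d L264755) q11134, e3 q9176 L264826 q11143, e3 q9177 L264838 q11145, e3 q9178 (flp_d L182191) q7487, e3 q9179 (flp_d L264868) q11149, e3 q9180 L182208 q7500, e3 q9181 L182213 q7493, e3 q9182 L182217 q7489, e3 q9183 (flp_d L182220) q7490, e3 q9184 (flp_d L264918) q11156, e3 q9185 (flp_d L264864) q11148, e3 q9186 L182247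 q7492, e3 q9187 (flp_d L264897) q11153, e3 q9188 L182298 q7586, e3 q9189 L265000 q11160, e3 q9190 (flp_d L182311) q7496, e3 q9191 (flp_d L265037) q11164, e3 q9192 (flp_d L182327) q7497, e3 q9193 (flp_d L265053) q11166, e3 q9194 (flp_d L264858) q11147, e3 q9195 L182359 q7499, e3 q9196 (flp_d L264874) q11150, e3 q9197 (flp_d L264887) q11152, e3 q9198 L265110 q11171, e3 q9199 (flp_d L182394) q7504, e3 q9200 (flp_d L265146) q11175, e3 q9201 (flp_d L260386) q10783, e3 q9202 (flp_d L263262) q11026, e3 q9203 L182428 q7506, e3 q9204 (flp_d L260406) q10785, e3 q9205 L182444 q7508, e3 q9206 (flp_d L260418) q10787, e3 q9207 (flp_d L260428) q10788, e3 q9208 L182471 q7576, e3 q9209 (flp_d L260442) q10790, e3 q9210 (flp_d L260451) q10791, e3 q9211 L265256 q11189, e3 q9212 L182509 q7515, e3 q9213 L547309 q11139, e3 q9214 (flp_d L265286) q11190, e3 q9215 (flp_d L265292) q11191, trivial⟩ (by decide +kernel)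

theorem ce_d_144 : ∀ r, r < 64 → sm gd (Qf (9216 + r)) = Qf (tab Gen.d (9216 + r)) :=
  edges_tab (sm gd) Qf (tab Gen.d) 9216 [(9216, 7519), (9217, 7520), (9218, 11199), (9219, 7518), (9220, 11201), (9221, 11196), (9222, 11204), (9223, 11206), (9224, 7521), (9225, 11209), (9226, 7531), (9227, 7523), (9228, 10770), (9229, 7611), (9230, 11214), (9231, 7527), (9232, 11218), (9233, 7528), (9234, 11220), (9235, 11208), (9236, 7530), (9237, 11210), (9238, 11211), (9239, 11057), (9240, 7539), (9241, 11229), (9242, 11231), (9243, 7536), (9244, 11235), (9245, 7623), (9246, 7925), (9247, 7538), (9248, 11227), (9249, 11243), (9250, 7540), (9251, 11247), (9252, 7541), (9253, 11250), (9254, 7561), (9255, 7549), (9256, 7543), (9257, 7563), (9258, 7774), (9259, 7564), (9260, 7551), (9261, 7552), (9262, 11154), (9263, 11249), (9264, 7548), (9265, 11254), (9266, 11255), (9267, 11263), (9268, 11264), (9269, 10470), (9270, 10471), (9271, 11273), (9272, 7556), (9273, 11277), (9274, 11245), (9275, 11091), (9276, 7558), (9277, 11248), (9278,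 7560), (9279, 11251)]
    ⟨e3 q9216 L182648 q7519, e3 q9217 L182656 q7520, e3 q9218 L265554 q11199, e3 q9219 (flp_d L182671) q7518, e3 q9220 (flp_d L265594) q11201, e3 q9221 (flp_d L265531) q11196, e3 q9222 L265614 q11204, e3 q9223 L265628 q11206, e3 q9224 (flp_d L182714) q7521, e3 q9225 (flp_d L265666) q11209, e3 q9226 L182735 q7531, e3 q9227 L182748 q7523, e3 q9228 (flp_d L575912) q10770, e3 q9229 L182855 q7611, e3 q9230 L265839 q11214, e3 q9231 (flp_d L182867) q7527, e3 q9232 (flp_d L265881) q11218, e3 q9233 (flp_d L182883) q7528, e3 q9234 (flp_d L265901) q11220, e3 q9235 (flp_d L265652) q11208, e3 q9236 L182920 q7530, e3 q9237 (flp_d L265672) q11210, e3 q9238 (flp_d L265690) q11211, e3 q9239 (flp_d L263777) q11057, e3 q9240 L182963 q7539, e3 q9241 L265998 q11229, e3 q9242 L266010 q11231, e3 q9243 (flp_d L182982) q7536, e3 q9244 (flp_d L266044) q11235, e3 q9245 L183001 q7623, e3 q9246 L183008 q7925, e3 q9247 L183012 q7538, e3 q9248 (flp_d L265987) q11227, e3 q9249 L266096 q11243, e3 q9250 (flp_d L183028) q7540, e3 q9251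 (flp_d L266120) q11247, e3 q9252 (flp_d L183038) q7541, e3 q9253 (flp_d L266140) q11250, e3 q9254 L183056 q7561, e3 q9255 L183062 q7549, e3 q9256 L183066 q7543, e3 q9257 L183072 q7563, e3 q9258 L183080 q7774, e3 q9259 L183086 q7564, e3 q9260 L183091 q7551, e3 q9261 L183096 q7552, e3 q9262 (flp_d L264905) q11154, e3 q9263 (flp_d L266136) q11249, e3 q9264 L183117 q7548, e3 q9265 (flp_d L266169) q11254, e3 q9266 (flp_d L266173) q11255, e3 q9267 (flp_d L266225) q11263, e3 q9268 (flp_d L266229) q11264, e3 q9269 (flp_d L250507) q10470, e3 q9270 (flp_d L250514) q10471, e3 q9271 L266351 q11273, e3 q9272 (flp_d L183204) q7556, e3 q9273 (flp_d L266389) q11277, e3 q9274 (flp_d L266114) q11245, e3 q9275 (flp_d L264049) q11091, e3 q9276 L183240 q7558, e3 q9277 (flp_d L266129) q11248, e3 q9278 L183257 q7560, e3 q9279 (flp_d L266147) q11251, trivial⟩ (by decide +kernel)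

theorem ce_d_145 : ∀ r, r < 64 → sm gd (Qf (9280 + r)) = Qf (tab Gen.d (9280 + r)) :=
  edges_tab (sm gd) Qf (tab Gen.d) 9280 [(9280, 11253), (9281, 10537), (9282, 11257), (9283, 11259), (9284, 11291), (9285, 7566), (9286, 11292), (9287, 10879), (9288, 11104), (9289, 7568), (9290, 10882), (9291, 11300), (9292, 10884), (9293, 11109), (9294, 11180), (9295, 10887), (9296, 10888), (9297, 11183), (9298, 10890), (9299, 10891), (9300, 11305), (9301, 10893), (9302, 11307), (9303, 7579), (9304, 11129), (9305, 9305), (9306, 7585), (9307, 10349), (9308, 10350), (9309, 10351), (9310, 11311), (9311, 11315), (9312, 7587), (9313, 10337), (9314, 9314), (9315, 10338), (9316, 10332), (9317, 7879), (9318, 7592), (9319, 11324), (9320, 9320), (9321, 9321), (9322, 7594), (9323, 9323), (9324, 10521), (9325, 9325), (9326, 9326), (9327, 7651), (9328, 9328), (9329, 9329), (9330, 7653), (9331, 9331), (9332, 9332), (9333, 11336), (9334, 9334), (9335, 11338), (9336, 7605), (9337, 9337), (9338, 7610), (9339, 10574), (9340, 10577), (9341, 10483), (9342,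 11327), (9343, 11344)]
    ⟨e3 q9280 (flp_d L266163) q11253, e3 q9281 (flp_d L562140) q10537, e3 q9282 (flp_d L266185) q11257, e3 q9283 (flp_d L266199) q11259, e3 q9284 L266514 q11291, e3 q9285 (flp_d L183319) q7566, e3 q9286 (flp_d L266537) q11292, e3 q9287 (flp_d L261344) q10879, e3 q9288 (flp_d L264153) q11104, e3 q9289 L183354 q7568, e3 q9290 (flp_d L261364) q10882, e3 q9291 L266609 q11300, e3 q9292 (flp_d L261381) q10884, e3 q9293 (flp_d L264189) q11109, e3 q9294 (flp_d L265184) q11180, e3 q9295 (flp_d L261399) q10887, e3 q9296 (flp_d L261411) q10888, e3 q9297 (flp_d L265212) q11183, e3 q9298 (flp_d L261427) q10890, e3 q9299 (flp_d L261438) q10891, e3 q9300 L266691 q11305, e3 q9301 (flp_d L261457) q10893, e3 q9302 L266708 q11307, e3 q9303 (flp_d L183470) q7579, e3 q9304 (flp_d L264643) q11129, e3 q9305 L183942 q9305, e3 q9306 L183948 q7585, e3 q9307 L561899 q10349, e3 q9308 L561893 q10350, e3 q9309 L561943 q10351, e3 q9310 (flp_d L267414) q11311, e3 q9311 L267756 q11315, e3 q9312 (flp_d L184191) q7587, e3 q9313 (flp_d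 L542908) q10337, e3 q9314 L184218 q9314, e3 q9315 (flp_d L546827) q10338, e3 q9316 L552072 q10332, e3 q9317 (flp_d L552094) q7879, e3 q9318 (flp_d L184287) q7592, e3 q9319 (flp_d L267916) q11324, e3 q9320 L184310 q9320, e3 q9321 L184316 q9321, e3 q9322 L184321 q7594, e3 q9323 L184329 q9323, e3 q9324 (flp_d L615682) q10521, e3 q9325 L184343 q9325, e3 q9326 L184349 q9326, e3 q9327 L184358 q7651, e3 q9328 L184362 q9328, e3 q9329 L184372 q9329, e3 q9330 L184384 q7653, e3 q9331 L184388 q9331, e3 q9332 L184397 q9332, e3 q9333 L268051 q11336, e3 q9334 L184414 q9334, e3 q9335 L268066 q11338, e3 q9336 (flp_d L184423) q7605, e3 q9337 L184566 q9337, e3 q9338 L184573 q7610, e3 q9339 (flp_d L562391) q10574, e3 q9340 L562362 q10577, e3 q9341 L562431 q10483, e3 q9342 (flp_d L615719) q11327, e3 q9343 L268505 q11344, trivial⟩ (by decide +kernel)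

theorem ce_d_146 : ∀ r, r < 64 → sm gd (Qf (9344 + r)) = Qf (tab Gen.d (9344 + r)) :=
  edges_tab (sm gd) Qf (tab Gen.d) 9344 [(9344, 7612), (9345, 10572), (9346, 9346), (9347, 10576), (9348, 10579), (9349, 10581), (9350, 9350), (9351, 11352), (9352, 7625), (9353, 11355), (9354, 7619), (9355, 11359), (9356, 7620), (9357, 11361), (9358, 11233), (9359, 7622), (9360, 11236), (9361, 11238), (9362, 11366), (9363, 7626), (9364, 7634), (9365, 9365), (9366, 7637), (9367, 7639), (9368, 7642), (9369, 7631), (9370, 10590), (9371, 11367), (9372, 9372), (9373, 7633), (9374, 11369), (9375, 11378), (9376, 10541), (9377, 9377), (9378, 10535), (9379, 11371), (9380, 10543), (9381, 10536), (9382, 11372), (9383, 10544), (9384, 11384), (9385, 10545), (9386, 11386), (9387, 7644), (9388, 9388), (9389, 9389), (9390, 9390), (9391, 11389), (9392, 7656), (9393, 9749), (9394, 7658), (9395, 7734), (9396, 9845), (9397, 10634), (9398, 7663), (9399, 11390), (9400, 9835), (9401, 7665), (9402, 10939), (9403, 9830), (9404, 7682), (9405, 7674), (9406, 7670),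 (9407, 7671)]
    ⟨e3 q9344 (flp_d L184727) q7612, e3 q9345 L512848 q10572, e3 q9346 L184757 q9346, e3 q9347 (flp_d L562341) q10576, e3 q9348 L543394 q10579, e3 q9349 (flp_d L543228) q10581, e3 q9350 L184844 q9350, e3 q9351 L268684 q11352, e3 q9352 L184859 q7625, e3 q9353 L268703 q11355, e3 q9354 (flp_d L184869) q7619, e3 q9355 (flp_d L268734) q11359, e3 q9356 (flp_d L184881) q7620, e3 q9357 (flp_d L268749) q11361, e3 q9358 (flp_d L266032) q11233, e3 q9359 L184908 q7622, e3 q9360 (flp_d L266050) q11236, e3 q9361 (flp_d L266067) q11238, e3 q9362 L268800 q11366, e3 q9363 (flp_d L184942) q7626, e3 q9364 L184963 q7634, e3 q9365 L184968 q9365, e3 q9366 L184983 q7637, e3 q9367 L184996 q7639, e3 q9368 L185020 q7642, e3 q9369 (flp_d L185039) q7631, e3 q9370 L646841 q10590, e3 q9371 (flp_d L268821) q11367, e3 q9372 L185066 q9372, e3 q9373 L185073 q7633, e3 q9374 (flp_d L268841) q11369, e3 q9375 L269029 q11378, e3 q9376 (flp_d L546443) q10541, e3 q9377 L185101 q9377, e3 q9378 (flp_d L562182) q10535, e3 q9379 (flp_d L268873) q11371,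 e3 q9380 L546415 q10543, e3 q9381 L542582 q10536, e3 q9382 (flp_d L268900) q11372, e3 q9383 (flp_d L546460) q10544, e3 q9384 L269105 q11384, e3 q9385 L543467 q10545, e3 q9386 L269118 q11386, e3 q9387 (flp_d L185183) q7644, e3 q9388 L185252 q9388, e3 q9389 L185301 q9389, e3 q9390 L185333 q9390, e3 q9391 L269343 q11389, e3 q9392 (flp_d L185346) q7656, e3 q9393 (flp_d L547947) q9749, e3 q9394 (flp_d L185360) q7658, e3 q9395 (flp_d L647839) q7734, e3 q9396 L642775 q9845, e3 q9397 (flp_d L549789) q10634, e3 q9398 (flp_d L185653) q7663, e3 q9399 (flp_d L269873) q11390, e3 q9400 (flp_d L642733) q9835, e3 q9401 L185684 q7665, e3 q9402 (flp_d L262280) q10939, e3 q9403 (flp_d L645333) q9830, e3 q9404 L185794 q7682, e3 q9405 L185801 q7674, e3 q9406 L185806 q7670, e3 q9407 (flp_d L185811) q7671, trivial⟩ (by decide +kernel)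

theorem ce_d_147 : ∀ r, r < 64 → sm gd (Qf (9408 + r)) = Qf (tab Gen.d (9408 + r)) :=
  edges_tab (sm gd) Qf (tab Gen.d) 9408 [(9408, 11399), (9409, 9829), (9410, 7673), (9411, 11396), (9412, 11397), (9413, 9413), (9414, 9414), (9415, 7678), (9416, 11405), (9417, 7679), (9418, 11406), (9419, 9825), (9420, 7681), (9421, 11393), (9422, 11395), (9423, 9423), (9424, 7685), (9425, 11415), (9426, 9426), (9427, 9427), (9428, 7687), (9429, 9429), (9430, 7689), (9431, 9431), (9432, 9432), (9433, 9433), (9434, 9434), (9435, 9435), (9436, 11429), (9437, 9914), (9438, 7704), (9439, 7697), (9440, 10685), (9441, 7700), (9442, 11433), (9443, 7701), (9444, 11434), (9445, 9899), (9446, 7703), (9447, 10119), (9448, 11430), (9449, 9449), (9450, 9450), (9451, 7977), (9452, 7708), (9453, 9987), (9454, 9891), (9455, 7729), (9456, 7718), (9457, 7712), (9458, 7731), (9459, 11075), (9460, 7732), (9461, 7720), (9462, 7721), (9463, 9463), (9464, 9888), (9465, 7717), (9466, 11448), (9467, 11449), (9468, 11457), (9469, 11458), (9470, 9470), (9471, 9471)]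
    ⟨e3 q9408 (flp_d L270113) q11399, e3 q9409 L645181 q9829, e3 q9410 L185842 q7673, e3 q9411 (flp_d L270080) q11396, e3 q9412 (flp_d L270088) q11397, e3 q9413 L185876 q9413, e3 q9414 L185883 q9414, e3 q9415 (flp_d L185917) q7678, e3 q9416 (flp_d L270248) q11405, e3 q9417 (flp_d L185934) q7679, e3 q9418 (flp_d L270264) q11406, e3 q9419 (flp_d L635733) q9825, e3 q9420 L185963 q7681, e3 q9421 (flp_d L270056) q11393, e3 q9422 (flp_d L270072) q11395, e3 q9423 L185989 q9423, e3 q9424 (flp_d L186001) q7685, e3 q9425 (flp_d L270355) q11415, e3 q9426 L186026 q9426, e3 q9427 L186032 q9427, e3 q9428 L186036 q7687, e3 q9429 L186049 q9429, e3 q9430 L186053 q7689, e3 q9431 L186061 q9431, e3 q9432 L186070 q9432, e3 q9433 L186078 q9433, e3 q9434 L186082 q9434, e3 q9435 L186092 q9435, e3 q9436 L270465 q11429, e3 q9437 L642680 q9914, e3 q9438 L186377 q7704, e3 q9439 L186389 q7697, e3 q9440 (flp_d L568098) q10685, e3 q9441 (flp_d L186501) q7700, e3 q9442 (flp_d L271115) q11433, e3 q9443 (flp_d L186521) q7701, e3 q9444 (flp_d L271132) q11434,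 e3 q9445 (flp_d L642655) q9899, e3 q9446 L186551 q7703, e3 q9447 L642461 q10119, e3 q9448 (flp_d L270932) q11430, e3 q9449 L186573 q9449, e3 q9450 L186622 q9450, e3 q9451 L186628 q7977, e3 q9452 L186633 q7708, e3 q9453 (flp_d L635618) q9987, e3 q9454 (flp_d L645356) q9891, e3 q9455 L186692 q7729, e3 q9456 L186699 q7718, e3 q9457 L186704 q7712, e3 q9458 L186710 q7731, e3 q9459 (flp_d L263894) q11075, e3 q9460 L186722 q7732, e3 q9461 L186728 q7720, e3 q9462 L186734 q7721, e3 q9463 L186742 q9463, e3 q9464 L645190 q9888, e3 q9465 L186753 q7717, e3 q9466 (flp_d L271389) q11448, e3 q9467 (flp_d L271394) q11449, e3 q9468 (flp_d L271444) q11457, e3 q9469 (flp_d L271450) q11458, e3 q9470 L186807 q9470, e3 q9471 L186815 q9471, trivial⟩ (by decide +kernel)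

theorem ce_d_148 : ∀ r, r < 64 → sm gd (Qf (9472 + r)) = Qf (tab Gen.d (9472 + r)) :=
  edges_tab (sm gd) Qf (tab Gen.d) 9472 [(9472, 7724), (9473, 11466), (9474, 9972), (9475, 7791), (9476, 7726), (9477, 9881), (9478, 7728), (9479, 11445), (9480, 11447), (9481, 9481), (9482, 11451), (9483, 11453), (9484, 11480), (9485, 11308), (9486, 9486), (9487, 7736), (9488, 9488), (9489, 11333), (9490, 9490), (9491, 7805), (9492, 9492), (9493, 9493), (9494, 9494), (9495, 9495), (9496, 9496), (9497, 9497), (9498, 11495), (9499, 9499), (9500, 11497), (9501, 7747), (9502, 7748), (9503, 11500), (9504, 7749), (9505, 11502), (9506, 7760), (9507, 7751), (9508, 7762), (9509, 7763), (9510, 9510), (9511, 7755), (9512, 11510), (9513, 11499), (9514, 11432), (9515, 7757), (9516, 11501), (9517, 7759), (9518, 11503), (9519, 11504), (9520, 9520), (9521, 11506), (9522, 11507), (9523, 11524), (9524, 7765), (9525, 11526), (9526, 7790), (9527, 9982), (9528, 7767), (9529, 7793), (9530, 7779), (9531, 7769), (9532, 7795), (9533, 11252), (9534, 7796), (9535,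 7781)]
    ⟨e3 q9472 (flp_d L186845) q7724, e3 q9473 (flp_d L271611) q11466, e3 q9474 L635762 q9972, e3 q9475 L186877 q7791, e3 q9476 L186883 q7726, e3 q9477 L635695 q9881, e3 q9478 L186897 q7728, e3 q9479 (flp_d L271367) q11445, e3 q9480 (flp_d L271382) q11447, e3 q9481 L186920 q9481, e3 q9482 (flp_d L271409) q11451, e3 q9483 (flp_d L271422) q11453, e3 q9484 L271714 q11480, e3 q9485 L647803 q11308, e3 q9486 L186966 q9486, e3 q9487 L186978 q7736, e3 q9488 L186986 q9488, e3 q9489 (flp_d L645468) q11333, e3 q9490 L187003 q9490, e3 q9491 L187010 q7805, e3 q9492 L187021 q9492, e3 q9493 L187025 q9493, e3 q9494 L187034 q9494, e3 q9495 L187042 q9495, e3 q9496 L187046 q9496, e3 q9497 L187055 q9497, e3 q9498 L271878 q11495, e3 q9499 L187071 q9499, e3 q9500 L271893 q11497, e3 q9501 (flp_d L187079) q7747, e3 q9502 (flp_d L187329) q7748, e3 q9503 (flp_d L272321) q11500, e3 q9504 (flp_d L187347) q7749, e3 q9505 (flp_d L272350) q11502, e3 q9506 L187374 q7760, e3 q9507 L187389 q7751, e3 q9508 L187395 q7762, e3 q9509 L187414 q7763, e3 q9510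 L187442 q9510, e3 q9511 (flp_d L187553) q7755, e3 q9512 (flp_d L272649) q11510, e3 q9513 (flp_d L272309) q11499, e3 q9514 (flp_d L271108) q11432, e3 q9515 L187596 q7757, e3 q9516 (flp_d L272334) q11501, e3 q9517 L187615 q7759, e3 q9518 (flp_d L272357) q11503, e3 q9519 (flp_d L272377) q11504, e3 q9520 L187642 q9520, e3 q9521 (flp_d L272408) q11506, e3 q9522 (flp_d L272425) q11507, e3 q9523 L272772 q11524, e3 q9524 (flp_d L187680) q7765, e3 q9525 (flp_d L272817) q11526, e3 q9526 L187704 q7790, e3 q9527 L635658 q9982, e3 q9528 L187714 q7767, e3 q9529 L187725 q7793, e3 q9530 L187734 q7779, e3 q9531 L187739 q7769, e3 q9532 L187746 q7795, e3 q9533 (flp_d L266157) q11252, e3 q9534 L187763 q7796, e3 q9535 L187770 q7781, trivial⟩ (by decide +kernel)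

theorem ce_d_149 : ∀ r, r < 64 → sm gd (Qf (9536 + r)) = Qf (tab Gen.d (9536 + r)) :=
  edges_tab (sm gd) Qf (tab Gen.d) 9536 [(9536, 7782), (9537, 9537), (9538, 7798), (9539, 11258), (9540, 7799), (9541, 11260), (9542, 11261), (9543, 11556), (9544, 7783), (9545, 7784), (9546, 10830), (9547, 11536), (9548, 11537), (9549, 11545), (9550, 11546), (9551, 11557), (9552, 11558), (9553, 9553), (9554, 7811), (9555, 11525), (9556, 7789), (9557, 11527), (9558, 11568), (9559, 11529), (9560, 11470), (9561, 9561), (9562, 11533), (9563, 11535), (9564, 9564), (9565, 11539), (9566, 11541), (9567, 11573), (9568, 11549), (9569, 11575), (9570, 7800), (9571, 9571), (9572, 9572), (9573, 9573), (9574, 9746), (9575, 9575), (9576, 9576), (9577, 11581), (9578, 9578), (9579, 9579), (9580, 9580), (9581, 9581), (9582, 9582), (9583, 11583), (9584, 9584), (9585, 11585), (9586, 7823), (9587, 7826), (9588, 7829), (9589, 9756), (9590, 7831), (9591, 11387), (9592, 9592), (9593, 9593), (9594, 7896), (9595, 10930), (9596, 10951), (9597, 10943), (9598, 9598),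 (9599, 7858)]
    ⟨e3 q9536 L187776 q7782, e3 q9537 L187787 q9537, e3 q9538 L187792 q7798, e3 q9539 (flp_d L266193) q11258, e3 q9540 L187809 q7799, e3 q9541 (flp_d L266206) q11260, e3 q9542 (flp_d L266213) q11261, e3 q9543 L273049 q11556, e3 q9544 L187837 q7783, e3 q9545 L187844 q7784, e3 q9546 (flp_d L547485) q10830, e3 q9547 (flp_d L272896) q11536, e3 q9548 (flp_d L272904) q11537, e3 q9549 (flp_d L272967) q11545, e3 q9550 (flp_d L272975) q11546, e3 q9551 (flp_d L273060) q11557, e3 q9552 (flp_d L273068) q11558, e3 q9553 L187937 q9553, e3 q9554 (flp_d L647769) q7811, e3 q9555 (flp_d L272806) q11525, e3 q9556 L188003 q7789, e3 q9557 (flp_d L272825) q11527, e3 q9558 L273311 q11568, e3 q9559 (flp_d L272842) q11529, e3 q9560 (flp_d L271642) q11470, e3 q9561 L188046 q9561, e3 q9562 (flp_d L272869) q11533, e3 q9563 (flp_d L272888) q11535, e3 q9564 L188072 q9564, e3 q9565 (flp_d L272922) q11539, e3 q9566 (flp_d L272940) q11541, e3 q9567 L273384 q11573, e3 q9568 (flp_d L272999) q11549, e3 q9569 L273401 q11575, e3 q9570 (flp_d L188117)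 q7800, e3 q9571 L188198 q9571, e3 q9572 L188253 q9572, e3 q9573 L188283 q9573, e3 q9574 (flp_d L549039) q9746, e3 q9575 L188358 q9575, e3 q9576 L188380 q9576, e3 q9577 L273801 q11581, e3 q9578 L188398 q9578, e3 q9579 L188422 q9579, e3 q9580 L188433 q9580, e3 q9581 L188449 q9581, e3 q9582 L188459 q9582, e3 q9583 L273878 q11583, e3 q9584 L188477 q9584, e3 q9585 L273895 q11585, e3 q9586 (flp_d L188487) q7823, e3 q9587 (flp_d L188587) q7826, e3 q9588 (flp_d L188655) q7829, e3 q9589 (flp_d L547985) q9756, e3 q9590 (flp_d L188669) q7831, e3 q9591 (flp_d L269126) q11387, e3 q9592 L189325 q9592, e3 q9593 L193743 q9593, e3 q9594 L576780 q7896, e3 q9595 (flp_d L617521) q10930, e3 q9596 (flp_d L621688) q10951, e3 q9597 (flp_d L617555) q10943, e3 q9598 L195406 q9598, e3 q9599 L196728 q7858, trivial⟩ (by decide +kernel)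

theorem ce_d_150 : ∀ r, r < 64 → sm gd (Qf (9600 + r)) = Qf (tab Gen.d (9600 + r)) :=
  edges_tab (sm gd) Qf (tab Gen.d) 9600 [(9600, 7859), (9601, 7918), (9602, 7919), (9603, 7881), (9604, 7861), (9605, 7905), (9606, 11600), (9607, 7864), (9608, 11602), (9609, 7865), (9610, 7929), (9611, 7922), (9612, 7921), (9613, 7871), (9614, 11607), (9615, 9615), (9616, 10838), (9617, 7873), (9618, 7878), (9619, 7920), (9620, 11225), (9621, 11321), (9622, 9622), (9623, 10900), (9624, 10639), (9625, 10654), (9626, 10650), (9627, 9627), (9628, 10914), (9629, 10988), (9630, 7893), (9631, 11617), (9632, 10697), (9633, 11591), (9634, 10721), (9635, 11063), (9636, 7899), (9637, 7902), (9638, 10713), (9639, 11621), (9640, 9640), (9641, 7906), (9642, 7907), (9643, 11598), (9644, 11599), (9645, 10796), (9646, 11625), (9647, 11624), (9648, 7910), (9649, 11631), (9650, 7944), (9651, 7912), (9652, 7915), (9653, 11121), (9654, 11595), (9655, 11596), (9656, 11597), (9657, 11636), (9658, 11605), (9659, 11604), (9660, 11234), (9661, 7924), (9662, 11239),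 (9663, 11240)]
    ⟨e3 q9600 L196738 q7859, e3 q9601 (flp_d L547246) q7918, e3 q9602 L590556 q7919, e3 q9603 (flp_d L533260) q7881, e3 q9604 L197142 q7861, e3 q9605 L551375 q7905, e3 q9606 L286927 q11600, e3 q9607 (flp_d L197327) q7864, e3 q9608 (flp_d L286962) q11602, e3 q9609 (flp_d L197370) q7865, e3 q9610 L617274 q7929, e3 q9611 (flp_d L615144) q7922, e3 q9612 (flp_d L615138) q7921, e3 q9613 (flp_d L197627) q7871, e3 q9614 (flp_d L287398) q11607, e3 q9615 L197649 q9615, e3 q9616 (flp_d L260989) q10838, e3 q9617 L197661 q7873, e3 q9618 L197730 q7878, e3 q9619 L617282 q7920, e3 q9620 L615115 q11225, e3 q9621 L552084 q11321, e3 q9622 L197848 q9622, e3 q9623 L621558 q10900, e3 q9624 L621548 q10639, e3 q9625 L621681 q10654, e3 q9626 (flp_d L612200) q10650, e3 q9627 L199015 q9627, e3 q9628 L611743 q10914, e3 q9629 (flp_d L622162) q10988, e3 q9630 (flp_d L199592) q7893, e3 q9631 (flp_d L290199) q11617, e3 q9632 (flp_d L622168) q10697, e3 q9633 (flp_d L576792) q11591, e3 q9634 (flp_d L622057) q10721, e3 q9635 (flp_d L263822)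 q11063, e3 q9636 L200437 q7899, e3 q9637 L200521 q7902, e3 q9638 L617222 q10713, e3 q9639 (flp_d L291578) q11621, e3 q9640 L200595 q9640, e3 q9641 L201034 q7906, e3 q9642 L201045 q7907, e3 q9643 (flp_d L547252) q11598, e3 q9644 (flp_d L547292) q11599, e3 q9645 (flp_d L615383) q10796, e3 q9646 (flp_d L614702) q11625, e3 q9647 (flp_d L615355) q11624, e3 q9648 (flp_d L201371) q7910, e3 q9649 (flp_d L292757) q11631, e3 q9650 L201391 q7944, e3 q9651 L201400 q7912, e3 q9652 L201454 q7915, e3 q9653 (flp_d L616051) q11121, e3 q9654 (flp_d L534070) q11595, e3 q9655 (flp_d L534038) q11596, e3 q9656 (flp_d L534064) q11597, e3 q9657 L294127 q11636, e3 q9658 (flp_d L614967) q11605, e3 q9659 (flp_d L614998) q11604, e3 q9660 (flp_d L266040) q11234, e3 q9661 L202426 q7924, e3 q9662 (flp_d L266072) q11239, e3 q9663 (flp_d L266079) q11240, trivial⟩ (by decide +kernel)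

theorem ce_d_151 : ∀ r, r < 64 → sm gd (Qf (9664 + r)) = Qf (tab Gen.d (9664 + r)) :=
  edges_tab (sm gd) Qf (tab Gen.d) 9664 [(9664, 7930), (9665, 7931), (9666, 10831), (9667, 11642), (9668, 11643), (9669, 9669), (9670, 10319), (9671, 10320), (9672, 10321), (9673, 9673), (9674, 11650), (9675, 10308), (9676, 7940), (9677, 11653), (9678, 7941), (9679, 11654), (9680, 11630), (9681, 7943), (9682, 7951), (9683, 11632), (9684, 10323), (9685, 11656), (9686, 9686), (9687, 9687), (9688, 9688), (9689, 11660), (9690, 9690), (9691, 9691), (9692, 9692), (9693, 11663), (9694, 7963), (9695, 11666), (9696, 9696), (9697, 9828), (9698, 7968), (9699, 7971), (9700, 9779), (9701, 11668), (9702, 9887), (9703, 7975), (9704, 11672), (9705, 11443), (9706, 11444), (9707, 7983), (9708, 7984), (9709, 10613), (9710, 11674), (9711, 11671), (9712, 9712), (9713, 9713), (9714, 9714), (9715, 7991), (9716, 9716), (9717, 9717), (9718, 8121), (9719, 8009), (9720, 11679), (9721, 8131), (9722, 8758), (9723, 8138), (9724, 8015), (9725, 11681), (9726, 8167), (9727,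 8018)]
    ⟨e3 q9664 L202504 q7930, e3 q9665 L202523 q7931, e3 q9666 (flp_d L617250) q10831, e3 q9667 (flp_d L294304) q11642, e3 q9668 (flp_d L294325) q11643, e3 q9669 L202846 q9669, e3 q9670 L561748 q10319, e3 q9671 L561731 q10320, e3 q9672 (flp_d L561773) q10321, e3 q9673 L203097 q9673, e3 q9674 L295119 q11650, e3 q9675 L616313 q10308, e3 q9676 (flp_d L203124) q7940, e3 q9677 (flp_d L295173) q11653, e3 q9678 (flp_d L203140) q7941, e3 q9679 (flp_d L295197) q11654, e3 q9680 (flp_d L292747) q11630, e3 q9681 L203172 q7943, e3 q9682 (flp_d L533011) q7951, e3 q9683 (flp_d L292780) q11632, e3 q9684 (flp_d L616300) q10323, e3 q9685 (flp_d L532934) q11656, e3 q9686 L203530 q9686, e3 q9687 L203539 q9687, e3 q9688 L203545 q9688, e3 q9689 L295720 q11660, e3 q9690 L203589 q9690, e3 q9691 L203594 q9691, e3 q9692 L203602 q9692, e3 q9693 L295766 q11663, e3 q9694 (flp_d L203620) q7963, e3 q9695 (flp_d L295788) q11666, e3 q9696 L203643 q9696, e3 q9697 L644988 q9828, e3 q9698 L204226 q7968, e3 q9699 L204328 q7971, e3 q9700 (flp_d L611529)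 q9779, e3 q9701 (flp_d L644858) q11668, e3 q9702 (flp_d L642586) q9887, e3 q9703 L205300 q7975, e3 q9704 L298260 q11672, e3 q9705 (flp_d L271276) q11443, e3 q9706 (flp_d L271284) q11444, e3 q9707 L205394 q7983, e3 q9708 L205455 q7984, e3 q9709 (flp_d L617243) q10613, e3 q9710 (flp_d L298401) q11674, e3 q9711 (flp_d L641451) q11671, e3 q9712 L206048 q9712, e3 q9713 L206069 q9713, e3 q9714 L206795 q9714, e3 q9715 L206799 q7991, e3 q9716 L206830 q9716, e3 q9717 L207795 q9717, e3 q9718 L241461 q8121, e3 q9719 (flp_d L241506) q8009, e3 q9720 (flp_d L350819) q11679, e3 q9721 L241564 q8131, e3 q9722 (flp_d L642786) q8758, e3 q9723 L241628 q8138, e3 q9724 (flp_d L241677) q8015, e3 q9725 (flp_d L351084) q11681, e3 q9726 L241738 q8167, e3 q9727 (flp_d L241783) q8018, trivial⟩ (by decide +kernel)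

theorem ce_d_152 : ∀ r, r < 64 → sm gd (Qf (9728 + r)) = Qf (tab Gen.d (9728 + r)) :=
  edges_tab (sm gd) Qf (tab Gen.d) 9728 [(9728, 11683), (9729, 9729), (9730, 8020), (9731, 8021), (9732, 11687), (9733, 8183), (9734, 8812), (9735, 8026), (9736, 8191), (9737, 8029), (9738, 11690), (9739, 8030), (9740, 11691), (9741, 9741), (9742, 8032), (9743, 8033), (9744, 11695), (9745, 8235), (9746, 9574), (9747, 8037), (9748, 11697), (9749, 9393), (9750, 8039), (9751, 9751), (9752, 9752), (9753, 9753), (9754, 8042), (9755, 11705), (9756, 9589), (9757, 8044), (9758, 8258), (9759, 8047), (9760, 11710), (9761, 8048), (9762, 11712), (9763, 9763), (9764, 8050), (9765, 9765), (9766, 9766), (9767, 9767), (9768, 9768), (9769, 8055), (9770, 9770), (9771, 9771), (9772, 9772), (9773, 8105), (9774, 8067), (9775, 9775), (9776, 8110), (9777, 8132), (9778, 8118), (9779, 9700), (9780, 9780), (9781, 8127), (9782, 8752), (9783, 11723), (9784, 9784), (9785, 8144), (9786, 11728), (9787, 8084), (9788, 9788), (9789, 8149), (9790, 8150), (9791, 11731)]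
    ⟨e3 q9728 (flp_d L351245) q11683, e3 q9729 L241807 q9729, e3 q9730 L241813 q8020, e3 q9731 (flp_d L241840) q8021, e3 q9732 (flp_d L351327) q11687, e3 q9733 L241869 q8183, e3 q9734 (flp_d L642954) q8812, e3 q9735 L241928 q8026, e3 q9736 L241937 q8191, e3 q9737 (flp_d L241970) q8029, e3 q9738 (flp_d L351517) q11690, e3 q9739 (flp_d L242031) q8030, e3 q9740 (flp_d L351623) q11691, e3 q9741 L242059 q9741, e3 q9742 L242066 q8032, e3 q9743 (flp_d L242096) q8033, e3 q9744 (flp_d L351717) q11695, e3 q9745 L242131 q8235, e3 q9746 L549039 q9574, e3 q9747 (flp_d L242199) q8037, e3 q9748 (flp_d L351864) q11697, e3 q9749 L547947 q9393, e3 q9750 L242227 q8039, e3 q9751 L242237 q9751, e3 q9752 L242245 q9752, e3 q9753 L242255 q9753, e3 q9754 (flp_d L242281) q8042, e3 q9755 (flp_d L351983) q11705, e3 q9756 L547985 q9589, e3 q9757 L242310 q8044, e3 q9758 L242320 q8258, e3 q9759 (flp_d L242342) q8047, e3 q9760 (flp_d L352059) q11710, e3 q9761 (flp_d L242357) q8048, e3 q9762 (flp_d L352077) q11712, e3 q9763 L242384 q9763, e3 q9764 L242388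 q8050, e3 q9765 L242396 q9765, e3 q9766 L242407 q9766, e3 q9767 L242419 q9767, e3 q9768 L242454 q9768, e3 q9769 L242459 q8055, e3 q9770 L242473 q9770, e3 q9771 L242579 q9771, e3 q9772 L242720 q9772, e3 q9773 L242742 q8105, e3 q9774 L242750 q8067, e3 q9775 L242762 q9775, e3 q9776 L242790 q8110, e3 q9777 L644124 q8132, e3 q9778 L242869 q8118, e3 q9779 L611529 q9700, e3 q9780 L242922 q9780, e3 q9781 L242951 q8127, e3 q9782 L644977 q8752, e3 q9783 L353194 q11723, e3 q9784 L243140 q9784, e3 q9785 L243171 q8144, e3 q9786 L353299 q11728, e3 q9787 L243189 q8084, e3 q9788 L243201 q9788, e3 q9789 L243215 q8149, e3 q9790 L243226 q8150, e3 q9791 L353364 q11731, trivial⟩ (by decide +kernel)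

theorem ce_d_153 : ∀ r, r < 64 → sm gd (Qf (9792 + r)) = Qf (tab Gen.d (9792 + r)) :=
  edges_tab (sm gd) Qf (tab Gen.d) 9792 [(9792, 8086), (9793, 11732), (9794, 8163), (9795, 8092), (9796, 11734), (9797, 9797), (9798, 8177), (9799, 8178), (9800, 8802), (9801, 8095), (9802, 8184), (9803, 8808), (9804, 11739), (9805, 9805), (9806, 11744), (9807, 8104), (9808, 11746), (9809, 11720), (9810, 11750), (9811, 8109), (9812, 9812), (9813, 9813), (9814, 8720), (9815, 8729), (9816, 8786), (9817, 8111), (9818, 11756), (9819, 9819), (9820, 9820), (9821, 9821), (9822, 11761), (9823, 11763), (9824, 9824), (9825, 9419), (9826, 8117), (9827, 11768), (9828, 9697), (9829, 9409), (9830, 9403), (9831, 8122), (9832, 11771), (9833, 11776), (9834, 9834), (9835, 9400), (9836, 8124), (9837, 11780), (9838, 8777), (9839, 8126), (9840, 11721), (9841, 8726), (9842, 8753), (9843, 8128), (9844, 11786), (9845, 9396), (9846, 8757), (9847, 8136), (9848, 8793), (9849, 8139), (9850, 11787), (9851, 11792), (9852, 9852), (9853, 11795), (9854, 8141), (9855, 11798)]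
    ⟨e3 q9792 (flp_d L243240) q8086, e3 q9793 (flp_d L353394) q11732, e3 q9794 L243336 q8163, e3 q9795 (flp_d L243372) q8092, e3 q9796 (flp_d L353590) q11734, e3 q9797 L243401 q9797, e3 q9798 L243441 q8177, e3 q9799 L243450 q8178, e3 q9800 L644606 q8802, e3 q9801 (flp_d L243462) q8095, e3 q9802 L243496 q8184, e3 q9803 L644427 q8808, e3 q9804 L353974 q11739, e3 q9805 L243664 q9805, e3 q9806 L354028 q11744, e3 q9807 (flp_d L243678) q8104, e3 q9808 (flp_d L354066) q11746, e3 q9809 (flp_d L352656) q11720, e3 q9810 L354098 q11750, e3 q9811 L243722 q8109, e3 q9812 L243736 q9812, e3 q9813 L243741 q9813, e3 q9814 (flp_d L636251) q8720, e3 q9815 L644293 q8729, e3 q9816 (flp_d L644135) q8786, e3 q9817 (flp_d L243778) q8111, e3 q9818 (flp_d L354200) q11756, e3 q9819 L243809 q9819, e3 q9820 L243815 q9820, e3 q9821 L243828 q9821, e3 q9822 L354251 q11761, e3 q9823 L354273 q11763, e3 q9824 L243859 q9824, e3 q9825 L635733 q9419, e3 q9826 (flp_d L243871) q8117, e3 q9827 (flp_d L354354) q11768, e3 q9828 (flp_d L644988) q9697, e3 q9829 (flp_d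 L645181) q9409, e3 q9830 L645333 q9403, e3 q9831 (flp_d L243935) q8122, e3 q9832 (flp_d L354427) q11771, e3 q9833 L354468 q11776, e3 q9834 L243970 q9834, e3 q9835 L642733 q9400, e3 q9836 (flp_d L243983) q8124, e3 q9837 (flp_d L354527) q11780, e3 q9838 L244010 q8777, e3 q9839 L244016 q8126, e3 q9840 (flp_d L636141) q11721, e3 q9841 (flp_d L644307) q8726, e3 q9842 L642721 q8753, e3 q9843 (flp_d L244044) q8128, e3 q9844 (flp_d L354611) q11786, e3 q9845 (flp_d L642775) q9396, e3 q9846 (flp_d L644159) q8757, e3 q9847 L244133 q8136, e3 q9848 L644047 q8793, e3 q9849 (flp_d L244268) q8139, e3 q9850 (flp_d L354936) q11787, e3 q9851 L354980 q11792, e3 q9852 L244303 q9852, e3 q9853 L355008 q11795, e3 q9854 (flp_d L244318) q8141, e3 q9855 (flp_d L355041) q11798, trivial⟩ (by decide +kernel)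

theorem ce_d_154 : ∀ r, r < 64 → sm gd (Qf (9856 + r)) = Qf (tab Gen.d (9856 + r)) :=
  edges_tab (sm gd) Qf (tab Gen.d) 9856 [(9856, 8143), (9857, 11725), (9858, 11726), (9859, 11803), (9860, 8145), (9861, 11806), (9862, 9862), (9863, 9863), (9864, 11729), (9865, 11810), (9866, 11812), (9867, 8151), (9868, 11815), (9869, 8405), (9870, 8153), (9871, 9871), (9872, 11819), (9873, 9873), (9874, 11824), (9875, 8157), (9876, 11827), (9877, 8158), (9878, 11828), (9879, 11832), (9880, 9880), (9881, 9477), (9882, 8160), (9883, 11836), (9884, 8373), (9885, 8162), (9886, 11733), (9887, 9702), (9888, 9464), (9889, 8164), (9890, 11843), (9891, 9454), (9892, 8169), (9893, 11847), (9894, 11844), (9895, 11845), (9896, 11852), (9897, 8170), (9898, 11856), (9899, 9445), (9900, 8172), (9901, 11859), (9902, 11855), (9903, 8174), (9904, 8844), (9905, 8845), (9906, 11799), (9907, 11737), (9908, 11868), (9909, 8803), (9910, 8179), (9911, 11872), (9912, 11854), (9913, 8181), (9914, 9437), (9915, 11730), (9916, 8809), (9917, 8185), (9918, 11877),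 (9919, 8810)]
    ⟨e3 q9856 L244351 q8143, e3 q9857 (flp_d L353274) q11725, e3 q9858 (flp_d L353285) q11726, e3 q9859 L355102 q11803, e3 q9860 (flp_d L244381) q8145, e3 q9861 (flp_d L355128) q11806, e3 q9862 L244406 q9862, e3 q9863 L244411 q9863, e3 q9864 (flp_d L353340) q11729, e3 q9865 L355166 q11810, e3 q9866 L355186 q11812, e3 q9867 (flp_d L244449) q8151, e3 q9868 (flp_d L355214) q11815, e3 q9869 L244472 q8405, e3 q9870 L244477 q8153, e3 q9871 L244487 q9871, e3 q9872 L355244 q11819, e3 q9873 L244510 q9873, e3 q9874 L355294 q11824, e3 q9875 (flp_d L244522) q8157, e3 q9876 (flp_d L355337) q11827, e3 q9877 (flp_d L244542) q8158, e3 q9878 (flp_d L355345) q11828, e3 q9879 L355383 q11832, e3 q9880 L244573 q9880, e3 q9881 (flp_d L635695) q9477, e3 q9882 (flp_d L244586) q8160, e3 q9883 (flp_d L355437) q11836, e3 q9884 (flp_d L576250) q8373, e3 q9885 L244614 q8162, e3 q9886 (flp_d L353528) q11733, e3 q9887 L642586 q9702, e3 q9888 (flp_d L645190) q9464, e3 q9889 (flp_d L244643) q8164, e3 q9890 (flp_d L355521) q11843, e3 q9891 L645356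 q9454, e3 q9892 L244681 q8169, e3 q9893 L355556 q11847, e3 q9894 (flp_d L355538) q11844, e3 q9895 (flp_d L355546) q11845, e3 q9896 L355603 q11852, e3 q9897 (flp_d L244719) q8170, e3 q9898 (flp_d L355635) q11856, e3 q9899 L642655 q9445, e3 q9900 (flp_d L244745) q8172, e3 q9901 (flp_d L355669) q11859, e3 q9902 (flp_d L355629) q11855, e3 q9903 L244773 q8174, e3 q9904 L244781 q8844, e3 q9905 L244788 q8845, e3 q9906 (flp_d L355071) q11799, e3 q9907 (flp_d L353696) q11737, e3 q9908 L355739 q11868, e3 q9909 L642632 q8803, e3 q9910 (flp_d L244827) q8179, e3 q9911 (flp_d L355779) q11872, e3 q9912 (flp_d L355623) q11854, e3 q9913 L244849 q8181, e3 q9914 (flp_d L642680) q9437, e3 q9915 (flp_d L631818) q11730, e3 q9916 (flp_d L644263) q8809, e3 q9917 (flp_d L244881) q8185, e3 q9918 (flp_d L355849) q11877, e3 q9919 (flp_d L644234) q8810, trivial⟩ (by decide +kernel)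

theorem ce_d_155 : ∀ r, r < 64 → sm gd (Qf (9920 + r)) = Qf (tab Gen.d (9920 + r)) :=
  edges_tab (sm gd) Qf (tab Gen.d) 9920 [(9920, 8188), (9921, 8458), (9922, 8459), (9923, 11818), (9924, 8193), (9925, 11883), (9926, 11880), (9927, 11881), (9928, 11888), (9929, 8194), (9930, 11892), (9931, 11893), (9932, 8196), (9933, 11896), (9934, 11891), (9935, 8198), (9936, 8250), (9937, 9937), (9938, 11901), (9939, 11903), (9940, 8202), (9941, 11906), (9942, 11890), (9943, 8204), (9944, 9944), (9945, 9945), (9946, 11911), (9947, 8208), (9948, 11915), (9949, 8209), (9950, 11917), (9951, 8538), (9952, 8211), (9953, 8540), (9954, 8541), (9955, 8269), (9956, 8215), (9957, 11924), (9958, 11929), (9959, 9959), (9960, 11932), (9961, 8217), (9962, 11936), (9963, 9963), (9964, 8219), (9965, 8221), (9966, 11942), (9967, 11939), (9968, 11940), (9969, 11947), (9970, 8222), (9971, 11951), (9972, 9474), (9973, 8224), (9974, 11954), (9975, 11950), (9976, 8226), (9977, 8494), (9978, 8495), (9979, 8592), (9980, 9980), (9981, 11963), (9982, 9527),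 (9983, 8231)]
    ⟨e3 q9920 L244923 q8188, e3 q9921 L244929 q8458, e3 q9922 L244938 q8459, e3 q9923 (flp_d L355242) q11818, e3 q9924 L245162 q8193, e3 q9925 L356267 q11883, e3 q9926 (flp_d L356242) q11880, e3 q9927 (flp_d L356253) q11881, e3 q9928 L356318 q11888, e3 q9929 (flp_d L245207) q8194, e3 q9930 (flp_d L356354) q11892, e3 q9931 L356359 q11893, e3 q9932 (flp_d L245236) q8196, e3 q9933 (flp_d L356392) q11896, e3 q9934 (flp_d L356348) q11891, e3 q9935 L245266 q8198, e3 q9936 L245296 q8250, e3 q9937 L245303 q9937, e3 q9938 L356469 q11901, e3 q9939 L356488 q11903, e3 q9940 (flp_d L245325) q8202, e3 q9941 (flp_d L356518) q11906, e3 q9942 (flp_d L356341) q11890, e3 q9943 L245354 q8204, e3 q9944 L245364 q9944, e3 q9945 L245375 q9945, e3 q9946 L356561 q11911, e3 q9947 (flp_d L245390) q8208, e3 q9948 (flp_d L356600) q11915, e3 q9949 (flp_d L245409) q8209, e3 q9950 (flp_d L356619) q11917, e3 q9951 L245436 q8538, e3 q9952 L245441 q8211, e3 q9953 L245448 q8540, e3 q9954 L245460 q8541, e3 q9955 L245473 q8269, e3 q9956 (flp_d L245476)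 q8215, e3 q9957 (flp_d L356698) q11924, e3 q9958 L356741 q11929, e3 q9959 L245514 q9959, e3 q9960 L356772 q11932, e3 q9961 (flp_d L245525) q8217, e3 q9962 (flp_d L356813) q11936, e3 q9963 L245551 q9963, e3 q9964 L245568 q8219, e3 q9965 L245576 q8221, e3 q9966 L356889 q11942, e3 q9967 (flp_d L356868) q11939, e3 q9968 (flp_d L356877) q11940, e3 q9969 L356936 q11947, e3 q9970 (flp_d L245615) q8222, e3 q9971 (flp_d L356972) q11951, e3 q9972 (flp_d L635762) q9474, e3 q9973 (flp_d L245642) q8224, e3 q9974 (flp_d L357005) q11954, e3 q9975 (flp_d L356966) q11950, e3 q9976 L245667 q8226, e3 q9977 L554494 q8494, e3 q9978 (flp_d L554630) q8495, e3 q9979 (flp_d L553747) q8592, e3 q9980 L245700 q9980, e3 q9981 L357074 q11963, e3 q9982 (flp_d L635658) q9527, e3 q9983 (flp_d L245722) q8231, trivial⟩ (by decide +kernel)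

theorem ce_d_156 : ∀ r, r < 64 → sm gd (Qf (9984 + r)) = Qf (tab Gen.d (9984 + r)) :=
  edges_tab (sm gd) Qf (tab Gen.d) 9984 [(9984, 11967), (9985, 11949), (9986, 8233), (9987, 9453), (9988, 8238), (9989, 8239), (9990, 11974), (9991, 8237), (9992, 11978), (9993, 11971), (9994, 11981), (9995, 11983), (9996, 8240), (9997, 11987), (9998, 8256), (9999, 8246), (10000, 8242), (10001, 8243), (10002, 11995), (10003, 11986), (10004, 8245), (10005, 11991), (10006, 11992), (10007, 11898), (10008, 8943), (10009, 8944), (10010, 11938), (10011, 10011), (10012, 12006), (10013, 8252), (10014, 12010), (10015, 8253), (10016, 12012), (10017, 11985), (10018, 8255), (10019, 11988), (10020, 11990), (10021, 11909), (10022, 11914), (10023, 8260), (10024, 12021), (10025, 8607), (10026, 8888), (10027, 8262), (10028, 8610), (10029, 8264), (10030, 8612), (10031, 8613), (10032, 11920), (10033, 8615), (10034, 8616), (10035, 12035), (10036, 10036), (10037, 10037), (10038, 12038), (10039, 10039), (10040, 8273), (10041, 8291), (10042, 8292), (10043, 8355),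 (10044, 12043), (10045, 8275), (10046, 12046), (10047, 12047)]
    ⟨e3 q9984 (flp_d L357124) q11967, e3 q9985 (flp_d L356959) q11949, e3 q9986 L245752 q8233, e3 q9987 L635618 q9453, e3 q9988 L245770 q8238, e3 q9989 L245779 q8239, e3 q9990 L357188 q11974, e3 q9991 (flp_d L245791) q8237, e3 q9992 (flp_d L357224) q11978, e3 q9993 (flp_d L357166) q11971, e3 q9994 L357248 q11981, e3 q9995 L357266 q11983, e3 q9996 (flp_d L245838) q8240, e3 q9997 (flp_d L357302) q11987, e3 q9998 L245859 q8256, e3 q9999 L245866 q8246, e3 q10000 L245872 q8242, e3 q10001 (flp_d L245877) q8243, e3 q10002 (flp_d L357366) q11995, e3 q10003 (flp_d L357296) q11986, e3 q10004 L245905 q8245, e3 q10005 (flp_d L357333) q11991, e3 q10006 (flp_d L357342) q11992, e3 q10007 (flp_d L356421) q11898, e3 q10008 L245936 q8943, e3 q10009 L245943 q8944, e3 q10010 (flp_d L553754) q11938, e3 q10011 L245960 q10011, e3 q10012 L357456 q12006, e3 q10013 (flp_d L245972) q8252, e3 q10014 (flp_d L357491) q12010, e3 q10015 (flp_d L245989) q8253, e3 q10016 (flp_d L357507) q12012,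 e3 q10017 (flp_d L357288) q11985, e3 q10018 L246015 q8255, e3 q10019 (flp_d L357308) q11988, e3 q10020 (flp_d L357324) q11990, e3 q10021 (flp_d L356548) q11909, e3 q10022 (flp_d L635227) q11914, e3 q10023 (flp_d L246052) q8260, e3 q10024 (flp_d L357595) q12021, e3 q10025 L246077 q8607, e3 q10026 L635173 q8888, e3 q10027 L246088 q8262, e3 q10028 L246101 q8610, e3 q10029 L246106 q8264, e3 q10030 L246113 q8612, e3 q10031 L246123 q8613, e3 q10032 (flp_d L356649) q11920, e3 q10033 L246135 q8615, e3 q10034 L246146 q8616, e3 q10035 L357711 q12035, e3 q10036 L246162 q10036, e3 q10037 L246176 q10037, e3 q10038 L357769 q12038, e3 q10039 L246198 q10039, e3 q10040 L246205 q8273, e3 q10041 L246218 q8291, e3 q10042 L246225 q8292, e3 q10043 L614248 q8355, e3 q10044 L357887 q12043, e3 q10045 (flp_d L246271) q8275, e3 q10046 (flp_d L357922) q12046, e3 q10047 L357953 q12047, trivial⟩ (by decide +kernel)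

theorem ce_d_157 : ∀ r, r < 64 → sm gd (Qf (10048 + r)) = Qf (tab Gen.d (10048 + r)) :=
  edges_tab (sm gd) Qf (tab Gen.d) 10048 [(10048, 8280), (10049, 8302), (10050, 8303), (10051, 10051), (10052, 12052), (10053, 8282), (10054, 12055), (10055, 8309), (10056, 8310), (10057, 10057), (10058, 11767), (10059, 12061), (10060, 10060), (10061, 12066), (10062, 8288), (10063, 12068), (10064, 10064), (10065, 12072), (10066, 8293), (10067, 12041), (10068, 12042), (10069, 8294), (10070, 12076), (10071, 12081), (10072, 10072), (10073, 12084), (10074, 8296), (10075, 12087), (10076, 8312), (10077, 8298), (10078, 10078), (10079, 10079), (10080, 12094), (10081, 8300), (10082, 12097), (10083, 12049), (10084, 12050), (10085, 10085), (10086, 9041), (10087, 12102), (10088, 8306), (10089, 12104), (10090, 8340), (10091, 8308), (10092, 12056), (10093, 12108), (10094, 10094), (10095, 12088), (10096, 12089), (10097, 8313), (10098, 12114), (10099, 12119), (10100, 10100), (10101, 12122), (10102, 8315), (10103, 12125), (10104, 8317), (10105, 10105),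 (10106, 10106), (10107, 12130), (10108, 8319), (10109, 12133), (10110, 10110), (10111, 10111)]
    ⟨e3 q10048 L246311 q8280, e3 q10049 L246324 q8302, e3 q10050 L246330 q8303, e3 q10051 L246349 q10051, e3 q10052 L358021 q12052, e3 q10053 (flp_d L246363) q8282, e3 q10054 (flp_d L358051) q12055, e3 q10055 L246391 q8309, e3 q10056 L246397 q8310, e3 q10057 L246408 q10057, e3 q10058 L576219 q11767, e3 q10059 L358119 q12061, e3 q10060 L246441 q10060, e3 q10061 L358174 q12066, e3 q10062 (flp_d L246455) q8288, e3 q10063 (flp_d L358209) q12068, e3 q10064 L246481 q10064, e3 q10065 L358246 q12072, e3 q10066 L246502 q8293, e3 q10067 (flp_d L357828) q12041, e3 q10068 (flp_d L357835) q12042, e3 q10069 (flp_d L246528) q8294, e3 q10070 (flp_d L358292) q12076, e3 q10071 L358332 q12081, e3 q10072 L246560 q10072, e3 q10073 L358359 q12084, e3 q10074 (flp_d L246573) q8296, e3 q10075 (flp_d L358381) q12087, e3 q10076 (flp_d L553581) q8312, e3 q10077 L246600 q8298, e3 q10078 L246609 q10078, e3 q10079 L246619 q10079, e3 q10080 L358440 q12094, e3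 q10081 (flp_d L246634) q8300, e3 q10082 (flp_d L358468) q12097, e3 q10083 (flp_d L357982) q12049, e3 q10084 (flp_d L357988) q12050, e3 q10085 L246676 q10085, e3 q10086 L640284 q9041, e3 q10087 L358522 q12102, e3 q10088 (flp_d L246699) q8306, e3 q10089 (flp_d L358550) q12104, e3 q10090 (flp_d L644144) q8340, e3 q10091 L246725 q8308, e3 q10092 (flp_d L358062) q12056, e3 q10093 L358580 q12108, e3 q10094 L246755 q10094, e3 q10095 (flp_d L553498) q12088, e3 q10096 (flp_d L553557) q12089, e3 q10097 (flp_d L246784) q8313, e3 q10098 (flp_d L358674) q12114, e3 q10099 L358716 q12119, e3 q10100 L246820 q10100, e3 q10101 L358747 q12122, e3 q10102 (flp_d L246833) q8315, e3 q10103 (flp_d L358778) q12125, e3 q10104 L246869 q8317, e3 q10105 L246879 q10105, e3 q10106 L246888 q10106, e3 q10107 L358845 q12130, e3 q10108 (flp_d L246902) q8319, e3 q10109 (flp_d L358878) q12133, e3 q10110 L246934 q10110, e3 q10111 L246940 q10111, trivial⟩ (by decide +kernel)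

theorem ce_d_158 : ∀ r, r < 64 → sm gd (Qf (10112 + r)) = Qf (tab Gen.d (10112 + r)) :=
  edges_tab (sm gd) Qf (tab Gen.d) 10112 [(10112, 8324), (10113, 12138), (10114, 12135), (10115, 12136), (10116, 12143), (10117, 8325), (10118, 12147), (10119, 9447), (10120, 8327), (10121, 12150), (10122, 12146), (10123, 8329), (10124, 9025), (10125, 9026), (10126, 12090), (10127, 10127), (10128, 12105), (10129, 9087), (10130, 8334), (10131, 12161), (10132, 12145), (10133, 8336), (10134, 10134), (10135, 10135), (10136, 12106), (10137, 9088), (10138, 8343), (10139, 8990), (10140, 8995), (10141, 12107), (10142, 12169), (10143, 10143), (10144, 12172), (10145, 8349), (10146, 12174), (10147, 10147), (10148, 12176), (10149, 8354), (10150, 8382), (10151, 8383), (10152, 12074), (10153, 12181), (10154, 8357), (10155, 12184), (10156, 10156), (10157, 8359), (10158, 10158), (10159, 12189), (10160, 8361), (10161, 12192), (10162, 8398), (10163, 8399), (10164, 10164), (10165, 12195), (10166, 12197), (10167, 8367), (10168, 12200), (10169, 10169), (10170,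 8369), (10171, 8407), (10172, 12204), (10173, 10173), (10174, 11837), (10175, 11838)]
    ⟨e3 q10112 L246947 q8324, e3 q10113 L358917 q12138, e3 q10114 (flp_d L358899) q12135, e3 q10115 (flp_d L358906) q12136, e3 q10116 L358959 q12143, e3 q10117 (flp_d L246981) q8325, e3 q10118 (flp_d L358987) q12147, e3 q10119 (flp_d L642461) q9447, e3 q10120 (flp_d L247006) q8327, e3 q10121 (flp_d L359020) q12150, e3 q10122 (flp_d L358983) q12146, e3 q10123 L247029 q8329, e3 q10124 L247038 q9025, e3 q10125 L247046 q9026, e3 q10126 (flp_d L358408) q12090, e3 q10127 L247064 q10127, e3 q10128 (flp_d L637499) q12105, e3 q10129 L637552 q9087, e3 q10130 (flp_d L247087) q8334, e3 q10131 (flp_d L359140) q12161, e3 q10132 (flp_d L358977) q12145, e3 q10133 L247115 q8336, e3 q10134 L247126 q10134, e3 q10135 L247135 q10135, e3 q10136 (flp_d L637484) q12106, e3 q10137 (flp_d L644063) q9088, e3 q10138 L247193 q8343, e3 q10139 (flp_d L641327) q8990, e3 q10140 L641280 q8995, e3 q10141 (flp_d L358577) q12107, e3 q10142 L359320 q12169, e3 q10143 L247256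 q10143, e3 q10144 L359384 q12172, e3 q10145 (flp_d L247268) q8349, e3 q10146 (flp_d L359418) q12174, e3 q10147 L247292 q10147, e3 q10148 L359450 q12176, e3 q10149 L247309 q8354, e3 q10150 L247323 q8382, e3 q10151 L247330 q8383, e3 q10152 (flp_d L648824) q12074, e3 q10153 L359553 q12181, e3 q10154 (flp_d L247376) q8357, e3 q10155 (flp_d L359584) q12184, e3 q10156 L247400 q10156, e3 q10157 L247406 q8359, e3 q10158 L247414 q10158, e3 q10159 L359641 q12189, e3 q10160 (flp_d L247435) q8361, e3 q10161 (flp_d L359669) q12192, e3 q10162 L247459 q8398, e3 q10163 L247465 q8399, e3 q10164 L247476 q10164, e3 q10165 L359704 q12195, e3 q10166 L359721 q12197, e3 q10167 (flp_d L247499) q8367, e3 q10168 (flp_d L359750) q12200, e3 q10169 L247523 q10169, e3 q10170 L247527 q8369, e3 q10171 L247536 q8407, e3 q10172 L359780 q12204, e3 q10173 L247557 q10173, e3 q10174 (flp_d L554658) q11837, e3 q10175 (flp_d L554637) q11838, trivial⟩ (by decide +kernel)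

theorem ce_d_159 : ∀ r, r < 64 → sm gd (Qf (10176 + r)) = Qf (tab Gen.d (10176 + r)) :=
  edges_tab (sm gd) Qf (tab Gen.d) 10176 [(10176, 8374), (10177, 12210), (10178, 12215), (10179, 10179), (10180, 12218), (10181, 8376), (10182, 12221), (10183, 8378), (10184, 10184), (10185, 10185), (10186, 12226), (10187, 8380), (10188, 12229), (10189, 12178), (10190, 12179), (10191, 8385), (10192, 12234), (10193, 12231), (10194, 12232), (10195, 12239), (10196, 8386), (10197, 12243), (10198, 12244), (10199, 8388), (10200, 12247), (10201, 12242), (10202, 8390), (10203, 8410), (10204, 8411), (10205, 8441), (10206, 10206), (10207, 12256), (10208, 12258), (10209, 8395), (10210, 12261), (10211, 12241), (10212, 8397), (10213, 12193), (10214, 10214), (10215, 12266), (10216, 8401), (10217, 12270), (10218, 8402), (10219, 12272), (10220, 11814), (10221, 8404), (10222, 11816), (10223, 11817), (10224, 8460), (10225, 8408), (10226, 12280), (10227, 12285), (10228, 10228), (10229, 12251), (10230, 12252), (10231, 8413), (10232, 12292), (10233, 12289),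 (10234, 12290), (10235, 12297), (10236, 8414), (10237, 12301), (10238, 12302), (10239, 8416)]
    ⟨e3 q10176 (flp_d L247587) q8374, e3 q10177 (flp_d L359870) q12210, e3 q10178 L359915 q12215, e3 q10179 L247623 q10179, e3 q10180 L359943 q12218, e3 q10181 (flp_d L247638) q8376, e3 q10182 (flp_d L359973) q12221, e3 q10183 L247668 q8378, e3 q10184 L247677 q10184, e3 q10185 L247689 q10185, e3 q10186 L360035 q12226, e3 q10187 (flp_d L247703) q8380, e3 q10188 (flp_d L360066) q12229, e3 q10189 (flp_d L359477) q12178, e3 q10190 (flp_d L359484) q12179, e3 q10191 L247745 q8385, e3 q10192 L360104 q12234, e3 q10193 (flp_d L360084) q12231, e3 q10194 (flp_d L360093) q12232, e3 q10195 L360146 q12239, e3 q10196 (flp_d L247782) q8386, e3 q10197 (flp_d L360172) q12243, e3 q10198 L360176 q12244, e3 q10199 (flp_d L247804) q8388, e3 q10200 (flp_d L360200) q12247, e3 q10201 (flp_d L360168) q12242, e3 q10202 L247826 q8390, e3 q10203 (flp_d L553587) q8410, e3 q10204 L553574 q8411, e3 q10205 L247847 q8441, e3 q10206 L247854 q10206, e3 q10207 L360263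 q12256, e3 q10208 L360284 q12258, e3 q10209 (flp_d L247879) q8395, e3 q10210 (flp_d L360310) q12261, e3 q10211 (flp_d L360164) q12241, e3 q10212 L247905 q8397, e3 q10213 (flp_d L359678) q12193, e3 q10214 L247922 q10214, e3 q10215 L360345 q12266, e3 q10216 (flp_d L247938) q8401, e3 q10217 (flp_d L360383) q12270, e3 q10218 (flp_d L247957) q8402, e3 q10219 (flp_d L360398) q12272, e3 q10220 (flp_d L355209) q11814, e3 q10221 L247981 q8404, e3 q10222 (flp_d L355221) q11816, e3 q10223 (flp_d L355231) q11817, e3 q10224 L248002 q8460, e3 q10225 (flp_d L248005) q8408, e3 q10226 (flp_d L360453) q12280, e3 q10227 L360488 q12285, e3 q10228 L248033 q10228, e3 q10229 L553456 q12251, e3 q10230 L553567 q12252, e3 q10231 L248088 q8413, e3 q10232 L360615 q12292, e3 q10233 (flp_d L360595) q12289, e3 q10234 (flp_d L360604) q12290, e3 q10235 L360663 q12297, e3 q10236 (flp_d L248127) q8414, e3 q10237 (flp_d L360697) q12301, e3 q10238 L360701 q12302, e3 q10239 (flp_d L248153) q8416, trivial⟩ (by decide +kernel)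

theorem ce_d_160 : ∀ r, r < 64 → sm gd (Qf (10240 + r)) = Qf (tab Gen.d (10240 + r)) :=
  edges_tab (sm gd) Qf (tab Gen.d) 10240 [(10240, 12305), (10241, 12300), (10242, 8418), (10243, 12222), (10244, 10244), (10245, 12310), (10246, 12312), (10247, 8422), (10248, 12315), (10249, 12299), (10250, 8424), (10251, 10251), (10252, 8429), (10253, 8430), (10254, 12323), (10255, 8428), (10256, 12327), (10257, 12320), (10258, 12330), (10259, 12332), (10260, 8431), (10261, 12336), (10262, 8447), (10263, 8437), (10264, 8433), (10265, 8434), (10266, 12344), (10267, 12335), (10268, 8436), (10269, 12340), (10270, 12341), (10271, 12250), (10272, 9129), (10273, 9130), (10274, 11839), (10275, 10275), (10276, 12355), (10277, 8443), (10278, 12359), (10279, 8444), (10280, 12361), (10281, 12334), (10282, 8446), (10283, 12337), (10284, 12339), (10285, 12264), (10286, 12268), (10287, 8451), (10288, 12370), (10289, 9082), (10290, 8608), (10291, 8453), (10292, 8455), (10293, 9075), (10294, 9085), (10295, 12275), (10296, 11878), (10297, 11879), (10298,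 12382), (10299, 12383), (10300, 8462), (10301, 12385), (10302, 12386), (10303, 8464)]
    ⟨e3 q10240 (flp_d L360734) q12305, e3 q10241 (flp_d L360691) q12300, e3 q10242 L248184 q8418, e3 q10243 (flp_d L360000) q12222, e3 q10244 L248220 q10244, e3 q10245 L360813 q12310, e3 q10246 L360834 q12312, e3 q10247 (flp_d L248245) q8422, e3 q10248 (flp_d L360865) q12315, e3 q10249 (flp_d L360685) q12299, e3 q10250 L248276 q8424, e3 q10251 L248286 q10251, e3 q10252 L248294 q8429, e3 q10253 L248301 q8430, e3 q10254 L360923 q12323, e3 q10255 (flp_d L248310) q8428, e3 q10256 (flp_d L360949) q12327, e3 q10257 (flp_d L360906) q12320, e3 q10258 L360971 q12330, e3 q10259 L360987 q12332, e3 q10260 (flp_d L248348) q8431, e3 q10261 (flp_d L361013) q12336, e3 q10262 L248364 q8447, e3 q10263 L248368 q8437, e3 q10264 L248372 q8433, e3 q10265 (flp_d L248376) q8434, e3 q10266 (flp_d L361061) q12344, e3 q10267 (flp_d L361009) q12335, e3 q10268 L248401 q8436, e3 q10269 (flp_d L361038) q12340, e3 q10270 (flp_d L361044) q12341, e3 q10271 (flp_d L360219)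 q12250, e3 q10272 L248427 q9129, e3 q10273 L248435 q9130, e3 q10274 (flp_d L553838) q11839, e3 q10275 L248451 q10275, e3 q10276 L361147 q12355, e3 q10277 (flp_d L248466) q8443, e3 q10278 (flp_d L361187) q12359, e3 q10279 (flp_d L248485) q8444, e3 q10280 (flp_d L361203) q12361, e3 q10281 (flp_d L361003) q12334, e3 q10282 L248511 q8446, e3 q10283 (flp_d L361019) q12337, e3 q10284 (flp_d L361032) q12339, e3 q10285 (flp_d L360333) q12264, e3 q10286 (flp_d L637053) q12268, e3 q10287 (flp_d L248548) q8451, e3 q10288 (flp_d L361293) q12370, e3 q10289 (flp_d L641020) q9082, e3 q10290 L248579 q8608, e3 q10291 L248585 q8453, e3 q10292 L248601 q8455, e3 q10293 (flp_d L637676) q9075, e3 q10294 (flp_d L641241) q9085, e3 q10295 (flp_d L360419) q12275, e3 q10296 (flp_d L355891) q11878, e3 q10297 (flp_d L355900) q11879, e3 q10298 L361402 q12382, e3 q10299 L361453 q12383, e3 q10300 (flp_d L248676) q8462, e3 q10301 (flp_d L361493) q12385, e3 q10302 L361569 q12386, e3 q10303 (flp_d L248738) q8464, trivial⟩ (by decide +kernel)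

theorem ce_d_161 : ∀ r, r < 64 → sm gd (Qf (10304 + r)) = Qf (tab Gen.d (10304 + r)) :=
  edges_tab (sm gd) Qf (tab Gen.d) 10304 [(10304, 12389), (10305, 8466), (10306, 8507), (10307, 8508), (10308, 9675), (10309, 8471), (10310, 12394), (10311, 12395), (10312, 8473), (10313, 12398), (10314, 12393), (10315, 8475), (10316, 10316), (10317, 10317), (10318, 10318), (10319, 9670), (10320, 9671), (10321, 9672), (10322, 8531), (10323, 9684), (10324, 8485), (10325, 12409), (10326, 8486), (10327, 12410), (10328, 10328), (10329, 8488), (10330, 10330), (10331, 10331), (10332, 9316), (10333, 12416), (10334, 10334), (10335, 11958), (10336, 11959), (10337, 9313), (10338, 9315), (10339, 12423), (10340, 8497), (10341, 12426), (10342, 12427), (10343, 8499), (10344, 12430), (10345, 12425), (10346, 8501), (10347, 8561), (10348, 8622), (10349, 9307), (10350, 9308), (10351, 9309), (10352, 12391), (10353, 8511), (10354, 8512), (10355, 12441), (10356, 8510), (10357, 12444), (10358, 12438), (10359, 12447), (10360, 12449), (10361, 8513), (10362,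 12453), (10363, 8529), (10364, 8519), (10365, 8515), (10366, 8516), (10367, 12461)]
    ⟨e3 q10304 (flp_d L361601) q12389, e3 q10305 L248773 q8466, e3 q10306 L248834 q8507, e3 q10307 L248841 q8508, e3 q10308 (flp_d L616313) q9675, e3 q10309 (flp_d L248888) q8471, e3 q10310 (flp_d L361814) q12394, e3 q10311 L361818 q12395, e3 q10312 (flp_d L248911) q8473, e3 q10313 (flp_d L361849) q12398, e3 q10314 (flp_d L361809) q12393, e3 q10315 L248939 q8475, e3 q10316 L248949 q10316, e3 q10317 L248957 q10317, e3 q10318 L248967 q10318, e3 q10319 (flp_d L561748) q9670, e3 q10320 (flp_d L561731) q9671, e3 q10321 L561773 q9672, e3 q10322 L249035 q8531, e3 q10323 L616300 q9684, e3 q10324 (flp_d L249058) q8485, e3 q10325 (flp_d L362053) q12409, e3 q10326 (flp_d L249074) q8486, e3 q10327 (flp_d L362072) q12410, e3 q10328 L249103 q10328, e3 q10329 L249107 q8488, e3 q10330 L249115 q10330, e3 q10331 L249127 q10331, e3 q10332 (flp_d L552072) q9316, e3 q10333 L362194 q12416, e3 q10334 L249176 q10334, e3 q10335 (flp_d L554480) q11958, e3 q10336 (flp_d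 L554456) q11959, e3 q10337 L542908 q9313, e3 q10338 L546827 q9315, e3 q10339 L362381 q12423, e3 q10340 (flp_d L249277) q8497, e3 q10341 (flp_d L362419) q12426, e3 q10342 L362424 q12427, e3 q10343 (flp_d L249306) q8499, e3 q10344 (flp_d L362454) q12430, e3 q10345 (flp_d L362413) q12425, e3 q10346 L249333 q8501, e3 q10347 L249360 q8561, e3 q10348 L249368 q8622, e3 q10349 (flp_d L561899) q9307, e3 q10350 (flp_d L561893) q9308, e3 q10351 (flp_d L561943) q9309, e3 q10352 (flp_d L361709) q12391, e3 q10353 L249446 q8511, e3 q10354 L249456 q8512, e3 q10355 L362653 q12441, e3 q10356 (flp_d L249469) q8510, e3 q10357 (flp_d L362685) q12444, e3 q10358 (flp_d L362631) q12438, e3 q10359 L362707 q12447, e3 q10360 L362723 q12449, e3 q10361 (flp_d L249511) q8513, e3 q10362 (flp_d L362753) q12453, e3 q10363 L249530 q8529, e3 q10364 L249535 q8519, e3 q10365 L249539 q8515, e3 q10366 (flp_d L249544) q8516, e3 q10367 (flp_d L362807) q12461, trivial⟩ (by decide +kernel)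

theorem ce_d_162 : ∀ r, r < 64 → sm gd (Qf (10368 + r)) = Qf (tab Gen.d (10368 + r)) :=
  edges_tab (sm gd) Qf (tab Gen.d) 10368 [(10368, 12452), (10369, 8518), (10370, 12457), (10371, 12458), (10372, 8589), (10373, 8547), (10374, 8548), (10375, 11960), (10376, 8628), (10377, 12472), (10378, 8525), (10379, 12476), (10380, 8526), (10381, 12478), (10382, 12451), (10383, 8528), (10384, 12454), (10385, 12456), (10386, 12482), (10387, 8533), (10388, 12486), (10389, 11913), (10390, 12269), (10391, 8535), (10392, 11916), (10393, 8537), (10394, 11918), (10395, 11919), (10396, 8614), (10397, 11921), (10398, 11922), (10399, 12498), (10400, 8544), (10401, 12502), (10402, 12499), (10403, 12500), (10404, 12507), (10405, 8545), (10406, 12510), (10407, 12468), (10408, 12469), (10409, 8551), (10410, 8552), (10411, 12516), (10412, 8550), (10413, 12519), (10414, 12513), (10415, 12522), (10416, 12524), (10417, 8553), (10418, 12528), (10419, 8567), (10420, 8559), (10421, 8555), (10422, 8556), (10423, 12535), (10424, 12527), (10425, 8558), (10426,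 12532), (10427, 12432), (10428, 8653), (10429, 12541), (10430, 8563), (10431, 12545)]
    ⟨e3 q10368 (flp_d L362749) q12452, e3 q10369 L249566 q8518, e3 q10370 (flp_d L362780) q12457, e3 q10371 (flp_d L362787) q12458, e3 q10372 L249586 q8589, e3 q10373 (flp_d L553429) q8547, e3 q10374 (flp_d L553387) q8548, e3 q10375 (flp_d L503081) q11960, e3 q10376 L249611 q8628, e3 q10377 L362881 q12472, e3 q10378 (flp_d L249626) q8525, e3 q10379 (flp_d L362921) q12476, e3 q10380 (flp_d L249646) q8526, e3 q10381 (flp_d L362938) q12478, e3 q10382 (flp_d L362743) q12451, e3 q10383 L249676 q8528, e3 q10384 (flp_d L362759) q12454, e3 q10385 (flp_d L362773) q12456, e3 q10386 L362994 q12482, e3 q10387 (flp_d L249715) q8533, e3 q10388 (flp_d L363033) q12486, e3 q10389 (flp_d L356588) q11913, e3 q10390 (flp_d L360378) q12269, e3 q10391 L249752 q8535, e3 q10392 (flp_d L356614) q11916, e3 q10393 L249769 q8537, e3 q10394 (flp_d L356627) q11918, e3 q10395 (flp_d L356638) q11919, e3 q10396 L249792 q8614, e3 q10397 (flp_d L356654) q11921, e3 q10398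 (flp_d L356666) q11922, e3 q10399 L363147 q12498, e3 q10400 L249834 q8544, e3 q10401 L363198 q12502, e3 q10402 (flp_d L363179) q12499, e3 q10403 (flp_d L363187) q12500, e3 q10404 L363241 q12507, e3 q10405 (flp_d L249869) q8545, e3 q10406 (flp_d L363273) q12510, e3 q10407 (flp_d L552045) q12468, e3 q10408 L553395 q12469, e3 q10409 L249974 q8551, e3 q10410 L249984 q8552, e3 q10411 L363447 q12516, e3 q10412 (flp_d L249997) q8550, e3 q10413 (flp_d L363487) q12519, e3 q10414 (flp_d L363423) q12513, e3 q10415 L363511 q12522, e3 q10416 L363529 q12524, e3 q10417 (flp_d L250045) q8553, e3 q10418 (flp_d L363567) q12528, e3 q10419 L250068 q8567, e3 q10420 L250075 q8559, e3 q10421 L250081 q8555, e3 q10422 (flp_d L250086) q8556, e3 q10423 (flp_d L363636) q12535, e3 q10424 (flp_d L363561) q12527, e3 q10425 L250117 q8558, e3 q10426 (flp_d L363610) q12532, e3 q10427 (flp_d L362480) q12432, e3 q10428 L250179 q8653, e3 q10429 L363736 q12541, e3 q10430 (flp_d L250193) q8563, e3 q10431 (flp_d L363781) q12545, trivial⟩ (by decide +kernel)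

theorem ce_d_163 : ∀ r, r < 64 → sm gd (Qf (10432 + r)) = Qf (tab Gen.d (10432 + r)) :=
  edges_tab (sm gd) Qf (tab Gen.d) 10432 [(10432, 8564), (10433, 12547), (10434, 12526), (10435, 8566), (10436, 12529), (10437, 12531), (10438, 12319), (10439, 8575), (10440, 12556), (10441, 12558), (10442, 8572), (10443, 12562), (10444, 8665), (10445, 10445), (10446, 8574), (10447, 12554), (10448, 12570), (10449, 8576), (10450, 12574), (10451, 8577), (10452, 12577), (10453, 8599), (10454, 8585), (10455, 8579), (10456, 8601), (10457, 10457), (10458, 8602), (10459, 8587), (10460, 8588), (10461, 12459), (10462, 12576), (10463, 8584), (10464, 12581), (10465, 12582), (10466, 12464), (10467, 12590), (10468, 12591), (10469, 12602), (10470, 9269), (10471, 9270), (10472, 11957), (10473, 12605), (10474, 8594), (10475, 12609), (10476, 12572), (10477, 12358), (10478, 8596), (10479, 12575), (10480, 8598), (10481, 12578), (10482, 12580), (10483, 9341), (10484, 12584), (10485, 12586), (10486, 12623), (10487, 8604), (10488, 12626), (10489, 12020), (10490,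 12369), (10491, 8606), (10492, 12022), (10493, 12635), (10494, 12024), (10495, 12374)]
    ⟨e3 q10432 (flp_d L250213) q8564, e3 q10433 (flp_d L363802) q12547, e3 q10434 (flp_d L363553) q12526, e3 q10435 L250248 q8566, e3 q10436 (flp_d L363573) q12529, e3 q10437 (flp_d L363592) q12531, e3 q10438 (flp_d L360900) q12319, e3 q10439 L250294 q8575, e3 q10440 L363900 q12556, e3 q10441 L363916 q12558, e3 q10442 (flp_d L250314) q8572, e3 q10443 (flp_d L363948) q12562, e3 q10444 L250334 q8665, e3 q10445 L250341 q10445, e3 q10446 L250344 q8574, e3 q10447 (flp_d L363887) q12554, e3 q10448 L364007 q12570, e3 q10449 (flp_d L250364) q8576, e3 q10450 (flp_d L364035) q12574, e3 q10451 (flp_d L250378) q8577, e3 q10452 (flp_d L364057) q12577, e3 q10453 L250396 q8599, e3 q10454 L250402 q8585, e3 q10455 L250406 q8579, e3 q10456 L250412 q8601, e3 q10457 L250422 q10457, e3 q10458 L250427 q8602, e3 q10459 L250434 q8587, e3 q10460 L250441 q8588, e3 q10461 (flp_d L362797) q12459, e3 q10462 (flp_d L364053) q12576, e3 q10463 L250461 q8584, e3 q10464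 (flp_d L364085) q12581, e3 q10465 (flp_d L364089) q12582, e3 q10466 (flp_d L362825) q12464, e3 q10467 (flp_d L364146) q12590, e3 q10468 (flp_d L364152) q12591, e3 q10469 L364227 q12602, e3 q10470 L250507 q9269, e3 q10471 L250514 q9270, e3 q10472 (flp_d L503055) q11957, e3 q10473 L364260 q12605, e3 q10474 (flp_d L250540) q8594, e3 q10475 (flp_d L364301) q12609, e3 q10476 (flp_d L364027) q12572, e3 q10477 (flp_d L361180) q12358, e3 q10478 L250579 q8596, e3 q10479 (flp_d L364046) q12575, e3 q10480 L250597 q8598, e3 q10481 (flp_d L364064) q12578, e3 q10482 (flp_d L364079) q12580, e3 q10483 (flp_d L562431) q9341, e3 q10484 (flp_d L364101) q12584, e3 q10485 (flp_d L364116) q12586, e3 q10486 L364430 q12623, e3 q10487 (flp_d L250658) q8604, e3 q10488 (flp_d L364459) q12626, e3 q10489 (flp_d L357584) q12020, e3 q10490 (flp_d L361287) q12369, e3 q10491 L250696 q8606, e3 q10492 (flp_d L357603) q12022, e3 q10493 L364536 q12635, e3 q10494 (flp_d L357623) q12024, e3 q10495 (flp_d L361327) q12374, trivial⟩ (by decide +kernel)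

theorem ce_d_164 : ∀ r, r < 64 → sm gd (Qf (10496 + r)) = Qf (tab Gen.d (10496 + r)) :=
  edges_tab (sm gd) Qf (tab Gen.d) 10496 [(10496, 12491), (10497, 12027), (10498, 12028), (10499, 12493), (10500, 12030), (10501, 12031), (10502, 12644), (10503, 12033), (10504, 12646), (10505, 8617), (10506, 10506), (10507, 12433), (10508, 10508), (10509, 8627), (10510, 9166), (10511, 9167), (10512, 9168), (10513, 12650), (10514, 12654), (10515, 8629), (10516, 9158), (10517, 10517), (10518, 9159), (10519, 9156), (10520, 8634), (10521, 9324), (10522, 10522), (10523, 10523), (10524, 8636), (10525, 10525), (10526, 8696), (10527, 8699), (10528, 10528), (10529, 12660), (10530, 10530), (10531, 12388), (10532, 8647), (10533, 10533), (10534, 8652), (10535, 9378), (10536, 9381), (10537, 9281), (10538, 12663), (10539, 12667), (10540, 8654), (10541, 9376), (10542, 10542), (10543, 9380), (10544, 9383), (10545, 9385), (10546, 10546), (10547, 12675), (10548, 8667), (10549, 12678), (10550, 8661), (10551, 12682), (10552, 8662), (10553, 12684), (10554,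 12560), (10555, 8664), (10556, 12563), (10557, 12565), (10558, 12689), (10559, 8668)]
    ⟨e3 q10496 (flp_d L363079) q12491, e3 q10497 (flp_d L357646) q12027, e3 q10498 (flp_d L357657) q12028, e3 q10499 (flp_d L363104) q12493, e3 q10500 (flp_d L357671) q12030, e3 q10501 (flp_d L357681) q12031, e3 q10502 L364618 q12644, e3 q10503 (flp_d L357698) q12033, e3 q10504 L364636 q12646, e3 q10505 (flp_d L250816) q8617, e3 q10506 L251923 q10506, e3 q10507 (flp_d L362512) q12433, e3 q10508 L252502 q10508, e3 q10509 L252507 q8627, e3 q10510 L562068 q9166, e3 q10511 L562050 q9167, e3 q10512 (flp_d L562107) q9168, e3 q10513 (flp_d L367141) q12650, e3 q10514 L367538 q12654, e3 q10515 (flp_d L252780) q8629, e3 q10516 L546967 q9158, e3 q10517 L252811 q10517, e3 q10518 L546939 q9159, e3 q10519 L552153 q9156, e3 q10520 (flp_d L252879) q8634, e3 q10521 L615682 q9324, e3 q10522 L252906 q10522, e3 q10523 L252912 q10523, e3 q10524 L252916 q8636, e3 q10525 L252924 q10525, e3 q10526 L252961 q8696, e3 q10527 L252984 q8699, e3 q10528 L252996 q10528,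 e3 q10529 L367851 q12660, e3 q10530 L253011 q10530, e3 q10531 (flp_d L648199) q12388, e3 q10532 (flp_d L253022) q8647, e3 q10533 L253266 q10533, e3 q10534 L253272 q8652, e3 q10535 L562182 q9378, e3 q10536 (flp_d L542582) q9381, e3 q10537 L562140 q9281, e3 q10538 (flp_d L368271) q12663, e3 q10539 L368629 q12667, e3 q10540 (flp_d L253527) q8654, e3 q10541 L546443 q9376, e3 q10542 L253561 q10542, e3 q10543 (flp_d L546415) q9380, e3 q10544 L546460 q9383, e3 q10545 (flp_d L543467) q9385, e3 q10546 L253647 q10546, e3 q10547 L368818 q12675, e3 q10548 L253662 q8667, e3 q10549 L368841 q12678, e3 q10550 (flp_d L253674) q8661, e3 q10551 (flp_d L368875) q12682, e3 q10552 (flp_d L253690) q8662, e3 q10553 (flp_d L368900) q12684, e3 q10554 (flp_d L363937) q12560, e3 q10555 L253722 q8664, e3 q10556 (flp_d L363954) q12563, e3 q10557 (flp_d L363972) q12565, e3 q10558 L369005 q12689, e3 q10559 (flp_d L253776) q8668, trivial⟩ (by decide +kernel)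

theorem ce_d_165 : ∀ r, r < 64 → sm gd (Qf (10560 + r)) = Qf (tab Gen.d (10560 + r)) :=
  edges_tab (sm gd) Qf (tab Gen.d) 10560 [(10560, 8676), (10561, 10561), (10562, 8679), (10563, 8681), (10564, 8684), (10565, 8673), (10566, 12697), (10567, 12690), (10568, 10568), (10569, 8675), (10570, 12691), (10571, 12706), (10572, 9345), (10573, 10573), (10574, 9339), (10575, 12693), (10576, 9347), (10577, 9340), (10578, 12694), (10579, 9348), (10580, 12715), (10581, 9349), (10582, 12717), (10583, 8686), (10584, 10584), (10585, 10585), (10586, 8688), (10587, 10587), (10588, 12488), (10589, 10589), (10590, 9370), (10591, 10591), (10592, 12722), (10593, 12723), (10594, 10594), (10595, 10595), (10596, 12726), (10597, 10597), (10598, 12728), (10599, 8702), (10600, 11698), (10601, 8704), (10602, 10602), (10603, 8766), (10604, 8779), (10605, 11747), (10606, 8716), (10607, 8722), (10608, 8826), (10609, 12732), (10610, 8801), (10611, 11748), (10612, 8825), (10613, 9709), (10614, 8846), (10615, 12735), (10616, 12736), (10617, 8735), (10618,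 12737), (10619, 8737), (10620, 8854), (10621, 11808), (10622, 8741), (10623, 8742)]
    ⟨e3 q10560 L253799 q8676, e3 q10561 L253806 q10561, e3 q10562 L253821 q8679, e3 q10563 L253841 q8681, e3 q10564 L253884 q8684, e3 q10565 (flp_d L253979) q8673, e3 q10566 (flp_d L369328) q12697, e3 q10567 (flp_d L369030) q12690, e3 q10568 L254010 q10568, e3 q10569 L254016 q8675, e3 q10570 (flp_d L369049) q12691, e3 q10571 L369403 q12706, e3 q10572 (flp_d L512848) q9345, e3 q10573 L254049 q10573, e3 q10574 L562391 q9339, e3 q10575 (flp_d L369096) q12693, e3 q10576 L562341 q9347, e3 q10577 (flp_d L562362) q9340, e3 q10578 (flp_d L369145) q12694, e3 q10579 (flp_d L543394) q9348, e3 q10580 L369479 q12715, e3 q10581 L543228 q9349, e3 q10582 L369493 q12717, e3 q10583 (flp_d L254130) q8686, e3 q10584 L254143 q10584, e3 q10585 L254151 q10585, e3 q10586 L254155 q8688, e3 q10587 L254164 q10587, e3 q10588 (flp_d L615921) q12488, e3 q10589 L254205 q10589, e3 q10590 (flp_d L646841) q9370, e3 q10591 L254222 q10591, e3 q10592 L369688 q12722, e3 q10593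 L369696 q12723, e3 q10594 L254264 q10594, e3 q10595 L254274 q10595, e3 q10596 L369721 q12726, e3 q10597 L254293 q10597, e3 q10598 L369736 q12728, e3 q10599 (flp_d L254304) q8702, e3 q10600 (flp_d L547966) q11698, e3 q10601 (flp_d L254319) q8704, e3 q10602 L254332 q10602, e3 q10603 L620550 q8766, e3 q10604 L255586 q8779, e3 q10605 (flp_d L640364) q11747, e3 q10606 (flp_d L255606) q8716, e3 q10607 (flp_d L256153) q8722, e3 q10608 (flp_d L621451) q8826, e3 q10609 L372567 q12732, e3 q10610 L256228 q8801, e3 q10611 (flp_d L634660) q11748, e3 q10612 L256462 q8825, e3 q10613 L617243 q9709, e3 q10614 L256627 q8846, e3 q10615 L373241 q12735, e3 q10616 L373256 q12736, e3 q10617 (flp_d L256647) q8735, e3 q10618 (flp_d L373284) q12737, e3 q10619 L256673 q8737, e3 q10620 L256688 q8854, e3 q10621 (flp_d L635065) q11808, e3 q10622 (flp_d L256700) q8741, e3 q10623 (flp_d L256714) q8742, trivial⟩ (by decide +kernel)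

theorem ce_d_166 : ∀ r, r < 64 → sm gd (Qf (10624 + r)) = Qf (tab Gen.d (10624 + r)) :=
  edges_tab (sm gd) Qf (tab Gen.d) 10624 [(10624, 10624), (10625, 8744), (10626, 10626), (10627, 11754), (10628, 8748), (10629, 8761), (10630, 12741), (10631, 9004), (10632, 9005), (10633, 11784), (10634, 9397), (10635, 8981), (10636, 8973), (10637, 8974), (10638, 12746), (10639, 9624), (10640, 8763), (10641, 12750), (10642, 8765), (10643, 11719), (10644, 12752), (10645, 8767), (10646, 12754), (10647, 10647), (10648, 10648), (10649, 12756), (10650, 9626), (10651, 12759), (10652, 8773), (10653, 12763), (10654, 9625), (10655, 12762), (10656, 8776), (10657, 11781), (10658, 11782), (10659, 11749), (10660, 12769), (10661, 8781), (10662, 12771), (10663, 12761), (10664, 8783), (10665, 10665), (10666, 11755), (10667, 8787), (10668, 8789), (10669, 9043), (10670, 9044), (10671, 8796), (10672, 12778), (10673, 12776), (10674, 8818), (10675, 12782), (10676, 8797), (10677, 12785), (10678, 9100), (10679, 9101), (10680, 11738), (10681, 11867), (10682,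 11870), (10683, 12784), (10684, 8805), (10685, 9440), (10686, 11876), (10687, 8864)]
    ⟨e3 q10624 L256738 q10624, e3 q10625 L256742 q8744, e3 q10626 L256749 q10626, e3 q10627 (flp_d L640269) q11754, e3 q10628 (flp_d L257131) q8748, e3 q10629 L620498 q8761, e3 q10630 L374031 q12741, e3 q10631 L591650 q9004, e3 q10632 L591687 q9005, e3 q10633 (flp_d L644164) q11784, e3 q10634 L549789 q9397, e3 q10635 (flp_d L617602) q8981, e3 q10636 L550890 q8973, e3 q10637 (flp_d L576197) q8974, e3 q10638 L374433 q12746, e3 q10639 (flp_d L621548) q9624, e3 q10640 (flp_d L257450) q8763, e3 q10641 (flp_d L374493) q12750, e3 q10642 L257486 q8765, e3 q10643 (flp_d L620572) q11719, e3 q10644 L374555 q12752, e3 q10645 (flp_d L257515) q8767, e3 q10646 (flp_d L374584) q12754, e3 q10647 L257542 q10647, e3 q10648 L257548 q10648, e3 q10649 L374624 q12756, e3 q10650 L612200 q9626, e3 q10651 L374670 q12759, e3 q10652 (flp_d L257595) q8773, e3 q10653 (flp_d L374704) q12763, e3 q10654 (flp_d L621681) q9625, e3 q10655 (flp_d L374698) q12762, e3 q10656 L257655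 q8776, e3 q10657 (flp_d L354537) q11781, e3 q10658 (flp_d L354546) q11782, e3 q10659 (flp_d L640277) q11749, e3 q10660 L374839 q12769, e3 q10661 (flp_d L257714) q8781, e3 q10662 (flp_d L374867) q12771, e3 q10663 (flp_d L374690) q12761, e3 q10664 L257738 q8783, e3 q10665 L257747 q10665, e3 q10666 (flp_d L640321) q11755, e3 q10667 (flp_d L257784) q8787, e3 q10668 L257814 q8789, e3 q10669 L257821 q9043, e3 q10670 L257831 q9044, e3 q10671 L258358 q8796, e3 q10672 L375819 q12778, e3 q10673 (flp_d L375797) q12776, e3 q10674 (flp_d L622146) q8818, e3 q10675 L375865 q12782, e3 q10676 (flp_d L258400) q8797, e3 q10677 (flp_d L375897) q12785, e3 q10678 L591946 q9100, e3 q10679 L576041 q9101, e3 q10680 (flp_d L644438) q11738, e3 q10681 (flp_d L644268) q11867, e3 q10682 (flp_d L644239) q11870, e3 q10683 (flp_d L375885) q12784, e3 q10684 L258532 q8805, e3 q10685 L568098 q9440, e3 q10686 (flp_d L631858) q11876, e3 q10687 L258624 q8864, trivial⟩ (by decide +kernel)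

theorem ce_d_167 : ∀ r, r < 64 → sm gd (Qf (10688 + r)) = Qf (tab Gen.d (10688 + r)) :=
  edges_tab (sm gd) Qf (tab Gen.d) 10688 [(10688, 8813), (10689, 9064), (10690, 12792), (10691, 9052), (10692, 9053), (10693, 12780), (10694, 12796), (10695, 8819), (10696, 12799), (10697, 9632), (10698, 8821), (10699, 12802), (10700, 12798), (10701, 8823), (10702, 12731), (10703, 12806), (10704, 12808), (10705, 8827), (10706, 12810), (10707, 8829), (10708, 10708), (10709, 8834), (10710, 12813), (10711, 8833), (10712, 12816), (10713, 9638), (10714, 12819), (10715, 12821), (10716, 8836), (10717, 12825), (10718, 8851), (10719, 8842), (10720, 8838), (10721, 9634), (10722, 12824), (10723, 8841), (10724, 12829), (10725, 12830), (10726, 11863), (10727, 11864), (10728, 12733), (10729, 12839), (10730, 8847), (10731, 12843), (10732, 8848), (10733, 12845), (10734, 12823), (10735, 8850), (10736, 12826), (10737, 12828), (10738, 12789), (10739, 11809), (10740, 8855), (10741, 12852), (10742, 9145), (10743, 8960), (10744, 8857), (10745, 9148), (10746,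 8859), (10747, 9150), (10748, 9151), (10749, 11813), (10750, 9153), (10751, 9154)]
    ⟨e3 q10688 (flp_d L258626) q8813, e3 q10689 (flp_d L622142) q9064, e3 q10690 L376217 q12792, e3 q10691 (flp_d L576471) q9052, e3 q10692 L576560 q9053, e3 q10693 (flp_d L611672) q12780, e3 q10694 L376407 q12796, e3 q10695 (flp_d L258763) q8819, e3 q10696 (flp_d L376439) q12799, e3 q10697 L622168 q9632, e3 q10698 (flp_d L258785) q8821, e3 q10699 (flp_d L376476) q12802, e3 q10700 (flp_d L376433) q12798, e3 q10701 L258818 q8823, e3 q10702 (flp_d L621342) q12731, e3 q10703 L376552 q12806, e3 q10704 L376568 q12808, e3 q10705 (flp_d L258874) q8827, e3 q10706 (flp_d L376597) q12810, e3 q10707 L258901 q8829, e3 q10708 L258909 q10708, e3 q10709 L258918 q8834, e3 q10710 L376649 q12813, e3 q10711 (flp_d L258936) q8833, e3 q10712 (flp_d L376681) q12816, e3 q10713 (flp_d L617222) q9638, e3 q10714 L376703 q12819, e3 q10715 L376719 q12821, e3 q10716 (flp_d L258978) q8836, e3 q10717 (flp_d L376753) q12825, e3 q10718 L258996 q8851, e3 q10719 L259002 q8842,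 e3 q10720 L259008 q8838, e3 q10721 L622057 q9634, e3 q10722 (flp_d L376747) q12824, e3 q10723 L259045 q8841, e3 q10724 (flp_d L376778) q12829, e3 q10725 (flp_d L376784) q12830, e3 q10726 (flp_d L355699) q11863, e3 q10727 (flp_d L355708) q11864, e3 q10728 (flp_d L373229) q12733, e3 q10729 L376911 q12839, e3 q10730 (flp_d L259119) q8847, e3 q10731 (flp_d L376944) q12843, e3 q10732 (flp_d L259133) q8848, e3 q10733 (flp_d L376957) q12845, e3 q10734 (flp_d L376739) q12823, e3 q10735 L259157 q8850, e3 q10736 (flp_d L376759) q12826, e3 q10737 (flp_d L376772) q12828, e3 q10738 (flp_d L376061) q12789, e3 q10739 (flp_d L649034) q11809, e3 q10740 (flp_d L259186) q8855, e3 q10741 (flp_d L377034) q12852, e3 q10742 L259209 q9145, e3 q10743 L259214 q8960, e3 q10744 L259220 q8857, e3 q10745 L259230 q9148, e3 q10746 L259235 q8859, e3 q10747 L259242 q9150, e3 q10748 L259252 q9151, e3 q10749 (flp_d L631887) q11813, e3 q10750 L259265 q9153, e3 q10751 L259273 q9154, trivial⟩ (by decide +kernel)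

theorem ce_d_168 : ∀ r, r < 64 → sm gd (Qf (10752 + r)) = Qf (tab Gen.d (10752 + r)) :=
  edges_tab (sm gd) Qf (tab Gen.d) 10752 [(10752, 12863), (10753, 10753), (10754, 8866), (10755, 10755), (10756, 10756), (10757, 10757), (10758, 8872), (10759, 8873), (10760, 12874), (10761, 8871), (10762, 12876), (10763, 12871), (10764, 12879), (10765, 12881), (10766, 8874), (10767, 12884), (10768, 8884), (10769, 8876), (10770, 9228), (10771, 10771), (10772, 12009), (10773, 8880), (10774, 12890), (10775, 8881), (10776, 12892), (10777, 12883), (10778, 8883), (10779, 12885), (10780, 12886), (10781, 8955), (10782, 12025), (10783, 9201), (10784, 8890), (10785, 9204), (10786, 8892), (10787, 9206), (10788, 9207), (10789, 8966), (10790, 9209), (10791, 9210), (10792, 12910), (10793, 8899), (10794, 12455), (10795, 12911), (10796, 9645), (10797, 12917), (10798, 8900), (10799, 12919), (10800, 9163), (10801, 9164), (10802, 8906), (10803, 8907), (10804, 12923), (10805, 8905), (10806, 12926), (10807, 12870), (10808, 12929), (10809, 12931), (10810,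 8908), (10811, 12935), (10812, 8921), (10813, 8914), (10814, 8910), (10815, 8911)]
    ⟨e3 q10752 L377135 q12863, e3 q10753 L259734 q10753, e3 q10754 L259738 q8866, e3 q10755 L259746 q10755, e3 q10756 L259757 q10756, e3 q10757 L259769 q10757, e3 q10758 L260078 q8872, e3 q10759 L260087 q8873, e3 q10760 L378387 q12874, e3 q10761 (flp_d L260103) q8871, e3 q10762 (flp_d L378425) q12876, e3 q10763 (flp_d L378364) q12871, e3 q10764 L378447 q12879, e3 q10765 L378463 q12881, e3 q10766 (flp_d L260149) q8874, e3 q10767 (flp_d L378501) q12884, e3 q10768 L260170 q8884, e3 q10769 L260183 q8876, e3 q10770 L575912 q9228, e3 q10771 L260275 q10771, e3 q10772 (flp_d L640972) q12009, e3 q10773 (flp_d L260287) q8880, e3 q10774 (flp_d L378686) q12890, e3 q10775 (flp_d L260302) q8881, e3 q10776 (flp_d L378700) q12892, e3 q10777 (flp_d L378487) q12883, e3 q10778 L260330 q8883, e3 q10779 (flp_d L378507) q12885, e3 q10780 (flp_d L378521) q12886, e3 q10781 L260350 q8955, e3 q10782 (flp_d L635189) q12025, e3 q10783 L260386 q9201, e3 q10784 L260395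 q8890, e3 q10785 L260406 q9204, e3 q10786 L260411 q8892, e3 q10787 L260418 q9206, e3 q10788 L260428 q9207, e3 q10789 L260437 q8966, e3 q10790 L260442 q9209, e3 q10791 L260451 q9210, e3 q10792 L378888 q12910, e3 q10793 L260476 q8899, e3 q10794 (flp_d L546922) q12455, e3 q10795 (flp_d L378923) q12911, e3 q10796 L615383 q9645, e3 q10797 L378994 q12917, e3 q10798 (flp_d L260517) q8900, e3 q10799 (flp_d L379034) q12919, e3 q10800 L554169 q9163, e3 q10801 (flp_d L551233) q9164, e3 q10802 L260645 q8906, e3 q10803 L260652 q8907, e3 q10804 L379238 q12923, e3 q10805 (flp_d L260666) q8905, e3 q10806 (flp_d L379276) q12926, e3 q10807 (flp_d L615163) q12870, e3 q10808 L379296 q12929, e3 q10809 L379310 q12931, e3 q10810 (flp_d L260708) q8908, e3 q10811 (flp_d L379348) q12935, e3 q10812 L260729 q8921, e3 q10813 L260736 q8914, e3 q10814 L260742 q8910, e3 q10815 (flp_d L260745) q8911, trivial⟩ (by decide +kernel)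

theorem ce_d_169 : ∀ r, r < 64 → sm gd (Qf (10816 + r)) = Qf (tab Gen.d (10816 + r)) :=
  edges_tab (sm gd) Qf (tab Gen.d) 10816 [(10816, 12942), (10817, 12934), (10818, 8913), (10819, 12939), (10820, 10820), (10821, 12946), (10822, 8917), (10823, 12950), (10824, 8918), (10825, 12952), (10826, 12933), (10827, 8920), (10828, 12936), (10829, 12938), (10830, 9546), (10831, 9666), (10832, 8929), (10833, 12962), (10834, 12964), (10835, 8926), (10836, 12968), (10837, 10837), (10838, 9616), (10839, 8928), (10840, 12960), (10841, 12976), (10842, 8930), (10843, 12980), (10844, 8931), (10845, 12983), (10846, 8951), (10847, 8939), (10848, 8933), (10849, 8953), (10850, 10850), (10851, 8954), (10852, 8941), (10853, 8942), (10854, 12887), (10855, 12982), (10856, 8938), (10857, 12987), (10858, 12988), (10859, 12996), (10860, 12997), (10861, 12002), (10862, 12003), (10863, 13006), (10864, 8946), (10865, 13010), (10866, 12978), (10867, 12842), (10868, 8948), (10869, 12981), (10870, 8950), (10871, 12984), (10872, 12986), (10873, 12895), (10874,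 12990), (10875, 12992), (10876, 13024), (10877, 8956), (10878, 13025), (10879, 9287)]
    ⟨e3 q10816 (flp_d L379410) q12942, e3 q10817 (flp_d L379342) q12934, e3 q10818 L260778 q8913, e3 q10819 (flp_d L379385) q12939, e3 q10820 L260840 q10820, e3 q10821 L379509 q12946, e3 q10822 (flp_d L260851) q8917, e3 q10823 (flp_d L379547) q12950, e3 q10824 (flp_d L260866) q8918, e3 q10825 (flp_d L379565) q12952, e3 q10826 (flp_d L379334) q12933, e3 q10827 L260899 q8920, e3 q10828 (flp_d L379354) q12936, e3 q10829 (flp_d L379371) q12938, e3 q10830 L547485 q9546, e3 q10831 L617250 q9666, e3 q10832 L260938 q8929, e3 q10833 L379655 q12962, e3 q10834 L379670 q12964, e3 q10835 (flp_d L260959) q8926, e3 q10836 (flp_d L379710) q12968, e3 q10837 L260981 q10837, e3 q10838 L260989 q9616, e3 q10839 L260995 q8928, e3 q10840 (flp_d L379643) q12960, e3 q10841 L379769 q12976, e3 q10842 (flp_d L261015) q8930, e3 q10843 (flp_d L379801) q12980, e3 q10844 (flp_d L261029) q8931, e3 q10845 (flp_d L379825) q12983, e3 q10846 L261051 q8951, e3 q10847 L261059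 q8939, e3 q10848 L261065 q8933, e3 q10849 L261071 q8953, e3 q10850 L261081 q10850, e3 q10851 L261086 q8954, e3 q10852 L261093 q8941, e3 q10853 L261100 q8942, e3 q10854 (flp_d L378545) q12887, e3 q10855 (flp_d L379819) q12982, e3 q10856 L261125 q8938, e3 q10857 (flp_d L379857) q12987, e3 q10858 (flp_d L379863) q12988, e3 q10859 (flp_d L379922) q12996, e3 q10860 (flp_d L379928) q12997, e3 q10861 (flp_d L357419) q12002, e3 q10862 (flp_d L357427) q12003, e3 q10863 L380066 q13006, e3 q10864 (flp_d L261223) q8946, e3 q10865 (flp_d L380100) q13010, e3 q10866 (flp_d L379791) q12978, e3 q10867 (flp_d L376937) q12842, e3 q10868 L261255 q8948, e3 q10869 (flp_d L379810) q12981, e3 q10870 L261270 q8950, e3 q10871 (flp_d L379832) q12984, e3 q10872 (flp_d L379849) q12986, e3 q10873 (flp_d L378724) q12895, e3 q10874 (flp_d L379879) q12990, e3 q10875 (flp_d L379896) q12992, e3 q10876 L380207 q13024, e3 q10877 (flp_d L261321) q8956, e3 q10878 (flp_d L380229) q13025, e3 q10879 L261344 q9287, trivial⟩ (by decide +kernel)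

theorem ce_d_170 : ∀ r, r < 64 → sm gd (Qf (10880 + r)) = Qf (tab Gen.d (10880 + r)) :=
  edges_tab (sm gd) Qf (tab Gen.d) 10880 [(10880, 11910), (10881, 8958), (10882, 9290), (10883, 13034), (10884, 9292), (10885, 12855), (10886, 12901), (10887, 9295), (10888, 9296), (10889, 12904), (10890, 9298), (10891, 9299), (10892, 13043), (10893, 9301), (10894, 13045), (10895, 8969), (10896, 9001), (10897, 8971), (10898, 8998), (10899, 13049), (10900, 9623), (10901, 12745), (10902, 10902), (10903, 10903), (10904, 12166), (10905, 8976), (10906, 13054), (10907, 10907), (10908, 10908), (10909, 13056), (10910, 11758), (10911, 13058), (10912, 8982), (10913, 13062), (10914, 9628), (10915, 8984), (10916, 13064), (10917, 13061), (10918, 8986), (10919, 12167), (10920, 13060), (10921, 8992), (10922, 10922), (10923, 9045), (10924, 13068), (10925, 12057), (10926, 9046), (10927, 13072), (10928, 9002), (10929, 13075), (10930, 9595), (10931, 12743), (10932, 10932), (10933, 13079), (10934, 11682), (10935, 9008), (10936, 13082), (10937, 13074), (10938,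 9010), (10939, 9402), (10940, 9015), (10941, 9014), (10942, 13086), (10943, 9597)]
    ⟨e3 q10880 (flp_d L635150) q11910, e3 q10881 L261356 q8958, e3 q10882 L261364 q9290, e3 q10883 L380301 q13034, e3 q10884 L261381 q9292, e3 q10885 (flp_d L377064) q12855, e3 q10886 (flp_d L378820) q12901, e3 q10887 L261399 q9295, e3 q10888 L261411 q9296, e3 q10889 (flp_d L378847) q12904, e3 q10890 L261427 q9298, e3 q10891 L261438 q9299, e3 q10892 L380378 q13043, e3 q10893 L261457 q9301, e3 q10894 L380394 q13045, e3 q10895 (flp_d L261468) q8969, e3 q10896 L612413 q9001, e3 q10897 (flp_d L261522) q8971, e3 q10898 L611888 q8998, e3 q10899 L380557 q13049, e3 q10900 (flp_d L621558) q9623, e3 q10901 (flp_d L550880) q12745, e3 q10902 L261623 q10902, e3 q10903 L261632 q10903, e3 q10904 (flp_d L637416) q12166, e3 q10905 (flp_d L261648) q8976, e3 q10906 (flp_d L380721) q13054, e3 q10907 L261678 q10907, e3 q10908 L261684 q10908, e3 q10909 L380764 q13056, e3 q10910 (flp_d L612345) q11758, e3 q10911 L380805 q13058, e3 q10912 (flp_d L261731) q8982, e3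 q10913 (flp_d L380833) q13062, e3 q10914 (flp_d L611743) q9628, e3 q10915 (flp_d L261754) q8984, e3 q10916 (flp_d L380868) q13064, e3 q10917 (flp_d L380829) q13061, e3 q10918 L261781 q8986, e3 q10919 (flp_d L637235) q12167, e3 q10920 (flp_d L380823) q13060, e3 q10921 L261867 q8992, e3 q10922 L261876 q10922, e3 q10923 L261970 q9045, e3 q10924 L381323 q13068, e3 q10925 (flp_d L612423) q12057, e3 q10926 L617572 q9046, e3 q10927 L381370 q13072, e3 q10928 (flp_d L262107) q9002, e3 q10929 (flp_d L381406) q13075, e3 q10930 L617521 q9595, e3 q10931 (flp_d L549796) q12743, e3 q10932 L262213 q10932, e3 q10933 L381540 q13079, e3 q10934 (flp_d L648119) q11682, e3 q10935 (flp_d L262236) q9008, e3 q10936 (flp_d L381593) q13082, e3 q10937 (flp_d L381392) q13074, e3 q10938 L262269 q9010, e3 q10939 L262280 q9402, e3 q10940 L262290 q9015, e3 q10941 (flp_d L262308) q9014, e3 q10942 (flp_d L381684) q13086, e3 q10943 L617555 q9597, trivial⟩ (by decide +kernel)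

theorem ce_d_171 : ∀ r, r < 64 → sm gd (Qf (10944 + r)) = Qf (tab Gen.d (10944 + r)) :=
  edges_tab (sm gd) Qf (tab Gen.d) 10944 [(10944, 13089), (10945, 12815), (10946, 9017), (10947, 13093), (10948, 9032), (10949, 9023), (10950, 9019), (10951, 9596), (10952, 9022), (10953, 13097), (10954, 13098), (10955, 12154), (10956, 12155), (10957, 10957), (10958, 13105), (10959, 9028), (10960, 13108), (10961, 9029), (10962, 13109), (10963, 13092), (10964, 9031), (10965, 13094), (10966, 13096), (10967, 13067), (10968, 12271), (10969, 9036), (10970, 10970), (10971, 9038), (10972, 12100), (10973, 9040), (10974, 12092), (10975, 12101), (10976, 12168), (10977, 12774), (10978, 12775), (10979, 13118), (10980, 9096), (10981, 9049), (10982, 13129), (10983, 13127), (10984, 9091), (10985, 13134), (10986, 9050), (10987, 13137), (10988, 9629), (10989, 12794), (10990, 10990), (10991, 13141), (10992, 12377), (10993, 9056), (10994, 13145), (10995, 13136), (10996, 9058), (10997, 10997), (10998, 9063), (10999, 13150), (11000, 9062), (11001, 13154),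 (11002, 12790), (11003, 13157), (11004, 13159), (11005, 9065), (11006, 13163), (11007, 9078)]
    ⟨e3 q10944 L381704 q13089, e3 q10945 (flp_d L617531) q12815, e3 q10946 (flp_d L262345) q9017, e3 q10947 (flp_d L381745) q13093, e3 q10948 L262361 q9032, e3 q10949 L262367 q9023, e3 q10950 L262371 q9019, e3 q10951 L621688 q9596, e3 q10952 L262407 q9022, e3 q10953 (flp_d L381773) q13097, e3 q10954 (flp_d L381779) q13098, e3 q10955 (flp_d L359051) q12154, e3 q10956 (flp_d L359058) q12155, e3 q10957 L262470 q10957, e3 q10958 L381904 q13105, e3 q10959 (flp_d L262483) q9028, e3 q10960 (flp_d L381939) q13108, e3 q10961 (flp_d L262497) q9029, e3 q10962 (flp_d L381956) q13109, e3 q10963 (flp_d L381735) q13092, e3 q10964 L262529 q9031, e3 q10965 (flp_d L381751) q13094, e3 q10966 (flp_d L381767) q13096, e3 q10967 (flp_d L381017) q13067, e3 q10968 (flp_d L649150) q12271, e3 q10969 (flp_d L262569) q9036, e3 q10970 L262595 q10970, e3 q10971 L262601 q9038, e3 q10972 (flp_d L640306) q12100, e3 q10973 L262618 q9040, e3 q10974 (flp_d L637286)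 q12092, e3 q10975 (flp_d L640298) q12101, e3 q10976 (flp_d L641290) q12168, e3 q10977 (flp_d L374984) q12774, e3 q10978 (flp_d L374994) q12775, e3 q10979 (flp_d L649188) q13118, e3 q10980 L622119 q9096, e3 q10981 L262766 q9049, e3 q10982 L382360 q13129, e3 q10983 (flp_d L382336) q13127, e3 q10984 (flp_d L622151) q9091, e3 q10985 L382407 q13134, e3 q10986 (flp_d L262809) q9050, e3 q10987 (flp_d L382441) q13137, e3 q10988 L622162 q9629, e3 q10989 (flp_d L534463) q12794, e3 q10990 L262904 q10990, e3 q10991 L382561 q13141, e3 q10992 (flp_d L637442) q12377, e3 q10993 (flp_d L262929) q9056, e3 q10994 (flp_d L382613) q13145, e3 q10995 (flp_d L382429) q13136, e3 q10996 L262960 q9058, e3 q10997 L262968 q10997, e3 q10998 L262978 q9063, e3 q10999 L382669 q13150, e3 q11000 (flp_d L262998) q9062, e3 q11001 (flp_d L382697) q13154, e3 q11002 (flp_d L622136) q12790, e3 q11003 L382717 q13157, e3 q11004 L382731 q13159, e3 q11005 (flp_d L263035) q9065, e3 q11006 (flp_d L382759) q13163, e3 q11007 L263051 q9078, trivial⟩ (by decide +kernel)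

theorem ce_d_172 : ∀ r, r < 64 → sm gd (Qf (11008 + r)) = Qf (tab Gen.d (11008 + r)) :=
  edges_tab (sm gd) Qf (tab Gen.d) 11008 [(11008, 9071), (11009, 9067), (11010, 9068), (11011, 13169), (11012, 13162), (11013, 9070), (11014, 13167), (11015, 11015), (11016, 12371), (11017, 9074), (11018, 13175), (11019, 12378), (11020, 13161), (11021, 9077), (11022, 13164), (11023, 13166), (11024, 9141), (11025, 12373), (11026, 9202), (11027, 9084), (11028, 9152), (11029, 12129), (11030, 12159), (11031, 13185), (11032, 13153), (11033, 13131), (11034, 9095), (11035, 13189), (11036, 9094), (11037, 13192), (11038, 13126), (11039, 13195), (11040, 13197), (11041, 9097), (11042, 13200), (11043, 9107), (11044, 9099), (11045, 12786), (11046, 11046), (11047, 13205), (11048, 9103), (11049, 13209), (11050, 9104), (11051, 13210), (11052, 13199), (11053, 9106), (11054, 13201), (11055, 13202), (11056, 13148), (11057, 9239), (11058, 9115), (11059, 13217), (11060, 9112), (11061, 13220), (11062, 11062), (11063, 9635), (11064, 9114), (11065, 13216), (11066,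 13228), (11067, 9116), (11068, 13232), (11069, 9117), (11070, 13234), (11071, 9137)]
    ⟨e3 q11008 L263055 q9071, e3 q11009 L263059 q9067, e3 q11010 (flp_d L263061) q9068, e3 q11011 (flp_d L382802) q13169, e3 q11012 (flp_d L382755) q13162, e3 q11013 L263090 q9070, e3 q11014 (flp_d L382784) q13167, e3 q11015 L263142 q11015, e3 q11016 (flp_d L637617) q12371, e3 q11017 (flp_d L263157) q9074, e3 q11018 (flp_d L382929) q13175, e3 q11019 (flp_d L637625) q12378, e3 q11020 (flp_d L382749) q13161, e3 q11021 L263202 q9077, e3 q11022 (flp_d L382765) q13164, e3 q11023 (flp_d L382776) q13166, e3 q11024 L263223 q9141, e3 q11025 (flp_d L636991) q12373, e3 q11026 L263262 q9202, e3 q11027 L263268 q9084, e3 q11028 L263307 q9152, e3 q11029 (flp_d L637567) q12129, e3 q11030 (flp_d L644070) q12159, e3 q11031 L383126 q13185, e3 q11032 (flp_d L504831) q13153, e3 q11033 (flp_d L612521) q13131, e3 q11034 L263478 q9095, e3 q11035 L383418 q13189, e3 q11036 (flp_d L263498) q9094, e3 q11037 (flp_d L383454) q13192, e3 q11038 (flp_d L622130) q13126, e3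 q11039 L383476 q13195, e3 q11040 L383492 q13197, e3 q11041 (flp_d L263541) q9097, e3 q11042 (flp_d L383528) q13200, e3 q11043 L263561 q9107, e3 q11044 L263573 q9099, e3 q11045 (flp_d L568104) q12786, e3 q11046 L263682 q11046, e3 q11047 L383701 q13205, e3 q11048 (flp_d L263696) q9103, e3 q11049 (flp_d L383744) q13209, e3 q11050 (flp_d L263713) q9104, e3 q11051 (flp_d L383762) q13210, e3 q11052 (flp_d L383514) q13199, e3 q11053 L263746 q9106, e3 q11054 (flp_d L383534) q13201, e3 q11055 (flp_d L383550) q13202, e3 q11056 (flp_d L382636) q13148, e3 q11057 L263777 q9239, e3 q11058 L263784 q9115, e3 q11059 L383848 q13217, e3 q11060 (flp_d L263800) q9112, e3 q11061 (flp_d L383889) q13220, e3 q11062 L263817 q11062, e3 q11063 L263822 q9635, e3 q11064 L263826 q9114, e3 q11065 (flp_d L383839) q13216, e3 q11066 L383933 q13228, e3 q11067 (flp_d L263844) q9116, e3 q11068 (flp_d L383961) q13232, e3 q11069 (flp_d L263856) q9117, e3 q11070 (flp_d L383979) q13234, e3 q11071 L263872 q9137, trivial⟩ (by decide +kernel)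

theorem ce_d_173 : ∀ r, r < 64 → sm gd (Qf (11072 + r)) = Qf (tab Gen.d (11072 + r)) :=
  edges_tab (sm gd) Qf (tab Gen.d) 11072 [(11072, 9125), (11073, 9119), (11074, 9139), (11075, 9459), (11076, 9140), (11077, 9127), (11078, 9128), (11079, 13168), (11080, 9124), (11081, 13238), (11082, 13239), (11083, 13247), (11084, 13248), (11085, 12351), (11086, 12352), (11087, 13255), (11088, 9132), (11089, 13259), (11090, 13230), (11091, 9275), (11092, 9134), (11093, 13233), (11094, 9136), (11095, 13235), (11096, 13237), (11097, 13177), (11098, 13241), (11099, 13243), (11100, 13273), (11101, 9142), (11102, 13274), (11103, 12265), (11104, 9288), (11105, 9144), (11106, 12853), (11107, 13283), (11108, 12854), (11109, 9293), (11110, 13182), (11111, 12856), (11112, 12857), (11113, 12379), (11114, 12858), (11115, 12859), (11116, 13292), (11117, 12861), (11118, 13294), (11119, 9155), (11120, 12657), (11121, 9653), (11122, 12655), (11123, 13298), (11124, 13300), (11125, 9160), (11126, 13302), (11127, 9162), (11128, 12920), (11129, 9304),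 (11130, 12651), (11131, 12652), (11132, 12653), (11133, 12914), (11134, 9175), (11135, 13309)]
    ⟨e3 q11072 L263878 q9125, e3 q11073 L263882 q9119, e3 q11074 L263888 q9139, e3 q11075 L263894 q9459, e3 q11076 L263900 q9140, e3 q11077 L263904 q9127, e3 q11078 L263908 q9128, e3 q11079 (flp_d L382790) q13168, e3 q11080 L263926 q9124, e3 q11081 (flp_d L384007) q13238, e3 q11082 (flp_d L384011) q13239, e3 q11083 (flp_d L384057) q13247, e3 q11084 (flp_d L384061) q13248, e3 q11085 (flp_d L361110) q12351, e3 q11086 (flp_d L361118) q12352, e3 q11087 L384187 q13255, e3 q11088 (flp_d L264020) q9132, e3 q11089 (flp_d L384224) q13259, e3 q11090 (flp_d L383953) q13230, e3 q11091 L264049 q9275, e3 q11092 L264057 q9134, e3 q11093 (flp_d L383969) q13233, e3 q11094 L264072 q9136, e3 q11095 (flp_d L383985) q13235, e3 q11096 (flp_d L384001) q13237, e3 q11097 (flp_d L382970) q13177, e3 q11098 (flp_d L384023) q13241, e3 q11099 (flp_d L384035) q13243, e3 q11100 L384338 q13273, e3 q11101 (flp_d L264126) q9142, e3 q11102 (flp_d L384358) q13274,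 e3 q11103 (flp_d L641011) q12265, e3 q11104 L264153 q9288, e3 q11105 L264160 q9144, e3 q11106 (flp_d L377042) q12853, e3 q11107 L384426 q13283, e3 q11108 (flp_d L377057) q12854, e3 q11109 L264189 q9293, e3 q11110 (flp_d L383065) q13182, e3 q11111 (flp_d L377076) q12856, e3 q11112 (flp_d L377086) q12857, e3 q11113 (flp_d L636984) q12379, e3 q11114 (flp_d L377099) q12858, e3 q11115 (flp_d L377109) q12859, e3 q11116 L384502 q13292, e3 q11117 (flp_d L377127) q12861, e3 q11118 L384516 q13294, e3 q11119 (flp_d L264265) q9155, e3 q11120 (flp_d L546973) q12657, e3 q11121 L616051 q9653, e3 q11122 (flp_d L561820) q12655, e3 q11123 L384894 q13298, e3 q11124 L384910 q13300, e3 q11125 (flp_d L264505) q9160, e3 q11126 (flp_d L384950) q13302, e3 q11127 L264541 q9162, e3 q11128 (flp_d L554129) q12920, e3 q11129 L264643 q9304, e3 q11130 (flp_d L562214) q12651, e3 q11131 (flp_d L562104) q12652, e3 q11132 (flp_d L562089) q12653, e3 q11133 (flp_d L615392) q12914, e3 q11134 L264755 q9175, e3 q11135 L385275 q13309, trivial⟩ (by decide +kernel)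

theorem ce_d_174 : ∀ r, r < 64 → sm gd (Qf (11136 + r)) = Qf (tab Gen.d (11136 + r)) :=
  edges_tab (sm gd) Qf (tab Gen.d) 11136 [(11136, 13311), (11137, 9172), (11138, 13314), (11139, 9213), (11140, 9174), (11141, 13307), (11142, 13318), (11143, 9176), (11144, 13322), (11145, 9177), (11146, 13325), (11147, 9194), (11148, 9185), (11149, 9179), (11150, 9196), (11151, 11151), (11152, 9197), (11153, 9187), (11154, 9262), (11155, 13324), (11156, 9184), (11157, 13329), (11158, 13330), (11159, 13340), (11160, 9189), (11161, 13344), (11162, 13320), (11163, 13174), (11164, 9191), (11165, 13323), (11166, 9193), (11167, 13326), (11168, 13328), (11169, 12972), (11170, 13333), (11171, 9198), (11172, 13354), (11173, 12023), (11174, 12372), (11175, 9200), (11176, 12899), (11177, 12628), (11178, 12900), (11179, 13181), (11180, 9294), (11181, 12902), (11182, 12903), (11183, 9297), (11184, 12905), (11185, 12906), (11186, 13370), (11187, 12908), (11188, 13372), (11189, 9211), (11190, 9214), (11191, 9215), (11192, 13313), (11193, 13315), (11194,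 12658), (11195, 13187), (11196, 9221), (11197, 13381), (11198, 13383), (11199, 9218)]
    ⟨e3 q11136 L385289 q13311, e3 q11137 (flp_d L264776) q9172, e3 q11138 (flp_d L385325) q13314, e3 q11139 (flp_d L547309) q9213, e3 q11140 L264808 q9174, e3 q11141 (flp_d L385262) q13307, e3 q11142 L385378 q13318, e3 q11143 (flp_d L264826) q9176, e3 q11144 (flp_d L385404) q13322, e3 q11145 (flp_d L264838) q9177, e3 q11146 (flp_d L385424) q13325, e3 q11147 L264858 q9194, e3 q11148 L264864 q9185, e3 q11149 L264868 q9179, e3 q11150 L264874 q9196, e3 q11151 L264882 q11151, e3 q11152 L264887 q9197, e3 q11153 L264897 q9187, e3 q11154 L264905 q9262, e3 q11155 (flp_d L385420) q13324, e3 q11156 L264918 q9184, e3 q11157 (flp_d L385452) q13329, e3 q11158 (flp_d L385456) q13330, e3 q11159 L385627 q13340, e3 q11160 (flp_d L265000) q9189, e3 q11161 (flp_d L385666) q13344, e3 q11162 (flp_d L385398) q13320, e3 q11163 (flp_d L382922) q13174, e3 q11164 L265037 q9191, e3 q11165 (flp_d L385413) q13323, e3 q11166 L265053 q9193, e3 q11167 (flp_d L385431) q13326,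 e3 q11168 (flp_d L385446) q13328, e3 q11169 (flp_d L542372) q12972, e3 q11170 (flp_d L385483) q13333, e3 q11171 (flp_d L265110) q9198, e3 q11172 (flp_d L385810) q13354, e3 q11173 (flp_d L640965) q12023, e3 q11174 (flp_d L637016) q12372, e3 q11175 L265146 q9200, e3 q11176 (flp_d L378790) q12899, e3 q11177 (flp_d L648188) q12628, e3 q11178 (flp_d L378806) q12900, e3 q11179 (flp_d L383055) q13181, e3 q11180 L265184 q9294, e3 q11181 (flp_d L378825) q12902, e3 q11182 (flp_d L378836) q12903, e3 q11183 L265212 q9297, e3 q11184 (flp_d L378852) q12905, e3 q11185 (flp_d L378862) q12906, e3 q11186 L385955 q13370, e3 q11187 (flp_d L378879) q12908, e3 q11188 L385973 q13372, e3 q11189 (flp_d L265256) q9211, e3 q11190 L265286 q9214, e3 q11191 L265292 q9215, e3 q11192 (flp_d L547299) q13313, e3 q11193 L507957 q13315, e3 q11194 (flp_d L614641) q12658, e3 q11195 (flp_d L383389) q13187, e3 q11196 L265531 q9221, e3 q11197 L386460 q13381, e3 q11198 L386476 q13383, e3 q11199 (flp_d L265554) q9218, trivial⟩ (by decide +kernel)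

theorem ce_d_175 : ∀ r, r < 64 → sm gd (Qf (11200 + r)) = Qf (tab Gen.d (11200 + r)) :=
  edges_tab (sm gd) Qf (tab Gen.d) 11200 [(11200, 13385), (11201, 9220), (11202, 13379), (11203, 13388), (11204, 9222), (11205, 13392), (11206, 9223), (11207, 13394), (11208, 9235), (11209, 9225), (11210, 9237), (11211, 9238), (11212, 13303), (11213, 13401), (11214, 9230), (11215, 13405), (11216, 13390), (11217, 13208), (11218, 9232), (11219, 13393), (11220, 9234), (11221, 13395), (11222, 13396), (11223, 13398), (11224, 13399), (11225, 9620), (11226, 13417), (11227, 9248), (11228, 13420), (11229, 9241), (11230, 13424), (11231, 9242), (11232, 13427), (11233, 9358), (11234, 9660), (11235, 9244), (11236, 9360), (11237, 11237), (11238, 9361), (11239, 9662), (11240, 9663), (11241, 13316), (11242, 13443), (11243, 9249), (11244, 13447), (11245, 9274), (11246, 13231), (11247, 9251), (11248, 9277), (11249, 9263), (11250, 9253), (11251, 9279), (11252, 9533), (11253, 9280), (11254, 9265), (11255, 9266), (11256, 13331), (11257, 9282), (11258, 9539),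 (11259, 9283), (11260, 9541), (11261, 9542), (11262, 13477), (11263, 9267)]
    ⟨e3 q11200 (flp_d L386520) q13385, e3 q11201 L265594 q9220, e3 q11202 (flp_d L386447) q13379, e3 q11203 L386584 q13388, e3 q11204 (flp_d L265614) q9222, e3 q11205 (flp_d L386618) q13392, e3 q11206 (flp_d L265628) q9223, e3 q11207 (flp_d L386644) q13394, e3 q11208 L265652 q9235, e3 q11209 L265666 q9225, e3 q11210 L265672 q9237, e3 q11211 L265690 q9238, e3 q11212 (flp_d L384997) q13303, e3 q11213 L386907 q13401, e3 q11214 (flp_d L265839) q9230, e3 q11215 (flp_d L386951) q13405, e3 q11216 (flp_d L386608) q13390, e3 q11217 (flp_d L383735) q13208, e3 q11218 L265881 q9232, e3 q11219 (flp_d L386629) q13393, e3 q11220 L265901 q9234, e3 q11221 (flp_d L386651) q13395, e3 q11222 (flp_d L386671) q13396, e3 q11223 (flp_d L386699) q13398, e3 q11224 (flp_d L386715) q13399, e3 q11225 (flp_d L615115) q9620, e3 q11226 L387108 q13417, e3 q11227 L265987 q9248, e3 q11228 L387127 q13420, e3 q11229 (flp_d L265998) q9241, e3 q11230 (flp_d L387157) q13424, e3 q11231 (flp_d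 L266010) q9242, e3 q11232 (flp_d L387181) q13427, e3 q11233 L266032 q9358, e3 q11234 L266040 q9660, e3 q11235 L266044 q9244, e3 q11236 L266050 q9360, e3 q11237 L266062 q11237, e3 q11238 L266067 q9361, e3 q11239 L266072 q9662, e3 q11240 L266079 q9663, e3 q11241 (flp_d L385367) q13316, e3 q11242 L387296 q13443, e3 q11243 (flp_d L266096) q9249, e3 q11244 (flp_d L387322) q13447, e3 q11245 L266114 q9274, e3 q11246 (flp_d L383957) q13231, e3 q11247 L266120 q9251, e3 q11248 L266129 q9277, e3 q11249 L266136 q9263, e3 q11250 L266140 q9253, e3 q11251 L266147 q9279, e3 q11252 L266157 q9533, e3 q11253 L266163 q9280, e3 q11254 L266169 q9265, e3 q11255 L266173 q9266, e3 q11256 (flp_d L385466) q13331, e3 q11257 L266185 q9282, e3 q11258 L266193 q9539, e3 q11259 L266199 q9283, e3 q11260 L266206 q9541, e3 q11261 L266213 q9542, e3 q11262 L387522 q13477, e3 q11263 L266225 q9267, trivial⟩ (by decide +kernel)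

theorem ce_d_176 : ∀ r, r < 64 → sm gd (Qf (11264 + r)) = Qf (tab Gen.d (11264 + r)) :=
  edges_tab (sm gd) Qf (tab Gen.d) 11264 [(11264, 9268), (11265, 12940), (11266, 13457), (11267, 13458), (11268, 13466), (11269, 13467), (11270, 13478), (11271, 13479), (11272, 12603), (11273, 9271), (11274, 13487), (11275, 13445), (11276, 13258), (11277, 9273), (11278, 13448), (11279, 13496), (11280, 13450), (11281, 13263), (11282, 12665), (11283, 13454), (11284, 13456), (11285, 12666), (11286, 13460), (11287, 13462), (11288, 13505), (11289, 13470), (11290, 13507), (11291, 9284), (11292, 9286), (11293, 13026), (11294, 13028), (11295, 13278), (11296, 13358), (11297, 13031), (11298, 12664), (11299, 13033), (11300, 9291), (11301, 13038), (11302, 13039), (11303, 13041), (11304, 13512), (11305, 9300), (11306, 11699), (11307, 9302), (11308, 9485), (11309, 11309), (11310, 13515), (11311, 9310), (11312, 12434), (11313, 12435), (11314, 12436), (11315, 9311), (11316, 12420), (11317, 11317), (11318, 12413), (11319, 13377), (11320, 12414), (11321,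 9621), (11322, 11322), (11323, 11323), (11324, 9319), (11325, 11325), (11326, 11326), (11327, 9342)]
    ⟨e3 q11264 L266229 q9268, e3 q11265 (flp_d L549157) q12940, e3 q11266 (flp_d L387385) q13457, e3 q11267 (flp_d L387391) q13458, e3 q11268 (flp_d L387449) q13466, e3 q11269 (flp_d L387455) q13467, e3 q11270 (flp_d L387529) q13478, e3 q11271 (flp_d L387534) q13479, e3 q11272 (flp_d L364234) q12603, e3 q11273 (flp_d L266351) q9271, e3 q11274 (flp_d L387692) q13487, e3 q11275 (flp_d L387314) q13445, e3 q11276 (flp_d L384216) q13258, e3 q11277 L266389 q9273, e3 q11278 (flp_d L387330) q13448, e3 q11279 L387771 q13496, e3 q11280 (flp_d L387342) q13450, e3 q11281 (flp_d L384254) q13263, e3 q11282 (flp_d L562151) q12665, e3 q11283 (flp_d L387360) q13454, e3 q11284 (flp_d L387378) q13456, e3 q11285 (flp_d L513363) q12666, e3 q11286 (flp_d L387405) q13460, e3 q11287 (flp_d L387421) q13462, e3 q11288 L387856 q13505, e3 q11289 (flp_d L387476) q13470, e3 q11290 L387873 q13507, e3 q11291 (flp_d L266514) q9284, e3 q11292 L266537 q9286,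 e3 q11293 (flp_d L380236) q13026, e3 q11294 (flp_d L380257) q13028, e3 q11295 (flp_d L384391) q13278, e3 q11296 (flp_d L385857) q13358, e3 q11297 (flp_d L380281) q13031, e3 q11298 (flp_d L646518) q12664, e3 q11299 (flp_d L380297) q13033, e3 q11300 (flp_d L266609) q9291, e3 q11301 (flp_d L380332) q13038, e3 q11302 (flp_d L380344) q13039, e3 q11303 (flp_d L380365) q13041, e3 q11304 L388118 q13512, e3 q11305 (flp_d L266691) q9300, e3 q11306 (flp_d L547960) q11699, e3 q11307 (flp_d L266708) q9302, e3 q11308 (flp_d L647803) q9485, e3 q11309 L267397 q11309, e3 q11310 L389190 q13515, e3 q11311 L267414 q9310, e3 q11312 (flp_d L508512) q12434, e3 q11313 (flp_d L546885) q12435, e3 q11314 (flp_d L546881) q12436, e3 q11315 (flp_d L267756) q9311, e3 q11316 (flp_d L542917) q12420, e3 q11317 L267785 q11317, e3 q11318 (flp_d L552070) q12413, e3 q11319 (flp_d L648838) q13377, e3 q11320 (flp_d L552066) q12414, e3 q11321 (flp_d L552084) q9621, e3 q11322 L267906 q11322, e3 q11323 L267912 q11323, e3 q11324 L267916 q9319, e3 q11325 L267923 q11325,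 e3 q11326 L267966 q11326, e3 q11327 L615719 q9342, trivial⟩ (by decide +kernel)

theorem ce_d_177 : ∀ r, r < 64 → sm gd (Qf (11328 + r)) = Qf (tab Gen.d (11328 + r)) :=
  edges_tab (sm gd) Qf (tab Gen.d) 11328 [(11328, 11328), (11329, 13276), (11330, 13027), (11331, 11331), (11332, 11332), (11333, 9489), (11334, 11334), (11335, 13528), (11336, 9333), (11337, 12399), (11338, 9335), (11339, 11339), (11340, 13529), (11341, 12702), (11342, 12614), (11343, 12617), (11344, 9343), (11345, 12700), (11346, 11346), (11347, 12705), (11348, 13537), (11349, 12711), (11350, 12713), (11351, 13539), (11352, 9351), (11353, 13543), (11354, 13544), (11355, 9353), (11356, 13548), (11357, 13422), (11358, 13542), (11359, 9355), (11360, 13425), (11361, 9357), (11362, 13428), (11363, 13430), (11364, 13434), (11365, 13436), (11366, 9362), (11367, 9371), (11368, 11368), (11369, 9374), (11370, 13563), (11371, 9379), (11372, 9382), (11373, 13558), (11374, 13559), (11375, 12670), (11376, 12668), (11377, 13561), (11378, 9375), (11379, 13566), (11380,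 13564), (11381, 13567), (11382, 12672), (11383, 13569), (11384, 9384), (11385, 11989), (11386, 9386), (11387, 9591), (11388, 11696), (11389, 9391), (11390, 9399), (11391, 11778)]
    ⟨e3 q11328 L267979 q11328, e3 q11329 (flp_d L645676) q13276, e3 q11330 (flp_d L646902) q13027, e3 q11331 L268011 q11331, e3 q11332 L268021 q11332, e3 q11333 L645468 q9489, e3 q11334 L268040 q11334, e3 q11335 L390100 q13528, e3 q11336 (flp_d L268051) q9333, e3 q11337 (flp_d L648451) q12399, e3 q11338 (flp_d L268066) q9335, e3 q11339 L268079 q11339, e3 q11340 L390463 q13529, e3 q11341 (flp_d L562357) q12702, e3 q11342 (flp_d L562427) q12614, e3 q11343 (flp_d L562414) q12617, e3 q11344 (flp_d L268505) q9343, e3 q11345 (flp_d L562329) q12700, e3 q11346 L268537 q11346, e3 q11347 (flp_d L543391) q12705, e3 q11348 L390849 q13537, e3 q11349 (flp_d L543387) q12711, e3 q11350 (flp_d L543402) q12713, e3 q11351 L390976 q13539, e3 q11352 (flp_d L268684) q9351, e3 q11353 (flp_d L391008) q13543, e3 q11354 L391012 q13544, e3 q11355 (flp_d L268703) q9353, e3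 q11356 (flp_d L391045) q13548, e3 q11357 (flp_d L387149) q13422, e3 q11358 (flp_d L391002) q13542, e3 q11359 L268734 q9355, e3 q11360 (flp_d L387168) q13425, e3 q11361 L268749 q9357, e3 q11362 (flp_d L387188) q13428, e3 q11363 (flp_d L387207) q13430, e3 q11364 (flp_d L387233) q13434, e3 q11365 (flp_d L387250) q13436, e3 q11366 (flp_d L268800) q9362, e3 q11367 L268821 q9371, e3 q11368 L268828 q11368, e3 q11369 L268841 q9374, e3 q11370 L391241 q13563, e3 q11371 L268873 q9379, e3 q11372 L268900 q9382, e3 q11373 (flp_d L391161) q13558, e3 q11374 (flp_d L391179) q13559, e3 q11375 (flp_d L646438) q12670, e3 q11376 (flp_d L546408) q12668, e3 q11377 (flp_d L391222) q13561, e3 q11378 (flp_d L269029) q9375, e3 q11379 L391505 q13566, e3 q11380 (flp_d L391269) q13564, e3 q11381 L391538 q13567, e3 q11382 (flp_d L543219) q12672, e3 q11383 L391553 q13569, e3 q11384 (flp_d L269105) q9384, e3 q11385 (flp_d L648543) q11989, e3 q11386 (flp_d L269118) q9386, e3 q11387 L269126 q9591, e3 q11388 L648537 q11696, e3 q11389 (flp_d L269343) q9391,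 e3 q11390 L269873 q9399, e3 q11391 L649263 q11778, trivial⟩ (by decide +kernel)

theorem ce_d_178 : ∀ r, r < 64 → sm gd (Qf (11392 + r)) = Qf (tab Gen.d (11392 + r)) :=
  edges_tab (sm gd) Qf (tab Gen.d) 11392 [(11392, 11392), (11393, 9421), (11394, 13095), (11395, 9422), (11396, 9411), (11397, 9412), (11398, 11398), (11399, 9408), (11400, 11770), (11401, 12751), (11402, 13577), (11403, 11403), (11404, 11404), (11405, 9416), (11406, 9418), (11407, 11760), (11408, 11766), (11409, 11409), (11410, 12112), (11411, 13574), (11412, 13587), (11413, 11413), (11414, 11414), (11415, 9425), (11416, 11416), (11417, 12036), (11418, 11418), (11419, 11419), (11420, 11420), (11421, 11421), (11422, 11422), (11423, 11423), (11424, 11424), (11425, 11425), (11426, 13599), (11427, 11427), (11428, 13601), (11429, 9436), (11430, 9448), (11431, 11431), (11432, 9514), (11433, 9442), (11434, 9444), (11435, 11857), (11436, 11436), (11437, 12121), (11438, 12148), (11439, 13610), (11440, 11440), (11441, 13613), (11442, 11442), (11443, 9705), (11444,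 9706), (11445, 9479), (11446, 13236), (11447, 9480), (11448, 9466), (11449, 9467), (11450, 11450), (11451, 9482), (11452, 13242), (11453, 9483), (11454, 13244), (11455, 13245)]
    ⟨e3 q11392 L269901 q11392, e3 q11393 L270056 q9421, e3 q11394 (flp_d L381761) q13095, e3 q11395 L270072 q9422, e3 q11396 L270080 q9411, e3 q11397 L270088 q9412, e3 q11398 L270100 q11398, e3 q11399 L270113 q9408, e3 q11400 (flp_d L649269) q11770, e3 q11401 (flp_d L648951) q12751, e3 q11402 (flp_d L649461) q13577, e3 q11403 L270170 q11403, e3 q11404 L270243 q11404, e3 q11405 L270248 q9416, e3 q11406 L270264 q9418, e3 q11407 (flp_d L648630) q11760, e3 q11408 L648584 q11766, e3 q11409 L270289 q11409, e3 q11410 L649401 q12112, e3 q11411 (flp_d L649438) q13574, e3 q11412 L649551 q13587, e3 q11413 L270344 q11413, e3 q11414 L270351 q11414, e3 q11415 L270355 q9425, e3 q11416 L270363 q11416, e3 q11417 L648827 q12036, e3 q11418 L270380 q11418, e3 q11419 L270387 q11419, e3 q11420 L270397 q11420, e3 q11421 L270401 q11421, e3 q11422 L270412 q11422, e3 q11423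 L270424 q11423, e3 q11424 L270428 q11424, e3 q11425 L270437 q11425, e3 q11426 L649651 q13599, e3 q11427 L270453 q11427, e3 q11428 L649668 q13601, e3 q11429 (flp_d L270465) q9436, e3 q11430 L270932 q9448, e3 q11431 L270955 q11431, e3 q11432 L271108 q9514, e3 q11433 L271115 q9442, e3 q11434 L271132 q9444, e3 q11435 L649255 q11857, e3 q11436 L271157 q11436, e3 q11437 (flp_d L649219) q12121, e3 q11438 (flp_d L649221) q12148, e3 q11439 L649745 q13610, e3 q11440 L271256 q11440, e3 q11441 L649770 q13613, e3 q11442 L271271 q11442, e3 q11443 L271276 q9705, e3 q11444 L271284 q9706, e3 q11445 L271367 q9479, e3 q11446 (flp_d L383995) q13236, e3 q11447 L271382 q9480, e3 q11448 L271389 q9466, e3 q11449 L271394 q9467, e3 q11450 L271405 q11450, e3 q11451 L271409 q9482, e3 q11452 (flp_d L384029) q13242, e3 q11453 L271422 q9483, e3 q11454 (flp_d L384041) q13244, e3 q11455 (flp_d L384047) q13245, trivial⟩ (by decide +kernel)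

theorem ce_d_179 : ∀ r, r < 64 → sm gd (Qf (11456 + r)) = Qf (tab Gen.d (11456 + r)) :=
  edges_tab (sm gd) Qf (tab Gen.d) 11456 [(11456, 13632), (11457, 9468), (11458, 9469), (11459, 12811), (11460, 11841), (11461, 11842), (11462, 13621), (11463, 13622), (11464, 13633), (11465, 13634), (11466, 9473), (11467, 11931), (11468, 13642), (11469, 11952), (11470, 9560), (11471, 11471), (11472, 11823), (11473, 11834), (11474, 11474), (11475, 12287), (11476, 13618), (11477, 13650), (11478, 13625), (11479, 13652), (11480, 9484), (11481, 11481), (11482, 11482), (11483, 11483), (11484, 11484), (11485, 13526), (11486, 11486), (11487, 13367), (11488, 13661), (11489, 13040), (11490, 11490), (11491, 11491), (11492, 13664), (11493, 11493), (11494, 13666), (11495, 9498), (11496, 13668), (11497, 9500), (11498, 13295), (11499, 9513), (11500, 9503), (11501, 9516), (11502, 9505), (11503, 9518), (11504, 9519), (11505, 11505), (11506, 9521), (11507, 9522), (11508, 13683), (11509, 11704), (11510, 9512), (11511, 13672), (11512, 13689), (11513, 13673),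 (11514, 13604), (11515, 11515), (11516, 13675), (11517, 13676), (11518, 11518), (11519, 13678)]
    ⟨e3 q11456 L649903 q13632, e3 q11457 L271444 q9468, e3 q11458 L271450 q9469, e3 q11459 (flp_d L648793) q12811, e3 q11460 (flp_d L648511) q11841, e3 q11461 (flp_d L649273) q11842, e3 q11462 (flp_d L649831) q13621, e3 q11463 (flp_d L649838) q13622, e3 q11464 (flp_d L649912) q13633, e3 q11465 (flp_d L649918) q13634, e3 q11466 L271611 q9473, e3 q11467 (flp_d L648618) q11931, e3 q11468 L649983 q13642, e3 q11469 L649099 q11952, e3 q11470 L271642 q9560, e3 q11471 L271654 q11471, e3 q11472 L648624 q11823, e3 q11473 (flp_d L649117) q11834, e3 q11474 L271675 q11474, e3 q11475 (flp_d L649393) q12287, e3 q11476 (flp_d L649812) q13618, e3 q11477 L650043 q13650, e3 q11478 (flp_d L649863) q13625, e3 q11479 L650057 q13652, e3 q11480 (flp_d L271714) q9484, e3 q11481 L271746 q11481, e3 q11482 L271765 q11482, e3 q11483 L271786 q11483, e3 q11484 L271790 q11484, e3 q11485 L649287 q13526, e3 q11486 L271806 q11486, e3 q11487 L649289 q13367, e3 q11488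 L650126 q13661, e3 q11489 L649307 q13040, e3 q11490 L271843 q11490, e3 q11491 L271852 q11491, e3 q11492 L650150 q13664, e3 q11493 L271868 q11493, e3 q11494 L650166 q13666, e3 q11495 (flp_d L271878) q9498, e3 q11496 L650182 q13668, e3 q11497 (flp_d L271893) q9500, e3 q11498 (flp_d L384525) q13295, e3 q11499 L272309 q9513, e3 q11500 L272321 q9503, e3 q11501 L272334 q9516, e3 q11502 L272350 q9505, e3 q11503 L272357 q9518, e3 q11504 L272377 q9519, e3 q11505 L272404 q11505, e3 q11506 L272408 q9521, e3 q11507 L272425 q9522, e3 q11508 L650308 q13683, e3 q11509 L648548 q11704, e3 q11510 L272649 q9512, e3 q11511 (flp_d L650211) q13672, e3 q11512 L650373 q13689, e3 q11513 (flp_d L650223) q13673, e3 q11514 (flp_d L649697) q13604, e3 q11515 L272697 q11515, e3 q11516 (flp_d L650239) q13675, e3 q11517 (flp_d L650251) q13676, e3 q11518 L272725 q11518, e3 q11519 (flp_d L650267) q13678, trivial⟩ (by decide +kernel)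

theorem ce_d_180 : ∀ r, r < 64 → sm gd (Qf (11520 + r)) = Qf (tab Gen.d (11520 + r)) :=
  edges_tab (sm gd) Qf (tab Gen.d) 11520 [(11520, 13679), (11521, 13697), (11522, 13681), (11523, 13699), (11524, 9523), (11525, 9555), (11526, 9525), (11527, 9557), (11528, 13706), (11529, 9559), (11530, 11962), (11531, 11965), (11532, 11532), (11533, 9562), (11534, 13455), (11535, 9563), (11536, 9547), (11537, 9548), (11538, 11538), (11539, 9565), (11540, 13461), (11541, 9566), (11542, 13463), (11543, 13464), (11544, 13729), (11545, 9549), (11546, 9550), (11547, 12955), (11548, 13469), (11549, 9568), (11550, 13471), (11551, 13472), (11552, 13739), (11553, 13474), (11554, 13475), (11555, 13743), (11556, 9543), (11557, 9551), (11558, 9552), (11559, 11969), (11560, 12949), (11561, 13719), (11562, 13730), (11563, 13731), (11564, 13745), (11565, 13701), (11566, 13703), (11567, 13705), (11568, 9558), (11569, 13751), (11570, 13715), (11571, 13713), (11572, 13722), (11573, 9567), (11574, 11707), (11575, 9569), (11576, 13508), (11577, 11577),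 (11578, 11578), (11579, 12710), (11580, 11580), (11581, 9577), (11582, 13754), (11583, 9583)]
    ⟨e3 q11520 (flp_d L650278) q13679, e3 q11521 L650451 q13697, e3 q11522 (flp_d L650297) q13681, e3 q11523 L650471 q13699, e3 q11524 (flp_d L272772) q9523, e3 q11525 L272806 q9555, e3 q11526 L272817 q9525, e3 q11527 L272825 q9557, e3 q11528 L650542 q13706, e3 q11529 L272842 q9559, e3 q11530 (flp_d L649103) q11962, e3 q11531 L649101 q11965, e3 q11532 L272865 q11532, e3 q11533 L272869 q9562, e3 q11534 (flp_d L387372) q13455, e3 q11535 L272888 q9563, e3 q11536 L272896 q9547, e3 q11537 L272904 q9548, e3 q11538 L272917 q11538, e3 q11539 L272922 q9565, e3 q11540 (flp_d L387415) q13461, e3 q11541 L272940 q9566, e3 q11542 (flp_d L387429) q13463, e3 q11543 (flp_d L387435) q13464, e3 q11544 L650726 q13729, e3 q11545 L272967 q9549, e3 q11546 L272975 q9550, e3 q11547 (flp_d L648254) q12955, e3 q11548 (flp_d L387470) q13469, e3 q11549 L272999 q9568, e3 q11550 (flp_d L387483) q13471, e3 q11551 (flp_d L387490) q13472, e3 q11552 L650806 q13739,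 e3 q11553 (flp_d L387504) q13474, e3 q11554 (flp_d L387510) q13475, e3 q11555 L650838 q13743, e3 q11556 (flp_d L273049) q9543, e3 q11557 L273060 q9551, e3 q11558 L273068 q9552, e3 q11559 L648535 q11969, e3 q11560 (flp_d L649351) q12949, e3 q11561 (flp_d L650649) q13719, e3 q11562 (flp_d L650737) q13730, e3 q11563 (flp_d L650745) q13731, e3 q11564 (flp_d L650852) q13745, e3 q11565 (flp_d L650493) q13701, e3 q11566 (flp_d L650513) q13703, e3 q11567 (flp_d L650535) q13705, e3 q11568 (flp_d L273311) q9558, e3 q11569 (flp_d L650893) q13751, e3 q11570 (flp_d L650615) q13715, e3 q11571 (flp_d L650593) q13713, e3 q11572 (flp_d L650677) q13722, e3 q11573 (flp_d L273384) q9567, e3 q11574 (flp_d L648507) q11707, e3 q11575 (flp_d L273401) q9569, e3 q11576 (flp_d L387885) q13508, e3 q11577 L273732 q11577, e3 q11578 L273780 q11578, e3 q11579 (flp_d L649371) q12710, e3 q11580 L273797 q11580, e3 q11581 (flp_d L273801) q9577, e3 q11582 L650910 q13754, e3 q11583 (flp_d L273878) q9583, trivial⟩ (by decide +kernel)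

theorem ce_d_181 : ∀ r, r < 64 → sm gd (Qf (11584 + r)) = Qf (tab Gen.d (11584 + r)) :=
  edges_tab (sm gd) Qf (tab Gen.d) 11584 [(11584, 11706), (11585, 9585), (11586, 12564), (11587, 13750), (11588, 13570), (11589, 11589), (11590, 11590), (11591, 9633), (11592, 13076), (11593, 13087), (11594, 11594), (11595, 9654), (11596, 9655), (11597, 9656), (11598, 9643), (11599, 9644), (11600, 9606), (11601, 13762), (11602, 9608), (11603, 13426), (11604, 9659), (11605, 9658), (11606, 12967), (11607, 9614), (11608, 11608), (11609, 12973), (11610, 13415), (11611, 13523), (11612, 13051), (11613, 12748), (11614, 11773), (11615, 13063), (11616, 13138), (11617, 9631), (11618, 12800), (11619, 13224), (11620, 13225), (11621, 9639), (11622, 12817), (11623, 13767), (11624, 9647), (11625, 9646), (11626, 13761), (11627, 13771), (11628, 13770), (11629, 13769), (11630, 9680), (11631, 9649), (11632, 9683), (11633, 13774), (11634, 13759), (11635, 13760), (11636, 9657), (11637, 13777), (11638, 13431), (11639, 13432), (11640, 13440), (11641, 13441),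 (11642, 9667), (11643, 9668), (11644, 11970), (11645, 13782), (11646, 13784), (11647, 12405)]
    ⟨e3 q11584 L648442 q11706, e3 q11585 (flp_d L273895) q9585, e3 q11586 (flp_d L512962) q12564, e3 q11587 (flp_d L650889) q13750, e3 q11588 (flp_d L391563) q13570, e3 q11589 L275028 q11589, e3 q11590 L281654 q11590, e3 q11591 L576792 q9633, e3 q11592 (flp_d L648592) q13076, e3 q11593 L648396 q13087, e3 q11594 L284077 q11594, e3 q11595 L534070 q9654, e3 q11596 L534038 q9655, e3 q11597 L534064 q9656, e3 q11598 L547252 q9643, e3 q11599 L547292 q9644, e3 q11600 (flp_d L286927) q9606, e3 q11601 (flp_d L650999) q13762, e3 q11602 L286962 q9608, e3 q11603 L615004 q13426, e3 q11604 L614998 q9659, e3 q11605 L614967 q9658, e3 q11606 (flp_d L379704) q12967, e3 q11607 L287398 q9614, e3 q11608 L287415 q11608, e3 q11609 (flp_d L379748) q12973, e3 q11610 (flp_d L648622) q13415, e3 q11611 (flp_d L648620) q13523, e3 q11612 (flp_d L648594) q13051, e3 q11613 L648773 q12748, e3 q11614 L648428 q11773, e3 q11615 L648775 q13063, e3 q11616 (flp_d L648644)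 q13138, e3 q11617 L290199 q9631, e3 q11618 L648738 q12800, e3 q11619 (flp_d L383911) q13224, e3 q11620 (flp_d L383917) q13225, e3 q11621 L291578 q9639, e3 q11622 (flp_d L648917) q12817, e3 q11623 (flp_d L651045) q13767, e3 q11624 L615355 q9647, e3 q11625 L614702 q9646, e3 q11626 (flp_d L650981) q13761, e3 q11627 L651090 q13771, e3 q11628 (flp_d L651081) q13770, e3 q11629 (flp_d L651064) q13769, e3 q11630 L292747 q9680, e3 q11631 L292757 q9649, e3 q11632 L292780 q9683, e3 q11633 L651120 q13774, e3 q11634 (flp_d L650948) q13759, e3 q11635 (flp_d L650964) q13760, e3 q11636 (flp_d L294127) q9657, e3 q11637 (flp_d L651141) q13777, e3 q11638 (flp_d L387213) q13431, e3 q11639 (flp_d L387219) q13432, e3 q11640 (flp_d L387278) q13440, e3 q11641 (flp_d L387284) q13441, e3 q11642 L294304 q9667, e3 q11643 L294325 q9668, e3 q11644 L648923 q11970, e3 q11645 (flp_d L651172) q13782, e3 q11646 L651183 q13784, e3 q11647 (flp_d L648692) q12405, trivial⟩ (by decide +kernel)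

theorem ce_d_182 : ∀ r, r < 64 → sm gd (Qf (11648 + r)) = Qf (tab Gen.d (11648 + r)) :=
  edges_tab (sm gd) Qf (tab Gen.d) 11648 [(11648, 12406), (11649, 12397), (11650, 9674), (11651, 13787), (11652, 12392), (11653, 9677), (11654, 9679), (11655, 13773), (11656, 9685), (11657, 12407), (11658, 11658), (11659, 11659), (11660, 9689), (11661, 13789), (11662, 11662), (11663, 9693), (11664, 13791), (11665, 13776), (11666, 9695), (11667, 11769), (11668, 9701), (11669, 11722), (11670, 11840), (11671, 9711), (11672, 9704), (11673, 13616), (11674, 9710), (11675, 11735), (11676, 13796), (11677, 11677), (11678, 11678), (11679, 9720), (11680, 11680), (11681, 9725), (11682, 10934), (11683, 9728), (11684, 11684), (11685, 11685), (11686, 11686), (11687, 9732), (11688, 11688), (11689, 11689), (11690, 9738), (11691, 9740), (11692, 11692), (11693, 11693), (11694, 11694), (11695, 9744), (11696, 11388), (11697, 9748), (11698, 10600), (11699, 11306), (11700, 11700), (11701, 11701), (11702, 11702), (11703, 13827), (11704, 11509), (11705, 9755),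 (11706, 11584), (11707, 11574), (11708, 11708), (11709, 11709), (11710, 9760), (11711, 11711)]
    ⟨e3 q11648 L648288 q12406, e3 q11649 (flp_d L648901) q12397, e3 q11650 (flp_d L295119) q9674, e3 q11651 (flp_d L651210) q13787, e3 q11652 (flp_d L648899) q12392, e3 q11653 L295173 q9677, e3 q11654 L295197 q9679, e3 q11655 (flp_d L651110) q13773, e3 q11656 L532934 q9685, e3 q11657 L648895 q12407, e3 q11658 L295691 q11658, e3 q11659 L295700 q11659, e3 q11660 (flp_d L295720) q9689, e3 q11661 (flp_d L651224) q13789, e3 q11662 L295747 q11662, e3 q11663 (flp_d L295766) q9693, e3 q11664 (flp_d L651237) q13791, e3 q11665 (flp_d L651137) q13776, e3 q11666 L295788 q9695, e3 q11667 (flp_d L648949) q11769, e3 q11668 L644858 q9701, e3 q11669 (flp_d L648588) q11722, e3 q11670 (flp_d L648975) q11840, e3 q11671 L641451 q9711, e3 q11672 (flp_d L298260) q9704, e3 q11673 (flp_d L649795) q13616, e3 q11674 L298401 q9710, e3 q11675 L648921 q11735, e3 q11676 (flp_d L651271) q13796, e3 q11677 L299216 q11677, e3 q11678 L350813 q11678, e3 q11679 L350819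 q9720, e3 q11680 L351077 q11680, e3 q11681 L351084 q9725, e3 q11682 L648119 q10934, e3 q11683 L351245 q9728, e3 q11684 L351254 q11684, e3 q11685 L351261 q11685, e3 q11686 L351273 q11686, e3 q11687 L351327 q9732, e3 q11688 L351503 q11688, e3 q11689 L351511 q11689, e3 q11690 L351517 q9738, e3 q11691 L351623 q9740, e3 q11692 L351634 q11692, e3 q11693 L351643 q11693, e3 q11694 L351654 q11694, e3 q11695 L351717 q9744, e3 q11696 (flp_d L648537) q11388, e3 q11697 L351864 q9748, e3 q11698 L547966 q10600, e3 q11699 L547960 q11306, e3 q11700 L351893 q11700, e3 q11701 L351900 q11701, e3 q11702 L351907 q11702, e3 q11703 L651659 q13827, e3 q11704 (flp_d L648548) q11509, e3 q11705 L351983 q9755, e3 q11706 (flp_d L648442) q11584, e3 q11707 L648507 q11574, e3 q11708 L352014 q11708, e3 q11709 L352048 q11709, e3 q11710 L352059 q9760, e3 q11711 L352073 q11711, trivial⟩ (by decide +kernel)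

theorem ce_d_183 : ∀ r, r < 64 → sm gd (Qf (11712 + r)) = Qf (tab Gen.d (11712 + r)) :=
  edges_tab (sm gd) Qf (tab Gen.d) 11712 [(11712, 9762), (11713, 11713), (11714, 11714), (11715, 11715), (11716, 11716), (11717, 11717), (11718, 13844), (11719, 10643), (11720, 9809), (11721, 9840), (11722, 11669), (11723, 9783), (11724, 13845), (11725, 9857), (11726, 9858), (11727, 13850), (11728, 9786), (11729, 9864), (11730, 9915), (11731, 9791), (11732, 9793), (11733, 9886), (11734, 9796), (11735, 11675), (11736, 13852), (11737, 9907), (11738, 10680), (11739, 9804), (11740, 13854), (11741, 13859), (11742, 11742), (11743, 13862), (11744, 9806), (11745, 13865), (11746, 9808), (11747, 10605), (11748, 10611), (11749, 10659), (11750, 9810), (11751, 13870), (11752, 11752), (11753, 11753), (11754, 10627), (11755, 10666), (11756, 9818), (11757, 11757), (11758, 10910), (11759, 11759), (11760, 11407), (11761, 9822), (11762, 13874), (11763, 9823), (11764, 13856), (11765, 13875), (11766, 11408), (11767, 10058), (11768, 9827), (11769, 11667),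 (11770, 11400), (11771, 9832), (11772, 13882), (11773, 11614), (11774, 13880), (11775, 13884)]
    ⟨e3 q11712 L352077 q9762, e3 q11713 L352086 q11713, e3 q11714 L352097 q11714, e3 q11715 L352109 q11715, e3 q11716 L352113 q11716, e3 q11717 L352124 q11717, e3 q11718 L651873 q13844, e3 q11719 L620572 q10643, e3 q11720 L352656 q9809, e3 q11721 L636141 q9840, e3 q11722 L648588 q11669, e3 q11723 (flp_d L353194) q9783, e3 q11724 (flp_d L651888) q13845, e3 q11725 L353274 q9857, e3 q11726 L353285 q9858, e3 q11727 L651973 q13850, e3 q11728 (flp_d L353299) q9786, e3 q11729 L353340 q9864, e3 q11730 L631818 q9915, e3 q11731 (flp_d L353364) q9791, e3 q11732 L353394 q9793, e3 q11733 L353528 q9886, e3 q11734 L353590 q9796, e3 q11735 (flp_d L648921) q11675, e3 q11736 (flp_d L652018) q13852, e3 q11737 L353696 q9907, e3 q11738 L644438 q10680, e3 q11739 (flp_d L353974) q9804, e3 q11740 (flp_d L652055) q13854, e3 q11741 L652132 q13859, e3 q11742 L354013 q11742, e3 q11743 L652173 q13862, e3 q11744 (flp_d L354028) q9806, e3 q11745 (flp_d L652218)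 q13865, e3 q11746 L354066 q9808, e3 q11747 L640364 q10605, e3 q11748 L634660 q10611, e3 q11749 L640277 q10659, e3 q11750 (flp_d L354098) q9810, e3 q11751 (flp_d L652296) q13870, e3 q11752 L354128 q11752, e3 q11753 L354133 q11753, e3 q11754 L640269 q10627, e3 q11755 L640321 q10666, e3 q11756 L354200 q9818, e3 q11757 L354212 q11757, e3 q11758 L612345 q10910, e3 q11759 L354238 q11759, e3 q11760 L648630 q11407, e3 q11761 (flp_d L354251) q9822, e3 q11762 (flp_d L652366) q13874, e3 q11763 (flp_d L354273) q9823, e3 q11764 (flp_d L652089) q13856, e3 q11765 L652375 q13875, e3 q11766 (flp_d L648584) q11408, e3 q11767 (flp_d L576219) q10058, e3 q11768 L354354 q9827, e3 q11769 L648949 q11667, e3 q11770 L649269 q11400, e3 q11771 L354427 q9832, e3 q11772 L652481 q13882, e3 q11773 (flp_d L648428) q11614, e3 q11774 (flp_d L652459) q13880, e3 q11775 L652508 q13884, trivial⟩ (by decide +kernel)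

theorem ce_d_184 : ∀ r, r < 64 → sm gd (Qf (11776 + r)) = Qf (tab Gen.d (11776 + r)) :=
  edges_tab (sm gd) Qf (tab Gen.d) 11776 [(11776, 9833), (11777, 13888), (11778, 11391), (11779, 13887), (11780, 9837), (11781, 10657), (11782, 10658), (11783, 13866), (11784, 10633), (11785, 13886), (11786, 9844), (11787, 9850), (11788, 13899), (11789, 13896), (11790, 13897), (11791, 13904), (11792, 9851), (11793, 13908), (11794, 13909), (11795, 9853), (11796, 13912), (11797, 13907), (11798, 9855), (11799, 9906), (11800, 13848), (11801, 13917), (11802, 13919), (11803, 9859), (11804, 13922), (11805, 13906), (11806, 9861), (11807, 11807), (11808, 10621), (11809, 10739), (11810, 9865), (11811, 13927), (11812, 9866), (11813, 10749), (11814, 10220), (11815, 9868), (11816, 10222), (11817, 10223), (11818, 9923), (11819, 9872), (11820, 13933), (11821, 13937), (11822, 11822), (11823, 11472), (11824, 9874), (11825, 13941), (11826, 11826), (11827, 9876), (11828, 9878), (11829, 13944), (11830, 13945), (11831, 13948), (11832, 9879), (11833, 13951),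 (11834, 11473), (11835, 13950), (11836, 9883), (11837, 10174), (11838, 10175), (11839, 10274)]
    ⟨e3 q11776 (flp_d L354468) q9833, e3 q11777 (flp_d L652572) q13888, e3 q11778 (flp_d L649263) q11391, e3 q11779 (flp_d L652566) q13887, e3 q11780 L354527 q9837, e3 q11781 L354537 q10657, e3 q11782 L354546 q10658, e3 q11783 (flp_d L652236) q13866, e3 q11784 L644164 q10633, e3 q11785 (flp_d L652548) q13886, e3 q11786 L354611 q9844, e3 q11787 L354936 q9850, e3 q11788 L652712 q13899, e3 q11789 (flp_d L652674) q13896, e3 q11790 (flp_d L652690) q13897, e3 q11791 L652775 q13904, e3 q11792 (flp_d L354980) q9851, e3 q11793 (flp_d L652821) q13908, e3 q11794 L652825 q13909, e3 q11795 (flp_d L355008) q9853, e3 q11796 (flp_d L652870) q13912, e3 q11797 (flp_d L652811) q13907, e3 q11798 L355041 q9855, e3 q11799 L355071 q9906, e3 q11800 (flp_d L651943) q13848, e3 q11801 L652933 q13917, e3 q11802 L652963 q13919, e3 q11803 (flp_d L355102) q9859, e3 q11804 (flp_d L653015) q13922, e3 q11805 (flp_d L652803) q13906, e3 q11806 L355128 q9861, e3 q11807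 L355137 q11807, e3 q11808 L635065 q10621, e3 q11809 L649034 q10739, e3 q11810 (flp_d L355166) q9865, e3 q11811 (flp_d L653083) q13927, e3 q11812 (flp_d L355186) q9866, e3 q11813 L631887 q10749, e3 q11814 L355209 q10220, e3 q11815 L355214 q9868, e3 q11816 L355221 q10222, e3 q11817 L355231 q10223, e3 q11818 L355242 q9923, e3 q11819 (flp_d L355244) q9872, e3 q11820 (flp_d L653171) q13933, e3 q11821 L653223 q13937, e3 q11822 L355280 q11822, e3 q11823 (flp_d L648624) q11472, e3 q11824 (flp_d L355294) q9874, e3 q11825 (flp_d L653288) q13941, e3 q11826 L355319 q11826, e3 q11827 L355337 q9876, e3 q11828 L355345 q9878, e3 q11829 (flp_d L653334) q13944, e3 q11830 (flp_d L653350) q13945, e3 q11831 L653387 q13948, e3 q11832 (flp_d L355383) q9879, e3 q11833 (flp_d L653435) q13951, e3 q11834 L649117 q11473, e3 q11835 (flp_d L653427) q13950, e3 q11836 L355437 q9883, e3 q11837 L554658 q10174, e3 q11838 L554637 q10175, e3 q11839 L553838 q10274, trivial⟩ (by decide +kernel)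

theorem ce_d_185 : ∀ r, r < 64 → sm gd (Qf (11840 + r)) = Qf (tab Gen.d (11840 + r)) :=
  edges_tab (sm gd) Qf (tab Gen.d) 11840 [(11840, 11670), (11841, 11460), (11842, 11461), (11843, 9890), (11844, 9894), (11845, 9895), (11846, 13964), (11847, 9893), (11848, 13967), (11849, 13961), (11850, 13970), (11851, 13972), (11852, 9896), (11853, 13976), (11854, 9912), (11855, 9902), (11856, 9898), (11857, 11435), (11858, 13975), (11859, 9901), (11860, 13980), (11861, 13981), (11862, 13914), (11863, 10726), (11864, 10727), (11865, 13943), (11866, 13849), (11867, 10681), (11868, 9908), (11869, 13994), (11870, 10682), (11871, 13974), (11872, 9911), (11873, 13977), (11874, 13979), (11875, 13925), (11876, 10686), (11877, 9918), (11878, 10296), (11879, 10297), (11880, 9926), (11881, 9927), (11882, 14002), (11883, 9925), (11884, 14006), (11885, 13999), (11886, 14009), (11887, 14011), (11888, 9928), (11889, 14015), (11890, 9942), (11891, 9934), (11892, 9930), (11893, 9931), (11894, 14022), (11895, 14014), (11896, 9933), (11897, 14019),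 (11898, 10007), (11899, 11899), (11900, 14028), (11901, 9938), (11902, 14032), (11903, 9939)]
    ⟨e3 q11840 L648975 q11670, e3 q11841 L648511 q11460, e3 q11842 L649273 q11461, e3 q11843 L355521 q9890, e3 q11844 L355538 q9894, e3 q11845 L355546 q9895, e3 q11846 L653605 q13964, e3 q11847 (flp_d L355556) q9893, e3 q11848 (flp_d L653647) q13967, e3 q11849 (flp_d L653572) q13961, e3 q11850 L653679 q13970, e3 q11851 L653699 q13972, e3 q11852 (flp_d L355603) q9896, e3 q11853 (flp_d L653761) q13976, e3 q11854 L355623 q9912, e3 q11855 L355629 q9902, e3 q11856 L355635 q9898, e3 q11857 (flp_d L649255) q11435, e3 q11858 (flp_d L653755) q13975, e3 q11859 L355669 q9901, e3 q11860 (flp_d L653813) q13980, e3 q11861 (flp_d L653821) q13981, e3 q11862 (flp_d L652896) q13914, e3 q11863 L355699 q10726, e3 q11864 L355708 q10727, e3 q11865 (flp_d L653323) q13943, e3 q11866 L651971 q13849, e3 q11867 L644268 q10681, e3 q11868 (flp_d L355739) q9908, e3 q11869 (flp_d L653957) q13994, e3 q11870 L644239 q10682, e3 q11871 (flp_d L653737) q13974, e3 q11872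 L355779 q9911, e3 q11873 (flp_d L653767) q13977, e3 q11874 (flp_d L653805) q13979, e3 q11875 (flp_d L653057) q13925, e3 q11876 L631858 q10686, e3 q11877 L355849 q9918, e3 q11878 L355891 q10296, e3 q11879 L355900 q10297, e3 q11880 L356242 q9926, e3 q11881 L356253 q9927, e3 q11882 L654071 q14002, e3 q11883 (flp_d L356267) q9925, e3 q11884 (flp_d L654127) q14006, e3 q11885 (flp_d L654043) q13999, e3 q11886 L654157 q14009, e3 q11887 L654181 q14011, e3 q11888 (flp_d L356318) q9928, e3 q11889 (flp_d L654229) q14015, e3 q11890 L356341 q9942, e3 q11891 L356348 q9934, e3 q11892 L356354 q9930, e3 q11893 (flp_d L356359) q9931, e3 q11894 (flp_d L654315) q14022, e3 q11895 (flp_d L654221) q14014, e3 q11896 L356392 q9933, e3 q11897 (flp_d L654279) q14019, e3 q11898 L356421 q10007, e3 q11899 L356455 q11899, e3 q11900 L654381 q14028, e3 q11901 (flp_d L356469) q9938, e3 q11902 (flp_d L654437) q14032, e3 q11903 (flp_d L356488) q9939, trivial⟩ (by decide +kernel)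

theorem ce_d_186 : ∀ r, r < 64 → sm gd (Qf (11904 + r)) = Qf (tab Gen.d (11904 + r)) :=
  edges_tab (sm gd) Qf (tab Gen.d) 11904 [(11904, 14034), (11905, 14013), (11906, 9941), (11907, 14016), (11908, 14018), (11909, 10021), (11910, 10880), (11911, 9946), (11912, 14043), (11913, 10389), (11914, 10022), (11915, 9948), (11916, 10392), (11917, 9950), (11918, 10394), (11919, 10395), (11920, 10032), (11921, 10397), (11922, 10398), (11923, 14055), (11924, 9957), (11925, 14059), (11926, 14056), (11927, 14057), (11928, 14064), (11929, 9958), (11930, 14068), (11931, 11467), (11932, 9960), (11933, 14071), (11934, 11934), (11935, 14067), (11936, 9962), (11937, 11937), (11938, 10010), (11939, 9967), (11940, 9968), (11941, 14080), (11942, 9966), (11943, 14084), (11944, 14077), (11945, 14087), (11946, 14089), (11947, 9969), (11948, 14093), (11949, 9985), (11950, 9975), (11951, 9971), (11952, 11469), (11953, 14092), (11954, 9974), (11955, 14095), (11956, 14096), (11957, 10472), (11958, 10335), (11959, 10336), (11960, 10375), (11961, 11961),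 (11962, 11530), (11963, 9981), (11964, 14110), (11965, 11531), (11966, 14091), (11967, 9984)]
    ⟨e3 q11904 (flp_d L654460) q14034, e3 q11905 (flp_d L654211) q14013, e3 q11906 L356518 q9941, e3 q11907 (flp_d L654235) q14016, e3 q11908 (flp_d L654268) q14018, e3 q11909 L356548 q10021, e3 q11910 L635150 q10880, e3 q11911 (flp_d L356561) q9946, e3 q11912 (flp_d L654570) q14043, e3 q11913 L356588 q10389, e3 q11914 L635227 q10022, e3 q11915 L356600 q9948, e3 q11916 L356614 q10392, e3 q11917 L356619 q9950, e3 q11918 L356627 q10394, e3 q11919 L356638 q10395, e3 q11920 L356649 q10032, e3 q11921 L356654 q10397, e3 q11922 L356666 q10398, e3 q11923 L654706 q14055, e3 q11924 L356698 q9957, e3 q11925 L654758 q14059, e3 q11926 (flp_d L654725) q14056, e3 q11927 (flp_d L654741) q14057, e3 q11928 L654821 q14064, e3 q11929 (flp_d L356741) q9958, e3 q11930 (flp_d L654877) q14068, e3 q11931 L648618 q11467, e3 q11932 (flp_d L356772) q9960, e3 q11933 (flp_d L654919) q14071, e3 q11934 L356798 q11934, e3 q11935 (flp_d L654867) q14067, e3 q11936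 L356813 q9962, e3 q11937 L356832 q11937, e3 q11938 L553754 q10010, e3 q11939 L356868 q9967, e3 q11940 L356877 q9968, e3 q11941 L655021 q14080, e3 q11942 (flp_d L356889) q9966, e3 q11943 (flp_d L655071) q14084, e3 q11944 (flp_d L654997) q14077, e3 q11945 L655099 q14087, e3 q11946 L655119 q14089, e3 q11947 (flp_d L356936) q9969, e3 q11948 (flp_d L655173) q14093, e3 q11949 L356959 q9985, e3 q11950 L356966 q9975, e3 q11951 L356972 q9971, e3 q11952 (flp_d L649099) q11469, e3 q11953 (flp_d L655167) q14092, e3 q11954 L357005 q9974, e3 q11955 (flp_d L655200) q14095, e3 q11956 (flp_d L655213) q14096, e3 q11957 L503055 q10472, e3 q11958 L554480 q10335, e3 q11959 L554456 q10336, e3 q11960 L503081 q10375, e3 q11961 L357061 q11961, e3 q11962 L649103 q11530, e3 q11963 (flp_d L357074) q9981, e3 q11964 (flp_d L655380) q14110, e3 q11965 (flp_d L649101) q11531, e3 q11966 (flp_d L655151) q14091, e3 q11967 L357124 q9984, trivial⟩ (by decide +kernel)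

theorem ce_d_187 : ∀ r, r < 64 → sm gd (Qf (11968 + r)) = Qf (tab Gen.d (11968 + r)) :=
  edges_tab (sm gd) Qf (tab Gen.d) 11968 [(11968, 14094), (11969, 11559), (11970, 11644), (11971, 9993), (11972, 14118), (11973, 14120), (11974, 9990), (11975, 14124), (11976, 11976), (11977, 11977), (11978, 9992), (11979, 14116), (11980, 14132), (11981, 9994), (11982, 14136), (11983, 9995), (11984, 14139), (11985, 10017), (11986, 10003), (11987, 9997), (11988, 10019), (11989, 11385), (11990, 10020), (11991, 10005), (11992, 10006), (11993, 14020), (11994, 14138), (11995, 10002), (11996, 14143), (11997, 14144), (11998, 14025), (11999, 14152), (12000, 14153), (12001, 14164), (12002, 10861), (12003, 10862), (12004, 14074), (12005, 14031), (12006, 10012), (12007, 14169), (12008, 14134), (12009, 10772), (12010, 10014), (12011, 14137), (12012, 10016), (12013, 14140), (12014, 14142), (12015, 14037), (12016, 14146), (12017, 14148), (12018, 14183), (12019, 14047), (12020, 10489), (12021, 10024), (12022, 10492), (12023, 11173), (12024, 10494),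 (12025, 10782), (12026, 14048), (12027, 10497), (12028, 10498), (12029, 14050), (12030, 10500), (12031, 10501)]
    ⟨e3 q11968 (flp_d L655185) q14094, e3 q11969 (flp_d L648535) q11559, e3 q11970 (flp_d L648923) q11644, e3 q11971 L357166 q9993, e3 q11972 L655475 q14118, e3 q11973 L655494 q14120, e3 q11974 (flp_d L357188) q9990, e3 q11975 (flp_d L655532) q14124, e3 q11976 L357211 q11976, e3 q11977 L357219 q11977, e3 q11978 L357224 q9992, e3 q11979 (flp_d L655459) q14116, e3 q11980 L655615 q14132, e3 q11981 (flp_d L357248) q9994, e3 q11982 (flp_d L655651) q14136, e3 q11983 (flp_d L357266) q9995, e3 q11984 (flp_d L655685) q14139, e3 q11985 L357288 q10017, e3 q11986 L357296 q10003, e3 q11987 L357302 q9997, e3 q11988 L357308 q10019, e3 q11989 L648543 q11385, e3 q11990 L357324 q10020, e3 q11991 L357333 q10005, e3 q11992 L357342 q10006, e3 q11993 (flp_d L654295) q14020, e3 q11994 (flp_d L655679) q14138, e3 q11995 L357366 q10002, e3 q11996 (flp_d L655722) q14143, e3 q11997 (flp_d L655728) q14144, e3 q11998 (flp_d L654350) q14025,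 e3 q11999 (flp_d L655818) q14152, e3 q12000 (flp_d L655826) q14153, e3 q12001 L655928 q14164, e3 q12002 L357419 q10861, e3 q12003 L357427 q10862, e3 q12004 (flp_d L654965) q14074, e3 q12005 (flp_d L654428) q14031, e3 q12006 (flp_d L357456) q10012, e3 q12007 (flp_d L655976) q14169, e3 q12008 (flp_d L655639) q14134, e3 q12009 L640972 q10772, e3 q12010 L357491 q10014, e3 q12011 (flp_d L655664) q14137, e3 q12012 L357507 q10016, e3 q12013 (flp_d L655692) q14140, e3 q12014 (flp_d L655714) q14142, e3 q12015 (flp_d L654496) q14037, e3 q12016 (flp_d L655744) q14146, e3 q12017 (flp_d L655776) q14148, e3 q12018 L656121 q14183, e3 q12019 (flp_d L654620) q14047, e3 q12020 L357584 q10489, e3 q12021 L357595 q10024, e3 q12022 L357603 q10492, e3 q12023 L640965 q11173, e3 q12024 L357623 q10494, e3 q12025 L635189 q10782, e3 q12026 (flp_d L654636) q14048, e3 q12027 L357646 q10497, e3 q12028 L357657 q10498, e3 q12029 (flp_d L654659) q14050, e3 q12030 L357671 q10500, e3 q12031 L357681 q10501, trivial⟩ (by decide +kernel)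

theorem ce_d_188 : ∀ r, r < 64 → sm gd (Qf (12032 + r)) = Qf (tab Gen.d (12032 + r)) :=
  edges_tab (sm gd) Qf (tab Gen.d) 12032 [(12032, 14198), (12033, 10503), (12034, 14200), (12035, 10035), (12036, 11417), (12037, 14203), (12038, 10038), (12039, 14205), (12040, 14206), (12041, 10067), (12042, 10068), (12043, 10044), (12044, 14210), (12045, 12045), (12046, 10046), (12047, 10047), (12048, 14214), (12049, 10083), (12050, 10084), (12051, 14216), (12052, 10052), (12053, 14218), (12054, 12054), (12055, 10054), (12056, 10092), (12057, 10925), (12058, 12058), (12059, 13877), (12060, 13878), (12061, 10059), (12062, 14227), (12063, 14232), (12064, 12064), (12065, 14213), (12066, 10061), (12067, 14237), (12068, 10063), (12069, 12069), (12070, 12070), (12071, 14209), (12072, 10065), (12073, 14244), (12074, 10152), (12075, 14208), (12076, 10070), (12077, 14248), (12078, 13871), (12079, 14246), (12080, 14253), (12081, 10071), (12082, 14257), (12083, 14258), (12084, 10073), (12085, 14260), (12086, 14256), (12087, 10075), (12088, 10095),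 (12089, 10096), (12090, 10126), (12091, 12091), (12092, 10974), (12093, 14269), (12094, 10080), (12095, 14271)]
    ⟨e3 q12032 L656276 q14198, e3 q12033 L357698 q10503, e3 q12034 L656293 q14200, e3 q12035 (flp_d L357711) q10035, e3 q12036 (flp_d L648827) q11417, e3 q12037 L656325 q14203, e3 q12038 (flp_d L357769) q10038, e3 q12039 (flp_d L656367) q14205, e3 q12040 L656374 q14206, e3 q12041 L357828 q10067, e3 q12042 L357835 q10068, e3 q12043 (flp_d L357887) q10044, e3 q12044 (flp_d L656442) q14210, e3 q12045 L357916 q12045, e3 q12046 L357922 q10046, e3 q12047 (flp_d L357953) q10047, e3 q12048 (flp_d L656491) q14214, e3 q12049 L357982 q10083, e3 q12050 L357988 q10084, e3 q12051 L656516 q14216, e3 q12052 (flp_d L358021) q10052, e3 q12053 (flp_d L656552) q14218, e3 q12054 L358047 q12054, e3 q12055 L358051 q10054, e3 q12056 L358062 q10092, e3 q12057 L612423 q10925, e3 q12058 L358086 q12058, e3 q12059 (flp_d L652415) q13877, e3 q12060 (flp_d L652430) q13878, e3 q12061 (flp_d L358119) q10059, e3 q12062 (flp_d L656665) q14227, e3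 q12063 L656721 q14232, e3 q12064 L358159 q12064, e3 q12065 (flp_d L656485) q14213, e3 q12066 (flp_d L358174) q10061, e3 q12067 (flp_d L656786) q14237, e3 q12068 L358209 q10063, e3 q12069 L358219 q12069, e3 q12070 L358230 q12070, e3 q12071 (flp_d L656433) q14209, e3 q12072 (flp_d L358246) q10065, e3 q12073 (flp_d L656867) q14244, e3 q12074 L648824 q10152, e3 q12075 (flp_d L656411) q14208, e3 q12076 L358292 q10070, e3 q12077 L656915 q14248, e3 q12078 (flp_d L652314) q13871, e3 q12079 (flp_d L656892) q14246, e3 q12080 L656967 q14253, e3 q12081 (flp_d L358332) q10071, e3 q12082 (flp_d L656997) q14257, e3 q12083 L657003 q14258, e3 q12084 (flp_d L358359) q10073, e3 q12085 (flp_d L657032) q14260, e3 q12086 (flp_d L656993) q14256, e3 q12087 L358381 q10075, e3 q12088 L553498 q10095, e3 q12089 L553557 q10096, e3 q12090 L358408 q10126, e3 q12091 L358415 q12091, e3 q12092 L637286 q10974, e3 q12093 L657133 q14269, e3 q12094 (flp_d L358440) q10080, e3 q12095 (flp_d L657166) q14271, trivial⟩ (by decide +kernel)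

theorem ce_d_189 : ∀ r, r < 64 → sm gd (Qf (12096 + r)) = Qf (tab Gen.d (12096 + r)) :=
  edges_tab (sm gd) Qf (tab Gen.d) 12096 [(12096, 14255), (12097, 10082), (12098, 14215), (12099, 12099), (12100, 10972), (12101, 10975), (12102, 10087), (12103, 14275), (12104, 10089), (12105, 10128), (12106, 10136), (12107, 10141), (12108, 10093), (12109, 14229), (12110, 14283), (12111, 12111), (12112, 11410), (12113, 14264), (12114, 10098), (12115, 14288), (12116, 14222), (12117, 14286), (12118, 14293), (12119, 10099), (12120, 14297), (12121, 11437), (12122, 10101), (12123, 14300), (12124, 14296), (12125, 10103), (12126, 14238), (12127, 12127), (12128, 14277), (12129, 11029), (12130, 10107), (12131, 14307), (12132, 14295), (12133, 10109), (12134, 12134), (12135, 10114), (12136, 10115), (12137, 14314), (12138, 10113), (12139, 14318), (12140, 14311), (12141, 14320), (12142, 14322), (12143, 10116), (12144, 14326), (12145, 10132), (12146, 10122), (12147, 10118), (12148, 11438), (12149, 14325), (12150, 10121), (12151, 14330), (12152, 14331),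 (12153, 14263), (12154, 10955), (12155, 10956), (12156, 13879), (12157, 12157), (12158, 14278), (12159, 11030)]
    ⟨e3 q12096 (flp_d L656987) q14255, e3 q12097 L358468 q10082, e3 q12098 (flp_d L656506) q14215, e3 q12099 L358488 q12099, e3 q12100 L640306 q10972, e3 q12101 L640298 q10975, e3 q12102 (flp_d L358522) q10087, e3 q12103 (flp_d L657207) q14275, e3 q12104 L358550 q10089, e3 q12105 L637499 q10128, e3 q12106 L637484 q10136, e3 q12107 L358577 q10141, e3 q12108 (flp_d L358580) q10093, e3 q12109 (flp_d L656692) q14229, e3 q12110 L657308 q14283, e3 q12111 L358612 q12111, e3 q12112 (flp_d L649401) q11410, e3 q12113 (flp_d L657075) q14264, e3 q12114 L358674 q10098, e3 q12115 L657359 q14288, e3 q12116 (flp_d L656601) q14222, e3 q12117 (flp_d L657346) q14286, e3 q12118 L657413 q14293, e3 q12119 (flp_d L358716) q10099, e3 q12120 (flp_d L657451) q14297, e3 q12121 L649219 q11437, e3 q12122 (flp_d L358747) q10101, e3 q12123 (flp_d L657491) q14300, e3 q12124 (flp_d L657445) q14296, e3 q12125 L358778 q10103, e3 q12126 (flp_d L656799)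 q14238, e3 q12127 L358820 q12127, e3 q12128 (flp_d L657233) q14277, e3 q12129 L637567 q11029, e3 q12130 (flp_d L358845) q10107, e3 q12131 (flp_d L657566) q14307, e3 q12132 (flp_d L657437) q14295, e3 q12133 L358878 q10109, e3 q12134 L358890 q12134, e3 q12135 L358899 q10114, e3 q12136 L358906 q10115, e3 q12137 L657638 q14314, e3 q12138 (flp_d L358917) q10113, e3 q12139 (flp_d L657668) q14318, e3 q12140 (flp_d L657609) q14311, e3 q12141 L657687 q14320, e3 q12142 L657702 q14322, e3 q12143 (flp_d L358959) q10116, e3 q12144 (flp_d L657748) q14326, e3 q12145 L358977 q10132, e3 q12146 L358983 q10122, e3 q12147 L358987 q10118, e3 q12148 L649221 q11438, e3 q12149 (flp_d L657744) q14325, e3 q12150 L359020 q10121, e3 q12151 (flp_d L657783) q14330, e3 q12152 (flp_d L657791) q14331, e3 q12153 (flp_d L657064) q14263, e3 q12154 L359051 q10955, e3 q12155 L359058 q10956, e3 q12156 (flp_d L652448) q13879, e3 q12157 L359077 q12157, e3 q12158 (flp_d L657247) q14278, e3 q12159 L644070 q11030, trivial⟩ (by decide +kernel)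

theorem ce_d_190 : ∀ r, r < 64 → sm gd (Qf (12160 + r)) = Qf (tab Gen.d (12160 + r)) :=
  edges_tab (sm gd) Qf (tab Gen.d) 12160 [(12160, 14324), (12161, 10131), (12162, 14327), (12163, 14329), (12164, 14274), (12165, 14276), (12166, 10904), (12167, 10919), (12168, 10976), (12169, 10142), (12170, 14348), (12171, 14349), (12172, 10144), (12173, 14351), (12174, 10146), (12175, 14353), (12176, 10148), (12177, 14355), (12178, 10189), (12179, 10190), (12180, 14245), (12181, 10153), (12182, 14358), (12183, 14241), (12184, 10155), (12185, 12185), (12186, 12186), (12187, 12187), (12188, 14364), (12189, 10159), (12190, 14367), (12191, 14234), (12192, 10161), (12193, 10213), (12194, 14371), (12195, 10165), (12196, 14375), (12197, 10166), (12198, 14377), (12199, 12199), (12200, 10168), (12201, 12201), (12202, 12202), (12203, 12203), (12204, 10172), (12205, 14384), (12206, 14389), (12207, 12207), (12208, 13955), (12209, 13956), (12210, 10177), (12211, 14396), (12212, 14393), (12213, 14394), (12214, 14401), (12215, 10178), (12216, 14405),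 (12217, 14366), (12218, 10180), (12219, 14408), (12220, 14404), (12221, 10182), (12222, 10243), (12223, 12223)]
    ⟨e3 q12160 (flp_d L657734) q14324, e3 q12161 L359140 q10131, e3 q12162 (flp_d L657754) q14327, e3 q12163 (flp_d L657775) q14329, e3 q12164 (flp_d L657199) q14274, e3 q12165 (flp_d L657228) q14276, e3 q12166 L637416 q10904, e3 q12167 L637235 q10919, e3 q12168 L641290 q10976, e3 q12169 (flp_d L359320) q10142, e3 q12170 (flp_d L657974) q14348, e3 q12171 L657982 q14349, e3 q12172 (flp_d L359384) q10144, e3 q12173 (flp_d L658022) q14351, e3 q12174 L359418 q10146, e3 q12175 L658036 q14353, e3 q12176 (flp_d L359450) q10148, e3 q12177 (flp_d L658073) q14355, e3 q12178 L359477 q10189, e3 q12179 L359484 q10190, e3 q12180 (flp_d L656878) q14245, e3 q12181 (flp_d L359553) q10153, e3 q12182 (flp_d L658115) q14358, e3 q12183 L656836 q14241, e3 q12184 L359584 q10155, e3 q12185 L359593 q12185, e3 q12186 L359600 q12186, e3 q12187 L359612 q12187, e3 q12188 L658175 q14364, e3 q12189 (flp_d L359641) q10159, e3 q12190 (flp_d L658226)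 q14367, e3 q12191 L656754 q14234, e3 q12192 L359669 q10161, e3 q12193 L359678 q10213, e3 q12194 L658256 q14371, e3 q12195 (flp_d L359704) q10165, e3 q12196 (flp_d L658317) q14375, e3 q12197 (flp_d L359721) q10166, e3 q12198 (flp_d L658338) q14377, e3 q12199 L359746 q12199, e3 q12200 L359750 q10168, e3 q12201 L359758 q12201, e3 q12202 L359768 q12202, e3 q12203 L359778 q12203, e3 q12204 (flp_d L359780) q10172, e3 q12205 (flp_d L658404) q14384, e3 q12206 L658461 q14389, e3 q12207 L359812 q12207, e3 q12208 (flp_d L653485) q13955, e3 q12209 (flp_d L653496) q13956, e3 q12210 L359870 q10177, e3 q12211 L658539 q14396, e3 q12212 (flp_d L658513) q14393, e3 q12213 (flp_d L658526) q14394, e3 q12214 L658591 q14401, e3 q12215 (flp_d L359915) q10178, e3 q12216 (flp_d L658627) q14405, e3 q12217 (flp_d L658220) q14366, e3 q12218 (flp_d L359943) q10180, e3 q12219 (flp_d L658658) q14408, e3 q12220 (flp_d L658621) q14404, e3 q12221 L359973 q10182, e3 q12222 L360000 q10243, e3 q12223 L360008 q12223, trivial⟩ (by decide +kernel)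

theorem ce_d_191 : ∀ r, r < 64 → sm gd (Qf (12224 + r)) = Qf (tab Gen.d (12224 + r)) :=
  edges_tab (sm gd) Qf (tab Gen.d) 12224 [(12224, 14413), (12225, 14357), (12226, 10186), (12227, 14417), (12228, 14403), (12229, 10188), (12230, 14356), (12231, 10193), (12232, 10194), (12233, 14425), (12234, 10192), (12235, 14429), (12236, 14422), (12237, 14432), (12238, 14434), (12239, 10195), (12240, 14438), (12241, 10211), (12242, 10201), (12243, 10197), (12244, 10198), (12245, 14445), (12246, 14437), (12247, 10200), (12248, 14442), (12249, 14443), (12250, 10271), (12251, 10229), (12252, 10230), (12253, 13957), (12254, 12254), (12255, 14455), (12256, 10207), (12257, 14459), (12258, 10208), (12259, 14460), (12260, 14436), (12261, 10210), (12262, 14439), (12263, 14441), (12264, 10285), (12265, 11103), (12266, 10215), (12267, 14469), (12268, 10286), (12269, 10390), (12270, 10217), (12271, 10968), (12272, 10219), (12273, 13928), (12274, 13929), (12275, 10295), (12276, 13930), (12277, 13931), (12278, 14483), (12279, 12279), (12280, 10226),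 (12281, 14488), (12282, 14485), (12283, 14486), (12284, 14493), (12285, 10227), (12286, 14496), (12287, 11475)]
    ⟨e3 q12224 L658702 q14413, e3 q12225 (flp_d L658108) q14357, e3 q12226 (flp_d L360035) q10186, e3 q12227 (flp_d L658754) q14417, e3 q12228 (flp_d L658615) q14403, e3 q12229 L360066 q10188, e3 q12230 (flp_d L658085) q14356, e3 q12231 L360084 q10193, e3 q12232 L360093 q10194, e3 q12233 L658822 q14425, e3 q12234 (flp_d L360104) q10192, e3 q12235 (flp_d L658850) q14429, e3 q12236 (flp_d L658799) q14422, e3 q12237 L658874 q14432, e3 q12238 L658892 q14434, e3 q12239 (flp_d L360146) q10195, e3 q12240 (flp_d L658920) q14438, e3 q12241 L360164 q10211, e3 q12242 L360168 q10201, e3 q12243 L360172 q10197, e3 q12244 (flp_d L360176) q10198, e3 q12245 (flp_d L658964) q14445, e3 q12246 (flp_d L658916) q14437, e3 q12247 L360200 q10200, e3 q12248 (flp_d L658946) q14442, e3 q12249 (flp_d L658952) q14443, e3 q12250 L360219 q10271, e3 q12251 (flp_d L553456) q10229, e3 q12252 (flp_d L553567) q10230, e3 q12253 (flp_d L653510) q13957,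 e3 q12254 L360246 q12254, e3 q12255 L659053 q14455, e3 q12256 (flp_d L360263) q10207, e3 q12257 (flp_d L659100) q14459, e3 q12258 (flp_d L360284) q10208, e3 q12259 (flp_d L659110) q14460, e3 q12260 (flp_d L658910) q14436, e3 q12261 L360310 q10210, e3 q12262 (flp_d L658926) q14439, e3 q12263 (flp_d L658938) q14441, e3 q12264 L360333 q10285, e3 q12265 L641011 q11103, e3 q12266 (flp_d L360345) q10215, e3 q12267 (flp_d L659194) q14469, e3 q12268 L637053 q10286, e3 q12269 L360378 q10390, e3 q12270 L360383 q10217, e3 q12271 L649150 q10968, e3 q12272 L360398 q10219, e3 q12273 (flp_d L653097) q13928, e3 q12274 (flp_d L653113) q13929, e3 q12275 L360419 q10295, e3 q12276 (flp_d L653126) q13930, e3 q12277 (flp_d L653140) q13931, e3 q12278 L659335 q14483, e3 q12279 L360448 q12279, e3 q12280 L360453 q10226, e3 q12281 L659400 q14488, e3 q12282 (flp_d L659374) q14485, e3 q12283 (flp_d L659386) q14486, e3 q12284 L659456 q14493, e3 q12285 (flp_d L360488) q10227, e3 q12286 (flp_d L659484) q14496, e3 q12287 L649393 q11475, trivial⟩ (by decide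 +kernel)

theorem ce_d_192 : ∀ r, r < 64 → sm gd (Qf (12288 + r)) = Qf (tab Gen.d (12288 + r)) :=
  edges_tab (sm gd) Qf (tab Gen.d) 12288 [(12288, 14452), (12289, 10233), (12290, 10234), (12291, 14502), (12292, 10232), (12293, 14506), (12294, 14499), (12295, 14509), (12296, 14511), (12297, 10235), (12298, 14515), (12299, 10249), (12300, 10241), (12301, 10237), (12302, 10238), (12303, 14522), (12304, 14514), (12305, 10240), (12306, 14519), (12307, 14410), (12308, 12308), (12309, 14528), (12310, 10245), (12311, 14532), (12312, 10246), (12313, 14534), (12314, 14513), (12315, 10248), (12316, 14516), (12317, 14518), (12318, 14420), (12319, 10438), (12320, 10257), (12321, 14545), (12322, 14547), (12323, 10254), (12324, 14551), (12325, 12325), (12326, 12326), (12327, 10256), (12328, 14543), (12329, 14559), (12330, 10258), (12331, 14563), (12332, 10259), (12333, 14566), (12334, 10281), (12335, 10267), (12336, 10261), (12337, 10283), (12338, 12338), (12339, 10284), (12340, 10269), (12341, 10270), (12342, 14444), (12343, 14565), (12344,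 10266), (12345, 14570), (12346, 14571), (12347, 14448), (12348, 14579), (12349, 14580), (12350, 14591), (12351, 11085)]
    ⟨e3 q12288 (flp_d L659024) q14452, e3 q12289 L360595 q10233, e3 q12290 L360604 q10234, e3 q12291 L659543 q14502, e3 q12292 (flp_d L360615) q10232, e3 q12293 (flp_d L659579) q14506, e3 q12294 (flp_d L659522) q14499, e3 q12295 L659605 q14509, e3 q12296 L659625 q14511, e3 q12297 (flp_d L360663) q10235, e3 q12298 (flp_d L659661) q14515, e3 q12299 L360685 q10249, e3 q12300 L360691 q10241, e3 q12301 L360697 q10237, e3 q12302 (flp_d L360701) q10238, e3 q12303 (flp_d L659721) q14522, e3 q12304 (flp_d L659655) q14514, e3 q12305 L360734 q10240, e3 q12306 (flp_d L659692) q14519, e3 q12307 (flp_d L658676) q14410, e3 q12308 L360797 q12308, e3 q12309 L659775 q14528, e3 q12310 (flp_d L360813) q10245, e3 q12311 (flp_d L659821) q14532, e3 q12312 (flp_d L360834) q10246, e3 q12313 (flp_d L659842) q14534, e3 q12314 (flp_d L659647) q14513, e3 q12315 L360865 q10248, e3 q12316 (flp_d L659667) q14516, e3 q12317 (flp_d L659684)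 q14518, e3 q12318 (flp_d L658779) q14420, e3 q12319 L360900 q10438, e3 q12320 L360906 q10257, e3 q12321 L659943 q14545, e3 q12322 L659958 q14547, e3 q12323 (flp_d L360923) q10254, e3 q12324 (flp_d L659986) q14551, e3 q12325 L360941 q12325, e3 q12326 L360946 q12326, e3 q12327 L360949 q10256, e3 q12328 (flp_d L659928) q14543, e3 q12329 L660048 q14559, e3 q12330 (flp_d L360971) q10258, e3 q12331 (flp_d L660080) q14563, e3 q12332 (flp_d L360987) q10259, e3 q12333 (flp_d L660108) q14566, e3 q12334 L361003 q10281, e3 q12335 L361009 q10267, e3 q12336 L361013 q10261, e3 q12337 L361019 q10283, e3 q12338 L361027 q12338, e3 q12339 L361032 q10284, e3 q12340 L361038 q10269, e3 q12341 L361044 q10270, e3 q12342 (flp_d L658960) q14444, e3 q12343 (flp_d L660104) q14565, e3 q12344 L361061 q10266, e3 q12345 (flp_d L660139) q14570, e3 q12346 (flp_d L660143) q14571, e3 q12347 (flp_d L658987) q14448, e3 q12348 (flp_d L660206) q14579, e3 q12349 (flp_d L660212) q14580, e3 q12350 L660299 q14591, e3 q12351 L361110 q11085, trivial⟩ (by decide +kernel)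

theorem ce_d_193 : ∀ r, r < 64 → sm gd (Qf (12352 + r)) = Qf (tab Gen.d (12352 + r)) :=
  edges_tab (sm gd) Qf (tab Gen.d) 12352 [(12352, 11086), (12353, 13954), (12354, 14470), (12355, 10276), (12356, 14597), (12357, 14561), (12358, 10477), (12359, 10278), (12360, 14564), (12361, 10280), (12362, 14567), (12363, 14569), (12364, 14463), (12365, 14573), (12366, 14575), (12367, 14610), (12368, 14472), (12369, 10490), (12370, 10288), (12371, 11016), (12372, 11174), (12373, 11025), (12374, 10495), (12375, 14474), (12376, 14477), (12377, 10992), (12378, 11019), (12379, 11113), (12380, 13997), (12381, 14622), (12382, 10298), (12383, 10299), (12384, 14623), (12385, 10301), (12386, 10302), (12387, 14626), (12388, 10531), (12389, 10304), (12390, 12390), (12391, 10352), (12392, 11652), (12393, 10314), (12394, 10310), (12395, 10311), (12396, 14630), (12397, 11649), (12398, 10313), (12399, 11337), (12400, 14629), (12401, 12401), (12402, 12402), (12403, 12403), (12404, 14639), (12405, 11647), (12406, 11648), (12407, 11657), (12408, 14374),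 (12409, 10325), (12410, 10327), (12411, 12411), (12412, 12412), (12413, 11318), (12414, 11320), (12415, 14644)]
    ⟨e3 q12352 L361118 q11086, e3 q12353 (flp_d L653476) q13954, e3 q12354 (flp_d L659204) q14470, e3 q12355 (flp_d L361147) q10276, e3 q12356 (flp_d L660360) q14597, e3 q12357 (flp_d L660070) q14561, e3 q12358 L361180 q10477, e3 q12359 L361187 q10278, e3 q12360 (flp_d L660094) q14564, e3 q12361 L361203 q10280, e3 q12362 (flp_d L660114) q14567, e3 q12363 (flp_d L660133) q14569, e3 q12364 (flp_d L659133) q14463, e3 q12365 (flp_d L660157) q14573, e3 q12366 (flp_d L660180) q14575, e3 q12367 L660482 q14610, e3 q12368 (flp_d L659232) q14472, e3 q12369 L361287 q10490, e3 q12370 L361293 q10288, e3 q12371 L637617 q11016, e3 q12372 L637016 q11174, e3 q12373 L636991 q11025, e3 q12374 L361327 q10495, e3 q12375 (flp_d L659256) q14474, e3 q12376 (flp_d L659294) q14477, e3 q12377 L637442 q10992, e3 q12378 L637625 q11019, e3 q12379 L636984 q11113, e3 q12380 (flp_d L654010) q13997, e3 q12381 L660615 q14622, e3 q12382 (flp_d L361402)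 q10298, e3 q12383 (flp_d L361453) q10299, e3 q12384 (flp_d L660637) q14623, e3 q12385 L361493 q10301, e3 q12386 (flp_d L361569) q10302, e3 q12387 (flp_d L660673) q14626, e3 q12388 L648199 q10531, e3 q12389 L361601 q10304, e3 q12390 L361632 q12390, e3 q12391 L361709 q10352, e3 q12392 L648899 q11652, e3 q12393 L361809 q10314, e3 q12394 L361814 q10310, e3 q12395 (flp_d L361818) q10311, e3 q12396 (flp_d L660726) q14630, e3 q12397 L648901 q11649, e3 q12398 L361849 q10313, e3 q12399 L648451 q11337, e3 q12400 (flp_d L660710) q14629, e3 q12401 L361878 q12401, e3 q12402 L361885 q12402, e3 q12403 L361892 q12403, e3 q12404 L660825 q14639, e3 q12405 L648692 q11647, e3 q12406 (flp_d L648288) q11648, e3 q12407 (flp_d L648895) q11657, e3 q12408 (flp_d L658310) q14374, e3 q12409 L362053 q10325, e3 q12410 L362072 q10327, e3 q12411 L362093 q12411, e3 q12412 L362122 q12412, e3 q12413 L552070 q11318, e3 q12414 L552066 q11320, e3 q12415 L660884 q14644, trivial⟩ (by decide +kernel)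

theorem ce_d_194 : ∀ r, r < 64 → sm gd (Qf (12416 + r)) = Qf (tab Gen.d (12416 + r)) :=
  edges_tab (sm gd) Qf (tab Gen.d) 12416 [(12416, 10333), (12417, 14647), (12418, 14104), (12419, 14105), (12420, 11316), (12421, 14651), (12422, 14653), (12423, 10339), (12424, 14656), (12425, 10345), (12426, 10341), (12427, 10342), (12428, 14660), (12429, 14655), (12430, 10344), (12431, 14657), (12432, 10427), (12433, 10507), (12434, 11312), (12435, 11313), (12436, 11314), (12437, 14421), (12438, 10358), (12439, 14671), (12440, 14673), (12441, 10355), (12442, 14676), (12443, 12443), (12444, 10357), (12445, 14669), (12446, 14680), (12447, 10359), (12448, 14684), (12449, 10360), (12450, 14687), (12451, 10382), (12452, 10368), (12453, 10362), (12454, 10384), (12455, 10794), (12456, 10385), (12457, 10370), (12458, 10371), (12459, 10461), (12460, 14686), (12461, 10367), (12462, 14691), (12463, 14692), (12464, 10466), (12465, 14697), (12466, 14698), (12467, 14709), (12468, 10407), (12469, 10408), (12470, 14106), (12471, 14712), (12472, 10377),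 (12473, 14716), (12474, 14682), (12475, 14458), (12476, 10379), (12477, 14685), (12478, 10381), (12479, 14688)]
    ⟨e3 q12416 (flp_d L362194) q10333, e3 q12417 (flp_d L660927) q14647, e3 q12418 (flp_d L655305) q14104, e3 q12419 (flp_d L655315) q14105, e3 q12420 L542917 q11316, e3 q12421 L660967 q14651, e3 q12422 L660991 q14653, e3 q12423 (flp_d L362381) q10339, e3 q12424 (flp_d L661033) q14656, e3 q12425 L362413 q10345, e3 q12426 L362419 q10341, e3 q12427 (flp_d L362424) q10342, e3 q12428 (flp_d L661075) q14660, e3 q12429 (flp_d L661025) q14655, e3 q12430 L362454 q10344, e3 q12431 (flp_d L661043) q14657, e3 q12432 L362480 q10427, e3 q12433 L362512 q10507, e3 q12434 L508512 q11312, e3 q12435 L546885 q11313, e3 q12436 L546881 q11314, e3 q12437 (flp_d L658793) q14421, e3 q12438 L362631 q10358, e3 q12439 L661180 q14671, e3 q12440 L661204 q14673, e3 q12441 (flp_d L362653) q10355, e3 q12442 (flp_d L661244) q14676, e3 q12443 L362682 q12443, e3 q12444 L362685 q10357, e3 q12445 (flp_d L661163) q14669, e3 q12446 L661280 q14680, e3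 q12447 (flp_d L362707) q10359, e3 q12448 (flp_d L661314) q14684, e3 q12449 (flp_d L362723) q10360, e3 q12450 (flp_d L661346) q14687, e3 q12451 L362743 q10382, e3 q12452 L362749 q10368, e3 q12453 L362753 q10362, e3 q12454 L362759 q10384, e3 q12455 L546922 q10794, e3 q12456 L362773 q10385, e3 q12457 L362780 q10370, e3 q12458 L362787 q10371, e3 q12459 L362797 q10461, e3 q12460 (flp_d L661342) q14686, e3 q12461 L362807 q10367, e3 q12462 (flp_d L661393) q14691, e3 q12463 (flp_d L661397) q14692, e3 q12464 L362825 q10466, e3 q12465 (flp_d L661452) q14697, e3 q12466 (flp_d L661460) q14698, e3 q12467 L661544 q14709, e3 q12468 L552045 q10407, e3 q12469 (flp_d L553395) q10408, e3 q12470 (flp_d L655328) q14106, e3 q12471 L661572 q14712, e3 q12472 (flp_d L362881) q10377, e3 q12473 (flp_d L661634) q14716, e3 q12474 (flp_d L661306) q14682, e3 q12475 (flp_d L659092) q14458, e3 q12476 L362921 q10379, e3 q12477 (flp_d L661329) q14685, e3 q12478 L362938 q10381, e3 q12479 (flp_d L661353) q14688, trivial⟩ (by decide +kernel)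

theorem ce_d_195 : ∀ r, r < 64 → sm gd (Qf (12480 + r)) = Qf (tab Gen.d (12480 + r)) :=
  edges_tab (sm gd) Qf (tab Gen.d) 12480 [(12480, 14690), (12481, 14694), (12482, 10386), (12483, 14723), (12484, 14042), (12485, 14468), (12486, 10388), (12487, 14044), (12488, 10588), (12489, 14046), (12490, 14473), (12491, 10496), (12492, 14049), (12493, 10499), (12494, 14051), (12495, 14729), (12496, 14053), (12497, 14627), (12498, 10399), (12499, 10402), (12500, 10403), (12501, 14734), (12502, 10401), (12503, 14736), (12504, 14731), (12505, 14739), (12506, 14741), (12507, 10404), (12508, 14744), (12509, 12509), (12510, 10406), (12511, 14710), (12512, 14498), (12513, 10414), (12514, 14751), (12515, 14753), (12516, 10411), (12517, 14756), (12518, 12518), (12519, 10413), (12520, 14749), (12521, 14760), (12522, 10415), (12523, 14764), (12524, 10416), (12525, 14767), (12526, 10434), (12527, 10424), (12528, 10418), (12529, 10436), (12530, 12530), (12531, 10437), (12532, 10426), (12533, 14658), (12534, 14766), (12535, 10423), (12536, 14771),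 (12537, 14772), (12538, 14663), (12539, 14783), (12540, 14784), (12541, 10429), (12542, 14788), (12543, 14762)]
    ⟨e3 q12480 (flp_d L661387) q14690, e3 q12481 (flp_d L661415) q14694, e3 q12482 (flp_d L362994) q10386, e3 q12483 (flp_d L661736) q14723, e3 q12484 (flp_d L654563) q14042, e3 q12485 (flp_d L659185) q14468, e3 q12486 L363033 q10388, e3 q12487 (flp_d L654582) q14044, e3 q12488 L615921 q10588, e3 q12489 (flp_d L654611) q14046, e3 q12490 (flp_d L659243) q14473, e3 q12491 L363079 q10496, e3 q12492 (flp_d L654646) q14049, e3 q12493 L363104 q10499, e3 q12494 (flp_d L654668) q14051, e3 q12495 L661828 q14729, e3 q12496 (flp_d L654689) q14053, e3 q12497 (flp_d L660685) q14627, e3 q12498 (flp_d L363147) q10399, e3 q12499 L363179 q10402, e3 q12500 L363187 q10403, e3 q12501 L661890 q14734, e3 q12502 (flp_d L363198) q10401, e3 q12503 (flp_d L661913) q14736, e3 q12504 (flp_d L661860) q14731, e3 q12505 L661937 q14739, e3 q12506 L661954 q14741, e3 q12507 (flp_d L363241) q10404, e3 q12508 (flp_d L661980) q14744, e3 q12509 L363261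 q12509, e3 q12510 L363273 q10406, e3 q12511 (flp_d L661558) q14710, e3 q12512 (flp_d L659514) q14498, e3 q12513 L363423 q10414, e3 q12514 L662052 q14751, e3 q12515 L662076 q14753, e3 q12516 (flp_d L363447) q10411, e3 q12517 (flp_d L662116) q14756, e3 q12518 L363482 q12518, e3 q12519 L363487 q10413, e3 q12520 (flp_d L662033) q14749, e3 q12521 L662154 q14760, e3 q12522 (flp_d L363511) q10415, e3 q12523 (flp_d L662194) q14764, e3 q12524 (flp_d L363529) q10416, e3 q12525 (flp_d L662226) q14767, e3 q12526 L363553 q10434, e3 q12527 L363561 q10424, e3 q12528 L363567 q10418, e3 q12529 L363573 q10436, e3 q12530 L363585 q12530, e3 q12531 L363592 q10437, e3 q12532 L363610 q10426, e3 q12533 (flp_d L661057) q14658, e3 q12534 (flp_d L662220) q14766, e3 q12535 L363636 q10423, e3 q12536 (flp_d L662266) q14771, e3 q12537 (flp_d L662272) q14772, e3 q12538 (flp_d L661099) q14663, e3 q12539 L662367 q14783, e3 q12540 L662373 q14784, e3 q12541 (flp_d L363736) q10429, e3 q12542 (flp_d L662422) q14788, e3 q12543 (flp_d L662182) q14762, trivial⟩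 (by decide +kernel)

theorem ce_d_196 : ∀ r, r < 64 → sm gd (Qf (12544 + r)) = Qf (tab Gen.d (12544 + r)) :=
  edges_tab (sm gd) Qf (tab Gen.d) 12544 [(12544, 14531), (12545, 10431), (12546, 14765), (12547, 10433), (12548, 14768), (12549, 14770), (12550, 14126), (12551, 14774), (12552, 14541), (12553, 14799), (12554, 10447), (12555, 14802), (12556, 10440), (12557, 14806), (12558, 10441), (12559, 14809), (12560, 10554), (12561, 12561), (12562, 10443), (12563, 10556), (12564, 11586), (12565, 10557), (12566, 12566), (12567, 12567), (12568, 14678), (12569, 14823), (12570, 10448), (12571, 14827), (12572, 10476), (12573, 14562), (12574, 10450), (12575, 10479), (12576, 10462), (12577, 10452), (12578, 10481), (12579, 12579), (12580, 10482), (12581, 10464), (12582, 10465), (12583, 14693), (12584, 10484), (12585, 12585), (12586, 10485), (12587, 12587), (12588, 12588), (12589, 14856), (12590, 10467), (12591, 10468), (12592, 14860), (12593, 14837), (12594, 14838), (12595, 14702), (12596, 14846), (12597, 14847), (12598, 14867), (12599,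 14857), (12600, 14858), (12601, 14870), (12602, 10469), (12603, 11272), (12604, 14100), (12605, 10473), (12606, 14875), (12607, 14825)]
    ⟨e3 q12544 (flp_d L659813) q14531, e3 q12545 L363781 q10431, e3 q12546 (flp_d L662209) q14765, e3 q12547 L363802 q10433, e3 q12548 (flp_d L662233) q14768, e3 q12549 (flp_d L662258) q14770, e3 q12550 (flp_d L655561) q14126, e3 q12551 (flp_d L662288) q14774, e3 q12552 (flp_d L659906) q14541, e3 q12553 L662552 q14799, e3 q12554 L363887 q10447, e3 q12555 L662575 q14802, e3 q12556 (flp_d L363900) q10440, e3 q12557 (flp_d L662611) q14806, e3 q12558 (flp_d L363916) q10441, e3 q12559 (flp_d L662638) q14809, e3 q12560 L363937 q10554, e3 q12561 L363945 q12561, e3 q12562 L363948 q10443, e3 q12563 L363954 q10556, e3 q12564 L512962 q11586, e3 q12565 L363972 q10557, e3 q12566 L363979 q12566, e3 q12567 L363987 q12567, e3 q12568 (flp_d L661267) q14678, e3 q12569 L662761 q14823, e3 q12570 (flp_d L364007) q10448, e3 q12571 (flp_d L662791) q14827, e3 q12572 L364027 q10476, e3 q12573 (flp_d L660076) q14562,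 e3 q12574 L364035 q10450, e3 q12575 L364046 q10479, e3 q12576 L364053 q10462, e3 q12577 L364057 q10452, e3 q12578 L364064 q10481, e3 q12579 L364074 q12579, e3 q12580 L364079 q10482, e3 q12581 L364085 q10464, e3 q12582 L364089 q10465, e3 q12583 (flp_d L661407) q14693, e3 q12584 L364101 q10484, e3 q12585 L364111 q12585, e3 q12586 L364116 q10485, e3 q12587 L364125 q12587, e3 q12588 L364133 q12588, e3 q12589 L663002 q14856, e3 q12590 L364146 q10467, e3 q12591 L364152 q10468, e3 q12592 L663037 q14860, e3 q12593 (flp_d L662863) q14837, e3 q12594 (flp_d L662869) q14838, e3 q12595 (flp_d L661493) q14702, e3 q12596 (flp_d L662924) q14846, e3 q12597 (flp_d L662930) q14847, e3 q12598 L663082 q14867, e3 q12599 (flp_d L663017) q14857, e3 q12600 (flp_d L663024) q14858, e3 q12601 L663103 q14870, e3 q12602 (flp_d L364227) q10469, e3 q12603 L364234 q11272, e3 q12604 (flp_d L655262) q14100, e3 q12605 (flp_d L364260) q10473, e3 q12606 (flp_d L663150) q14875, e3 q12607 (flp_d L662783) q14825, trivial⟩ (by decide +kernel)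

theorem ce_d_197 : ∀ r, r < 64 → sm gd (Qf (12608 + r)) = Qf (tab Gen.d (12608 + r)) :=
  edges_tab (sm gd) Qf (tab Gen.d) 12608 [(12608, 14596), (12609, 10475), (12610, 14828), (12611, 14884), (12612, 14830), (12613, 14601), (12614, 11342), (12615, 14834), (12616, 14836), (12617, 11343), (12618, 14840), (12619, 14842), (12620, 14893), (12621, 14849), (12622, 14895), (12623, 10486), (12624, 14045), (12625, 14471), (12626, 10488), (12627, 14184), (12628, 11177), (12629, 14185), (12630, 14611), (12631, 14726), (12632, 14187), (12633, 14906), (12634, 14189), (12635, 10493), (12636, 14909), (12637, 14910), (12638, 14911), (12639, 14193), (12640, 14194), (12641, 14914), (12642, 14196), (12643, 14916), (12644, 10502), (12645, 13822), (12646, 10504), (12647, 12647), (12648, 12648), (12649, 14920), (12650, 10513), (12651, 11130), (12652, 11131), (12653, 11132), (12654, 10514), (12655, 11122), (12656, 12656), (12657, 11120), (12658, 11194), (12659, 14625), (12660, 10529), (12661, 12661), (12662, 14925), (12663, 10538), (12664, 11298),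 (12665, 11282), (12666, 11285), (12667, 10539), (12668, 11376), (12669, 12669), (12670, 11375), (12671, 14933)]
    ⟨e3 q12608 (flp_d L660353) q14596, e3 q12609 L364301 q10475, e3 q12610 (flp_d L662799) q14828, e3 q12611 L663238 q14884, e3 q12612 (flp_d L662815) q14830, e3 q12613 (flp_d L660397) q14601, e3 q12614 L562427 q11342, e3 q12615 (flp_d L662839) q14834, e3 q12616 (flp_d L662856) q14836, e3 q12617 L562414 q11343, e3 q12618 (flp_d L662883) q14840, e3 q12619 (flp_d L662898) q14842, e3 q12620 L663331 q14893, e3 q12621 (flp_d L662944) q14849, e3 q12622 L663355 q14895, e3 q12623 (flp_d L364430) q10486, e3 q12624 (flp_d L654603) q14045, e3 q12625 (flp_d L659223) q14471, e3 q12626 L364459 q10488, e3 q12627 (flp_d L656129) q14184, e3 q12628 L648188 q11177, e3 q12629 (flp_d L656143) q14185, e3 q12630 (flp_d L660492) q14611, e3 q12631 (flp_d L661794) q14726, e3 q12632 (flp_d L656163) q14187, e3 q12633 L663491 q14906, e3 q12634 (flp_d L656188) q14189, e3 q12635 (flp_d L364536) q10493, e3 q12636 (flp_d L663534) q14909, e3 q12637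 L663545 q14910, e3 q12638 L663556 q14911, e3 q12639 (flp_d L656235) q14193, e3 q12640 (flp_d L656246) q14194, e3 q12641 L663585 q14914, e3 q12642 (flp_d L656265) q14196, e3 q12643 L663603 q14916, e3 q12644 (flp_d L364618) q10502, e3 q12645 (flp_d L651614) q13822, e3 q12646 (flp_d L364636) q10504, e3 q12647 L364651 q12647, e3 q12648 L367124 q12648, e3 q12649 L663643 q14920, e3 q12650 L367141 q10513, e3 q12651 L562214 q11130, e3 q12652 L562104 q11131, e3 q12653 L562089 q11132, e3 q12654 (flp_d L367538) q10514, e3 q12655 L561820 q11122, e3 q12656 L367571 q12656, e3 q12657 L546973 q11120, e3 q12658 L614641 q11194, e3 q12659 (flp_d L660665) q14625, e3 q12660 (flp_d L367851) q10529, e3 q12661 L368254 q12661, e3 q12662 L663706 q14925, e3 q12663 L368271 q10538, e3 q12664 L646518 q11298, e3 q12665 L562151 q11282, e3 q12666 L513363 q11285, e3 q12667 (flp_d L368629) q10539, e3 q12668 L546408 q11376, e3 q12669 L368665 q12669, e3 q12670 L646438 q11375, e3 q12671 L663820 q14933, trivial⟩ (by decide +kernel)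

theorem ce_d_198 : ∀ r, r < 64 → sm gd (Qf (12672 + r)) = Qf (tab Gen.d (12672 + r)) :=
  edges_tab (sm gd) Qf (tab Gen.d) 12672 [(12672, 11382), (12673, 12673), (12674, 14935), (12675, 10547), (12676, 14939), (12677, 14904), (12678, 10549), (12679, 14942), (12680, 14804), (12681, 14938), (12682, 10551), (12683, 14807), (12684, 10553), (12685, 14810), (12686, 14812), (12687, 14147), (12688, 14816), (12689, 10558), (12690, 10567), (12691, 10570), (12692, 14956), (12693, 10575), (12694, 10578), (12695, 14952), (12696, 12696), (12697, 10566), (12698, 14953), (12699, 14961), (12700, 11345), (12701, 12701), (12702, 11341), (12703, 14954), (12704, 14928), (12705, 11347), (12706, 10571), (12707, 14966), (12708, 14968), (12709, 14969), (12710, 11579), (12711, 11349), (12712, 14972), (12713, 11350), (12714, 14974), (12715, 10580), (12716, 14149), (12717, 10582), (12718, 12718), (12719, 12719), (12720, 12720), (12721, 14977), (12722, 10592), (12723, 10593), (12724, 12724), (12725, 14979), (12726, 10596), (12727, 13821), (12728, 10598),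 (12729, 12729), (12730, 14980), (12731, 10702), (12732, 10609), (12733, 10728), (12734, 13915), (12735, 10615)]
    ⟨e3 q12672 L543219 q11382, e3 q12673 L368805 q12673, e3 q12674 L663849 q14935, e3 q12675 (flp_d L368818) q10547, e3 q12676 (flp_d L663891) q14939, e3 q12677 L663480 q14904, e3 q12678 (flp_d L368841) q10549, e3 q12679 (flp_d L663921) q14942, e3 q12680 (flp_d L662601) q14804, e3 q12681 (flp_d L663884) q14938, e3 q12682 L368875 q10551, e3 q12683 (flp_d L662626) q14807, e3 q12684 L368900 q10553, e3 q12685 (flp_d L662645) q14810, e3 q12686 (flp_d L662669) q14812, e3 q12687 (flp_d L655766) q14147, e3 q12688 (flp_d L662695) q14816, e3 q12689 (flp_d L369005) q10558, e3 q12690 L369030 q10567, e3 q12691 L369049 q10570, e3 q12692 L664106 q14956, e3 q12693 L369096 q10575, e3 q12694 L369145 q10578, e3 q12695 (flp_d L664057) q14952, e3 q12696 L369323 q12696, e3 q12697 L369328 q10566, e3 q12698 (flp_d L664061) q14953, e3 q12699 L664185 q14961, e3 q12700 L562329 q11345, e3 q12701 L369362 q12701, e3 q12702 L562357 q11341, e3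 q12703 (flp_d L664077) q14954, e3 q12704 (flp_d L663758) q14928, e3 q12705 L543391 q11347, e3 q12706 (flp_d L369403) q10571, e3 q12707 (flp_d L664250) q14966, e3 q12708 L664270 q14968, e3 q12709 L664282 q14969, e3 q12710 L649371 q11579, e3 q12711 L543387 q11349, e3 q12712 L664318 q14972, e3 q12713 L543402 q11350, e3 q12714 L664340 q14974, e3 q12715 (flp_d L369479) q10580, e3 q12716 (flp_d L655789) q14149, e3 q12717 (flp_d L369493) q10582, e3 q12718 L369503 q12718, e3 q12719 L369560 q12719, e3 q12720 L369630 q12720, e3 q12721 L664370 q14977, e3 q12722 (flp_d L369688) q10592, e3 q12723 (flp_d L369696) q10593, e3 q12724 L369708 q12724, e3 q12725 L664390 q14979, e3 q12726 (flp_d L369721) q10596, e3 q12727 (flp_d L651602) q13821, e3 q12728 (flp_d L369736) q10598, e3 q12729 L369749 q12729, e3 q12730 L664398 q14980, e3 q12731 L621342 q10702, e3 q12732 (flp_d L372567) q10609, e3 q12733 L373229 q10728, e3 q12734 (flp_d L652905) q13915, e3 q12735 (flp_d L373241) q10615, trivial⟩ (by decide +kernel)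

theorem ce_d_199 : ∀ r, r < 64 → sm gd (Qf (12736 + r)) = Qf (tab Gen.d (12736 + r)) :=
  edges_tab (sm gd) Qf (tab Gen.d) 12736 [(12736, 10616), (12737, 10618), (12738, 13867), (12739, 12739), (12740, 14981), (12741, 10630), (12742, 14983), (12743, 10931), (12744, 14984), (12745, 10901), (12746, 10638), (12747, 14987), (12748, 11613), (12749, 14986), (12750, 10641), (12751, 11401), (12752, 10644), (12753, 14990), (12754, 10646), (12755, 12755), (12756, 10649), (12757, 14991), (12758, 14992), (12759, 10651), (12760, 14995), (12761, 10663), (12762, 10655), (12763, 10653), (12764, 14999), (12765, 15000), (12766, 13892), (12767, 13893), (12768, 13868), (12769, 10660), (12770, 14994), (12771, 10662), (12772, 14996), (12773, 14998), (12774, 10977), (12775, 10978), (12776, 10673), (12777, 15010), (12778, 10672), (12779, 15013), (12780, 10693), (12781, 15014), (12782, 10675), (12783, 15016), (12784, 10683), (12785, 10677), (12786, 11045), (12787, 13992), (12788, 15017), (12789, 10738), (12790, 11002), (12791, 15021), (12792, 10690),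 (12793, 15023), (12794, 10989), (12795, 15024), (12796, 10694), (12797, 15027), (12798, 10700), (12799, 10696)]
    ⟨e3 q12736 (flp_d L373256) q10616, e3 q12737 L373284 q10618, e3 q12738 (flp_d L652253) q13867, e3 q12739 L373374 q12739, e3 q12740 L664414 q14981, e3 q12741 (flp_d L374031) q10630, e3 q12742 (flp_d L664450) q14983, e3 q12743 L549796 q10931, e3 q12744 L664456 q14984, e3 q12745 L550880 q10901, e3 q12746 (flp_d L374433) q10638, e3 q12747 (flp_d L664503) q14987, e3 q12748 (flp_d L648773) q11613, e3 q12749 (flp_d L664497) q14986, e3 q12750 L374493 q10641, e3 q12751 L648951 q11401, e3 q12752 (flp_d L374555) q10644, e3 q12753 (flp_d L664543) q14990, e3 q12754 L374584 q10646, e3 q12755 L374594 q12755, e3 q12756 (flp_d L374624) q10649, e3 q12757 (flp_d L664558) q14991, e3 q12758 L664566 q14992, e3 q12759 (flp_d L374670) q10651, e3 q12760 (flp_d L664605) q14995, e3 q12761 L374690 q10663, e3 q12762 L374698 q10655, e3 q12763 L374704 q10653, e3 q12764 (flp_d L664646) q14999, e3 q12765 (flp_d L664656) q15000, e3 q12766 (flp_d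 L652624) q13892, e3 q12767 (flp_d L652632) q13893, e3 q12768 (flp_d L652263) q13868, e3 q12769 (flp_d L374839) q10660, e3 q12770 (flp_d L664599) q14994, e3 q12771 L374867 q10662, e3 q12772 (flp_d L664615) q14996, e3 q12773 (flp_d L664638) q14998, e3 q12774 L374984 q10977, e3 q12775 L374994 q10978, e3 q12776 L375797 q10673, e3 q12777 L664764 q15010, e3 q12778 (flp_d L375819) q10672, e3 q12779 (flp_d L664808) q15013, e3 q12780 L611672 q10693, e3 q12781 L664812 q15014, e3 q12782 (flp_d L375865) q10675, e3 q12783 (flp_d L664840) q15016, e3 q12784 L375885 q10683, e3 q12785 L375897 q10677, e3 q12786 L568104 q11045, e3 q12787 (flp_d L653927) q13992, e3 q12788 (flp_d L664852) q15017, e3 q12789 L376061 q10738, e3 q12790 L622136 q11002, e3 q12791 L664887 q15021, e3 q12792 (flp_d L376217) q10690, e3 q12793 (flp_d L664922) q15023, e3 q12794 L534463 q10989, e3 q12795 L664926 q15024, e3 q12796 (flp_d L376407) q10694, e3 q12797 (flp_d L664962) q15027, e3 q12798 L376433 q10700, e3 q12799 L376439 q10696, trivial⟩ (by decide +kernel)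

theorem ce_d_200 : ∀ r, r < 64 → sm gd (Qf (12800 + r)) = Qf (tab Gen.d (12800 + r)) :=
  edges_tab (sm gd) Qf (tab Gen.d) 12800 [(12800, 11618), (12801, 15026), (12802, 10699), (12803, 15028), (12804, 13847), (12805, 15033), (12806, 10703), (12807, 15035), (12808, 10704), (12809, 15036), (12810, 10706), (12811, 11459), (12812, 15038), (12813, 10710), (12814, 15040), (12815, 10945), (12816, 10712), (12817, 11622), (12818, 15045), (12819, 10714), (12820, 15049), (12821, 10715), (12822, 15051), (12823, 10734), (12824, 10722), (12825, 10717), (12826, 10736), (12827, 12827), (12828, 10737), (12829, 10724), (12830, 10725), (12831, 15018), (12832, 15055), (12833, 15056), (12834, 15063), (12835, 15064), (12836, 13989), (12837, 13990), (12838, 13916), (12839, 10729), (12840, 15073), (12841, 15047), (12842, 10867), (12843, 10731), (12844, 15050), (12845, 10733), (12846, 15052), (12847, 15054), (12848, 13920), (12849, 15059), (12850, 15083), (12851, 13926), (12852, 10741), (12853, 11106), (12854, 11108), (12855, 10885), (12856, 11111),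 (12857, 11112), (12858, 11114), (12859, 11115), (12860, 14476), (12861, 11117), (12862, 15091), (12863, 10752)]
    ⟨e3 q12800 (flp_d L648738) q11618, e3 q12801 (flp_d L664956) q15026, e3 q12802 L376476 q10699, e3 q12803 (flp_d L664972) q15028, e3 q12804 (flp_d L651924) q13847, e3 q12805 L665025 q15033, e3 q12806 (flp_d L376552) q10703, e3 q12807 (flp_d L665058) q15035, e3 q12808 (flp_d L376568) q10704, e3 q12809 (flp_d L665071) q15036, e3 q12810 L376597 q10706, e3 q12811 L648793 q11459, e3 q12812 L665094 q15038, e3 q12813 (flp_d L376649) q10710, e3 q12814 (flp_d L665120) q15040, e3 q12815 L617531 q10945, e3 q12816 L376681 q10712, e3 q12817 L648917 q11622, e3 q12818 L665168 q15045, e3 q12819 (flp_d L376703) q10714, e3 q12820 (flp_d L665206) q15049, e3 q12821 (flp_d L376719) q10715, e3 q12822 (flp_d L665226) q15051, e3 q12823 L376739 q10734, e3 q12824 L376747 q10722, e3 q12825 L376753 q10717, e3 q12826 L376759 q10736, e3 q12827 L376767 q12827, e3 q12828 L376772 q10737, e3 q12829 L376778 q10724, e3 q12830 L376784 q10725, e3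 q12831 (flp_d L664864) q15018, e3 q12832 (flp_d L665265) q15055, e3 q12833 (flp_d L665275) q15056, e3 q12834 (flp_d L665324) q15063, e3 q12835 (flp_d L665330) q15064, e3 q12836 (flp_d L653899) q13989, e3 q12837 (flp_d L653908) q13990, e3 q12838 (flp_d L652931) q13916, e3 q12839 (flp_d L376911) q10729, e3 q12840 (flp_d L665415) q15073, e3 q12841 (flp_d L665194) q15047, e3 q12842 L376937 q10867, e3 q12843 L376944 q10731, e3 q12844 (flp_d L665220) q15050, e3 q12845 L376957 q10733, e3 q12846 (flp_d L665236) q15052, e3 q12847 (flp_d L665257) q15054, e3 q12848 (flp_d L652988) q13920, e3 q12849 (flp_d L665302) q15059, e3 q12850 L665512 q15083, e3 q12851 (flp_d L653066) q13926, e3 q12852 L377034 q10741, e3 q12853 L377042 q11106, e3 q12854 L377057 q11108, e3 q12855 L377064 q10885, e3 q12856 L377076 q11111, e3 q12857 L377086 q11112, e3 q12858 L377099 q11114, e3 q12859 L377109 q11115, e3 q12860 (flp_d L659275) q14476, e3 q12861 L377127 q11117, e3 q12862 L665595 q15091, e3 q12863 (flp_d L377135) q10752, trivial⟩ (by decide +kernel)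

theorem ce_d_201 : ∀ r, r < 64 → sm gd (Qf (12864 + r)) = Qf (tab Gen.d (12864 + r)) :=
  edges_tab (sm gd) Qf (tab Gen.d) 12864 [(12864, 12864), (12865, 12865), (12866, 12866), (12867, 12867), (12868, 12868), (12869, 15098), (12870, 10807), (12871, 10763), (12872, 15101), (12873, 15103), (12874, 10760), (12875, 15105), (12876, 10762), (12877, 14076), (12878, 15107), (12879, 10764), (12880, 15111), (12881, 10765), (12882, 15113), (12883, 10777), (12884, 10767), (12885, 10779), (12886, 10780), (12887, 10854), (12888, 14173), (12889, 15109), (12890, 10774), (12891, 15112), (12892, 10776), (12893, 15114), (12894, 15115), (12895, 10873), (12896, 15117), (12897, 15118), (12898, 15131), (12899, 11176), (12900, 11178), (12901, 10886), (12902, 11181), (12903, 11182), (12904, 10889), (12905, 11184), (12906, 11185), (12907, 15140), (12908, 11187), (12909, 15142), (12910, 10792), (12911, 10795), (12912, 14689), (12913, 14695), (12914, 11133), (12915, 15147), (12916, 15149), (12917, 10797), (12918, 15151), (12919, 10799), (12920, 11128),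 (12921, 15153), (12922, 15155), (12923, 10804), (12924, 15158), (12925, 12925), (12926, 10806), (12927, 13998)]
    ⟨e3 q12864 L377814 q12864, e3 q12865 L377825 q12865, e3 q12866 L377837 q12866, e3 q12867 L377841 q12867, e3 q12868 L377852 q12868, e3 q12869 L665674 q15098, e3 q12870 L615163 q10807, e3 q12871 L378364 q10763, e3 q12872 L665708 q15101, e3 q12873 L665729 q15103, e3 q12874 (flp_d L378387) q10760, e3 q12875 (flp_d L665762) q15105, e3 q12876 L378425 q10762, e3 q12877 (flp_d L654989) q14076, e3 q12878 L665781 q15107, e3 q12879 (flp_d L378447) q10764, e3 q12880 (flp_d L665827) q15111, e3 q12881 (flp_d L378463) q10765, e3 q12882 (flp_d L665848) q15113, e3 q12883 L378487 q10777, e3 q12884 L378501 q10767, e3 q12885 L378507 q10779, e3 q12886 L378521 q10780, e3 q12887 L378545 q10854, e3 q12888 (flp_d L656020) q14173, e3 q12889 (flp_d L665811) q15109, e3 q12890 L378686 q10774, e3 q12891 (flp_d L665840) q15112, e3 q12892 L378700 q10776, e3 q12893 (flp_d L665857) q15114, e3 q12894 (flp_d L665871) q15115, e3 q12895 L378724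 q10873, e3 q12896 (flp_d L665893) q15117, e3 q12897 (flp_d L665910) q15118, e3 q12898 L666038 q15131, e3 q12899 L378790 q11176, e3 q12900 L378806 q11178, e3 q12901 L378820 q10886, e3 q12902 L378825 q11181, e3 q12903 L378836 q11182, e3 q12904 L378847 q10889, e3 q12905 L378852 q11184, e3 q12906 L378862 q11185, e3 q12907 L666117 q15140, e3 q12908 L378879 q11187, e3 q12909 L666138 q15142, e3 q12910 (flp_d L378888) q10792, e3 q12911 L378923 q10795, e3 q12912 (flp_d L661379) q14689, e3 q12913 (flp_d L661430) q14695, e3 q12914 L615392 q11133, e3 q12915 L666200 q15147, e3 q12916 L666219 q15149, e3 q12917 (flp_d L378994) q10797, e3 q12918 (flp_d L666252) q15151, e3 q12919 L379034 q10799, e3 q12920 L554129 q11128, e3 q12921 L666269 q15153, e3 q12922 L666286 q15155, e3 q12923 (flp_d L379238) q10804, e3 q12924 (flp_d L666326) q15158, e3 q12925 L379262 q12925, e3 q12926 L379276 q10806, e3 q12927 (flp_d L654033) q13998, trivial⟩ (by decide +kernel)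

theorem ce_d_202 : ∀ r, r < 64 → sm gd (Qf (12928 + r)) = Qf (tab Gen.d (12928 + r)) :=
  edges_tab (sm gd) Qf (tab Gen.d) 12928 [(12928, 15162), (12929, 10808), (12930, 15166), (12931, 10809), (12932, 15169), (12933, 10826), (12934, 10817), (12935, 10811), (12936, 10828), (12937, 12937), (12938, 10829), (12939, 10819), (12940, 11265), (12941, 15168), (12942, 10816), (12943, 15173), (12944, 15174), (12945, 15183), (12946, 10821), (12947, 15187), (12948, 15164), (12949, 11560), (12950, 10823), (12951, 15167), (12952, 10825), (12953, 15170), (12954, 15172), (12955, 11547), (12956, 14817), (12957, 15176), (12958, 15201), (12959, 15202), (12960, 10840), (12961, 15205), (12962, 10833), (12963, 15209), (12964, 10834), (12965, 15211), (12966, 12966), (12967, 11606), (12968, 10836), (12969, 12969), (12970, 14038), (12971, 12971), (12972, 11169), (12973, 11609), (12974, 15106), (12975, 15225), (12976, 10841), (12977, 15229), (12978, 10866), (12979, 15048), (12980, 10843), (12981, 10869), (12982, 10855), (12983, 10845), (12984, 10871),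 (12985, 12985), (12986, 10872), (12987, 10857), (12988, 10858), (12989, 15116), (12990, 10874), (12991, 12991)]
    ⟨e3 q12928 L666356 q15162, e3 q12929 (flp_d L379296) q10808, e3 q12930 (flp_d L666392) q15166, e3 q12931 (flp_d L379310) q10809, e3 q12932 (flp_d L666422) q15169, e3 q12933 L379334 q10826, e3 q12934 L379342 q10817, e3 q12935 L379348 q10811, e3 q12936 L379354 q10828, e3 q12937 L379364 q12937, e3 q12938 L379371 q10829, e3 q12939 L379385 q10819, e3 q12940 L549157 q11265, e3 q12941 (flp_d L666416) q15168, e3 q12942 L379410 q10816, e3 q12943 (flp_d L666458) q15173, e3 q12944 (flp_d L666466) q15174, e3 q12945 L666555 q15183, e3 q12946 (flp_d L379509) q10821, e3 q12947 (flp_d L666605) q15187, e3 q12948 (flp_d L666382) q15164, e3 q12949 L649351 q11560, e3 q12950 L379547 q10823, e3 q12951 (flp_d L666403) q15167, e3 q12952 L379565 q10825, e3 q12953 (flp_d L666429) q15170, e3 q12954 (flp_d L666448) q15172, e3 q12955 L648254 q11547, e3 q12956 (flp_d L662708) q14817, e3 q12957 (flp_d L666484) q15176, e3 q12958 L666737 q15201,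 e3 q12959 L666745 q15202, e3 q12960 L379643 q10840, e3 q12961 L666776 q15205, e3 q12962 (flp_d L379655) q10833, e3 q12963 (flp_d L666814) q15209, e3 q12964 (flp_d L379670) q10834, e3 q12965 (flp_d L666832) q15211, e3 q12966 L379695 q12966, e3 q12967 L379704 q11606, e3 q12968 L379710 q10836, e3 q12969 L379716 q12969, e3 q12970 (flp_d L654503) q14038, e3 q12971 L379733 q12971, e3 q12972 L542372 q11169, e3 q12973 L379748 q11609, e3 q12974 (flp_d L665777) q15106, e3 q12975 L666964 q15225, e3 q12976 (flp_d L379769) q10841, e3 q12977 (flp_d L666998) q15229, e3 q12978 L379791 q10866, e3 q12979 (flp_d L665200) q15048, e3 q12980 L379801 q10843, e3 q12981 L379810 q10869, e3 q12982 L379819 q10855, e3 q12983 L379825 q10845, e3 q12984 L379832 q10871, e3 q12985 L379844 q12985, e3 q12986 L379849 q10872, e3 q12987 L379857 q10857, e3 q12988 L379863 q10858, e3 q12989 (flp_d L665887) q15116, e3 q12990 L379879 q10874, e3 q12991 L379889 q12991, trivial⟩ (by decide +kernel)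

theorem ce_d_203 : ∀ r, r < 64 → sm gd (Qf (12992 + r)) = Qf (tab Gen.d (12992 + r)) :=
  edges_tab (sm gd) Qf (tab Gen.d) 12992 [(12992, 10875), (12993, 12993), (12994, 12994), (12995, 15259), (12996, 10859), (12997, 10860), (12998, 15152), (12999, 15239), (13000, 15240), (13001, 15248), (13002, 15249), (13003, 15260), (13004, 15261), (13005, 14165), (13006, 10863), (13007, 15268), (13008, 15227), (13009, 14027), (13010, 10865), (13011, 15230), (13012, 15277), (13013, 15232), (13014, 15077), (13015, 15122), (13016, 15236), (13017, 15238), (13018, 15125), (13019, 15242), (13020, 15244), (13021, 15286), (13022, 15252), (13023, 15288), (13024, 10876), (13025, 10878), (13026, 11293), (13027, 11330), (13028, 11294), (13029, 14041), (13030, 14192), (13031, 11297), (13032, 14924), (13033, 11299), (13034, 10883), (13035, 15298), (13036, 15300), (13037, 15290), (13038, 11301), (13039, 11302), (13040, 11489), (13041, 11303), (13042, 15304), (13043, 10892), (13044, 13823), (13045, 10894), (13046, 13046), (13047, 15305), (13048, 15307),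 (13049, 10899), (13050, 15310), (13051, 11612), (13052, 14346), (13053, 15309), (13054, 10906), (13055, 13055)]
    ⟨e3 q12992 L379896 q10875, e3 q12993 L379903 q12993, e3 q12994 L379909 q12994, e3 q12995 L667243 q15259, e3 q12996 L379922 q10859, e3 q12997 L379928 q10860, e3 q12998 (flp_d L666267) q15152, e3 q12999 (flp_d L667074) q15239, e3 q13000 (flp_d L667084) q15240, e3 q13001 (flp_d L667149) q15248, e3 q13002 (flp_d L667157) q15249, e3 q13003 (flp_d L667252) q15260, e3 q13004 (flp_d L667259) q15261, e3 q13005 (flp_d L655938) q14165, e3 q13006 (flp_d L380066) q10863, e3 q13007 (flp_d L667319) q15268, e3 q13008 (flp_d L666986) q15227, e3 q13009 L654379 q14027, e3 q13010 L380100 q10865, e3 q13011 (flp_d L667006) q15230, e3 q13012 L667390 q15277, e3 q13013 (flp_d L667020) q15232, e3 q13014 (flp_d L665458) q15077, e3 q13015 (flp_d L665947) q15122, e3 q13016 (flp_d L667044) q15236, e3 q13017 (flp_d L667065) q15238, e3 q13018 (flp_d L665982) q15125, e3 q13019 (flp_d L667102) q15242, e3 q13020 (flp_d L667121) q15244, e3 q13021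 L667462 q15286, e3 q13022 (flp_d L667189) q15252, e3 q13023 L667476 q15288, e3 q13024 (flp_d L380207) q10876, e3 q13025 L380229 q10878, e3 q13026 L380236 q11293, e3 q13027 L646902 q11330, e3 q13028 L380257 q11294, e3 q13029 (flp_d L654540) q14041, e3 q13030 (flp_d L656230) q14192, e3 q13031 L380281 q11297, e3 q13032 L663704 q14924, e3 q13033 L380297 q11299, e3 q13034 (flp_d L380301) q10883, e3 q13035 (flp_d L667567) q15298, e3 q13036 L667587 q15300, e3 q13037 (flp_d L667493) q15290, e3 q13038 L380332 q11301, e3 q13039 L380344 q11302, e3 q13040 (flp_d L649307) q11489, e3 q13041 L380365 q11303, e3 q13042 L667630 q15304, e3 q13043 (flp_d L380378) q10892, e3 q13044 (flp_d L651631) q13823, e3 q13045 (flp_d L380394) q10894, e3 q13046 L380409 q13046, e3 q13047 L667643 q15305, e3 q13048 L667672 q15307, e3 q13049 (flp_d L380557) q10899, e3 q13050 (flp_d L667714) q15310, e3 q13051 L648594 q11612, e3 q13052 (flp_d L657944) q14346, e3 q13053 (flp_d L667708) q15309, e3 q13054 L380721 q10906, e3 q13055 L380731 q13055, trivial⟩ (by decide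 +kernel)

theorem ce_d_204 : ∀ r, r < 64 → sm gd (Qf (13056 + r)) = Qf (tab Gen.d (13056 + r)) :=
  edges_tab (sm gd) Qf (tab Gen.d) 13056 [(13056, 10909), (13057, 15315), (13058, 10911), (13059, 15316), (13060, 10920), (13061, 10917), (13062, 10913), (13063, 11615), (13064, 10916), (13065, 15319), (13066, 15318), (13067, 10967), (13068, 10924), (13069, 15323), (13070, 15324), (13071, 13978), (13072, 10927), (13073, 15327), (13074, 10937), (13075, 10929), (13076, 11592), (13077, 13077), (13078, 13804), (13079, 10933), (13080, 15331), (13081, 13805), (13082, 10936), (13083, 15328), (13084, 15313), (13085, 13085), (13086, 10942), (13087, 11593), (13088, 15041), (13089, 10944), (13090, 15340), (13091, 15042), (13092, 10963), (13093, 10947), (13094, 10965), (13095, 11394), (13096, 10966), (13097, 10953), (13098, 10954), (13099, 15320), (13100, 15350), (13101, 15351), (13102, 14338), (13103, 14339), (13104, 14475), (13105, 10958), (13106, 15338), (13107, 13107), (13108, 10960), (13109, 10962), (13110, 15341), (13111, 15342), (13112,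 14347), (13113, 15344), (13114, 15346), (13115, 15362), (13116, 13116), (13117, 13117), (13118, 10979), (13119, 14267)]
    ⟨e3 q13056 (flp_d L380764) q10909, e3 q13057 (flp_d L667754) q15315, e3 q13058 (flp_d L380805) q10911, e3 q13059 (flp_d L667760) q15316, e3 q13060 L380823 q10920, e3 q13061 L380829 q10917, e3 q13062 L380833 q10913, e3 q13063 (flp_d L648775) q11615, e3 q13064 L380868 q10916, e3 q13065 (flp_d L667783) q15319, e3 q13066 (flp_d L667775) q15318, e3 q13067 L381017 q10967, e3 q13068 (flp_d L381323) q10924, e3 q13069 (flp_d L667816) q15323, e3 q13070 L667820 q15324, e3 q13071 (flp_d L653797) q13978, e3 q13072 (flp_d L381370) q10927, e3 q13073 (flp_d L667855) q15327, e3 q13074 L381392 q10937, e3 q13075 L381406 q10929, e3 q13076 L648592 q11592, e3 q13077 L381526 q13077, e3 q13078 (flp_d L651377) q13804, e3 q13079 (flp_d L381540) q10933, e3 q13080 (flp_d L667890) q15331, e3 q13081 (flp_d L651391) q13805, e3 q13082 L381593 q10936, e3 q13083 (flp_d L667865) q15328, e3 q13084 (flp_d L667742) q15313, e3 q13085 L381673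 q13085, e3 q13086 L381684 q10942, e3 q13087 (flp_d L648396) q11593, e3 q13088 (flp_d L665132) q15041, e3 q13089 (flp_d L381704) q10944, e3 q13090 (flp_d L667957) q15340, e3 q13091 (flp_d L665142) q15042, e3 q13092 L381735 q10963, e3 q13093 L381745 q10947, e3 q13094 L381751 q10965, e3 q13095 L381761 q11394, e3 q13096 L381767 q10966, e3 q13097 L381773 q10953, e3 q13098 L381779 q10954, e3 q13099 (flp_d L667793) q15320, e3 q13100 (flp_d L668027) q15350, e3 q13101 (flp_d L668031) q15351, e3 q13102 (flp_d L657851) q14338, e3 q13103 (flp_d L657862) q14339, e3 q13104 (flp_d L659261) q14475, e3 q13105 (flp_d L381904) q10958, e3 q13106 (flp_d L667950) q15338, e3 q13107 L381932 q13107, e3 q13108 L381939 q10960, e3 q13109 L381956 q10962, e3 q13110 (flp_d L667963) q15341, e3 q13111 (flp_d L667971) q15342, e3 q13112 (flp_d L657964) q14347, e3 q13113 (flp_d L667981) q15344, e3 q13114 (flp_d L667997) q15346, e3 q13115 L668133 q15362, e3 q13116 L382048 q13116, e3 q13117 L382083 q13117, e3 q13118 L649188 q10979, e3 q13119 L657118 q14267, trivial⟩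 (by decide +kernel)

theorem ce_d_205 : ∀ r, r < 64 → sm gd (Qf (13120 + r)) = Qf (tab Gen.d (13120 + r)) :=
  edges_tab (sm gd) Qf (tab Gen.d) 13120 [(13120, 13932), (13121, 14240), (13122, 14268), (13123, 14279), (13124, 15008), (13125, 15357), (13126, 11038), (13127, 10983), (13128, 15369), (13129, 10982), (13130, 15371), (13131, 11033), (13132, 15373), (13133, 15375), (13134, 10985), (13135, 15378), (13136, 10995), (13137, 10987), (13138, 11616), (13139, 13139), (13140, 14613), (13141, 10991), (13142, 15383), (13143, 14619), (13144, 15377), (13145, 10994), (13146, 14553), (13147, 15379), (13148, 11056), (13149, 15390), (13150, 10999), (13151, 15393), (13152, 13152), (13153, 11032), (13154, 11001), (13155, 13934), (13156, 15398), (13157, 11003), (13158, 15402), (13159, 11004), (13160, 15403), (13161, 11020), (13162, 11012), (13163, 11006), (13164, 11022), (13165, 13165), (13166, 11023), (13167, 11014), (13168, 11079), (13169, 11011), (13170, 15406), (13171, 15407), (13172, 14615), (13173, 15400), (13174, 11163), (13175,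 11018), (13176, 15405), (13177, 11097), (13178, 15409), (13179, 15411), (13180, 15423), (13181, 11179), (13182, 11110), (13183, 14305)]
    ⟨e3 q13120 L653161 q13932, e3 q13121 L656823 q14240, e3 q13122 (flp_d L657124) q14268, e3 q13123 (flp_d L657266) q14279, e3 q13124 (flp_d L664741) q15008, e3 q13125 (flp_d L668090) q15357, e3 q13126 L622130 q11038, e3 q13127 L382336 q10983, e3 q13128 L668201 q15369, e3 q13129 (flp_d L382360) q10982, e3 q13130 (flp_d L668234) q15371, e3 q13131 L612521 q11033, e3 q13132 L668250 q15373, e3 q13133 L668268 q15375, e3 q13134 (flp_d L382407) q10985, e3 q13135 (flp_d L668310) q15378, e3 q13136 L382429 q10995, e3 q13137 L382441 q10987, e3 q13138 L648644 q11616, e3 q13139 L382545 q13139, e3 q13140 (flp_d L660511) q14613, e3 q13141 (flp_d L382561) q10991, e3 q13142 (flp_d L668353) q15383, e3 q13143 (flp_d L660587) q14619, e3 q13144 (flp_d L668304) q15377, e3 q13145 L382613 q10994, e3 q13146 L660011 q14553, e3 q13147 (flp_d L668320) q15379, e3 q13148 L382636 q11056, e3 q13149 L668405 q15390, e3 q13150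 (flp_d L382669) q10999, e3 q13151 (flp_d L668427) q15393, e3 q13152 L382688 q13152, e3 q13153 L504831 q11032, e3 q13154 L382697 q11001, e3 q13155 (flp_d L653187) q13934, e3 q13156 L668455 q15398, e3 q13157 (flp_d L382717) q11003, e3 q13158 (flp_d L668485) q15402, e3 q13159 (flp_d L382731) q11004, e3 q13160 (flp_d L668491) q15403, e3 q13161 L382749 q11020, e3 q13162 L382755 q11012, e3 q13163 L382759 q11006, e3 q13164 L382765 q11022, e3 q13165 L382771 q13165, e3 q13166 L382776 q11023, e3 q13167 L382784 q11014, e3 q13168 L382790 q11079, e3 q13169 L382802 q11011, e3 q13170 (flp_d L668514) q15406, e3 q13171 (flp_d L668520) q15407, e3 q13172 (flp_d L660537) q14615, e3 q13173 (flp_d L668477) q15400, e3 q13174 L382922 q11163, e3 q13175 L382929 q11018, e3 q13176 (flp_d L668506) q15405, e3 q13177 L382970 q11097, e3 q13178 (flp_d L668534) q15409, e3 q13179 (flp_d L668547) q15411, e3 q13180 L668628 q15423, e3 q13181 L383055 q11179, e3 q13182 L383065 q11110, e3 q13183 (flp_d L657543) q14305, trivial⟩ (by decide +kernel)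

theorem ce_d_206 : ∀ r, r < 64 → sm gd (Qf (13184 + r)) = Qf (tab Gen.d (13184 + r)) :=
  edges_tab (sm gd) Qf (tab Gen.d) 13184 [(13184, 15426), (13185, 11031), (13186, 15396), (13187, 11195), (13188, 15428), (13189, 11035), (13190, 15431), (13191, 13191), (13192, 11037), (13193, 14386), (13194, 15436), (13195, 11039), (13196, 15440), (13197, 11040), (13198, 15441), (13199, 11052), (13200, 11042), (13201, 11054), (13202, 11055), (13203, 15380), (13204, 15447), (13205, 11047), (13206, 15449), (13207, 15438), (13208, 11217), (13209, 11049), (13210, 11051), (13211, 15442), (13212, 15386), (13213, 15444), (13214, 15445), (13215, 15457), (13216, 11065), (13217, 11059), (13218, 15460), (13219, 13219), (13220, 11061), (13221, 13221), (13222, 15005), (13223, 13223), (13224, 11619), (13225, 11620), (13226, 15397), (13227, 15471), (13228, 11066), (13229, 15475), (13230, 11090), (13231, 11246), (13232, 11068), (13233, 11093), (13234, 11070), (13235, 11095), (13236, 11446), (13237, 11096), (13238, 11081), (13239, 11082), (13240, 15408),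 (13241, 11098), (13242, 11452), (13243, 11099), (13244, 11454), (13245, 11455), (13246, 15502), (13247, 11083)]
    ⟨e3 q13184 L668647 q15426, e3 q13185 (flp_d L383126) q11031, e3 q13186 (flp_d L668445) q15396, e3 q13187 L383389 q11195, e3 q13188 L668659 q15428, e3 q13189 (flp_d L383418) q11035, e3 q13190 (flp_d L668687) q15431, e3 q13191 L383441 q13191, e3 q13192 L383454 q11037, e3 q13193 (flp_d L658431) q14386, e3 q13194 L668719 q15436, e3 q13195 (flp_d L383476) q11039, e3 q13196 (flp_d L668757) q15440, e3 q13197 (flp_d L383492) q11040, e3 q13198 (flp_d L668765) q15441, e3 q13199 L383514 q11052, e3 q13200 L383528 q11042, e3 q13201 L383534 q11054, e3 q13202 L383550 q11055, e3 q13203 (flp_d L668326) q15380, e3 q13204 L668803 q15447, e3 q13205 (flp_d L383701) q11047, e3 q13206 (flp_d L668825) q15449, e3 q13207 (flp_d L668745) q15438, e3 q13208 L383735 q11217, e3 q13209 L383744 q11049, e3 q13210 L383762 q11051, e3 q13211 (flp_d L668775) q15442, e3 q13212 (flp_d L668381) q15386, e3 q13213 (flp_d L668787) q15444, e3 q13214 (flp_d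 L668795) q15445, e3 q13215 L668896 q15457, e3 q13216 L383839 q11065, e3 q13217 (flp_d L383848) q11059, e3 q13218 (flp_d L668914) q15460, e3 q13219 L383878 q13219, e3 q13220 L383889 q11061, e3 q13221 L383895 q13221, e3 q13222 (flp_d L664714) q15005, e3 q13223 L383908 q13223, e3 q13224 L383911 q11619, e3 q13225 L383917 q11620, e3 q13226 (flp_d L668451) q15397, e3 q13227 L668979 q15471, e3 q13228 (flp_d L383933) q11066, e3 q13229 (flp_d L669007) q15475, e3 q13230 L383953 q11090, e3 q13231 L383957 q11246, e3 q13232 L383961 q11068, e3 q13233 L383969 q11093, e3 q13234 L383979 q11070, e3 q13235 L383985 q11095, e3 q13236 L383995 q11446, e3 q13237 L384001 q11096, e3 q13238 L384007 q11081, e3 q13239 L384011 q11082, e3 q13240 (flp_d L668530) q15408, e3 q13241 L384023 q11098, e3 q13242 L384029 q11452, e3 q13243 L384035 q11099, e3 q13244 L384041 q11454, e3 q13245 L384047 q11455, e3 q13246 L669177 q15502, e3 q13247 L384057 q11083, trivial⟩ (by decide +kernel)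

theorem ce_d_207 : ∀ r, r < 64 → sm gd (Qf (13248 + r)) = Qf (tab Gen.d (13248 + r)) :=
  edges_tab (sm gd) Qf (tab Gen.d) 13248 [(13248, 11084), (13249, 15029), (13250, 15491), (13251, 15492), (13252, 15503), (13253, 15504), (13254, 14592), (13255, 11087), (13256, 15510), (13257, 15473), (13258, 11276), (13259, 11089), (13260, 15476), (13261, 15518), (13262, 15478), (13263, 11281), (13264, 15419), (13265, 15482), (13266, 15483), (13267, 14620), (13268, 15485), (13269, 15487), (13270, 15526), (13271, 15495), (13272, 15528), (13273, 11100), (13274, 11102), (13275, 14454), (13276, 11329), (13277, 14467), (13278, 11295), (13279, 14617), (13280, 15084), (13281, 15538), (13282, 15085), (13283, 11107), (13284, 15541), (13285, 15530), (13286, 15293), (13287, 15086), (13288, 15087), (13289, 14480), (13290, 15088), (13291, 15546), (13292, 11116), (13293, 15548), (13294, 11118), (13295, 11498), (13296, 14730), (13297, 15553), (13298, 11123), (13299, 15556), (13300, 11124), (13301, 15557), (13302, 11126), (13303, 11212), (13304, 14922),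 (13305, 14923), (13306, 15560), (13307, 11141), (13308, 15563), (13309, 11135), (13310, 15566), (13311, 11136)]
    ⟨e3 q13248 L384061 q11084, e3 q13249 (flp_d L664980) q15029, e3 q13250 (flp_d L669111) q15491, e3 q13251 (flp_d L669117) q15492, e3 q13252 (flp_d L669183) q15503, e3 q13253 (flp_d L669187) q15504, e3 q13254 (flp_d L660305) q14592, e3 q13255 (flp_d L384187) q11087, e3 q13256 (flp_d L669236) q15510, e3 q13257 (flp_d L668997) q15473, e3 q13258 L384216 q11276, e3 q13259 L384224 q11089, e3 q13260 (flp_d L669015) q15476, e3 q13261 L669302 q15518, e3 q13262 (flp_d L669027) q15478, e3 q13263 L384254 q11281, e3 q13264 (flp_d L668602) q15419, e3 q13265 (flp_d L669049) q15482, e3 q13266 (flp_d L669057) q15483, e3 q13267 (flp_d L660603) q14620, e3 q13268 (flp_d L669067) q15485, e3 q13269 (flp_d L669083) q15487, e3 q13270 L669372 q15526, e3 q13271 (flp_d L669137) q15495, e3 q13272 L669386 q15528, e3 q13273 (flp_d L384338) q11100, e3 q13274 L384358 q11102, e3 q13275 L659051 q14454, e3 q13276 L645676 q11329, e3 q13277 (flp_d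 L659163) q14467, e3 q13278 L384391 q11295, e3 q13279 (flp_d L660570) q14617, e3 q13280 (flp_d L665520) q15084, e3 q13281 L669471 q15538, e3 q13282 (flp_d L665535) q15085, e3 q13283 (flp_d L384426) q11107, e3 q13284 (flp_d L669505) q15541, e3 q13285 (flp_d L669403) q15530, e3 q13286 (flp_d L667527) q15293, e3 q13287 (flp_d L665547) q15086, e3 q13288 (flp_d L665557) q15087, e3 q13289 (flp_d L659318) q14480, e3 q13290 (flp_d L665567) q15088, e3 q13291 L669555 q15546, e3 q13292 (flp_d L384502) q11116, e3 q13293 L669570 q15548, e3 q13294 (flp_d L384516) q11118, e3 q13295 L384525 q11498, e3 q13296 (flp_d L661849) q14730, e3 q13297 L669607 q15553, e3 q13298 (flp_d L384894) q11123, e3 q13299 (flp_d L669635) q15556, e3 q13300 (flp_d L384910) q11124, e3 q13301 (flp_d L669643) q15557, e3 q13302 L384950 q11126, e3 q13303 L384997 q11212, e3 q13304 (flp_d L663676) q14922, e3 q13305 (flp_d L663683) q14923, e3 q13306 L669666 q15560, e3 q13307 L385262 q11141, e3 q13308 L669687 q15563, e3 q13309 (flp_d L385275) q11135, e3 q13310 (flp_d L669711)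 q15566, e3 q13311 (flp_d L385289) q11136, trivial⟩ (by decide +kernel)

theorem ce_d_208 : ∀ r, r < 64 → sm gd (Qf (13312 + r)) = Qf (tab Gen.d (13312 + r)) :=
  edges_tab (sm gd) Qf (tab Gen.d) 13312 [(13312, 15568), (13313, 11192), (13314, 11138), (13315, 11193), (13316, 11241), (13317, 15573), (13318, 11142), (13319, 15577), (13320, 11162), (13321, 15401), (13322, 11144), (13323, 11165), (13324, 11155), (13325, 11146), (13326, 11167), (13327, 13327), (13328, 11168), (13329, 11157), (13330, 11158), (13331, 11256), (13332, 13332), (13333, 11170), (13334, 13334), (13335, 14758), (13336, 15179), (13337, 15587), (13338, 15588), (13339, 15595), (13340, 11159), (13341, 15603), (13342, 15575), (13343, 14614), (13344, 11161), (13345, 15578), (13346, 15611), (13347, 15580), (13348, 15418), (13349, 15584), (13350, 15586), (13351, 15222), (13352, 15591), (13353, 15223), (13354, 11172), (13355, 14188), (13356, 14190), (13357, 14616), (13358, 11296), (13359, 15132), (13360, 14902), (13361, 15133), (13362, 14900), (13363, 15534), (13364,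 15292), (13365, 15135), (13366, 15136), (13367, 11487), (13368, 15138), (13369, 15623), (13370, 11186), (13371, 14635), (13372, 11188), (13373, 13373), (13374, 15569), (13375, 15567)]
    ⟨e3 q13312 (flp_d L669730) q15568, e3 q13313 L547299 q11192, e3 q13314 L385325 q11138, e3 q13315 (flp_d L507957) q11193, e3 q13316 L385367 q11241, e3 q13317 L669770 q15573, e3 q13318 (flp_d L385378) q11142, e3 q13319 (flp_d L669798) q15577, e3 q13320 L385398 q11162, e3 q13321 (flp_d L668481) q15401, e3 q13322 L385404 q11144, e3 q13323 L385413 q11165, e3 q13324 L385420 q11155, e3 q13325 L385424 q11146, e3 q13326 L385431 q11167, e3 q13327 L385441 q13327, e3 q13328 L385446 q11168, e3 q13329 L385452 q11157, e3 q13330 L385456 q11158, e3 q13331 L385466 q11256, e3 q13332 L385478 q13332, e3 q13333 L385483 q11170, e3 q13334 L385496 q13334, e3 q13335 (flp_d L662139) q14758, e3 q13336 (flp_d L666515) q15179, e3 q13337 (flp_d L669866) q15587, e3 q13338 (flp_d L669874) q15588, e3 q13339 (flp_d L669929) q15595, e3 q13340 (flp_d L385627) q11159, e3 q13341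 (flp_d L669991) q15603, e3 q13342 (flp_d L669790) q15575, e3 q13343 (flp_d L660530) q14614, e3 q13344 L385666 q11161, e3 q13345 (flp_d L669806) q15578, e3 q13346 L670067 q15611, e3 q13347 (flp_d L669818) q15580, e3 q13348 (flp_d L668591) q15418, e3 q13349 (flp_d L669840) q15584, e3 q13350 (flp_d L669857) q15586, e3 q13351 (flp_d L666940) q15222, e3 q13352 (flp_d L669901) q15591, e3 q13353 (flp_d L666950) q15223, e3 q13354 L385810 q11172, e3 q13355 L656182 q14188, e3 q13356 (flp_d L656199) q14190, e3 q13357 (flp_d L660550) q14616, e3 q13358 L385857 q11296, e3 q13359 (flp_d L666048) q15132, e3 q13360 (flp_d L663457) q14902, e3 q13361 (flp_d L666060) q15133, e3 q13362 (flp_d L663428) q14900, e3 q13363 (flp_d L669438) q15534, e3 q13364 (flp_d L667511) q15292, e3 q13365 (flp_d L666074) q15135, e3 q13366 (flp_d L666085) q15136, e3 q13367 (flp_d L649289) q11487, e3 q13368 (flp_d L666106) q15138, e3 q13369 L670179 q15623, e3 q13370 (flp_d L385955) q11186, e3 q13371 (flp_d L660786) q14635, e3 q13372 (flp_d L385973) q11188, e3 q13373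 L385988 q13373, e3 q13374 (flp_d L669739) q15569, e3 q13375 (flp_d L669726) q15567, trivial⟩ (by decide +kernel)

theorem ce_d_209 : ∀ r, r < 64 → sm gd (Qf (13376 + r)) = Qf (tab Gen.d (13376 + r)) :=
  edges_tab (sm gd) Qf (tab Gen.d) 13376 [(13376, 15570), (13377, 11319), (13378, 15626), (13379, 11202), (13380, 15628), (13381, 11197), (13382, 15631), (13383, 11198), (13384, 15632), (13385, 11200), (13386, 14696), (13387, 15634), (13388, 11203), (13389, 15638), (13390, 11216), (13391, 15439), (13392, 11205), (13393, 11219), (13394, 11207), (13395, 11221), (13396, 11222), (13397, 15558), (13398, 11223), (13399, 11224), (13400, 14819), (13401, 11213), (13402, 15653), (13403, 15636), (13404, 13818), (13405, 11215), (13406, 15639), (13407, 15661), (13408, 15641), (13409, 15451), (13410, 15644), (13411, 15645), (13412, 15647), (13413, 15648), (13414, 15650), (13415, 11610), (13416, 15215), (13417, 11226), (13418, 15669), (13419, 15670), (13420, 11228), (13421, 15674), (13422, 11357), (13423, 15668), (13424, 11230), (13425, 11360),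 (13426, 11603), (13427, 11232), (13428, 11362), (13429, 13429), (13430, 11363), (13431, 11638), (13432, 11639), (13433, 15571), (13434, 11364), (13435, 13435), (13436, 11365), (13437, 13437), (13438, 13438), (13439, 14776)]
    ⟨e3 q13376 (flp_d L669747) q15570, e3 q13377 L648838 q11319, e3 q13378 L670212 q15626, e3 q13379 L386447 q11202, e3 q13380 L670228 q15628, e3 q13381 (flp_d L386460) q11197, e3 q13382 (flp_d L670258) q15631, e3 q13383 (flp_d L386476) q11198, e3 q13384 (flp_d L670266) q15632, e3 q13385 L386520 q11200, e3 q13386 (flp_d L661444) q14696, e3 q13387 L670279 q15634, e3 q13388 (flp_d L386584) q11203, e3 q13389 (flp_d L670315) q15638, e3 q13390 L386608 q11216, e3 q13391 (flp_d L668751) q15439, e3 q13392 L386618 q11205, e3 q13393 L386629 q11219, e3 q13394 L386644 q11207, e3 q13395 L386651 q11221, e3 q13396 L386671 q11222, e3 q13397 (flp_d L669654) q15558, e3 q13398 L386699 q11223, e3 q13399 L386715 q11224, e3 q13400 (flp_d L662735) q14819, e3 q13401 (flp_d L386907) q11213, e3 q13402 (flp_d L670432) q15653, e3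 q13403 (flp_d L670303) q15636, e3 q13404 (flp_d L651558) q13818, e3 q13405 L386951 q11215, e3 q13406 (flp_d L670323) q15639, e3 q13407 L670506 q15661, e3 q13408 (flp_d L670339) q15641, e3 q13409 (flp_d L668844) q15451, e3 q13410 (flp_d L670357) q15644, e3 q13411 (flp_d L670368) q15645, e3 q13412 (flp_d L670382) q15647, e3 q13413 (flp_d L670392) q15648, e3 q13414 (flp_d L670410) q15650, e3 q13415 L648622 q11610, e3 q13416 (flp_d L666871) q15215, e3 q13417 (flp_d L387108) q11226, e3 q13418 (flp_d L670579) q15669, e3 q13419 L670583 q15670, e3 q13420 (flp_d L387127) q11228, e3 q13421 (flp_d L670615) q15674, e3 q13422 L387149 q11357, e3 q13423 (flp_d L670575) q15668, e3 q13424 L387157 q11230, e3 q13425 L387168 q11360, e3 q13426 (flp_d L615004) q11603, e3 q13427 L387181 q11232, e3 q13428 L387188 q11362, e3 q13429 L387202 q13429, e3 q13430 L387207 q11363, e3 q13431 L387213 q11638, e3 q13432 L387219 q11639, e3 q13433 (flp_d L669757) q15571, e3 q13434 L387233 q11364, e3 q13435 L387245 q13435, e3 q13436 L387250 q11365, e3 q13437 L387257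 q13437, e3 q13438 L387265 q13438, e3 q13439 (flp_d L662312) q14776, trivial⟩ (by decide +kernel)

theorem ce_d_210 : ∀ r, r < 64 → sm gd (Qf (13440 + r)) = Qf (tab Gen.d (13440 + r)) :=
  edges_tab (sm gd) Qf (tab Gen.d) 13440 [(13440, 11640), (13441, 11641), (13442, 15160), (13443, 11242), (13444, 15706), (13445, 11275), (13446, 15474), (13447, 11244), (13448, 11278), (13449, 15716), (13450, 11280), (13451, 15479), (13452, 15480), (13453, 15583), (13454, 11283), (13455, 11534), (13456, 11284), (13457, 11266), (13458, 11267), (13459, 15589), (13460, 11286), (13461, 11540), (13462, 11287), (13463, 11542), (13464, 11543), (13465, 15740), (13466, 11268), (13467, 11269), (13468, 15175), (13469, 11548), (13470, 11289), (13471, 11550), (13472, 11551), (13473, 15749), (13474, 11553), (13475, 11554), (13476, 15753), (13477, 11262), (13478, 11270), (13479, 11271), (13480, 14097), (13481, 15729), (13482, 15730), (13483, 15741), (13484, 15742), (13485, 15755), (13486, 15704), (13487, 11274), (13488, 15707), (13489, 15762), (13490, 15709),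 (13491, 15513), (13492, 14927), (13493, 15713), (13494, 15766), (13495, 15715), (13496, 11279), (13497, 15768), (13498, 15769), (13499, 15291), (13500, 15723), (13501, 15725), (13502, 15771), (13503, 15733)]
    ⟨e3 q13440 L387278 q11640, e3 q13441 L387284 q11641, e3 q13442 (flp_d L666343) q15160, e3 q13443 (flp_d L387296) q11242, e3 q13444 (flp_d L670855) q15706, e3 q13445 L387314 q11275, e3 q13446 (flp_d L669003) q15474, e3 q13447 L387322 q11244, e3 q13448 L387330 q11278, e3 q13449 L670920 q15716, e3 q13450 L387342 q11280, e3 q13451 (flp_d L669033) q15479, e3 q13452 (flp_d L669039) q15480, e3 q13453 (flp_d L669836) q15583, e3 q13454 L387360 q11283, e3 q13455 L387372 q11534, e3 q13456 L387378 q11284, e3 q13457 L387385 q11266, e3 q13458 L387391 q11267, e3 q13459 (flp_d L669886) q15589, e3 q13460 L387405 q11286, e3 q13461 L387415 q11540, e3 q13462 L387421 q11287, e3 q13463 L387429 q11542, e3 q13464 L387435 q11543, e3 q13465 L671089 q15740, e3 q13466 L387449 q11268, e3 q13467 L387455 q11269, e3 q13468 (flp_d L666478) q15175,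 e3 q13469 L387470 q11548, e3 q13470 L387476 q11289, e3 q13471 L387483 q11550, e3 q13472 L387490 q11551, e3 q13473 L671149 q15749, e3 q13474 L387504 q11553, e3 q13475 L387510 q11554, e3 q13476 L671178 q15753, e3 q13477 (flp_d L387522) q11262, e3 q13478 L387529 q11270, e3 q13479 L387534 q11271, e3 q13480 (flp_d L655225) q14097, e3 q13481 (flp_d L671009) q15729, e3 q13482 (flp_d L671014) q15730, e3 q13483 (flp_d L671097) q15741, e3 q13484 (flp_d L671103) q15742, e3 q13485 (flp_d L671190) q15755, e3 q13486 (flp_d L670847) q15704, e3 q13487 L387692 q11274, e3 q13488 (flp_d L670862) q15707, e3 q13489 L671244 q15762, e3 q13490 (flp_d L670878) q15709, e3 q13491 (flp_d L669261) q15513, e3 q13492 (flp_d L663739) q14927, e3 q13493 (flp_d L670904) q15713, e3 q13494 L671288 q15766, e3 q13495 (flp_d L670916) q15715, e3 q13496 (flp_d L387771) q11279, e3 q13497 (flp_d L671304) q15768, e3 q13498 L671308 q15769, e3 q13499 (flp_d L667500) q15291, e3 q13500 (flp_d L670958) q15723, e3 q13501 (flp_d L670976) q15725, e3 q13502 L671327 q15771, e3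 q13503 (flp_d L671039) q15733, trivial⟩ (by decide +kernel)

theorem ce_d_211 : ∀ r, r < 64 → sm gd (Qf (13504 + r)) = Qf (tab Gen.d (13504 + r)) :=
  edges_tab (sm gd) Qf (tab Gen.d) 13504 [(13504, 15773), (13505, 11288), (13506, 14150), (13507, 11290), (13508, 11576), (13509, 15295), (13510, 15301), (13511, 13819), (13512, 11304), (13513, 13513), (13514, 14631), (13515, 11310), (13516, 15777), (13517, 14665), (13518, 14666), (13519, 14649), (13520, 13520), (13521, 14641), (13522, 14737), (13523, 11611), (13524, 15532), (13525, 13525), (13526, 11485), (13527, 14634), (13528, 11335), (13529, 11340), (13530, 15781), (13531, 14880), (13532, 14959), (13533, 14958), (13534, 14931), (13535, 14963), (13536, 14960), (13537, 11348), (13538, 14970), (13539, 11351), (13540, 15785), (13541, 15667), (13542, 11358), (13543, 11353), (13544, 11354), (13545, 15792), (13546, 15672), (13547, 15784), (13548, 11356), (13549, 15675), (13550, 15800), (13551, 15677), (13552, 15789), (13553, 15681), (13554, 15683), (13555, 15686), (13556, 15688),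 (13557, 15695), (13558, 11373), (13559, 11374), (13560, 14932), (13561, 11377), (13562, 14930), (13563, 11370), (13564, 11380), (13565, 15767), (13566, 11379), (13567, 11381)]
    ⟨e3 q13504 L671350 q15773, e3 q13505 (flp_d L387856) q11288, e3 q13506 (flp_d L655802) q14150, e3 q13507 (flp_d L387873) q11290, e3 q13508 L387885 q11576, e3 q13509 (flp_d L667544) q15295, e3 q13510 (flp_d L667604) q15301, e3 q13511 (flp_d L651572) q13819, e3 q13512 (flp_d L388118) q11304, e3 q13513 L389176 q13513, e3 q13514 (flp_d L660738) q14631, e3 q13515 (flp_d L389190) q11310, e3 q13516 (flp_d L671393) q15777, e3 q13517 (flp_d L661120) q14665, e3 q13518 (flp_d L661127) q14666, e3 q13519 (flp_d L660950) q14649, e3 q13520 L389725 q13520, e3 q13521 (flp_d L660855) q14641, e3 q13522 (flp_d L661923) q14737, e3 q13523 L648620 q11611, e3 q13524 (flp_d L669421) q15532, e3 q13525 L390070 q13525, e3 q13526 (flp_d L649287) q11485, e3 q13527 (flp_d L660772) q14634, e3 q13528 (flp_d L390100) q11335, e3 q13529 (flp_d L390463) q11340, e3 q13530 (flp_d L671427)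 q15781, e3 q13531 (flp_d L663203) q14880, e3 q13532 (flp_d L664160) q14959, e3 q13533 (flp_d L664146) q14958, e3 q13534 (flp_d L663794) q14931, e3 q13535 (flp_d L664217) q14963, e3 q13536 (flp_d L664173) q14960, e3 q13537 (flp_d L390849) q11348, e3 q13538 (flp_d L664302) q14970, e3 q13539 (flp_d L390976) q11351, e3 q13540 (flp_d L671457) q15785, e3 q13541 (flp_d L670571) q15667, e3 q13542 L391002 q11358, e3 q13543 L391008 q11353, e3 q13544 (flp_d L391012) q11354, e3 q13545 (flp_d L671505) q15792, e3 q13546 (flp_d L670605) q15672, e3 q13547 (flp_d L671451) q15784, e3 q13548 L391045 q11356, e3 q13549 (flp_d L670623) q15675, e3 q13550 L671566 q15800, e3 q13551 (flp_d L670639) q15677, e3 q13552 (flp_d L671484) q15789, e3 q13553 (flp_d L670661) q15681, e3 q13554 (flp_d L670682) q15683, e3 q13555 (flp_d L670707) q15686, e3 q13556 (flp_d L670726) q15688, e3 q13557 (flp_d L670780) q15695, e3 q13558 L391161 q11373, e3 q13559 L391179 q11374, e3 q13560 (flp_d L663817) q14932, e3 q13561 L391222 q11377, e3 q13562 (flp_d L663788) q14930,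 e3 q13563 (flp_d L391241) q11370, e3 q13564 L391269 q11380, e3 q13565 (flp_d L671300) q15767, e3 q13566 (flp_d L391505) q11379, e3 q13567 (flp_d L391538) q11381, trivial⟩ (by decide +kernel)

theorem ce_d_212 : ∀ r, r < 64 → sm gd (Qf (13568 + r)) = Qf (tab Gen.d (13568 + r)) :=
  edges_tab (sm gd) Qf (tab Gen.d) 13568 [(13568, 14141), (13569, 11383), (13570, 11588), (13571, 13571), (13572, 15810), (13573, 15345), (13574, 11411), (13575, 15347), (13576, 15348), (13577, 11402), (13578, 14989), (13579, 13846), (13580, 13580), (13581, 13581), (13582, 13582), (13583, 13873), (13584, 14340), (13585, 14285), (13586, 15816), (13587, 11412), (13588, 13588), (13589, 13589), (13590, 13590), (13591, 13591), (13592, 14202), (13593, 15821), (13594, 15822), (13595, 13595), (13596, 15824), (13597, 13597), (13598, 15826), (13599, 11426), (13600, 15828), (13601, 11428), (13602, 15363), (13603, 15831), (13604, 11514), (13605, 13605), (13606, 13606), (13607, 15833), (13608, 14298), (13609, 15835), (13610, 11439), (13611, 14250), (13612, 13612),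 (13613, 11441), (13614, 13857), (13615, 13851), (13616, 11673), (13617, 15486), (13618, 11476), (13619, 15488), (13620, 15489), (13621, 11462), (13622, 11463), (13623, 15037), (13624, 15494), (13625, 11478), (13626, 15496), (13627, 15497), (13628, 15848), (13629, 15499), (13630, 15500), (13631, 15851)]
    ⟨e3 q13568 (flp_d L655708) q14141, e3 q13569 (flp_d L391553) q11383, e3 q13570 L391563 q11588, e3 q13571 L649414 q13571, e3 q13572 L671630 q15810, e3 q13573 (flp_d L667991) q15345, e3 q13574 L649438 q11411, e3 q13575 (flp_d L668005) q15347, e3 q13576 (flp_d L668013) q15348, e3 q13577 L649461 q11402, e3 q13578 (flp_d L664527) q14989, e3 q13579 (flp_d L651913) q13846, e3 q13580 L649494 q13580, e3 q13581 L649505 q13581, e3 q13582 L649515 q13582, e3 q13583 (flp_d L652348) q13873, e3 q13584 (flp_d L657880) q14340, e3 q13585 (flp_d L657334) q14285, e3 q13586 L671684 q15816, e3 q13587 (flp_d L649551) q11412, e3 q13588 L649563 q13588, e3 q13589 L649571 q13589, e3 q13590 L649583 q13590, e3 q13591 L649589 q13591, e3 q13592 (flp_d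 L656316) q14202, e3 q13593 L671726 q15821, e3 q13594 L671736 q15822, e3 q13595 L649621 q13595, e3 q13596 L671757 q15824, e3 q13597 L649641 q13597, e3 q13598 L671775 q15826, e3 q13599 (flp_d L649651) q11426, e3 q13600 L671792 q15828, e3 q13601 (flp_d L649668) q11428, e3 q13602 L668148 q15363, e3 q13603 L671818 q15831, e3 q13604 L649697 q11514, e3 q13605 L649710 q13605, e3 q13606 L649719 q13606, e3 q13607 L671835 q15833, e3 q13608 (flp_d L657465) q14298, e3 q13609 L671852 q15835, e3 q13610 (flp_d L649745) q11439, e3 q13611 (flp_d L656939) q14250, e3 q13612 L649764 q13612, e3 q13613 (flp_d L649770) q11441, e3 q13614 (flp_d L652108) q13857, e3 q13615 (flp_d L652009) q13851, e3 q13616 L649795 q11673, e3 q13617 (flp_d L669077) q15486, e3 q13618 L649812 q11476, e3 q13619 (flp_d L669091) q15488, e3 q13620 (flp_d L669097) q15489, e3 q13621 L649831 q11462, e3 q13622 L649838 q11463, e3 q13623 (flp_d L665090) q15037, e3 q13624 (flp_d L669131) q15494, e3 q13625 L649863 q11478, e3 q13626 (flp_d L669143) q15496, e3 q13627 (flp_d L669149)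 q15497, e3 q13628 L671944 q15848, e3 q13629 (flp_d L669161) q15499, e3 q13630 (flp_d L669167) q15500, e3 q13631 L671965 q15851, trivial⟩ (by decide +kernel)

theorem ce_d_213 : ∀ r, r < 64 → sm gd (Qf (13632 + r)) = Qf (tab Gen.d (13632 + r)) :=
  edges_tab (sm gd) Qf (tab Gen.d) 13632 [(13632, 11456), (13633, 11464), (13634, 11465), (13635, 13960), (13636, 13959), (13637, 15032), (13638, 15841), (13639, 13639), (13640, 15853), (13641, 14069), (13642, 11468), (13643, 15857), (13644, 14872), (13645, 15302), (13646, 13939), (13647, 14593), (13648, 14497), (13649, 15861), (13650, 11477), (13651, 15863), (13652, 11479), (13653, 15529), (13654, 13654), (13655, 15868), (13656, 15779), (13657, 13657), (13658, 15621), (13659, 15872), (13660, 15137), (13661, 11488), (13662, 13662), (13663, 15875), (13664, 11492), (13665, 15877), (13666, 11494), (13667, 15547), (13668, 11496), (13669, 15864), (13670, 15550), (13671, 15551), (13672, 11511), (13673, 11513), (13674, 13674), (13675, 11516), (13676, 11517), (13677, 13677), (13678, 11519),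 (13679, 11520), (13680, 15894), (13681, 11522), (13682, 15896), (13683, 11508), (13684, 13828), (13685, 13829), (13686, 15886), (13687, 15900), (13688, 15887), (13689, 11512), (13690, 15904), (13691, 15905), (13692, 15889), (13693, 15890), (13694, 15906), (13695, 15892)]
    ⟨e3 q13632 (flp_d L649903) q11456, e3 q13633 L649912 q11464, e3 q13634 L649918 q11465, e3 q13635 (flp_d L653562) q13960, e3 q13636 (flp_d L653535) q13959, e3 q13637 (flp_d L665023) q15032, e3 q13638 (flp_d L671893) q15841, e3 q13639 L649964 q13639, e3 q13640 L671972 q15853, e3 q13641 (flp_d L654889) q14069, e3 q13642 (flp_d L649983) q11468, e3 q13643 (flp_d L672006) q15857, e3 q13644 (flp_d L663122) q14872, e3 q13645 (flp_d L667618) q15302, e3 q13646 (flp_d L653255) q13939, e3 q13647 (flp_d L660324) q14593, e3 q13648 (flp_d L659495) q14497, e3 q13649 L672035 q15861, e3 q13650 (flp_d L650043) q11477, e3 q13651 L672048 q15863, e3 q13652 (flp_d L650057) q11479, e3 q13653 (flp_d L669394) q15529, e3 q13654 L650071 q13654, e3 q13655 L672080 q15868, e3 q13656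 L671414 q15779, e3 q13657 L650098 q13657, e3 q13658 L670167 q15621, e3 q13659 L672115 q15872, e3 q13660 (flp_d L666098) q15137, e3 q13661 (flp_d L650126) q11488, e3 q13662 L650140 q13662, e3 q13663 L672139 q15875, e3 q13664 (flp_d L650150) q11492, e3 q13665 L672155 q15877, e3 q13666 (flp_d L650166) q11494, e3 q13667 (flp_d L669568) q15547, e3 q13668 (flp_d L650182) q11496, e3 q13669 (flp_d L672059) q15864, e3 q13670 (flp_d L669584) q15550, e3 q13671 (flp_d L669589) q15551, e3 q13672 L650211 q11511, e3 q13673 L650223 q11513, e3 q13674 L650235 q13674, e3 q13675 L650239 q11516, e3 q13676 L650251 q11517, e3 q13677 L650263 q13677, e3 q13678 L650267 q11519, e3 q13679 L650278 q11520, e3 q13680 L672300 q15894, e3 q13681 L650297 q11522, e3 q13682 L672319 q15896, e3 q13683 (flp_d L650308) q11508, e3 q13684 (flp_d L651668) q13828, e3 q13685 (flp_d L651689) q13829, e3 q13686 (flp_d L672223) q15886, e3 q13687 L672366 q15900, e3 q13688 (flp_d L672237) q15887, e3 q13689 (flp_d L650373) q11512, e3 q13690 (flp_d L672404) q15904, e3 q13691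 L672407 q15905, e3 q13692 (flp_d L672254) q15889, e3 q13693 (flp_d L672268) q15890, e3 q13694 L672419 q15906, e3 q13695 (flp_d L672289) q15892, trivial⟩ (by decide +kernel)

theorem ce_d_214 : ∀ r, r < 64 → sm gd (Qf (13696 + r)) = Qf (tab Gen.d (13696 + r)) :=
  edges_tab (sm gd) Qf (tab Gen.d) 13696 [(13696, 15907), (13697, 11521), (13698, 13831), (13699, 11523), (13700, 14818), (13701, 11565), (13702, 13702), (13703, 11566), (13704, 15808), (13705, 11567), (13706, 11528), (13707, 15914), (13708, 15916), (13709, 15920), (13710, 14107), (13711, 14108), (13712, 15923), (13713, 11571), (13714, 15724), (13715, 11570), (13716, 15726), (13717, 15727), (13718, 15913), (13719, 11561), (13720, 15195), (13721, 15732), (13722, 11572), (13723, 15734), (13724, 15735), (13725, 15909), (13726, 15737), (13727, 15738), (13728, 15939), (13729, 11544), (13730, 11562), (13731, 11563), (13732, 15192), (13733, 15218), (13734, 15744), (13735, 13832), (13736, 15746), (13737, 15747), (13738, 15949), (13739, 11552), (13740, 15750), (13741, 15751),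 (13742, 15952), (13743, 11555), (13744, 15953), (13745, 11564), (13746, 14112), (13747, 15186), (13748, 15191), (13749, 15941), (13750, 11587), (13751, 11569), (13752, 15774), (13753, 15903), (13754, 11582), (13755, 14811), (13756, 15955), (13757, 15809), (13758, 14319), (13759, 11634)]
    ⟨e3 q13696 L672431 q15907, e3 q13697 (flp_d L650451) q11521, e3 q13698 (flp_d L651723) q13831, e3 q13699 (flp_d L650471) q11523, e3 q13700 (flp_d L662721) q14818, e3 q13701 L650493 q11565, e3 q13702 L650508 q13702, e3 q13703 L650513 q11566, e3 q13704 (flp_d L671624) q15808, e3 q13705 L650535 q11567, e3 q13706 (flp_d L650542) q11528, e3 q13707 (flp_d L672507) q15914, e3 q13708 (flp_d L672517) q15916, e3 q13709 L672546 q15920, e3 q13710 L655343 q14107, e3 q13711 (flp_d L655350) q14108, e3 q13712 L672575 q15923, e3 q13713 L650593 q11571, e3 q13714 (flp_d L670970) q15724, e3 q13715 L650615 q11570, e3 q13716 (flp_d L670985) q15726, e3 q13717 (flp_d L670993) q15727, e3 q13718 (flp_d L672502) q15913, e3 q13719 L650649 q11561, e3 q13720 (flp_d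 L666686) q15195, e3 q13721 (flp_d L671033) q15732, e3 q13722 L650677 q11572, e3 q13723 (flp_d L671047) q15734, e3 q13724 (flp_d L671053) q15735, e3 q13725 (flp_d L672460) q15909, e3 q13726 (flp_d L671069) q15737, e3 q13727 (flp_d L671077) q15738, e3 q13728 L672710 q15939, e3 q13729 (flp_d L650726) q11544, e3 q13730 L650737 q11562, e3 q13731 L650745 q11563, e3 q13732 (flp_d L666656) q15192, e3 q13733 (flp_d L666910) q15218, e3 q13734 (flp_d L671117) q15744, e3 q13735 (flp_d L651739) q13832, e3 q13736 (flp_d L671131) q15746, e3 q13737 (flp_d L671137) q15747, e3 q13738 L672797 q15949, e3 q13739 (flp_d L650806) q11552, e3 q13740 (flp_d L671160) q15750, e3 q13741 (flp_d L671167) q15751, e3 q13742 L672819 q15952, e3 q13743 (flp_d L650838) q11555, e3 q13744 (flp_d L672829) q15953, e3 q13745 L650852 q11564, e3 q13746 (flp_d L655415) q14112, e3 q13747 (flp_d L666597) q15186, e3 q13748 (flp_d L666642) q15191, e3 q13749 (flp_d L672726) q15941, e3 q13750 L650889 q11587, e3 q13751 L650893 q11569, e3 q13752 (flp_d L671366) q15774, e3 q13753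 (flp_d L672398) q15903, e3 q13754 (flp_d L650910) q11582, e3 q13755 (flp_d L662661) q14811, e3 q13756 (flp_d L672841) q15955, e3 q13757 (flp_d L671628) q15809, e3 q13758 (flp_d L657680) q14319, e3 q13759 L650948 q11634, trivial⟩ (by decide +kernel)

theorem ce_d_215 : ∀ r, r < 64 → sm gd (Qf (13760 + r)) = Qf (tab Gen.d (13760 + r)) :=
  edges_tab (sm gd) Qf (tab Gen.d) 13760 [(13760, 11635), (13761, 11626), (13762, 11601), (13763, 15684), (13764, 15216), (13765, 14797), (13766, 15469), (13767, 11623), (13768, 13968), (13769, 11629), (13770, 11628), (13771, 11627), (13772, 15960), (13773, 11655), (13774, 11633), (13775, 15962), (13776, 11665), (13777, 11637), (13778, 15692), (13779, 15693), (13780, 15701), (13781, 15702), (13782, 11645), (13783, 14114), (13784, 11646), (13785, 15969), (13786, 14632), (13787, 11651), (13788, 15961), (13789, 11661), (13790, 15213), (13791, 11664), (13792, 15963), (13793, 15964), (13794, 15970), (13795, 13958), (13796, 11676), (13797, 13853), (13798, 13798), (13799, 13799), (13800, 13800), (13801,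 13801), (13802, 13802), (13803, 13803), (13804, 13078), (13805, 13081), (13806, 13806), (13807, 13807), (13808, 13808), (13809, 15989), (13810, 13810), (13811, 13811), (13812, 13812), (13813, 13813), (13814, 13814), (13815, 13815), (13816, 15995), (13817, 13817), (13818, 13404), (13819, 13511), (13820, 13820), (13821, 12727), (13822, 12645), (13823, 13044)]
    ⟨e3 q13760 L650964 q11635, e3 q13761 L650981 q11626, e3 q13762 L650999 q11601, e3 q13763 (flp_d L670691) q15684, e3 q13764 (flp_d L666881) q15216, e3 q13765 (flp_d L662535) q14797, e3 q13766 (flp_d L668969) q15469, e3 q13767 L651045 q11623, e3 q13768 (flp_d L653657) q13968, e3 q13769 L651064 q11629, e3 q13770 L651081 q11628, e3 q13771 (flp_d L651090) q11627, e3 q13772 (flp_d L672867) q15960, e3 q13773 L651110 q11655, e3 q13774 (flp_d L651120) q11633, e3 q13775 (flp_d L672881) q15962, e3 q13776 L651137 q11665, e3 q13777 L651141 q11637, e3 q13778 (flp_d L670756) q15692, e3 q13779 (flp_d L670764) q15693, e3 q13780 (flp_d L670824) q15701, e3 q13781 (flp_d L670831) q15702,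 e3 q13782 L651172 q11645, e3 q13783 (flp_d L655437) q14114, e3 q13784 (flp_d L651183) q11646, e3 q13785 (flp_d L672924) q15969, e3 q13786 (flp_d L660748) q14632, e3 q13787 L651210 q11651, e3 q13788 (flp_d L672875) q15961, e3 q13789 L651224 q11661, e3 q13790 L666858 q15213, e3 q13791 L651237 q11664, e3 q13792 (flp_d L672886) q15963, e3 q13793 (flp_d L672893) q15964, e3 q13794 (flp_d L672931) q15970, e3 q13795 (flp_d L653518) q13958, e3 q13796 L651271 q11676, e3 q13797 (flp_d L652036) q13853, e3 q13798 L651292 q13798, e3 q13799 L651305 q13799, e3 q13800 L651323 q13800, e3 q13801 L651333 q13801, e3 q13802 L651347 q13802, e3 q13803 L651368 q13803, e3 q13804 L651377 q13078, e3 q13805 L651391 q13081, e3 q13806 L651412 q13806, e3 q13807 L651419 q13807, e3 q13808 L651428 q13808, e3 q13809 L673160 q15989, e3 q13810 L651448 q13810, e3 q13811 L651463 q13811, e3 q13812 L651481 q13812, e3 q13813 L651498 q13813, e3 q13814 L651508 q13814, e3 q13815 L651520 q13815, e3 q13816 L673246 q15995, e3 q13817 L651549 q13817, e3 q13818 L651558 q13404,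 e3 q13819 L651572 q13511, e3 q13820 L651593 q13820, e3 q13821 L651602 q12727, e3 q13822 L651614 q12645, e3 q13823 L651631 q13044, trivial⟩ (by decide +kernel)

theorem ce_d_216 : ∀ r, r < 64 → sm gd (Qf (13824 + r)) = Qf (tab Gen.d (13824 + r)) :=
  edges_tab (sm gd) Qf (tab Gen.d) 13824 [(13824, 13824), (13825, 13825), (13826, 16004), (13827, 11703), (13828, 13684), (13829, 13685), (13830, 13830), (13831, 13698), (13832, 13735), (13833, 13833), (13834, 13834), (13835, 13835), (13836, 13836), (13837, 13837), (13838, 13838), (13839, 13839), (13840, 13840), (13841, 16017), (13842, 13842), (13843, 16019), (13844, 11718), (13845, 11724), (13846, 13579), (13847, 12804), (13848, 11800), (13849, 11866), (13850, 11727), (13851, 13615), (13852, 11736), (13853, 13797), (13854, 11740), (13855, 16021), (13856, 11764), (13857, 13614), (13858, 16024), (13859, 11741), (13860, 16028), (13861, 16029), (13862, 11743), (13863, 16031), (13864, 16027), (13865, 11745), (13866, 11783), (13867, 12738), (13868, 12768), (13869, 16026), (13870, 11751),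 (13871, 12078), (13872, 16035), (13873, 13583), (13874, 11762), (13875, 11765), (13876, 16038), (13877, 12059), (13878, 12060), (13879, 12156), (13880, 11774), (13881, 16043), (13882, 11772), (13883, 16046), (13884, 11775), (13885, 16047), (13886, 11785), (13887, 11779)]
    ⟨e3 q13824 L651639 q13824, e3 q13825 L651647 q13825, e3 q13826 L673363 q16004, e3 q13827 (flp_d L651659) q11703, e3 q13828 L651668 q13684, e3 q13829 L651689 q13685, e3 q13830 L651713 q13830, e3 q13831 L651723 q13698, e3 q13832 L651739 q13735, e3 q13833 L651744 q13833, e3 q13834 L651760 q13834, e3 q13835 L651780 q13835, e3 q13836 L651784 q13836, e3 q13837 L651800 q13837, e3 q13838 L651820 q13838, e3 q13839 L651826 q13839, e3 q13840 L651837 q13840, e3 q13841 L673536 q16017, e3 q13842 L651859 q13842, e3 q13843 L673560 q16019, e3 q13844 (flp_d L651873) q11718, e3 q13845 L651888 q11724, e3 q13846 L651913 q13579, e3 q13847 L651924 q12804, e3 q13848 L651943 q11800, e3 q13849 (flp_d L651971) q11866, e3 q13850 (flp_d L651973) q11727, e3 q13851 L652009 q13615,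 e3 q13852 L652018 q11736, e3 q13853 L652036 q13797, e3 q13854 L652055 q11740, e3 q13855 L673581 q16021, e3 q13856 L652089 q11764, e3 q13857 L652108 q13614, e3 q13858 L673634 q16024, e3 q13859 (flp_d L652132) q11741, e3 q13860 (flp_d L673702) q16028, e3 q13861 L673708 q16029, e3 q13862 (flp_d L652173) q11743, e3 q13863 (flp_d L673746) q16031, e3 q13864 (flp_d L673692) q16027, e3 q13865 L652218 q11745, e3 q13866 L652236 q11783, e3 q13867 L652253 q12738, e3 q13868 L652263 q12768, e3 q13869 (flp_d L673680) q16026, e3 q13870 L652296 q11751, e3 q13871 L652314 q12078, e3 q13872 L673801 q16035, e3 q13873 L652348 q13583, e3 q13874 L652366 q11762, e3 q13875 (flp_d L652375) q11765, e3 q13876 (flp_d L673860) q16038, e3 q13877 L652415 q12059, e3 q13878 L652430 q12060, e3 q13879 L652448 q12156, e3 q13880 L652459 q11774, e3 q13881 L673937 q16043, e3 q13882 (flp_d L652481) q11772, e3 q13883 (flp_d L673997) q16046, e3 q13884 (flp_d L652508) q11775, e3 q13885 (flp_d L674011) q16047, e3 q13886 L652548 q11785, e3 q13887 L652566 q11779, trivial⟩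 (by decide +kernel)

theorem ce_d_217 : ∀ r, r < 64 → sm gd (Qf (13888 + r)) = Qf (tab Gen.d (13888 + r)) :=
  edges_tab (sm gd) Qf (tab Gen.d) 13888 [(13888, 11777), (13889, 16049), (13890, 16050), (13891, 16033), (13892, 12766), (13893, 12767), (13894, 16037), (13895, 16048), (13896, 11789), (13897, 11790), (13898, 16060), (13899, 11788), (13900, 16064), (13901, 16058), (13902, 16067), (13903, 16069), (13904, 11791), (13905, 16073), (13906, 11805), (13907, 11797), (13908, 11793), (13909, 11794), (13910, 16080), (13911, 16072), (13912, 11796), (13913, 16077), (13914, 11862), (13915, 12734), (13916, 12838), (13917, 11801), (13918, 16087), (13919, 11802), (13920, 12848), (13921, 16071), (13922, 11804), (13923, 16074), (13924, 16076), (13925, 11875), (13926, 12851), (13927, 11811), (13928, 12273), (13929, 12274), (13930, 12276), (13931, 12277), (13932, 13120), (13933, 11820), (13934, 13155), (13935, 16097), (13936, 16100), (13937, 11821), (13938, 16103), (13939, 13646), (13940, 16102), (13941, 11825), (13942, 13942), (13943,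 11865), (13944, 11829), (13945, 11830), (13946, 16065), (13947, 16107), (13948, 11831), (13949, 16109), (13950, 11835), (13951, 11833)]
    ⟨e3 q13888 L652572 q11777, e3 q13889 (flp_d L674045) q16049, e3 q13890 (flp_d L674061) q16050, e3 q13891 (flp_d L673781) q16033, e3 q13892 L652624 q12766, e3 q13893 L652632 q12767, e3 q13894 (flp_d L673851) q16037, e3 q13895 (flp_d L674027) q16048, e3 q13896 L652674 q11789, e3 q13897 L652690 q11790, e3 q13898 L674201 q16060, e3 q13899 (flp_d L652712) q11788, e3 q13900 (flp_d L674265) q16064, e3 q13901 (flp_d L674173) q16058, e3 q13902 L674305 q16067, e3 q13903 L674331 q16069, e3 q13904 (flp_d L652775) q11791, e3 q13905 (flp_d L674389) q16073, e3 q13906 L652803 q11805, e3 q13907 L652811 q11797, e3 q13908 L652821 q11793, e3 q13909 (flp_d L652825) q11794, e3 q13910 (flp_d L674463) q16080, e3 q13911 (flp_d L674381) q16072, e3 q13912 L652870 q11796, e3 q13913 (flp_d L674428) q16077, e3 q13914 L652896 q11862, e3 q13915 L652905 q12734, e3 q13916 L652931 q12838, e3 q13917 (flp_d L652933) q11801,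 e3 q13918 (flp_d L674564) q16087, e3 q13919 (flp_d L652963) q11802, e3 q13920 L652988 q12848, e3 q13921 (flp_d L674371) q16071, e3 q13922 L653015 q11804, e3 q13923 (flp_d L674395) q16074, e3 q13924 (flp_d L674418) q16076, e3 q13925 L653057 q11875, e3 q13926 L653066 q12851, e3 q13927 L653083 q11811, e3 q13928 L653097 q12273, e3 q13929 L653113 q12274, e3 q13930 L653126 q12276, e3 q13931 L653140 q12277, e3 q13932 (flp_d L653161) q13120, e3 q13933 L653171 q11820, e3 q13934 L653187 q13155, e3 q13935 (flp_d L674707) q16097, e3 q13936 L674752 q16100, e3 q13937 (flp_d L653223) q11821, e3 q13938 (flp_d L674809) q16103, e3 q13939 L653255 q13646, e3 q13940 (flp_d L674797) q16102, e3 q13941 L653288 q11825, e3 q13942 L653304 q13942, e3 q13943 L653323 q11865, e3 q13944 L653334 q11829, e3 q13945 L653350 q11830, e3 q13946 (flp_d L674277) q16065, e3 q13947 L674863 q16107, e3 q13948 (flp_d L653387) q11831, e3 q13949 (flp_d L674899) q16109, e3 q13950 L653427 q11835, e3 q13951 L653435 q11833, trivial⟩ (by decide +kernel)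

theorem ce_d_218 : ∀ r, r < 64 → sm gd (Qf (13952 + r)) = Qf (tab Gen.d (13952 + r)) :=
  edges_tab (sm gd) Qf (tab Gen.d) 13952 [(13952, 16110), (13953, 16111), (13954, 12353), (13955, 12208), (13956, 12209), (13957, 12253), (13958, 13795), (13959, 13636), (13960, 13635), (13961, 11849), (13962, 16120), (13963, 16122), (13964, 11846), (13965, 16125), (13966, 13966), (13967, 11848), (13968, 13768), (13969, 16129), (13970, 11850), (13971, 16133), (13972, 11851), (13973, 16134), (13974, 11871), (13975, 11858), (13976, 11853), (13977, 11873), (13978, 13071), (13979, 11874), (13980, 11860), (13981, 11861), (13982, 16078), (13983, 16136), (13984, 16137), (13985, 16083), (13986, 16143), (13987, 16144), (13988, 16152), (13989, 12836), (13990, 12837), (13991, 16105), (13992, 12787), (13993, 16131), (13994, 11869), (13995, 16135), (13996, 16139), (13997, 12380), (13998, 12927), (13999, 11885), (14000, 16160), (14001, 16162), (14002, 11882), (14003, 16166), (14004, 14004), (14005, 14005), (14006, 11884), (14007, 16158), (14008, 16171),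 (14009, 11886), (14010, 16175), (14011, 11887), (14012, 16178), (14013, 11905), (14014, 11895), (14015, 11889)]
    ⟨e3 q13952 (flp_d L674915) q16110, e3 q13953 (flp_d L674929) q16111, e3 q13954 L653476 q12353, e3 q13955 L653485 q12208, e3 q13956 L653496 q12209, e3 q13957 L653510 q12253, e3 q13958 L653518 q13795, e3 q13959 L653535 q13636, e3 q13960 L653562 q13635, e3 q13961 L653572 q11849, e3 q13962 L675055 q16120, e3 q13963 L675083 q16122, e3 q13964 (flp_d L653605) q11846, e3 q13965 (flp_d L675137) q16125, e3 q13966 L653638 q13966, e3 q13967 L653647 q11848, e3 q13968 L653657 q13768, e3 q13969 L675179 q16129, e3 q13970 (flp_d L653679) q11850, e3 q13971 (flp_d L675233) q16133, e3 q13972 (flp_d L653699) q11851, e3 q13973 (flp_d L675247) q16134, e3 q13974 L653737 q11871, e3 q13975 L653755 q11858, e3 q13976 L653761 q11853, e3 q13977 L653767 q11873, e3 q13978 L653797 q13071, e3 q13979 L653805 q11874, e3 q13980 L653813 q11860, e3 q13981 L653821 q11861, e3 q13982 (flp_d L674442) q16078, e3 q13983 (flp_d L675279) q16136, e3 q13984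 (flp_d L675291) q16137, e3 q13985 (flp_d L674509) q16083, e3 q13986 (flp_d L675371) q16143, e3 q13987 (flp_d L675379) q16144, e3 q13988 L675467 q16152, e3 q13989 L653899 q12836, e3 q13990 L653908 q12837, e3 q13991 (flp_d L674843) q16105, e3 q13992 L653927 q12787, e3 q13993 (flp_d L675217) q16131, e3 q13994 L653957 q11869, e3 q13995 (flp_d L675263) q16135, e3 q13996 (flp_d L675313) q16139, e3 q13997 L654010 q12380, e3 q13998 L654033 q12927, e3 q13999 L654043 q11885, e3 q14000 L675572 q16160, e3 q14001 L675597 q16162, e3 q14002 (flp_d L654071) q11882, e3 q14003 (flp_d L675653) q16166, e3 q14004 L654104 q14004, e3 q14005 L654118 q14005, e3 q14006 L654127 q11884, e3 q14007 (flp_d L675552) q16158, e3 q14008 L675713 q16171, e3 q14009 (flp_d L654157) q11886, e3 q14010 (flp_d L675761) q16175, e3 q14011 (flp_d L654181) q11887, e3 q14012 (flp_d L675795) q16178, e3 q14013 L654211 q11905, e3 q14014 L654221 q11895, e3 q14015 L654229 q11889, trivial⟩ (by decide +kernel)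

theorem ce_d_219 : ∀ r, r < 64 → sm gd (Qf (14016 + r)) = Qf (tab Gen.d (14016 + r)) :=
  edges_tab (sm gd) Qf (tab Gen.d) 14016 [(14016, 11907), (14017, 14017), (14018, 11908), (14019, 11897), (14020, 11993), (14021, 16177), (14022, 11894), (14023, 16182), (14024, 16183), (14025, 11998), (14026, 16194), (14027, 13009), (14028, 11900), (14029, 16197), (14030, 16173), (14031, 12005), (14032, 11902), (14033, 16176), (14034, 11904), (14035, 16179), (14036, 16181), (14037, 12015), (14038, 12970), (14039, 16185), (14040, 16209), (14041, 13029), (14042, 12484), (14043, 11912), (14044, 12487), (14045, 12624), (14046, 12489), (14047, 12019), (14048, 12026), (14049, 12492), (14050, 12029), (14051, 12494), (14052, 16219), (14053, 12496), (14054, 16221), (14055, 11923), (14056, 11926), (14057, 11927), (14058, 16226), (14059, 11925), (14060, 16228), (14061, 16223), (14062, 16231), (14063, 16233), (14064, 11928), (14065, 16237), (14066, 14066), (14067, 11935), (14068, 11930), (14069, 13641), (14070, 16236), (14071, 11933), (14072, 14072),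 (14073, 16239), (14074, 12004), (14075, 16005), (14076, 12877), (14077, 11944), (14078, 16248), (14079, 16250)]
    ⟨e3 q14016 L654235 q11907, e3 q14017 L654259 q14017, e3 q14018 L654268 q11908, e3 q14019 L654279 q11897, e3 q14020 L654295 q11993, e3 q14021 (flp_d L675787) q16177, e3 q14022 L654315 q11894, e3 q14023 (flp_d L675845) q16182, e3 q14024 (flp_d L675855) q16183, e3 q14025 L654350 q11998, e3 q14026 L675980 q16194, e3 q14027 (flp_d L654379) q13009, e3 q14028 (flp_d L654381) q11900, e3 q14029 (flp_d L676030) q16197, e3 q14030 (flp_d L675745) q16173, e3 q14031 L654428 q12005, e3 q14032 L654437 q11902, e3 q14033 (flp_d L675776) q16176, e3 q14034 L654460 q11904, e3 q14035 (flp_d L675802) q16179, e3 q14036 (flp_d L675835) q16181, e3 q14037 L654496 q12015, e3 q14038 L654503 q12970, e3 q14039 (flp_d L675879) q16185, e3 q14040 L676178 q16209, e3 q14041 L654540 q13029, e3 q14042 L654563 q12484, e3 q14043 L654570 q11912, e3 q14044 L654582 q12487, e3 q14045 L654603 q12624, e3 q14046 L654611 q12489, e3 q14047 L654620 q12019,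 e3 q14048 L654636 q12026, e3 q14049 L654646 q12492, e3 q14050 L654659 q12029, e3 q14051 L654668 q12494, e3 q14052 L676308 q16219, e3 q14053 L654689 q12496, e3 q14054 L676332 q16221, e3 q14055 (flp_d L654706) q11923, e3 q14056 L654725 q11926, e3 q14057 L654741 q11927, e3 q14058 L676406 q16226, e3 q14059 (flp_d L654758) q11925, e3 q14060 (flp_d L676441) q16228, e3 q14061 (flp_d L676370) q16223, e3 q14062 L676477 q16231, e3 q14063 L676500 q16233, e3 q14064 (flp_d L654821) q11928, e3 q14065 (flp_d L676560) q16237, e3 q14066 L654853 q14066, e3 q14067 L654867 q11935, e3 q14068 L654877 q11930, e3 q14069 L654889 q13641, e3 q14070 (flp_d L676552) q16236, e3 q14071 L654919 q11933, e3 q14072 L654935 q14072, e3 q14073 (flp_d L676586) q16239, e3 q14074 L654965 q12004, e3 q14075 (flp_d L673379) q16005, e3 q14076 L654989 q12877, e3 q14077 L654997 q11944, e3 q14078 L676701 q16248, e3 q14079 L676722 q16250, trivial⟩ (by decide +kernel)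

theorem ce_d_220 : ∀ r, r < 64 → sm gd (Qf (14080 + r)) = Qf (tab Gen.d (14080 + r)) :=
  edges_tab (sm gd) Qf (tab Gen.d) 14080 [(14080, 11941), (14081, 16254), (14082, 14082), (14083, 14083), (14084, 11943), (14085, 16156), (14086, 16259), (14087, 11945), (14088, 16263), (14089, 11946), (14090, 16264), (14091, 11966), (14092, 11953), (14093, 11948), (14094, 11968), (14095, 11955), (14096, 11956), (14097, 13480), (14098, 16266), (14099, 16267), (14100, 12604), (14101, 16270), (14102, 16271), (14103, 16279), (14104, 12418), (14105, 12419), (14106, 12470), (14107, 13710), (14108, 13711), (14109, 16261), (14110, 11964), (14111, 16265), (14112, 13746), (14113, 16286), (14114, 13783), (14115, 16288), (14116, 11979), (14117, 16291), (14118, 11972), (14119, 16295), (14120, 11973), (14121, 16298), (14122, 14122), (14123, 14123), (14124, 11975), (14125, 14125), (14126, 12550), (14127, 14127), (14128, 14128), (14129, 14129), (14130, 16169), (14131, 16311), (14132, 11980), (14133, 16315), (14134, 12008), (14135, 16132), (14136, 11982),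 (14137, 12011), (14138, 11994), (14139, 11984), (14140, 12013), (14141, 13568), (14142, 12014), (14143, 11996)]
    ⟨e3 q14080 (flp_d L655021) q11941, e3 q14081 (flp_d L676780) q16254, e3 q14082 L655050 q14082, e3 q14083 L655064 q14083, e3 q14084 L655071 q11943, e3 q14085 (flp_d L675524) q16156, e3 q14086 L676836 q16259, e3 q14087 (flp_d L655099) q11945, e3 q14088 (flp_d L676884) q16263, e3 q14089 (flp_d L655119) q11946, e3 q14090 (flp_d L676896) q16264, e3 q14091 L655151 q11966, e3 q14092 L655167 q11953, e3 q14093 L655173 q11948, e3 q14094 L655185 q11968, e3 q14095 L655200 q11955, e3 q14096 L655213 q11956, e3 q14097 L655225 q13480, e3 q14098 (flp_d L676925) q16266, e3 q14099 (flp_d L676935) q16267, e3 q14100 L655262 q12604, e3 q14101 (flp_d L676972) q16270, e3 q14102 (flp_d L676986) q16271, e3 q14103 L677078 q16279, e3 q14104 L655305 q12418, e3 q14105 L655315 q12419, e3 q14106 L655328 q12470, e3 q14107 (flp_d L655343) q13710, e3 q14108 L655350 q13711, e3 q14109 (flp_d L676870) q16261, e3 q14110 L655380 q11964, e3 q14111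 (flp_d L676911) q16265, e3 q14112 L655415 q13746, e3 q14113 L677173 q16286, e3 q14114 L655437 q13783, e3 q14115 L677199 q16288, e3 q14116 L655459 q11979, e3 q14117 L677230 q16291, e3 q14118 (flp_d L655475) q11972, e3 q14119 (flp_d L677270) q16295, e3 q14120 (flp_d L655494) q11973, e3 q14121 (flp_d L677306) q16298, e3 q14122 L655518 q14122, e3 q14123 L655527 q14123, e3 q14124 L655532 q11975, e3 q14125 L655538 q14125, e3 q14126 L655561 q12550, e3 q14127 L655569 q14127, e3 q14128 L655581 q14128, e3 q14129 L655591 q14129, e3 q14130 (flp_d L675694) q16169, e3 q14131 L677445 q16311, e3 q14132 (flp_d L655615) q11980, e3 q14133 (flp_d L677485) q16315, e3 q14134 L655639 q12008, e3 q14135 (flp_d L675227) q16132, e3 q14136 L655651 q11982, e3 q14137 L655664 q12011, e3 q14138 L655679 q11994, e3 q14139 L655685 q11984, e3 q14140 L655692 q12013, e3 q14141 L655708 q13568, e3 q14142 L655714 q12014, e3 q14143 L655722 q11996, trivial⟩ (by decide +kernel)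

theorem ce_d_221 : ∀ r, r < 64 → sm gd (Qf (14144 + r)) = Qf (tab Gen.d (14144 + r)) :=
  edges_tab (sm gd) Qf (tab Gen.d) 14144 [(14144, 11997), (14145, 16184), (14146, 12016), (14147, 12687), (14148, 12017), (14149, 12716), (14150, 13506), (14151, 16342), (14152, 11999), (14153, 12000), (14154, 16346), (14155, 16324), (14156, 16325), (14157, 16191), (14158, 16333), (14159, 16334), (14160, 16353), (14161, 16343), (14162, 16344), (14163, 16356), (14164, 12001), (14165, 13005), (14166, 16243), (14167, 16201), (14168, 16313), (14169, 12007), (14170, 16316), (14171, 16365), (14172, 16318), (14173, 12888), (14174, 16202), (14175, 16322), (14176, 16323), (14177, 16204), (14178, 16327), (14179, 16329), (14180, 16374), (14181, 16336), (14182, 16376), (14183, 12018), (14184, 12627), (14185, 12629), (14186, 16211), (14187, 12632), (14188, 13355), (14189, 12634), (14190, 13356), (14191, 16386), (14192, 13030), (14193, 12639), (14194, 12640), (14195, 16389), (14196, 12642), (14197, 16391), (14198, 12032), (14199, 16001), (14200, 12034),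 (14201, 16020), (14202, 13592), (14203, 12037), (14204, 16393), (14205, 12039), (14206, 12040), (14207, 16395)]
    ⟨e3 q14144 L655728 q11997, e3 q14145 (flp_d L675869) q16184, e3 q14146 L655744 q12016, e3 q14147 L655766 q12687, e3 q14148 L655776 q12017, e3 q14149 L655789 q12716, e3 q14150 L655802 q13506, e3 q14151 L677770 q16342, e3 q14152 L655818 q11999, e3 q14153 L655826 q12000, e3 q14154 L677805 q16346, e3 q14155 (flp_d L677571) q16324, e3 q14156 (flp_d L677583) q16325, e3 q14157 (flp_d L675954) q16191, e3 q14158 (flp_d L677671) q16333, e3 q14159 (flp_d L677679) q16334, e3 q14160 L677874 q16353, e3 q14161 (flp_d L677781) q16343, e3 q14162 (flp_d L677790) q16344, e3 q14163 L677899 q16356, e3 q14164 (flp_d L655928) q12001, e3 q14165 L655938 q13005, e3 q14166 (flp_d L676647) q16243, e3 q14167 (flp_d L676081) q16201, e3 q14168 (flp_d L677473) q16313, e3 q14169 L655976 q12007, e3 q14170 (flp_d L677493) q16316, e3 q14171 L677997 q16365, e3 q14172 (flp_d L677511) q16318, e3 q14173 L656020 q12888, e3 q14174 (flp_d L676100) q16202,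 e3 q14175 (flp_d L677541) q16322, e3 q14176 (flp_d L677556) q16323, e3 q14177 (flp_d L676125) q16204, e3 q14178 (flp_d L677601) q16327, e3 q14179 (flp_d L677633) q16329, e3 q14180 L678105 q16374, e3 q14181 (flp_d L677699) q16336, e3 q14182 L678124 q16376, e3 q14183 (flp_d L656121) q12018, e3 q14184 L656129 q12627, e3 q14185 L656143 q12629, e3 q14186 (flp_d L676216) q16211, e3 q14187 L656163 q12632, e3 q14188 (flp_d L656182) q13355, e3 q14189 L656188 q12634, e3 q14190 L656199 q13356, e3 q14191 L678242 q16386, e3 q14192 L656230 q13030, e3 q14193 L656235 q12639, e3 q14194 L656246 q12640, e3 q14195 L678272 q16389, e3 q14196 L656265 q12642, e3 q14197 L678289 q16391, e3 q14198 (flp_d L656276) q12032, e3 q14199 (flp_d L673343) q16001, e3 q14200 (flp_d L656293) q12034, e3 q14201 (flp_d L673577) q16020, e3 q14202 L656316 q13592, e3 q14203 (flp_d L656325) q12037, e3 q14204 (flp_d L678318) q16393, e3 q14205 L656367 q12039, e3 q14206 (flp_d L656374) q12040, e3 q14207 (flp_d L678350) q16395, trivial⟩ (by decide +kernel)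

theorem ce_d_222 : ∀ r, r < 64 → sm gd (Qf (14208 + r)) = Qf (tab Gen.d (14208 + r)) :=
  edges_tab (sm gd) Qf (tab Gen.d) 14208 [(14208, 12075), (14209, 12071), (14210, 12044), (14211, 14211), (14212, 14212), (14213, 12065), (14214, 12048), (14215, 12098), (14216, 12051), (14217, 16401), (14218, 12053), (14219, 14219), (14220, 14220), (14221, 14221), (14222, 12116), (14223, 16407), (14224, 14224), (14225, 16039), (14226, 16040), (14227, 12062), (14228, 16413), (14229, 12109), (14230, 16411), (14231, 16418), (14232, 12063), (14233, 16422), (14234, 12191), (14235, 16399), (14236, 16421), (14237, 12067), (14238, 12126), (14239, 14239), (14240, 13121), (14241, 12183), (14242, 16396), (14243, 16420), (14244, 12073), (14245, 12180), (14246, 12079), (14247, 16432), (14248, 12077), (14249, 16436), (14250, 13611), (14251, 16438), (14252, 16440), (14253, 12080), (14254, 16442), (14255, 12096), (14256, 12086), (14257, 12082), (14258, 12083), (14259, 16448), (14260, 12085), (14261, 16445), (14262, 16446), (14263, 12153), (14264, 12113),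 (14265, 16041), (14266, 14266), (14267, 13119), (14268, 13122), (14269, 12093), (14270, 16453), (14271, 12095)]
    ⟨e3 q14208 L656411 q12075, e3 q14209 L656433 q12071, e3 q14210 L656442 q12044, e3 q14211 L656455 q14211, e3 q14212 L656471 q14212, e3 q14213 L656485 q12065, e3 q14214 L656491 q12048, e3 q14215 L656506 q12098, e3 q14216 (flp_d L656516) q12051, e3 q14217 (flp_d L678435) q16401, e3 q14218 L656552 q12053, e3 q14219 L656562 q14219, e3 q14220 L656576 q14220, e3 q14221 L656592 q14221, e3 q14222 L656601 q12116, e3 q14223 L678519 q16407, e3 q14224 L656629 q14224, e3 q14225 (flp_d L673878) q16039, e3 q14226 (flp_d L673894) q16040, e3 q14227 L656665 q12062, e3 q14228 L678612 q16413, e3 q14229 L656692 q12109, e3 q14230 (flp_d L678587) q16411, e3 q14231 L678682 q16418, e3 q14232 (flp_d L656721) q12063, e3 q14233 (flp_d L678740) q16422, e3 q14234 (flp_d L656754) q12191, e3 q14235 (flp_d L678408) q16399, e3 q14236 (flp_d L678732) q16421, e3 q14237 L656786 q12067, e3 q14238 L656799 q12126, e3 q14239 L656807 q14239, e3 q14240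 (flp_d L656823) q13121, e3 q14241 (flp_d L656836) q12183, e3 q14242 (flp_d L678366) q16396, e3 q14243 (flp_d L678716) q16420, e3 q14244 L656867 q12073, e3 q14245 L656878 q12180, e3 q14246 L656892 q12079, e3 q14247 L678876 q16432, e3 q14248 (flp_d L656915) q12077, e3 q14249 (flp_d L678920) q16436, e3 q14250 L656939 q13611, e3 q14251 L678941 q16438, e3 q14252 L678970 q16440, e3 q14253 (flp_d L656967) q12080, e3 q14254 (flp_d L679004) q16442, e3 q14255 L656987 q12096, e3 q14256 L656993 q12086, e3 q14257 L656997 q12082, e3 q14258 (flp_d L657003) q12083, e3 q14259 (flp_d L679068) q16448, e3 q14260 L657032 q12085, e3 q14261 (flp_d L679036) q16445, e3 q14262 (flp_d L679046) q16446, e3 q14263 L657064 q12153, e3 q14264 L657075 q12113, e3 q14265 (flp_d L673915) q16041, e3 q14266 L657097 q14266, e3 q14267 (flp_d L657118) q13119, e3 q14268 L657124 q13122, e3 q14269 (flp_d L657133) q12093, e3 q14270 (flp_d L679137) q16453, e3 q14271 L657166 q12095, trivial⟩ (by decide +kernel)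

theorem ce_d_223 : ∀ r, r < 64 → sm gd (Qf (14272 + r)) = Qf (tab Gen.d (14272 + r)) :=
  edges_tab (sm gd) Qf (tab Gen.d) 14272 [(14272, 16443), (14273, 16444), (14274, 12164), (14275, 12103), (14276, 12165), (14277, 12128), (14278, 12158), (14279, 13123), (14280, 16459), (14281, 16415), (14282, 16461), (14283, 12110), (14284, 16464), (14285, 13585), (14286, 12117), (14287, 16466), (14288, 12115), (14289, 16470), (14290, 16405), (14291, 16472), (14292, 16474), (14293, 12118), (14294, 16478), (14295, 12132), (14296, 12124), (14297, 12120), (14298, 13608), (14299, 16477), (14300, 12123), (14301, 16482), (14302, 16425), (14303, 14303), (14304, 16457), (14305, 13183), (14306, 16476), (14307, 12131), (14308, 16479), (14309, 16481), (14310, 16431), (14311, 12140), (14312, 16494), (14313, 16496), (14314, 12137), (14315, 16500), (14316, 14316), (14317, 14317), (14318, 12139), (14319, 13758), (14320, 12141), (14321, 16508), (14322, 12142), (14323, 16509), (14324, 12160), (14325, 12149), (14326, 12144), (14327, 12162), (14328, 14328),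 (14329, 12163), (14330, 12151), (14331, 12152), (14332, 16447), (14333, 16512), (14334, 16449), (14335, 16520)]
    ⟨e3 q14272 (flp_d L679010) q16443, e3 q14273 (flp_d L679024) q16444, e3 q14274 L657199 q12164, e3 q14275 L657207 q12103, e3 q14276 L657228 q12165, e3 q14277 L657233 q12128, e3 q14278 L657247 q12158, e3 q14279 L657266 q13123, e3 q14280 L679209 q16459, e3 q14281 (flp_d L678646) q16415, e3 q14282 L679238 q16461, e3 q14283 (flp_d L657308) q12110, e3 q14284 (flp_d L679278) q16464, e3 q14285 L657334 q13585, e3 q14286 L657346 q12117, e3 q14287 L679294 q16466, e3 q14288 (flp_d L657359) q12115, e3 q14289 (flp_d L679334) q16470, e3 q14290 (flp_d L678496) q16405, e3 q14291 L679357 q16472, e3 q14292 L679376 q16474, e3 q14293 (flp_d L657413) q12118, e3 q14294 (flp_d L679430) q16478, e3 q14295 L657437 q12132, e3 q14296 L657445 q12124, e3 q14297 L657451 q12120, e3 q14298 L657465 q13608, e3 q14299 (flp_d L679424) q16477, e3 q14300 L657491 q12123, e3 q14301 (flp_d L679467) q16482, e3 q14302 (flp_d L678787) q16425, e3 q14303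 L657522 q14303, e3 q14304 (flp_d L679188) q16457, e3 q14305 L657543 q13183, e3 q14306 (flp_d L679412) q16476, e3 q14307 L657566 q12131, e3 q14308 (flp_d L679436) q16479, e3 q14309 (flp_d L679457) q16481, e3 q14310 (flp_d L678873) q16431, e3 q14311 L657609 q12140, e3 q14312 L679602 q16494, e3 q14313 L679627 q16496, e3 q14314 (flp_d L657638) q12137, e3 q14315 (flp_d L679679) q16500, e3 q14316 L657658 q14316, e3 q14317 L657665 q14317, e3 q14318 L657668 q12139, e3 q14319 L657680 q13758, e3 q14320 (flp_d L657687) q12141, e3 q14321 (flp_d L679754) q16508, e3 q14322 (flp_d L657702) q12142, e3 q14323 (flp_d L679766) q16509, e3 q14324 L657734 q12160, e3 q14325 L657744 q12149, e3 q14326 L657748 q12144, e3 q14327 L657754 q12162, e3 q14328 L657770 q14328, e3 q14329 L657775 q12163, e3 q14330 L657783 q12151, e3 q14331 L657791 q12152, e3 q14332 (flp_d L679058) q16447, e3 q14333 (flp_d L679801) q16512, e3 q14334 (flp_d L679088) q16449, e3 q14335 (flp_d L679886) q16520, trivial⟩ (by decide +kernel)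

theorem ce_d_224 : ∀ r, r < 64 → sm gd (Qf (14336 + r)) = Qf (tab Gen.d (14336 + r)) :=
  edges_tab (sm gd) Qf (tab Gen.d) 14336 [(14336, 16521), (14337, 16527), (14338, 13102), (14339, 13103), (14340, 13584), (14341, 16511), (14342, 16454), (14343, 16514), (14344, 16516), (14345, 16531), (14346, 13052), (14347, 13112), (14348, 12170), (14349, 12171), (14350, 16534), (14351, 12173), (14352, 14352), (14353, 12175), (14354, 16536), (14355, 12177), (14356, 12230), (14357, 12225), (14358, 12182), (14359, 16427), (14360, 16429), (14361, 14361), (14362, 14362), (14363, 16544), (14364, 12188), (14365, 16545), (14366, 12217), (14367, 12190), (14368, 16409), (14369, 16423), (14370, 14370), (14371, 12194), (14372, 16550), (14373, 14373), (14374, 12408), (14375, 12196), (14376, 14376), (14377, 12198), (14378, 14378), (14379, 14379), (14380, 14380), (14381, 14381), (14382, 14382), (14383, 16560), (14384, 12205), (14385, 16140), (14386, 13193), (14387, 16471), (14388, 16566), (14389, 12206), (14390, 16568), (14391, 16116), (14392, 16117),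 (14393, 12212), (14394, 12213), (14395, 16573), (14396, 12211), (14397, 16577), (14398, 16570), (14399, 16580)]
    ⟨e3 q14336 (flp_d L679892) q16521, e3 q14337 L679957 q16527, e3 q14338 L657851 q13102, e3 q14339 L657862 q13103, e3 q14340 L657880 q13584, e3 q14341 (flp_d L679791) q16511, e3 q14342 (flp_d L679159) q16454, e3 q14343 (flp_d L679817) q16514, e3 q14344 (flp_d L679850) q16516, e3 q14345 L680001 q16531, e3 q14346 L657944 q13052, e3 q14347 L657964 q13112, e3 q14348 L657974 q12170, e3 q14349 (flp_d L657982) q12171, e3 q14350 (flp_d L680048) q16534, e3 q14351 L658022 q12173, e3 q14352 L658034 q14352, e3 q14353 (flp_d L658036) q12175, e3 q14354 (flp_d L680079) q16536, e3 q14355 L658073 q12177, e3 q14356 L658085 q12230, e3 q14357 L658108 q12225, e3 q14358 L658115 q12182, e3 q14359 (flp_d L678819) q16427, e3 q14360 (flp_d L678840) q16429, e3 q14361 L658149 q14361, e3 q14362 L658158 q14362, e3 q14363 L680186 q16544, e3 q14364 (flp_d L658175) q12188, e3 q14365 (flp_d L680206) q16545, e3 q14366 L658220 q12217, e3 q14367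 L658226 q12190, e3 q14368 L678564 q16409, e3 q14369 (flp_d L678754) q16423, e3 q14370 L658254 q14370, e3 q14371 (flp_d L658256) q12194, e3 q14372 (flp_d L680277) q16550, e3 q14373 L658296 q14373, e3 q14374 L658310 q12408, e3 q14375 L658317 q12196, e3 q14376 L658334 q14376, e3 q14377 L658338 q12198, e3 q14378 L658346 q14378, e3 q14379 L658357 q14379, e3 q14380 L658369 q14380, e3 q14381 L658373 q14381, e3 q14382 L658383 q14382, e3 q14383 L680403 q16560, e3 q14384 L658404 q12205, e3 q14385 (flp_d L675331) q16140, e3 q14386 L658431 q13193, e3 q14387 (flp_d L679348) q16471, e3 q14388 L680487 q16566, e3 q14389 (flp_d L658461) q12206, e3 q14390 (flp_d L680514) q16568, e3 q14391 (flp_d L675003) q16116, e3 q14392 (flp_d L675018) q16117, e3 q14393 L658513 q12212, e3 q14394 L658526 q12213, e3 q14395 L680573 q16573, e3 q14396 (flp_d L658539) q12211, e3 q14397 (flp_d L680621) q16577, e3 q14398 (flp_d L680540) q16570, e3 q14399 L680655 q16580, trivial⟩ (by decide +kernel)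

theorem ce_d_225 : ∀ r, r < 64 → sm gd (Qf (14400 + r)) = Qf (tab Gen.d (14400 + r)) :=
  edges_tab (sm gd) Qf (tab Gen.d) 14400 [(14400, 16582), (14401, 12214), (14402, 16586), (14403, 12228), (14404, 12220), (14405, 12216), (14406, 16546), (14407, 16585), (14408, 12219), (14409, 16589), (14410, 12307), (14411, 14411), (14412, 16538), (14413, 12224), (14414, 16598), (14415, 16539), (14416, 16584), (14417, 12227), (14418, 16587), (14419, 16588), (14420, 12318), (14421, 12437), (14422, 12236), (14423, 16605), (14424, 16607), (14425, 12233), (14426, 16611), (14427, 14427), (14428, 14428), (14429, 12235), (14430, 16098), (14431, 16619), (14432, 12237), (14433, 16623), (14434, 12238), (14435, 16624), (14436, 12260), (14437, 12246), (14438, 12240), (14439, 12262), (14440, 16417), (14441, 12263), (14442, 12248), (14443, 12249), (14444, 12342), (14445, 12245), (14446, 16627), (14447, 16628), (14448, 12347), (14449, 16636), (14450, 16637), (14451, 16645), (14452, 12288), (14453, 16118), (14454, 13275), (14455, 12255), (14456, 16649),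 (14457, 16621), (14458, 12475), (14459, 12257), (14460, 12259), (14461, 16625), (14462, 16626), (14463, 12364)]
    ⟨e3 q14400 L680677 q16582, e3 q14401 (flp_d L658591) q12214, e3 q14402 (flp_d L680729) q16586, e3 q14403 L658615 q12228, e3 q14404 L658621 q12220, e3 q14405 L658627 q12216, e3 q14406 (flp_d L680221) q16546, e3 q14407 (flp_d L680723) q16585, e3 q14408 L658658 q12219, e3 q14409 (flp_d L680759) q16589, e3 q14410 L658676 q12307, e3 q14411 L658684 q14411, e3 q14412 (flp_d L680108) q16538, e3 q14413 (flp_d L658702) q12224, e3 q14414 (flp_d L680866) q16598, e3 q14415 (flp_d L680124) q16539, e3 q14416 (flp_d L680709) q16584, e3 q14417 L658754 q12227, e3 q14418 (flp_d L680735) q16587, e3 q14419 (flp_d L680751) q16588, e3 q14420 L658779 q12318, e3 q14421 L658793 q12437, e3 q14422 L658799 q12236, e3 q14423 L680945 q16605, e3 q14424 L680962 q16607, e3 q14425 (flp_d L658822) q12233, e3 q14426 (flp_d L681000) q16611, e3 q14427 L658842 q14427, e3 q14428 L658847 q14428, e3 q14429 L658850 q12235, e3 q14430 (flp_d L674725) q16098,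 e3 q14431 L681070 q16619, e3 q14432 (flp_d L658874) q12237, e3 q14433 (flp_d L681104) q16623, e3 q14434 (flp_d L658892) q12238, e3 q14435 (flp_d L681112) q16624, e3 q14436 L658910 q12260, e3 q14437 L658916 q12246, e3 q14438 L658920 q12240, e3 q14439 L658926 q12262, e3 q14440 L678680 q16417, e3 q14441 L658938 q12263, e3 q14442 L658946 q12248, e3 q14443 L658952 q12249, e3 q14444 L658960 q12342, e3 q14445 L658964 q12245, e3 q14446 (flp_d L681132) q16627, e3 q14447 (flp_d L681136) q16628, e3 q14448 L658987 q12347, e3 q14449 (flp_d L681194) q16636, e3 q14450 (flp_d L681204) q16637, e3 q14451 L681278 q16645, e3 q14452 L659024 q12288, e3 q14453 (flp_d L675036) q16118, e3 q14454 (flp_d L659051) q13275, e3 q14455 (flp_d L659053) q12255, e3 q14456 (flp_d L681335) q16649, e3 q14457 (flp_d L681094) q16621, e3 q14458 L659092 q12475, e3 q14459 L659100 q12257, e3 q14460 L659110 q12259, e3 q14461 (flp_d L681118) q16625, e3 q14462 (flp_d L681126) q16626, e3 q14463 L659133 q12364, trivial⟩ (by decide +kernel)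

theorem ce_d_226 : ∀ r, r < 64 → sm gd (Qf (14464 + r)) = Qf (tab Gen.d (14464 + r)) :=
  edges_tab (sm gd) Qf (tab Gen.d) 14464 [(14464, 16630), (14465, 16632), (14466, 16660), (14467, 13277), (14468, 12485), (14469, 12267), (14470, 12354), (14471, 12625), (14472, 12368), (14473, 12490), (14474, 12375), (14475, 13104), (14476, 12860), (14477, 12376), (14478, 16093), (14479, 16094), (14480, 13289), (14481, 16095), (14482, 16673), (14483, 12278), (14484, 14484), (14485, 12282), (14486, 12283), (14487, 16676), (14488, 12281), (14489, 16678), (14490, 16578), (14491, 16680), (14492, 16682), (14493, 12284), (14494, 16685), (14495, 14495), (14496, 12286), (14497, 13648), (14498, 12512), (14499, 12294), (14500, 16692), (14501, 16694), (14502, 12291), (14503, 16698), (14504, 14504), (14505, 14505), (14506, 12293), (14507, 16563), (14508, 16705), (14509, 12295), (14510, 16709), (14511, 12296), (14512, 16712), (14513, 12314), (14514, 12304), (14515, 12298), (14516, 12316), (14517, 14517), (14518, 12317), (14519, 12306), (14520, 16590),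 (14521, 16711), (14522, 12303), (14523, 16716), (14524, 16717), (14525, 16593), (14526, 16730), (14527, 16663)]
    ⟨e3 q14464 (flp_d L681150) q16630, e3 q14465 (flp_d L681162) q16632, e3 q14466 L681453 q16660, e3 q14467 L659163 q13277, e3 q14468 L659185 q12485, e3 q14469 L659194 q12267, e3 q14470 L659204 q12354, e3 q14471 L659223 q12625, e3 q14472 L659232 q12368, e3 q14473 L659243 q12490, e3 q14474 L659256 q12375, e3 q14475 L659261 q13104, e3 q14476 L659275 q12860, e3 q14477 L659294 q12376, e3 q14478 (flp_d L674645) q16093, e3 q14479 (flp_d L674661) q16094, e3 q14480 L659318 q13289, e3 q14481 (flp_d L674677) q16095, e3 q14482 L681607 q16673, e3 q14483 (flp_d L659335) q12278, e3 q14484 L659358 q14484, e3 q14485 L659374 q12282, e3 q14486 L659386 q12283, e3 q14487 L681647 q16676, e3 q14488 (flp_d L659400) q12281, e3 q14489 (flp_d L681678) q16678, e3 q14490 (flp_d L680633) q16578, e3 q14491 L681695 q16680, e3 q14492 L681714 q16682, e3 q14493 (flp_d L659456) q12284, e3 q14494 (flp_d L681752) q16685, e3 q14495 L659479 q14495,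 e3 q14496 L659484 q12286, e3 q14497 L659495 q13648, e3 q14498 L659514 q12512, e3 q14499 L659522 q12294, e3 q14500 L681819 q16692, e3 q14501 L681838 q16694, e3 q14502 (flp_d L659543) q12291, e3 q14503 (flp_d L681876) q16698, e3 q14504 L659567 q14504, e3 q14505 L659574 q14505, e3 q14506 L659579 q12293, e3 q14507 (flp_d L680453) q16563, e3 q14508 L681941 q16705, e3 q14509 (flp_d L659605) q12295, e3 q14510 (flp_d L681983) q16709, e3 q14511 (flp_d L659625) q12296, e3 q14512 (flp_d L682015) q16712, e3 q14513 L659647 q12314, e3 q14514 L659655 q12304, e3 q14515 L659661 q12298, e3 q14516 L659667 q12316, e3 q14517 L659677 q14517, e3 q14518 L659684 q12317, e3 q14519 L659692 q12306, e3 q14520 (flp_d L680769) q16590, e3 q14521 (flp_d L682009) q16711, e3 q14522 L659721 q12303, e3 q14523 (flp_d L682048) q16716, e3 q14524 (flp_d L682054) q16717, e3 q14525 (flp_d L680806) q16593, e3 q14526 L682178 q16730, e3 q14527 (flp_d L681491) q16663, trivial⟩ (by decide +kernel)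

theorem ce_d_227 : ∀ r, r < 64 → sm gd (Qf (14528 + r)) = Qf (tab Gen.d (14528 + r)) :=
  edges_tab (sm gd) Qf (tab Gen.d) 14528 [(14528, 12309), (14529, 16734), (14530, 16707), (14531, 12544), (14532, 12311), (14533, 16710), (14534, 12313), (14535, 16713), (14536, 16715), (14537, 16600), (14538, 16719), (14539, 16721), (14540, 16747), (14541, 12552), (14542, 16749), (14543, 12328), (14544, 16752), (14545, 12321), (14546, 16756), (14547, 12322), (14548, 16759), (14549, 14549), (14550, 14550), (14551, 12324), (14552, 14552), (14553, 13146), (14554, 14554), (14555, 14555), (14556, 14556), (14557, 16617), (14558, 16772), (14559, 12329), (14560, 16776), (14561, 12357), (14562, 12573), (14563, 12331), (14564, 12360), (14565, 12343), (14566, 12333), (14567, 12362), (14568, 14568), (14569, 12363), (14570, 12345), (14571, 12346), (14572, 16629), (14573, 12365), (14574, 14574), (14575, 12366), (14576, 14576), (14577, 14577), (14578, 16803), (14579, 12348), (14580, 12349), (14581, 16807), (14582, 16785), (14583, 16786), (14584, 16639),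 (14585, 16794), (14586, 16795), (14587, 16813), (14588, 16804), (14589, 16805), (14590, 16816), (14591, 12350)]
    ⟨e3 q14528 (flp_d L659775) q12309, e3 q14529 (flp_d L682219) q16734, e3 q14530 (flp_d L681969) q16707, e3 q14531 L659813 q12544, e3 q14532 L659821 q12311, e3 q14533 (flp_d L681997) q16710, e3 q14534 L659842 q12313, e3 q14535 (flp_d L682021) q16713, e3 q14536 (flp_d L682040) q16715, e3 q14537 (flp_d L680893) q16600, e3 q14538 (flp_d L682070) q16719, e3 q14539 (flp_d L682093) q16721, e3 q14540 L682348 q16747, e3 q14541 L659906 q12552, e3 q14542 L682367 q16749, e3 q14543 L659928 q12328, e3 q14544 L682399 q16752, e3 q14545 (flp_d L659943) q12321, e3 q14546 (flp_d L682431) q16756, e3 q14547 (flp_d L659958) q12322, e3 q14548 (flp_d L682461) q16759, e3 q14549 L659976 q14549, e3 q14550 L659983 q14550, e3 q14551 L659986 q12324, e3 q14552 L659992 q14552, e3 q14553 (flp_d L660011) q13146, e3 q14554 L660017 q14554, e3 q14555 L660022 q14555, e3 q14556 L660029 q14556, e3 q14557 (flp_d L681052) q16617, e3 q14558 L682568 q16772,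 e3 q14559 (flp_d L660048) q12329, e3 q14560 (flp_d L682602) q16776, e3 q14561 L660070 q12357, e3 q14562 L660076 q12573, e3 q14563 L660080 q12331, e3 q14564 L660094 q12360, e3 q14565 L660104 q12343, e3 q14566 L660108 q12333, e3 q14567 L660114 q12362, e3 q14568 L660128 q14568, e3 q14569 L660133 q12363, e3 q14570 L660139 q12345, e3 q14571 L660143 q12346, e3 q14572 (flp_d L681146) q16629, e3 q14573 L660157 q12365, e3 q14574 L660175 q14574, e3 q14575 L660180 q12366, e3 q14576 L660188 q14576, e3 q14577 L660195 q14577, e3 q14578 L682833 q16803, e3 q14579 L660206 q12348, e3 q14580 L660212 q12349, e3 q14581 L682859 q16807, e3 q14582 (flp_d L682683) q16785, e3 q14583 (flp_d L682691) q16786, e3 q14584 (flp_d L681224) q16639, e3 q14585 (flp_d L682766) q16794, e3 q14586 (flp_d L682772) q16795, e3 q14587 L682911 q16813, e3 q14588 (flp_d L682841) q16804, e3 q14589 (flp_d L682847) q16805, e3 q14590 L682937 q16816, e3 q14591 (flp_d L660299) q12350, trivial⟩ (by decide +kernel)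

theorem ce_d_228 : ∀ r, r < 64 → sm gd (Qf (14592 + r)) = Qf (tab Gen.d (14592 + r)) :=
  edges_tab (sm gd) Qf (tab Gen.d) 14592 [(14592, 13254), (14593, 13647), (14594, 16665), (14595, 16774), (14596, 12608), (14597, 12356), (14598, 16777), (14599, 16825), (14600, 16779), (14601, 12613), (14602, 16654), (14603, 16784), (14604, 16655), (14605, 16788), (14606, 16790), (14607, 16832), (14608, 16797), (14609, 16834), (14610, 12367), (14611, 12630), (14612, 16662), (14613, 13140), (14614, 13343), (14615, 13172), (14616, 13357), (14617, 13279), (14618, 16842), (14619, 13143), (14620, 13267), (14621, 15985), (14622, 12381), (14623, 12384), (14624, 14624), (14625, 12659), (14626, 12387), (14627, 12497), (14628, 14628), (14629, 12400), (14630, 12396), (14631, 13514), (14632, 13786), (14633, 14633), (14634, 13527), (14635, 13371), (14636, 16220), (14637, 14637), (14638, 16853), (14639, 12404), (14640, 16552), (14641, 13521), (14642, 16855), (14643, 16857), (14644, 12415), (14645, 16860), (14646, 14646), (14647, 12417), (14648, 16280),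 (14649, 13519), (14650, 16864), (14651, 12421), (14652, 16867), (14653, 12422), (14654, 16869), (14655, 12429)]
    ⟨e3 q14592 L660305 q13254, e3 q14593 L660324 q13647, e3 q14594 (flp_d L681518) q16665, e3 q14595 (flp_d L682592) q16774, e3 q14596 L660353 q12608, e3 q14597 L660360 q12356, e3 q14598 (flp_d L682610) q16777, e3 q14599 L683021 q16825, e3 q14600 (flp_d L682630) q16779, e3 q14601 L660397 q12613, e3 q14602 (flp_d L681397) q16654, e3 q14603 (flp_d L682673) q16784, e3 q14604 (flp_d L681408) q16655, e3 q14605 (flp_d L682707) q16788, e3 q14606 (flp_d L682738) q16790, e3 q14607 L683091 q16832, e3 q14608 (flp_d L682788) q16797, e3 q14609 L683106 q16834, e3 q14610 (flp_d L660482) q12367, e3 q14611 L660492 q12630, e3 q14612 (flp_d L681486) q16662, e3 q14613 L660511 q13140, e3 q14614 L660530 q13343, e3 q14615 L660537 q13172, e3 q14616 L660550 q13357, e3 q14617 L660570 q13279, e3 q14618 L683195 q16842, e3 q14619 L660587 q13143, e3 q14620 L660603 q13267, e3 q14621 (flp_d L673118) q15985, e3 q14622 (flp_d L660615) q12381, e3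 q14623 L660637 q12384, e3 q14624 L660650 q14624, e3 q14625 L660665 q12659, e3 q14626 L660673 q12387, e3 q14627 L660685 q12497, e3 q14628 L660701 q14628, e3 q14629 L660710 q12400, e3 q14630 L660726 q12396, e3 q14631 L660738 q13514, e3 q14632 L660748 q13786, e3 q14633 L660763 q14633, e3 q14634 L660772 q13527, e3 q14635 L660786 q13371, e3 q14636 (flp_d L676329) q16220, e3 q14637 L660809 q14637, e3 q14638 L683342 q16853, e3 q14639 (flp_d L660825) q12404, e3 q14640 (flp_d L680307) q16552, e3 q14641 L660855 q13521, e3 q14642 L683361 q16855, e3 q14643 L683386 q16857, e3 q14644 (flp_d L660884) q12415, e3 q14645 (flp_d L683430) q16860, e3 q14646 L660920 q14646, e3 q14647 L660927 q12417, e3 q14648 (flp_d L677094) q16280, e3 q14649 L660950 q13519, e3 q14650 L683472 q16864, e3 q14651 (flp_d L660967) q12421, e3 q14652 (flp_d L683512) q16867, e3 q14653 (flp_d L660991) q12422, e3 q14654 (flp_d L683537) q16869, e3 q14655 L661025 q12429, trivial⟩ (by decide +kernel)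

theorem ce_d_229 : ∀ r, r < 64 → sm gd (Qf (14656 + r)) = Qf (tab Gen.d (14656 + r)) :=
  edges_tab (sm gd) Qf (tab Gen.d) 14656 [(14656, 12424), (14657, 12431), (14658, 12533), (14659, 16868), (14660, 12428), (14661, 16870), (14662, 16871), (14663, 12538), (14664, 16878), (14665, 13517), (14666, 13518), (14667, 16229), (14668, 16881), (14669, 12445), (14670, 16884), (14671, 12439), (14672, 16887), (14673, 12440), (14674, 16889), (14675, 14675), (14676, 12442), (14677, 14677), (14678, 12568), (14679, 16894), (14680, 12446), (14681, 16898), (14682, 12474), (14683, 16622), (14684, 12448), (14685, 12477), (14686, 12460), (14687, 12450), (14688, 12479), (14689, 12912), (14690, 12480), (14691, 12462), (14692, 12463), (14693, 12583), (14694, 12481), (14695, 12913), (14696, 13386), (14697, 12465), (14698, 12466), (14699, 16921), (14700, 16906), (14701, 16907), (14702, 12595), (14703, 16913), (14704, 16914), (14705, 16928), (14706, 16918), (14707, 16919), (14708, 16931), (14709, 12467), (14710, 12511), (14711, 16281), (14712, 12471),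 (14713, 16935), (14714, 16896), (14715, 16648), (14716, 12473), (14717, 16899), (14718, 16939), (14719, 16901)]
    ⟨e3 q14656 L661033 q12424, e3 q14657 L661043 q12431, e3 q14658 L661057 q12533, e3 q14659 (flp_d L683529) q16868, e3 q14660 L661075 q12428, e3 q14661 (flp_d L683548) q16870, e3 q14662 (flp_d L683558) q16871, e3 q14663 L661099 q12538, e3 q14664 L683623 q16878, e3 q14665 L661120 q13517, e3 q14666 L661127 q13518, e3 q14667 (flp_d L676455) q16229, e3 q14668 L683656 q16881, e3 q14669 L661163 q12445, e3 q14670 L683687 q16884, e3 q14671 (flp_d L661180) q12439, e3 q14672 (flp_d L683727) q16887, e3 q14673 (flp_d L661204) q12440, e3 q14674 (flp_d L683751) q16889, e3 q14675 L661237 q14675, e3 q14676 L661244 q12442, e3 q14677 L661254 q14677, e3 q14678 L661267 q12568, e3 q14679 L683799 q16894, e3 q14680 (flp_d L661280) q12446, e3 q14681 (flp_d L683837) q16898, e3 q14682 L661306 q12474, e3 q14683 (flp_d L681100) q16622, e3 q14684 L661314 q12448, e3 q14685 L661329 q12477, e3 q14686 L661342 q12460, e3 q14687 L661346 q12450,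 e3 q14688 L661353 q12479, e3 q14689 L661379 q12912, e3 q14690 L661387 q12480, e3 q14691 L661393 q12462, e3 q14692 L661397 q12463, e3 q14693 L661407 q12583, e3 q14694 L661415 q12481, e3 q14695 L661430 q12913, e3 q14696 L661444 q13386, e3 q14697 L661452 q12465, e3 q14698 L661460 q12466, e3 q14699 L684074 q16921, e3 q14700 (flp_d L683916) q16906, e3 q14701 (flp_d L683924) q16907, e3 q14702 L661493 q12595, e3 q14703 (flp_d L683998) q16913, e3 q14704 (flp_d L684004) q16914, e3 q14705 L684135 q16928, e3 q14706 (flp_d L684050) q16918, e3 q14707 (flp_d L684059) q16919, e3 q14708 L684164 q16931, e3 q14709 (flp_d L661544) q12467, e3 q14710 L661558 q12511, e3 q14711 (flp_d L677107) q16281, e3 q14712 (flp_d L661572) q12471, e3 q14713 (flp_d L684213) q16935, e3 q14714 (flp_d L683827) q16896, e3 q14715 (flp_d L681327) q16648, e3 q14716 L661634 q12473, e3 q14717 (flp_d L683845) q16899, e3 q14718 L684276 q16939, e3 q14719 (flp_d L683873) q16901, trivial⟩ (by decide +kernel)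

theorem ce_d_230 : ∀ r, r < 64 → sm gd (Qf (14720 + r)) = Qf (tab Gen.d (14720 + r)) :=
  edges_tab (sm gd) Qf (tab Gen.d) 14720 [(14720, 16653), (14721, 16905), (14722, 16909), (14723, 12483), (14724, 16210), (14725, 16661), (14726, 12631), (14727, 16213), (14728, 16844), (14729, 12495), (14730, 13296), (14731, 12504), (14732, 16942), (14733, 16944), (14734, 12501), (14735, 16946), (14736, 12503), (14737, 13522), (14738, 16949), (14739, 12505), (14740, 16953), (14741, 12506), (14742, 16955), (14743, 14743), (14744, 12508), (14745, 14745), (14746, 16862), (14747, 16689), (14748, 16960), (14749, 12520), (14750, 16963), (14751, 12514), (14752, 16966), (14753, 12515), (14754, 16968), (14755, 14755), (14756, 12517), (14757, 14757), (14758, 13335), (14759, 16973), (14760, 12521), (14761, 16977), (14762, 12543), (14763, 16708), (14764, 12523), (14765, 12546), (14766, 12534), (14767, 12525), (14768, 12548), (14769, 14769), (14770, 12549), (14771, 12536), (14772, 12537), (14773, 16872), (14774, 12551), (14775, 14775), (14776, 13439),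 (14777, 16997), (14778, 16986), (14779, 16987), (14780, 16875), (14781, 16993), (14782, 17002), (14783, 12539)]
    ⟨e3 q14720 (flp_d L681381) q16653, e3 q14721 (flp_d L683905) q16905, e3 q14722 (flp_d L683944) q16909, e3 q14723 L661736 q12483, e3 q14724 (flp_d L676195) q16210, e3 q14725 (flp_d L681465) q16661, e3 q14726 L661794 q12631, e3 q14727 (flp_d L676239) q16213, e3 q14728 (flp_d L683227) q16844, e3 q14729 (flp_d L661828) q12495, e3 q14730 L661849 q13296, e3 q14731 L661860 q12504, e3 q14732 L684322 q16942, e3 q14733 L684344 q16944, e3 q14734 (flp_d L661890) q12501, e3 q14735 (flp_d L684371) q16946, e3 q14736 L661913 q12503, e3 q14737 L661923 q13522, e3 q14738 L684396 q16949, e3 q14739 (flp_d L661937) q12505, e3 q14740 (flp_d L684430) q16953, e3 q14741 (flp_d L661954) q12506, e3 q14742 (flp_d L684450) q16955, e3 q14743 L661975 q14743, e3 q14744 L661980 q12508, e3 q14745 L661988 q14745, e3 q14746 (flp_d L683457) q16862, e3 q14747 (flp_d L681789) q16689, e3 q14748 L684490 q16960, e3 q14749 L662033 q12520, e3 q14750 L684525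 q16963, e3 q14751 (flp_d L662052) q12514, e3 q14752 (flp_d L684565) q16966, e3 q14753 (flp_d L662076) q12515, e3 q14754 (flp_d L684589) q16968, e3 q14755 L662109 q14755, e3 q14756 L662116 q12517, e3 q14757 L662126 q14757, e3 q14758 L662139 q13335, e3 q14759 L684637 q16973, e3 q14760 (flp_d L662154) q12521, e3 q14761 (flp_d L684681) q16977, e3 q14762 L662182 q12543, e3 q14763 (flp_d L681977) q16708, e3 q14764 L662194 q12523, e3 q14765 L662209 q12546, e3 q14766 L662220 q12534, e3 q14767 L662226 q12525, e3 q14768 L662233 q12548, e3 q14769 L662251 q14769, e3 q14770 L662258 q12549, e3 q14771 L662266 q12536, e3 q14772 L662272 q12537, e3 q14773 (flp_d L683572) q16872, e3 q14774 L662288 q12551, e3 q14775 L662299 q14775, e3 q14776 L662312 q13439, e3 q14777 L684876 q16997, e3 q14778 (flp_d L684774) q16986, e3 q14779 (flp_d L684782) q16987, e3 q14780 (flp_d L683605) q16875, e3 q14781 (flp_d L684842) q16993, e3 q14782 L684918 q17002, e3 q14783 (flp_d L662367) q12539, trivial⟩ (by decide +kernel)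

theorem ce_d_231 : ∀ r, r < 64 → sm gd (Qf (14784 + r)) = Qf (tab Gen.d (14784 + r)) :=
  edges_tab (sm gd) Qf (tab Gen.d) 14784 [(14784, 12540), (14785, 17006), (14786, 16975), (14787, 16733), (14788, 12542), (14789, 16978), (14790, 17013), (14791, 16980), (14792, 16737), (14793, 16985), (14794, 16300), (14795, 16989), (14796, 16306), (14797, 13765), (14798, 17017), (14799, 12553), (14800, 17021), (14801, 17022), (14802, 12555), (14803, 17026), (14804, 12680), (14805, 17020), (14806, 12557), (14807, 12683), (14808, 14808), (14809, 12559), (14810, 12685), (14811, 13755), (14812, 12686), (14813, 14813), (14814, 14814), (14815, 16892), (14816, 12688), (14817, 12956), (14818, 13700), (14819, 13400), (14820, 14820), (14821, 14821), (14822, 17053), (14823, 12569), (14824, 17056), (14825, 12607), (14826, 16775), (14827, 12571), (14828, 12610), (14829, 17066), (14830, 12612), (14831, 16780), (14832, 16781), (14833, 16904), (14834, 12615), (14835, 14835), (14836, 12616), (14837, 12593), (14838, 12594), (14839, 16908), (14840, 12618),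 (14841, 14841), (14842, 12619), (14843, 14843), (14844, 14844), (14845, 17089), (14846, 12596), (14847, 12597)]
    ⟨e3 q14784 (flp_d L662373) q12540, e3 q14785 (flp_d L684963) q17006, e3 q14786 (flp_d L684667) q16975, e3 q14787 (flp_d L682211) q16733, e3 q14788 L662422 q12542, e3 q14789 (flp_d L684689) q16978, e3 q14790 L685049 q17013, e3 q14791 (flp_d L684715) q16980, e3 q14792 (flp_d L682250) q16737, e3 q14793 (flp_d L684765) q16985, e3 q14794 L677338 q16300, e3 q14795 (flp_d L684800) q16989, e3 q14796 (flp_d L677393) q16306, e3 q14797 L662535 q13765, e3 q14798 L685099 q17017, e3 q14799 (flp_d L662552) q12553, e3 q14800 (flp_d L685128) q17021, e3 q14801 L685133 q17022, e3 q14802 (flp_d L662575) q12555, e3 q14803 (flp_d L685171) q17026, e3 q14804 L662601 q12680, e3 q14805 (flp_d L685124) q17020, e3 q14806 L662611 q12557, e3 q14807 L662626 q12683, e3 q14808 L662635 q14808, e3 q14809 L662638 q12559, e3 q14810 L662645 q12685, e3 q14811 L662661 q13755, e3 q14812 L662669 q12686, e3 q14813 L662675 q14813, e3 q14814 L662680 q14814,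 e3 q14815 (flp_d L683784) q16892, e3 q14816 L662695 q12688, e3 q14817 L662708 q12956, e3 q14818 L662721 q13700, e3 q14819 L662735 q13400, e3 q14820 L662741 q14820, e3 q14821 L662748 q14821, e3 q14822 L685423 q17053, e3 q14823 (flp_d L662761) q12569, e3 q14824 (flp_d L685446) q17056, e3 q14825 L662783 q12607, e3 q14826 (flp_d L682598) q16775, e3 q14827 L662791 q12571, e3 q14828 L662799 q12610, e3 q14829 L685519 q17066, e3 q14830 L662815 q12612, e3 q14831 (flp_d L682638) q16780, e3 q14832 (flp_d L682644) q16781, e3 q14833 (flp_d L683895) q16904, e3 q14834 L662839 q12615, e3 q14835 L662851 q14835, e3 q14836 L662856 q12616, e3 q14837 L662863 q12593, e3 q14838 L662869 q12594, e3 q14839 (flp_d L683936) q16908, e3 q14840 L662883 q12618, e3 q14841 L662893 q14841, e3 q14842 L662898 q12619, e3 q14843 L662906 q14843, e3 q14844 L662911 q14844, e3 q14845 L685689 q17089, e3 q14846 L662924 q12596, e3 q14847 L662930 q12597, trivial⟩ (by decide +kernel)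

theorem ce_d_232 : ∀ r, r < 64 → sm gd (Qf (14848 + r)) = Qf (tab Gen.d (14848 + r)) :=
  edges_tab (sm gd) Qf (tab Gen.d) 14848 [(14848, 17093), (14849, 12621), (14850, 14850), (14851, 14851), (14852, 17098), (14853, 14853), (14854, 14854), (14855, 17102), (14856, 12589), (14857, 12599), (14858, 12600), (14859, 17106), (14860, 12592), (14861, 17079), (14862, 17080), (14863, 17111), (14864, 17090), (14865, 17091), (14866, 17114), (14867, 12598), (14868, 17104), (14869, 17117), (14870, 12601), (14871, 14871), (14872, 13644), (14873, 17054), (14874, 16664), (14875, 12606), (14876, 17057), (14877, 17128), (14878, 17059), (14879, 16820), (14880, 13531), (14881, 17063), (14882, 17134), (14883, 17065), (14884, 12611), (14885, 17138), (14886, 17140), (14887, 17141), (14888, 17073), (14889, 17075), (14890, 17144), (14891, 17082), (14892, 17146), (14893, 12620), (14894, 16340), (14895, 12622), (14896, 14896), (14897, 16212), (14898, 16214), (14899, 16666), (14900, 13362), (14901, 16378), (14902, 13360), (14903, 16379), (14904, 12677),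 (14905, 16382), (14906, 12633), (14907, 17151), (14908, 17152), (14909, 12636), (14910, 12637), (14911, 12638)]
    ⟨e3 q14848 L685719 q17093, e3 q14849 L662944 q12621, e3 q14850 L662957 q14850, e3 q14851 L662967 q14851, e3 q14852 L685766 q17098, e3 q14853 L662982 q14853, e3 q14854 L662989 q14854, e3 q14855 L685803 q17102, e3 q14856 (flp_d L663002) q12589, e3 q14857 L663017 q12599, e3 q14858 L663024 q12600, e3 q14859 L685833 q17106, e3 q14860 (flp_d L663037) q12592, e3 q14861 (flp_d L685621) q17079, e3 q14862 (flp_d L685626) q17080, e3 q14863 L685866 q17111, e3 q14864 (flp_d L685703) q17090, e3 q14865 (flp_d L685709) q17091, e3 q14866 L685887 q17114, e3 q14867 (flp_d L663082) q12598, e3 q14868 (flp_d L685820) q17104, e3 q14869 L685907 q17117, e3 q14870 (flp_d L663103) q12601, e3 q14871 L663113 q14871, e3 q14872 L663122 q13644, e3 q14873 (flp_d L685436) q17054, e3 q14874 (flp_d L681510) q16664, e3 q14875 L663150 q12606, e3 q14876 (flp_d L685455) q17057, e3 q14877 L686040 q17128, e3 q14878 (flp_d L685471) q17059, e3 q14879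 (flp_d L682970) q16820, e3 q14880 L663203 q13531, e3 q14881 (flp_d L685497) q17063, e3 q14882 L686104 q17134, e3 q14883 (flp_d L685513) q17065, e3 q14884 (flp_d L663238) q12611, e3 q14885 (flp_d L686147) q17138, e3 q14886 L686167 q17140, e3 q14887 L686179 q17141, e3 q14888 (flp_d L685567) q17073, e3 q14889 (flp_d L685590) q17075, e3 q14890 L686216 q17144, e3 q14891 (flp_d L685643) q17082, e3 q14892 L686240 q17146, e3 q14893 (flp_d L663331) q12620, e3 q14894 (flp_d L677752) q16340, e3 q14895 (flp_d L663355) q12622, e3 q14896 L663373 q14896, e3 q14897 (flp_d L676230) q16212, e3 q14898 (flp_d L676252) q16214, e3 q14899 (flp_d L681531) q16666, e3 q14900 L663428 q13362, e3 q14901 (flp_d L678142) q16378, e3 q14902 L663457 q13360, e3 q14903 (flp_d L678158) q16379, e3 q14904 (flp_d L663480) q12677, e3 q14905 (flp_d L678197) q16382, e3 q14906 (flp_d L663491) q12633, e3 q14907 (flp_d L686307) q17151, e3 q14908 L686318 q17152, e3 q14909 L663534 q12636, e3 q14910 (flp_d L663545) q12637, e3 q14911 (flp_d L663556) q12638, trivial⟩ (by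 decide +kernel)

theorem ce_d_233 : ∀ r, r < 64 → sm gd (Qf (14912 + r)) = Qf (tab Gen.d (14912 + r)) :=
  edges_tab (sm gd) Qf (tab Gen.d) 14912 [(14912, 16387), (14913, 17154), (14914, 12641), (14915, 16000), (14916, 12643), (14917, 14917), (14918, 14918), (14919, 16837), (14920, 12649), (14921, 17157), (14922, 13304), (14923, 13305), (14924, 13032), (14925, 12662), (14926, 17161), (14927, 13492), (14928, 12704), (14929, 14929), (14930, 13562), (14931, 13534), (14932, 13560), (14933, 12671), (14934, 16381), (14935, 12674), (14936, 17167), (14937, 17019), (14938, 12681), (14939, 12676), (14940, 17149), (14941, 17024), (14942, 12679), (14943, 17027), (14944, 17178), (14945, 17029), (14946, 17171), (14947, 17033), (14948, 17035), (14949, 16328), (14950, 17039), (14951, 16337), (14952, 12695), (14953, 12698), (14954, 12703), (14955, 17162), (14956, 12692), (14957, 17163), (14958, 13533), (14959, 13532), (14960, 13536), (14961, 12699), (14962, 17184), (14963, 13535), (14964, 17186), (14965, 17137), (14966, 12707), (14967, 17189),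 (14968, 12708), (14969, 12709), (14970, 13538), (14971, 17193), (14972, 12712), (14973, 16339), (14974, 12714), (14975, 14975)]
    ⟨e3 q14912 (flp_d L678259) q16387, e3 q14913 L686341 q17154, e3 q14914 (flp_d L663585) q12641, e3 q14915 (flp_d L673325) q16000, e3 q14916 (flp_d L663603) q12643, e3 q14917 L663618 q14917, e3 q14918 L663624 q14918, e3 q14919 (flp_d L683138) q16837, e3 q14920 (flp_d L663643) q12649, e3 q14921 (flp_d L686382) q17157, e3 q14922 L663676 q13304, e3 q14923 L663683 q13305, e3 q14924 (flp_d L663704) q13032, e3 q14925 (flp_d L663706) q12662, e3 q14926 (flp_d L686440) q17161, e3 q14927 L663739 q13492, e3 q14928 L663758 q12704, e3 q14929 L663773 q14929, e3 q14930 L663788 q13562, e3 q14931 L663794 q13534, e3 q14932 L663817 q13560, e3 q14933 (flp_d L663820) q12671, e3 q14934 (flp_d L678188) q16381, e3 q14935 (flp_d L663849) q12674, e3 q14936 (flp_d L686525) q17167, e3 q14937 (flp_d L685118) q17019, e3 q14938 L663884 q12681, e3 q14939 L663891 q12676, e3 q14940 (flp_d L686277) q17149, e3 q14941 (flp_d L685161)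 q17024, e3 q14942 L663921 q12679, e3 q14943 (flp_d L685179) q17027, e3 q14944 L686649 q17178, e3 q14945 (flp_d L685203) q17029, e3 q14946 (flp_d L686564) q17171, e3 q14947 (flp_d L685231) q17033, e3 q14948 (flp_d L685259) q17035, e3 q14949 (flp_d L677625) q16328, e3 q14950 (flp_d L685290) q17039, e3 q14951 (flp_d L677714) q16337, e3 q14952 L664057 q12695, e3 q14953 L664061 q12698, e3 q14954 L664077 q12703, e3 q14955 (flp_d L686463) q17162, e3 q14956 (flp_d L664106) q12692, e3 q14957 (flp_d L686480) q17163, e3 q14958 L664146 q13533, e3 q14959 L664160 q13532, e3 q14960 L664173 q13536, e3 q14961 (flp_d L664185) q12699, e3 q14962 L686731 q17184, e3 q14963 L664217 q13535, e3 q14964 L686757 q17186, e3 q14965 (flp_d L686143) q17137, e3 q14966 L664250 q12707, e3 q14967 L686785 q17189, e3 q14968 (flp_d L664270) q12708, e3 q14969 (flp_d L664282) q12709, e3 q14970 L664302 q13538, e3 q14971 L686828 q17193, e3 q14972 (flp_d L664318) q12712, e3 q14973 (flp_d L677738) q16339, e3 q14974 (flp_d L664340) q12714, e3 q14975 L664358 q14975, trivial⟩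 (by decide +kernel)

theorem ce_d_234 : ∀ r, r < 64 → sm gd (Qf (14976 + r)) = Qf (tab Gen.d (14976 + r)) :=
  edges_tab (sm gd) Qf (tab Gen.d) 14976 [(14976, 15996), (14977, 12721), (14978, 15999), (14979, 12725), (14980, 12730), (14981, 12740), (14982, 17196), (14983, 12742), (14984, 12744), (14985, 17198), (14986, 12749), (14987, 12747), (14988, 17199), (14989, 13578), (14990, 12753), (14991, 12757), (14992, 12758), (14993, 17202), (14994, 12770), (14995, 12760), (14996, 12772), (14997, 14997), (14998, 12773), (14999, 12764), (15000, 12765), (15001, 17197), (15002, 17210), (15003, 16055), (15004, 16056), (15005, 13222), (15006, 17203), (15007, 17206), (15008, 13124), (15009, 17212), (15010, 12777), (15011, 17214), (15012, 16042), (15013, 12779), (15014, 12781), (15015, 17218), (15016, 12783), (15017, 12788), (15018, 12831), (15019, 17221), (15020, 17222), (15021, 12791), (15022, 17224), (15023, 12793), (15024, 12795), (15025, 17227), (15026, 12801), (15027, 12797), (15028, 12803), (15029, 13249), (15030, 17228), (15031,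 17229), (15032, 13637), (15033, 12805), (15034, 17234), (15035, 12807), (15036, 12809), (15037, 13623), (15038, 12812), (15039, 17236)]
    ⟨e3 q14976 (flp_d L673267) q15996, e3 q14977 (flp_d L664370) q12721, e3 q14978 (flp_d L673312) q15999, e3 q14979 (flp_d L664390) q12725, e3 q14980 (flp_d L664398) q12730, e3 q14981 (flp_d L664414) q12740, e3 q14982 (flp_d L686864) q17196, e3 q14983 L664450 q12742, e3 q14984 (flp_d L664456) q12744, e3 q14985 (flp_d L686890) q17198, e3 q14986 L664497 q12749, e3 q14987 L664503 q12747, e3 q14988 (flp_d L686904) q17199, e3 q14989 L664527 q13578, e3 q14990 L664543 q12753, e3 q14991 L664558 q12757, e3 q14992 (flp_d L664566) q12758, e3 q14993 (flp_d L686936) q17202, e3 q14994 L664599 q12770, e3 q14995 L664605 q12760, e3 q14996 L664615 q12772, e3 q14997 L664633 q14997, e3 q14998 L664638 q12773, e3 q14999 L664646 q12764, e3 q15000 L664656 q12765, e3 q15001 (flp_d L686882) q17197, e3 q15002 (flp_d L687025) q17210, e3 q15003 (flp_d L674129) q16055, e3 q15004 (flp_d L674143) q16056, e3 q15005 L664714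 q13222, e3 q15006 (flp_d L686946) q17203, e3 q15007 (flp_d L686985) q17206, e3 q15008 L664741 q13124, e3 q15009 L687043 q17212, e3 q15010 (flp_d L664764) q12777, e3 q15011 (flp_d L687077) q17214, e3 q15012 (flp_d L673933) q16042, e3 q15013 L664808 q12779, e3 q15014 (flp_d L664812) q12781, e3 q15015 (flp_d L687125) q17218, e3 q15016 L664840 q12783, e3 q15017 L664852 q12788, e3 q15018 L664864 q12831, e3 q15019 L687149 q17221, e3 q15020 L687159 q17222, e3 q15021 (flp_d L664887) q12791, e3 q15022 (flp_d L687192) q17224, e3 q15023 L664922 q12793, e3 q15024 (flp_d L664926) q12795, e3 q15025 (flp_d L687220) q17227, e3 q15026 L664956 q12801, e3 q15027 L664962 q12797, e3 q15028 L664972 q12803, e3 q15029 L664980 q13249, e3 q15030 (flp_d L687230) q17228, e3 q15031 (flp_d L687242) q17229, e3 q15032 L665023 q13637, e3 q15033 (flp_d L665025) q12805, e3 q15034 (flp_d L687305) q17234, e3 q15035 L665058 q12807, e3 q15036 L665071 q12809, e3 q15037 L665090 q13623, e3 q15038 (flp_d L665094) q12812, e3 q15039 (flp_d L687333) q17236, trivial⟩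 (by decide +kernel)

theorem ce_d_235 : ∀ r, r < 64 → sm gd (Qf (15040 + r)) = Qf (tab Gen.d (15040 + r)) :=
  edges_tab (sm gd) Qf (tab Gen.d) 15040 [(15040, 12814), (15041, 13088), (15042, 13091), (15043, 17216), (15044, 17241), (15045, 12818), (15046, 17245), (15047, 12841), (15048, 12979), (15049, 12820), (15050, 12844), (15051, 12822), (15052, 12846), (15053, 15053), (15054, 12847), (15055, 12832), (15056, 12833), (15057, 17219), (15058, 15058), (15059, 12849), (15060, 15060), (15061, 15061), (15062, 17268), (15063, 12834), (15064, 12835), (15065, 17225), (15066, 17260), (15067, 17261), (15068, 17269), (15069, 17270), (15070, 16153), (15071, 16085), (15072, 17243), (15073, 12840), (15074, 17246), (15075, 17276), (15076, 17248), (15077, 13014), (15078, 17252), (15079, 17253), (15080, 17256), (15081, 17280), (15082, 17239), (15083, 12850), (15084, 13280), (15085, 13282), (15086, 13287), (15087, 13288), (15088, 13290), (15089, 16669), (15090, 15984), (15091, 12862), (15092, 15092), (15093, 15093), (15094, 15094), (15095,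 17286), (15096, 15096), (15097, 17288), (15098, 12869), (15099, 17290), (15100, 17292), (15101, 12872), (15102, 17295), (15103, 12873)]
    ⟨e3 q15040 L665120 q12814, e3 q15041 L665132 q13088, e3 q15042 L665142 q13091, e3 q15043 (flp_d L687105) q17216, e3 q15044 L687383 q17241, e3 q15045 (flp_d L665168) q12818, e3 q15046 (flp_d L687433) q17245, e3 q15047 L665194 q12841, e3 q15048 L665200 q12979, e3 q15049 L665206 q12820, e3 q15050 L665220 q12844, e3 q15051 L665226 q12822, e3 q15052 L665236 q12846, e3 q15053 L665252 q15053, e3 q15054 L665257 q12847, e3 q15055 L665265 q12832, e3 q15056 L665275 q12833, e3 q15057 (flp_d L687139) q17219, e3 q15058 L665295 q15058, e3 q15059 L665302 q12849, e3 q15060 L665308 q15060, e3 q15061 L665313 q15061, e3 q15062 L687639 q17268, e3 q15063 L665324 q12834, e3 q15064 L665330 q12835, e3 q15065 (flp_d L687208) q17225, e3 q15066 (flp_d L687578) q17260, e3 q15067 (flp_d L687588) q17261, e3 q15068 (flp_d L687651) q17269, e3 q15069 (flp_d L687657) q17270, e3 q15070 (flp_d L675476) q16153, e3 q15071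 (flp_d L674530) q16085, e3 q15072 (flp_d L687415) q17243, e3 q15073 L665415 q12840, e3 q15074 (flp_d L687441) q17246, e3 q15075 L687713 q17276, e3 q15076 (flp_d L687457) q17248, e3 q15077 L665458 q13014, e3 q15078 (flp_d L687489) q17252, e3 q15079 (flp_d L687505) q17253, e3 q15080 (flp_d L687544) q17256, e3 q15081 L687761 q17280, e3 q15082 (flp_d L687365) q17239, e3 q15083 (flp_d L665512) q12850, e3 q15084 L665520 q13280, e3 q15085 L665535 q13282, e3 q15086 L665547 q13287, e3 q15087 L665557 q13288, e3 q15088 L665567 q13290, e3 q15089 (flp_d L681567) q16669, e3 q15090 (flp_d L673093) q15984, e3 q15091 (flp_d L665595) q12862, e3 q15092 L665616 q15092, e3 q15093 L665623 q15093, e3 q15094 L665636 q15094, e3 q15095 L687827 q17286, e3 q15096 L665658 q15096, e3 q15097 L687851 q17288, e3 q15098 (flp_d L665674) q12869, e3 q15099 L687870 q17290, e3 q15100 L687897 q17292, e3 q15101 (flp_d L665708) q12872, e3 q15102 (flp_d L687940) q17295, e3 q15103 (flp_d L665729) q12873, trivial⟩ (by decide +kernel)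

theorem ce_d_236 : ∀ r, r < 64 → sm gd (Qf (15104 + r)) = Qf (tab Gen.d (15104 + r)) :=
  edges_tab (sm gd) Qf (tab Gen.d) 15104 [(15104, 17296), (15105, 12875), (15106, 12974), (15107, 12878), (15108, 17299), (15109, 12889), (15110, 17217), (15111, 12880), (15112, 12891), (15113, 12882), (15114, 12893), (15115, 12894), (15116, 12989), (15117, 12896), (15118, 12897), (15119, 17313), (15120, 17300), (15121, 17302), (15122, 13015), (15123, 17305), (15124, 17306), (15125, 13018), (15126, 17308), (15127, 17309), (15128, 17322), (15129, 17311), (15130, 17324), (15131, 12898), (15132, 13359), (15133, 13361), (15134, 17328), (15135, 13365), (15136, 13366), (15137, 13660), (15138, 13368), (15139, 17332), (15140, 12907), (15141, 16851), (15142, 12909), (15143, 17289), (15144, 16910), (15145, 16911), (15146, 17334), (15147, 12915), (15148, 17337), (15149, 12916), (15150, 17338), (15151, 12918), (15152, 12998), (15153, 12921), (15154, 17342), (15155, 12922), (15156, 17344), (15157, 15157), (15158, 12924), (15159, 15159), (15160, 13442),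 (15161, 17348), (15162, 12928), (15163, 17352), (15164, 12948), (15165, 17226), (15166, 12930), (15167, 12951)]
    ⟨e3 q15104 (flp_d L687950) q17296, e3 q15105 L665762 q12875, e3 q15106 L665777 q12974, e3 q15107 (flp_d L665781) q12878, e3 q15108 (flp_d L687987) q17299, e3 q15109 L665811 q12889, e3 q15110 (flp_d L687115) q17217, e3 q15111 L665827 q12880, e3 q15112 L665840 q12891, e3 q15113 L665848 q12882, e3 q15114 L665857 q12893, e3 q15115 L665871 q12894, e3 q15116 L665887 q12989, e3 q15117 L665893 q12896, e3 q15118 L665910 q12897, e3 q15119 L688136 q17313, e3 q15120 (flp_d L687995) q17300, e3 q15121 (flp_d L688015) q17302, e3 q15122 L665947 q13015, e3 q15123 (flp_d L688041) q17305, e3 q15124 (flp_d L688056) q17306, e3 q15125 L665982 q13018, e3 q15126 (flp_d L688080) q17308, e3 q15127 (flp_d L688096) q17309, e3 q15128 L688231 q17322, e3 q15129 (flp_d L688120) q17311, e3 q15130 L688252 q17324, e3 q15131 (flp_d L666038) q12898, e3 q15132 L666048 q13359, e3 q15133 L666060 q13361, e3 q15134 L688286 q17328, e3 q15135 L666074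 q13365, e3 q15136 L666085 q13366, e3 q15137 L666098 q13660, e3 q15138 L666106 q13368, e3 q15139 L688328 q17332, e3 q15140 (flp_d L666117) q12907, e3 q15141 (flp_d L683325) q16851, e3 q15142 (flp_d L666138) q12909, e3 q15143 (flp_d L687868) q17289, e3 q15144 (flp_d L683960) q16910, e3 q15145 (flp_d L683974) q16911, e3 q15146 L688357 q17334, e3 q15147 (flp_d L666200) q12915, e3 q15148 (flp_d L688398) q17337, e3 q15149 (flp_d L666219) q12916, e3 q15150 (flp_d L688408) q17338, e3 q15151 L666252 q12918, e3 q15152 L666267 q12998, e3 q15153 (flp_d L666269) q12921, e3 q15154 (flp_d L688446) q17342, e3 q15155 (flp_d L666286) q12922, e3 q15156 (flp_d L688468) q17344, e3 q15157 L666321 q15157, e3 q15158 L666326 q12924, e3 q15159 L666336 q15159, e3 q15160 L666343 q13442, e3 q15161 L688503 q17348, e3 q15162 (flp_d L666356) q12928, e3 q15163 (flp_d L688541) q17352, e3 q15164 L666382 q12948, e3 q15165 (flp_d L687214) q17226, e3 q15166 L666392 q12930, e3 q15167 L666403 q12951, trivial⟩ (by decide +kernel)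

theorem ce_d_237 : ∀ r, r < 64 → sm gd (Qf (15168 + r)) = Qf (tab Gen.d (15168 + r)) :=
  edges_tab (sm gd) Qf (tab Gen.d) 15168 [(15168, 12941), (15169, 12932), (15170, 12953), (15171, 15171), (15172, 12954), (15173, 12943), (15174, 12944), (15175, 13468), (15176, 12957), (15177, 15177), (15178, 17373), (15179, 13336), (15180, 17362), (15181, 17363), (15182, 17369), (15183, 12945), (15184, 17376), (15185, 17350), (15186, 13747), (15187, 12947), (15188, 17353), (15189, 17385), (15190, 17355), (15191, 13748), (15192, 13732), (15193, 17359), (15194, 17361), (15195, 13720), (15196, 17047), (15197, 17365), (15198, 17394), (15199, 17048), (15200, 17396), (15201, 12958), (15202, 12959), (15203, 17400), (15204, 17401), (15205, 12961), (15206, 17405), (15207, 15207), (15208, 17399), (15209, 12963), (15210, 15210), (15211, 12965), (15212, 15212), (15213, 13790), (15214, 15214), (15215, 13416), (15216, 13764), (15217, 17297), (15218, 13733), (15219, 15219), (15220, 16207), (15221, 17426), (15222, 13351), (15223, 13353), (15224, 16917),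 (15225, 12975), (15226, 17432), (15227, 13008), (15228, 17244), (15229, 12977), (15230, 13011), (15231, 17442)]
    ⟨e3 q15168 L666416 q12941, e3 q15169 L666422 q12932, e3 q15170 L666429 q12953, e3 q15171 L666441 q15171, e3 q15172 L666448 q12954, e3 q15173 L666458 q12943, e3 q15174 L666466 q12944, e3 q15175 L666478 q13468, e3 q15176 L666484 q12957, e3 q15177 L666495 q15177, e3 q15178 L688729 q17373, e3 q15179 L666515 q13336, e3 q15180 (flp_d L688629) q17362, e3 q15181 (flp_d L688641) q17363, e3 q15182 (flp_d L688697) q17369, e3 q15183 (flp_d L666555) q12945, e3 q15184 (flp_d L688770) q17376, e3 q15185 (flp_d L688529) q17350, e3 q15186 L666597 q13747, e3 q15187 L666605 q12947, e3 q15188 (flp_d L688549) q17353, e3 q15189 L688863 q17385, e3 q15190 (flp_d L688567) q17355, e3 q15191 L666642 q13748, e3 q15192 L666656 q13732, e3 q15193 (flp_d L688595) q17359, e3 q15194 (flp_d L688618) q17361, e3 q15195 L666686 q13720, e3 q15196 (flp_d L685367) q17047, e3 q15197 (flp_d L688661) q17365, e3 q15198 L688952 q17394, e3 q15199 (flp_d L685381)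 q17048, e3 q15200 L688973 q17396, e3 q15201 (flp_d L666737) q12958, e3 q15202 (flp_d L666745) q12959, e3 q15203 (flp_d L689015) q17400, e3 q15204 L689021 q17401, e3 q15205 (flp_d L666776) q12961, e3 q15206 (flp_d L689065) q17405, e3 q15207 L666803 q15207, e3 q15208 (flp_d L689007) q17399, e3 q15209 L666814 q12963, e3 q15210 L666827 q15210, e3 q15211 L666832 q12965, e3 q15212 L666841 q15212, e3 q15213 (flp_d L666858) q13790, e3 q15214 L666864 q15214, e3 q15215 L666871 q13416, e3 q15216 L666881 q13764, e3 q15217 (flp_d L687967) q17297, e3 q15218 L666910 q13733, e3 q15219 L666918 q15219, e3 q15220 (flp_d L676159) q16207, e3 q15221 L689274 q17426, e3 q15222 L666940 q13351, e3 q15223 L666950 q13353, e3 q15224 (flp_d L684040) q16917, e3 q15225 (flp_d L666964) q12975, e3 q15226 (flp_d L689329) q17432, e3 q15227 L666986 q13008, e3 q15228 (flp_d L687425) q17244, e3 q15229 L666998 q12977, e3 q15230 L667006 q13011, e3 q15231 L689412 q17442, trivial⟩ (by decide +kernel)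

theorem ce_d_238 : ∀ r, r < 64 → sm gd (Qf (15232 + r)) = Qf (tab Gen.d (15232 + r)) :=
  edges_tab (sm gd) Qf (tab Gen.d) 15232 [(15232, 13013), (15233, 17249), (15234, 17250), (15235, 17304), (15236, 13016), (15237, 15237), (15238, 13017), (15239, 12999), (15240, 13000), (15241, 17307), (15242, 13019), (15243, 15243), (15244, 13020), (15245, 15245), (15246, 15246), (15247, 17465), (15248, 13001), (15249, 13002), (15250, 17339), (15251, 15251), (15252, 13022), (15253, 15253), (15254, 15254), (15255, 17474), (15256, 15256), (15257, 15257), (15258, 17478), (15259, 12995), (15260, 13003), (15261, 13004), (15262, 16240), (15263, 17455), (15264, 17466), (15265, 17467), (15266, 17480), (15267, 17430), (15268, 13007), (15269, 17433), (15270, 17486), (15271, 17435), (15272, 16195), (15273, 16368), (15274, 17439), (15275, 17491), (15276, 17441), (15277, 13012), (15278, 17495), (15279, 17497), (15280, 17484), (15281, 17449), (15282, 17451), (15283, 17500), (15284, 17458), (15285, 17502), (15286, 13021), (15287, 16357), (15288, 13023),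 (15289, 15289), (15290, 13037), (15291, 13499), (15292, 13364), (15293, 13286), (15294, 16216), (15295, 13509)]
    ⟨e3 q15232 L667020 q13013, e3 q15233 (flp_d L687465) q17249, e3 q15234 (flp_d L687477) q17250, e3 q15235 (flp_d L688037) q17304, e3 q15236 L667044 q13016, e3 q15237 L667060 q15237, e3 q15238 L667065 q13017, e3 q15239 L667074 q12999, e3 q15240 L667084 q13000, e3 q15241 (flp_d L688074) q17307, e3 q15242 L667102 q13019, e3 q15243 L667114 q15243, e3 q15244 L667121 q13020, e3 q15245 L667129 q15245, e3 q15246 L667134 q15246, e3 q15247 L689604 q17465, e3 q15248 L667149 q13001, e3 q15249 L667157 q13002, e3 q15250 (flp_d L688425) q17339, e3 q15251 L667180 q15251, e3 q15252 L667189 q13022, e3 q15253 L667200 q15253, e3 q15254 L667212 q15254, e3 q15255 L689691 q17474, e3 q15256 L667227 q15256, e3 q15257 L667232 q15257, e3 q15258 L689718 q17478, e3 q15259 (flp_d L667243) q12995, e3 q15260 L667252 q13003, e3 q15261 L667259 q13004, e3 q15262 (flp_d L676602) q16240, e3 q15263 (flp_d L689516) q17455, e3 q15264 (flp_d L689614)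 q17466, e3 q15265 (flp_d L689622) q17467, e3 q15266 (flp_d L689731) q17480, e3 q15267 (flp_d L689317) q17430, e3 q15268 L667319 q13007, e3 q15269 (flp_d L689336) q17433, e3 q15270 L689778 q17486, e3 q15271 (flp_d L689354) q17435, e3 q15272 (flp_d L675998) q16195, e3 q15273 (flp_d L678046) q16368, e3 q15274 (flp_d L689392) q17439, e3 q15275 L689819 q17491, e3 q15276 (flp_d L689408) q17441, e3 q15277 (flp_d L667390) q13012, e3 q15278 (flp_d L689848) q17495, e3 q15279 L689859 q17497, e3 q15280 (flp_d L689765) q17484, e3 q15281 (flp_d L689458) q17449, e3 q15282 (flp_d L689481) q17451, e3 q15283 L689885 q17500, e3 q15284 (flp_d L689552) q17458, e3 q15285 L689901 q17502, e3 q15286 (flp_d L667462) q13021, e3 q15287 (flp_d L677913) q16357, e3 q15288 (flp_d L667476) q13023, e3 q15289 L667486 q15289, e3 q15290 L667493 q13037, e3 q15291 L667500 q13499, e3 q15292 L667511 q13364, e3 q15293 L667527 q13286, e3 q15294 (flp_d L676281) q16216, e3 q15295 L667544 q13509, trivial⟩ (by decide +kernel)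

theorem ce_d_239 : ∀ r, r < 64 → sm gd (Qf (15296 + r)) = Qf (tab Gen.d (15296 + r)) :=
  edges_tab (sm gd) Qf (tab Gen.d) 15296 [(15296, 17159), (15297, 17508), (15298, 13035), (15299, 16841), (15300, 13036), (15301, 13510), (15302, 13645), (15303, 15998), (15304, 13042), (15305, 13047), (15306, 17510), (15307, 13048), (15308, 17511), (15309, 13053), (15310, 13050), (15311, 16502), (15312, 17512), (15313, 13084), (15314, 15314), (15315, 13057), (15316, 13059), (15317, 15317), (15318, 13066), (15319, 13065), (15320, 13099), (15321, 17522), (15322, 15322), (15323, 13069), (15324, 13070), (15325, 17525), (15326, 16141), (15327, 13073), (15328, 13083), (15329, 17513), (15330, 15983), (15331, 13080), (15332, 16532), (15333, 17529), (15334, 15334), (15335, 15335), (15336, 17517), (15337, 17238), (15338, 13106), (15339, 15339), (15340, 13090), (15341, 13110), (15342, 13111), (15343, 17518), (15344, 13113), (15345, 13573), (15346, 13114), (15347, 13575), (15348, 13576), (15349, 17542), (15350, 13100), (15351, 13101), (15352, 17200),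 (15353, 16062), (15354, 17543), (15355, 17532), (15356, 15356), (15357, 13125), (15358, 17535), (15359, 17548)]
    ⟨e3 q15296 (flp_d L686409) q17159, e3 q15297 L689954 q17508, e3 q15298 L667567 q13035, e3 q15299 (flp_d L683192) q16841, e3 q15300 (flp_d L667587) q13036, e3 q15301 L667604 q13510, e3 q15302 L667618 q13645, e3 q15303 (flp_d L673302) q15998, e3 q15304 (flp_d L667630) q13042, e3 q15305 (flp_d L667643) q13047, e3 q15306 (flp_d L689985) q17510, e3 q15307 (flp_d L667672) q13048, e3 q15308 (flp_d L689999) q17511, e3 q15309 L667708 q13053, e3 q15310 L667714 q13050, e3 q15311 L679710 q16502, e3 q15312 (flp_d L690013) q17512, e3 q15313 L667742 q13084, e3 q15314 L667751 q15314, e3 q15315 L667754 q13057, e3 q15316 L667760 q13059, e3 q15317 L667770 q15317, e3 q15318 L667775 q13066, e3 q15319 L667783 q13065, e3 q15320 L667793 q13099, e3 q15321 L690087 q17522, e3 q15322 L667811 q15322, e3 q15323 L667816 q13069, e3 q15324 (flp_d L667820) q13070, e3 q15325 (flp_d L690115) q17525, e3 q15326 (flp_d L675347) q16141, e3 q15327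 L667855 q13073, e3 q15328 L667865 q13083, e3 q15329 (flp_d L690023) q17513, e3 q15330 (flp_d L673077) q15983, e3 q15331 L667890 q13080, e3 q15332 (flp_d L680020) q16532, e3 q15333 L690145 q17529, e3 q15334 L667917 q15334, e3 q15335 L667926 q15335, e3 q15336 (flp_d L690054) q17517, e3 q15337 (flp_d L687355) q17238, e3 q15338 L667950 q13106, e3 q15339 L667954 q15339, e3 q15340 L667957 q13090, e3 q15341 L667963 q13110, e3 q15342 L667971 q13111, e3 q15343 (flp_d L690062) q17518, e3 q15344 L667981 q13113, e3 q15345 L667991 q13573, e3 q15346 L667997 q13114, e3 q15347 L668005 q13575, e3 q15348 L668013 q13576, e3 q15349 L690240 q17542, e3 q15350 L668027 q13100, e3 q15351 L668031 q13101, e3 q15352 (flp_d L686918) q17200, e3 q15353 (flp_d L674242) q16062, e3 q15354 (flp_d L690248) q17543, e3 q15355 (flp_d L690171) q17532, e3 q15356 L668077 q15356, e3 q15357 L668090 q13125, e3 q15358 (flp_d L690188) q17535, e3 q15359 L690293 q17548, trivial⟩ (by decide +kernel)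

theorem ce_d_240 : ∀ r, r < 64 → sm gd (Qf (15360 + r)) = Qf (tab Gen.d (15360 + r)) :=
  edges_tab (sm gd) Qf (tab Gen.d) 15360 [(15360, 17537), (15361, 17550), (15362, 13115), (15363, 13602), (15364, 16096), (15365, 16428), (15366, 16458), (15367, 17528), (15368, 17553), (15369, 13128), (15370, 17555), (15371, 13130), (15372, 17557), (15373, 13132), (15374, 17561), (15375, 13133), (15376, 17562), (15377, 13144), (15378, 13135), (15379, 13147), (15380, 13203), (15381, 16838), (15382, 17559), (15383, 13142), (15384, 16761), (15385, 17563), (15386, 13212), (15387, 16700), (15388, 16767), (15389, 17573), (15390, 13149), (15391, 17576), (15392, 15392), (15393, 13151), (15394, 15394), (15395, 15395), (15396, 13186), (15397, 13226), (15398, 13156), (15399, 17583), (15400, 13173), (15401, 13321), (15402, 13158), (15403, 13160), (15404, 15404), (15405, 13176), (15406, 13170), (15407, 13171), (15408, 13240), (15409, 13178), (15410, 15410), (15411, 13179), (15412, 15412), (15413, 17599), (15414, 17231), (15415, 17593), (15416, 17600),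 (15417, 17585), (15418, 13348), (15419, 13264), (15420, 17604), (15421, 17595), (15422, 17606), (15423, 13180)]
    ⟨e3 q15360 (flp_d L690202) q17537, e3 q15361 L690309 q17550, e3 q15362 (flp_d L668133) q13115, e3 q15363 (flp_d L668148) q13602, e3 q15364 L674697 q16096, e3 q15365 (flp_d L678826) q16428, e3 q15366 (flp_d L679206) q16458, e3 q15367 (flp_d L690142) q17528, e3 q15368 L690333 q17553, e3 q15369 (flp_d L668201) q13128, e3 q15370 (flp_d L690366) q17555, e3 q15371 L668234 q13130, e3 q15372 L690382 q17557, e3 q15373 (flp_d L668250) q13132, e3 q15374 (flp_d L690428) q17561, e3 q15375 (flp_d L668268) q13133, e3 q15376 (flp_d L690438) q17562, e3 q15377 L668304 q13144, e3 q15378 L668310 q13135, e3 q15379 L668320 q13147, e3 q15380 L668326 q13203, e3 q15381 (flp_d L683146) q16838, e3 q15382 (flp_d L690416) q17559, e3 q15383 L668353 q13142, e3 q15384 L682490 q16761, e3 q15385 (flp_d L690452) q17563, e3 q15386 L668381 q13212, e3 q15387 (flp_d L681903) q16700, e3 q15388 (flp_d L682536) q16767, e3 q15389 L690535 q17573, e3 q15390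 (flp_d L668405) q13149, e3 q15391 (flp_d L690555) q17576, e3 q15392 L668424 q15392, e3 q15393 L668427 q13151, e3 q15394 L668433 q15394, e3 q15395 L668440 q15395, e3 q15396 L668445 q13186, e3 q15397 L668451 q13226, e3 q15398 (flp_d L668455) q13156, e3 q15399 (flp_d L690601) q17583, e3 q15400 L668477 q13173, e3 q15401 L668481 q13321, e3 q15402 L668485 q13158, e3 q15403 L668491 q13160, e3 q15404 L668501 q15404, e3 q15405 L668506 q13176, e3 q15406 L668514 q13170, e3 q15407 L668520 q13171, e3 q15408 L668530 q13240, e3 q15409 L668534 q13178, e3 q15410 L668542 q15410, e3 q15411 L668547 q13179, e3 q15412 L668553 q15412, e3 q15413 L690706 q17599, e3 q15414 (flp_d L687266) q17231, e3 q15415 (flp_d L690669) q17593, e3 q15416 L690712 q17600, e3 q15417 (flp_d L690615) q17585, e3 q15418 L668591 q13348, e3 q15419 L668602 q13264, e3 q15420 L690739 q17604, e3 q15421 (flp_d L690685) q17595, e3 q15422 L690758 q17606, e3 q15423 (flp_d L668628) q13180, trivial⟩ (by decide +kernel)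

theorem ce_d_241 : ∀ r, r < 64 → sm gd (Qf (15424 + r)) = Qf (tab Gen.d (15424 + r)) :=
  edges_tab (sm gd) Qf (tab Gen.d) 15424 [(15424, 17505), (15425, 16542), (15426, 13184), (15427, 15427), (15428, 13188), (15429, 17610), (15430, 15430), (15431, 13190), (15432, 15432), (15433, 15433), (15434, 17556), (15435, 17615), (15436, 13194), (15437, 17618), (15438, 13207), (15439, 13391), (15440, 13196), (15441, 13198), (15442, 13211), (15443, 17564), (15444, 13213), (15445, 13214), (15446, 17627), (15447, 13204), (15448, 17628), (15449, 13206), (15450, 17620), (15451, 13409), (15452, 17568), (15453, 16843), (15454, 17632), (15455, 17625), (15456, 17634), (15457, 13215), (15458, 15458), (15459, 17436), (15460, 13218), (15461, 15461), (15462, 15462), (15463, 17578), (15464, 16437), (15465, 15465), (15466, 16023), (15467, 16092), (15468, 17646), (15469, 13766), (15470, 16142), (15471, 13227), (15472, 17649), (15473, 13257), (15474, 13446), (15475, 13229), (15476, 13260), (15477, 17658), (15478, 13262), (15479, 13451), (15480, 13452),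 (15481, 17588), (15482, 13265), (15483, 13266), (15484, 17589), (15485, 13268), (15486, 13617), (15487, 13269)]
    ⟨e3 q15424 (flp_d L689935) q17505, e3 q15425 (flp_d L680167) q16542, e3 q15426 (flp_d L668647) q13184, e3 q15427 L668658 q15427, e3 q15428 (flp_d L668659) q13188, e3 q15429 (flp_d L690788) q17610, e3 q15430 L668682 q15430, e3 q15431 L668687 q13190, e3 q15432 L668693 q15432, e3 q15433 L668702 q15433, e3 q15434 (flp_d L690378) q17556, e3 q15435 L690822 q17615, e3 q15436 (flp_d L668719) q13194, e3 q15437 (flp_d L690850) q17618, e3 q15438 L668745 q13207, e3 q15439 L668751 q13391, e3 q15440 L668757 q13196, e3 q15441 L668765 q13198, e3 q15442 L668775 q13211, e3 q15443 (flp_d L690462) q17564, e3 q15444 L668787 q13213, e3 q15445 L668795 q13214, e3 q15446 L690912 q17627, e3 q15447 (flp_d L668803) q13204, e3 q15448 (flp_d L690923) q17628, e3 q15449 L668825 q13206, e3 q15450 (flp_d L690868) q17620, e3 q15451 L668844 q13409, e3 q15452 (flp_d L690491) q17568, e3 q15453 (flp_d L683216) q16843, e3 q15454 L690956 q17632, e3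 q15455 (flp_d L690906) q17625, e3 q15456 L690973 q17634, e3 q15457 (flp_d L668896) q13215, e3 q15458 L668907 q15458, e3 q15459 (flp_d L689364) q17436, e3 q15460 L668914 q13218, e3 q15461 L668920 q15461, e3 q15462 L668929 q15462, e3 q15463 (flp_d L690570) q17578, e3 q15464 (flp_d L678939) q16437, e3 q15465 L668948 q15465, e3 q15466 (flp_d L673630) q16023, e3 q15467 L674641 q16092, e3 q15468 L691050 q17646, e3 q15469 L668969 q13766, e3 q15470 (flp_d L675363) q16142, e3 q15471 (flp_d L668979) q13227, e3 q15472 (flp_d L691069) q17649, e3 q15473 L668997 q13257, e3 q15474 L669003 q13446, e3 q15475 L669007 q13229, e3 q15476 L669015 q13260, e3 q15477 L691129 q17658, e3 q15478 L669027 q13262, e3 q15479 L669033 q13451, e3 q15480 L669039 q13452, e3 q15481 (flp_d L690637) q17588, e3 q15482 L669049 q13265, e3 q15483 L669057 q13266, e3 q15484 (flp_d L690643) q17589, e3 q15485 L669067 q13268, e3 q15486 L669077 q13617, e3 q15487 L669083 q13269, trivial⟩ (by decide +kernel)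

theorem ce_d_242 : ∀ r, r < 64 → sm gd (Qf (15488 + r)) = Qf (tab Gen.d (15488 + r)) :=
  edges_tab (sm gd) Qf (tab Gen.d) 15488 [(15488, 13619), (15489, 13620), (15490, 17674), (15491, 13250), (15492, 13251), (15493, 17230), (15494, 13624), (15495, 13271), (15496, 13626), (15497, 13627), (15498, 17682), (15499, 13629), (15500, 13630), (15501, 17685), (15502, 13246), (15503, 13252), (15504, 13253), (15505, 16112), (15506, 17675), (15507, 17676), (15508, 17687), (15509, 17647), (15510, 13256), (15511, 17650), (15512, 17652), (15513, 13491), (15514, 16840), (15515, 17655), (15516, 17695), (15517, 17657), (15518, 13261), (15519, 17699), (15520, 17701), (15521, 17504), (15522, 17665), (15523, 17703), (15524, 17667), (15525, 17705), (15526, 13270), (15527, 17707), (15528, 13272), (15529, 13653), (15530, 13285), (15531, 16595), (15532, 13524), (15533, 16647), (15534, 13363), (15535, 16667), (15536, 17155), (15537, 17281), (15538, 13281), (15539, 17716), (15540, 17691), (15541, 13284), (15542, 16385), (15543, 17282), (15544, 16671),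 (15545, 17719), (15546, 13291), (15547, 13667), (15548, 13293), (15549, 17708), (15550, 13670), (15551, 13671)]
    ⟨e3 q15488 L669091 q13619, e3 q15489 L669097 q13620, e3 q15490 L691239 q17674, e3 q15491 L669111 q13250, e3 q15492 L669117 q13251, e3 q15493 (flp_d L687256) q17230, e3 q15494 L669131 q13624, e3 q15495 L669137 q13271, e3 q15496 L669143 q13626, e3 q15497 L669149 q13627, e3 q15498 L691289 q17682, e3 q15499 L669161 q13629, e3 q15500 L669167 q13630, e3 q15501 L691309 q17685, e3 q15502 (flp_d L669177) q13246, e3 q15503 L669183 q13252, e3 q15504 L669187 q13253, e3 q15505 (flp_d L674945) q16112, e3 q15506 (flp_d L691247) q17675, e3 q15507 (flp_d L691253) q17676, e3 q15508 (flp_d L691319) q17687, e3 q15509 (flp_d L691059) q17647, e3 q15510 L669236 q13256, e3 q15511 (flp_d L691075) q17650, e3 q15512 (flp_d L691091) q17652, e3 q15513 L669261 q13491, e3 q15514 (flp_d L683177) q16840, e3 q15515 (flp_d L691113) q17655, e3 q15516 L691385 q17695, e3 q15517 (flp_d L691125) q17657, e3 q15518 (flp_d L669302) q13261, e3 q15519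 (flp_d L691421) q17699, e3 q15520 L691434 q17701, e3 q15521 (flp_d L689922) q17504, e3 q15522 (flp_d L691175) q17665, e3 q15523 L691450 q17703, e3 q15524 (flp_d L691189) q17667, e3 q15525 L691466 q17705, e3 q15526 (flp_d L669372) q13270, e3 q15527 L691480 q17707, e3 q15528 (flp_d L669386) q13272, e3 q15529 L669394 q13653, e3 q15530 L669403 q13285, e3 q15531 L680833 q16595, e3 q15532 L669421 q13524, e3 q15533 (flp_d L681302) q16647, e3 q15534 L669438 q13363, e3 q15535 (flp_d L681552) q16667, e3 q15536 L686363 q17155, e3 q15537 (flp_d L687772) q17281, e3 q15538 (flp_d L669471) q13281, e3 q15539 (flp_d L691553) q17716, e3 q15540 (flp_d L691355) q17691, e3 q15541 L669505 q13284, e3 q15542 (flp_d L678239) q16385, e3 q15543 (flp_d L687787) q17282, e3 q15544 (flp_d L681592) q16671, e3 q15545 L691584 q17719, e3 q15546 (flp_d L669555) q13291, e3 q15547 L669568 q13667, e3 q15548 (flp_d L669570) q13293, e3 q15549 (flp_d L691488) q17708, e3 q15550 L669584 q13670, e3 q15551 L669589 q13671, trivial⟩ (by decide +kernel)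

theorem ce_d_243 : ∀ r, r < 64 → sm gd (Qf (15552 + r)) = Qf (tab Gen.d (15552 + r)) :=
  edges_tab (sm gd) Qf (tab Gen.d) 15552 [(15552, 17722), (15553, 13297), (15554, 17725), (15555, 17560), (15556, 13299), (15557, 13301), (15558, 13397), (15559, 17158), (15560, 13306), (15561, 17730), (15562, 17731), (15563, 13308), (15564, 17734), (15565, 17729), (15566, 13310), (15567, 13375), (15568, 13312), (15569, 13374), (15570, 13376), (15571, 13433), (15572, 16916), (15573, 13317), (15574, 17744), (15575, 13342), (15576, 17582), (15577, 13319), (15578, 13345), (15579, 17753), (15580, 13347), (15581, 17586), (15582, 17587), (15583, 13453), (15584, 13349), (15585, 15585), (15586, 13350), (15587, 13337), (15588, 13338), (15589, 13459), (15590, 15590), (15591, 13352), (15592, 15592), (15593, 15593), (15594, 16971), (15595, 13339), (15596, 17370), (15597, 15597), (15598, 16947), (15599, 17774), (15600, 17764), (15601, 17765), (15602, 17742), (15603, 13341), (15604, 17745), (15605, 17778), (15606, 17747), (15607, 16839), (15608, 17420),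 (15609, 17781), (15610, 17752), (15611, 13346), (15612, 17783), (15613, 17427), (15614, 17760), (15615, 17428)]
    ⟨e3 q15552 L691606 q17722, e3 q15553 (flp_d L669607) q13297, e3 q15554 (flp_d L691634) q17725, e3 q15555 (flp_d L690422) q17560, e3 q15556 L669635 q13299, e3 q15557 L669643 q13301, e3 q15558 L669654 q13397, e3 q15559 (flp_d L686394) q17158, e3 q15560 (flp_d L669666) q13306, e3 q15561 (flp_d L691669) q17730, e3 q15562 L691673 q17731, e3 q15563 (flp_d L669687) q13308, e3 q15564 (flp_d L691697) q17734, e3 q15565 (flp_d L691665) q17729, e3 q15566 L669711 q13310, e3 q15567 L669726 q13375, e3 q15568 L669730 q13312, e3 q15569 L669739 q13374, e3 q15570 L669747 q13376, e3 q15571 L669757 q13433, e3 q15572 (flp_d L684025) q16916, e3 q15573 (flp_d L669770) q13317, e3 q15574 (flp_d L691776) q17744, e3 q15575 L669790 q13342, e3 q15576 (flp_d L690597) q17582, e3 q15577 L669798 q13319, e3 q15578 L669806 q13345, e3 q15579 L691839 q17753, e3 q15580 L669818 q13347, e3 q15581 (flp_d L690623) q17586, e3 q15582 (flp_d L690629) q17587,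 e3 q15583 L669836 q13453, e3 q15584 L669840 q13349, e3 q15585 L669852 q15585, e3 q15586 L669857 q13350, e3 q15587 L669866 q13337, e3 q15588 L669874 q13338, e3 q15589 L669886 q13459, e3 q15590 L669896 q15590, e3 q15591 L669901 q13352, e3 q15592 L669909 q15592, e3 q15593 L669914 q15593, e3 q15594 (flp_d L684622) q16971, e3 q15595 L669929 q13339, e3 q15596 (flp_d L688711) q17370, e3 q15597 L669947 q15597, e3 q15598 (flp_d L684382) q16947, e3 q15599 L691998 q17774, e3 q15600 (flp_d L691920) q17764, e3 q15601 (flp_d L691929) q17765, e3 q15602 (flp_d L691768) q17742, e3 q15603 L669991 q13341, e3 q15604 (flp_d L691783) q17745, e3 q15605 L692027 q17778, e3 q15606 (flp_d L691799) q17747, e3 q15607 (flp_d L683158) q16839, e3 q15608 (flp_d L689213) q17420, e3 q15609 L692055 q17781, e3 q15610 (flp_d L691835) q17752, e3 q15611 (flp_d L670067) q13346, e3 q15612 (flp_d L692081) q17783, e3 q15613 (flp_d L689286) q17427, e3 q15614 (flp_d L691887) q17760, e3 q15615 (flp_d L689297) q17428, trivial⟩ (by decide +kernel)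

theorem ce_d_244 : ∀ r, r < 64 → sm gd (Qf (15616 + r)) = Qf (tab Gen.d (15616 + r)) :=
  edges_tab (sm gd) Qf (tab Gen.d) 15616 [(15616, 16383), (15617, 17326), (15618, 17124), (15619, 17712), (15620, 17329), (15621, 13658), (15622, 16850), (15623, 13369), (15624, 17740), (15625, 17738), (15626, 13378), (15627, 17789), (15628, 13380), (15629, 17791), (15630, 17788), (15631, 13382), (15632, 13384), (15633, 16912), (15634, 13387), (15635, 17797), (15636, 13403), (15637, 17617), (15638, 13389), (15639, 13406), (15640, 17806), (15641, 13408), (15642, 17621), (15643, 17727), (15644, 13410), (15645, 13411), (15646, 17728), (15647, 13412), (15648, 13413), (15649, 17042), (15650, 13414), (15651, 17046), (15652, 17795), (15653, 13402), (15654, 17798), (15655, 16330), (15656, 17800), (15657, 15997), (15658, 17803), (15659, 17820), (15660, 17805), (15661, 13407), (15662, 17823), (15663, 17810), (15664, 17811), (15665, 17813), (15666, 17421), (15667, 13541), (15668, 13423), (15669, 13418), (15670, 13419), (15671, 17832), (15672, 13546),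 (15673, 17409), (15674, 13421), (15675, 13549), (15676, 17841), (15677, 13551), (15678, 17404), (15679, 17828)]
    ⟨e3 q15616 (flp_d L678207) q16383, e3 q15617 (flp_d L688273) q17326, e3 q15618 (flp_d L685995) q17124, e3 q15619 (flp_d L691515) q17712, e3 q15620 (flp_d L688305) q17329, e3 q15621 (flp_d L670167) q13658, e3 q15622 (flp_d L683305) q16850, e3 q15623 (flp_d L670179) q13369, e3 q15624 (flp_d L691749) q17740, e3 q15625 (flp_d L691729) q17738, e3 q15626 (flp_d L670212) q13378, e3 q15627 (flp_d L692140) q17789, e3 q15628 (flp_d L670228) q13380, e3 q15629 (flp_d L692156) q17791, e3 q15630 (flp_d L692134) q17788, e3 q15631 L670258 q13382, e3 q15632 L670266 q13384, e3 q15633 (flp_d L683990) q16912, e3 q15634 (flp_d L670279) q13387, e3 q15635 (flp_d L692204) q17797, e3 q15636 L670303 q13403, e3 q15637 (flp_d L690844) q17617, e3 q15638 L670315 q13389, e3 q15639 L670323 q13406, e3 q15640 L692273 q17806, e3 q15641 L670339 q13408, e3 q15642 (flp_d L690876) q17621, e3 q15643 (flp_d L691652) q17727, e3 q15644 L670357 q13410,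 e3 q15645 L670368 q13411, e3 q15646 (flp_d L691661) q17728, e3 q15647 L670382 q13412, e3 q15648 L670392 q13413, e3 q15649 (flp_d L685324) q17042, e3 q15650 L670410 q13414, e3 q15651 (flp_d L685355) q17046, e3 q15652 (flp_d L692192) q17795, e3 q15653 L670432 q13402, e3 q15654 (flp_d L692211) q17798, e3 q15655 (flp_d L677643) q16330, e3 q15656 (flp_d L692231) q17800, e3 q15657 (flp_d L673281) q15997, e3 q15658 (flp_d L692255) q17803, e3 q15659 L692392 q17820, e3 q15660 (flp_d L692269) q17805, e3 q15661 (flp_d L670506) q13407, e3 q15662 (flp_d L692419) q17823, e3 q15663 (flp_d L692303) q17810, e3 q15664 (flp_d L692314) q17811, e3 q15665 (flp_d L692334) q17813, e3 q15666 (flp_d L689223) q17421, e3 q15667 L670571 q13541, e3 q15668 L670575 q13423, e3 q15669 L670579 q13418, e3 q15670 (flp_d L670583) q13419, e3 q15671 (flp_d L692482) q17832, e3 q15672 L670605 q13546, e3 q15673 (flp_d L689097) q17409, e3 q15674 L670615 q13421, e3 q15675 L670623 q13549, e3 q15676 L692551 q17841, e3 q15677 L670639 q13551, e3 q15678 (flp_d L689057) q17404,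 e3 q15679 (flp_d L692457) q17828, trivial⟩ (by decide +kernel)

theorem ce_d_245 : ∀ r, r < 64 → sm gd (Qf (15680 + r)) = Qf (tab Gen.d (15680 + r)) :=
  edges_tab (sm gd) Qf (tab Gen.d) 15680 [(15680, 17737), (15681, 13553), (15682, 15682), (15683, 13554), (15684, 13763), (15685, 17739), (15686, 13555), (15687, 15687), (15688, 13556), (15689, 15689), (15690, 15690), (15691, 16992), (15692, 13778), (15693, 13779), (15694, 17346), (15695, 13557), (15696, 15696), (15697, 16995), (15698, 15698), (15699, 15699), (15700, 17869), (15701, 13780), (15702, 13781), (15703, 16257), (15704, 13486), (15705, 17648), (15706, 13444), (15707, 13488), (15708, 17879), (15709, 13490), (15710, 17235), (15711, 17653), (15712, 17750), (15713, 13493), (15714, 17888), (15715, 13495), (15716, 13449), (15717, 17892), (15718, 17894), (15719, 17898), (15720, 17662), (15721, 17663), (15722, 17902), (15723, 13500), (15724, 13714), (15725, 13501), (15726, 13716), (15727, 13717), (15728, 17910), (15729, 13481), (15730, 13482), (15731, 17364), (15732, 13721),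 (15733, 13503), (15734, 13723), (15735, 13724), (15736, 17920), (15737, 13726), (15738, 13727), (15739, 17924), (15740, 13465), (15741, 13483), (15742, 13484), (15743, 17358)]
    ⟨e3 q15680 (flp_d L691719) q17737, e3 q15681 L670661 q13553, e3 q15682 L670677 q15682, e3 q15683 L670682 q13554, e3 q15684 L670691 q13763, e3 q15685 (flp_d L691741) q17739, e3 q15686 L670707 q13555, e3 q15687 L670721 q15687, e3 q15688 L670726 q13556, e3 q15689 L670734 q15689, e3 q15690 L670741 q15690, e3 q15691 (flp_d L684834) q16992, e3 q15692 L670756 q13778, e3 q15693 L670764 q13779, e3 q15694 (flp_d L688490) q17346, e3 q15695 L670780 q13557, e3 q15696 L670787 q15696, e3 q15697 (flp_d L684861) q16995, e3 q15698 L670802 q15698, e3 q15699 L670809 q15699, e3 q15700 L692775 q17869, e3 q15701 L670824 q13780, e3 q15702 L670831 q13781, e3 q15703 (flp_d L676819) q16257, e3 q15704 L670847 q13486, e3 q15705 (flp_d L691065) q17648, e3 q15706 L670855 q13444, e3 q15707 L670862 q13488, e3 q15708 L692841 q17879, e3 q15709 L670878 q13490, e3 q15710 (flp_d L687325)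 q17235, e3 q15711 (flp_d L691099) q17653, e3 q15712 (flp_d L691825) q17750, e3 q15713 L670904 q13493, e3 q15714 L692903 q17888, e3 q15715 L670916 q13495, e3 q15716 (flp_d L670920) q13449, e3 q15717 (flp_d L692931) q17892, e3 q15718 (flp_d L692941) q17894, e3 q15719 L692965 q17898, e3 q15720 (flp_d L691155) q17662, e3 q15721 (flp_d L691161) q17663, e3 q15722 L692987 q17902, e3 q15723 L670958 q13500, e3 q15724 L670970 q13714, e3 q15725 L670976 q13501, e3 q15726 L670985 q13716, e3 q15727 L670993 q13717, e3 q15728 L693054 q17910, e3 q15729 L671009 q13481, e3 q15730 L671014 q13482, e3 q15731 (flp_d L688655) q17364, e3 q15732 L671033 q13721, e3 q15733 L671039 q13503, e3 q15734 L671047 q13723, e3 q15735 L671053 q13724, e3 q15736 L693129 q17920, e3 q15737 L671069 q13726, e3 q15738 L671077 q13727, e3 q15739 L693163 q17924, e3 q15740 (flp_d L671089) q13465, e3 q15741 L671097 q13483, e3 q15742 L671103 q13484, e3 q15743 (flp_d L688591) q17358, trivial⟩ (by decide +kernel)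

theorem ce_d_246 : ∀ r, r < 64 → sm gd (Qf (15744 + r)) = Qf (tab Gen.d (15744 + r)) :=
  edges_tab (sm gd) Qf (tab Gen.d) 15744 [(15744, 13734), (15745, 16341), (15746, 13736), (15747, 13737), (15748, 17932), (15749, 13473), (15750, 13740), (15751, 13741), (15752, 17935), (15753, 13476), (15754, 17936), (15755, 13485), (15756, 16268), (15757, 17911), (15758, 17912), (15759, 17926), (15760, 17873), (15761, 17878), (15762, 13489), (15763, 17939), (15764, 17940), (15765, 17887), (15766, 13494), (15767, 13565), (15768, 13497), (15769, 13498), (15770, 17904), (15771, 13502), (15772, 16331), (15773, 13504), (15774, 13752), (15775, 16847), (15776, 16848), (15777, 13516), (15778, 16879), (15779, 13656), (15780, 17787), (15781, 13530), (15782, 17822), (15783, 17417), (15784, 13547), (15785, 13540), (15786, 17825), (15787, 17958), (15788, 17827), (15789, 13552), (15790, 17946), (15791, 17830), (15792, 13545), (15793, 17833), (15794, 17964), (15795, 17835), (15796, 17953), (15797, 17838), (15798, 17967), (15799, 17840), (15800, 13550),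 (15801, 17970), (15802, 17848), (15803, 17850), (15804, 17854), (15805, 17969), (15806, 17941), (15807, 17877)]
    ⟨e3 q15744 L671117 q13734, e3 q15745 (flp_d L677768) q16341, e3 q15746 L671131 q13736, e3 q15747 L671137 q13737, e3 q15748 L693220 q17932, e3 q15749 (flp_d L671149) q13473, e3 q15750 L671160 q13740, e3 q15751 L671167 q13741, e3 q15752 L693242 q17935, e3 q15753 (flp_d L671178) q13476, e3 q15754 (flp_d L693254) q17936, e3 q15755 L671190 q13485, e3 q15756 (flp_d L676949) q16268, e3 q15757 (flp_d L693065) q17911, e3 q15758 (flp_d L693072) q17912, e3 q15759 (flp_d L693177) q17926, e3 q15760 (flp_d L692804) q17873, e3 q15761 (flp_d L692835) q17878, e3 q15762 (flp_d L671244) q13489, e3 q15763 (flp_d L693274) q17939, e3 q15764 L693280 q17940, e3 q15765 (flp_d L692899) q17887, e3 q15766 (flp_d L671288) q13494, e3 q15767 L671300 q13565, e3 q15768 L671304 q13497, e3 q15769 (flp_d L671308) q13498, e3 q15770 (flp_d L693002) q17904, e3 q15771 (flp_d L671327) q13502, e3 q15772 (flp_d L677653) q16331, e3 q15773 (flp_d L671350)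 q13504, e3 q15774 L671366 q13752, e3 q15775 (flp_d L683264) q16847, e3 q15776 (flp_d L683278) q16848, e3 q15777 L671393 q13516, e3 q15778 (flp_d L683636) q16879, e3 q15779 (flp_d L671414) q13656, e3 q15780 (flp_d L692128) q17787, e3 q15781 L671427 q13530, e3 q15782 (flp_d L692413) q17822, e3 q15783 (flp_d L689181) q17417, e3 q15784 L671451 q13547, e3 q15785 L671457 q13540, e3 q15786 (flp_d L692439) q17825, e3 q15787 L693421 q17958, e3 q15788 (flp_d L692451) q17827, e3 q15789 L671484 q13552, e3 q15790 (flp_d L693326) q17946, e3 q15791 (flp_d L692472) q17830, e3 q15792 L671505 q13545, e3 q15793 (flp_d L692489) q17833, e3 q15794 L693465 q17964, e3 q15795 (flp_d L692509) q17835, e3 q15796 (flp_d L693382) q17953, e3 q15797 (flp_d L692531) q17838, e3 q15798 L693486 q17967, e3 q15799 (flp_d L692547) q17840, e3 q15800 (flp_d L671566) q13550, e3 q15801 (flp_d L693506) q17970, e3 q15802 (flp_d L692597) q17848, e3 q15803 (flp_d L692620) q17850, e3 q15804 (flp_d L692659) q17854, e3 q15805 (flp_d L693502) q17969, e3 q15806 (flp_d L693292)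 q17941, e3 q15807 (flp_d L692829) q17877, trivial⟩ (by decide +kernel)

theorem ce_d_247 : ∀ r, r < 64 → sm gd (Qf (15808 + r)) = Qf (tab Gen.d (15808 + r)) :=
  edges_tab (sm gd) Qf (tab Gen.d) 15808 [(15808, 13704), (15809, 13757), (15810, 13572), (15811, 17538), (15812, 17540), (15813, 17976), (15814, 16057), (15815, 17977), (15816, 13586), (15817, 17551), (15818, 17981), (15819, 17982), (15820, 15820), (15821, 13593), (15822, 13594), (15823, 17983), (15824, 13596), (15825, 17984), (15826, 13598), (15827, 16404), (15828, 13600), (15829, 17978), (15830, 17546), (15831, 13603), (15832, 17509), (15833, 13607), (15834, 16549), (15835, 13609), (15836, 17635), (15837, 17668), (15838, 17669), (15839, 17671), (15840, 17672), (15841, 13638), (15842, 17233), (15843, 16613), (15844, 17678), (15845, 16548), (15846, 17680), (15847, 17992), (15848, 13628), (15849, 17683), (15850, 17215), (15851, 13631), (15852, 17993), (15853, 13640), (15854, 17994), (15855, 16358), (15856, 15856), (15857, 13643), (15858, 17998), (15859, 16154), (15860,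 17999), (15861, 13649), (15862, 17706), (15863, 13651), (15864, 13669), (15865, 17709), (15866, 17710), (15867, 18004), (15868, 13655), (15869, 17786), (15870, 18006), (15871, 17330)]
    ⟨e3 q15808 L671624 q13704, e3 q15809 L671628 q13757, e3 q15810 (flp_d L671630) q13572, e3 q15811 (flp_d L690210) q17538, e3 q15812 (flp_d L690226) q17540, e3 q15813 L693546 q17976, e3 q15814 (flp_d L674162) q16057, e3 q15815 L693558 q17977, e3 q15816 (flp_d L671684) q13586, e3 q15817 (flp_d L690321) q17551, e3 q15818 L693589 q17981, e3 q15819 L693600 q17982, e3 q15820 L671724 q15820, e3 q15821 (flp_d L671726) q13593, e3 q15822 (flp_d L671736) q13594, e3 q15823 L693610 q17983, e3 q15824 (flp_d L671757) q13596, e3 q15825 L693626 q17984, e3 q15826 (flp_d L671775) q13598, e3 q15827 L678487 q16404, e3 q15828 (flp_d L671792) q13600, e3 q15829 (flp_d L693573) q17978, e3 q15830 L690280 q17546, e3 q15831 (flp_d L671818) q13603, e3 q15832 (flp_d L689976) q17509, e3 q15833 (flp_d L671835) q13607, e3 q15834 (flp_d L680267) q16549, e3 q15835 (flp_d L671852)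 q13609, e3 q15836 (flp_d L690983) q17635, e3 q15837 (flp_d L691197) q17668, e3 q15838 (flp_d L691203) q17669, e3 q15839 (flp_d L691219) q17671, e3 q15840 (flp_d L691227) q17672, e3 q15841 L671893 q13638, e3 q15842 (flp_d L687288) q17233, e3 q15843 (flp_d L681021) q16613, e3 q15844 (flp_d L691267) q17678, e3 q15845 (flp_d L680249) q16548, e3 q15846 (flp_d L691279) q17680, e3 q15847 L693707 q17992, e3 q15848 (flp_d L671944) q13628, e3 q15849 (flp_d L691299) q17683, e3 q15850 (flp_d L687091) q17215, e3 q15851 (flp_d L671965) q13631, e3 q15852 (flp_d L693713) q17993, e3 q15853 (flp_d L671972) q13640, e3 q15854 (flp_d L693719) q17994, e3 q15855 (flp_d L677924) q16358, e3 q15856 L672001 q15856, e3 q15857 L672006 q13643, e3 q15858 L693743 q17998, e3 q15859 (flp_d L675496) q16154, e3 q15860 L693747 q17999, e3 q15861 (flp_d L672035) q13649, e3 q15862 (flp_d L691478) q17706, e3 q15863 (flp_d L672048) q13651, e3 q15864 L672059 q13669, e3 q15865 (flp_d L691495) q17709, e3 q15866 (flp_d L691499) q17710, e3 q15867 L693778 q18004, e3 q15868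 (flp_d L672080) q13655, e3 q15869 L692120 q17786, e3 q15870 L693797 q18006, e3 q15871 (flp_d L688317) q17330, trivial⟩ (by decide +kernel)

theorem ce_d_248 : ∀ r, r < 64 → sm gd (Qf (15872 + r)) = Qf (tab Gen.d (15872 + r)) :=
  edges_tab (sm gd) Qf (tab Gen.d) 15872 [(15872, 13659), (15873, 16011), (15874, 18009), (15875, 13663), (15876, 16557), (15877, 13665), (15878, 18000), (15879, 17721), (15880, 16392), (15881, 16559), (15882, 15988), (15883, 16543), (15884, 15982), (15885, 15991), (15886, 13686), (15887, 13688), (15888, 18016), (15889, 13692), (15890, 13693), (15891, 18019), (15892, 13695), (15893, 18021), (15894, 13680), (15895, 16008), (15896, 13682), (15897, 17325), (15898, 16006), (15899, 18014), (15900, 13687), (15901, 18023), (15902, 18017), (15903, 13753), (15904, 13690), (15905, 13691), (15906, 13694), (15907, 13696), (15908, 17041), (15909, 13725), (15910, 17034), (15911, 17974), (15912, 17944), (15913, 13718), (15914, 13707), (15915, 15915), (15916, 13708), (15917, 18033), (15918, 18035), (15919, 18040),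 (15920, 13709), (15921, 16282), (15922, 18043), (15923, 13712), (15924, 17903), (15925, 17905), (15926, 17906), (15927, 17908), (15928, 18048), (15929, 17381), (15930, 17914), (15931, 17915), (15932, 16007), (15933, 17917), (15934, 17918), (15935, 18053)]
    ⟨e3 q15872 (flp_d L672115) q13659, e3 q15873 L673472 q16011, e3 q15874 L693822 q18009, e3 q15875 (flp_d L672139) q13663, e3 q15876 L680374 q16557, e3 q15877 (flp_d L672155) q13665, e3 q15878 (flp_d L693760) q18000, e3 q15879 (flp_d L691604) q17721, e3 q15880 (flp_d L678306) q16392, e3 q15881 L680401 q16559, e3 q15882 L673158 q15988, e3 q15883 L680184 q16543, e3 q15884 L673068 q15982, e3 q15885 L673202 q15991, e3 q15886 L672223 q13686, e3 q15887 L672237 q13688, e3 q15888 L693900 q18016, e3 q15889 L672254 q13692, e3 q15890 L672268 q13693, e3 q15891 L693934 q18019, e3 q15892 L672289 q13695, e3 q15893 L693956 q18021, e3 q15894 (flp_d L672300) q13680, e3 q15895 (flp_d L673428) q16008, e3 q15896 (flp_d L672319) q13682, e3 q15897 (flp_d L688266) q17325, e3 q15898 (flp_d L673389)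 q16006, e3 q15899 (flp_d L693885) q18014, e3 q15900 (flp_d L672366) q13687, e3 q15901 (flp_d L693979) q18023, e3 q15902 (flp_d L693919) q18017, e3 q15903 L672398 q13753, e3 q15904 L672404 q13690, e3 q15905 (flp_d L672407) q13691, e3 q15906 (flp_d L672419) q13694, e3 q15907 (flp_d L672431) q13696, e3 q15908 (flp_d L685310) q17041, e3 q15909 L672460 q13725, e3 q15910 (flp_d L685251) q17034, e3 q15911 (flp_d L693534) q17974, e3 q15912 (flp_d L693313) q17944, e3 q15913 L672502 q13718, e3 q15914 L672507 q13707, e3 q15915 L672514 q15915, e3 q15916 L672517 q13708, e3 q15917 (flp_d L694064) q18033, e3 q15918 (flp_d L694074) q18035, e3 q15919 L694107 q18040, e3 q15920 (flp_d L672546) q13709, e3 q15921 (flp_d L677115) q16282, e3 q15922 L694131 q18043, e3 q15923 (flp_d L672575) q13712, e3 q15924 (flp_d L692996) q17903, e3 q15925 (flp_d L693011) q17905, e3 q15926 (flp_d L693019) q17906, e3 q15927 (flp_d L693039) q17908, e3 q15928 L694180 q18048, e3 q15929 (flp_d L688832) q17381, e3 q15930 (flp_d L693087) q17914, e3 q15931 (flp_d L693093)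 q17915, e3 q15932 (flp_d L673413) q16007, e3 q15933 (flp_d L693109) q17917, e3 q15934 (flp_d L693117) q17918, e3 q15935 L694220 q18053, trivial⟩ (by decide +kernel)

theorem ce_d_249 : ∀ r, r < 64 → sm gd (Qf (15936 + r)) = Qf (tab Gen.d (15936 + r)) :=
  edges_tab (sm gd) Qf (tab Gen.d) 15936 [(15936, 17921), (15937, 17922), (15938, 18056), (15939, 13728), (15940, 18057), (15941, 13749), (15942, 16284), (15943, 17415), (15944, 17423), (15945, 16377), (15946, 17929), (15947, 17930), (15948, 18063), (15949, 13738), (15950, 17933), (15951, 18065), (15952, 13742), (15953, 13744), (15954, 17380), (15955, 13756), (15956, 17907), (15957, 17945), (15958, 18024), (15959, 17040), (15960, 13772), (15961, 13788), (15962, 13775), (15963, 13792), (15964, 13793), (15965, 18067), (15966, 17861), (15967, 17862), (15968, 17870), (15969, 13785), (15970, 13794), (15971, 18068), (15972, 18073), (15973, 17418), (15974, 16849), (15975, 18070), (15976, 18077), (15977, 15977), (15978, 15978), (15979, 18080), (15980, 15980), (15981, 15981), (15982,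 15884), (15983, 15330), (15984, 15090), (15985, 14621), (15986, 15986), (15987, 15987), (15988, 15882), (15989, 13809), (15990, 18086), (15991, 15885), (15992, 15992), (15993, 15993), (15994, 18089), (15995, 13816), (15996, 14976), (15997, 15657), (15998, 15303), (15999, 14978)]
    ⟨e3 q15936 (flp_d L693143) q17921, e3 q15937 (flp_d L693151) q17922, e3 q15938 L694244 q18056, e3 q15939 (flp_d L672710) q13728, e3 q15940 (flp_d L694254) q18057, e3 q15941 L672726 q13749, e3 q15942 (flp_d L677155) q16284, e3 q15943 L689166 q17415, e3 q15944 (flp_d L689249) q17423, e3 q15945 (flp_d L678138) q16377, e3 q15946 (flp_d L693202) q17929, e3 q15947 (flp_d L693209) q17930, e3 q15948 L694304 q18063, e3 q15949 (flp_d L672797) q13738, e3 q15950 (flp_d L693231) q17933, e3 q15951 L694319 q18065, e3 q15952 (flp_d L672819) q13742, e3 q15953 L672829 q13744, e3 q15954 (flp_d L688814) q17380, e3 q15955 L672841 q13756, e3 q15956 (flp_d L693033) q17907, e3 q15957 (flp_d L693317) q17945, e3 q15958 (flp_d L693986) q18024, e3 q15959 (flp_d L685300)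 q17040, e3 q15960 L672867 q13772, e3 q15961 L672875 q13788, e3 q15962 L672881 q13775, e3 q15963 L672886 q13792, e3 q15964 L672893 q13793, e3 q15965 (flp_d L694332) q18067, e3 q15966 (flp_d L692715) q17861, e3 q15967 (flp_d L692723) q17862, e3 q15968 (flp_d L692783) q17870, e3 q15969 L672924 q13785, e3 q15970 L672931 q13794, e3 q15971 (flp_d L694340) q18068, e3 q15972 (flp_d L694372) q18073, e3 q15973 (flp_d L689191) q17418, e3 q15974 (flp_d L683295) q16849, e3 q15975 (flp_d L694352) q18070, e3 q15976 L694400 q18077, e3 q15977 L672984 q15977, e3 q15978 L672998 q15978, e3 q15979 L694439 q18080, e3 q15980 L673026 q15980, e3 q15981 L673042 q15981, e3 q15982 (flp_d L673068) q15884, e3 q15983 L673077 q15330, e3 q15984 L673093 q15090, e3 q15985 L673118 q14621, e3 q15986 L673128 q15986, e3 q15987 L673141 q15987, e3 q15988 (flp_d L673158) q15882, e3 q15989 (flp_d L673160) q13809, e3 q15990 L694545 q18086, e3 q15991 (flp_d L673202) q15885, e3 q15992 L673212 q15992, e3 q15993 L673227 q15993, e3 q15994 L694592 q18089, e3 q15995 (flp_d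 L673246) q13816, e3 q15996 L673267 q14976, e3 q15997 L673281 q15657, e3 q15998 L673302 q15303, e3 q15999 L673312 q14978, trivial⟩ (by decide +kernel)

theorem ce_d_250 : ∀ r, r < 64 → sm gd (Qf (16000 + r)) = Qf (tab Gen.d (16000 + r)) :=
  edges_tab (sm gd) Qf (tab Gen.d) 16000 [(16000, 14915), (16001, 14199), (16002, 16002), (16003, 18096), (16004, 13826), (16005, 14075), (16006, 15898), (16007, 15932), (16008, 15895), (16009, 16009), (16010, 16010), (16011, 15873), (16012, 16012), (16013, 16013), (16014, 18104), (16015, 16015), (16016, 18106), (16017, 13841), (16018, 18098), (16019, 13843), (16020, 14201), (16021, 13855), (16022, 18109), (16023, 15466), (16024, 13858), (16025, 18111), (16026, 13869), (16027, 13864), (16028, 13860), (16029, 13861), (16030, 18110), (16031, 13863), (16032, 18114), (16033, 13891), (16034, 18113), (16035, 13872), (16036, 18118), (16037, 13894), (16038, 13876), (16039, 14225), (16040, 14226), (16041, 14265), (16042, 15012), (16043, 13881), (16044, 18122), (16045, 16045), (16046, 13883), (16047,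 13885), (16048, 13895), (16049, 13889), (16050, 13890), (16051, 18115), (16052, 18127), (16053, 18128), (16054, 18132), (16055, 15003), (16056, 15004), (16057, 15814), (16058, 13901), (16059, 18133), (16060, 13898), (16061, 18136), (16062, 15353), (16063, 16063)]
    ⟨e3 q16000 L673325 q14915, e3 q16001 L673343 q14199, e3 q16002 L673351 q16002, e3 q16003 L694697 q18096, e3 q16004 (flp_d L673363) q13826, e3 q16005 L673379 q14075, e3 q16006 L673389 q15898, e3 q16007 L673413 q15932, e3 q16008 L673428 q15895, e3 q16009 L673435 q16009, e3 q16010 L673451 q16010, e3 q16011 (flp_d L673472) q15873, e3 q16012 L673478 q16012, e3 q16013 L673494 q16013, e3 q16014 L694821 q18104, e3 q16015 L673522 q16015, e3 q16016 L694846 q18106, e3 q16017 (flp_d L673536) q13841, e3 q16018 (flp_d L694739) q18098, e3 q16019 (flp_d L673560) q13843, e3 q16020 L673577 q14201, e3 q16021 (flp_d L673581) q13855, e3 q16022 (flp_d L694896) q18109, e3 q16023 L673630 q15466, e3 q16024 (flp_d L673634) q13858, e3 q16025 (flp_d L694930) q18111, e3 q16026 L673680 q13869,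 e3 q16027 L673692 q13864, e3 q16028 L673702 q13860, e3 q16029 (flp_d L673708) q13861, e3 q16030 (flp_d L694918) q18110, e3 q16031 L673746 q13863, e3 q16032 (flp_d L694977) q18114, e3 q16033 L673781 q13891, e3 q16034 (flp_d L694963) q18113, e3 q16035 (flp_d L673801) q13872, e3 q16036 (flp_d L695038) q18118, e3 q16037 L673851 q13894, e3 q16038 L673860 q13876, e3 q16039 L673878 q14225, e3 q16040 L673894 q14226, e3 q16041 L673915 q14265, e3 q16042 L673933 q15012, e3 q16043 (flp_d L673937) q13881, e3 q16044 (flp_d L695112) q18122, e3 q16045 L673986 q16045, e3 q16046 L673997 q13883, e3 q16047 L674011 q13885, e3 q16048 L674027 q13895, e3 q16049 L674045 q13889, e3 q16050 L674061 q13890, e3 q16051 (flp_d L694995) q18115, e3 q16052 (flp_d L695195) q18127, e3 q16053 (flp_d L695213) q18128, e3 q16054 L695270 q18132, e3 q16055 L674129 q15003, e3 q16056 L674143 q15004, e3 q16057 L674162 q15814, e3 q16058 L674173 q13901, e3 q16059 L695281 q18133, e3 q16060 (flp_d L674201) q13898, e3 q16061 (flp_d L695338) q18136, e3 q16062 L674242 q15353,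 e3 q16063 L674254 q16063, trivial⟩ (by decide +kernel)

theorem ce_d_251 : ∀ r, r < 64 → sm gd (Qf (16064 + r)) = Qf (tab Gen.d (16064 + r)) :=
  edges_tab (sm gd) Qf (tab Gen.d) 16064 [(16064, 13900), (16065, 13946), (16066, 18141), (16067, 13902), (16068, 18145), (16069, 13903), (16070, 18147), (16071, 13921), (16072, 13911), (16073, 13905), (16074, 13923), (16075, 16075), (16076, 13924), (16077, 13913), (16078, 13982), (16079, 18146), (16080, 13910), (16081, 18151), (16082, 18152), (16083, 13985), (16084, 18164), (16085, 15071), (16086, 18143), (16087, 13918), (16088, 18148), (16089, 18150), (16090, 18154), (16091, 18156), (16092, 15467), (16093, 14478), (16094, 14479), (16095, 14481), (16096, 15364), (16097, 13935), (16098, 14430), (16099, 18172), (16100, 13936), (16101, 18174), (16102, 13940), (16103, 13938), (16104, 18175), (16105, 13991), (16106, 18085), (16107, 13947), (16108, 18179), (16109, 13949), (16110, 13952), (16111, 13953), (16112, 15505), (16113, 18181), (16114, 18182), (16115, 18185), (16116, 14391), (16117,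 14392), (16118, 14453), (16119, 18188), (16120, 13962), (16121, 18191), (16122, 13963), (16123, 18192), (16124, 16124), (16125, 13965), (16126, 16126), (16127, 16127)]
    ⟨e3 q16064 L674265 q13900, e3 q16065 L674277 q13946, e3 q16066 L695411 q18141, e3 q16067 (flp_d L674305) q13902, e3 q16068 (flp_d L695477) q18145, e3 q16069 (flp_d L674331) q13903, e3 q16070 (flp_d L695507) q18147, e3 q16071 L674371 q13921, e3 q16072 L674381 q13911, e3 q16073 L674389 q13905, e3 q16074 L674395 q13923, e3 q16075 L674409 q16075, e3 q16076 L674418 q13924, e3 q16077 L674428 q13913, e3 q16078 L674442 q13982, e3 q16079 (flp_d L695497) q18146, e3 q16080 L674463 q13910, e3 q16081 (flp_d L695558) q18151, e3 q16082 (flp_d L695568) q18152, e3 q16083 L674509 q13985, e3 q16084 L695716 q18164, e3 q16085 L674530 q15071, e3 q16086 (flp_d L695457) q18143, e3 q16087 L674564 q13918, e3 q16088 (flp_d L695515) q18148, e3 q16089 (flp_d L695546) q18150, e3 q16090 (flp_d L695588) q18154, e3 q16091 (flp_d L695621) q18156, e3 q16092 (flp_d L674641) q15467, e3 q16093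 L674645 q14478, e3 q16094 L674661 q14479, e3 q16095 L674677 q14481, e3 q16096 (flp_d L674697) q15364, e3 q16097 L674707 q13935, e3 q16098 L674725 q14430, e3 q16099 L695837 q18172, e3 q16100 (flp_d L674752) q13936, e3 q16101 (flp_d L695878) q18174, e3 q16102 L674797 q13940, e3 q16103 L674809 q13938, e3 q16104 (flp_d L695894) q18175, e3 q16105 L674843 q13991, e3 q16106 (flp_d L694541) q18085, e3 q16107 (flp_d L674863) q13947, e3 q16108 (flp_d L695957) q18179, e3 q16109 L674899 q13949, e3 q16110 L674915 q13952, e3 q16111 L674929 q13953, e3 q16112 L674945 q15505, e3 q16113 (flp_d L695989) q18181, e3 q16114 (flp_d L696007) q18182, e3 q16115 L696047 q18185, e3 q16116 L675003 q14391, e3 q16117 L675018 q14392, e3 q16118 L675036 q14453, e3 q16119 L696101 q18188, e3 q16120 (flp_d L675055) q13962, e3 q16121 (flp_d L696157) q18191, e3 q16122 (flp_d L675083) q13963, e3 q16123 (flp_d L696171) q18192, e3 q16124 L675128 q16124, e3 q16125 L675137 q13965, e3 q16126 L675149 q16126, e3 q16127 L675164 q16127, trivial⟩ (by decide +kernel)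

theorem ce_d_252 : ∀ r, r < 64 → sm gd (Qf (16128 + r)) = Qf (tab Gen.d (16128 + r)) :=
  edges_tab (sm gd) Qf (tab Gen.d) 16128 [(16128, 18140), (16129, 13969), (16130, 18200), (16131, 13993), (16132, 14135), (16133, 13971), (16134, 13973), (16135, 13995), (16136, 13983), (16137, 13984), (16138, 18153), (16139, 13996), (16140, 14385), (16141, 15326), (16142, 15470), (16143, 13986), (16144, 13987), (16145, 18218), (16146, 18208), (16147, 18209), (16148, 18222), (16149, 18215), (16150, 18216), (16151, 18225), (16152, 13988), (16153, 15070), (16154, 15859), (16155, 18202), (16156, 14085), (16157, 18228), (16158, 14007), (16159, 18231), (16160, 14000), (16161, 18235), (16162, 14001), (16163, 18238), (16164, 16164), (16165, 16165), (16166, 14003), (16167, 16167), (16168, 16168), (16169, 14130), (16170, 18245), (16171, 14008), (16172, 18249), (16173, 14030), (16174, 18144), (16175, 14010), (16176, 14033), (16177, 14021), (16178, 14012), (16179, 14035), (16180, 16180), (16181, 14036), (16182, 14023), (16183, 14024), (16184, 14145),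 (16185, 14039), (16186, 16186), (16187, 18269), (16188, 18270), (16189, 18258), (16190, 18259), (16191, 14157)]
    ⟨e3 q16128 (flp_d L695407) q18140, e3 q16129 (flp_d L675179) q13969, e3 q16130 (flp_d L696281) q18200, e3 q16131 L675217 q13993, e3 q16132 L675227 q14135, e3 q16133 L675233 q13971, e3 q16134 L675247 q13973, e3 q16135 L675263 q13995, e3 q16136 L675279 q13983, e3 q16137 L675291 q13984, e3 q16138 (flp_d L695582) q18153, e3 q16139 L675313 q13996, e3 q16140 L675331 q14385, e3 q16141 L675347 q15326, e3 q16142 L675363 q15470, e3 q16143 L675371 q13986, e3 q16144 L675379 q13987, e3 q16145 L696525 q18218, e3 q16146 (flp_d L696393) q18208, e3 q16147 (flp_d L696405) q18209, e3 q16148 L696575 q18222, e3 q16149 (flp_d L696501) q18215, e3 q16150 (flp_d L696511) q18216, e3 q16151 L696617 q18225, e3 q16152 (flp_d L675467) q13988, e3 q16153 L675476 q15070, e3 q16154 L675496 q15859, e3 q16155 (flp_d L696313) q18202, e3 q16156 L675524 q14085, e3 q16157 L696651 q18228, e3 q16158 L675552 q14007, e3 q16159 L696690 q18231, e3 q16160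 (flp_d L675572) q14000, e3 q16161 (flp_d L696744) q18235, e3 q16162 (flp_d L675597) q14001, e3 q16163 (flp_d L696784) q18238, e3 q16164 L675631 q16164, e3 q16165 L675646 q16165, e3 q16166 L675653 q14003, e3 q16167 L675665 q16167, e3 q16168 L675679 q16168, e3 q16169 L675694 q14130, e3 q16170 L696870 q18245, e3 q16171 (flp_d L675713) q14008, e3 q16172 (flp_d L696928) q18249, e3 q16173 L675745 q14030, e3 q16174 (flp_d L695469) q18144, e3 q16175 L675761 q14010, e3 q16176 L675776 q14033, e3 q16177 L675787 q14021, e3 q16178 L675795 q14012, e3 q16179 L675802 q14035, e3 q16180 L675828 q16180, e3 q16181 L675835 q14036, e3 q16182 L675845 q14023, e3 q16183 L675855 q14024, e3 q16184 L675869 q14145, e3 q16185 L675879 q14039, e3 q16186 L675894 q16186, e3 q16187 L697165 q18269, e3 q16188 L697176 q18270, e3 q16189 (flp_d L697035) q18258, e3 q16190 (flp_d L697045) q18259, e3 q16191 L675954 q14157, trivial⟩ (by decide +kernel)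

theorem ce_d_253 : ∀ r, r < 64 → sm gd (Qf (16192 + r)) = Qf (tab Gen.d (16192 + r)) :=
  edges_tab (sm gd) Qf (tab Gen.d) 16192 [(16192, 18265), (16193, 18275), (16194, 14026), (16195, 15272), (16196, 18247), (16197, 14029), (16198, 18250), (16199, 18281), (16200, 18252), (16201, 14167), (16202, 14174), (16203, 18257), (16204, 14177), (16205, 18261), (16206, 18287), (16207, 15220), (16208, 18289), (16209, 14040), (16210, 14724), (16211, 14186), (16212, 14897), (16213, 14727), (16214, 14898), (16215, 18295), (16216, 15294), (16217, 18296), (16218, 18297), (16219, 14052), (16220, 14636), (16221, 14054), (16222, 16222), (16223, 14061), (16224, 18300), (16225, 18302), (16226, 14058), (16227, 18304), (16228, 14060), (16229, 14667), (16230, 18307), (16231, 14062), (16232, 18311), (16233, 14063), (16234, 18313), (16235, 16235), (16236, 14070), (16237, 14065), (16238, 16238), (16239, 14073), (16240, 15262), (16241, 18315), (16242, 18316), (16243, 14166), (16244, 18097), (16245, 18322), (16246, 18323), (16247, 18325), (16248, 14078),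 (16249, 18329), (16250, 14079), (16251, 18330), (16252, 16252), (16253, 16253), (16254, 14081), (16255, 16255)]
    ⟨e3 q16192 (flp_d L697119) q18265, e3 q16193 L697238 q18275, e3 q16194 (flp_d L675980) q14026, e3 q16195 L675998 q15272, e3 q16196 (flp_d L696912) q18247, e3 q16197 L676030 q14029, e3 q16198 (flp_d L696936) q18250, e3 q16199 L697321 q18281, e3 q16200 (flp_d L696964) q18252, e3 q16201 L676081 q14167, e3 q16202 L676100 q14174, e3 q16203 (flp_d L697024) q18257, e3 q16204 L676125 q14177, e3 q16205 (flp_d L697071) q18261, e3 q16206 L697399 q18287, e3 q16207 L676159 q15220, e3 q16208 L697425 q18289, e3 q16209 (flp_d L676178) q14040, e3 q16210 L676195 q14724, e3 q16211 L676216 q14186, e3 q16212 L676230 q14897, e3 q16213 L676239 q14727, e3 q16214 L676252 q14898, e3 q16215 L697511 q18295, e3 q16216 L676281 q15294, e3 q16217 L697527 q18296, e3 q16218 L697544 q18297, e3 q16219 (flp_d L676308) q14052, e3 q16220 L676329 q14636, e3 q16221 (flp_d L676332) q14054, e3 q16222 L676359 q16222, e3 q16223 L676370 q14061, e3 q16224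 L697594 q18300, e3 q16225 L697624 q18302, e3 q16226 (flp_d L676406) q14058, e3 q16227 (flp_d L697661) q18304, e3 q16228 L676441 q14060, e3 q16229 L676455 q14667, e3 q16230 L697698 q18307, e3 q16231 (flp_d L676477) q14062, e3 q16232 (flp_d L697750) q18311, e3 q16233 (flp_d L676500) q14063, e3 q16234 (flp_d L697776) q18313, e3 q16235 L676535 q16235, e3 q16236 L676552 q14070, e3 q16237 L676560 q14065, e3 q16238 L676572 q16238, e3 q16239 L676586 q14073, e3 q16240 L676602 q15262, e3 q16241 (flp_d L697804) q18315, e3 q16242 (flp_d L697820) q18316, e3 q16243 L676647 q14166, e3 q16244 (flp_d L694723) q18097, e3 q16245 L697899 q18322, e3 q16246 L697913 q18323, e3 q16247 L697940 q18325, e3 q16248 (flp_d L676701) q14078, e3 q16249 (flp_d L697990) q18329, e3 q16250 (flp_d L676722) q14079, e3 q16251 (flp_d L698002) q18330, e3 q16252 L676758 q16252, e3 q16253 L676775 q16253, e3 q16254 L676780 q14081, e3 q16255 L676792 q16255, trivial⟩ (by decide +kernel)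

theorem ce_d_254 : ∀ r, r < 64 → sm gd (Qf (16256 + r)) = Qf (tab Gen.d (16256 + r)) :=
  edges_tab (sm gd) Qf (tab Gen.d) 16256 [(16256, 16256), (16257, 15703), (16258, 18337), (16259, 14086), (16260, 18340), (16261, 14109), (16262, 18178), (16263, 14088), (16264, 14090), (16265, 14111), (16266, 14098), (16267, 14099), (16268, 15756), (16269, 18351), (16270, 14101), (16271, 14102), (16272, 18355), (16273, 18348), (16274, 18349), (16275, 18359), (16276, 18352), (16277, 18353), (16278, 18362), (16279, 14103), (16280, 14648), (16281, 14711), (16282, 15921), (16283, 18342), (16284, 15942), (16285, 18365), (16286, 14113), (16287, 18366), (16288, 14115), (16289, 18370), (16290, 18371), (16291, 14117), (16292, 18375), (16293, 16293), (16294, 18369), (16295, 14119), (16296, 16296), (16297, 16297), (16298, 14121), (16299, 16299), (16300, 14794), (16301, 16301), (16302, 16302), (16303, 16303), (16304, 18242), (16305, 16305), (16306, 14796), (16307, 18396), (16308, 16308), (16309, 16309), (16310, 18400), (16311, 14131), (16312, 18402),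 (16313, 14168), (16314, 18199), (16315, 14133), (16316, 14170), (16317, 18412), (16318, 14172), (16319, 18203)]
    ⟨e3 q16256 L676806 q16256, e3 q16257 L676819 q15703, e3 q16258 L698094 q18337, e3 q16259 (flp_d L676836) q14086, e3 q16260 (flp_d L698138) q18340, e3 q16261 L676870 q14109, e3 q16262 (flp_d L695947) q18178, e3 q16263 L676884 q14088, e3 q16264 L676896 q14090, e3 q16265 L676911 q14111, e3 q16266 L676925 q14098, e3 q16267 L676935 q14099, e3 q16268 L676949 q15756, e3 q16269 L698271 q18351, e3 q16270 L676972 q14101, e3 q16271 L676986 q14102, e3 q16272 L698330 q18355, e3 q16273 (flp_d L698241) q18348, e3 q16274 (flp_d L698253) q18349, e3 q16275 L698383 q18359, e3 q16276 (flp_d L698294) q18352, e3 q16277 (flp_d L698309) q18353, e3 q16278 L698422 q18362, e3 q16279 (flp_d L677078) q14103, e3 q16280 L677094 q14648, e3 q16281 L677107 q14711, e3 q16282 L677115 q15921, e3 q16283 (flp_d L698168) q18342, e3 q16284 L677155 q15942, e3 q16285 L698467 q18365, e3 q16286 (flp_d L677173) q14113, e3 q16287 L698482 q18366, e3 q16288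 (flp_d L677199) q14115, e3 q16289 (flp_d L698529) q18370, e3 q16290 L698534 q18371, e3 q16291 (flp_d L677230) q14117, e3 q16292 (flp_d L698580) q18375, e3 q16293 L677257 q16293, e3 q16294 (flp_d L698523) q18369, e3 q16295 L677270 q14119, e3 q16296 L677285 q16296, e3 q16297 L677301 q16297, e3 q16298 L677306 q14121, e3 q16299 L677313 q16299, e3 q16300 (flp_d L677338) q14794, e3 q16301 L677344 q16301, e3 q16302 L677351 q16302, e3 q16303 L677358 q16303, e3 q16304 (flp_d L696836) q18242, e3 q16305 L677379 q16305, e3 q16306 L677393 q14796, e3 q16307 L698819 q18396, e3 q16308 L677417 q16308, e3 q16309 L677430 q16309, e3 q16310 L698869 q18400, e3 q16311 (flp_d L677445) q14131, e3 q16312 (flp_d L698889) q18402, e3 q16313 L677473 q14168, e3 q16314 (flp_d L696269) q18199, e3 q16315 L677485 q14133, e3 q16316 L677493 q14170, e3 q16317 L698994 q18412, e3 q16318 L677511 q14172, e3 q16319 (flp_d L696329) q18203, trivial⟩ (by decide +kernel)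

theorem ce_d_255 : ∀ r, r < 64 → sm gd (Qf (16320 + r)) = Qf (tab Gen.d (16320 + r)) :=
  edges_tab (sm gd) Qf (tab Gen.d) 16320 [(16320, 18204), (16321, 18255), (16322, 14175), (16323, 14176), (16324, 14155), (16325, 14156), (16326, 18260), (16327, 14178), (16328, 14949), (16329, 14179), (16330, 15655), (16331, 15772), (16332, 18432), (16333, 14158), (16334, 14159), (16335, 18436), (16336, 14181), (16337, 14951), (16338, 18439), (16339, 14973), (16340, 14894), (16341, 15745), (16342, 14151), (16343, 14161), (16344, 14162), (16345, 18446), (16346, 14154), (16347, 18422), (16348, 18423), (16349, 18451), (16350, 18433), (16351, 18434), (16352, 18454), (16353, 14160), (16354, 18444), (16355, 18457), (16356, 14163), (16357, 15287), (16358, 15855), (16359, 18403), (16360, 18405), (16361, 18278), (16362, 18409), (16363, 18465), (16364, 18411), (16365, 14171), (16366, 18469), (16367, 18471), (16368, 15273), (16369, 18419), (16370, 18420), (16371, 18474), (16372, 18425), (16373, 18476), (16374, 14180), (16375, 18458), (16376, 14182),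 (16377, 15945), (16378, 14901), (16379, 14903), (16380, 18482), (16381, 14934), (16382, 14905), (16383, 15616)]
    ⟨e3 q16320 (flp_d L696339) q18204, e3 q16321 (flp_d L697000) q18255, e3 q16322 L677541 q14175, e3 q16323 L677556 q14176, e3 q16324 L677571 q14155, e3 q16325 L677583 q14156, e3 q16326 (flp_d L697061) q18260, e3 q16327 L677601 q14178, e3 q16328 L677625 q14949, e3 q16329 L677633 q14179, e3 q16330 L677643 q15655, e3 q16331 L677653 q15772, e3 q16332 L699231 q18432, e3 q16333 L677671 q14158, e3 q16334 L677679 q14159, e3 q16335 L699261 q18436, e3 q16336 L677699 q14181, e3 q16337 L677714 q14951, e3 q16338 L699301 q18439, e3 q16339 L677738 q14973, e3 q16340 L677752 q14894, e3 q16341 L677768 q15745, e3 q16342 (flp_d L677770) q14151, e3 q16343 L677781 q14161, e3 q16344 L677790 q14162, e3 q16345 L699384 q18446, e3 q16346 (flp_d L677805) q14154, e3 q16347 (flp_d L699107) q18422, e3 q16348 (flp_d L699118) q18423, e3 q16349 L699444 q18451, e3 q16350 (flp_d L699241) q18433, e3 q16351 (flp_d L699249) q18434, e3 q16352 L699471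 q18454, e3 q16353 (flp_d L677874) q14160, e3 q16354 (flp_d L699369) q18444, e3 q16355 L699497 q18457, e3 q16356 (flp_d L677899) q14163, e3 q16357 L677913 q15287, e3 q16358 L677924 q15855, e3 q16359 (flp_d L698898) q18403, e3 q16360 (flp_d L698924) q18405, e3 q16361 (flp_d L697290) q18278, e3 q16362 (flp_d L698964) q18409, e3 q16363 L699597 q18465, e3 q16364 (flp_d L698988) q18411, e3 q16365 (flp_d L677997) q14171, e3 q16366 (flp_d L699653) q18469, e3 q16367 L699676 q18471, e3 q16368 L678046 q15273, e3 q16369 (flp_d L699064) q18419, e3 q16370 (flp_d L699081) q18420, e3 q16371 L699708 q18474, e3 q16372 (flp_d L699145) q18425, e3 q16373 L699729 q18476, e3 q16374 (flp_d L678105) q14180, e3 q16375 (flp_d L699516) q18458, e3 q16376 (flp_d L678124) q14182, e3 q16377 L678138 q15945, e3 q16378 L678142 q14901, e3 q16379 L678158 q14903, e3 q16380 L699797 q18482, e3 q16381 L678188 q14934, e3 q16382 L678197 q14905, e3 q16383 L678207 q15616, trivial⟩ (by decide +kernel)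

theorem ce_d_256 : ∀ r, r < 64 → sm gd (Qf (16384 + r)) = Qf (tab Gen.d (16384 + r)) :=
  edges_tab (sm gd) Qf (tab Gen.d) 16384 [(16384, 18486), (16385, 15542), (16386, 14191), (16387, 14912), (16388, 18488), (16389, 14195), (16390, 18094), (16391, 14197), (16392, 15880), (16393, 14204), (16394, 16394), (16395, 14207), (16396, 14242), (16397, 16397), (16398, 18493), (16399, 14235), (16400, 16400), (16401, 14217), (16402, 16402), (16403, 16403), (16404, 15827), (16405, 14290), (16406, 18497), (16407, 14223), (16408, 18499), (16409, 14368), (16410, 18120), (16411, 14230), (16412, 18500), (16413, 14228), (16414, 18504), (16415, 14281), (16416, 18506), (16417, 14440), (16418, 14231), (16419, 18509), (16420, 14243), (16421, 14236), (16422, 14233), (16423, 14369), (16424, 18511), (16425, 14302), (16426, 16426), (16427, 14359), (16428, 15365), (16429, 14360), (16430, 18510), (16431, 14310), (16432, 14247), (16433, 18515), (16434, 16434), (16435, 16435), (16436, 14249), (16437, 15464), (16438, 14251), (16439, 18521), (16440, 14252),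 (16441, 18522), (16442, 14254), (16443, 14272), (16444, 14273), (16445, 14261), (16446, 14262), (16447, 14332)]
    ⟨e3 q16384 L699853 q18486, e3 q16385 L678239 q15542, e3 q16386 (flp_d L678242) q14191, e3 q16387 L678259 q14912, e3 q16388 L699875 q18488, e3 q16389 (flp_d L678272) q14195, e3 q16390 (flp_d L694681) q18094, e3 q16391 (flp_d L678289) q14197, e3 q16392 L678306 q15880, e3 q16393 L678318 q14204, e3 q16394 L678341 q16394, e3 q16395 L678350 q14207, e3 q16396 L678366 q14242, e3 q16397 L678385 q16397, e3 q16398 L699952 q18493, e3 q16399 L678408 q14235, e3 q16400 L678426 q16400, e3 q16401 L678435 q14217, e3 q16402 L678460 q16402, e3 q16403 L678466 q16403, e3 q16404 (flp_d L678487) q15827, e3 q16405 L678496 q14290, e3 q16406 L700022 q18497, e3 q16407 (flp_d L678519) q14223, e3 q16408 (flp_d L700065) q18499, e3 q16409 (flp_d L678564) q14368, e3 q16410 (flp_d L695074) q18120, e3 q16411 L678587 q14230, e3 q16412 L700073 q18500, e3 q16413 (flp_d L678612) q14228, e3 q16414 (flp_d L700147) q18504, e3 q16415 L678646 q14281,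 e3 q16416 L700170 q18506, e3 q16417 (flp_d L678680) q14440, e3 q16418 (flp_d L678682) q14231, e3 q16419 (flp_d L700227) q18509, e3 q16420 L678716 q14243, e3 q16421 L678732 q14236, e3 q16422 L678740 q14233, e3 q16423 L678754 q14369, e3 q16424 (flp_d L700259) q18511, e3 q16425 L678787 q14302, e3 q16426 L678797 q16426, e3 q16427 L678819 q14359, e3 q16428 L678826 q15365, e3 q16429 L678840 q14360, e3 q16430 (flp_d L700241) q18510, e3 q16431 L678873 q14310, e3 q16432 (flp_d L678876) q14247, e3 q16433 (flp_d L700317) q18515, e3 q16434 L678910 q16434, e3 q16435 L678917 q16435, e3 q16436 L678920 q14249, e3 q16437 L678939 q15464, e3 q16438 (flp_d L678941) q14251, e3 q16439 (flp_d L700391) q18521, e3 q16440 (flp_d L678970) q14252, e3 q16441 (flp_d L700409) q18522, e3 q16442 L679004 q14254, e3 q16443 L679010 q14272, e3 q16444 L679024 q14273, e3 q16445 L679036 q14261, e3 q16446 L679046 q14262, e3 q16447 L679058 q14332, trivial⟩ (by decide +kernel)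

theorem ce_d_257 : ∀ r, r < 64 → sm gd (Qf (16448 + r)) = Qf (tab Gen.d (16448 + r)) :=
  edges_tab (sm gd) Qf (tab Gen.d) 16448 [(16448, 14259), (16449, 14334), (16450, 18526), (16451, 18529), (16452, 18121), (16453, 14270), (16454, 14342), (16455, 18524), (16456, 18531), (16457, 14304), (16458, 15366), (16459, 14280), (16460, 18533), (16461, 14282), (16462, 18534), (16463, 16463), (16464, 14284), (16465, 18538), (16466, 14287), (16467, 18541), (16468, 16468), (16469, 16469), (16470, 14289), (16471, 14387), (16472, 14291), (16473, 18547), (16474, 14292), (16475, 18548), (16476, 14306), (16477, 14299), (16478, 14294), (16479, 14308), (16480, 16480), (16481, 14309), (16482, 14301), (16483, 18512), (16484, 18550), (16485, 18551), (16486, 18494), (16487, 18559), (16488, 18543), (16489, 18549), (16490, 18492), (16491, 18553), (16492, 18563), (16493, 18137), (16494, 14312), (16495, 18564), (16496, 14313), (16497, 18565), (16498, 16498), (16499, 16499), (16500, 14315), (16501, 16501), (16502, 15311), (16503, 16503), (16504, 16504),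 (16505, 16505), (16506, 18520), (16507, 16507), (16508, 14321), (16509, 14323), (16510, 16510), (16511, 14341)]
    ⟨e3 q16448 L679068 q14259, e3 q16449 L679088 q14334, e3 q16450 (flp_d L700453) q18526, e3 q16451 L700486 q18529, e3 q16452 (flp_d L695101) q18121, e3 q16453 L679137 q14270, e3 q16454 L679159 q14342, e3 q16455 (flp_d L700431) q18524, e3 q16456 L700510 q18531, e3 q16457 L679188 q14304, e3 q16458 L679206 q15366, e3 q16459 (flp_d L679209) q14280, e3 q16460 (flp_d L700545) q18533, e3 q16461 (flp_d L679238) q14282, e3 q16462 (flp_d L700557) q18534, e3 q16463 L679273 q16463, e3 q16464 L679278 q14284, e3 q16465 L700601 q18538, e3 q16466 (flp_d L679294) q14287, e3 q16467 (flp_d L700654) q18541, e3 q16468 L679320 q16468, e3 q16469 L679329 q16469, e3 q16470 L679334 q14289, e3 q16471 L679348 q14387, e3 q16472 (flp_d L679357) q14291, e3 q16473 (flp_d L700727) q18547, e3 q16474 (flp_d L679376) q14292, e3 q16475 (flp_d L700741) q18548, e3 q16476 L679412 q14306, e3 q16477 L679424 q14299, e3 q16478 L679430 q14294, e3 q16479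 L679436 q14308, e3 q16480 L679450 q16480, e3 q16481 L679457 q14309, e3 q16482 L679467 q14301, e3 q16483 (flp_d L700277) q18512, e3 q16484 (flp_d L700769) q18550, e3 q16485 (flp_d L700785) q18551, e3 q16486 (flp_d L699982) q18494, e3 q16487 L700866 q18559, e3 q16488 (flp_d L700691) q18543, e3 q16489 (flp_d L700755) q18549, e3 q16490 (flp_d L699949) q18492, e3 q16491 (flp_d L700803) q18553, e3 q16492 L700918 q18563, e3 q16493 (flp_d L695346) q18137, e3 q16494 (flp_d L679602) q14312, e3 q16495 (flp_d L700931) q18564, e3 q16496 (flp_d L679627) q14313, e3 q16497 (flp_d L700945) q18565, e3 q16498 L679665 q16498, e3 q16499 L679676 q16499, e3 q16500 L679679 q14315, e3 q16501 L679685 q16501, e3 q16502 (flp_d L679710) q15311, e3 q16503 L679716 q16503, e3 q16504 L679725 q16504, e3 q16505 L679734 q16505, e3 q16506 (flp_d L700381) q18520, e3 q16507 L679751 q16507, e3 q16508 L679754 q14321, e3 q16509 L679766 q14323, e3 q16510 L679784 q16510, e3 q16511 L679791 q14341, trivial⟩ (by decide +kernel)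

theorem ce_d_258 : ∀ r, r < 64 → sm gd (Qf (16512 + r)) = Qf (tab Gen.d (16512 + r)) :=
  edges_tab (sm gd) Qf (tab Gen.d) 16512 [(16512, 14333), (16513, 18523), (16514, 14343), (16515, 16515), (16516, 14344), (16517, 16517), (16518, 16518), (16519, 18585), (16520, 14335), (16521, 14336), (16522, 18588), (16523, 18589), (16524, 18138), (16525, 18586), (16526, 18590), (16527, 14337), (16528, 18592), (16529, 18580), (16530, 18594), (16531, 14345), (16532, 15332), (16533, 16533), (16534, 14350), (16535, 16535), (16536, 14354), (16537, 16537), (16538, 14412), (16539, 14415), (16540, 16540), (16541, 18171), (16542, 15425), (16543, 15883), (16544, 14363), (16545, 14365), (16546, 14406), (16547, 16547), (16548, 15845), (16549, 15834), (16550, 14372), (16551, 16551), (16552, 14640), (16553, 16553), (16554, 16554), (16555, 16555), (16556, 16556), (16557, 15876), (16558, 16558), (16559, 15881), (16560, 14383), (16561, 18212), (16562, 18213), (16563, 14507), (16564, 18606), (16565, 18608), (16566, 14388), (16567, 18610), (16568, 14390),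 (16569, 18186), (16570, 14398), (16571, 18613), (16572, 18615), (16573, 14395), (16574, 18619), (16575, 16575)]
    ⟨e3 q16512 L679801 q14333, e3 q16513 (flp_d L700423) q18523, e3 q16514 L679817 q14343, e3 q16515 L679843 q16515, e3 q16516 L679850 q14344, e3 q16517 L679862 q16517, e3 q16518 L679871 q16518, e3 q16519 L701161 q18585, e3 q16520 L679886 q14335, e3 q16521 L679892 q14336, e3 q16522 L701187 q18588, e3 q16523 L701193 q18589, e3 q16524 (flp_d L695380) q18138, e3 q16525 (flp_d L701171) q18586, e3 q16526 L701202 q18590, e3 q16527 (flp_d L679957) q14337, e3 q16528 L701219 q18592, e3 q16529 (flp_d L701105) q18580, e3 q16530 L701242 q18594, e3 q16531 (flp_d L680001) q14345, e3 q16532 L680020 q15332, e3 q16533 L680038 q16533, e3 q16534 L680048 q14350, e3 q16535 L680070 q16535, e3 q16536 L680079 q14354, e3 q16537 L680099 q16537, e3 q16538 L680108 q14412, e3 q16539 L680124 q14415, e3 q16540 L680141 q16540, e3 q16541 (flp_d L695835) q18171, e3 q16542 L680167 q15425, e3 q16543 (flp_d L680184) q15883, e3 q16544 (flp_d L680186)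 q14363, e3 q16545 L680206 q14365, e3 q16546 L680221 q14406, e3 q16547 L680239 q16547, e3 q16548 L680249 q15845, e3 q16549 L680267 q15834, e3 q16550 L680277 q14372, e3 q16551 L680292 q16551, e3 q16552 L680307 q14640, e3 q16553 L680322 q16553, e3 q16554 L680329 q16554, e3 q16555 L680351 q16555, e3 q16556 L680357 q16556, e3 q16557 (flp_d L680374) q15876, e3 q16558 L680383 q16558, e3 q16559 (flp_d L680401) q15881, e3 q16560 (flp_d L680403) q14383, e3 q16561 (flp_d L696453) q18212, e3 q16562 (flp_d L696469) q18213, e3 q16563 L680453 q14507, e3 q16564 L701430 q18606, e3 q16565 L701457 q18608, e3 q16566 (flp_d L680487) q14388, e3 q16567 (flp_d L701490) q18610, e3 q16568 L680514 q14390, e3 q16569 (flp_d L696070) q18186, e3 q16570 L680540 q14398, e3 q16571 L701519 q18613, e3 q16572 L701546 q18615, e3 q16573 (flp_d L680573) q14395, e3 q16574 (flp_d L701606) q18619, e3 q16575 L680601 q16575, trivial⟩ (by decide +kernel)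

theorem ce_d_259 : ∀ r, r < 64 → sm gd (Qf (16576 + r)) = Qf (tab Gen.d (16576 + r)) :=
  edges_tab (sm gd) Qf (tab Gen.d) 16576 [(16576, 16576), (16577, 14397), (16578, 14490), (16579, 18624), (16580, 14399), (16581, 18628), (16582, 14400), (16583, 18629), (16584, 14416), (16585, 14407), (16586, 14402), (16587, 14418), (16588, 14419), (16589, 14409), (16590, 14520), (16591, 18631), (16592, 18632), (16593, 14525), (16594, 18639), (16595, 15531), (16596, 18598), (16597, 18626), (16598, 14414), (16599, 18630), (16600, 14537), (16601, 18634), (16602, 18644), (16603, 18645), (16604, 18647), (16605, 14423), (16606, 18651), (16607, 14424), (16608, 18652), (16609, 16609), (16610, 16610), (16611, 14426), (16612, 16612), (16613, 15843), (16614, 16614), (16615, 16615), (16616, 16616), (16617, 14557), (16618, 18664), (16619, 14431), (16620, 18667), (16621, 14457), (16622, 14683), (16623, 14433), (16624, 14435), (16625, 14461), (16626, 14462), (16627, 14446), (16628, 14447), (16629, 14572), (16630, 14464), (16631, 18496), (16632, 14465),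 (16633, 18505), (16634, 18508), (16635, 18686), (16636, 14449), (16637, 14450), (16638, 18689), (16639, 14584)]
    ⟨e3 q16576 L680614 q16576, e3 q16577 L680621 q14397, e3 q16578 L680633 q14490, e3 q16579 L701662 q18624, e3 q16580 (flp_d L680655) q14399, e3 q16581 (flp_d L701710) q18628, e3 q16582 (flp_d L680677) q14400, e3 q16583 (flp_d L701722) q18629, e3 q16584 L680709 q14416, e3 q16585 L680723 q14407, e3 q16586 L680729 q14402, e3 q16587 L680735 q14418, e3 q16588 L680751 q14419, e3 q16589 L680759 q14409, e3 q16590 L680769 q14520, e3 q16591 (flp_d L701752) q18631, e3 q16592 (flp_d L701764) q18632, e3 q16593 L680806 q14525, e3 q16594 L701839 q18639, e3 q16595 (flp_d L680833) q15531, e3 q16596 (flp_d L701303) q18598, e3 q16597 (flp_d L701696) q18626, e3 q16598 L680866 q14414, e3 q16599 (flp_d L701736) q18630, e3 q16600 L680893 q14537, e3 q16601 (flp_d L701788) q18634, e3 q16602 L701910 q18644, e3 q16603 L701923 q18645, e3 q16604 L701948 q18647, e3 q16605 (flp_d L680945) q14423, e3 q16606 (flp_d L701990) q18651, e3 q16607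 (flp_d L680962) q14424, e3 q16608 (flp_d L702000) q18652, e3 q16609 L680990 q16609, e3 q16610 L680997 q16610, e3 q16611 L681000 q14426, e3 q16612 L681006 q16612, e3 q16613 L681021 q15843, e3 q16614 L681027 q16614, e3 q16615 L681038 q16615, e3 q16616 L681045 q16616, e3 q16617 L681052 q14557, e3 q16618 L702107 q18664, e3 q16619 (flp_d L681070) q14431, e3 q16620 (flp_d L702145) q18667, e3 q16621 L681094 q14457, e3 q16622 L681100 q14683, e3 q16623 L681104 q14433, e3 q16624 L681112 q14435, e3 q16625 L681118 q14461, e3 q16626 L681126 q14462, e3 q16627 L681132 q14446, e3 q16628 L681136 q14447, e3 q16629 L681146 q14572, e3 q16630 L681150 q14464, e3 q16631 (flp_d L700018) q18496, e3 q16632 L681162 q14465, e3 q16633 (flp_d L700168) q18505, e3 q16634 (flp_d L700211) q18508, e3 q16635 L702305 q18686, e3 q16636 L681194 q14449, e3 q16637 L681204 q14450, e3 q16638 L702335 q18689, e3 q16639 L681224 q14584, trivial⟩ (by decide +kernel)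

theorem ce_d_260 : ∀ r, r < 64 → sm gd (Qf (16640 + r)) = Qf (tab Gen.d (16640 + r)) :=
  edges_tab (sm gd) Qf (tab Gen.d) 16640 [(16640, 18677), (16641, 18678), (16642, 18692), (16643, 18687), (16644, 18694), (16645, 14451), (16646, 18187), (16647, 15533), (16648, 14715), (16649, 14456), (16650, 18668), (16651, 18699), (16652, 18670), (16653, 14720), (16654, 14602), (16655, 14604), (16656, 18675), (16657, 18704), (16658, 18680), (16659, 18705), (16660, 14466), (16661, 14725), (16662, 14612), (16663, 14527), (16664, 14874), (16665, 14594), (16666, 14899), (16667, 15535), (16668, 18291), (16669, 15089), (16670, 18170), (16671, 15544), (16672, 18600), (16673, 14482), (16674, 18711), (16675, 18683), (16676, 14487), (16677, 18714), (16678, 14489), (16679, 18716), (16680, 14491), (16681, 18720), (16682, 14492), (16683, 18721), (16684, 16684), (16685, 14494), (16686, 16686), (16687, 16687), (16688, 18611), (16689, 14747), (16690, 18728), (16691, 18730), (16692, 14500), (16693, 18734), (16694, 14501), (16695, 18736), (16696, 16696),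 (16697, 16697), (16698, 14503), (16699, 16699), (16700, 15387), (16701, 16701), (16702, 16702), (16703, 18622)]
    ⟨e3 q16640 (flp_d L702227) q18677, e3 q16641 (flp_d L702235) q18678, e3 q16642 L702364 q18692, e3 q16643 (flp_d L702319) q18687, e3 q16644 L702386 q18694, e3 q16645 (flp_d L681278) q14451, e3 q16646 (flp_d L696098) q18187, e3 q16647 L681302 q15533, e3 q16648 L681327 q14715, e3 q16649 L681335 q14456, e3 q16650 (flp_d L702153) q18668, e3 q16651 L702453 q18699, e3 q16652 (flp_d L702173) q18670, e3 q16653 L681381 q14720, e3 q16654 L681397 q14602, e3 q16655 L681408 q14604, e3 q16656 (flp_d L702211) q18675, e3 q16657 L702520 q18704, e3 q16658 (flp_d L702251) q18680, e3 q16659 L702527 q18705, e3 q16660 (flp_d L681453) q14466, e3 q16661 L681465 q14725, e3 q16662 L681486 q14612, e3 q16663 L681491 q14527, e3 q16664 L681510 q14874, e3 q16665 L681518 q14594, e3 q16666 L681531 q14899, e3 q16667 L681552 q15535, e3 q16668 (flp_d L697465) q18291, e3 q16669 L681567 q15089, e3 q16670 (flp_d L695810) q18170, e3 q16671 L681592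 q15544, e3 q16672 (flp_d L701344) q18600, e3 q16673 (flp_d L681607) q14482, e3 q16674 L702605 q18711, e3 q16675 (flp_d L702281) q18683, e3 q16676 (flp_d L681647) q14487, e3 q16677 (flp_d L702654) q18714, e3 q16678 L681678 q14489, e3 q16679 L702670 q18716, e3 q16680 (flp_d L681695) q14491, e3 q16681 (flp_d L702716) q18720, e3 q16682 (flp_d L681714) q14492, e3 q16683 (flp_d L702728) q18721, e3 q16684 L681747 q16684, e3 q16685 L681752 q14494, e3 q16686 L681758 q16686, e3 q16687 L681773 q16687, e3 q16688 (flp_d L701502) q18611, e3 q16689 L681789 q14747, e3 q16690 L702801 q18728, e3 q16691 L702826 q18730, e3 q16692 (flp_d L681819) q14500, e3 q16693 (flp_d L702868) q18734, e3 q16694 (flp_d L681838) q14501, e3 q16695 (flp_d L702893) q18736, e3 q16696 L681862 q16696, e3 q16697 L681871 q16697, e3 q16698 L681876 q14503, e3 q16699 L681882 q16699, e3 q16700 L681903 q15387, e3 q16701 L681911 q16701, e3 q16702 L681918 q16702, e3 q16703 (flp_d L701642) q18622, trivial⟩ (by decide +kernel)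

theorem ce_d_261 : ∀ r, r < 64 → sm gd (Qf (16704 + r)) = Qf (tab Gen.d (16704 + r)) :=
  edges_tab (sm gd) Qf (tab Gen.d) 16704 [(16704, 18747), (16705, 14508), (16706, 18751), (16707, 14530), (16708, 14763), (16709, 14510), (16710, 14533), (16711, 14521), (16712, 14512), (16713, 14535), (16714, 16714), (16715, 14536), (16716, 14523), (16717, 14524), (16718, 18633), (16719, 14538), (16720, 16720), (16721, 14539), (16722, 16722), (16723, 18773), (16724, 18774), (16725, 18759), (16726, 18760), (16727, 18602), (16728, 18767), (16729, 18779), (16730, 14526), (16731, 18707), (16732, 18749), (16733, 14787), (16734, 14529), (16735, 18752), (16736, 18754), (16737, 14792), (16738, 18642), (16739, 18738), (16740, 18758), (16741, 18599), (16742, 18762), (16743, 18763), (16744, 18792), (16745, 18769), (16746, 18794), (16747, 14540), (16748, 18796), (16749, 14542), (16750, 18800), (16751, 18801), (16752, 14544), (16753, 18805), (16754, 16754), (16755, 18799), (16756, 14546), (16757, 16757), (16758, 16758), (16759, 14548), (16760, 16760),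 (16761, 15384), (16762, 16762), (16763, 16763), (16764, 16764), (16765, 18657), (16766, 16766), (16767, 15388)]
    ⟨e3 q16704 L703006 q18747, e3 q16705 (flp_d L681941) q14508, e3 q16706 (flp_d L703048) q18751, e3 q16707 L681969 q14530, e3 q16708 L681977 q14763, e3 q16709 L681983 q14510, e3 q16710 L681997 q14533, e3 q16711 L682009 q14521, e3 q16712 L682015 q14512, e3 q16713 L682021 q14535, e3 q16714 L682033 q16714, e3 q16715 L682040 q14536, e3 q16716 L682048 q14523, e3 q16717 L682054 q14524, e3 q16718 (flp_d L701778) q18633, e3 q16719 L682070 q14538, e3 q16720 L682088 q16720, e3 q16721 L682093 q14539, e3 q16722 L682103 q16722, e3 q16723 L703253 q18773, e3 q16724 L703261 q18774, e3 q16725 (flp_d L703126) q18759, e3 q16726 (flp_d L703136) q18760, e3 q16727 (flp_d L701380) q18602, e3 q16728 (flp_d L703204) q18767, e3 q16729 L703318 q18779, e3 q16730 (flp_d L682178) q14526, e3 q16731 (flp_d L702554) q18707, e3 q16732 (flp_d L703034) q18749, e3 q16733 L682211 q14787, e3 q16734 L682219 q14529, e3 q16735 (flp_d L703056) q18752,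 e3 q16736 (flp_d L703076) q18754, e3 q16737 L682250 q14792, e3 q16738 (flp_d L701892) q18642, e3 q16739 L702926 q18738, e3 q16740 (flp_d L703114) q18758, e3 q16741 (flp_d L701326) q18599, e3 q16742 (flp_d L703154) q18762, e3 q16743 (flp_d L703170) q18763, e3 q16744 L703467 q18792, e3 q16745 (flp_d L703224) q18769, e3 q16746 L703485 q18794, e3 q16747 (flp_d L682348) q14540, e3 q16748 L703500 q18796, e3 q16749 (flp_d L682367) q14542, e3 q16750 (flp_d L703545) q18800, e3 q16751 L703550 q18801, e3 q16752 (flp_d L682399) q14544, e3 q16753 (flp_d L703596) q18805, e3 q16754 L682422 q16754, e3 q16755 (flp_d L703539) q18799, e3 q16756 L682431 q14546, e3 q16757 L682447 q16757, e3 q16758 L682458 q16758, e3 q16759 L682461 q14548, e3 q16760 L682467 q16760, e3 q16761 (flp_d L682490) q15384, e3 q16762 L682496 q16762, e3 q16763 L682501 q16763, e3 q16764 L682506 q16764, e3 q16765 (flp_d L702040) q18657, e3 q16766 L682525 q16766, e3 q16767 L682536 q15388, trivial⟩ (by decide +kernel)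

theorem ce_d_262 : ∀ r, r < 64 → sm gd (Qf (16768 + r)) = Qf (tab Gen.d (16768 + r)) :=
  edges_tab (sm gd) Qf (tab Gen.d) 16768 [(16768, 18825), (16769, 16769), (16770, 16770), (16771, 18828), (16772, 14558), (16773, 18830), (16774, 14595), (16775, 14826), (16776, 14560), (16777, 14598), (16778, 18839), (16779, 14600), (16780, 14831), (16781, 14832), (16782, 18673), (16783, 16783), (16784, 14603), (16785, 14582), (16786, 14583), (16787, 18674), (16788, 14605), (16789, 16789), (16790, 14606), (16791, 16791), (16792, 16792), (16793, 18858), (16794, 14585), (16795, 14586), (16796, 18862), (16797, 14608), (16798, 16798), (16799, 18865), (16800, 16800), (16801, 16801), (16802, 18868), (16803, 14578), (16804, 14588), (16805, 14589), (16806, 18872), (16807, 14581), (16808, 18849), (16809, 18875), (16810, 18859), (16811, 18860), (16812, 18878), (16813, 14587), (16814, 18870), (16815, 18880), (16816, 14590), (16817, 16817), (16818, 18883), (16819, 18832), (16820, 14879), (16821, 18697), (16822, 18836), (16823, 18889), (16824, 18838),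 (16825, 14599), (16826, 18893), (16827, 18895), (16828, 18896), (16829, 18897), (16830, 18851), (16831, 18899)]
    ⟨e3 q16768 L703780 q18825, e3 q16769 L682550 q16769, e3 q16770 L682557 q16770, e3 q16771 L703802 q18828, e3 q16772 (flp_d L682568) q14558, e3 q16773 (flp_d L703817) q18830, e3 q16774 L682592 q14595, e3 q16775 L682598 q14826, e3 q16776 L682602 q14560, e3 q16777 L682610 q14598, e3 q16778 L703905 q18839, e3 q16779 L682630 q14600, e3 q16780 L682638 q14831, e3 q16781 L682644 q14832, e3 q16782 (flp_d L702199) q18673, e3 q16783 L682666 q16783, e3 q16784 L682673 q14603, e3 q16785 L682683 q14582, e3 q16786 L682691 q14583, e3 q16787 (flp_d L702205) q18674, e3 q16788 L682707 q14605, e3 q16789 L682731 q16789, e3 q16790 L682738 q14606, e3 q16791 L682748 q16791, e3 q16792 L682753 q16792, e3 q16793 L704083 q18858, e3 q16794 L682766 q14585, e3 q16795 L682772 q14586, e3 q16796 L704107 q18862, e3 q16797 L682788 q14608, e3 q16798 L682802 q16798, e3 q16799 L704137 q18865, e3 q16800 L682815 q16800, e3 q16801 L682822 q16801, e3 q16802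 L704162 q18868, e3 q16803 (flp_d L682833) q14578, e3 q16804 L682841 q14588, e3 q16805 L682847 q14589, e3 q16806 L704185 q18872, e3 q16807 (flp_d L682859) q14581, e3 q16808 (flp_d L703993) q18849, e3 q16809 L704207 q18875, e3 q16810 (flp_d L704091) q18859, e3 q16811 (flp_d L704097) q18860, e3 q16812 L704239 q18878, e3 q16813 (flp_d L682911) q14587, e3 q16814 (flp_d L704171) q18870, e3 q16815 L704250 q18880, e3 q16816 (flp_d L682937) q14590, e3 q16817 L682945 q16817, e3 q16818 L704277 q18883, e3 q16819 (flp_d L703837) q18832, e3 q16820 L682970 q14879, e3 q16821 (flp_d L702438) q18697, e3 q16822 (flp_d L703871) q18836, e3 q16823 L704344 q18889, e3 q16824 (flp_d L703897) q18838, e3 q16825 (flp_d L683021) q14599, e3 q16826 (flp_d L704393) q18893, e3 q16827 L704408 q18895, e3 q16828 L704415 q18896, e3 q16829 L704429 q18897, e3 q16830 (flp_d L704015) q18851, e3 q16831 L704450 q18899, trivial⟩ (by decide +kernel)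

theorem ce_d_263 : ∀ r, r < 64 → sm gd (Qf (16832 + r)) = Qf (tab Gen.d (16832 + r)) :=
  edges_tab (sm gd) Qf (tab Gen.d) 16832 [(16832, 14607), (16833, 18226), (16834, 14609), (16835, 16835), (16836, 18294), (16837, 14919), (16838, 15381), (16839, 15607), (16840, 15514), (16841, 15299), (16842, 14618), (16843, 15453), (16844, 14728), (16845, 16845), (16846, 16846), (16847, 15775), (16848, 15776), (16849, 15974), (16850, 15622), (16851, 15141), (16852, 18907), (16853, 14638), (16854, 18908), (16855, 14642), (16856, 18912), (16857, 14643), (16858, 18914), (16859, 16859), (16860, 14645), (16861, 16861), (16862, 14746), (16863, 18918), (16864, 14650), (16865, 18921), (16866, 18627), (16867, 14652), (16868, 14659), (16869, 14654), (16870, 14661), (16871, 14662), (16872, 14773), (16873, 18929), (16874, 18925), (16875, 14780), (16876, 18927), (16877, 18932), (16878, 14664), (16879, 15778), (16880, 18933), (16881, 14668), (16882, 18937), (16883, 18938), (16884, 14670), (16885, 18941), (16886, 18936), (16887, 14672), (16888, 16888),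 (16889, 14674), (16890, 16890), (16891, 16891), (16892, 14815), (16893, 18950), (16894, 14679), (16895, 18953)]
    ⟨e3 q16832 (flp_d L683091) q14607, e3 q16833 (flp_d L696635) q18226, e3 q16834 (flp_d L683106) q14609, e3 q16835 L683116 q16835, e3 q16836 (flp_d L697508) q18294, e3 q16837 L683138 q14919, e3 q16838 L683146 q15381, e3 q16839 L683158 q15607, e3 q16840 L683177 q15514, e3 q16841 L683192 q15299, e3 q16842 (flp_d L683195) q14618, e3 q16843 L683216 q15453, e3 q16844 L683227 q14728, e3 q16845 L683243 q16845, e3 q16846 L683255 q16846, e3 q16847 L683264 q15775, e3 q16848 L683278 q15776, e3 q16849 L683295 q15974, e3 q16850 L683305 q15622, e3 q16851 L683325 q15141, e3 q16852 L704554 q18907, e3 q16853 (flp_d L683342) q14638, e3 q16854 L704569 q18908, e3 q16855 (flp_d L683361) q14642, e3 q16856 (flp_d L704623) q18912, e3 q16857 (flp_d L683386) q14643, e3 q16858 (flp_d L704649) q18914, e3 q16859 L683423 q16859, e3 q16860 L683430 q14645, e3 q16861 L683442 q16861, e3 q16862 L683457 q14746, e3 q16863 L704694 q18918, e3 q16864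 (flp_d L683472) q14650, e3 q16865 (flp_d L704736) q18921, e3 q16866 (flp_d L701704) q18627, e3 q16867 L683512 q14652, e3 q16868 L683529 q14659, e3 q16869 L683537 q14654, e3 q16870 L683548 q14661, e3 q16871 L683558 q14662, e3 q16872 L683572 q14773, e3 q16873 L704824 q18929, e3 q16874 (flp_d L704782) q18925, e3 q16875 L683605 q14780, e3 q16876 (flp_d L704808) q18927, e3 q16877 L704854 q18932, e3 q16878 (flp_d L683623) q14664, e3 q16879 L683636 q15778, e3 q16880 L704863 q18933, e3 q16881 (flp_d L683656) q14668, e3 q16882 (flp_d L704904) q18937, e3 q16883 L704909 q18938, e3 q16884 (flp_d L683687) q14670, e3 q16885 (flp_d L704951) q18941, e3 q16886 (flp_d L704898) q18936, e3 q16887 L683727 q14672, e3 q16888 L683744 q16888, e3 q16889 L683751 q14674, e3 q16890 L683762 q16890, e3 q16891 L683771 q16891, e3 q16892 L683784 q14815, e3 q16893 L705048 q18950, e3 q16894 (flp_d L683799) q14679, e3 q16895 (flp_d L705083) q18953, trivial⟩ (by decide +kernel)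

theorem ce_d_264 : ∀ r, r < 64 → sm gd (Qf (16896 + r)) = Qf (tab Gen.d (16896 + r)) :=
  edges_tab (sm gd) Qf (tab Gen.d) 16896 [(16896, 14714), (16897, 18666), (16898, 14681), (16899, 14717), (16900, 18961), (16901, 14719), (16902, 18671), (16903, 18672), (16904, 14833), (16905, 14721), (16906, 14700), (16907, 14701), (16908, 14839), (16909, 14722), (16910, 15144), (16911, 15145), (16912, 15633), (16913, 14703), (16914, 14704), (16915, 18977), (16916, 15572), (16917, 15224), (16918, 14706), (16919, 14707), (16920, 18980), (16921, 14699), (16922, 18935), (16923, 18969), (16924, 18984), (16925, 18974), (16926, 18975), (16927, 18987), (16928, 14705), (16929, 18978), (16930, 18990), (16931, 14708), (16932, 18288), (16933, 18363), (16934, 18951), (16935, 14713), (16936, 18955), (16937, 18696), (16938, 18960), (16939, 14718), (16940, 18992), (16941, 18993), (16942, 14732), (16943, 18996), (16944, 14733), (16945, 18997), (16946, 14735), (16947, 15598), (16948, 18999), (16949, 14738), (16950, 19003), (16951, 16951), (16952, 18719),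 (16953, 14740), (16954, 16954), (16955, 14742), (16956, 16956), (16957, 18916), (16958, 19011), (16959, 19012)]
    ⟨e3 q16896 L683827 q14714, e3 q16897 (flp_d L702141) q18666, e3 q16898 L683837 q14681, e3 q16899 L683845 q14717, e3 q16900 L705172 q18961, e3 q16901 L683873 q14719, e3 q16902 (flp_d L702181) q18671, e3 q16903 (flp_d L702187) q18672, e3 q16904 L683895 q14833, e3 q16905 L683905 q14721, e3 q16906 L683916 q14700, e3 q16907 L683924 q14701, e3 q16908 L683936 q14839, e3 q16909 L683944 q14722, e3 q16910 L683960 q15144, e3 q16911 L683974 q15145, e3 q16912 L683990 q15633, e3 q16913 L683998 q14703, e3 q16914 L684004 q14704, e3 q16915 L705356 q18977, e3 q16916 L684025 q15572, e3 q16917 L684040 q15224, e3 q16918 L684050 q14706, e3 q16919 L684059 q14707, e3 q16920 L705385 q18980, e3 q16921 (flp_d L684074) q14699, e3 q16922 (flp_d L704890) q18935, e3 q16923 (flp_d L705269) q18969, e3 q16924 L705425 q18984, e3 q16925 (flp_d L705338) q18974, e3 q16926 (flp_d L705346) q18975, e3 q16927 L705458 q18987, e3 q16928 (flp_d L684135)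 q14705, e3 q16929 (flp_d L705370) q18978, e3 q16930 L705488 q18990, e3 q16931 (flp_d L684164) q14708, e3 q16932 L697423 q18288, e3 q16933 (flp_d L698447) q18363, e3 q16934 (flp_d L705071) q18951, e3 q16935 L684213 q14713, e3 q16936 (flp_d L705114) q18955, e3 q16937 (flp_d L702418) q18696, e3 q16938 (flp_d L705164) q18960, e3 q16939 (flp_d L684276) q14718, e3 q16940 (flp_d L705518) q18992, e3 q16941 L705526 q18993, e3 q16942 (flp_d L684322) q14732, e3 q16943 (flp_d L705568) q18996, e3 q16944 (flp_d L684344) q14733, e3 q16945 (flp_d L705580) q18997, e3 q16946 L684371 q14735, e3 q16947 L684382 q15598, e3 q16948 L705595 q18999, e3 q16949 (flp_d L684396) q14738, e3 q16950 (flp_d L705637) q19003, e3 q16951 L684419 q16951, e3 q16952 (flp_d L702710) q18719, e3 q16953 L684430 q14740, e3 q16954 L684445 q16954, e3 q16955 L684450 q14742, e3 q16956 L684459 q16956, e3 q16957 (flp_d L704675) q18916, e3 q16958 L705697 q19011, e3 q16959 L705703 q19012, trivial⟩ (by decide +kernel)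

theorem ce_d_265 : ∀ r, r < 64 → sm gd (Qf (16960 + r)) = Qf (tab Gen.d (16960 + r)) :=
  edges_tab (sm gd) Qf (tab Gen.d) 16960 [(16960, 14748), (16961, 19016), (16962, 19017), (16963, 14750), (16964, 19020), (16965, 19015), (16966, 14752), (16967, 16967), (16968, 14754), (16969, 16969), (16970, 16970), (16971, 15594), (16972, 19029), (16973, 14759), (16974, 19032), (16975, 14786), (16976, 18750), (16977, 14761), (16978, 14789), (16979, 19040), (16980, 14791), (16981, 18755), (16982, 18756), (16983, 18924), (16984, 16984), (16985, 14793), (16986, 14778), (16987, 14779), (16988, 18926), (16989, 14795), (16990, 16990), (16991, 16991), (16992, 15691), (16993, 14781), (16994, 19056), (16995, 15697), (16996, 19057), (16997, 14777), (16998, 19049), (16999, 19050), (17000, 19061), (17001, 19062), (17002, 14782), (17003, 17003), (17004, 19030), (17005, 18090), (17006, 14785), (17007, 19067), (17008, 19034), (17009, 18783), (17010, 18388), (17011, 19071), (17012, 19039), (17013, 14790), (17014, 19074), (17015, 18389), (17016, 19075),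 (17017, 14798), (17018, 19079), (17019, 14937), (17020, 14805), (17021, 14800), (17022, 14801), (17023, 19088)]
    ⟨e3 q16960 (flp_d L684490) q14748, e3 q16961 (flp_d L705758) q19016, e3 q16962 L705763 q19017, e3 q16963 (flp_d L684525) q14750, e3 q16964 (flp_d L705811) q19020, e3 q16965 (flp_d L705752) q19015, e3 q16966 L684565 q14752, e3 q16967 L684582 q16967, e3 q16968 L684589 q14754, e3 q16969 L684600 q16969, e3 q16970 L684609 q16970, e3 q16971 L684622 q15594, e3 q16972 L705908 q19029, e3 q16973 (flp_d L684637) q14759, e3 q16974 (flp_d L705945) q19032, e3 q16975 L684667 q14786, e3 q16976 (flp_d L703042) q18750, e3 q16977 L684681 q14761, e3 q16978 L684689 q14789, e3 q16979 L706024 q19040, e3 q16980 L684715 q14791, e3 q16981 (flp_d L703086) q18755, e3 q16982 (flp_d L703094) q18756, e3 q16983 (flp_d L704772) q18924, e3 q16984 L684756 q16984, e3 q16985 L684765 q14793, e3 q16986 L684774 q14778, e3 q16987 L684782 q14779, e3 q16988 (flp_d L704798) q18926, e3 q16989 L684800 q14795, e3 q16990 L684812 q16990, e3 q16991 L684821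 q16991, e3 q16992 L684834 q15691, e3 q16993 L684842 q14781, e3 q16994 L706189 q19056, e3 q16995 L684861 q15697, e3 q16996 L706197 q19057, e3 q16997 (flp_d L684876) q14777, e3 q16998 (flp_d L706128) q19049, e3 q16999 (flp_d L706135) q19050, e3 q17000 L706232 q19061, e3 q17001 L706240 q19062, e3 q17002 (flp_d L684918) q14782, e3 q17003 L684931 q17003, e3 q17004 (flp_d L705929) q19030, e3 q17005 (flp_d L694616) q18090, e3 q17006 L684963 q14785, e3 q17007 L706301 q19067, e3 q17008 (flp_d L705972) q19034, e3 q17009 (flp_d L703364) q18783, e3 q17010 (flp_d L698725) q18388, e3 q17011 L706356 q19071, e3 q17012 (flp_d L706016) q19039, e3 q17013 (flp_d L685049) q14790, e3 q17014 (flp_d L706398) q19074, e3 q17015 (flp_d L698741) q18389, e3 q17016 L706403 q19075, e3 q17017 (flp_d L685099) q14798, e3 q17018 (flp_d L706450) q19079, e3 q17019 L685118 q14937, e3 q17020 L685124 q14805, e3 q17021 L685128 q14800, e3 q17022 (flp_d L685133) q14801, e3 q17023 (flp_d L706518) q19088, trivial⟩ (by decide +kernel)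

theorem ce_d_266 : ∀ r, r < 64 → sm gd (Qf (17024 + r)) = Qf (tab Gen.d (17024 + r)) :=
  edges_tab (sm gd) Qf (tab Gen.d) 17024 [(17024, 14941), (17025, 19078), (17026, 14803), (17027, 14943), (17028, 19097), (17029, 14945), (17030, 19083), (17031, 19084), (17032, 18944), (17033, 14947), (17034, 15910), (17035, 14948), (17036, 17036), (17037, 17037), (17038, 18947), (17039, 14950), (17040, 15959), (17041, 15908), (17042, 15649), (17043, 17043), (17044, 17044), (17045, 19118), (17046, 15651), (17047, 15196), (17048, 15199), (17049, 19122), (17050, 17050), (17051, 17051), (17052, 19125), (17053, 14822), (17054, 14873), (17055, 18829), (17056, 14824), (17057, 14876), (17058, 19136), (17059, 14878), (17060, 18833), (17061, 18834), (17062, 18958), (17063, 14881), (17064, 19145), (17065, 14883), (17066, 14829), (17067, 19149), (17068, 19151), (17069, 19155), (17070, 18843), (17071, 18844), (17072, 19159), (17073, 14888), (17074, 17074), (17075, 14889), (17076, 17076), (17077, 17077), (17078, 19167), (17079, 14861), (17080, 14862),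 (17081, 19171), (17082, 14891), (17083, 17083), (17084, 17084), (17085, 19176), (17086, 17086), (17087, 17087)]
    ⟨e3 q17024 L685161 q14941, e3 q17025 (flp_d L706446) q19078, e3 q17026 L685171 q14803, e3 q17027 L685179 q14943, e3 q17028 L706601 q19097, e3 q17029 L685203 q14945, e3 q17030 (flp_d L706479) q19083, e3 q17031 (flp_d L706484) q19084, e3 q17032 (flp_d L704987) q18944, e3 q17033 L685231 q14947, e3 q17034 L685251 q15910, e3 q17035 L685259 q14948, e3 q17036 L685266 q17036, e3 q17037 L685273 q17037, e3 q17038 (flp_d L705023) q18947, e3 q17039 L685290 q14950, e3 q17040 L685300 q15959, e3 q17041 L685310 q15908, e3 q17042 L685324 q15649, e3 q17043 L685330 q17043, e3 q17044 L685337 q17044, e3 q17045 L706804 q19118, e3 q17046 L685355 q15651, e3 q17047 L685367 q15196, e3 q17048 L685381 q15199, e3 q17049 L706855 q19122, e3 q17050 L685401 q17050, e3 q17051 L685409 q17051, e3 q17052 L706884 q19125, e3 q17053 (flp_d L685423) q14822, e3 q17054 L685436 q14873, e3 q17055 (flp_d L703813) q18829, e3 q17056 L685446 q14824, e3 q17057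 L685455 q14876, e3 q17058 L706982 q19136, e3 q17059 L685471 q14878, e3 q17060 (flp_d L703847) q18833, e3 q17061 (flp_d L703855) q18834, e3 q17062 (flp_d L705140) q18958, e3 q17063 L685497 q14881, e3 q17064 L707046 q19145, e3 q17065 L685513 q14883, e3 q17066 (flp_d L685519) q14829, e3 q17067 (flp_d L707078) q19149, e3 q17068 (flp_d L707089) q19151, e3 q17069 L707119 q19155, e3 q17070 (flp_d L703937) q18843, e3 q17071 (flp_d L703945) q18844, e3 q17072 L707153 q19159, e3 q17073 L685567 q14888, e3 q17074 L685585 q17074, e3 q17075 L685590 q14889, e3 q17076 L685599 q17076, e3 q17077 L685606 q17077, e3 q17078 L707220 q19167, e3 q17079 L685621 q14861, e3 q17080 L685626 q14862, e3 q17081 L707253 q19171, e3 q17082 L685643 q14891, e3 q17083 L685651 q17083, e3 q17084 L685656 q17084, e3 q17085 L707294 q19176, e3 q17086 L685671 q17086, e3 q17087 L685678 q17087, trivial⟩ (by decide +kernel)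

theorem ce_d_267 : ∀ r, r < 64 → sm gd (Qf (17088 + r)) = Qf (tab Gen.d (17088 + r)) :=
  edges_tab (sm gd) Qf (tab Gen.d) 17088 [(17088, 19180), (17089, 14845), (17090, 14864), (17091, 14865), (17092, 19184), (17093, 14848), (17094, 18442), (17095, 17095), (17096, 17096), (17097, 19189), (17098, 14852), (17099, 17099), (17100, 17100), (17101, 19192), (17102, 14855), (17103, 19194), (17104, 14868), (17105, 19196), (17106, 14859), (17107, 19193), (17108, 19168), (17109, 19169), (17110, 19201), (17111, 14863), (17112, 19182), (17113, 19204), (17114, 14866), (17115, 17115), (17116, 19208), (17117, 14869), (17118, 17118), (17119, 17119), (17120, 19127), (17121, 19212), (17122, 19129), (17123, 18708), (17124, 15618), (17125, 19133), (17126, 19216), (17127, 19135), (17128, 14877), (17129, 19218), (17130, 19219), (17131, 18292), (17132, 19086), (17133, 19144), (17134, 14882), (17135, 19222), (17136, 19223), (17137, 14965), (17138, 14885), (17139, 19226), (17140, 14886), (17141, 14887), (17142, 19160), (17143, 19230), (17144, 14890),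 (17145, 18441), (17146, 14892), (17147, 17147), (17148, 18480), (17149, 14940), (17150, 18091), (17151, 14907)]
    ⟨e3 q17088 L707326 q19180, e3 q17089 (flp_d L685689) q14845, e3 q17090 L685703 q14864, e3 q17091 L685709 q14865, e3 q17092 L707357 q19184, e3 q17093 (flp_d L685719) q14848, e3 q17094 (flp_d L699352) q18442, e3 q17095 L685740 q17095, e3 q17096 L685753 q17096, e3 q17097 L707411 q19189, e3 q17098 (flp_d L685766) q14852, e3 q17099 L685781 q17099, e3 q17100 L685789 q17100, e3 q17101 L707435 q19192, e3 q17102 (flp_d L685803) q14855, e3 q17103 (flp_d L707461) q19194, e3 q17104 L685820 q14868, e3 q17105 L707470 q19196, e3 q17106 (flp_d L685833) q14859, e3 q17107 (flp_d L707447) q19193, e3 q17108 (flp_d L707235) q19168, e3 q17109 (flp_d L707242) q19169, e3 q17110 L707509 q19201, e3 q17111 (flp_d L685866) q14863, e3 q17112 (flp_d L707345) q19182, e3 q17113 L707535 q19204, e3 q17114 (flp_d L685887) q14866, e3 q17115 L685897 q17115, e3 q17116 L707557 q19208, e3 q17117 (flp_d L685907) q14869, e3 q17118 L685920 q17118, e3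 q17119 L685925 q17119, e3 q17120 (flp_d L706904) q19127, e3 q17121 L707605 q19212, e3 q17122 (flp_d L706925) q19129, e3 q17123 (flp_d L702566) q18708, e3 q17124 L685995 q15618, e3 q17125 (flp_d L706954) q19133, e3 q17126 L707666 q19216, e3 q17127 (flp_d L706976) q19135, e3 q17128 (flp_d L686040) q14877, e3 q17129 (flp_d L707696) q19218, e3 q17130 L707701 q19219, e3 q17131 (flp_d L697474) q18292, e3 q17132 (flp_d L706506) q19086, e3 q17133 (flp_d L707040) q19144, e3 q17134 (flp_d L686104) q14882, e3 q17135 (flp_d L707748) q19222, e3 q17136 L707753 q19223, e3 q17137 L686143 q14965, e3 q17138 L686147 q14885, e3 q17139 L707775 q19226, e3 q17140 (flp_d L686167) q14886, e3 q17141 (flp_d L686179) q14887, e3 q17142 (flp_d L707163) q19160, e3 q17143 L707823 q19230, e3 q17144 (flp_d L686216) q14890, e3 q17145 (flp_d L699333) q18441, e3 q17146 (flp_d L686240) q14892, e3 q17147 L686258 q17147, e3 q17148 (flp_d L699776) q18480, e3 q17149 L686277 q14940, e3 q17150 (flp_d L694632) q18091, e3 q17151 L686307 q14907, trivial⟩ (by decide +kernel)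

theorem ce_d_268 : ∀ r, r < 64 → sm gd (Qf (17152 + r)) = Qf (tab Gen.d (17152 + r)) :=
  edges_tab (sm gd) Qf (tab Gen.d) 17152 [(17152, 14908), (17153, 18093), (17154, 14913), (17155, 15536), (17156, 18901), (17157, 14921), (17158, 15559), (17159, 15296), (17160, 19014), (17161, 14926), (17162, 14955), (17163, 14957), (17164, 19073), (17165, 18483), (17166, 19077), (17167, 14936), (17168, 19080), (17169, 19244), (17170, 19082), (17171, 14946), (17172, 19234), (17173, 19089), (17174, 19091), (17175, 18426), (17176, 19250), (17177, 19096), (17178, 14944), (17179, 19253), (17180, 19104), (17181, 18427), (17182, 19252), (17183, 19217), (17184, 14962), (17185, 18429), (17186, 14964), (17187, 19224), (17188, 19259), (17189, 14967), (17190, 19261), (17191, 19260), (17192, 18440), (17193, 14971), (17194, 17194), (17195, 17195), (17196, 14982), (17197, 15001), (17198, 14985), (17199, 14988), (17200, 15352), (17201, 19263), (17202, 14993), (17203, 15006), (17204, 18126), (17205, 17205), (17206, 15007), (17207, 17207), (17208, 17208),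 (17209, 19266), (17210, 15002), (17211, 19264), (17212, 15009), (17213, 19274), (17214, 15011), (17215, 15850)]
    ⟨e3 q17152 (flp_d L686318) q14908, e3 q17153 (flp_d L694663) q18093, e3 q17154 (flp_d L686341) q14913, e3 q17155 (flp_d L686363) q15536, e3 q17156 (flp_d L704472) q18901, e3 q17157 L686382 q14921, e3 q17158 L686394 q15559, e3 q17159 L686409 q15296, e3 q17160 (flp_d L705744) q19014, e3 q17161 L686440 q14926, e3 q17162 L686463 q14955, e3 q17163 L686480 q14957, e3 q17164 (flp_d L706392) q19073, e3 q17165 (flp_d L699818) q18483, e3 q17166 (flp_d L706440) q19077, e3 q17167 L686525 q14936, e3 q17168 (flp_d L706457) q19080, e3 q17169 L708000 q19244, e3 q17170 (flp_d L706472) q19082, e3 q17171 L686564 q14946, e3 q17172 (flp_d L707880) q19234, e3 q17173 (flp_d L706527) q19089, e3 q17174 (flp_d L706555) q19091, e3 q17175 (flp_d L699159) q18426, e3 q17176 L708082 q19250, e3 q17177 (flp_d L706595) q19096, e3 q17178 (flp_d L686649) q14944, e3 q17179 (flp_d L708127) q19253, e3 q17180 (flp_d L706673) q19104, e3 q17181 (flp_d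 L699175) q18427, e3 q17182 (flp_d L708121) q19252, e3 q17183 (flp_d L707692) q19217, e3 q17184 (flp_d L686731) q14962, e3 q17185 (flp_d L699199) q18429, e3 q17186 (flp_d L686757) q14964, e3 q17187 (flp_d L707765) q19224, e3 q17188 L708198 q19259, e3 q17189 (flp_d L686785) q14967, e3 q17190 (flp_d L708228) q19261, e3 q17191 (flp_d L708218) q19260, e3 q17192 (flp_d L699318) q18440, e3 q17193 (flp_d L686828) q14971, e3 q17194 L686848 q17194, e3 q17195 L686855 q17195, e3 q17196 L686864 q14982, e3 q17197 L686882 q15001, e3 q17198 L686890 q14985, e3 q17199 L686904 q14988, e3 q17200 L686918 q15352, e3 q17201 (flp_d L708252) q19263, e3 q17202 L686936 q14993, e3 q17203 L686946 q15006, e3 q17204 (flp_d L695183) q18126, e3 q17205 L686978 q17205, e3 q17206 L686985 q15007, e3 q17207 L686997 q17207, e3 q17208 L687008 q17208, e3 q17209 (flp_d L708296) q19266, e3 q17210 L687025 q15002, e3 q17211 (flp_d L708268) q19264, e3 q17212 (flp_d L687043) q15009, e3 q17213 (flp_d L708392) q19274, e3 q17214 L687077 q15011, e3 q17215 L687091 q15850,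 trivial⟩ (by decide +kernel)

theorem ce_d_269 : ∀ r, r < 64 → sm gd (Qf (17216 + r)) = Qf (tab Gen.d (17216 + r)) :=
  edges_tab (sm gd) Qf (tab Gen.d) 17216 [(17216, 15043), (17217, 15110), (17218, 15015), (17219, 15057), (17220, 19279), (17221, 15019), (17222, 15020), (17223, 19281), (17224, 15022), (17225, 15065), (17226, 15165), (17227, 15025), (17228, 15030), (17229, 15031), (17230, 15493), (17231, 15414), (17232, 19286), (17233, 15842), (17234, 15034), (17235, 15710), (17236, 15039), (17237, 19275), (17238, 15337), (17239, 15082), (17240, 18211), (17241, 15044), (17242, 19293), (17243, 15072), (17244, 15228), (17245, 15046), (17246, 15074), (17247, 19300), (17248, 15076), (17249, 15233), (17250, 15234), (17251, 19278), (17252, 15078), (17253, 15079), (17254, 18207), (17255, 17255), (17256, 15080), (17257, 17257), (17258, 17258), (17259, 19315), (17260, 15066), (17261, 15067), (17262, 19282), (17263, 17263), (17264, 19291), (17265, 17265), (17266, 17266), (17267, 19321), (17268, 15062), (17269, 15068), (17270, 15069),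 (17271, 18176), (17272, 19316), (17273, 19322), (17274, 19295), (17275, 19299), (17276, 15075), (17277, 19324), (17278, 19307), (17279, 19290)]
    ⟨e3 q17216 L687105 q15043, e3 q17217 L687115 q15110, e3 q17218 L687125 q15015, e3 q17219 L687139 q15057, e3 q17220 L708450 q19279, e3 q17221 (flp_d L687149) q15019, e3 q17222 (flp_d L687159) q15020, e3 q17223 (flp_d L708482) q19281, e3 q17224 L687192 q15022, e3 q17225 L687208 q15065, e3 q17226 L687214 q15165, e3 q17227 L687220 q15025, e3 q17228 L687230 q15030, e3 q17229 L687242 q15031, e3 q17230 L687256 q15493, e3 q17231 L687266 q15414, e3 q17232 (flp_d L708540) q19286, e3 q17233 L687288 q15842, e3 q17234 L687305 q15034, e3 q17235 L687325 q15710, e3 q17236 L687333 q15039, e3 q17237 (flp_d L708410) q19275, e3 q17238 L687355 q15337, e3 q17239 L687365 q15082, e3 q17240 (flp_d L696441) q18211, e3 q17241 (flp_d L687383) q15044, e3 q17242 (flp_d L708620) q19293, e3 q17243 L687415 q15072, e3 q17244 L687425 q15228, e3 q17245 L687433 q15046, e3 q17246 L687441 q15074, e3 q17247 L708690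 q19300, e3 q17248 L687457 q15076, e3 q17249 L687465 q15233, e3 q17250 L687477 q15234, e3 q17251 (flp_d L708448) q19278, e3 q17252 L687489 q15078, e3 q17253 L687505 q15079, e3 q17254 (flp_d L696381) q18207, e3 q17255 L687537 q17255, e3 q17256 L687544 q15080, e3 q17257 L687552 q17257, e3 q17258 L687561 q17258, e3 q17259 L708840 q19315, e3 q17260 L687578 q15066, e3 q17261 L687588 q15067, e3 q17262 (flp_d L708500) q19282, e3 q17263 L687612 q17263, e3 q17264 (flp_d L708602) q19291, e3 q17265 L687625 q17265, e3 q17266 L687630 q17266, e3 q17267 L708889 q19321, e3 q17268 (flp_d L687639) q15062, e3 q17269 L687651 q15068, e3 q17270 L687657 q15069, e3 q17271 (flp_d L695914) q18176, e3 q17272 (flp_d L708852) q19316, e3 q17273 (flp_d L708896) q19322, e3 q17274 (flp_d L708640) q19295, e3 q17275 (flp_d L708684) q19299, e3 q17276 (flp_d L687713) q15075, e3 q17277 (flp_d L708916) q19324, e3 q17278 (flp_d L708758) q19307, e3 q17279 (flp_d L708588) q19290, trivial⟩ (by decide +kernel)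

theorem ce_d_270 : ∀ r, r < 64 → sm gd (Qf (17280 + r)) = Qf (tab Gen.d (17280 + r)) :=
  edges_tab (sm gd) Qf (tab Gen.d) 17280 [(17280, 15081), (17281, 15537), (17282, 15543), (17283, 18082), (17284, 17284), (17285, 19326), (17286, 15095), (17287, 18107), (17288, 15097), (17289, 15143), (17290, 15099), (17291, 19329), (17292, 15100), (17293, 19331), (17294, 19328), (17295, 15102), (17296, 15104), (17297, 15217), (17298, 18201), (17299, 15108), (17300, 15120), (17301, 18404), (17302, 15121), (17303, 19277), (17304, 15235), (17305, 15123), (17306, 15124), (17307, 15241), (17308, 15126), (17309, 15127), (17310, 19348), (17311, 15129), (17312, 19350), (17313, 15119), (17314, 19337), (17315, 19339), (17316, 19353), (17317, 19343), (17318, 19344), (17319, 19356), (17320, 19346), (17321, 19358), (17322, 15128), (17323, 18478), (17324, 15130), (17325, 15897), (17326, 15617), (17327, 19361), (17328, 15134), (17329, 15620), (17330, 15871), (17331, 18906), (17332, 15139), (17333, 18972), (17334, 15146), (17335, 19364), (17336, 19280),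 (17337, 15148), (17338, 15150), (17339, 15250), (17340, 17340), (17341, 19330), (17342, 15154), (17343, 17343)]
    ⟨e3 q17280 (flp_d L687761) q15081, e3 q17281 L687772 q15537, e3 q17282 L687787 q15543, e3 q17283 (flp_d L694480) q18082, e3 q17284 L687811 q17284, e3 q17285 L708933 q19326, e3 q17286 (flp_d L687827) q15095, e3 q17287 (flp_d L694869) q18107, e3 q17288 (flp_d L687851) q15097, e3 q17289 L687868 q15143, e3 q17290 (flp_d L687870) q15099, e3 q17291 (flp_d L708976) q19329, e3 q17292 (flp_d L687897) q15100, e3 q17293 (flp_d L709002) q19331, e3 q17294 (flp_d L708966) q19328, e3 q17295 L687940 q15102, e3 q17296 L687950 q15104, e3 q17297 L687967 q15217, e3 q17298 (flp_d L696301) q18201, e3 q17299 L687987 q15108, e3 q17300 L687995 q15120, e3 q17301 (flp_d L698914) q18404, e3 q17302 L688015 q15121, e3 q17303 (flp_d L708434) q19277, e3 q17304 L688037 q15235, e3 q17305 L688041 q15123, e3 q17306 L688056 q15124, e3 q17307 L688074 q15241, e3 q17308 L688080 q15126, e3 q17309 L688096 q15127, e3 q17310 L709192 q19348, e3 q17311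 L688120 q15129, e3 q17312 L709217 q19350, e3 q17313 (flp_d L688136) q15119, e3 q17314 (flp_d L709073) q19337, e3 q17315 (flp_d L709097) q19339, e3 q17316 L709245 q19353, e3 q17317 (flp_d L709133) q19343, e3 q17318 (flp_d L709150) q19344, e3 q17319 L709279 q19356, e3 q17320 (flp_d L709176) q19346, e3 q17321 L709302 q19358, e3 q17322 (flp_d L688231) q15128, e3 q17323 (flp_d L699755) q18478, e3 q17324 (flp_d L688252) q15130, e3 q17325 L688266 q15897, e3 q17326 L688273 q15617, e3 q17327 L709330 q19361, e3 q17328 (flp_d L688286) q15134, e3 q17329 L688305 q15620, e3 q17330 L688317 q15871, e3 q17331 (flp_d L704551) q18906, e3 q17332 (flp_d L688328) q15139, e3 q17333 (flp_d L705308) q18972, e3 q17334 (flp_d L688357) q15146, e3 q17335 (flp_d L709374) q19364, e3 q17336 (flp_d L708472) q19280, e3 q17337 L688398 q15148, e3 q17338 L688408 q15150, e3 q17339 L688425 q15250, e3 q17340 L688435 q17340, e3 q17341 (flp_d L708992) q19330, e3 q17342 L688446 q15154, e3 q17343 L688461 q17343, trivial⟩ (by decide +kernel)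

theorem ce_d_271 : ∀ r, r < 64 → sm gd (Qf (17344 + r)) = Qf (tab Gen.d (17344 + r)) :=
  edges_tab (sm gd) Qf (tab Gen.d) 17344 [(17344, 15156), (17345, 17345), (17346, 15694), (17347, 19375), (17348, 15161), (17349, 19378), (17350, 15185), (17351, 19273), (17352, 15163), (17353, 15188), (17354, 19387), (17355, 15190), (17356, 19283), (17357, 19284), (17358, 15743), (17359, 15193), (17360, 17360), (17361, 15194), (17362, 15180), (17363, 15181), (17364, 15731), (17365, 15197), (17366, 17366), (17367, 17367), (17368, 19402), (17369, 15182), (17370, 15596), (17371, 19404), (17372, 19405), (17373, 15178), (17374, 19397), (17375, 19376), (17376, 15184), (17377, 19379), (17378, 19411), (17379, 19381), (17380, 15954), (17381, 15929), (17382, 19112), (17383, 19416), (17384, 19386), (17385, 15189), (17386, 19419), (17387, 19421), (17388, 19409), (17389, 19119), (17390, 19393), (17391, 19424), (17392, 19120), (17393, 19426), (17394, 15198), (17395, 18459), (17396, 15200), (17397, 17397), (17398, 17398), (17399, 15208), (17400, 15203),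 (17401, 15204), (17402, 19436), (17403, 17403), (17404, 15678), (17405, 15206), (17406, 17406), (17407, 19444)]
    ⟨e3 q17344 L688468 q15156, e3 q17345 L688481 q17345, e3 q17346 L688490 q15694, e3 q17347 L709485 q19375, e3 q17348 (flp_d L688503) q15161, e3 q17349 (flp_d L709516) q19378, e3 q17350 L688529 q15185, e3 q17351 (flp_d L708382) q19273, e3 q17352 L688541 q15163, e3 q17353 L688549 q15188, e3 q17354 L709597 q19387, e3 q17355 L688567 q15190, e3 q17356 (flp_d L708510) q19283, e3 q17357 (flp_d L708522) q19284, e3 q17358 L688591 q15743, e3 q17359 L688595 q15193, e3 q17360 L688611 q17360, e3 q17361 L688618 q15194, e3 q17362 L688629 q15180, e3 q17363 L688641 q15181, e3 q17364 L688655 q15731, e3 q17365 L688661 q15197, e3 q17366 L688671 q17366, e3 q17367 L688678 q17367, e3 q17368 L709740 q19402, e3 q17369 L688697 q15182, e3 q17370 L688711 q15596, e3 q17371 L709760 q19404, e3 q17372 L709769 q19405, e3 q17373 (flp_d L688729) q15178, e3 q17374 (flp_d L709694) q19397, e3 q17375 (flp_d L709504) q19376, e3 q17376 L688770 q15184,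 e3 q17377 (flp_d L709523) q19379, e3 q17378 L709836 q19411, e3 q17379 (flp_d L709543) q19381, e3 q17380 L688814 q15954, e3 q17381 L688832 q15929, e3 q17382 (flp_d L706756) q19112, e3 q17383 L709897 q19416, e3 q17384 (flp_d L709591) q19386, e3 q17385 (flp_d L688863) q15189, e3 q17386 (flp_d L709930) q19419, e3 q17387 L709947 q19421, e3 q17388 (flp_d L709824) q19409, e3 q17389 (flp_d L706819) q19119, e3 q17390 (flp_d L709651) q19393, e3 q17391 L709977 q19424, e3 q17392 (flp_d L706834) q19120, e3 q17393 L709998 q19426, e3 q17394 (flp_d L688952) q15198, e3 q17395 (flp_d L699520) q18459, e3 q17396 (flp_d L688973) q15200, e3 q17397 L688989 q17397, e3 q17398 L688998 q17398, e3 q17399 L689007 q15208, e3 q17400 L689015 q15203, e3 q17401 (flp_d L689021) q15204, e3 q17402 (flp_d L710100) q19436, e3 q17403 L689048 q17403, e3 q17404 L689057 q15678, e3 q17405 L689065 q15206, e3 q17406 L689073 q17406, e3 q17407 L710174 q19444, trivial⟩ (by decide +kernel)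

theorem ce_d_272 : ∀ r, r < 64 → sm gd (Qf (17408 + r)) = Qf (tab Gen.d (17408 + r)) :=
  edges_tab (sm gd) Qf (tab Gen.d) 17408 [(17408, 17408), (17409, 15673), (17410, 19432), (17411, 19333), (17412, 17412), (17413, 17413), (17414, 19334), (17415, 15943), (17416, 17416), (17417, 15783), (17418, 15973), (17419, 19458), (17420, 15608), (17421, 15666), (17422, 18973), (17423, 15944), (17424, 19462), (17425, 18981), (17426, 15221), (17427, 15613), (17428, 15615), (17429, 18305), (17430, 15267), (17431, 19292), (17432, 15226), (17433, 15269), (17434, 19472), (17435, 15271), (17436, 15459), (17437, 19296), (17438, 19336), (17439, 15274), (17440, 19480), (17441, 15276), (17442, 15231), (17443, 19484), (17444, 19486), (17445, 19490), (17446, 19304), (17447, 19305), (17448, 19494), (17449, 15281), (17450, 17450), (17451, 15282), (17452, 17452), (17453, 17453), (17454, 19502), (17455, 15263), (17456, 19367), (17457, 17457), (17458, 15284), (17459, 17459), (17460, 17460), (17461, 19510), (17462, 17462), (17463, 17463), (17464, 19514),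 (17465, 15247), (17466, 15264), (17467, 15265), (17468, 19366), (17469, 17469), (17470, 18447), (17471, 17471)]
    ⟨e3 q17408 L689090 q17408, e3 q17409 L689097 q15673, e3 q17410 (flp_d L710060) q19432, e3 q17411 (flp_d L709026) q19333, e3 q17412 L689121 q17412, e3 q17413 L689135 q17413, e3 q17414 (flp_d L709041) q19334, e3 q17415 (flp_d L689166) q15943, e3 q17416 L689174 q17416, e3 q17417 L689181 q15783, e3 q17418 L689191 q15973, e3 q17419 L710320 q19458, e3 q17420 L689213 q15608, e3 q17421 L689223 q15666, e3 q17422 (flp_d L705328) q18973, e3 q17423 L689249 q15944, e3 q17424 L710364 q19462, e3 q17425 (flp_d L705403) q18981, e3 q17426 (flp_d L689274) q15221, e3 q17427 L689286 q15613, e3 q17428 L689297 q15615, e3 q17429 (flp_d L697680) q18305, e3 q17430 L689317 q15267, e3 q17431 (flp_d L708614) q19292, e3 q17432 L689329 q15226, e3 q17433 L689336 q15269, e3 q17434 L710448 q19472, e3 q17435 L689354 q15271, e3 q17436 L689364 q15459, e3 q17437 (flp_d L708650) q19296, e3 q17438 (flp_d L709067) q19336, e3 q17439 L689392 q15274,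 e3 q17440 L710516 q19480, e3 q17441 L689408 q15276, e3 q17442 (flp_d L689412) q15231, e3 q17443 (flp_d L710548) q19484, e3 q17444 (flp_d L710557) q19486, e3 q17445 L710581 q19490, e3 q17446 (flp_d L708728) q19304, e3 q17447 (flp_d L708738) q19305, e3 q17448 L710609 q19494, e3 q17449 L689458 q15281, e3 q17450 L689474 q17450, e3 q17451 L689481 q15282, e3 q17452 L689490 q17452, e3 q17453 L689499 q17453, e3 q17454 L710690 q19502, e3 q17455 L689516 q15263, e3 q17456 (flp_d L709411) q19367, e3 q17457 L689545 q17457, e3 q17458 L689552 q15284, e3 q17459 L689562 q17459, e3 q17460 L689569 q17460, e3 q17461 L710773 q19510, e3 q17462 L689586 q17462, e3 q17463 L689593 q17463, e3 q17464 L710803 q19514, e3 q17465 (flp_d L689604) q15247, e3 q17466 L689614 q15264, e3 q17467 L689622 q15265, e3 q17468 (flp_d L709398) q19366, e3 q17469 L689642 q17469, e3 q17470 (flp_d L699400) q18447, e3 q17471 L689663 q17471, trivial⟩ (by decide +kernel)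

theorem ce_d_273 : ∀ r, r < 64 → sm gd (Qf (17472 + r)) = Qf (tab Gen.d (17472 + r)) :=
  edges_tab (sm gd) Qf (tab Gen.d) 17472 [(17472, 17472), (17473, 19522), (17474, 15255), (17475, 17475), (17476, 17476), (17477, 19525), (17478, 15258), (17479, 19126), (17480, 15266), (17481, 18317), (17482, 19516), (17483, 19466), (17484, 15280), (17485, 19471), (17486, 15270), (17487, 19530), (17488, 19532), (17489, 18284), (17490, 19479), (17491, 15275), (17492, 19535), (17493, 19537), (17494, 17494), (17495, 15278), (17496, 19540), (17497, 15279), (17498, 19496), (17499, 19543), (17500, 15283), (17501, 18455), (17502, 15285), (17503, 17503), (17504, 15521), (17505, 15424), (17506, 18092), (17507, 18903), (17508, 15297), (17509, 15832), (17510, 15306), (17511, 15308), (17512, 15312), (17513, 15329), (17514, 18570), (17515, 19550), (17516, 17516), (17517, 15336), (17518, 15343), (17519, 17519), (17520, 19553), (17521, 19265), (17522, 15321), (17523, 17523), (17524, 19546), (17525, 15325), (17526, 19547), (17527, 19557), (17528, 15367),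 (17529, 15333), (17530, 17530), (17531, 19560), (17532, 15355), (17533, 17533), (17534, 19269), (17535, 15358)]
    ⟨e3 q17472 L689676 q17472, e3 q17473 L710889 q19522, e3 q17474 (flp_d L689691) q15255, e3 q17475 L689702 q17475, e3 q17476 L689708 q17476, e3 q17477 L710909 q19525, e3 q17478 (flp_d L689718) q15258, e3 q17479 (flp_d L706900) q19126, e3 q17480 L689731 q15266, e3 q17481 (flp_d L697836) q18317, e3 q17482 (flp_d L710818) q19516, e3 q17483 (flp_d L710403) q19466, e3 q17484 L689765 q15280, e3 q17485 (flp_d L710442) q19471, e3 q17486 (flp_d L689778) q15270, e3 q17487 (flp_d L710949) q19530, e3 q17488 L710964 q19532, e3 q17489 (flp_d L697369) q18284, e3 q17490 (flp_d L710512) q19479, e3 q17491 (flp_d L689819) q15275, e3 q17492 (flp_d L710990) q19535, e3 q17493 L711003 q19537, e3 q17494 L689845 q17494, e3 q17495 L689848 q15278, e3 q17496 L711017 q19540, e3 q17497 (flp_d L689859) q15279, e3 q17498 (flp_d L710633) q19496, e3 q17499 L711035 q19543, e3 q17500 (flp_d L689885) q15283, e3 q17501 (flp_d L699485) q18455, e3 q17502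 (flp_d L689901) q15285, e3 q17503 L689913 q17503, e3 q17504 L689922 q15521, e3 q17505 L689935 q15424, e3 q17506 (flp_d L694653) q18092, e3 q17507 (flp_d L704506) q18903, e3 q17508 (flp_d L689954) q15297, e3 q17509 L689976 q15832, e3 q17510 L689985 q15306, e3 q17511 L689999 q15308, e3 q17512 L690013 q15312, e3 q17513 L690023 q15329, e3 q17514 (flp_d L701006) q18570, e3 q17515 L711109 q19550, e3 q17516 L690047 q17516, e3 q17517 L690054 q15336, e3 q17518 L690062 q15343, e3 q17519 L690068 q17519, e3 q17520 L711134 q19553, e3 q17521 (flp_d L708284) q19265, e3 q17522 (flp_d L690087) q15321, e3 q17523 L690100 q17523, e3 q17524 (flp_d L711068) q19546, e3 q17525 L690115 q15325, e3 q17526 (flp_d L711084) q19547, e3 q17527 L711166 q19557, e3 q17528 L690142 q15367, e3 q17529 (flp_d L690145) q15333, e3 q17530 L690156 q17530, e3 q17531 L711191 q19560, e3 q17532 L690171 q15355, e3 q17533 L690177 q17533, e3 q17534 (flp_d L708335) q19269, e3 q17535 L690188 q15358, trivial⟩ (by decide +kernel)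

theorem ce_d_274 : ∀ r, r < 64 → sm gd (Qf (17536 + r)) = Qf (tab Gen.d (17536 + r)) :=
  edges_tab (sm gd) Qf (tab Gen.d) 17536 [(17536, 19564), (17537, 15360), (17538, 15811), (17539, 19567), (17540, 15812), (17541, 19569), (17542, 15349), (17543, 15354), (17544, 18119), (17545, 19571), (17546, 15830), (17547, 19572), (17548, 15359), (17549, 19573), (17550, 15361), (17551, 15817), (17552, 18532), (17553, 15368), (17554, 19577), (17555, 15370), (17556, 15434), (17557, 15372), (17558, 19580), (17559, 15382), (17560, 15555), (17561, 15374), (17562, 15376), (17563, 15385), (17564, 15443), (17565, 19587), (17566, 18817), (17567, 19582), (17568, 15452), (17569, 18818), (17570, 19591), (17571, 18744), (17572, 19592), (17573, 15389), (17574, 17574), (17575, 19363), (17576, 15391), (17577, 17577), (17578, 15463), (17579, 17579), (17580, 19600), (17581, 18214), (17582, 15576), (17583, 15399), (17584, 19603), (17585, 15417), (17586, 15581), (17587, 15582), (17588, 15481), (17589, 15484), (17590, 17590), (17591, 17591), (17592, 19611),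 (17593, 15415), (17594, 19287), (17595, 15421), (17596, 17596), (17597, 19615), (17598, 19616), (17599, 15413)]
    ⟨e3 q17536 L711214 q19564, e3 q17537 L690202 q15360, e3 q17538 L690210 q15811, e3 q17539 L711234 q19567, e3 q17540 L690226 q15812, e3 q17541 L711250 q19569, e3 q17542 (flp_d L690240) q15349, e3 q17543 L690248 q15354, e3 q17544 (flp_d L695062) q18119, e3 q17545 L711264 q19571, e3 q17546 (flp_d L690280) q15830, e3 q17547 L711273 q19572, e3 q17548 (flp_d L690293) q15359, e3 q17549 L711280 q19573, e3 q17550 (flp_d L690309) q15361, e3 q17551 L690321 q15817, e3 q17552 (flp_d L700534) q18532, e3 q17553 (flp_d L690333) q15368, e3 q17554 (flp_d L711323) q19577, e3 q17555 L690366 q15370, e3 q17556 L690378 q15434, e3 q17557 (flp_d L690382) q15372, e3 q17558 (flp_d L711365) q19580, e3 q17559 L690416 q15382, e3 q17560 L690422 q15555, e3 q17561 L690428 q15374, e3 q17562 L690438 q15376, e3 q17563 L690452 q15385, e3 q17564 L690462 q15443, e3 q17565 L711427 q19587, e3 q17566 (flp_d L703712) q18817, e3 q17567 (flp_d L711383)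 q19582, e3 q17568 L690491 q15452, e3 q17569 (flp_d L703722) q18818, e3 q17570 L711462 q19591, e3 q17571 (flp_d L702982) q18744, e3 q17572 L711471 q19592, e3 q17573 (flp_d L690535) q15389, e3 q17574 L690548 q17574, e3 q17575 (flp_d L709364) q19363, e3 q17576 L690555 q15391, e3 q17577 L690563 q17577, e3 q17578 L690570 q15463, e3 q17579 L690578 q17579, e3 q17580 L711527 q19600, e3 q17581 (flp_d L696491) q18214, e3 q17582 L690597 q15576, e3 q17583 L690601 q15399, e3 q17584 L711550 q19603, e3 q17585 L690615 q15417, e3 q17586 L690623 q15581, e3 q17587 L690629 q15582, e3 q17588 L690637 q15481, e3 q17589 L690643 q15484, e3 q17590 L690649 q17590, e3 q17591 L690654 q17591, e3 q17592 L711603 q19611, e3 q17593 L690669 q15415, e3 q17594 (flp_d L708558) q19287, e3 q17595 L690685 q15421, e3 q17596 L690693 q17596, e3 q17597 L711629 q19615, e3 q17598 L711635 q19616, e3 q17599 (flp_d L690706) q15413, trivial⟩ (by decide +kernel)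

theorem ce_d_275 : ∀ r, r < 64 → sm gd (Qf (17600 + r)) = Qf (tab Gen.d (17600 + r)) :=
  edges_tab (sm gd) Qf (tab Gen.d) 17600 [(17600, 15416), (17601, 19619), (17602, 19621), (17603, 19236), (17604, 15420), (17605, 18695), (17606, 15422), (17607, 17607), (17608, 17608), (17609, 19382), (17610, 15429), (17611, 17611), (17612, 19578), (17613, 17613), (17614, 19630), (17615, 15435), (17616, 19632), (17617, 15637), (17618, 15437), (17619, 18406), (17620, 15450), (17621, 15642), (17622, 19584), (17623, 19585), (17624, 19638), (17625, 15455), (17626, 19640), (17627, 15446), (17628, 15448), (17629, 18902), (17630, 19643), (17631, 19247), (17632, 15454), (17633, 18706), (17634, 15456), (17635, 15836), (17636, 17636), (17637, 19647), (17638, 17638), (17639, 19476), (17640, 19597), (17641, 17641), (17642, 19652), (17643, 18169), (17644, 19654), (17645, 18158), (17646, 15468), (17647, 15509), (17648, 15705), (17649, 15472), (17650, 15511), (17651, 18343), (17652, 15512), (17653, 15711), (17654, 19602), (17655, 15515), (17656, 19668),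 (17657, 15517), (17658, 15477), (17659, 18339), (17660, 19673), (17661, 19677), (17662, 15720), (17663, 15721)]
    ⟨e3 q17600 (flp_d L690712) q15416, e3 q17601 (flp_d L711656) q19619, e3 q17602 L711667 q19621, e3 q17603 (flp_d L707911) q19236, e3 q17604 (flp_d L690739) q15420, e3 q17605 (flp_d L702406) q18695, e3 q17606 (flp_d L690758) q15422, e3 q17607 L690768 q17607, e3 q17608 L690777 q17608, e3 q17609 (flp_d L709555) q19382, e3 q17610 L690788 q15429, e3 q17611 L690798 q17611, e3 q17612 (flp_d L711341) q19578, e3 q17613 L690813 q17613, e3 q17614 L711735 q19630, e3 q17615 (flp_d L690822) q15435, e3 q17616 (flp_d L711754) q19632, e3 q17617 L690844 q15637, e3 q17618 L690850 q15437, e3 q17619 (flp_d L698938) q18406, e3 q17620 L690868 q15450, e3 q17621 L690876 q15642, e3 q17622 (flp_d L711401) q19584, e3 q17623 (flp_d L711415) q19585, e3 q17624 L711798 q19638, e3 q17625 L690906 q15455, e3 q17626 L711812 q19640, e3 q17627 (flp_d L690912) q15446, e3 q17628 L690923 q15448, e3 q17629 (flp_d L704492) q18902, e3 q17630 L711836 q19643,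 e3 q17631 (flp_d L708047) q19247, e3 q17632 (flp_d L690956) q15454, e3 q17633 (flp_d L702547) q18706, e3 q17634 (flp_d L690973) q15456, e3 q17635 L690983 q15836, e3 q17636 L690987 q17636, e3 q17637 L711865 q19647, e3 q17638 L691002 q17638, e3 q17639 (flp_d L710484) q19476, e3 q17640 (flp_d L711509) q19597, e3 q17641 L691019 q17641, e3 q17642 L711896 q19652, e3 q17643 L695803 q18169, e3 q17644 L711911 q19654, e3 q17645 (flp_d L695646) q18158, e3 q17646 (flp_d L691050) q15468, e3 q17647 L691059 q15509, e3 q17648 L691065 q15705, e3 q17649 L691069 q15472, e3 q17650 L691075 q15511, e3 q17651 (flp_d L698182) q18343, e3 q17652 L691091 q15512, e3 q17653 L691099 q15711, e3 q17654 (flp_d L711548) q19602, e3 q17655 L691113 q15515, e3 q17656 L712003 q19668, e3 q17657 L691125 q15517, e3 q17658 (flp_d L691129) q15477, e3 q17659 (flp_d L698128) q18339, e3 q17660 (flp_d L712037) q19673, e3 q17661 L712061 q19677, e3 q17662 L691155 q15720, e3 q17663 L691161 q15721, trivial⟩ (by decide +kernel)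

theorem ce_d_276 : ∀ r, r < 64 → sm gd (Qf (17664 + r)) = Qf (tab Gen.d (17664 + r)) :=
  edges_tab (sm gd) Qf (tab Gen.d) 17664 [(17664, 19681), (17665, 15522), (17666, 19683), (17667, 15524), (17668, 15837), (17669, 15838), (17670, 19687), (17671, 15839), (17672, 15840), (17673, 19690), (17674, 15490), (17675, 15506), (17676, 15507), (17677, 19285), (17678, 15844), (17679, 19695), (17680, 15846), (17681, 19697), (17682, 15498), (17683, 15849), (17684, 19276), (17685, 15501), (17686, 19701), (17687, 15508), (17688, 18180), (17689, 19692), (17690, 19657), (17691, 15540), (17692, 19662), (17693, 19705), (17694, 19667), (17695, 15516), (17696, 19707), (17697, 19709), (17698, 17698), (17699, 15519), (17700, 19712), (17701, 15520), (17702, 19714), (17703, 15523), (17704, 19715), (17705, 15525), (17706, 15862), (17707, 15527), (17708, 15549), (17709, 15865), (17710, 15866), (17711, 18640), (17712, 15619), (17713, 18709), (17714, 19233), (17715, 19642), (17716, 15539), (17717, 18485), (17718, 18710), (17719, 15545), (17720, 19716),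 (17721, 15879), (17722, 15552), (17723, 19723), (17724, 19579), (17725, 15554), (17726, 19583), (17727, 15643)]
    ⟨e3 q17664 L712087 q19681, e3 q17665 L691175 q15522, e3 q17666 L712097 q19683, e3 q17667 L691189 q15524, e3 q17668 L691197 q15837, e3 q17669 L691203 q15838, e3 q17670 L712125 q19687, e3 q17671 L691219 q15839, e3 q17672 L691227 q15840, e3 q17673 L712149 q19690, e3 q17674 (flp_d L691239) q15490, e3 q17675 L691247 q15506, e3 q17676 L691253 q15507, e3 q17677 (flp_d L708532) q19285, e3 q17678 L691267 q15844, e3 q17679 L712183 q19695, e3 q17680 L691279 q15846, e3 q17681 L712195 q19697, e3 q17682 (flp_d L691289) q15498, e3 q17683 L691299 q15849, e3 q17684 (flp_d L708424) q19276, e3 q17685 (flp_d L691309) q15501, e3 q17686 (flp_d L712221) q19701, e3 q17687 L691319 q15508, e3 q17688 (flp_d L695977) q18180, e3 q17689 (flp_d L712165) q19692, e3 q17690 (flp_d L711933) q19657, e3 q17691 L691355 q15540, e3 q17692 (flp_d L711963) q19662, e3 q17693 L712247 q19705, e3 q17694 (flp_d L711999) q19667, e3 q17695 (flp_d L691385)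 q15516, e3 q17696 (flp_d L712267) q19707, e3 q17697 L712282 q19709, e3 q17698 L691416 q17698, e3 q17699 L691421 q15519, e3 q17700 L712302 q19712, e3 q17701 (flp_d L691434) q15520, e3 q17702 L712310 q19714, e3 q17703 (flp_d L691450) q15523, e3 q17704 L712317 q19715, e3 q17705 (flp_d L691466) q15525, e3 q17706 L691478 q15862, e3 q17707 (flp_d L691480) q15527, e3 q17708 L691488 q15549, e3 q17709 L691495 q15865, e3 q17710 L691499 q15866, e3 q17711 (flp_d L701855) q18640, e3 q17712 L691515 q15619, e3 q17713 (flp_d L702586) q18709, e3 q17714 (flp_d L707858) q19233, e3 q17715 (flp_d L711833) q19642, e3 q17716 L691553 q15539, e3 q17717 (flp_d L699850) q18485, e3 q17718 (flp_d L702602) q18710, e3 q17719 (flp_d L691584) q15545, e3 q17720 (flp_d L712329) q19716, e3 q17721 L691604 q15879, e3 q17722 (flp_d L691606) q15552, e3 q17723 (flp_d L712380) q19723, e3 q17724 (flp_d L711355) q19579, e3 q17725 L691634 q15554, e3 q17726 (flp_d L711391) q19583, e3 q17727 L691652 q15643, trivial⟩ (by decide +kernel)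

theorem ce_d_277 : ∀ r, r < 64 → sm gd (Qf (17728 + r)) = Qf (tab Gen.d (17728 + r)) :=
  edges_tab (sm gd) Qf (tab Gen.d) 17728 [(17728, 15646), (17729, 15565), (17730, 15561), (17731, 15562), (17732, 19730), (17733, 18962), (17734, 15564), (17735, 18954), (17736, 19727), (17737, 15680), (17738, 15625), (17739, 15685), (17740, 15624), (17741, 18971), (17742, 15602), (17743, 19298), (17744, 15574), (17745, 15604), (17746, 19744), (17747, 15606), (17748, 19576), (17749, 19601), (17750, 15712), (17751, 19751), (17752, 15610), (17753, 15579), (17754, 19755), (17755, 19756), (17756, 19023), (17757, 19607), (17758, 19760), (17759, 17759), (17760, 15614), (17761, 17761), (17762, 17762), (17763, 19026), (17764, 15600), (17765, 15601), (17766, 19398), (17767, 17767), (17768, 17768), (17769, 18998), (17770, 17770), (17771, 19771), (17772, 19403), (17773, 19772), (17774, 15599), (17775, 19766), (17776, 19738), (17777, 19743), (17778, 15605), (17779, 19773), (17780, 19459), (17781, 15609), (17782, 19774), (17783, 15612), (17784, 19463),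 (17785, 18904), (17786, 15869), (17787, 15780), (17788, 15630), (17789, 15627), (17790, 18959), (17791, 15629)]
    ⟨e3 q17728 L691661 q15646, e3 q17729 L691665 q15565, e3 q17730 L691669 q15561, e3 q17731 (flp_d L691673) q15562, e3 q17732 (flp_d L712429) q19730, e3 q17733 (flp_d L705196) q18962, e3 q17734 L691697 q15564, e3 q17735 (flp_d L705102) q18954, e3 q17736 (flp_d L712411) q19727, e3 q17737 L691719 q15680, e3 q17738 L691729 q15625, e3 q17739 L691741 q15685, e3 q17740 L691749 q15624, e3 q17741 (flp_d L705296) q18971, e3 q17742 L691768 q15602, e3 q17743 (flp_d L708676) q19298, e3 q17744 L691776 q15574, e3 q17745 L691783 q15604, e3 q17746 L712534 q19744, e3 q17747 L691799 q15606, e3 q17748 (flp_d L711313) q19576, e3 q17749 (flp_d L711536) q19601, e3 q17750 L691825 q15712, e3 q17751 L712588 q19751, e3 q17752 L691835 q15610, e3 q17753 (flp_d L691839) q15579, e3 q17754 (flp_d L712622) q19755, e3 q17755 (flp_d L712627) q19756, e3 q17756 (flp_d L705847) q19023, e3 q17757 (flp_d L711578) q19607, e3 q17758 L712653 q19760, e3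 q17759 L691882 q17759, e3 q17760 L691887 q15614, e3 q17761 L691896 q17761, e3 q17762 L691903 q17762, e3 q17763 (flp_d L705883) q19026, e3 q17764 L691920 q15600, e3 q17765 L691929 q15601, e3 q17766 (flp_d L709711) q19398, e3 q17767 L691950 q17767, e3 q17768 L691957 q17768, e3 q17769 (flp_d L705591) q18998, e3 q17770 L691972 q17770, e3 q17771 L712745 q19771, e3 q17772 (flp_d L709758) q19403, e3 q17773 L712750 q19772, e3 q17774 (flp_d L691998) q15599, e3 q17775 (flp_d L712707) q19766, e3 q17776 (flp_d L712497) q19738, e3 q17777 (flp_d L712528) q19743, e3 q17778 (flp_d L692027) q15605, e3 q17779 (flp_d L712758) q19773, e3 q17780 (flp_d L710333) q19459, e3 q17781 (flp_d L692055) q15609, e3 q17782 (flp_d L712769) q19774, e3 q17783 L692081 q15612, e3 q17784 (flp_d L710378) q19463, e3 q17785 (flp_d L704516) q18904, e3 q17786 (flp_d L692120) q15869, e3 q17787 L692128 q15780, e3 q17788 L692134 q15630, e3 q17789 L692140 q15627, e3 q17790 (flp_d L705154) q18959, e3 q17791 L692156 q15629, trivial⟩ (by decide +kernel)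

theorem ce_d_278 : ∀ r, r < 64 → sm gd (Qf (17792 + r)) = Qf (tab Gen.d (17792 + r)) :=
  edges_tab (sm gd) Qf (tab Gen.d) 17792 [(17792, 19778), (17793, 18964), (17794, 18968), (17795, 15652), (17796, 19631), (17797, 15635), (17798, 15654), (17799, 18413), (17800, 15656), (17801, 19633), (17802, 19725), (17803, 15658), (17804, 19795), (17805, 15660), (17806, 15640), (17807, 19799), (17808, 19100), (17809, 19801), (17810, 15663), (17811, 15664), (17812, 19107), (17813, 15665), (17814, 19111), (17815, 18438), (17816, 19784), (17817, 19789), (17818, 18430), (17819, 19794), (17820, 15659), (17821, 19805), (17822, 15782), (17823, 15662), (17824, 19802), (17825, 15786), (17826, 19811), (17827, 15788), (17828, 15679), (17829, 19728), (17830, 15791), (17831, 19448), (17832, 15671), (17833, 15793), (17834, 19822), (17835, 15795), (17836, 19449), (17837, 19732), (17838, 15797), (17839, 19828), (17840, 15799), (17841, 15676), (17842, 19832), (17843, 19834), (17844, 19043), (17845, 19435), (17846, 19440), (17847, 19841), (17848, 15802),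 (17849, 17849), (17850, 15803), (17851, 17851), (17852, 19048), (17853, 19373), (17854, 15804), (17855, 17855)]
    ⟨e3 q17792 (flp_d L712797) q19778, e3 q17793 (flp_d L705224) q18964, e3 q17794 (flp_d L705261) q18968, e3 q17795 L692192 q15652, e3 q17796 (flp_d L711748) q19631, e3 q17797 L692204 q15635, e3 q17798 L692211 q15654, e3 q17799 (flp_d L699014) q18413, e3 q17800 L692231 q15656, e3 q17801 (flp_d L711762) q19633, e3 q17802 (flp_d L712401) q19725, e3 q17803 L692255 q15658, e3 q17804 L712932 q19795, e3 q17805 L692269 q15660, e3 q17806 (flp_d L692273) q15640, e3 q17807 (flp_d L712960) q19799, e3 q17808 (flp_d L706641) q19100, e3 q17809 L712972 q19801, e3 q17810 L692303 q15663, e3 q17811 L692314 q15664, e3 q17812 (flp_d L706712) q19107, e3 q17813 L692334 q15665, e3 q17814 (flp_d L706744) q19111, e3 q17815 (flp_d L699297) q18438, e3 q17816 (flp_d L712847) q19784, e3 q17817 (flp_d L712882) q19789, e3 q17818 (flp_d L699211) q18430, e3 q17819 (flp_d L712928) q19794, e3 q17820 (flp_d L692392) q15659, e3 q17821 (flp_d L713006)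 q19805, e3 q17822 L692413 q15782, e3 q17823 L692419 q15662, e3 q17824 (flp_d L712982) q19802, e3 q17825 L692439 q15786, e3 q17826 L713046 q19811, e3 q17827 L692451 q15788, e3 q17828 L692457 q15679, e3 q17829 (flp_d L712419) q19728, e3 q17830 L692472 q15791, e3 q17831 (flp_d L710207) q19448, e3 q17832 L692482 q15671, e3 q17833 L692489 q15793, e3 q17834 L713121 q19822, e3 q17835 L692509 q15795, e3 q17836 (flp_d L710217) q19449, e3 q17837 (flp_d L712446) q19732, e3 q17838 L692531 q15797, e3 q17839 L713167 q19828, e3 q17840 L692547 q15799, e3 q17841 (flp_d L692551) q15676, e3 q17842 (flp_d L713197) q19832, e3 q17843 (flp_d L713208) q19834, e3 q17844 (flp_d L706062) q19043, e3 q17845 (flp_d L710094) q19435, e3 q17846 (flp_d L710139) q19440, e3 q17847 L713256 q19841, e3 q17848 L692597 q15802, e3 q17849 L692615 q17849, e3 q17850 L692620 q15803, e3 q17851 L692629 q17851, e3 q17852 (flp_d L706120) q19048, e3 q17853 (flp_d L709471) q19373, e3 q17854 L692659 q15804, e3 q17855 L692667 q17855, trivial⟩ (by decide +kernel)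

theorem ce_d_279 : ∀ r, r < 64 → sm gd (Qf (17856 + r)) = Qf (tab Gen.d (17856 + r)) :=
  edges_tab (sm gd) Qf (tab Gen.d) 17856 [(17856, 17856), (17857, 19052), (17858, 17858), (17859, 17859), (17860, 19852), (17861, 15966), (17862, 15967), (17863, 19371), (17864, 18395), (17865, 19855), (17866, 17866), (17867, 17867), (17868, 19858), (17869, 15700), (17870, 15968), (17871, 18334), (17872, 19257), (17873, 15760), (17874, 19658), (17875, 19659), (17876, 19741), (17877, 15807), (17878, 15761), (17879, 15708), (17880, 18341), (17881, 19869), (17882, 19872), (17883, 18190), (17884, 19288), (17885, 19876), (17886, 19090), (17887, 15765), (17888, 15714), (17889, 19880), (17890, 19881), (17891, 19885), (17892, 15717), (17893, 19833), (17894, 15718), (17895, 19886), (17896, 19888), (17897, 19894), (17898, 15719), (17899, 19678), (17900, 19679), (17901, 19898), (17902, 15722), (17903, 15924), (17904, 15770), (17905, 15925), (17906, 15926), (17907, 15956), (17908, 15927), (17909, 19906), (17910, 15728), (17911, 15757), (17912, 15758),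 (17913, 19384), (17914, 15930), (17915, 15931), (17916, 18431), (17917, 15933), (17918, 15934), (17919, 19914)]
    ⟨e3 q17856 L692674 q17856, e3 q17857 (flp_d L706158) q19052, e3 q17858 L692691 q17858, e3 q17859 L692700 q17859, e3 q17860 L713354 q19852, e3 q17861 L692715 q15966, e3 q17862 L692723 q15967, e3 q17863 (flp_d L709444) q19371, e3 q17864 (flp_d L698815) q18395, e3 q17865 L713377 q19855, e3 q17866 L692755 q17866, e3 q17867 L692763 q17867, e3 q17868 L713401 q19858, e3 q17869 (flp_d L692775) q15700, e3 q17870 L692783 q15968, e3 q17871 (flp_d L698060) q18334, e3 q17872 (flp_d L708182) q19257, e3 q17873 L692804 q15760, e3 q17874 (flp_d L711939) q19658, e3 q17875 (flp_d L711943) q19659, e3 q17876 (flp_d L712516) q19741, e3 q17877 L692829 q15807, e3 q17878 L692835 q15761, e3 q17879 (flp_d L692841) q15708, e3 q17880 (flp_d L698156) q18341, e3 q17881 (flp_d L713486) q19869, e3 q17882 L713510 q19872, e3 q17883 (flp_d L696147) q18190, e3 q17884 (flp_d L708566) q19288, e3 q17885 L713540 q19876, e3 q17886 (flp_d L706547) q19090,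 e3 q17887 L692899 q15765, e3 q17888 (flp_d L692903) q15714, e3 q17889 (flp_d L713566) q19880, e3 q17890 (flp_d L713576) q19881, e3 q17891 L713602 q19885, e3 q17892 L692931 q15717, e3 q17893 (flp_d L713204) q19833, e3 q17894 L692941 q15718, e3 q17895 (flp_d L713614) q19886, e3 q17896 (flp_d L713626) q19888, e3 q17897 L713662 q19894, e3 q17898 (flp_d L692965) q15719, e3 q17899 (flp_d L712069) q19678, e3 q17900 (flp_d L712075) q19679, e3 q17901 L713680 q19898, e3 q17902 (flp_d L692987) q15722, e3 q17903 L692996 q15924, e3 q17904 L693002 q15770, e3 q17905 L693011 q15925, e3 q17906 L693019 q15926, e3 q17907 L693033 q15956, e3 q17908 L693039 q15927, e3 q17909 L713741 q19906, e3 q17910 (flp_d L693054) q15728, e3 q17911 L693065 q15757, e3 q17912 L693072 q15758, e3 q17913 (flp_d L709579) q19384, e3 q17914 L693087 q15930, e3 q17915 L693093 q15931, e3 q17916 (flp_d L699229) q18431, e3 q17917 L693109 q15933, e3 q17918 L693117 q15934, e3 q17919 L713803 q19914, trivial⟩ (by decide +kernel)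

theorem ce_d_280 : ∀ r, r < 64 → sm gd (Qf (17920 + r)) = Qf (tab Gen.d (17920 + r)) :=
  edges_tab (sm gd) Qf (tab Gen.d) 17920 [(17920, 15736), (17921, 15936), (17922, 15937), (17923, 19917), (17924, 15739), (17925, 19918), (17926, 15759), (17927, 18345), (17928, 18443), (17929, 15946), (17930, 15947), (17931, 19923), (17932, 15748), (17933, 15950), (17934, 19926), (17935, 15752), (17936, 15754), (17937, 18346), (17938, 19908), (17939, 15763), (17940, 15764), (17941, 15806), (17942, 19868), (17943, 19867), (17944, 15912), (17945, 15957), (17946, 15790), (17947, 19777), (17948, 18702), (17949, 19806), (17950, 19453), (17951, 19933), (17952, 19456), (17953, 15796), (17954, 18905), (17955, 19808), (17956, 19938), (17957, 19810), (17958, 15787), (17959, 19942), (17960, 19944), (17961, 18787), (17962, 19816), (17963, 19821), (17964, 15794), (17965, 19945), (17966, 19827), (17967, 15798), (17968, 19947), (17969, 15805), (17970, 15801), (17971, 19842), (17972, 19948), (17973, 19866), (17974, 15911), (17975, 19558), (17976, 15813),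 (17977, 15815), (17978, 15829), (17979, 19574), (17980, 19575), (17981, 15818), (17982, 15819), (17983, 15823)]
    ⟨e3 q17920 (flp_d L693129) q15736, e3 q17921 L693143 q15936, e3 q17922 L693151 q15937, e3 q17923 L713829 q19917, e3 q17924 (flp_d L693163) q15739, e3 q17925 (flp_d L713841) q19918, e3 q17926 L693177 q15759, e3 q17927 (flp_d L698204) q18345, e3 q17928 (flp_d L699363) q18443, e3 q17929 L693202 q15946, e3 q17930 L693209 q15947, e3 q17931 L713870 q19923, e3 q17932 (flp_d L693220) q15748, e3 q17933 L693231 q15950, e3 q17934 L713893 q19926, e3 q17935 (flp_d L693242) q15752, e3 q17936 L693254 q15754, e3 q17937 (flp_d L698217) q18346, e3 q17938 (flp_d L713759) q19908, e3 q17939 L693274 q15763, e3 q17940 (flp_d L693280) q15764, e3 q17941 L693292 q15806, e3 q17942 (flp_d L713480) q19868, e3 q17943 (flp_d L713466) q19867, e3 q17944 L693313 q15912, e3 q17945 L693317 q15957, e3 q17946 L693326 q15790, e3 q17947 (flp_d L712789) q19777, e3 q17948 (flp_d L702502) q18702, e3 q17949 (flp_d L713014) q19806, e3 q17950 (flp_d L710264)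 q19453, e3 q17951 L713956 q19933, e3 q17952 (flp_d L710302) q19456, e3 q17953 L693382 q15796, e3 q17954 (flp_d L704535) q18905, e3 q17955 (flp_d L713026) q19808, e3 q17956 L714001 q19938, e3 q17957 (flp_d L713042) q19810, e3 q17958 (flp_d L693421) q15787, e3 q17959 (flp_d L714032) q19942, e3 q17960 L714043 q19944, e3 q17961 (flp_d L703413) q18787, e3 q17962 (flp_d L713080) q19816, e3 q17963 (flp_d L713115) q19821, e3 q17964 (flp_d L693465) q15794, e3 q17965 (flp_d L714050) q19945, e3 q17966 (flp_d L713163) q19827, e3 q17967 (flp_d L693486) q15798, e3 q17968 (flp_d L714063) q19947, e3 q17969 L693502 q15805, e3 q17970 L693506 q15801, e3 q17971 (flp_d L713264) q19842, e3 q17972 (flp_d L714068) q19948, e3 q17973 (flp_d L713456) q19866, e3 q17974 L693534 q15911, e3 q17975 (flp_d L711181) q19558, e3 q17976 (flp_d L693546) q15813, e3 q17977 (flp_d L693558) q15815, e3 q17978 L693573 q15829, e3 q17979 (flp_d L711294) q19574, e3 q17980 (flp_d L711298) q19575, e3 q17981 (flp_d L693589) q15818, e3 q17982 (flp_d L693600) q15819, e3 q17983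 (flp_d L693610) q15823, trivial⟩ (by decide +kernel)

theorem ce_d_281 : ∀ r, r < 64 → sm gd (Qf (17984 + r)) = Qf (tab Gen.d (17984 + r)) :=
  edges_tab (sm gd) Qf (tab Gen.d) 17984 [(17984, 15825), (17985, 18079), (17986, 18495), (17987, 19644), (17988, 19685), (17989, 19688), (17990, 18659), (17991, 18681), (17992, 15847), (17993, 15852), (17994, 15854), (17995, 19953), (17996, 17996), (17997, 19955), (17998, 15858), (17999, 15860), (18000, 15878), (18001, 19717), (18002, 19718), (18003, 19719), (18004, 15867), (18005, 19362), (18006, 15870), (18007, 18095), (18008, 18101), (18009, 15874), (18010, 18084), (18011, 18603), (18012, 18489), (18013, 18088), (18014, 15899), (18015, 19962), (18016, 15888), (18017, 15902), (18018, 19961), (18019, 15891), (18020, 18099), (18021, 15893), (18022, 19359), (18023, 15901), (18024, 15958), (18025, 19902), (18026, 19901), (18027, 19106), (18028, 19113), (18029, 19105), (18030, 19950), (18031, 19929), (18032, 19972), (18033, 15917), (18034, 18034), (18035, 15918), (18036, 18036), (18037,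 19978), (18038, 19974), (18039, 19980), (18040, 15919), (18041, 19982), (18042, 19414), (18043, 15922), (18044, 19981), (18045, 19900), (18046, 19903), (18047, 19986)]
    ⟨e3 q17984 (flp_d L693626) q15825, e3 q17985 L694437 q18079, e3 q17986 L700001 q18495, e3 q17987 (flp_d L711850) q19644, e3 q17988 (flp_d L712113) q19685, e3 q17989 (flp_d L712137) q19688, e3 q17990 (flp_d L702059) q18659, e3 q17991 (flp_d L702263) q18681, e3 q17992 (flp_d L693707) q15847, e3 q17993 L693713 q15852, e3 q17994 L693719 q15854, e3 q17995 L714092 q19953, e3 q17996 L693736 q17996, e3 q17997 L714105 q19955, e3 q17998 (flp_d L693743) q15858, e3 q17999 (flp_d L693747) q15860, e3 q18000 L693760 q15878, e3 q18001 (flp_d L712338) q19717, e3 q18002 (flp_d L712342) q19718, e3 q18003 (flp_d L712347) q19719, e3 q18004 (flp_d L693778) q15867, e3 q18005 (flp_d L709351) q19362, e3 q18006 (flp_d L693797) q15870, e3 q18007 L694695 q18095, e3 q18008 L694790 q18101, e3 q18009 (flp_d L693822) q15874, e3 q18010 L694526 q18084, e3 q18011 L701398 q18603, e3 q18012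 (flp_d L699896) q18489, e3 q18013 L694590 q18088, e3 q18014 L693885 q15899, e3 q18015 L714164 q19962, e3 q18016 (flp_d L693900) q15888, e3 q18017 L693919 q15902, e3 q18018 (flp_d L714161) q19961, e3 q18019 (flp_d L693934) q15891, e3 q18020 (flp_d L694758) q18099, e3 q18021 (flp_d L693956) q15893, e3 q18022 (flp_d L709318) q19359, e3 q18023 L693979 q15901, e3 q18024 L693986 q15958, e3 q18025 (flp_d L713712) q19902, e3 q18026 (flp_d L713698) q19901, e3 q18027 (flp_d L706696) q19106, e3 q18028 (flp_d L706768) q19113, e3 q18029 (flp_d L706684) q19105, e3 q18030 (flp_d L714078) q19950, e3 q18031 (flp_d L713915) q19929, e3 q18032 L714264 q19972, e3 q18033 L694064 q15917, e3 q18034 L694071 q18034, e3 q18035 L694074 q15918, e3 q18036 L694080 q18036, e3 q18037 L714303 q19978, e3 q18038 (flp_d L714282) q19974, e3 q18039 L714318 q19980, e3 q18040 (flp_d L694107) q15919, e3 q18041 (flp_d L714339) q19982, e3 q18042 (flp_d L709883) q19414, e3 q18043 (flp_d L694131) q15922, e3 q18044 (flp_d L714329) q19981, e3 q18045 (flp_d L713690) q19900,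 e3 q18046 (flp_d L713718) q19903, e3 q18047 L714374 q19986, trivial⟩ (by decide +kernel)

theorem ce_d_282 : ∀ r, r < 64 → sm gd (Qf (18048 + r)) = Qf (tab Gen.d (18048 + r)) :=
  edges_tab (sm gd) Qf (tab Gen.d) 18048 [(18048, 15928), (18049, 19910), (18050, 18477), (18051, 19912), (18052, 19989), (18053, 15935), (18054, 19915), (18055, 19991), (18056, 15938), (18057, 15940), (18058, 19993), (18059, 19454), (18060, 18479), (18061, 19921), (18062, 19995), (18063, 15948), (18064, 18064), (18065, 15951), (18066, 19844), (18067, 15965), (18068, 15971), (18069, 19735), (18070, 15975), (18071, 19998), (18072, 19853), (18073, 15972), (18074, 19999), (18075, 18988), (18076, 20000), (18077, 15976), (18078, 18078), (18079, 17985), (18080, 15979), (18081, 18081), (18082, 17283), (18083, 18083), (18084, 18010), (18085, 16106), (18086, 15990), (18087, 18087), (18088, 18013), (18089, 15994), (18090, 17005), (18091, 17150), (18092, 17506), (18093, 17153), (18094, 16390), (18095, 18007), (18096, 16003), (18097, 16244), (18098, 16018), (18099,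 18020), (18100, 18100), (18101, 18008), (18102, 18102), (18103, 20008), (18104, 16014), (18105, 20005), (18106, 16016), (18107, 17287), (18108, 18108), (18109, 16022), (18110, 16030), (18111, 16025)]
    ⟨e3 q18048 (flp_d L694180) q15928, e3 q18049 (flp_d L713775) q19910, e3 q18050 (flp_d L699743) q18477, e3 q18051 (flp_d L713791) q19912, e3 q18052 L714399 q19989, e3 q18053 (flp_d L694220) q15935, e3 q18054 (flp_d L713815) q19915, e3 q18055 L714414 q19991, e3 q18056 (flp_d L694244) q15938, e3 q18057 L694254 q15940, e3 q18058 (flp_d L714426) q19993, e3 q18059 (flp_d L710280) q19454, e3 q18060 (flp_d L699765) q18479, e3 q18061 (flp_d L713859) q19921, e3 q18062 L714442 q19995, e3 q18063 (flp_d L694304) q15948, e3 q18064 L694318 q18064, e3 q18065 (flp_d L694319) q15951, e3 q18066 (flp_d L713288) q19844, e3 q18067 L694332 q15965, e3 q18068 L694340 q15971, e3 q18069 (flp_d L712475) q19735, e3 q18070 L694352 q15975, e3 q18071 L714461 q19998, e3 q18072 (flp_d L713363) q19853, e3 q18073 L694372 q15972, e3 q18074 L714466 q19999, e3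 q18075 (flp_d L705472) q18988, e3 q18076 L714472 q20000, e3 q18077 (flp_d L694400) q15976, e3 q18078 L694411 q18078, e3 q18079 (flp_d L694437) q17985, e3 q18080 (flp_d L694439) q15979, e3 q18081 L694462 q18081, e3 q18082 L694480 q17283, e3 q18083 L694499 q18083, e3 q18084 (flp_d L694526) q18010, e3 q18085 L694541 q16106, e3 q18086 (flp_d L694545) q15990, e3 q18087 L694567 q18087, e3 q18088 (flp_d L694590) q18013, e3 q18089 (flp_d L694592) q15994, e3 q18090 L694616 q17005, e3 q18091 L694632 q17150, e3 q18092 L694653 q17506, e3 q18093 L694663 q17153, e3 q18094 L694681 q16390, e3 q18095 (flp_d L694695) q18007, e3 q18096 (flp_d L694697) q16003, e3 q18097 L694723 q16244, e3 q18098 L694739 q16018, e3 q18099 L694758 q18020, e3 q18100 L694768 q18100, e3 q18101 (flp_d L694790) q18008, e3 q18102 L694799 q18102, e3 q18103 L714595 q20008, e3 q18104 (flp_d L694821) q16014, e3 q18105 (flp_d L714557) q20005, e3 q18106 (flp_d L694846) q16016, e3 q18107 L694869 q17287, e3 q18108 L694885 q18108, e3 q18109 L694896 q16022, e3 q18110 L694918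 q16030, e3 q18111 L694930 q16025, trivial⟩ (by decide +kernel)

theorem ce_d_283 : ∀ r, r < 64 → sm gd (Qf (18112 + r)) = Qf (tab Gen.d (18112 + r)) :=
  edges_tab (sm gd) Qf (tab Gen.d) 18112 [(18112, 18112), (18113, 16034), (18114, 16032), (18115, 16051), (18116, 20012), (18117, 20017), (18118, 16036), (18119, 17544), (18120, 16410), (18121, 16452), (18122, 16044), (18123, 18123), (18124, 20011), (18125, 20013), (18126, 17204), (18127, 16052), (18128, 16053), (18129, 20023), (18130, 20021), (18131, 20024), (18132, 16054), (18133, 16059), (18134, 20027), (18135, 18135), (18136, 16061), (18137, 16493), (18138, 16524), (18139, 18139), (18140, 16128), (18141, 16066), (18142, 20033), (18143, 16086), (18144, 16174), (18145, 16068), (18146, 16079), (18147, 16070), (18148, 16088), (18149, 18149), (18150, 16089), (18151, 16081), (18152, 16082), (18153, 16138), (18154, 16090), (18155, 18155), (18156, 16091), (18157, 18157), (18158, 17645), (18159, 20054), (18160, 20039), (18161, 20040), (18162, 20048), (18163, 20057), (18164, 16084),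 (18165, 20035), (18166, 20042), (18167, 20044), (18168, 20050), (18169, 17643), (18170, 16670), (18171, 16541), (18172, 16099), (18173, 20062), (18174, 16101), (18175, 16104)]
    ⟨e3 q18112 L694952 q18112, e3 q18113 L694963 q16034, e3 q18114 L694977 q16032, e3 q18115 L694995 q16051, e3 q18116 (flp_d L714672) q20012, e3 q18117 L714747 q20017, e3 q18118 L695038 q16036, e3 q18119 L695062 q17544, e3 q18120 L695074 q16410, e3 q18121 L695101 q16452, e3 q18122 L695112 q16044, e3 q18123 L695130 q18123, e3 q18124 (flp_d L714660) q20011, e3 q18125 (flp_d L714696) q20013, e3 q18126 L695183 q17204, e3 q18127 L695195 q16052, e3 q18128 L695213 q16053, e3 q18129 L714854 q20023, e3 q18130 (flp_d L714828) q20021, e3 q18131 L714866 q20024, e3 q18132 (flp_d L695270) q16054, e3 q18133 (flp_d L695281) q16059, e3 q18134 (flp_d L714920) q20027, e3 q18135 L695329 q18135, e3 q18136 L695338 q16061, e3 q18137 L695346 q16493, e3 q18138 L695380 q16524, e3 q18139 L695392 q18139, e3 q18140 L695407 q16128, e3 q18141 (flp_d L695411) q16066, e3 q18142 (flp_d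 L715012) q20033, e3 q18143 L695457 q16086, e3 q18144 L695469 q16174, e3 q18145 L695477 q16068, e3 q18146 L695497 q16079, e3 q18147 L695507 q16070, e3 q18148 L695515 q16088, e3 q18149 L695539 q18149, e3 q18150 L695546 q16089, e3 q18151 L695558 q16081, e3 q18152 L695568 q16082, e3 q18153 L695582 q16138, e3 q18154 L695588 q16090, e3 q18155 L695612 q18155, e3 q18156 L695621 q16091, e3 q18157 L695633 q18157, e3 q18158 L695646 q17645, e3 q18159 L715304 q20054, e3 q18160 (flp_d L715096) q20039, e3 q18161 (flp_d L715112) q20040, e3 q18162 (flp_d L715229) q20048, e3 q18163 L715349 q20057, e3 q18164 (flp_d L695716) q16084, e3 q18165 (flp_d L715044) q20035, e3 q18166 (flp_d L715140) q20042, e3 q18167 (flp_d L715175) q20044, e3 q18168 (flp_d L715253) q20050, e3 q18169 (flp_d L695803) q17643, e3 q18170 L695810 q16670, e3 q18171 L695835 q16541, e3 q18172 (flp_d L695837) q16099, e3 q18173 (flp_d L715436) q20062, e3 q18174 L695878 q16101, e3 q18175 L695894 q16104, trivial⟩ (by decide +kernel)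

theorem ce_d_284 : ∀ r, r < 64 → sm gd (Qf (18176 + r)) = Qf (tab Gen.d (18176 + r)) :=
  edges_tab (sm gd) Qf (tab Gen.d) 18176 [(18176, 17271), (18177, 20065), (18178, 16262), (18179, 16108), (18180, 17688), (18181, 16113), (18182, 16114), (18183, 20070), (18184, 20068), (18185, 16115), (18186, 16569), (18187, 16646), (18188, 16119), (18189, 20072), (18190, 17883), (18191, 16121), (18192, 16123), (18193, 18193), (18194, 18194), (18195, 20030), (18196, 18196), (18197, 18197), (18198, 20082), (18199, 16314), (18200, 16130), (18201, 17298), (18202, 16155), (18203, 16319), (18204, 16320), (18205, 20038), (18206, 20041), (18207, 17254), (18208, 16146), (18209, 16147), (18210, 20093), (18211, 17240), (18212, 16561), (18213, 16562), (18214, 17581), (18215, 16149), (18216, 16150), (18217, 20098), (18218, 16145), (18219, 20090), (18220, 20091), (18221, 20102), (18222, 16148), (18223, 20096), (18224, 20104), (18225, 16151), (18226, 16833), (18227, 20106), (18228, 16157), (18229, 20110), (18230, 20111), (18231, 16159), (18232, 20115),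 (18233, 18233), (18234, 20109), (18235, 16161), (18236, 18236), (18237, 18237), (18238, 16163), (18239, 18239)]
    ⟨e3 q18176 L695914 q17271, e3 q18177 L715480 q20065, e3 q18178 L695947 q16262, e3 q18179 L695957 q16108, e3 q18180 L695977 q17688, e3 q18181 L695989 q16113, e3 q18182 L696007 q16114, e3 q18183 L715565 q20070, e3 q18184 (flp_d L715537) q20068, e3 q18185 (flp_d L696047) q16115, e3 q18186 L696070 q16569, e3 q18187 L696098 q16646, e3 q18188 (flp_d L696101) q16119, e3 q18189 (flp_d L715609) q20072, e3 q18190 L696147 q17883, e3 q18191 L696157 q16121, e3 q18192 L696171 q16123, e3 q18193 L696187 q18193, e3 q18194 L696200 q18194, e3 q18195 (flp_d L714970) q20030, e3 q18196 L696227 q18196, e3 q18197 L696240 q18197, e3 q18198 L715754 q20082, e3 q18199 L696269 q16314, e3 q18200 L696281 q16130, e3 q18201 L696301 q17298, e3 q18202 L696313 q16155, e3 q18203 L696329 q16319, e3 q18204 L696339 q16320, e3 q18205 (flp_d L715086) q20038, e3 q18206 (flp_d L715132) q20041, e3 q18207 L696381 q17254, e3 q18208 L696393 q16146, e3 q18209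 L696405 q16147, e3 q18210 L715909 q20093, e3 q18211 L696441 q17240, e3 q18212 L696453 q16561, e3 q18213 L696469 q16562, e3 q18214 L696491 q17581, e3 q18215 L696501 q16149, e3 q18216 L696511 q16150, e3 q18217 L715977 q20098, e3 q18218 (flp_d L696525) q16145, e3 q18219 (flp_d L715877) q20090, e3 q18220 (flp_d L715891) q20091, e3 q18221 L716036 q20102, e3 q18222 (flp_d L696575) q16148, e3 q18223 (flp_d L715961) q20096, e3 q18224 L716058 q20104, e3 q18225 (flp_d L696617) q16151, e3 q18226 L696635 q16833, e3 q18227 L716086 q20106, e3 q18228 (flp_d L696651) q16157, e3 q18229 (flp_d L716147) q20110, e3 q18230 L716152 q20111, e3 q18231 (flp_d L696690) q16159, e3 q18232 (flp_d L716214) q20115, e3 q18233 L696727 q18233, e3 q18234 (flp_d L716139) q20109, e3 q18235 L696744 q16161, e3 q18236 L696761 q18236, e3 q18237 L696777 q18237, e3 q18238 L696784 q16163, e3 q18239 L696797 q18239, trivial⟩ (by decide +kernel)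

theorem ce_d_285 : ∀ r, r < 64 → sm gd (Qf (18240 + r)) = Qf (tab Gen.d (18240 + r)) :=
  edges_tab (sm gd) Qf (tab Gen.d) 18240 [(18240, 18240), (18241, 18241), (18242, 16304), (18243, 20128), (18244, 20129), (18245, 16170), (18246, 20131), (18247, 16196), (18248, 20032), (18249, 16172), (18250, 16198), (18251, 20139), (18252, 16200), (18253, 20036), (18254, 20037), (18255, 16321), (18256, 18256), (18257, 16203), (18258, 16189), (18259, 16190), (18260, 16326), (18261, 16205), (18262, 18262), (18263, 18263), (18264, 20154), (18265, 16192), (18266, 20156), (18267, 20157), (18268, 20158), (18269, 16187), (18270, 16188), (18271, 20148), (18272, 20149), (18273, 20163), (18274, 20164), (18275, 16193), (18276, 18276), (18277, 20133), (18278, 16361), (18279, 20168), (18280, 20138), (18281, 16199), (18282, 20172), (18283, 20174), (18284, 17489), (18285, 20175), (18286, 20176), (18287, 16206), (18288, 16932), (18289, 16208), (18290, 18290), (18291, 16668), (18292, 17131), (18293, 20179), (18294, 16836), (18295, 16215), (18296, 16217),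 (18297, 16218), (18298, 18298), (18299, 20180), (18300, 16224), (18301, 20183), (18302, 16225), (18303, 20184)]
    ⟨e3 q18240 L696810 q18240, e3 q18241 L696823 q18241, e3 q18242 L696836 q16304, e3 q18243 L716380 q20128, e3 q18244 L716394 q20129, e3 q18245 (flp_d L696870) q16170, e3 q18246 (flp_d L716432) q20131, e3 q18247 L696912 q16196, e3 q18248 (flp_d L715002) q20032, e3 q18249 L696928 q16172, e3 q18250 L696936 q16198, e3 q18251 L716533 q20139, e3 q18252 L696964 q16200, e3 q18253 (flp_d L715058) q20036, e3 q18254 (flp_d L715070) q20037, e3 q18255 L697000 q16321, e3 q18256 L697015 q18256, e3 q18257 L697024 q16203, e3 q18258 L697035 q16189, e3 q18259 L697045 q16190, e3 q18260 L697061 q16326, e3 q18261 L697071 q16205, e3 q18262 L697087 q18262, e3 q18263 L697100 q18263, e3 q18264 L716716 q20154, e3 q18265 L697119 q16192, e3 q18266 L716736 q20156, e3 q18267 L716748 q20157, e3 q18268 L716765 q20158, e3 q18269 (flp_d L697165) q16187, e3 q18270 (flp_d L697176) q16188, e3 q18271 (flp_d L716645) q20148, e3 q18272 (flp_d L716656)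 q20149, e3 q18273 L716827 q20163, e3 q18274 L716839 q20164, e3 q18275 (flp_d L697238) q16193, e3 q18276 L697259 q18276, e3 q18277 (flp_d L716461) q20133, e3 q18278 L697290 q16361, e3 q18279 L716890 q20168, e3 q18280 (flp_d L716525) q20138, e3 q18281 (flp_d L697321) q16199, e3 q18282 (flp_d L716951) q20172, e3 q18283 L716972 q20174, e3 q18284 L697369 q17489, e3 q18285 L716983 q20175, e3 q18286 L716995 q20176, e3 q18287 (flp_d L697399) q16206, e3 q18288 (flp_d L697423) q16932, e3 q18289 (flp_d L697425) q16208, e3 q18290 L697449 q18290, e3 q18291 L697465 q16668, e3 q18292 L697474 q17131, e3 q18293 L717038 q20179, e3 q18294 L697508 q16836, e3 q18295 (flp_d L697511) q16215, e3 q18296 (flp_d L697527) q16217, e3 q18297 (flp_d L697544) q16218, e3 q18298 L697575 q18298, e3 q18299 L717057 q20180, e3 q18300 (flp_d L697594) q16224, e3 q18301 (flp_d L717115) q20183, e3 q18302 (flp_d L697624) q16225, e3 q18303 (flp_d L717129) q20184, trivial⟩ (by decide +kernel)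

theorem ce_d_286 : ∀ r, r < 64 → sm gd (Qf (18304 + r)) = Qf (tab Gen.d (18304 + r)) :=
  edges_tab (sm gd) Qf (tab Gen.d) 18304 [(18304, 16227), (18305, 17429), (18306, 20186), (18307, 16230), (18308, 20190), (18309, 18309), (18310, 20061), (18311, 16232), (18312, 18312), (18313, 16234), (18314, 18314), (18315, 16241), (18316, 16242), (18317, 17481), (18318, 20201), (18319, 20202), (18320, 20199), (18321, 20204), (18322, 16245), (18323, 16246), (18324, 20206), (18325, 16247), (18326, 20208), (18327, 18327), (18328, 20205), (18329, 16249), (18330, 16251), (18331, 18331), (18332, 18332), (18333, 18333), (18334, 17871), (18335, 20218), (18336, 20219), (18337, 16258), (18338, 20221), (18339, 17659), (18340, 16260), (18341, 17880), (18342, 16283), (18343, 17651), (18344, 20066), (18345, 17927), (18346, 17937), (18347, 20229), (18348, 16273), (18349, 16274), (18350, 20233), (18351, 16269), (18352, 16276), (18353, 16277), (18354, 20236), (18355, 16272), (18356, 20230), (18357, 20231), (18358, 20239), (18359, 16275), (18360, 20234),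 (18361, 20241), (18362, 16278), (18363, 16933), (18364, 20242), (18365, 16285), (18366, 16287), (18367, 20245)]
    ⟨e3 q18304 L697661 q16227, e3 q18305 L697680 q17429, e3 q18306 L717152 q20186, e3 q18307 (flp_d L697698) q16230, e3 q18308 (flp_d L717212) q20190, e3 q18309 L697735 q18309, e3 q18310 (flp_d L715424) q20061, e3 q18311 L697750 q16232, e3 q18312 L697769 q18312, e3 q18313 L697776 q16234, e3 q18314 L697791 q18314, e3 q18315 L697804 q16241, e3 q18316 L697820 q16242, e3 q18317 L697836 q17481, e3 q18318 L717358 q20201, e3 q18319 L717374 q20202, e3 q18320 (flp_d L717334) q20199, e3 q18321 L717408 q20204, e3 q18322 (flp_d L697899) q16245, e3 q18323 (flp_d L697913) q16246, e3 q18324 (flp_d L717445) q20206, e3 q18325 (flp_d L697940) q16247, e3 q18326 (flp_d L717468) q20208, e3 q18327 L697977 q18327, e3 q18328 (flp_d L717435) q20205, e3 q18329 L697990 q16249, e3 q18330 L698002 q16251, e3 q18331 L698017 q18331, e3 q18332 L698032 q18332, e3 q18333 L698047 q18333, e3 q18334 L698060 q17871, e3 q18335 L717603 q20218, e3 q18336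 L717619 q20219, e3 q18337 (flp_d L698094) q16258, e3 q18338 (flp_d L717653) q20221, e3 q18339 L698128 q17659, e3 q18340 L698138 q16260, e3 q18341 L698156 q17880, e3 q18342 L698168 q16283, e3 q18343 L698182 q17651, e3 q18344 (flp_d L715503) q20066, e3 q18345 L698204 q17927, e3 q18346 L698217 q17937, e3 q18347 L717756 q20229, e3 q18348 L698241 q16273, e3 q18349 L698253 q16274, e3 q18350 L717812 q20233, e3 q18351 (flp_d L698271) q16269, e3 q18352 L698294 q16276, e3 q18353 L698309 q16277, e3 q18354 L717855 q20236, e3 q18355 (flp_d L698330) q16272, e3 q18356 (flp_d L717780) q20230, e3 q18357 (flp_d L717796) q20231, e3 q18358 L717903 q20239, e3 q18359 (flp_d L698383) q16275, e3 q18360 (flp_d L717834) q20234, e3 q18361 L717928 q20241, e3 q18362 (flp_d L698422) q16278, e3 q18363 L698447 q16933, e3 q18364 L717941 q20242, e3 q18365 (flp_d L698467) q16285, e3 q18366 (flp_d L698482) q16287, e3 q18367 (flp_d L717984) q20245, trivial⟩ (by decide +kernel)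

theorem ce_d_287 : ∀ r, r < 64 → sm gd (Qf (18368 + r)) = Qf (tab Gen.d (18368 + r)) :=
  edges_tab (sm gd) Qf (tab Gen.d) 18368 [(18368, 18368), (18369, 16294), (18370, 16289), (18371, 16290), (18372, 20253), (18373, 18373), (18374, 20244), (18375, 16292), (18376, 18376), (18377, 20262), (18378, 18378), (18379, 20249), (18380, 20250), (18381, 20120), (18382, 18382), (18383, 18383), (18384, 18384), (18385, 18385), (18386, 20124), (18387, 18387), (18388, 17010), (18389, 17015), (18390, 20277), (18391, 18391), (18392, 18392), (18393, 20281), (18394, 20282), (18395, 17864), (18396, 16307), (18397, 18397), (18398, 18398), (18399, 20286), (18400, 16310), (18401, 20034), (18402, 16312), (18403, 16359), (18404, 17301), (18405, 16360), (18406, 17619), (18407, 20083), (18408, 20136), (18409, 16362), (18410, 20301), (18411, 16364), (18412, 16317), (18413, 17799), (18414, 20306), (18415, 20310), (18416, 20087), (18417, 20088), (18418, 20314), (18419, 16369), (18420, 16370), (18421, 20317), (18422, 16347), (18423, 16348), (18424, 20321),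 (18425, 16372), (18426, 17175), (18427, 17181), (18428, 20325), (18429, 17185), (18430, 17818), (18431, 17916)]
    ⟨e3 q18368 L698514 q18368, e3 q18369 L698523 q16294, e3 q18370 L698529 q16289, e3 q18371 (flp_d L698534) q16290, e3 q18372 (flp_d L718067) q20253, e3 q18373 L698567 q18373, e3 q18374 (flp_d L717978) q20244, e3 q18375 L698580 q16292, e3 q18376 L698588 q18376, e3 q18377 L718169 q20262, e3 q18378 L698611 q18378, e3 q18379 (flp_d L718025) q20249, e3 q18380 (flp_d L718036) q20250, e3 q18381 (flp_d L716281) q20120, e3 q18382 L698644 q18382, e3 q18383 L698662 q18383, e3 q18384 L698676 q18384, e3 q18385 L698689 q18385, e3 q18386 (flp_d L716335) q20124, e3 q18387 L698712 q18387, e3 q18388 L698725 q17010, e3 q18389 L698741 q17015, e3 q18390 L718359 q20277, e3 q18391 L698765 q18391, e3 q18392 L698774 q18392, e3 q18393 L718402 q20281, e3 q18394 L718411 q20282, e3 q18395 L698815 q17864, e3 q18396 (flp_d L698819) q16307, e3 q18397 L698835 q18397, e3 q18398 L698849 q18398, e3 q18399 L718469 q20286, e3 q18400 (flp_d L698869)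 q16310, e3 q18401 (flp_d L715034) q20034, e3 q18402 L698889 q16312, e3 q18403 L698898 q16359, e3 q18404 L698914 q17301, e3 q18405 L698924 q16360, e3 q18406 L698938 q17619, e3 q18407 (flp_d L715773) q20083, e3 q18408 (flp_d L716499) q20136, e3 q18409 L698964 q16362, e3 q18410 L718653 q20301, e3 q18411 L698988 q16364, e3 q18412 (flp_d L698994) q16317, e3 q18413 L699014 q17799, e3 q18414 (flp_d L718725) q20306, e3 q18415 L718773 q20310, e3 q18416 (flp_d L715837) q20087, e3 q18417 (flp_d L715853) q20088, e3 q18418 L718807 q20314, e3 q18419 L699064 q16369, e3 q18420 L699081 q16370, e3 q18421 L718839 q20317, e3 q18422 L699107 q16347, e3 q18423 L699118 q16348, e3 q18424 L718888 q20321, e3 q18425 L699145 q16372, e3 q18426 L699159 q17175, e3 q18427 L699175 q17181, e3 q18428 L718947 q20325, e3 q18429 L699199 q17185, e3 q18430 L699211 q17818, e3 q18431 L699229 q17916, trivial⟩ (by decide +kernel)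

theorem ce_d_288 : ∀ r, r < 64 → sm gd (Qf (18432 + r)) = Qf (tab Gen.d (18432 + r)) :=
  edges_tab (sm gd) Qf (tab Gen.d) 18432 [(18432, 16332), (18433, 16350), (18434, 16351), (18435, 20332), (18436, 16335), (18437, 20334), (18438, 17815), (18439, 16338), (18440, 17192), (18441, 17145), (18442, 17094), (18443, 17928), (18444, 16354), (18445, 20340), (18446, 16345), (18447, 17470), (18448, 20318), (18449, 20319), (18450, 20344), (18451, 16349), (18452, 20330), (18453, 20347), (18454, 16352), (18455, 17501), (18456, 20351), (18457, 16355), (18458, 16375), (18459, 17395), (18460, 20291), (18461, 20293), (18462, 20355), (18463, 20356), (18464, 20300), (18465, 16363), (18466, 20360), (18467, 20362), (18468, 18468), (18469, 16366), (18470, 20365), (18471, 16367), (18472, 20315), (18473, 20368), (18474, 16371), (18475, 20352), (18476, 16373), (18477, 18050), (18478, 17323), (18479, 18060), (18480, 17148), (18481, 20374), (18482, 16380), (18483, 17165), (18484, 20003), (18485, 17717), (18486, 16384), (18487, 20004), (18488, 16388),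 (18489, 18012), (18490, 18490), (18491, 18491), (18492, 16490), (18493, 16398), (18494, 16486), (18495, 17986)]
    ⟨e3 q18432 (flp_d L699231) q16332, e3 q18433 L699241 q16350, e3 q18434 L699249 q16351, e3 q18435 L719025 q20332, e3 q18436 (flp_d L699261) q16335, e3 q18437 L719043 q20334, e3 q18438 L699297 q17815, e3 q18439 (flp_d L699301) q16338, e3 q18440 L699318 q17192, e3 q18441 L699333 q17145, e3 q18442 L699352 q17094, e3 q18443 L699363 q17928, e3 q18444 L699369 q16354, e3 q18445 L719132 q20340, e3 q18446 (flp_d L699384) q16345, e3 q18447 L699400 q17470, e3 q18448 (flp_d L718856) q20318, e3 q18449 (flp_d L718871) q20319, e3 q18450 L719184 q20344, e3 q18451 (flp_d L699444) q16349, e3 q18452 (flp_d L719011) q20330, e3 q18453 L719216 q20347, e3 q18454 (flp_d L699471) q16352, e3 q18455 L699485 q17501, e3 q18456 L719250 q20351, e3 q18457 (flp_d L699497) q16355, e3 q18458 L699516 q16375, e3 q18459 L699520 q17395, e3 q18460 (flp_d L718529) q20291, e3 q18461 (flp_d L718559) q20293, e3 q18462 L719302 q20355, e3 q18463 L719311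 q20356, e3 q18464 (flp_d L718647) q20300, e3 q18465 (flp_d L699597) q16363, e3 q18466 (flp_d L719377) q20360, e3 q18467 L719400 q20362, e3 q18468 L699646 q18468, e3 q18469 L699653 q16366, e3 q18470 L719434 q20365, e3 q18471 (flp_d L699676) q16367, e3 q18472 (flp_d L718821) q20315, e3 q18473 L719466 q20368, e3 q18474 (flp_d L699708) q16371, e3 q18475 (flp_d L719271) q20352, e3 q18476 (flp_d L699729) q16373, e3 q18477 L699743 q18050, e3 q18478 L699755 q17323, e3 q18479 L699765 q18060, e3 q18480 L699776 q17148, e3 q18481 L719531 q20374, e3 q18482 (flp_d L699797) q16380, e3 q18483 L699818 q17165, e3 q18484 (flp_d L714526) q20003, e3 q18485 L699850 q17717, e3 q18486 (flp_d L699853) q16384, e3 q18487 (flp_d L714541) q20004, e3 q18488 (flp_d L699875) q16388, e3 q18489 L699896 q18012, e3 q18490 L699916 q18490, e3 q18491 L699932 q18491, e3 q18492 L699949 q16490, e3 q18493 (flp_d L699952) q16398, e3 q18494 L699982 q16486, e3 q18495 (flp_d L700001) q17986, trivial⟩ (by decide +kernel)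

theorem ce_d_289 : ∀ r, r < 64 → sm gd (Qf (18496 + r)) = Qf (tab Gen.d (18496 + r)) :=
  edges_tab (sm gd) Qf (tab Gen.d) 18496 [(18496, 16631), (18497, 16406), (18498, 20376), (18499, 16408), (18500, 16412), (18501, 20378), (18502, 18502), (18503, 18503), (18504, 16414), (18505, 16633), (18506, 16416), (18507, 20382), (18508, 16634), (18509, 16419), (18510, 16430), (18511, 16424), (18512, 16483), (18513, 20386), (18514, 20387), (18515, 16433), (18516, 18516), (18517, 18517), (18518, 18518), (18519, 18519), (18520, 16506), (18521, 16439), (18522, 16441), (18523, 16513), (18524, 16455), (18525, 20396), (18526, 16450), (18527, 20398), (18528, 20399), (18529, 16451), (18530, 20401), (18531, 16456), (18532, 17552), (18533, 16460), (18534, 16462), (18535, 18535), (18536, 18536), (18537, 20377), (18538, 16465), (18539, 20407), (18540, 18540), (18541, 16467), (18542, 18542), (18543, 16488), (18544, 18544), (18545, 18545), (18546, 20381), (18547, 16473), (18548, 16475), (18549, 16489), (18550, 16484), (18551, 16485), (18552, 20383),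 (18553, 16491), (18554, 18554), (18555, 20421), (18556, 20422), (18557, 20417), (18558, 20402), (18559, 16487)]
    ⟨e3 q18496 L700018 q16631, e3 q18497 (flp_d L700022) q16406, e3 q18498 (flp_d L719570) q20376, e3 q18499 L700065 q16408, e3 q18500 (flp_d L700073) q16412, e3 q18501 (flp_d L719606) q20378, e3 q18502 L700121 q18502, e3 q18503 L700138 q18503, e3 q18504 L700147 q16414, e3 q18505 L700168 q16633, e3 q18506 (flp_d L700170) q16416, e3 q18507 (flp_d L719672) q20382, e3 q18508 L700211 q16634, e3 q18509 L700227 q16419, e3 q18510 L700241 q16430, e3 q18511 L700259 q16424, e3 q18512 L700277 q16483, e3 q18513 L719726 q20386, e3 q18514 L719743 q20387, e3 q18515 L700317 q16433, e3 q18516 L700327 q18516, e3 q18517 L700346 q18517, e3 q18518 L700359 q18518, e3 q18519 L700370 q18519, e3 q18520 L700381 q16506, e3 q18521 L700391 q16439, e3 q18522 L700409 q16441, e3 q18523 L700423 q16513, e3 q18524 L700431 q16455, e3 q18525 L719876 q20396, e3 q18526 L700453 q16450, e3 q18527 L719900 q20398, e3 q18528 L719908 q20399, e3 q18529 (flp_d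 L700486) q16451, e3 q18530 L719942 q20401, e3 q18531 (flp_d L700510) q16456, e3 q18532 L700534 q17552, e3 q18533 L700545 q16460, e3 q18534 L700557 q16462, e3 q18535 L700567 q18535, e3 q18536 L700588 q18536, e3 q18537 (flp_d L719594) q20377, e3 q18538 (flp_d L700601) q16465, e3 q18539 (flp_d L720039) q20407, e3 q18540 L700649 q18540, e3 q18541 L700654 q16467, e3 q18542 L700660 q18542, e3 q18543 L700691 q16488, e3 q18544 L700699 q18544, e3 q18545 L700708 q18545, e3 q18546 (flp_d L719660) q20381, e3 q18547 L700727 q16473, e3 q18548 L700741 q16475, e3 q18549 L700755 q16489, e3 q18550 L700769 q16484, e3 q18551 L700785 q16485, e3 q18552 (flp_d L719694) q20383, e3 q18553 L700803 q16491, e3 q18554 L700815 q18554, e3 q18555 L720213 q20421, e3 q18556 L720223 q20422, e3 q18557 (flp_d L720173) q20417, e3 q18558 (flp_d L719972) q20402, e3 q18559 (flp_d L700866) q16487, trivial⟩ (by decide +kernel)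

theorem ce_d_290 : ∀ r, r < 64 → sm gd (Qf (18560 + r)) = Qf (tab Gen.d (18560 + r)) :=
  edges_tab (sm gd) Qf (tab Gen.d) 18560 [(18560, 20411), (18561, 20400), (18562, 20425), (18563, 16492), (18564, 16495), (18565, 16497), (18566, 18566), (18567, 18567), (18568, 20388), (18569, 18569), (18570, 17514), (18571, 20433), (18572, 18572), (18573, 20435), (18574, 18574), (18575, 20393), (18576, 20394), (18577, 18577), (18578, 20438), (18579, 20439), (18580, 16529), (18581, 18581), (18582, 20442), (18583, 18583), (18584, 20444), (18585, 16519), (18586, 16525), (18587, 20447), (18588, 16522), (18589, 16523), (18590, 16526), (18591, 18591), (18592, 16528), (18593, 20025), (18594, 16530), (18595, 18595), (18596, 18596), (18597, 18597), (18598, 16596), (18599, 16741), (18600, 16672), (18601, 18601), (18602, 16727), (18603, 18011), (18604, 20094), (18605, 20452), (18606, 16564), (18607, 20455), (18608, 16565), (18609, 20456), (18610, 16567), (18611, 16688), (18612, 20458), (18613, 16571), (18614, 20462), (18615, 16572), (18616, 20463),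 (18617, 18617), (18618, 18618), (18619, 16574), (18620, 18620), (18621, 18621), (18622, 16703), (18623, 20470)]
    ⟨e3 q18560 (flp_d L720099) q20411, e3 q18561 (flp_d L719938) q20400, e3 q18562 L720260 q20425, e3 q18563 (flp_d L700918) q16492, e3 q18564 L700931 q16495, e3 q18565 L700945 q16497, e3 q18566 L700961 q18566, e3 q18567 L700970 q18567, e3 q18568 (flp_d L719770) q20388, e3 q18569 L700991 q18569, e3 q18570 L701006 q17514, e3 q18571 L720369 q20433, e3 q18572 L701026 q18572, e3 q18573 L720390 q20435, e3 q18574 L701043 q18574, e3 q18575 (flp_d L719840) q20393, e3 q18576 (flp_d L719860) q20394, e3 q18577 L701072 q18577, e3 q18578 L720415 q20438, e3 q18579 L720425 q20439, e3 q18580 L701105 q16529, e3 q18581 L701123 q18581, e3 q18582 L720467 q20442, e3 q18583 L701146 q18583, e3 q18584 L720491 q20444, e3 q18585 (flp_d L701161) q16519, e3 q18586 L701171 q16525, e3 q18587 L720512 q20447, e3 q18588 (flp_d L701187) q16522, e3 q18589 (flp_d L701193) q16523, e3 q18590 (flp_d L701202) q16526, e3 q18591 L701218 q18591, e3 q18592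 (flp_d L701219) q16528, e3 q18593 (flp_d L714894) q20025, e3 q18594 (flp_d L701242) q16530, e3 q18595 L701260 q18595, e3 q18596 L701277 q18596, e3 q18597 L701294 q18597, e3 q18598 L701303 q16596, e3 q18599 L701326 q16741, e3 q18600 L701344 q16672, e3 q18601 L701362 q18601, e3 q18602 L701380 q16727, e3 q18603 (flp_d L701398) q18011, e3 q18604 (flp_d L715929) q20094, e3 q18605 L720572 q20452, e3 q18606 (flp_d L701430) q16564, e3 q18607 (flp_d L720625) q20455, e3 q18608 (flp_d L701457) q16565, e3 q18609 (flp_d L720637) q20456, e3 q18610 L701490 q16567, e3 q18611 L701502 q16688, e3 q18612 L720655 q20458, e3 q18613 (flp_d L701519) q16571, e3 q18614 (flp_d L720721) q20462, e3 q18615 (flp_d L701546) q16572, e3 q18616 (flp_d L720733) q20463, e3 q18617 L701584 q18617, e3 q18618 L701601 q18618, e3 q18619 L701606 q16574, e3 q18620 L701618 q18620, e3 q18621 L701631 q18621, e3 q18622 L701642 q16703, e3 q18623 L720824 q20470, trivial⟩ (by decide +kernel)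

theorem ce_d_291 : ∀ r, r < 64 → sm gd (Qf (18624 + r)) = Qf (tab Gen.d (18624 + r)) :=
  edges_tab (sm gd) Qf (tab Gen.d) 18624 [(18624, 16579), (18625, 20473), (18626, 16597), (18627, 16866), (18628, 16581), (18629, 16583), (18630, 16599), (18631, 16591), (18632, 16592), (18633, 16718), (18634, 16601), (18635, 20484), (18636, 20485), (18637, 20481), (18638, 20487), (18639, 16594), (18640, 17711), (18641, 20475), (18642, 16738), (18643, 20489), (18644, 16602), (18645, 16603), (18646, 20492), (18647, 16604), (18648, 20494), (18649, 18649), (18650, 20491), (18651, 16606), (18652, 16608), (18653, 18653), (18654, 18654), (18655, 18655), (18656, 18656), (18657, 16765), (18658, 18658), (18659, 17990), (18660, 20509), (18661, 18661), (18662, 18662), (18663, 20512), (18664, 16618), (18665, 20514), (18666, 16897), (18667, 16620), (18668, 16650), (18669, 20519), (18670, 16652), (18671, 16902), (18672, 16903), (18673, 16782), (18674, 16787), (18675, 16656), (18676, 20526), (18677, 16640), (18678, 16641), (18679, 20529), (18680, 16658),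 (18681, 17991), (18682, 20532), (18683, 16675), (18684, 20060), (18685, 20415), (18686, 16635), (18687, 16643)]
    ⟨e3 q18624 (flp_d L701662) q16579, e3 q18625 (flp_d L720876) q20473, e3 q18626 L701696 q16597, e3 q18627 L701704 q16866, e3 q18628 L701710 q16581, e3 q18629 L701722 q16583, e3 q18630 L701736 q16599, e3 q18631 L701752 q16591, e3 q18632 L701764 q16592, e3 q18633 L701778 q16718, e3 q18634 L701788 q16601, e3 q18635 L721016 q20484, e3 q18636 L721030 q20485, e3 q18637 (flp_d L720980) q20481, e3 q18638 L721059 q20487, e3 q18639 (flp_d L701839) q16594, e3 q18640 L701855 q17711, e3 q18641 (flp_d L720902) q20475, e3 q18642 L701892 q16738, e3 q18643 L721091 q20489, e3 q18644 (flp_d L701910) q16602, e3 q18645 (flp_d L701923) q16603, e3 q18646 (flp_d L721134) q20492, e3 q18647 (flp_d L701948) q16604, e3 q18648 (flp_d L721153) q20494, e3 q18649 L701981 q18649, e3 q18650 (flp_d L721126) q20491, e3 q18651 L701990 q16606, e3 q18652 L702000 q16608, e3 q18653 L702008 q18653, e3 q18654 L702021 q18654, e3 q18655 L702026 q18655,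 e3 q18656 L702031 q18656, e3 q18657 L702040 q16765, e3 q18658 L702050 q18658, e3 q18659 L702059 q17990, e3 q18660 L721294 q20509, e3 q18661 L702081 q18661, e3 q18662 L702096 q18662, e3 q18663 L721332 q20512, e3 q18664 (flp_d L702107) q16618, e3 q18665 (flp_d L721361) q20514, e3 q18666 L702141 q16897, e3 q18667 L702145 q16620, e3 q18668 L702153 q16650, e3 q18669 L721409 q20519, e3 q18670 L702173 q16652, e3 q18671 L702181 q16902, e3 q18672 L702187 q16903, e3 q18673 L702199 q16782, e3 q18674 L702205 q16787, e3 q18675 L702211 q16656, e3 q18676 L721475 q20526, e3 q18677 L702227 q16640, e3 q18678 L702235 q16641, e3 q18679 L721501 q20529, e3 q18680 L702251 q16658, e3 q18681 L702263 q17991, e3 q18682 L721531 q20532, e3 q18683 L702281 q16675, e3 q18684 (flp_d L715408) q20060, e3 q18685 (flp_d L720153) q20415, e3 q18686 (flp_d L702305) q16635, e3 q18687 L702319 q16643, trivial⟩ (by decide +kernel)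

theorem ce_d_292 : ∀ r, r < 64 → sm gd (Qf (18688 + r)) = Qf (tab Gen.d (18688 + r)) :=
  edges_tab (sm gd) Qf (tab Gen.d) 18688 [(18688, 20537), (18689, 16638), (18690, 20527), (18691, 20540), (18692, 16642), (18693, 20542), (18694, 16644), (18695, 17605), (18696, 16937), (18697, 16821), (18698, 20518), (18699, 16651), (18700, 20544), (18701, 20546), (18702, 17948), (18703, 20547), (18704, 16657), (18705, 16659), (18706, 17633), (18707, 16731), (18708, 17123), (18709, 17713), (18710, 17718), (18711, 16674), (18712, 20551), (18713, 20533), (18714, 16677), (18715, 20095), (18716, 16679), (18717, 20554), (18718, 18718), (18719, 16952), (18720, 16681), (18721, 16683), (18722, 18722), (18723, 18723), (18724, 20457), (18725, 18725), (18726, 20564), (18727, 20565), (18728, 16690), (18729, 20569), (18730, 16691), (18731, 20572), (18732, 18732), (18733, 20568), (18734, 16693), (18735, 18735), (18736, 16695), (18737, 18737), (18738, 16739), (18739, 18739), (18740, 18740), (18741, 18741), (18742, 20467), (18743, 18743), (18744, 17571),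 (18745, 20589), (18746, 20590), (18747, 16704), (18748, 20592), (18749, 16732), (18750, 16976), (18751, 16706)]
    ⟨e3 q18688 L721595 q20537, e3 q18689 (flp_d L702335) q16638, e3 q18690 (flp_d L721489) q20527, e3 q18691 L721638 q20540, e3 q18692 (flp_d L702364) q16642, e3 q18693 L721658 q20542, e3 q18694 (flp_d L702386) q16644, e3 q18695 L702406 q17605, e3 q18696 L702418 q16937, e3 q18697 L702438 q16821, e3 q18698 (flp_d L721401) q20518, e3 q18699 (flp_d L702453) q16651, e3 q18700 (flp_d L721694) q20544, e3 q18701 L721717 q20546, e3 q18702 L702502 q17948, e3 q18703 L721726 q20547, e3 q18704 (flp_d L702520) q16657, e3 q18705 (flp_d L702527) q16659, e3 q18706 L702547 q17633, e3 q18707 L702554 q16731, e3 q18708 L702566 q17123, e3 q18709 L702586 q17713, e3 q18710 L702602 q17718, e3 q18711 (flp_d L702605) q16674, e3 q18712 (flp_d L721794) q20551, e3 q18713 (flp_d L721551) q20533, e3 q18714 L702654 q16677, e3 q18715 (flp_d L715951) q20095, e3 q18716 (flp_d L702670) q16679, e3 q18717 (flp_d L721830) q20554, e3 q18718 L702703 q18718,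 e3 q18719 L702710 q16952, e3 q18720 L702716 q16681, e3 q18721 L702728 q16683, e3 q18722 L702738 q18722, e3 q18723 L702757 q18723, e3 q18724 (flp_d L720653) q20457, e3 q18725 L702774 q18725, e3 q18726 L721939 q20564, e3 q18727 L721948 q20565, e3 q18728 (flp_d L702801) q16690, e3 q18729 (flp_d L722011) q20569, e3 q18730 (flp_d L702826) q16691, e3 q18731 (flp_d L722041) q20572, e3 q18732 L702855 q18732, e3 q18733 (flp_d L722003) q20568, e3 q18734 L702868 q16693, e3 q18735 L702888 q18735, e3 q18736 L702893 q16695, e3 q18737 L702899 q18737, e3 q18738 (flp_d L702926) q16739, e3 q18739 L702934 q18739, e3 q18740 L702941 q18740, e3 q18741 L702948 q18741, e3 q18742 (flp_d L720792) q20467, e3 q18743 L702969 q18743, e3 q18744 L702982 q17571, e3 q18745 L722236 q20589, e3 q18746 L722245 q20590, e3 q18747 (flp_d L703006) q16704, e3 q18748 (flp_d L722266) q20592, e3 q18749 L703034 q16732, e3 q18750 L703042 q16976, e3 q18751 L703048 q16706, trivial⟩ (by decide +kernel)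

theorem ce_d_293 : ∀ r, r < 64 → sm gd (Qf (18752 + r)) = Qf (tab Gen.d (18752 + r)) :=
  edges_tab (sm gd) Qf (tab Gen.d) 18752 [(18752, 16735), (18753, 20296), (18754, 16736), (18755, 16981), (18756, 16982), (18757, 20478), (18758, 16740), (18759, 16725), (18760, 16726), (18761, 20479), (18762, 16742), (18763, 16743), (18764, 18764), (18765, 18765), (18766, 20613), (18767, 16728), (18768, 20615), (18769, 16745), (18770, 18770), (18771, 20618), (18772, 20619), (18773, 16723), (18774, 16724), (18775, 20598), (18776, 20607), (18777, 20548), (18778, 20624), (18779, 16729), (18780, 18780), (18781, 20582), (18782, 20594), (18783, 17009), (18784, 20451), (18785, 20600), (18786, 20630), (18787, 17961), (18788, 20583), (18789, 20541), (18790, 20609), (18791, 20632), (18792, 16744), (18793, 20105), (18794, 16746), (18795, 18795), (18796, 16748), (18797, 20638), (18798, 18798), (18799, 16755), (18800, 16750), (18801, 16751), (18802, 20646), (18803, 18803), (18804, 20637), (18805, 16753), (18806, 18806), (18807, 20654), (18808, 18808),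 (18809, 20642), (18810, 20643), (18811, 20500), (18812, 18812), (18813, 18813), (18814, 18814), (18815, 20501)]
    ⟨e3 q18752 L703056 q16735, e3 q18753 (flp_d L718597) q20296, e3 q18754 L703076 q16736, e3 q18755 L703086 q16981, e3 q18756 L703094 q16982, e3 q18757 (flp_d L720944) q20478, e3 q18758 L703114 q16740, e3 q18759 L703126 q16725, e3 q18760 L703136 q16726, e3 q18761 (flp_d L720958) q20479, e3 q18762 L703154 q16742, e3 q18763 L703170 q16743, e3 q18764 L703180 q18764, e3 q18765 L703187 q18765, e3 q18766 L722477 q20613, e3 q18767 L703204 q16728, e3 q18768 L722491 q20615, e3 q18769 L703224 q16745, e3 q18770 L703236 q18770, e3 q18771 L722523 q20618, e3 q18772 L722531 q20619, e3 q18773 (flp_d L703253) q16723, e3 q18774 (flp_d L703261) q16724, e3 q18775 (flp_d L722326) q20598, e3 q18776 (flp_d L722418) q20607, e3 q18777 (flp_d L721754) q20548, e3 q18778 L722587 q20624, e3 q18779 (flp_d L703318) q16729, e3 q18780 L703334 q18780, e3 q18781 (flp_d L722155) q20582, e3 q18782 (flp_d L722286) q20594, e3 q18783 L703364 q17009,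 e3 q18784 (flp_d L720569) q20451, e3 q18785 (flp_d L722350) q20600, e3 q18786 L722667 q20630, e3 q18787 L703413 q17961, e3 q18788 (flp_d L722171) q20583, e3 q18789 (flp_d L721654) q20541, e3 q18790 (flp_d L722444) q20609, e3 q18791 L722689 q20632, e3 q18792 (flp_d L703467) q16744, e3 q18793 (flp_d L716075) q20105, e3 q18794 (flp_d L703485) q16746, e3 q18795 L703499 q18795, e3 q18796 (flp_d L703500) q16748, e3 q18797 (flp_d L722762) q20638, e3 q18798 L703530 q18798, e3 q18799 L703539 q16755, e3 q18800 L703545 q16750, e3 q18801 (flp_d L703550) q16751, e3 q18802 (flp_d L722841) q20646, e3 q18803 L703587 q18803, e3 q18804 (flp_d L722756) q20637, e3 q18805 L703596 q16753, e3 q18806 L703604 q18806, e3 q18807 L722925 q20654, e3 q18808 L703629 q18808, e3 q18809 (flp_d L722799) q20642, e3 q18810 (flp_d L722810) q20643, e3 q18811 (flp_d L721209) q20500, e3 q18812 L703660 q18812, e3 q18813 L703669 q18813, e3 q18814 L703678 q18814, e3 q18815 (flp_d L721221) q20501, trivial⟩ (by decide +kernel)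

theorem ce_d_294 : ∀ r, r < 64 → sm gd (Qf (18816 + r)) = Qf (tab Gen.d (18816 + r)) :=
  edges_tab (sm gd) Qf (tab Gen.d) 18816 [(18816, 18816), (18817, 17566), (18818, 17569), (18819, 20667), (18820, 18820), (18821, 18821), (18822, 20670), (18823, 20671), (18824, 20672), (18825, 16768), (18826, 18826), (18827, 20675), (18828, 16771), (18829, 17055), (18830, 16773), (18831, 20680), (18832, 16819), (18833, 17060), (18834, 17061), (18835, 20516), (18836, 16822), (18837, 20688), (18838, 16824), (18839, 16778), (18840, 20692), (18841, 20694), (18842, 20698), (18843, 17070), (18844, 17071), (18845, 20702), (18846, 18846), (18847, 18847), (18848, 20705), (18849, 16808), (18850, 20707), (18851, 16830), (18852, 18852), (18853, 18853), (18854, 20711), (18855, 18855), (18856, 18856), (18857, 20714), (18858, 16793), (18859, 16810), (18860, 16811), (18861, 20718), (18862, 16796), (18863, 20099), (18864, 20720), (18865, 16799), (18866, 18866), (18867, 20723), (18868, 16802), (18869, 20725), (18870, 16814), (18871, 20728), (18872, 16806),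 (18873, 20724), (18874, 20729), (18875, 16809), (18876, 20716), (18877, 20730), (18878, 16812), (18879, 18879)]
    ⟨e3 q18816 L703699 q18816, e3 q18817 L703712 q17566, e3 q18818 L703722 q17569, e3 q18819 L723055 q20667, e3 q18820 L703738 q18820, e3 q18821 L703745 q18821, e3 q18822 L723075 q20670, e3 q18823 L723082 q20671, e3 q18824 L723095 q20672, e3 q18825 (flp_d L703780) q16768, e3 q18826 L703789 q18826, e3 q18827 L723120 q20675, e3 q18828 (flp_d L703802) q16771, e3 q18829 L703813 q17055, e3 q18830 L703817 q16773, e3 q18831 L723156 q20680, e3 q18832 L703837 q16819, e3 q18833 L703847 q17060, e3 q18834 L703855 q17061, e3 q18835 (flp_d L721383) q20516, e3 q18836 L703871 q16822, e3 q18837 L723242 q20688, e3 q18838 L703897 q16824, e3 q18839 (flp_d L703905) q16778, e3 q18840 (flp_d L723296) q20692, e3 q18841 (flp_d L723311) q20694, e3 q18842 L723341 q20698, e3 q18843 L703937 q17070, e3 q18844 L703945 q17071, e3 q18845 L723373 q20702, e3 q18846 L703963 q18846, e3 q18847 L703972 q18847, e3 q18848 L723402 q20705, e3 q18849 L703993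 q16808, e3 q18850 L723420 q20707, e3 q18851 L704015 q16830, e3 q18852 L704031 q18852, e3 q18853 L704044 q18853, e3 q18854 L723473 q20711, e3 q18855 L704065 q18855, e3 q18856 L704072 q18856, e3 q18857 L723500 q20714, e3 q18858 (flp_d L704083) q16793, e3 q18859 L704091 q16810, e3 q18860 L704097 q16811, e3 q18861 L723525 q20718, e3 q18862 (flp_d L704107) q16796, e3 q18863 (flp_d L715999) q20099, e3 q18864 L723537 q20720, e3 q18865 (flp_d L704137) q16799, e3 q18866 L704149 q18866, e3 q18867 L723566 q20723, e3 q18868 (flp_d L704162) q16802, e3 q18869 (flp_d L723585) q20725, e3 q18870 L704171 q16814, e3 q18871 L723605 q20728, e3 q18872 (flp_d L704185) q16806, e3 q18873 (flp_d L723580) q20724, e3 q18874 L723615 q20729, e3 q18875 (flp_d L704207) q16809, e3 q18876 (flp_d L723513) q20716, e3 q18877 L723624 q20730, e3 q18878 (flp_d L704239) q16812, e3 q18879 L704249 q18879, trivial⟩ (by decide +kernel)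

theorem ce_d_295 : ∀ r, r < 64 → sm gd (Qf (18880 + r)) = Qf (tab Gen.d (18880 + r)) :=
  edges_tab (sm gd) Qf (tab Gen.d) 18880 [(18880, 16815), (18881, 18881), (18882, 18882), (18883, 16818), (18884, 20736), (18885, 20738), (18886, 20178), (18887, 20739), (18888, 20687), (18889, 16823), (18890, 20743), (18891, 20745), (18892, 18892), (18893, 16826), (18894, 20748), (18895, 16827), (18896, 16828), (18897, 16829), (18898, 20103), (18899, 16831), (18900, 18900), (18901, 17156), (18902, 17629), (18903, 17507), (18904, 17785), (18905, 17954), (18906, 17331), (18907, 16852), (18908, 16854), (18909, 20755), (18910, 18910), (18911, 20454), (18912, 16856), (18913, 18913), (18914, 16858), (18915, 18915), (18916, 16957), (18917, 20763), (18918, 16863), (18919, 20765), (18920, 20472), (18921, 16865), (18922, 20476), (18923, 20477), (18924, 16983), (18925, 16874), (18926, 16988), (18927, 16876), (18928, 20772), (18929, 16873), (18930, 20773), (18931, 20774), (18932, 16877), (18933, 16880), (18934, 20776), (18935, 16922), (18936, 16886),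 (18937, 16882), (18938, 16883), (18939, 20783), (18940, 20775), (18941, 16885), (18942, 20779), (18943, 20780)]
    ⟨e3 q18880 (flp_d L704250) q16815, e3 q18881 L704268 q18881, e3 q18882 L704271 q18882, e3 q18883 (flp_d L704277) q16818, e3 q18884 (flp_d L723684) q20736, e3 q18885 L723701 q20738, e3 q18886 (flp_d L717035) q20178, e3 q18887 L723710 q20739, e3 q18888 (flp_d L723234) q20687, e3 q18889 (flp_d L704344) q16823, e3 q18890 (flp_d L723769) q20743, e3 q18891 L723790 q20745, e3 q18892 L704388 q18892, e3 q18893 L704393 q16826, e3 q18894 L723818 q20748, e3 q18895 (flp_d L704408) q16827, e3 q18896 (flp_d L704415) q16828, e3 q18897 (flp_d L704429) q16829, e3 q18898 (flp_d L716056) q20103, e3 q18899 (flp_d L704450) q16831, e3 q18900 L704466 q18900, e3 q18901 L704472 q17156, e3 q18902 L704492 q17629, e3 q18903 L704506 q17507, e3 q18904 L704516 q17785, e3 q18905 L704535 q17954, e3 q18906 L704551 q17331, e3 q18907 (flp_d L704554) q16852, e3 q18908 (flp_d L704569) q16854, e3 q18909 (flp_d L723896) q20755, e3 q18910 L704606 q18910,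 e3 q18911 (flp_d L720615) q20454, e3 q18912 L704623 q16856, e3 q18913 L704642 q18913, e3 q18914 L704649 q16858, e3 q18915 L704662 q18915, e3 q18916 L704675 q16957, e3 q18917 L723996 q20763, e3 q18918 (flp_d L704694) q16863, e3 q18919 (flp_d L724030) q20765, e3 q18920 (flp_d L720866) q20472, e3 q18921 L704736 q16865, e3 q18922 (flp_d L720918) q20476, e3 q18923 (flp_d L720930) q20477, e3 q18924 L704772 q16983, e3 q18925 L704782 q16874, e3 q18926 L704798 q16988, e3 q18927 L704808 q16876, e3 q18928 L724106 q20772, e3 q18929 (flp_d L704824) q16873, e3 q18930 L724118 q20773, e3 q18931 L724130 q20774, e3 q18932 (flp_d L704854) q16877, e3 q18933 (flp_d L704863) q16880, e3 q18934 (flp_d L724149) q20776, e3 q18935 L704890 q16922, e3 q18936 L704898 q16886, e3 q18937 L704904 q16882, e3 q18938 (flp_d L704909) q16883, e3 q18939 (flp_d L724219) q20783, e3 q18940 (flp_d L724143) q20775, e3 q18941 L704951 q16885, e3 q18942 (flp_d L724179) q20779, e3 q18943 (flp_d L724186) q20780, trivial⟩ (by decide +kernel)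

theorem ce_d_296 : ∀ r, r < 64 → sm gd (Qf (18944 + r)) = Qf (tab Gen.d (18944 + r)) :=
  edges_tab (sm gd) Qf (tab Gen.d) 18944 [(18944, 17032), (18945, 18945), (18946, 18946), (18947, 17038), (18948, 18948), (18949, 20792), (18950, 16893), (18951, 16934), (18952, 20513), (18953, 16895), (18954, 17735), (18955, 16936), (18956, 20474), (18957, 20515), (18958, 17062), (18959, 17790), (18960, 16938), (18961, 16900), (18962, 17733), (18963, 20804), (18964, 17793), (18965, 20522), (18966, 20523), (18967, 20810), (18968, 17794), (18969, 16923), (18970, 20812), (18971, 17741), (18972, 17333), (18973, 17422), (18974, 16925), (18975, 16926), (18976, 20816), (18977, 16915), (18978, 16929), (18979, 20819), (18980, 16920), (18981, 17425), (18982, 20778), (18983, 20821), (18984, 16924), (18985, 20814), (18986, 20823), (18987, 16927), (18988, 18075), (18989, 20826), (18990, 16930), (18991, 20794), (18992, 16940), (18993, 16941), (18994, 20829), (18995, 20793), (18996, 16943), (18997, 16945), (18998, 17769), (18999, 16948), (19000, 20834),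 (19001, 19001), (19002, 20553), (19003, 16950), (19004, 20839), (19005, 19005), (19006, 20558), (19007, 20759)]
    ⟨e3 q18944 L704987 q17032, e3 q18945 L704997 q18945, e3 q18946 L705008 q18946, e3 q18947 L705023 q17038, e3 q18948 L705033 q18948, e3 q18949 L724318 q20792, e3 q18950 (flp_d L705048) q16893, e3 q18951 L705071 q16934, e3 q18952 (flp_d L721351) q20513, e3 q18953 L705083 q16895, e3 q18954 L705102 q17735, e3 q18955 L705114 q16936, e3 q18956 (flp_d L720892) q20474, e3 q18957 (flp_d L721371) q20515, e3 q18958 L705140 q17062, e3 q18959 L705154 q17790, e3 q18960 L705164 q16938, e3 q18961 (flp_d L705172) q16900, e3 q18962 L705196 q17733, e3 q18963 (flp_d L724474) q20804, e3 q18964 L705224 q17793, e3 q18965 (flp_d L721447) q20522, e3 q18966 (flp_d L721457) q20523, e3 q18967 L724540 q20810, e3 q18968 L705261 q17794, e3 q18969 L705269 q16923, e3 q18970 L724554 q20812, e3 q18971 L705296 q17741, e3 q18972 L705308 q17333, e3 q18973 L705328 q17422, e3 q18974 L705338 q16925, e3 q18975 L705346 q16926, e3 q18976 L724601 q20816,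 e3 q18977 (flp_d L705356) q16915, e3 q18978 L705370 q16929, e3 q18979 L724632 q20819, e3 q18980 (flp_d L705385) q16920, e3 q18981 L705403 q17425, e3 q18982 (flp_d L724170) q20778, e3 q18983 L724652 q20821, e3 q18984 (flp_d L705425) q16924, e3 q18985 (flp_d L724587) q20814, e3 q18986 L724676 q20823, e3 q18987 (flp_d L705458) q16927, e3 q18988 L705472 q18075, e3 q18989 L724699 q20826, e3 q18990 (flp_d L705488) q16930, e3 q18991 (flp_d L724355) q20794, e3 q18992 L705518 q16940, e3 q18993 (flp_d L705526) q16941, e3 q18994 (flp_d L724745) q20829, e3 q18995 (flp_d L724345) q20793, e3 q18996 L705568 q16943, e3 q18997 L705580 q16945, e3 q18998 L705591 q17769, e3 q18999 (flp_d L705595) q16948, e3 q19000 (flp_d L724800) q20834, e3 q19001 L705626 q19001, e3 q19002 (flp_d L721820) q20553, e3 q19003 L705637 q16950, e3 q19004 L724844 q20839, e3 q19005 L705653 q19005, e3 q19006 (flp_d L721876) q20558, e3 q19007 (flp_d L723951) q20759, trivial⟩ (by decide +kernel)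

theorem ce_d_297 : ∀ r, r < 64 → sm gd (Qf (19008 + r)) = Qf (tab Gen.d (19008 + r)) :=
  edges_tab (sm gd) Qf (tab Gen.d) 19008 [(19008, 19008), (19009, 20761), (19010, 20844), (19011, 16958), (19012, 16959), (19013, 20846), (19014, 17160), (19015, 16965), (19016, 16961), (19017, 16962), (19018, 20853), (19019, 20845), (19020, 16964), (19021, 20849), (19022, 20850), (19023, 17756), (19024, 19024), (19025, 19025), (19026, 17763), (19027, 19027), (19028, 20863), (19029, 16972), (19030, 17004), (19031, 20591), (19032, 16974), (19033, 20870), (19034, 17008), (19035, 20595), (19036, 20596), (19037, 20767), (19038, 20877), (19039, 17012), (19040, 16979), (19041, 20880), (19042, 20882), (19043, 17844), (19044, 20604), (19045, 20886), (19046, 19046), (19047, 19047), (19048, 17852), (19049, 16998), (19050, 16999), (19051, 20892), (19052, 17857), (19053, 19053), (19054, 20894), (19055, 20895), (19056, 16994), (19057, 16996), (19058, 20897), (19059, 20890), (19060, 20899), (19061, 17000), (19062, 17001), (19063, 19063), (19064, 20326),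 (19065, 20866), (19066, 20002), (19067, 17007), (19068, 20904), (19069, 20905), (19070, 20275), (19071, 17011)]
    ⟨e3 q19008 L705680 q19008, e3 q19009 (flp_d L723978) q20761, e3 q19010 L724888 q20844, e3 q19011 (flp_d L705697) q16958, e3 q19012 (flp_d L705703) q16959, e3 q19013 (flp_d L724915) q20846, e3 q19014 L705744 q17160, e3 q19015 L705752 q16965, e3 q19016 L705758 q16961, e3 q19017 (flp_d L705763) q16962, e3 q19018 (flp_d L725001) q20853, e3 q19019 (flp_d L724905) q20845, e3 q19020 L705811 q16964, e3 q19021 (flp_d L724955) q20849, e3 q19022 (flp_d L724962) q20850, e3 q19023 L705847 q17756, e3 q19024 L705857 q19024, e3 q19025 L705868 q19025, e3 q19026 L705883 q17763, e3 q19027 L705893 q19027, e3 q19028 L725110 q20863, e3 q19029 (flp_d L705908) q16972, e3 q19030 L705929 q17004, e3 q19031 (flp_d L722260) q20591, e3 q19032 L705945 q16974, e3 q19033 L725188 q20870, e3 q19034 L705972 q17008, e3 q19035 (flp_d L722298) q20595, e3 q19036 (flp_d L722308) q20596, e3 q19037 (flp_d L724057) q20767, e3 q19038 L725266 q20877, e3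 q19039 L706016 q17012, e3 q19040 (flp_d L706024) q16979, e3 q19041 (flp_d L725306) q20880, e3 q19042 (flp_d L725327) q20882, e3 q19043 L706062 q17844, e3 q19044 (flp_d L722388) q20604, e3 q19045 L725363 q20886, e3 q19046 L706090 q19046, e3 q19047 L706103 q19047, e3 q19048 L706120 q17852, e3 q19049 L706128 q16998, e3 q19050 L706135 q16999, e3 q19051 L725426 q20892, e3 q19052 L706158 q17857, e3 q19053 L706168 q19053, e3 q19054 L725445 q20894, e3 q19055 L725456 q20895, e3 q19056 (flp_d L706189) q16994, e3 q19057 (flp_d L706197) q16996, e3 q19058 (flp_d L725482) q20897, e3 q19059 (flp_d L725413) q20890, e3 q19060 L725493 q20899, e3 q19061 (flp_d L706232) q17000, e3 q19062 (flp_d L706240) q17001, e3 q19063 L706254 q19063, e3 q19064 (flp_d L718963) q20326, e3 q19065 (flp_d L725155) q20866, e3 q19066 (flp_d L714503) q20002, e3 q19067 (flp_d L706301) q17007, e3 q19068 (flp_d L725550) q20904, e3 q19069 L725555 q20905, e3 q19070 (flp_d L718333) q20275, e3 q19071 (flp_d L706356) q17011, trivial⟩ (by decide +kernel)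

theorem ce_d_298 : ∀ r, r < 64 → sm gd (Qf (19072 + r)) = Qf (tab Gen.d (19072 + r)) :=
  edges_tab (sm gd) Qf (tab Gen.d) 19072 [(19072, 20908), (19073, 17164), (19074, 17014), (19075, 17016), (19076, 20912), (19077, 17166), (19078, 17025), (19079, 17018), (19080, 17168), (19081, 20922), (19082, 17170), (19083, 17030), (19084, 17031), (19085, 20781), (19086, 17132), (19087, 20911), (19088, 17023), (19089, 17173), (19090, 17886), (19091, 17174), (19092, 20916), (19093, 20917), (19094, 20786), (19095, 20942), (19096, 17177), (19097, 17028), (19098, 20945), (19099, 20947), (19100, 17808), (19101, 20926), (19102, 20927), (19103, 20954), (19104, 17180), (19105, 18029), (19106, 18027), (19107, 17812), (19108, 19108), (19109, 19109), (19110, 20962), (19111, 17814), (19112, 17382), (19113, 18028), (19114, 20966), (19115, 19115), (19116, 19116), (19117, 20969), (19118, 17045), (19119, 17389), (19120, 17392), (19121, 20341), (19122, 17049), (19123, 19123), (19124, 20974), (19125, 17052), (19126, 17479), (19127, 17120), (19128, 20979),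 (19129, 17122), (19130, 20677), (19131, 20678), (19132, 20797), (19133, 17125), (19134, 20988), (19135, 17127)]
    ⟨e3 q19072 (flp_d L725600) q20908, e3 q19073 L706392 q17164, e3 q19074 L706398 q17014, e3 q19075 (flp_d L706403) q17016, e3 q19076 (flp_d L725649) q20912, e3 q19077 L706440 q17166, e3 q19078 L706446 q17025, e3 q19079 L706450 q17018, e3 q19080 L706457 q17168, e3 q19081 L725735 q20922, e3 q19082 L706472 q17170, e3 q19083 L706479 q17030, e3 q19084 L706484 q17031, e3 q19085 (flp_d L724199) q20781, e3 q19086 L706506 q17132, e3 q19087 (flp_d L725641) q20911, e3 q19088 L706518 q17023, e3 q19089 L706527 q17173, e3 q19090 L706547 q17886, e3 q19091 L706555 q17174, e3 q19092 (flp_d L725691) q20916, e3 q19093 (flp_d L725698) q20917, e3 q19094 (flp_d L724258) q20786, e3 q19095 L725928 q20942, e3 q19096 L706595 q17177, e3 q19097 (flp_d L706601) q17028, e3 q19098 (flp_d L725964) q20945, e3 q19099 (flp_d L725986) q20947, e3 q19100 L706641 q17808, e3 q19101 (flp_d L725771) q20926, e3 q19102 (flp_d L725780) q20927, e3 q19103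 L726054 q20954, e3 q19104 L706673 q17180, e3 q19105 L706684 q18029, e3 q19106 L706696 q18027, e3 q19107 L706712 q17812, e3 q19108 L706718 q19108, e3 q19109 L706724 q19109, e3 q19110 L726139 q20962, e3 q19111 L706744 q17814, e3 q19112 L706756 q17382, e3 q19113 L706768 q18028, e3 q19114 L726187 q20966, e3 q19115 L706786 q19115, e3 q19116 L706793 q19116, e3 q19117 L726216 q20969, e3 q19118 (flp_d L706804) q17045, e3 q19119 L706819 q17389, e3 q19120 L706834 q17392, e3 q19121 (flp_d L719142) q20341, e3 q19122 (flp_d L706855) q17049, e3 q19123 L706870 q19123, e3 q19124 L726272 q20974, e3 q19125 (flp_d L706884) q17052, e3 q19126 L706900 q17479, e3 q19127 L706904 q17120, e3 q19128 L726332 q20979, e3 q19129 L706925 q17122, e3 q19130 (flp_d L723136) q20677, e3 q19131 (flp_d L723142) q20678, e3 q19132 (flp_d L724386) q20797, e3 q19133 L706954 q17125, e3 q19134 L726418 q20988, e3 q19135 L706976 q17127, trivial⟩ (by decide +kernel)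

theorem ce_d_299 : ∀ r, r < 64 → sm gd (Qf (19136 + r)) = Qf (tab Gen.d (19136 + r)) :=
  edges_tab (sm gd) Qf (tab Gen.d) 19136 [(19136, 17058), (19137, 20992), (19138, 20994), (19139, 20998), (19140, 20599), (19141, 20684), (19142, 21002), (19143, 20929), (19144, 17133), (19145, 17064), (19146, 21005), (19147, 21006), (19148, 21010), (19149, 17067), (19150, 20946), (19151, 17068), (19152, 21011), (19153, 21013), (19154, 21019), (19155, 17069), (19156, 20699), (19157, 20700), (19158, 21023), (19159, 17072), (19160, 17142), (19161, 19161), (19162, 19162), (19163, 21028), (19164, 19164), (19165, 19165), (19166, 21032), (19167, 17078), (19168, 17108), (19169, 17109), (19170, 21036), (19171, 17081), (19172, 20337), (19173, 19173), (19174, 19174), (19175, 21041), (19176, 17085), (19177, 19177), (19178, 19178), (19179, 21044), (19180, 17088), (19181, 21046), (19182, 17112), (19183, 21049), (19184, 17092), (19185, 21045), (19186, 19186), (19187, 19187), (19188, 20287), (19189, 17097), (19190, 19190), (19191, 21056), (19192, 17101),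 (19193, 17107), (19194, 17103), (19195, 21058), (19196, 17105), (19197, 20976), (19198, 20975), (19199, 21034)]
    ⟨e3 q19136 (flp_d L706982) q17058, e3 q19137 (flp_d L726462) q20992, e3 q19138 (flp_d L726483) q20994, e3 q19139 L726513 q20998, e3 q19140 (flp_d L722344) q20599, e3 q19141 (flp_d L723200) q20684, e3 q19142 L726547 q21002, e3 q19143 (flp_d L725803) q20929, e3 q19144 L707040 q17133, e3 q19145 (flp_d L707046) q17064, e3 q19146 (flp_d L726571) q21005, e3 q19147 (flp_d L726578) q21006, e3 q19148 L726614 q21010, e3 q19149 L707078 q17067, e3 q19150 (flp_d L725980) q20946, e3 q19151 L707089 q17068, e3 q19152 (flp_d L726628) q21011, e3 q19153 (flp_d L726640) q21013, e3 q19154 L726683 q21019, e3 q19155 (flp_d L707119) q17069, e3 q19156 (flp_d L723351) q20699, e3 q19157 (flp_d L723359) q20700, e3 q19158 L726715 q21023, e3 q19159 (flp_d L707153) q17072, e3 q19160 L707163 q17142, e3 q19161 L707174 q19161, e3 q19162 L707183 q19162, e3 q19163 L726756 q21028, e3 q19164 L707200 q19164, e3 q19165 L707206 q19165, e3 q19166 L726795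 q21032, e3 q19167 (flp_d L707220) q17078, e3 q19168 L707235 q17108, e3 q19169 L707242 q17109, e3 q19170 L726828 q21036, e3 q19171 (flp_d L707253) q17081, e3 q19172 (flp_d L719104) q20337, e3 q19173 L707274 q19173, e3 q19174 L707283 q19174, e3 q19175 L726879 q21041, e3 q19176 (flp_d L707294) q17085, e3 q19177 L707308 q19177, e3 q19178 L707315 q19178, e3 q19179 L726903 q21044, e3 q19180 (flp_d L707326) q17088, e3 q19181 (flp_d L726930) q21046, e3 q19182 L707345 q17112, e3 q19183 L726948 q21049, e3 q19184 (flp_d L707357) q17092, e3 q19185 (flp_d L726915) q21045, e3 q19186 L707377 q19186, e3 q19187 L707391 q19187, e3 q19188 (flp_d L718495) q20287, e3 q19189 (flp_d L707411) q17097, e3 q19190 L707421 q19190, e3 q19191 L727009 q21056, e3 q19192 (flp_d L707435) q17101, e3 q19193 L707447 q17107, e3 q19194 L707461 q17103, e3 q19195 L727022 q21058, e3 q19196 (flp_d L707470) q17105, e3 q19197 (flp_d L726295) q20976, e3 q19198 (flp_d L726291) q20975, e3 q19199 (flp_d L726816) q21034, trivial⟩ (by decide +kernel)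

theorem ce_d_300 : ∀ r, r < 64 → sm gd (Qf (19200 + r)) = Qf (tab Gen.d (19200 + r)) :=
  edges_tab (sm gd) Qf (tab Gen.d) 19200 [(19200, 21062), (19201, 17110), (19202, 19202), (19203, 21066), (19204, 17113), (19205, 19205), (19206, 20732), (19207, 19207), (19208, 17116), (19209, 19209), (19210, 19210), (19211, 20978), (19212, 17121), (19213, 21073), (19214, 21074), (19215, 20987), (19216, 17126), (19217, 17183), (19218, 17129), (19219, 17130), (19220, 20930), (19221, 20327), (19222, 17135), (19223, 17136), (19224, 17187), (19225, 21081), (19226, 17139), (19227, 21083), (19228, 21082), (19229, 20336), (19230, 17143), (19231, 19231), (19232, 19232), (19233, 17714), (19234, 17172), (19235, 20848), (19236, 17603), (19237, 20909), (19238, 20913), (19239, 20915), (19240, 20752), (19241, 20919), (19242, 20963), (19243, 20921), (19244, 17169), (19245, 21091), (19246, 21093), (19247, 17631), (19248, 20935), (19249, 20323), (19250, 17176), (19251, 21094), (19252, 17182), (19253, 17179), (19254, 21095), (19255, 21075), (19256, 20977),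 (19257, 17872), (19258, 21097), (19259, 17188), (19260, 17191), (19261, 17190), (19262, 21101), (19263, 17201)]
    ⟨e3 q19200 L727065 q21062, e3 q19201 (flp_d L707509) q17110, e3 q19202 L707524 q19202, e3 q19203 L727093 q21066, e3 q19204 (flp_d L707535) q17113, e3 q19205 L707547 q19205, e3 q19206 (flp_d L723642) q20732, e3 q19207 L707553 q19207, e3 q19208 (flp_d L707557) q17116, e3 q19209 L707572 q19209, e3 q19210 L707579 q19210, e3 q19211 (flp_d L726325) q20978, e3 q19212 (flp_d L707605) q17121, e3 q19213 (flp_d L727155) q21073, e3 q19214 L727163 q21074, e3 q19215 (flp_d L726410) q20987, e3 q19216 (flp_d L707666) q17126, e3 q19217 L707692 q17183, e3 q19218 L707696 q17129, e3 q19219 (flp_d L707701) q17130, e3 q19220 (flp_d L725811) q20930, e3 q19221 (flp_d L718979) q20327, e3 q19222 L707748 q17135, e3 q19223 (flp_d L707753) q17136, e3 q19224 L707765 q17187, e3 q19225 L727232 q21081, e3 q19226 (flp_d L707775) q17139, e3 q19227 (flp_d L727266) q21083, e3 q19228 (flp_d L727254) q21082, e3 q19229 (flp_d L719085) q20336, e3 q19230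 (flp_d L707823) q17143, e3 q19231 L707843 q19231, e3 q19232 L707850 q19232, e3 q19233 L707858 q17714, e3 q19234 L707880 q17172, e3 q19235 (flp_d L724944) q20848, e3 q19236 L707911 q17603, e3 q19237 (flp_d L725613) q20909, e3 q19238 (flp_d L725659) q20913, e3 q19239 (flp_d L725684) q20915, e3 q19240 (flp_d L723859) q20752, e3 q19241 (flp_d L725711) q20919, e3 q19242 (flp_d L726155) q20963, e3 q19243 (flp_d L725730) q20921, e3 q19244 (flp_d L708000) q17169, e3 q19245 (flp_d L727364) q21091, e3 q19246 L727387 q21093, e3 q19247 L708047 q17631, e3 q19248 (flp_d L725860) q20935, e3 q19249 (flp_d L718921) q20323, e3 q19250 (flp_d L708082) q17176, e3 q19251 (flp_d L727399) q21094, e3 q19252 L708121 q17182, e3 q19253 L708127 q17179, e3 q19254 (flp_d L727411) q21095, e3 q19255 (flp_d L727184) q21075, e3 q19256 (flp_d L726317) q20977, e3 q19257 L708182 q17872, e3 q19258 L727431 q21097, e3 q19259 (flp_d L708198) q17188, e3 q19260 L708218 q17191, e3 q19261 L708228 q17190, e3 q19262 (flp_d L727484) q21101, e3 q19263 L708252 q17201, trivial⟩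 (by decide +kernel)

theorem ce_d_301 : ∀ r, r < 64 → sm gd (Qf (19264 + r)) = Qf (tab Gen.d (19264 + r)) :=
  edges_tab (sm gd) Qf (tab Gen.d) 19264 [(19264, 17211), (19265, 17521), (19266, 17209), (19267, 20015), (19268, 19268), (19269, 17534), (19270, 19270), (19271, 21104), (19272, 20018), (19273, 17351), (19274, 17213), (19275, 17237), (19276, 17684), (19277, 17303), (19278, 17251), (19279, 17220), (19280, 17336), (19281, 17223), (19282, 17262), (19283, 17356), (19284, 17357), (19285, 17677), (19286, 17232), (19287, 17594), (19288, 17884), (19289, 21106), (19290, 17279), (19291, 17264), (19292, 17431), (19293, 17242), (19294, 20130), (19295, 17274), (19296, 17437), (19297, 20086), (19298, 17743), (19299, 17275), (19300, 17247), (19301, 21123), (19302, 21124), (19303, 21116), (19304, 17446), (19305, 17447), (19306, 21130), (19307, 17278), (19308, 20047), (19309, 19309), (19310, 19310), (19311, 21114), (19312, 19312), (19313, 19313), (19314, 21136), (19315, 17259), (19316, 17272), (19317, 21109), (19318, 21138), (19319,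 19319), (19320, 21140), (19321, 17267), (19322, 17273), (19323, 20063), (19324, 17277), (19325, 20009), (19326, 17285), (19327, 19327)]
    ⟨e3 q19264 L708268 q17211, e3 q19265 L708284 q17521, e3 q19266 L708296 q17209, e3 q19267 (flp_d L714731) q20015, e3 q19268 L708318 q19268, e3 q19269 L708335 q17534, e3 q19270 L708343 q19270, e3 q19271 L727515 q21104, e3 q19272 (flp_d L714778) q20018, e3 q19273 L708382 q17351, e3 q19274 L708392 q17213, e3 q19275 L708410 q17237, e3 q19276 L708424 q17684, e3 q19277 L708434 q17303, e3 q19278 L708448 q17251, e3 q19279 (flp_d L708450) q17220, e3 q19280 L708472 q17336, e3 q19281 L708482 q17223, e3 q19282 L708500 q17262, e3 q19283 L708510 q17356, e3 q19284 L708522 q17357, e3 q19285 L708532 q17677, e3 q19286 L708540 q17232, e3 q19287 L708558 q17594, e3 q19288 L708566 q17884, e3 q19289 (flp_d L727548) q21106, e3 q19290 L708588 q17279, e3 q19291 L708602 q17264, e3 q19292 L708614 q17431, e3 q19293 L708620 q17242, e3 q19294 (flp_d L716420) q20130, e3 q19295 L708640 q17274, e3 q19296 L708650 q17437,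 e3 q19297 (flp_d L715825) q20086, e3 q19298 L708676 q17743, e3 q19299 L708684 q17275, e3 q19300 (flp_d L708690) q17247, e3 q19301 (flp_d L727748) q21123, e3 q19302 (flp_d L727763) q21124, e3 q19303 (flp_d L727666) q21116, e3 q19304 L708728 q17446, e3 q19305 L708738 q17447, e3 q19306 L727821 q21130, e3 q19307 L708758 q17278, e3 q19308 (flp_d L715219) q20047, e3 q19309 L708784 q19309, e3 q19310 L708795 q19310, e3 q19311 (flp_d L727644) q21114, e3 q19312 L708814 q19312, e3 q19313 L708823 q19313, e3 q19314 L727885 q21136, e3 q19315 (flp_d L708840) q17259, e3 q19316 L708852 q17272, e3 q19317 (flp_d L727586) q21109, e3 q19318 L727904 q21138, e3 q19319 L708880 q19319, e3 q19320 L727915 q21140, e3 q19321 (flp_d L708889) q17267, e3 q19322 L708896 q17273, e3 q19323 (flp_d L715458) q20063, e3 q19324 L708916 q17277, e3 q19325 (flp_d L714627) q20009, e3 q19326 (flp_d L708933) q17285, e3 q19327 L708955 q19327, trivial⟩ (by decide +kernel)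

theorem ce_d_302 : ∀ r, r < 64 → sm gd (Qf (19328 + r)) = Qf (tab Gen.d (19328 + r)) :=
  edges_tab (sm gd) Qf (tab Gen.d) 19328 [(19328, 17294), (19329, 17291), (19330, 17341), (19331, 17293), (19332, 21145), (19333, 17411), (19334, 17414), (19335, 20085), (19336, 17438), (19337, 17314), (19338, 20292), (19339, 17315), (19340, 20294), (19341, 21156), (19342, 21157), (19343, 17317), (19344, 17318), (19345, 21160), (19346, 17320), (19347, 21162), (19348, 17310), (19349, 20335), (19350, 17312), (19351, 21152), (19352, 21164), (19353, 17316), (19354, 21158), (19355, 21167), (19356, 17319), (19357, 20370), (19358, 17321), (19359, 18022), (19360, 20753), (19361, 17327), (19362, 18005), (19363, 17575), (19364, 17335), (19365, 21108), (19366, 17468), (19367, 17456), (19368, 21173), (19369, 19369), (19370, 21147), (19371, 17863), (19372, 19372), (19373, 17853), (19374, 21178), (19375, 17347), (19376, 17375), (19377, 20026), (19378, 17349), (19379, 17377), (19380, 21187), (19381, 17379), (19382, 17609), (19383, 21105), (19384, 17913),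 (19385, 21193), (19386, 17384), (19387, 17354), (19388, 21196), (19389, 21197), (19390, 21200), (19391, 21110)]
    ⟨e3 q19328 L708966 q17294, e3 q19329 L708976 q17291, e3 q19330 L708992 q17341, e3 q19331 L709002 q17293, e3 q19332 (flp_d L727976) q21145, e3 q19333 L709026 q17411, e3 q19334 L709041 q17414, e3 q19335 (flp_d L715801) q20085, e3 q19336 L709067 q17438, e3 q19337 L709073 q17314, e3 q19338 (flp_d L718549) q20292, e3 q19339 L709097 q17315, e3 q19340 (flp_d L718571) q20294, e3 q19341 L728106 q21156, e3 q19342 L728116 q21157, e3 q19343 L709133 q17317, e3 q19344 L709150 q17318, e3 q19345 L728152 q21160, e3 q19346 L709176 q17320, e3 q19347 L728177 q21162, e3 q19348 (flp_d L709192) q17310, e3 q19349 (flp_d L719073) q20335, e3 q19350 (flp_d L709217) q17312, e3 q19351 (flp_d L728072) q21152, e3 q19352 L728198 q21164, e3 q19353 (flp_d L709245) q17316, e3 q19354 (flp_d L728134) q21158, e3 q19355 L728226 q21167, e3 q19356 (flp_d L709279) q17319, e3 q19357 (flp_d L719495) q20370, e3 q19358 (flp_d L709302) q17321, e3 q19359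 L709318 q18022, e3 q19360 (flp_d L723877) q20753, e3 q19361 (flp_d L709330) q17327, e3 q19362 L709351 q18005, e3 q19363 L709364 q17575, e3 q19364 L709374 q17335, e3 q19365 (flp_d L727568) q21108, e3 q19366 L709398 q17468, e3 q19367 L709411 q17456, e3 q19368 L728295 q21173, e3 q19369 L709429 q19369, e3 q19370 (flp_d L728004) q21147, e3 q19371 L709444 q17863, e3 q19372 L709454 q19372, e3 q19373 L709471 q17853, e3 q19374 L728339 q21178, e3 q19375 (flp_d L709485) q17347, e3 q19376 L709504 q17375, e3 q19377 (flp_d L714910) q20026, e3 q19378 L709516 q17349, e3 q19379 L709523 q17377, e3 q19380 L728424 q21187, e3 q19381 L709543 q17379, e3 q19382 L709555 q17609, e3 q19383 (flp_d L727530) q21105, e3 q19384 L709579 q17913, e3 q19385 L728490 q21193, e3 q19386 L709591 q17384, e3 q19387 (flp_d L709597) q17354, e3 q19388 (flp_d L728520) q21196, e3 q19389 (flp_d L728531) q21197, e3 q19390 L728555 q21200, e3 q19391 (flp_d L727596) q21110, trivial⟩ (by decide +kernel)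

theorem ce_d_303 : ∀ r, r < 64 → sm gd (Qf (19392 + r)) = Qf (tab Gen.d (19392 + r)) :=
  edges_tab (sm gd) Qf (tab Gen.d) 19392 [(19392, 21202), (19393, 17390), (19394, 19394), (19395, 19395), (19396, 21206), (19397, 17374), (19398, 17766), (19399, 21208), (19400, 19400), (19401, 21210), (19402, 17368), (19403, 17772), (19404, 17371), (19405, 17372), (19406, 20864), (19407, 21179), (19408, 21181), (19409, 17388), (19410, 21186), (19411, 17378), (19412, 21216), (19413, 21218), (19414, 18042), (19415, 20964), (19416, 17383), (19417, 21220), (19418, 21222), (19419, 17386), (19420, 21224), (19421, 17387), (19422, 20971), (19423, 21227), (19424, 17391), (19425, 20350), (19426, 17393), (19427, 19427), (19428, 19428), (19429, 19429), (19430, 21234), (19431, 19431), (19432, 17410), (19433, 21146), (19434, 19434), (19435, 17845), (19436, 17402), (19437, 19437), (19438, 21244), (19439, 19439), (19440, 17846), (19441, 21148), (19442, 21248), (19443, 19443), (19444, 17407), (19445, 21252), (19446, 21254), (19447, 21257), (19448, 17831),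 (19449, 17836), (19450, 21260), (19451, 19451), (19452, 21262), (19453, 17950), (19454, 18059), (19455, 21265)]
    ⟨e3 q19392 L728575 q21202, e3 q19393 L709651 q17390, e3 q19394 L709662 q19394, e3 q19395 L709673 q19395, e3 q19396 L728612 q21206, e3 q19397 L709694 q17374, e3 q19398 L709711 q17766, e3 q19399 L728637 q21208, e3 q19400 L709727 q19400, e3 q19401 L728653 q21210, e3 q19402 (flp_d L709740) q17368, e3 q19403 L709758 q17772, e3 q19404 (flp_d L709760) q17371, e3 q19405 (flp_d L709769) q17372, e3 q19406 (flp_d L725131) q20864, e3 q19407 (flp_d L728352) q21179, e3 q19408 (flp_d L728379) q21181, e3 q19409 L709824 q17388, e3 q19410 (flp_d L728418) q21186, e3 q19411 (flp_d L709836) q17378, e3 q19412 (flp_d L728727) q21216, e3 q19413 L728748 q21218, e3 q19414 L709883 q18042, e3 q19415 (flp_d L726171) q20964, e3 q19416 (flp_d L709897) q17383, e3 q19417 (flp_d L728775) q21220, e3 q19418 L728791 q21222, e3 q19419 L709930 q17386, e3 q19420 L728809 q21224, e3 q19421 (flp_d L709947) q17387, e3 q19422 (flp_d L726242) q20971, e3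 q19423 L728836 q21227, e3 q19424 (flp_d L709977) q17391, e3 q19425 (flp_d L719241) q20350, e3 q19426 (flp_d L709998) q17393, e3 q19427 L710014 q19427, e3 q19428 L710023 q19428, e3 q19429 L710028 q19429, e3 q19430 L728909 q21234, e3 q19431 L710051 q19431, e3 q19432 L710060 q17410, e3 q19433 (flp_d L727994) q21146, e3 q19434 L710085 q19434, e3 q19435 L710094 q17845, e3 q19436 L710100 q17402, e3 q19437 L710107 q19437, e3 q19438 L729008 q21244, e3 q19439 L710130 q19439, e3 q19440 L710139 q17846, e3 q19441 (flp_d L728022) q21148, e3 q19442 L729049 q21248, e3 q19443 L710171 q19443, e3 q19444 (flp_d L710174) q17407, e3 q19445 (flp_d L729092) q21252, e3 q19446 (flp_d L729105) q21254, e3 q19447 L729126 q21257, e3 q19448 L710207 q17831, e3 q19449 L710217 q17836, e3 q19450 L729157 q21260, e3 q19451 L710239 q19451, e3 q19452 L729176 q21262, e3 q19453 L710264 q17950, e3 q19454 L710280 q18059, e3 q19455 L729216 q21265, trivial⟩ (by decide +kernel)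

theorem ce_d_304 : ∀ r, r < 64 → sm gd (Qf (19456 + r)) = Qf (tab Gen.d (19456 + r)) :=
  edges_tab (sm gd) Qf (tab Gen.d) 19456 [(19456, 17952), (19457, 20817), (19458, 17419), (19459, 17780), (19460, 20813), (19461, 20338), (19462, 17424), (19463, 17784), (19464, 20185), (19465, 20132), (19466, 17483), (19467, 20658), (19468, 21115), (19469, 21142), (19470, 20847), (19471, 17485), (19472, 17434), (19473, 21277), (19474, 21279), (19475, 21282), (19476, 17639), (19477, 21284), (19478, 20914), (19479, 17490), (19480, 17440), (19481, 21288), (19482, 21290), (19483, 21294), (19484, 17443), (19485, 21253), (19486, 17444), (19487, 21295), (19488, 21297), (19489, 21303), (19490, 17445), (19491, 20645), (19492, 21128), (19493, 21307), (19494, 17448), (19495, 19495), (19496, 17498), (19497, 19497), (19498, 19498), (19499, 21314), (19500, 19500), (19501, 21316), (19502, 17454), (19503, 21171), (19504, 19504), (19505, 19505), (19506, 20333), (19507, 19507), (19508, 19508), (19509, 21322), (19510, 17461), (19511, 19511), (19512, 19512),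 (19513, 21325), (19514, 17464), (19515, 20970), (19516, 17482), (19517, 20195), (19518, 21328), (19519, 19519)]
    ⟨e3 q19456 L710302 q17952, e3 q19457 (flp_d L724619) q20817, e3 q19458 (flp_d L710320) q17419, e3 q19459 L710333 q17780, e3 q19460 (flp_d L724577) q20813, e3 q19461 (flp_d L719114) q20338, e3 q19462 (flp_d L710364) q17424, e3 q19463 L710378 q17784, e3 q19464 (flp_d L717148) q20185, e3 q19465 (flp_d L716451) q20132, e3 q19466 L710403 q17483, e3 q19467 (flp_d L722962) q20658, e3 q19468 (flp_d L727652) q21115, e3 q19469 (flp_d L727945) q21142, e3 q19470 (flp_d L724934) q20847, e3 q19471 L710442 q17485, e3 q19472 (flp_d L710448) q17434, e3 q19473 (flp_d L729329) q21277, e3 q19474 (flp_d L729342) q21279, e3 q19475 L729366 q21282, e3 q19476 L710484 q17639, e3 q19477 L729386 q21284, e3 q19478 (flp_d L725676) q20914, e3 q19479 L710512 q17490, e3 q19480 (flp_d L710516) q17440, e3 q19481 (flp_d L729426) q21288, e3 q19482 (flp_d L729439) q21290, e3 q19483 L729475 q21294, e3 q19484 L710548 q17443, e3 q19485 (flp_d L729101)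 q21253, e3 q19486 L710557 q17444, e3 q19487 (flp_d L729489) q21295, e3 q19488 (flp_d L729501) q21297, e3 q19489 L729536 q21303, e3 q19490 (flp_d L710581) q17445, e3 q19491 (flp_d L722835) q20645, e3 q19492 (flp_d L727803) q21128, e3 q19493 L729558 q21307, e3 q19494 (flp_d L710609) q17448, e3 q19495 L710626 q19495, e3 q19496 L710633 q17498, e3 q19497 L710644 q19497, e3 q19498 L710655 q19498, e3 q19499 L729626 q21314, e3 q19500 L710674 q19500, e3 q19501 L729647 q21316, e3 q19502 (flp_d L710690) q17454, e3 q19503 (flp_d L728281) q21171, e3 q19504 L710715 q19504, e3 q19505 L710728 q19505, e3 q19506 (flp_d L719041) q20333, e3 q19507 L710749 q19507, e3 q19508 L710760 q19508, e3 q19509 L729710 q21322, e3 q19510 (flp_d L710773) q17461, e3 q19511 L710785 q19511, e3 q19512 L710792 q19512, e3 q19513 L729734 q21325, e3 q19514 (flp_d L710803) q17464, e3 q19515 (flp_d L726232) q20970, e3 q19516 L710818 q17482, e3 q19517 (flp_d L717283) q20195, e3 q19518 L729751 q21328, e3 q19519 L710855 q19519, trivial⟩ (by decide +kernel)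

theorem ce_d_305 : ∀ r, r < 64 → sm gd (Qf (19520 + r)) = Qf (tab Gen.d (19520 + r)) :=
  edges_tab (sm gd) Qf (tab Gen.d) 19520 [(19520, 19520), (19521, 20283), (19522, 17473), (19523, 19523), (19524, 21332), (19525, 17477), (19526, 20197), (19527, 21333), (19528, 21334), (19529, 19529), (19530, 17487), (19531, 21337), (19532, 17488), (19533, 20348), (19534, 19534), (19535, 17492), (19536, 21341), (19537, 17493), (19538, 19538), (19539, 21344), (19540, 17496), (19541, 21345), (19542, 20345), (19543, 17499), (19544, 19544), (19545, 19545), (19546, 17524), (19547, 17526), (19548, 21348), (19549, 21349), (19550, 17515), (19551, 21351), (19552, 21352), (19553, 17520), (19554, 19554), (19555, 21355), (19556, 20403), (19557, 17527), (19558, 17975), (19559, 21357), (19560, 17531), (19561, 21359), (19562, 21360), (19563, 21361), (19564, 17536), (19565, 21362), (19566, 20427), (19567, 17539), (19568, 20019), (19569, 17541), (19570, 20446), (19571, 17545), (19572, 17547), (19573, 17549), (19574, 17979), (19575, 17980), (19576, 17748),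 (19577, 17554), (19578, 17612), (19579, 17724), (19580, 17558), (19581, 20777), (19582, 17567), (19583, 17726)]
    ⟨e3 q19520 L710869 q19520, e3 q19521 (flp_d L718437) q20283, e3 q19522 (flp_d L710889) q17473, e3 q19523 L710899 q19523, e3 q19524 L729798 q21332, e3 q19525 (flp_d L710909) q17477, e3 q19526 (flp_d L717310) q20197, e3 q19527 L729803 q21333, e3 q19528 L729811 q21334, e3 q19529 L710946 q19529, e3 q19530 L710949 q17487, e3 q19531 L729833 q21337, e3 q19532 (flp_d L710964) q17488, e3 q19533 (flp_d L719232) q20348, e3 q19534 L710985 q19534, e3 q19535 L710990 q17492, e3 q19536 L729855 q21341, e3 q19537 (flp_d L711003) q17493, e3 q19538 L711012 q19538, e3 q19539 L729871 q21344, e3 q19540 (flp_d L711017) q17496, e3 q19541 (flp_d L729879) q21345, e3 q19542 (flp_d L719203) q20345, e3 q19543 (flp_d L711035) q17499, e3 q19544 L711051 q19544, e3 q19545 L711054 q19545, e3 q19546 L711068 q17524, e3 q19547 L711084 q17526, e3 q19548 L729892 q21348, e3 q19549 L729902 q21349, e3 q19550 (flp_d L711109) q17515, e3 q19551 L729923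 q21351, e3 q19552 L729932 q21352, e3 q19553 (flp_d L711134) q17520, e3 q19554 L711149 q19554, e3 q19555 L729953 q21355, e3 q19556 (flp_d L719986) q20403, e3 q19557 (flp_d L711166) q17527, e3 q19558 L711181 q17975, e3 q19559 L729970 q21357, e3 q19560 (flp_d L711191) q17531, e3 q19561 L729986 q21359, e3 q19562 L729996 q21360, e3 q19563 L729999 q21361, e3 q19564 (flp_d L711214) q17536, e3 q19565 L730007 q21362, e3 q19566 (flp_d L720293) q20427, e3 q19567 (flp_d L711234) q17539, e3 q19568 (flp_d L714798) q20019, e3 q19569 (flp_d L711250) q17541, e3 q19570 (flp_d L720510) q20446, e3 q19571 (flp_d L711264) q17545, e3 q19572 (flp_d L711273) q17547, e3 q19573 (flp_d L711280) q17549, e3 q19574 L711294 q17979, e3 q19575 L711298 q17980, e3 q19576 L711313 q17748, e3 q19577 L711323 q17554, e3 q19578 L711341 q17612, e3 q19579 L711355 q17724, e3 q19580 L711365 q17558, e3 q19581 (flp_d L724162) q20777, e3 q19582 L711383 q17567, e3 q19583 L711391 q17726, trivial⟩ (by decide +kernel)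

theorem ce_d_306 : ∀ r, r < 64 → sm gd (Qf (19584 + r)) = Qf (tab Gen.d (19584 + r)) :=
  edges_tab (sm gd) Qf (tab Gen.d) 19584 [(19584, 17622), (19585, 17623), (19586, 21372), (19587, 17565), (19588, 20665), (19589, 21375), (19590, 21376), (19591, 17570), (19592, 17572), (19593, 19593), (19594, 21378), (19595, 19595), (19596, 21170), (19597, 17640), (19598, 21382), (19599, 21383), (19600, 17580), (19601, 17749), (19602, 17654), (19603, 17584), (19604, 21386), (19605, 21388), (19606, 21391), (19607, 17757), (19608, 21393), (19609, 19609), (19610, 21395), (19611, 17592), (19612, 21112), (19613, 20538), (19614, 21397), (19615, 17597), (19616, 17598), (19617, 21398), (19618, 19618), (19619, 17601), (19620, 21402), (19621, 17602), (19622, 19622), (19623, 19623), (19624, 21406), (19625, 19625), (19626, 21191), (19627, 21366), (19628, 21410), (19629, 21411), (19630, 17614), (19631, 17796), (19632, 17616), (19633, 17801), (19634, 21368), (19635, 20297), (19636, 21416), (19637, 21417), (19638, 17624), (19639, 20535), (19640, 17626),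 (19641, 20483), (19642, 17715), (19643, 17630), (19644, 17987), (19645, 20795), (19646, 19646), (19647, 17637)]
    ⟨e3 q19584 L711401 q17622, e3 q19585 L711415 q17623, e3 q19586 L730107 q21372, e3 q19587 (flp_d L711427) q17565, e3 q19588 (flp_d L723039) q20665, e3 q19589 L730137 q21375, e3 q19590 L730146 q21376, e3 q19591 (flp_d L711462) q17570, e3 q19592 (flp_d L711471) q17572, e3 q19593 L711487 q19593, e3 q19594 L730165 q21378, e3 q19595 L711498 q19595, e3 q19596 (flp_d L728263) q21170, e3 q19597 L711509 q17640, e3 q19598 L730188 q21382, e3 q19599 L730197 q21383, e3 q19600 (flp_d L711527) q17580, e3 q19601 L711536 q17749, e3 q19602 L711548 q17654, e3 q19603 (flp_d L711550) q17584, e3 q19604 (flp_d L730221) q21386, e3 q19605 (flp_d L730236) q21388, e3 q19606 L730254 q21391, e3 q19607 L711578 q17757, e3 q19608 L730270 q21393, e3 q19609 L711592 q19609, e3 q19610 L730282 q21395, e3 q19611 (flp_d L711603) q17592, e3 q19612 (flp_d L727620) q21112, e3 q19613 (flp_d L721617) q20538, e3 q19614 L730295 q21397, e3 q19615 (flp_d L711629)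 q17597, e3 q19616 (flp_d L711635) q17598, e3 q19617 (flp_d L730303) q21398, e3 q19618 L711651 q19618, e3 q19619 L711656 q17601, e3 q19620 L730324 q21402, e3 q19621 (flp_d L711667) q17602, e3 q19622 L711681 q19622, e3 q19623 L711686 q19623, e3 q19624 L730345 q21406, e3 q19625 L711702 q19625, e3 q19626 (flp_d L728474) q21191, e3 q19627 (flp_d L730053) q21366, e3 q19628 L730380 q21410, e3 q19629 L730389 q21411, e3 q19630 (flp_d L711735) q17614, e3 q19631 L711748 q17796, e3 q19632 L711754 q17616, e3 q19633 L711762 q17801, e3 q19634 (flp_d L730081) q21368, e3 q19635 (flp_d L718609) q20297, e3 q19636 L730428 q21416, e3 q19637 L730436 q21417, e3 q19638 (flp_d L711798) q17624, e3 q19639 (flp_d L721581) q20535, e3 q19640 (flp_d L711812) q17626, e3 q19641 (flp_d L721012) q20483, e3 q19642 L711833 q17715, e3 q19643 (flp_d L711836) q17630, e3 q19644 L711850 q17987, e3 q19645 (flp_d L724366) q20795, e3 q19646 L711862 q19646, e3 q19647 (flp_d L711865) q17637, trivial⟩ (by decide +kernel)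

theorem ce_d_307 : ∀ r, r < 64 → sm gd (Qf (19648 + r)) = Qf (tab Gen.d (19648 + r)) :=
  edges_tab (sm gd) Qf (tab Gen.d) 19648 [(19648, 21424), (19649, 21426), (19650, 21427), (19651, 21428), (19652, 17642), (19653, 20052), (19654, 17644), (19655, 20053), (19656, 20226), (19657, 17690), (19658, 17874), (19659, 17875), (19660, 21122), (19661, 20193), (19662, 17692), (19663, 20227), (19664, 21438), (19665, 21439), (19666, 20807), (19667, 17694), (19668, 17656), (19669, 20189), (19670, 21442), (19671, 21445), (19672, 21423), (19673, 17660), (19674, 20220), (19675, 20222), (19676, 21450), (19677, 17661), (19678, 17899), (19679, 17900), (19680, 21454), (19681, 17664), (19682, 21456), (19683, 17666), (19684, 21457), (19685, 17988), (19686, 21141), (19687, 17670), (19688, 17989), (19689, 21462), (19690, 17673), (19691, 20727), (19692, 17689), (19693, 20067), (19694, 20531), (19695, 17679), (19696, 20428), (19697, 17681), (19698, 20069), (19699, 20530), (19700, 20076), (19701, 17686), (19702, 20588), (19703, 21465), (19704, 21466),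 (19705, 17693), (19706, 21468), (19707, 17696), (19708, 21470), (19709, 17697), (19710, 19710), (19711, 21473)]
    ⟨e3 q19648 (flp_d L730483) q21424, e3 q19649 L730494 q21426, e3 q19650 L730501 q21427, e3 q19651 L730505 q21428, e3 q19652 (flp_d L711896) q17642, e3 q19653 (flp_d L715286) q20052, e3 q19654 (flp_d L711911) q17644, e3 q19655 (flp_d L715302) q20053, e3 q19656 (flp_d L717726) q20226, e3 q19657 L711933 q17690, e3 q19658 L711939 q17874, e3 q19659 L711943 q17875, e3 q19660 (flp_d L727738) q21122, e3 q19661 (flp_d L717253) q20193, e3 q19662 L711963 q17692, e3 q19663 (flp_d L717740) q20227, e3 q19664 L730578 q21438, e3 q19665 L730586 q21439, e3 q19666 (flp_d L724518) q20807, e3 q19667 L711999 q17694, e3 q19668 (flp_d L712003) q17656, e3 q19669 (flp_d L717202) q20189, e3 q19670 (flp_d L730608) q21442, e3 q19671 L730626 q21445, e3 q19672 (flp_d L730479) q21423, e3 q19673 L712037 q17660, e3 q19674 (flp_d L717645) q20220, e3 q19675 (flp_d L717666) q20222, e3 q19676 L730662 q21450, e3 q19677 (flp_d L712061) q17661, e3 q19678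 L712069 q17899, e3 q19679 L712075 q17900, e3 q19680 L730682 q21454, e3 q19681 (flp_d L712087) q17664, e3 q19682 L730692 q21456, e3 q19683 (flp_d L712097) q17666, e3 q19684 L730700 q21457, e3 q19685 L712113 q17988, e3 q19686 (flp_d L727932) q21141, e3 q19687 (flp_d L712125) q17670, e3 q19688 L712137 q17989, e3 q19689 L730736 q21462, e3 q19690 (flp_d L712149) q17673, e3 q19691 (flp_d L723603) q20727, e3 q19692 L712165 q17689, e3 q19693 (flp_d L715525) q20067, e3 q19694 (flp_d L721529) q20531, e3 q19695 (flp_d L712183) q17679, e3 q19696 (flp_d L720311) q20428, e3 q19697 (flp_d L712195) q17681, e3 q19698 (flp_d L715561) q20069, e3 q19699 (flp_d L721519) q20530, e3 q19700 (flp_d L715677) q20076, e3 q19701 L712221 q17686, e3 q19702 (flp_d L722232) q20588, e3 q19703 L730752 q21465, e3 q19704 L730761 q21466, e3 q19705 (flp_d L712247) q17693, e3 q19706 L730775 q21468, e3 q19707 L712267 q17696, e3 q19708 L730788 q21470, e3 q19709 (flp_d L712282) q17697, e3 q19710 L712293 q19710, e3 q19711 L730808 q21473, trivial⟩ (by decide +kernel)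

theorem ce_d_308 : ∀ r, r < 64 → sm gd (Qf (19712 + r)) = Qf (tab Gen.d (19712 + r)) :=
  edges_tab (sm gd) Qf (tab Gen.d) 19712 [(19712, 17700), (19713, 21474), (19714, 17702), (19715, 17704), (19716, 17720), (19717, 18001), (19718, 18002), (19719, 18003), (19720, 20549), (19721, 20375), (19722, 20550), (19723, 17723), (19724, 21367), (19725, 17802), (19726, 21482), (19727, 17736), (19728, 17829), (19729, 20182), (19730, 17732), (19731, 20805), (19732, 17837), (19733, 20798), (19734, 21488), (19735, 18069), (19736, 20803), (19737, 20828), (19738, 17776), (19739, 21120), (19740, 21121), (19741, 17876), (19742, 20852), (19743, 17777), (19744, 17746), (19745, 21498), (19746, 21499), (19747, 20856), (19748, 20461), (19749, 21365), (19750, 21504), (19751, 17751), (19752, 21505), (19753, 21506), (19754, 20831), (19755, 17754), (19756, 17755), (19757, 21509), (19758, 21512), (19759, 21513), (19760, 17758), (19761, 19761), (19762, 19762), (19763, 20832), (19764, 19764), (19765, 21518), (19766, 17775), (19767, 21207), (19768, 19768),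 (19769, 21521), (19770, 21522), (19771, 17771), (19772, 17773), (19773, 17779), (19774, 17782), (19775, 20851)]
    ⟨e3 q19712 (flp_d L712302) q17700, e3 q19713 (flp_d L730817) q21474, e3 q19714 (flp_d L712310) q17702, e3 q19715 (flp_d L712317) q17704, e3 q19716 L712329 q17720, e3 q19717 L712338 q18001, e3 q19718 L712342 q18002, e3 q19719 L712347 q18003, e3 q19720 (flp_d L721769) q20549, e3 q19721 (flp_d L719559) q20375, e3 q19722 (flp_d L721784) q20550, e3 q19723 L712380 q17723, e3 q19724 (flp_d L730063) q21367, e3 q19725 L712401 q17802, e3 q19726 L730868 q21482, e3 q19727 L712411 q17736, e3 q19728 L712419 q17829, e3 q19729 (flp_d L717103) q20182, e3 q19730 L712429 q17732, e3 q19731 (flp_d L724492) q20805, e3 q19732 L712446 q17837, e3 q19733 (flp_d L724396) q20798, e3 q19734 L730911 q21488, e3 q19735 L712475 q18069, e3 q19736 (flp_d L724464) q20803, e3 q19737 (flp_d L724737) q20828, e3 q19738 L712497 q17776, e3 q19739 (flp_d L727708) q21120, e3 q19740 (flp_d L727722) q21121, e3 q19741 L712516 q17876, e3 q19742 (flp_d L724991)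 q20852, e3 q19743 L712528 q17777, e3 q19744 (flp_d L712534) q17746, e3 q19745 (flp_d L730985) q21498, e3 q19746 (flp_d L730992) q21499, e3 q19747 (flp_d L725040) q20856, e3 q19748 (flp_d L720713) q20461, e3 q19749 (flp_d L730035) q21365, e3 q19750 L731034 q21504, e3 q19751 (flp_d L712588) q17751, e3 q19752 (flp_d L731046) q21505, e3 q19753 (flp_d L731057) q21506, e3 q19754 (flp_d L724769) q20831, e3 q19755 L712622 q17754, e3 q19756 L712627 q17755, e3 q19757 (flp_d L731081) q21509, e3 q19758 L731098 q21512, e3 q19759 L731100 q21513, e3 q19760 (flp_d L712653) q17758, e3 q19761 L712663 q19761, e3 q19762 L712672 q19762, e3 q19763 (flp_d L724782) q20832, e3 q19764 L712689 q19764, e3 q19765 L731140 q21518, e3 q19766 L712707 q17775, e3 q19767 (flp_d L728633) q21207, e3 q19768 L712726 q19768, e3 q19769 L731163 q21521, e3 q19770 L731170 q21522, e3 q19771 (flp_d L712745) q17771, e3 q19772 (flp_d L712750) q17773, e3 q19773 L712758 q17779, e3 q19774 L712769 q17782, e3 q19775 (flp_d L724975) q20851, trivial⟩ (by decide +kernel)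

theorem ce_d_309 : ∀ r, r < 64 → sm gd (Qf (19776 + r)) = Qf (tab Gen.d (19776 + r)) :=
  edges_tab (sm gd) Qf (tab Gen.d) 19776 [(19776, 21100), (19777, 17947), (19778, 17792), (19779, 20827), (19780, 20802), (19781, 20799), (19782, 21529), (19783, 20307), (19784, 17816), (19785, 21125), (19786, 21412), (19787, 21480), (19788, 20302), (19789, 17817), (19790, 20308), (19791, 20938), (19792, 21537), (19793, 20934), (19794, 17819), (19795, 17804), (19796, 21540), (19797, 20944), (19798, 21099), (19799, 17807), (19800, 21544), (19801, 17809), (19802, 17824), (19803, 20955), (19804, 20324), (19805, 17821), (19806, 17949), (19807, 21096), (19808, 17955), (19809, 21551), (19810, 17957), (19811, 17826), (19812, 21555), (19813, 21557), (19814, 21558), (19815, 20986), (19816, 17962), (19817, 20266), (19818, 21258), (19819, 21485), (19820, 20881), (19821, 17963), (19822, 17834), (19823, 21566), (19824, 20873), (19825, 21568), (19826, 20993), (19827, 17966), (19828, 17839), (19829, 21572), (19830, 21573), (19831, 20879), (19832, 17842),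 (19833, 17893), (19834, 17843), (19835, 21576), (19836, 21578), (19837, 21584), (19838, 20252), (19839, 21240)]
    ⟨e3 q19776 (flp_d L727476) q21100, e3 q19777 L712789 q17947, e3 q19778 L712797 q17792, e3 q19779 (flp_d L724721) q20827, e3 q19780 (flp_d L724442) q20802, e3 q19781 (flp_d L724416) q20799, e3 q19782 L731223 q21529, e3 q19783 (flp_d L718743) q20307, e3 q19784 L712847 q17816, e3 q19785 (flp_d L727775) q21125, e3 q19786 (flp_d L730400) q21412, e3 q19787 (flp_d L730858) q21480, e3 q19788 (flp_d L718675) q20302, e3 q19789 L712882 q17817, e3 q19790 (flp_d L718757) q20308, e3 q19791 (flp_d L725902) q20938, e3 q19792 L731289 q21537, e3 q19793 (flp_d L725852) q20934, e3 q19794 L712928 q17819, e3 q19795 (flp_d L712932) q17804, e3 q19796 (flp_d L731315) q21540, e3 q19797 (flp_d L725956) q20944, e3 q19798 (flp_d L727464) q21099, e3 q19799 L712960 q17807, e3 q19800 L731337 q21544, e3 q19801 (flp_d L712972) q17809, e3 q19802 L712982 q17824, e3 q19803 (flp_d L726069) q20955, e3 q19804 (flp_d L718943) q20324, e3 q19805 L713006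 q17821, e3 q19806 L713014 q17949, e3 q19807 (flp_d L727429) q21096, e3 q19808 L713026 q17955, e3 q19809 L731390 q21551, e3 q19810 L713042 q17957, e3 q19811 (flp_d L713046) q17826, e3 q19812 (flp_d L731418) q21555, e3 q19813 L731428 q21557, e3 q19814 L731434 q21558, e3 q19815 (flp_d L726402) q20986, e3 q19816 L713080 q17962, e3 q19817 (flp_d L718216) q20266, e3 q19818 (flp_d L729139) q21258, e3 q19819 (flp_d L730889) q21485, e3 q19820 (flp_d L725321) q20881, e3 q19821 L713115 q17963, e3 q19822 (flp_d L713121) q17834, e3 q19823 (flp_d L731497) q21566, e3 q19824 (flp_d L725238) q20873, e3 q19825 L731513 q21568, e3 q19826 (flp_d L726479) q20993, e3 q19827 L713163 q17966, e3 q19828 (flp_d L713167) q17839, e3 q19829 (flp_d L731541) q21572, e3 q19830 (flp_d L731548) q21573, e3 q19831 (flp_d L725298) q20879, e3 q19832 L713197 q17842, e3 q19833 L713204 q17893, e3 q19834 L713208 q17843, e3 q19835 (flp_d L731570) q21576, e3 q19836 (flp_d L731582) q21578, e3 q19837 L731623 q21584, e3 q19838 (flp_d L718061) q20252, e3 q19839 (flp_d L728970)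 q21240, trivial⟩ (by decide +kernel)

theorem ce_d_310 : ∀ r, r < 64 → sm gd (Qf (19840 + r)) = Qf (tab Gen.d (19840 + r)) :=
  edges_tab (sm gd) Qf (tab Gen.d) 19840 [(19840, 21587), (19841, 17847), (19842, 17971), (19843, 19843), (19844, 18066), (19845, 21591), (19846, 20276), (19847, 19847), (19848, 21593), (19849, 19849), (19850, 19850), (19851, 21596), (19852, 17860), (19853, 18072), (19854, 20213), (19855, 17865), (19856, 19856), (19857, 21600), (19858, 17868), (19859, 20214), (19860, 20756), (19861, 21079), (19862, 21078), (19863, 20073), (19864, 21433), (19865, 21605), (19866, 17973), (19867, 17943), (19868, 17942), (19869, 17881), (19870, 20224), (19871, 21610), (19872, 17882), (19873, 20071), (19874, 20074), (19875, 21614), (19876, 17885), (19877, 20936), (19878, 20937), (19879, 20328), (19880, 17889), (19881, 17890), (19882, 21618), (19883, 21619), (19884, 21622), (19885, 17891), (19886, 17895), (19887, 21577), (19888, 17896), (19889, 21579), (19890, 21628), (19891, 21180), (19892, 21624), (19893, 21631), (19894,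 17897), (19895, 21633), (19896, 21452), (19897, 21636), (19898, 17901), (19899, 21632), (19900, 18045), (19901, 18026), (19902, 18025), (19903, 18046)]
    ⟨e3 q19840 L731641 q21587, e3 q19841 (flp_d L713256) q17847, e3 q19842 L713264 q17971, e3 q19843 L713275 q19843, e3 q19844 L713288 q18066, e3 q19845 L731675 q21591, e3 q19846 (flp_d L718355) q20276, e3 q19847 L713315 q19847, e3 q19848 L731691 q21593, e3 q19849 L713332 q19849, e3 q19850 L713341 q19850, e3 q19851 L731719 q21596, e3 q19852 (flp_d L713354) q17860, e3 q19853 L713363 q18072, e3 q19854 (flp_d L717537) q20213, e3 q19855 (flp_d L713377) q17865, e3 q19856 L713389 q19856, e3 q19857 L731751 q21600, e3 q19858 (flp_d L713401) q17868, e3 q19859 (flp_d L717552) q20214, e3 q19860 L723916 q20756, e3 q19861 (flp_d L727223) q21079, e3 q19862 (flp_d L727213) q21078, e3 q19863 (flp_d L715625) q20073, e3 q19864 (flp_d L730544) q21433, e3 q19865 L731785 q21605, e3 q19866 L713456 q17973, e3 q19867 L713466 q17943, e3 q19868 L713480 q17942, e3 q19869 L713486 q17881, e3 q19870 (flp_d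 L717694) q20224, e3 q19871 L731827 q21610, e3 q19872 (flp_d L713510) q17882, e3 q19873 (flp_d L715597) q20071, e3 q19874 (flp_d L715643) q20074, e3 q19875 L731853 q21614, e3 q19876 (flp_d L713540) q17885, e3 q19877 (flp_d L725872) q20936, e3 q19878 (flp_d L725886) q20937, e3 q19879 (flp_d L718995) q20328, e3 q19880 L713566 q17889, e3 q19881 L713576 q17890, e3 q19882 (flp_d L731881) q21618, e3 q19883 (flp_d L731889) q21619, e3 q19884 L731913 q21622, e3 q19885 (flp_d L713602) q17891, e3 q19886 L713614 q17895, e3 q19887 (flp_d L731578) q21577, e3 q19888 L713626 q17896, e3 q19889 (flp_d L731589) q21579, e3 q19890 L731949 q21628, e3 q19891 (flp_d L728371) q21180, e3 q19892 (flp_d L731925) q21624, e3 q19893 L731969 q21631, e3 q19894 (flp_d L713662) q17897, e3 q19895 (flp_d L731979) q21633, e3 q19896 (flp_d L730670) q21452, e3 q19897 L731993 q21636, e3 q19898 (flp_d L713680) q17901, e3 q19899 (flp_d L731975) q21632, e3 q19900 L713690 q18045, e3 q19901 L713698 q18026, e3 q19902 L713712 q18025, e3 q19903 L713718 q18046, trivial⟩ (by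 decide +kernel)

theorem ce_d_311 : ∀ r, r < 64 → sm gd (Qf (19904 + r)) = Qf (tab Gen.d (19904 + r)) :=
  edges_tab (sm gd) Qf (tab Gen.d) 19904 [(19904, 21642), (19905, 21643), (19906, 17909), (19907, 21644), (19908, 17938), (19909, 21184), (19910, 18049), (19911, 20329), (19912, 18051), (19913, 21649), (19914, 17919), (19915, 18054), (19916, 21652), (19917, 17923), (19918, 17925), (19919, 21654), (19920, 20223), (19921, 18061), (19922, 21656), (19923, 17931), (19924, 21057), (19925, 21657), (19926, 17934), (19927, 21565), (19928, 21606), (19929, 18031), (19930, 21659), (19931, 20956), (19932, 21263), (19933, 17951), (19934, 21662), (19935, 20824), (19936, 20628), (19937, 21550), (19938, 17956), (19939, 21665), (19940, 21667), (19941, 19941), (19942, 17959), (19943, 21670), (19944, 17960), (19945, 17965), (19946, 19946), (19947, 17968), (19948, 17972), (19949, 20910), (19950, 18030), (19951, 21420), (19952, 21676), (19953, 17995), (19954, 21677), (19955, 17997), (19956, 21476), (19957, 21477), (19958, 20001), (19959, 20006),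 (19960, 20007), (19961, 18018), (19962, 18015), (19963, 20369), (19964, 21168), (19965, 21169), (19966, 21546), (19967, 21589)]
    ⟨e3 q19904 L732030 q21642, e3 q19905 L732041 q21643, e3 q19906 (flp_d L713741) q17909, e3 q19907 (flp_d L732058) q21644, e3 q19908 L713759 q17938, e3 q19909 (flp_d L728406) q21184, e3 q19910 L713775 q18049, e3 q19911 (flp_d L719005) q20329, e3 q19912 L713791 q18051, e3 q19913 L732089 q21649, e3 q19914 (flp_d L713803) q17919, e3 q19915 L713815 q18054, e3 q19916 L732113 q21652, e3 q19917 (flp_d L713829) q17923, e3 q19918 L713841 q17925, e3 q19919 (flp_d L732127) q21654, e3 q19920 (flp_d L717684) q20223, e3 q19921 L713859 q18061, e3 q19922 L732140 q21656, e3 q19923 (flp_d L713870) q17931, e3 q19924 (flp_d L727020) q21057, e3 q19925 L732148 q21657, e3 q19926 (flp_d L713893) q17934, e3 q19927 (flp_d L731491) q21565, e3 q19928 (flp_d L731793) q21606, e3 q19929 L713915 q18031, e3 q19930 L732166 q21659, e3 q19931 (flp_d L726081) q20956, e3 q19932 (flp_d L729192) q21263, e3 q19933 (flp_d L713956) q17951,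 e3 q19934 (flp_d L732205) q21662, e3 q19935 (flp_d L724692) q20824, e3 q19936 (flp_d L722650) q20628, e3 q19937 (flp_d L731384) q21550, e3 q19938 (flp_d L714001) q17956, e3 q19939 (flp_d L732236) q21665, e3 q19940 L732248 q21667, e3 q19941 L714027 q19941, e3 q19942 L714032 q17959, e3 q19943 L732266 q21670, e3 q19944 (flp_d L714043) q17960, e3 q19945 L714050 q17965, e3 q19946 L714058 q19946, e3 q19947 L714063 q17968, e3 q19948 L714068 q17972, e3 q19949 (flp_d L725627) q20910, e3 q19950 L714078 q18030, e3 q19951 (flp_d L730459) q21420, e3 q19952 L732294 q21676, e3 q19953 (flp_d L714092) q17995, e3 q19954 L732301 q21677, e3 q19955 (flp_d L714105) q17997, e3 q19956 (flp_d L730828) q21476, e3 q19957 (flp_d L730833) q21477, e3 q19958 L714494 q20001, e3 q19959 L714576 q20006, e3 q19960 L714593 q20007, e3 q19961 L714161 q18018, e3 q19962 (flp_d L714164) q18015, e3 q19963 (flp_d L719482) q20369, e3 q19964 (flp_d L728246) q21168, e3 q19965 (flp_d L728254) q21169, e3 q19966 (flp_d L731354) q21546, e3 q19967 (flp_d L731658) q21589, trivial⟩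 (by decide +kernel)

theorem ce_d_312 : ∀ r, r < 64 → sm gd (Qf (19968 + r)) = Qf (tab Gen.d (19968 + r)) :=
  edges_tab (sm gd) Qf (tab Gen.d) 19968 [(19968, 21639), (19969, 20957), (19970, 21658), (19971, 21681), (19972, 18032), (19973, 19973), (19974, 18038), (19975, 19975), (19976, 21685), (19977, 21686), (19978, 18037), (19979, 21687), (19980, 18039), (19981, 18044), (19982, 18041), (19983, 21692), (19984, 21688), (19985, 21690), (19986, 18047), (19987, 20371), (19988, 21694), (19989, 18052), (19990, 19990), (19991, 18055), (19992, 21689), (19993, 18058), (19994, 20372), (19995, 18062), (19996, 21699), (19997, 21700), (19998, 18071), (19999, 18074), (20000, 18076), (20001, 19958), (20002, 19066), (20003, 18484), (20004, 18487), (20005, 18105), (20006, 19959), (20007, 19960), (20008, 18103), (20009, 19325), (20010, 20010), (20011, 18124), (20012, 18116), (20013, 18125), (20014, 20014), (20015, 19267), (20016, 21706), (20017, 18117), (20018, 19272), (20019, 19568), (20020, 21708), (20021, 18130), (20022, 21710), (20023,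 18129), (20024, 18131), (20025, 18593), (20026, 19377), (20027, 18134), (20028, 20028), (20029, 20029), (20030, 18195), (20031, 21718)]
    ⟨e3 q19968 (flp_d L732007) q21639, e3 q19969 (flp_d L726094) q20957, e3 q19970 (flp_d L732161) q21658, e3 q19971 L732342 q21681, e3 q19972 (flp_d L714264) q18032, e3 q19973 L714279 q19973, e3 q19974 L714282 q18038, e3 q19975 L714289 q19975, e3 q19976 L732368 q21685, e3 q19977 L732374 q21686, e3 q19978 (flp_d L714303) q18037, e3 q19979 L732380 q21687, e3 q19980 (flp_d L714318) q18039, e3 q19981 L714329 q18044, e3 q19982 L714339 q18041, e3 q19983 (flp_d L732423) q21692, e3 q19984 (flp_d L732393) q21688, e3 q19985 (flp_d L732402) q21690, e3 q19986 (flp_d L714374) q18047, e3 q19987 (flp_d L719501) q20371, e3 q19988 L732433 q21694, e3 q19989 (flp_d L714399) q18052, e3 q19990 L714413 q19990, e3 q19991 (flp_d L714414) q18055, e3 q19992 (flp_d L732398) q21689, e3 q19993 L714426 q18058, e3 q19994 (flp_d L719510) q20372, e3 q19995 (flp_d L714442) q18062, e3 q19996 L732463 q21699, e3 q19997 L732470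 q21700, e3 q19998 (flp_d L714461) q18071, e3 q19999 (flp_d L714466) q18074, e3 q20000 (flp_d L714472) q18076, e3 q20001 (flp_d L714494) q19958, e3 q20002 L714503 q19066, e3 q20003 L714526 q18484, e3 q20004 L714541 q18487, e3 q20005 L714557 q18105, e3 q20006 (flp_d L714576) q19959, e3 q20007 (flp_d L714593) q19960, e3 q20008 (flp_d L714595) q18103, e3 q20009 L714627 q19325, e3 q20010 L714637 q20010, e3 q20011 L714660 q18124, e3 q20012 L714672 q18116, e3 q20013 L714696 q18125, e3 q20014 L714708 q20014, e3 q20015 L714731 q19267, e3 q20016 L732558 q21706, e3 q20017 (flp_d L714747) q18117, e3 q20018 L714778 q19272, e3 q20019 L714798 q19568, e3 q20020 L732590 q21708, e3 q20021 L714828 q18130, e3 q20022 L732627 q21710, e3 q20023 (flp_d L714854) q18129, e3 q20024 (flp_d L714866) q18131, e3 q20025 L714894 q18593, e3 q20026 L714910 q19377, e3 q20027 L714920 q18134, e3 q20028 L714936 q20028, e3 q20029 L714951 q20029, e3 q20030 L714970 q18195, e3 q20031 L732763 q21718, trivial⟩ (by decide +kernel)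

theorem ce_d_313 : ∀ r, r < 64 → sm gd (Qf (20032 + r)) = Qf (tab Gen.d (20032 + r)) :=
  edges_tab (sm gd) Qf (tab Gen.d) 20032 [(20032, 18248), (20033, 18142), (20034, 18401), (20035, 18165), (20036, 18253), (20037, 18254), (20038, 18205), (20039, 18160), (20040, 18161), (20041, 18206), (20042, 18166), (20043, 20043), (20044, 18167), (20045, 20045), (20046, 20046), (20047, 19308), (20048, 18162), (20049, 21736), (20050, 18168), (20051, 20051), (20052, 19653), (20053, 19655), (20054, 18159), (20055, 21727), (20056, 21740), (20057, 18163), (20058, 20058), (20059, 21729), (20060, 18684), (20061, 18310), (20062, 18173), (20063, 19323), (20064, 21744), (20065, 18177), (20066, 18344), (20067, 19693), (20068, 18184), (20069, 19698), (20070, 18183), (20071, 19873), (20072, 18189), (20073, 19863), (20074, 19874), (20075, 21715), (20076, 19700), (20077, 20077), (20078, 20078), (20079, 21753), (20080, 20080), (20081, 21755), (20082, 18198), (20083, 18407), (20084, 21721), (20085, 19335), (20086, 19297), (20087, 18416), (20088, 18417),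 (20089, 21761), (20090, 18219), (20091, 18220), (20092, 21764), (20093, 18210), (20094, 18604), (20095, 18715)]
    ⟨e3 q20032 L715002 q18248, e3 q20033 L715012 q18142, e3 q20034 L715034 q18401, e3 q20035 L715044 q18165, e3 q20036 L715058 q18253, e3 q20037 L715070 q18254, e3 q20038 L715086 q18205, e3 q20039 L715096 q18160, e3 q20040 L715112 q18161, e3 q20041 L715132 q18206, e3 q20042 L715140 q18166, e3 q20043 L715168 q20043, e3 q20044 L715175 q18167, e3 q20045 L715189 q20045, e3 q20046 L715202 q20046, e3 q20047 L715219 q19308, e3 q20048 L715229 q18162, e3 q20049 L733045 q21736, e3 q20050 L715253 q18168, e3 q20051 L715269 q20051, e3 q20052 L715286 q19653, e3 q20053 L715302 q19655, e3 q20054 (flp_d L715304) q18159, e3 q20055 (flp_d L732914) q21727, e3 q20056 L733111 q21740, e3 q20057 (flp_d L715349) q18163, e3 q20058 L715373 q20058, e3 q20059 (flp_d L732948) q21729, e3 q20060 L715408 q18684, e3 q20061 L715424 q18310, e3 q20062 L715436 q18173, e3 q20063 L715458 q19323, e3 q20064 L733174 q21744, e3 q20065 (flp_d L715480) q18177,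 e3 q20066 L715503 q18344, e3 q20067 L715525 q19693, e3 q20068 L715537 q18184, e3 q20069 L715561 q19698, e3 q20070 (flp_d L715565) q18183, e3 q20071 L715597 q19873, e3 q20072 L715609 q18189, e3 q20073 L715625 q19863, e3 q20074 L715643 q19874, e3 q20075 (flp_d L732728) q21715, e3 q20076 L715677 q19700, e3 q20077 L715689 q20077, e3 q20078 L715704 q20078, e3 q20079 L733327 q21753, e3 q20080 L715733 q20080, e3 q20081 L733356 q21755, e3 q20082 (flp_d L715754) q18198, e3 q20083 L715773 q18407, e3 q20084 (flp_d L732826) q21721, e3 q20085 L715801 q19335, e3 q20086 L715825 q19297, e3 q20087 L715837 q18416, e3 q20088 L715853 q18417, e3 q20089 L733453 q21761, e3 q20090 L715877 q18219, e3 q20091 L715891 q18220, e3 q20092 L733489 q21764, e3 q20093 (flp_d L715909) q18210, e3 q20094 L715929 q18604, e3 q20095 L715951 q18715, trivial⟩ (by decide +kernel)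

theorem ce_d_314 : ∀ r, r < 64 → sm gd (Qf (20096 + r)) = Qf (tab Gen.d (20096 + r)) :=
  edges_tab (sm gd) Qf (tab Gen.d) 20096 [(20096, 18223), (20097, 21768), (20098, 18217), (20099, 18863), (20100, 21762), (20101, 21770), (20102, 18221), (20103, 18898), (20104, 18224), (20105, 18793), (20106, 18227), (20107, 21775), (20108, 20108), (20109, 18234), (20110, 18229), (20111, 18230), (20112, 21783), (20113, 20113), (20114, 21774), (20115, 18232), (20116, 21789), (20117, 20117), (20118, 21779), (20119, 21780), (20120, 18381), (20121, 20121), (20122, 20122), (20123, 20123), (20124, 18386), (20125, 21798), (20126, 20126), (20127, 21800), (20128, 18243), (20129, 18244), (20130, 19294), (20131, 18246), (20132, 19465), (20133, 18277), (20134, 21719), (20135, 21720), (20136, 18408), (20137, 21811), (20138, 18280), (20139, 18251), (20140, 21814), (20141, 21816), (20142, 21819), (20143, 21725), (20144, 21821), (20145, 20145), (20146, 20146), (20147, 21824), (20148, 18271), (20149, 18272), (20150, 21827), (20151, 21828), (20152, 20152),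 (20153, 21830), (20154, 18264), (20155, 21832), (20156, 18266), (20157, 18267), (20158, 18268), (20159, 21835)]
    ⟨e3 q20096 L715961 q18223, e3 q20097 L733547 q21768, e3 q20098 (flp_d L715977) q18217, e3 q20099 L715999 q18863, e3 q20100 (flp_d L733469) q21762, e3 q20101 L733579 q21770, e3 q20102 (flp_d L716036) q18221, e3 q20103 L716056 q18898, e3 q20104 (flp_d L716058) q18224, e3 q20105 L716075 q18793, e3 q20106 (flp_d L716086) q18227, e3 q20107 (flp_d L733657) q21775, e3 q20108 L716128 q20108, e3 q20109 L716139 q18234, e3 q20110 L716147 q18229, e3 q20111 (flp_d L716152) q18230, e3 q20112 (flp_d L733766) q21783, e3 q20113 L716197 q20113, e3 q20114 (flp_d L733647) q21774, e3 q20115 L716214 q18232, e3 q20116 L733842 q21789, e3 q20117 L716242 q20117, e3 q20118 (flp_d L733708) q21779, e3 q20119 (flp_d L733721) q21780, e3 q20120 L716281 q18381, e3 q20121 L716293 q20121, e3 q20122 L716307 q20122, e3 q20123 L716320 q20123, e3 q20124 L716335 q18386, e3 q20125 L733964 q21798, e3 q20126 L716361 q20126, e3 q20127 L733991 q21800,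 e3 q20128 (flp_d L716380) q18243, e3 q20129 (flp_d L716394) q18244, e3 q20130 L716420 q19294, e3 q20131 L716432 q18246, e3 q20132 L716451 q19465, e3 q20133 L716461 q18277, e3 q20134 (flp_d L732786) q21719, e3 q20135 (flp_d L732804) q21720, e3 q20136 L716499 q18408, e3 q20137 L734151 q21811, e3 q20138 L716525 q18280, e3 q20139 (flp_d L716533) q18251, e3 q20140 (flp_d L734207) q21814, e3 q20141 (flp_d L734232) q21816, e3 q20142 L734264 q21819, e3 q20143 (flp_d L732888) q21725, e3 q20144 L734288 q21821, e3 q20145 L716609 q20145, e3 q20146 L716622 q20146, e3 q20147 L734326 q21824, e3 q20148 L716645 q18271, e3 q20149 L716656 q18272, e3 q20150 L734362 q21827, e3 q20151 L734375 q21828, e3 q20152 L716697 q20152, e3 q20153 L734407 q21830, e3 q20154 (flp_d L716716) q18264, e3 q20155 L734430 q21832, e3 q20156 (flp_d L716736) q18266, e3 q20157 (flp_d L716748) q18267, e3 q20158 (flp_d L716765) q18268, e3 q20159 (flp_d L734480) q21835, trivial⟩ (by decide +kernel)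

theorem ce_d_315 : ∀ r, r < 64 → sm gd (Qf (20160 + r)) = Qf (tab Gen.d (20160 + r)) :=
  edges_tab (sm gd) Qf (tab Gen.d) 20160 [(20160, 21834), (20161, 21825), (20162, 21838), (20163, 18273), (20164, 18274), (20165, 20165), (20166, 20166), (20167, 21843), (20168, 18279), (20169, 21845), (20170, 21847), (20171, 20171), (20172, 18282), (20173, 21850), (20174, 18283), (20175, 18285), (20176, 18286), (20177, 20177), (20178, 18886), (20179, 18293), (20180, 18299), (20181, 21855), (20182, 19729), (20183, 18301), (20184, 18303), (20185, 19464), (20186, 18306), (20187, 21861), (20188, 20188), (20189, 19669), (20190, 18308), (20191, 21866), (20192, 20192), (20193, 19661), (20194, 21742), (20195, 19517), (20196, 20196), (20197, 19526), (20198, 21872), (20199, 18320), (20200, 21874), (20201, 18318), (20202, 18319), (20203, 21875), (20204, 18321), (20205, 18328), (20206, 18324), (20207, 21782), (20208, 18326), (20209, 21881), (20210, 20210), (20211, 21876), (20212, 21877), (20213, 19854), (20214, 19859), (20215, 21886), (20216, 20216),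 (20217, 21888), (20218, 18335), (20219, 18336), (20220, 19674), (20221, 18338), (20222, 19675), (20223, 19920)]
    ⟨e3 q20160 (flp_d L734464) q21834, e3 q20161 (flp_d L734345) q21825, e3 q20162 L734516 q21838, e3 q20163 (flp_d L716827) q18273, e3 q20164 (flp_d L716839) q18274, e3 q20165 L716859 q20165, e3 q20166 L716862 q20166, e3 q20167 L734575 q21843, e3 q20168 (flp_d L716890) q18279, e3 q20169 (flp_d L734612) q21845, e3 q20170 L734635 q21847, e3 q20171 L716944 q20171, e3 q20172 L716951 q18282, e3 q20173 L734673 q21850, e3 q20174 (flp_d L716972) q18283, e3 q20175 (flp_d L716983) q18285, e3 q20176 (flp_d L716995) q18286, e3 q20177 L717021 q20177, e3 q20178 L717035 q18886, e3 q20179 (flp_d L717038) q18293, e3 q20180 (flp_d L717057) q18299, e3 q20181 (flp_d L734743) q21855, e3 q20182 L717103 q19729, e3 q20183 L717115 q18301, e3 q20184 L717129 q18303, e3 q20185 L717148 q19464, e3 q20186 (flp_d L717152) q18306, e3 q20187 (flp_d L734834) q21861, e3 q20188 L717193 q20188, e3 q20189 L717202 q19669, e3 q20190 L717212 q18308, e3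 q20191 L734896 q21866, e3 q20192 L717240 q20192, e3 q20193 L717253 q19661, e3 q20194 (flp_d L733146) q21742, e3 q20195 L717283 q19517, e3 q20196 L717293 q20196, e3 q20197 L717310 q19526, e3 q20198 L734984 q21872, e3 q20199 L717334 q18320, e3 q20200 L735015 q21874, e3 q20201 (flp_d L717358) q18318, e3 q20202 (flp_d L717374) q18319, e3 q20203 L735033 q21875, e3 q20204 (flp_d L717408) q18321, e3 q20205 L717435 q18328, e3 q20206 L717445 q18324, e3 q20207 (flp_d L733754) q21782, e3 q20208 L717468 q18326, e3 q20209 L735120 q21881, e3 q20210 L717498 q20210, e3 q20211 (flp_d L735056) q21876, e3 q20212 (flp_d L735073) q21877, e3 q20213 L717537 q19854, e3 q20214 L717552 q19859, e3 q20215 L735195 q21886, e3 q20216 L717580 q20216, e3 q20217 L735228 q21888, e3 q20218 (flp_d L717603) q18335, e3 q20219 (flp_d L717619) q18336, e3 q20220 L717645 q19674, e3 q20221 L717653 q18338, e3 q20222 L717666 q19675, e3 q20223 L717684 q19920, trivial⟩ (by decide +kernel)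

theorem ce_d_316 : ∀ r, r < 64 → sm gd (Qf (20224 + r)) = Qf (tab Gen.d (20224 + r)) :=
  edges_tab (sm gd) Qf (tab Gen.d) 20224 [(20224, 19870), (20225, 21894), (20226, 19656), (20227, 19663), (20228, 21898), (20229, 18347), (20230, 18356), (20231, 18357), (20232, 21901), (20233, 18350), (20234, 18360), (20235, 21903), (20236, 18354), (20237, 21899), (20238, 21905), (20239, 18358), (20240, 21907), (20241, 18361), (20242, 18364), (20243, 20243), (20244, 18374), (20245, 18367), (20246, 20246), (20247, 21918), (20248, 20248), (20249, 18379), (20250, 18380), (20251, 21781), (20252, 19838), (20253, 18372), (20254, 20254), (20255, 21929), (20256, 20256), (20257, 21912), (20258, 21913), (20259, 21788), (20260, 21935), (20261, 20261), (20262, 18377), (20263, 21938), (20264, 21940), (20265, 21943), (20266, 19817), (20267, 21922), (20268, 21947), (20269, 20269), (20270, 21949), (20271, 20271), (20272, 20272), (20273, 21952), (20274, 21953), (20275, 19070), (20276, 19846), (20277, 18390), (20278, 20278), (20279, 20279), (20280, 21958),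 (20281, 18393), (20282, 18394), (20283, 19521), (20284, 20284), (20285, 21961), (20286, 18399), (20287, 19188)]
    ⟨e3 q20224 L717694 q19870, e3 q20225 L735313 q21894, e3 q20226 L717726 q19656, e3 q20227 L717740 q19663, e3 q20228 L735375 q21898, e3 q20229 (flp_d L717756) q18347, e3 q20230 L717780 q18356, e3 q20231 L717796 q18357, e3 q20232 L735413 q21901, e3 q20233 (flp_d L717812) q18350, e3 q20234 L717834 q18360, e3 q20235 L735440 q21903, e3 q20236 (flp_d L717855) q18354, e3 q20237 (flp_d L735391) q21899, e3 q20238 L735473 q21905, e3 q20239 (flp_d L717903) q18358, e3 q20240 L735499 q21907, e3 q20241 (flp_d L717928) q18361, e3 q20242 (flp_d L717941) q18364, e3 q20243 L717967 q20243, e3 q20244 L717978 q18374, e3 q20245 L717984 q18367, e3 q20246 L717993 q20246, e3 q20247 L735638 q21918, e3 q20248 L718017 q20248, e3 q20249 L718025 q18379, e3 q20250 L718036 q18380, e3 q20251 (flp_d L733736) q21781, e3 q20252 L718061 q19838, e3 q20253 L718067 q18372, e3 q20254 L718076 q20254, e3 q20255 L735765 q21929, e3 q20256 L718105 q20256,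 e3 q20257 (flp_d L735574) q21912, e3 q20258 (flp_d L735585) q21913, e3 q20259 (flp_d L733838) q21788, e3 q20260 L735840 q21935, e3 q20261 L718164 q20261, e3 q20262 (flp_d L718169) q18377, e3 q20263 (flp_d L735891) q21938, e3 q20264 (flp_d L735920) q21940, e3 q20265 L735951 q21943, e3 q20266 L718216 q19817, e3 q20267 (flp_d L735685) q21922, e3 q20268 L736004 q21947, e3 q20269 L718250 q20269, e3 q20270 L736027 q21949, e3 q20271 L718277 q20271, e3 q20272 L718291 q20272, e3 q20273 L736065 q21952, e3 q20274 L736077 q21953, e3 q20275 L718333 q19070, e3 q20276 L718355 q19846, e3 q20277 (flp_d L718359) q18390, e3 q20278 L718374 q20278, e3 q20279 L718389 q20279, e3 q20280 L736152 q21958, e3 q20281 (flp_d L718402) q18393, e3 q20282 (flp_d L718411) q18394, e3 q20283 L718437 q19521, e3 q20284 L718449 q20284, e3 q20285 L736189 q21961, e3 q20286 (flp_d L718469) q18399, e3 q20287 L718495 q19188, trivial⟩ (by decide +kernel)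

theorem ce_d_317 : ∀ r, r < 64 → sm gd (Qf (20288 + r)) = Qf (tab Gen.d (20288 + r)) :=
  edges_tab (sm gd) Qf (tab Gen.d) 20288 [(20288, 21722), (20289, 21723), (20290, 21804), (20291, 18460), (20292, 19338), (20293, 18461), (20294, 19340), (20295, 21970), (20296, 18753), (20297, 19635), (20298, 21974), (20299, 21975), (20300, 18464), (20301, 18410), (20302, 19788), (20303, 21979), (20304, 21982), (20305, 21939), (20306, 18414), (20307, 19783), (20308, 19790), (20309, 21988), (20310, 18415), (20311, 21758), (20312, 21759), (20313, 21992), (20314, 18418), (20315, 18472), (20316, 21995), (20317, 18421), (20318, 18448), (20319, 18449), (20320, 21999), (20321, 18424), (20322, 22001), (20323, 19249), (20324, 19804), (20325, 18428), (20326, 19064), (20327, 19221), (20328, 19879), (20329, 19911), (20330, 18452), (20331, 22008), (20332, 18435), (20333, 19506), (20334, 18437), (20335, 19349), (20336, 19229), (20337, 19172), (20338, 19461), (20339, 22014), (20340, 18445), (20341, 19121), (20342, 21997), (20343, 22016), (20344, 18450),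 (20345, 19542), (20346, 22020), (20347, 18453), (20348, 19533), (20349, 21772), (20350, 19425), (20351, 18456)]
    ⟨e3 q20288 (flp_d L732838) q21722, e3 q20289 (flp_d L732856) q21723, e3 q20290 (flp_d L734067) q21804, e3 q20291 L718529 q18460, e3 q20292 L718549 q19338, e3 q20293 L718559 q18461, e3 q20294 L718571 q19340, e3 q20295 L736306 q21970, e3 q20296 L718597 q18753, e3 q20297 L718609 q19635, e3 q20298 L736360 q21974, e3 q20299 L736366 q21975, e3 q20300 L718647 q18464, e3 q20301 (flp_d L718653) q18410, e3 q20302 L718675 q19788, e3 q20303 (flp_d L736436) q21979, e3 q20304 L736474 q21982, e3 q20305 (flp_d L735916) q21939, e3 q20306 L718725 q18414, e3 q20307 L718743 q19783, e3 q20308 L718757 q19790, e3 q20309 L736558 q21988, e3 q20310 (flp_d L718773) q18415, e3 q20311 (flp_d L733413) q21758, e3 q20312 (flp_d L733431) q21759, e3 q20313 L736588 q21992, e3 q20314 (flp_d L718807) q18418, e3 q20315 L718821 q18472, e3 q20316 L736613 q21995, e3 q20317 (flp_d L718839) q18421, e3 q20318 L718856 q18448, e3 q20319 L718871 q18449,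 e3 q20320 L736659 q21999, e3 q20321 (flp_d L718888) q18424, e3 q20322 L736682 q22001, e3 q20323 L718921 q19249, e3 q20324 L718943 q19804, e3 q20325 (flp_d L718947) q18428, e3 q20326 L718963 q19064, e3 q20327 L718979 q19221, e3 q20328 L718995 q19879, e3 q20329 L719005 q19911, e3 q20330 L719011 q18452, e3 q20331 L736780 q22008, e3 q20332 (flp_d L719025) q18435, e3 q20333 L719041 q19506, e3 q20334 (flp_d L719043) q18437, e3 q20335 L719073 q19349, e3 q20336 L719085 q19229, e3 q20337 L719104 q19172, e3 q20338 L719114 q19461, e3 q20339 L736853 q22014, e3 q20340 (flp_d L719132) q18445, e3 q20341 L719142 q19121, e3 q20342 (flp_d L736641) q21997, e3 q20343 L736880 q22016, e3 q20344 (flp_d L719184) q18450, e3 q20345 L719203 q19542, e3 q20346 L736930 q22020, e3 q20347 (flp_d L719216) q18453, e3 q20348 L719232 q19533, e3 q20349 (flp_d L733616) q21772, e3 q20350 L719241 q19425, e3 q20351 (flp_d L719250) q18456, trivial⟩ (by decide +kernel)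

theorem ce_d_318 : ∀ r, r < 64 → sm gd (Qf (20352 + r)) = Qf (tab Gen.d (20352 + r)) :=
  edges_tab (sm gd) Qf (tab Gen.d) 20352 [(20352, 18475), (20353, 21966), (20354, 22027), (20355, 18462), (20356, 18463), (20357, 22029), (20358, 22021), (20359, 20359), (20360, 18466), (20361, 22033), (20362, 18467), (20363, 20363), (20364, 22036), (20365, 18470), (20366, 22037), (20367, 22025), (20368, 18473), (20369, 19963), (20370, 19357), (20371, 19987), (20372, 19994), (20373, 21702), (20374, 18481), (20375, 19721), (20376, 18498), (20377, 18537), (20378, 18501), (20379, 20379), (20380, 20380), (20381, 18546), (20382, 18507), (20383, 18552), (20384, 22048), (20385, 22049), (20386, 18513), (20387, 18514), (20388, 18568), (20389, 20389), (20390, 22051), (20391, 20391), (20392, 22053), (20393, 18575), (20394, 18576), (20395, 22054), (20396, 18525), (20397, 22056), (20398, 18527), (20399, 18528), (20400, 18561), (20401, 18530), (20402, 18558), (20403, 19556), (20404, 22043), (20405, 20405), (20406, 22059), (20407, 18539), (20408, 20408),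 (20409, 22044), (20410, 20410), (20411, 18560), (20412, 22064), (20413, 22065), (20414, 22047), (20415, 18685)]
    ⟨e3 q20352 L719271 q18475, e3 q20353 (flp_d L736262) q21966, e3 q20354 L737010 q22027, e3 q20355 (flp_d L719302) q18462, e3 q20356 (flp_d L719311) q18463, e3 q20357 (flp_d L737036) q22029, e3 q20358 (flp_d L736950) q22021, e3 q20359 L719370 q20359, e3 q20360 L719377 q18466, e3 q20361 L737088 q22033, e3 q20362 (flp_d L719400) q18467, e3 q20363 L719415 q20363, e3 q20364 L737122 q22036, e3 q20365 (flp_d L719434) q18470, e3 q20366 (flp_d L737147) q22037, e3 q20367 (flp_d L736991) q22025, e3 q20368 (flp_d L719466) q18473, e3 q20369 L719482 q19963, e3 q20370 L719495 q19357, e3 q20371 L719501 q19987, e3 q20372 L719510 q19994, e3 q20373 (flp_d L732497) q21702, e3 q20374 (flp_d L719531) q18481, e3 q20375 L719559 q19721, e3 q20376 L719570 q18498, e3 q20377 L719594 q18537, e3 q20378 L719606 q18501, e3 q20379 L719624 q20379, e3 q20380 L719641 q20380, e3 q20381 L719660 q18546, e3 q20382 L719672 q18507, e3 q20383 L719694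 q18552, e3 q20384 L737301 q22048, e3 q20385 L737319 q22049, e3 q20386 (flp_d L719726) q18513, e3 q20387 (flp_d L719743) q18514, e3 q20388 L719770 q18568, e3 q20389 L719782 q20389, e3 q20390 L737355 q22051, e3 q20391 L719809 q20391, e3 q20392 L737384 q22053, e3 q20393 L719840 q18575, e3 q20394 L719860 q18576, e3 q20395 L737393 q22054, e3 q20396 (flp_d L719876) q18525, e3 q20397 L737427 q22056, e3 q20398 (flp_d L719900) q18527, e3 q20399 (flp_d L719908) q18528, e3 q20400 L719938 q18561, e3 q20401 (flp_d L719942) q18530, e3 q20402 L719972 q18558, e3 q20403 L719986 q19556, e3 q20404 (flp_d L737221) q22043, e3 q20405 L720010 q20405, e3 q20406 L737481 q22059, e3 q20407 L720039 q18539, e3 q20408 L720057 q20408, e3 q20409 (flp_d L737241) q22044, e3 q20410 L720082 q20410, e3 q20411 L720099 q18560, e3 q20412 L737570 q22064, e3 q20413 L737581 q22065, e3 q20414 (flp_d L737297) q22047, e3 q20415 L720153 q18685, trivial⟩ (by decide +kernel)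

theorem ce_d_319 : ∀ r, r < 64 → sm gd (Qf (20416 + r)) = Qf (tab Gen.d (20416 + r)) :=
  edges_tab (sm gd) Qf (tab Gen.d) 20416 [(20416, 22057), (20417, 18557), (20418, 22055), (20419, 22067), (20420, 22068), (20421, 18555), (20422, 18556), (20423, 21712), (20424, 20424), (20425, 18562), (20426, 20426), (20427, 19566), (20428, 19696), (20429, 22073), (20430, 22074), (20431, 22075), (20432, 22076), (20433, 18571), (20434, 22078), (20435, 18573), (20436, 22080), (20437, 22081), (20438, 18578), (20439, 18579), (20440, 21711), (20441, 22082), (20442, 18582), (20443, 22084), (20444, 18584), (20445, 22086), (20446, 19570), (20447, 18587), (20448, 22085), (20449, 20449), (20450, 20450), (20451, 18784), (20452, 18605), (20453, 22089), (20454, 18911), (20455, 18607), (20456, 18609), (20457, 18724), (20458, 18612), (20459, 22094), (20460, 20460), (20461, 19748), (20462, 18614), (20463, 18616), (20464, 20464), (20465, 20465), (20466, 20466), (20467, 18742), (20468, 22104), (20469, 22105), (20470, 18623), (20471, 22107), (20472, 18920),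 (20473, 18625), (20474, 18956), (20475, 18641), (20476, 18922), (20477, 18923), (20478, 18757), (20479, 18761)]
    ⟨e3 q20416 (flp_d L737459) q22057, e3 q20417 L720173 q18557, e3 q20418 (flp_d L737425) q22055, e3 q20419 L737608 q22067, e3 q20420 L737620 q22068, e3 q20421 (flp_d L720213) q18555, e3 q20422 (flp_d L720223) q18556, e3 q20423 (flp_d L732665) q21712, e3 q20424 L720259 q20424, e3 q20425 (flp_d L720260) q18562, e3 q20426 L720282 q20426, e3 q20427 L720293 q19566, e3 q20428 L720311 q19696, e3 q20429 L737689 q22073, e3 q20430 L737700 q22074, e3 q20431 L737711 q22075, e3 q20432 L737728 q22076, e3 q20433 (flp_d L720369) q18571, e3 q20434 L737749 q22078, e3 q20435 (flp_d L720390) q18573, e3 q20436 L737771 q22080, e3 q20437 L737784 q22081, e3 q20438 (flp_d L720415) q18578, e3 q20439 (flp_d L720425) q18579, e3 q20440 (flp_d L732661) q21711, e3 q20441 L737793 q22082, e3 q20442 (flp_d L720467) q18582, e3 q20443 L737822 q22084, e3 q20444 (flp_d L720491) q18584, e3 q20445 (flp_d L737847) q22086, e3 q20446 L720510 q19570, e3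 q20447 (flp_d L720512) q18587, e3 q20448 (flp_d L737840) q22085, e3 q20449 L720543 q20449, e3 q20450 L720546 q20450, e3 q20451 L720569 q18784, e3 q20452 (flp_d L720572) q18605, e3 q20453 (flp_d L737883) q22089, e3 q20454 L720615 q18911, e3 q20455 L720625 q18607, e3 q20456 L720637 q18609, e3 q20457 L720653 q18724, e3 q20458 (flp_d L720655) q18612, e3 q20459 (flp_d L737961) q22094, e3 q20460 L720702 q20460, e3 q20461 L720713 q19748, e3 q20462 L720721 q18614, e3 q20463 L720733 q18616, e3 q20464 L720749 q20464, e3 q20465 L720764 q20465, e3 q20466 L720779 q20466, e3 q20467 L720792 q18742, e3 q20468 L738107 q22104, e3 q20469 L738122 q22105, e3 q20470 (flp_d L720824) q18623, e3 q20471 (flp_d L738163) q22107, e3 q20472 L720866 q18920, e3 q20473 L720876 q18625, e3 q20474 L720892 q18956, e3 q20475 L720902 q18641, e3 q20476 L720918 q18922, e3 q20477 L720930 q18923, e3 q20478 L720944 q18757, e3 q20479 L720958 q18761, trivial⟩ (by decide +kernel)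

theorem ce_d_320 : ∀ r, r < 64 → sm gd (Qf (20480 + r)) = Qf (tab Gen.d (20480 + r)) :=
  edges_tab (sm gd) Qf (tab Gen.d) 20480 [(20480, 22114), (20481, 18637), (20482, 22116), (20483, 19641), (20484, 18635), (20485, 18636), (20486, 22117), (20487, 18638), (20488, 22118), (20489, 18643), (20490, 20490), (20491, 18650), (20492, 18646), (20493, 21860), (20494, 18648), (20495, 20495), (20496, 22128), (20497, 20497), (20498, 22121), (20499, 22122), (20500, 18811), (20501, 18815), (20502, 20502), (20503, 22135), (20504, 20504), (20505, 20505), (20506, 22138), (20507, 22139), (20508, 22060), (20509, 18660), (20510, 20510), (20511, 22142), (20512, 18663), (20513, 18952), (20514, 18665), (20515, 18957), (20516, 18835), (20517, 21895), (20518, 18698), (20519, 18669), (20520, 22149), (20521, 22151), (20522, 18965), (20523, 18966), (20524, 22154), (20525, 22155), (20526, 18676), (20527, 18690), (20528, 22158), (20529, 18679), (20530, 19699), (20531, 19694), (20532, 18682), (20533, 18713), (20534, 21737), (20535, 19639), (20536, 22161),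 (20537, 18688), (20538, 19613), (20539, 22162), (20540, 18691), (20541, 18789), (20542, 18693), (20543, 22165)]
    ⟨e3 q20480 L738251 q22114, e3 q20481 L720980 q18637, e3 q20482 L738281 q22116, e3 q20483 L721012 q19641, e3 q20484 (flp_d L721016) q18635, e3 q20485 (flp_d L721030) q18636, e3 q20486 L738297 q22117, e3 q20487 (flp_d L721059) q18638, e3 q20488 L738312 q22118, e3 q20489 (flp_d L721091) q18643, e3 q20490 L721115 q20490, e3 q20491 L721126 q18650, e3 q20492 L721134 q18646, e3 q20493 (flp_d L734826) q21860, e3 q20494 L721153 q18648, e3 q20495 L721163 q20495, e3 q20496 L738440 q22128, e3 q20497 L721186 q20497, e3 q20498 (flp_d L738353) q22121, e3 q20499 (flp_d L738366) q22122, e3 q20500 L721209 q18811, e3 q20501 L721221 q18815, e3 q20502 L721231 q20502, e3 q20503 L738515 q22135, e3 q20504 L721252 q20504, e3 q20505 L721261 q20505, e3 q20506 L738545 q22138, e3 q20507 L738554 q22139, e3 q20508 (flp_d L737510) q22060, e3 q20509 (flp_d L721294) q18660, e3 q20510 L721311 q20510, e3 q20511 L738600 q22142, e3 q20512 (flp_d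 L721332) q18663, e3 q20513 L721351 q18952, e3 q20514 L721361 q18665, e3 q20515 L721371 q18957, e3 q20516 L721383 q18835, e3 q20517 (flp_d L735337) q21895, e3 q20518 L721401 q18698, e3 q20519 (flp_d L721409) q18669, e3 q20520 (flp_d L738698) q22149, e3 q20521 L738716 q22151, e3 q20522 L721447 q18965, e3 q20523 L721457 q18966, e3 q20524 L738748 q22154, e3 q20525 L738756 q22155, e3 q20526 (flp_d L721475) q18676, e3 q20527 L721489 q18690, e3 q20528 L738800 q22158, e3 q20529 (flp_d L721501) q18679, e3 q20530 L721519 q19699, e3 q20531 L721529 q19694, e3 q20532 (flp_d L721531) q18682, e3 q20533 L721551 q18713, e3 q20534 (flp_d L733073) q21737, e3 q20535 L721581 q19639, e3 q20536 L738838 q22161, e3 q20537 (flp_d L721595) q18688, e3 q20538 L721617 q19613, e3 q20539 L738854 q22162, e3 q20540 (flp_d L721638) q18691, e3 q20541 L721654 q18789, e3 q20542 (flp_d L721658) q18693, e3 q20543 L738891 q22165, trivial⟩ (by decide +kernel)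

theorem ce_d_321 : ∀ r, r < 64 → sm gd (Qf (20544 + r)) = Qf (tab Gen.d (20544 + r)) :=
  edges_tab (sm gd) Qf (tab Gen.d) 20544 [(20544, 18700), (20545, 22167), (20546, 18701), (20547, 18703), (20548, 18777), (20549, 19720), (20550, 19722), (20551, 18712), (20552, 21766), (20553, 19002), (20554, 18717), (20555, 20555), (20556, 22176), (20557, 20557), (20558, 19006), (20559, 22091), (20560, 22092), (20561, 20561), (20562, 22181), (20563, 22140), (20564, 18726), (20565, 18727), (20566, 22183), (20567, 20567), (20568, 18733), (20569, 18729), (20570, 20570), (20571, 22182), (20572, 18731), (20573, 20573), (20574, 22195), (20575, 20575), (20576, 22186), (20577, 22187), (20578, 22099), (20579, 20579), (20580, 22100), (20581, 20581), (20582, 18781), (20583, 18788), (20584, 22205), (20585, 20585), (20586, 22207), (20587, 22208), (20588, 19702), (20589, 18745), (20590, 18746), (20591, 19031), (20592, 18748), (20593, 21971), (20594, 18782), (20595, 19035), (20596, 19036), (20597, 22109), (20598, 18775), (20599, 19140), (20600, 18785),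 (20601, 21962), (20602, 21972), (20603, 22223), (20604, 19044), (20605, 22225), (20606, 22159), (20607, 18776)]
    ⟨e3 q20544 L721694 q18700, e3 q20545 L738920 q22167, e3 q20546 (flp_d L721717) q18701, e3 q20547 (flp_d L721726) q18703, e3 q20548 L721754 q18777, e3 q20549 L721769 q19720, e3 q20550 L721784 q19722, e3 q20551 L721794 q18712, e3 q20552 (flp_d L733529) q21766, e3 q20553 L721820 q19002, e3 q20554 L721830 q18717, e3 q20555 L721838 q20555, e3 q20556 L739038 q22176, e3 q20557 L721867 q20557, e3 q20558 L721876 q19006, e3 q20559 (flp_d L737917) q22091, e3 q20560 (flp_d L737933) q22092, e3 q20561 L721910 q20561, e3 q20562 L739099 q22181, e3 q20563 (flp_d L738580) q22140, e3 q20564 (flp_d L721939) q18726, e3 q20565 (flp_d L721948) q18727, e3 q20566 (flp_d L739132) q22183, e3 q20567 L721992 q20567, e3 q20568 L722003 q18733, e3 q20569 L722011 q18729, e3 q20570 L722028 q20570, e3 q20571 (flp_d L739122) q22182, e3 q20572 L722041 q18731, e3 q20573 L722049 q20573, e3 q20574 L739285 q22195, e3 q20575 L722078 q20575, e3 q20576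 (flp_d L739173) q22186, e3 q20577 (flp_d L739186) q22187, e3 q20578 (flp_d L738040) q22099, e3 q20579 L722117 q20579, e3 q20580 (flp_d L738056) q22100, e3 q20581 L722140 q20581, e3 q20582 L722155 q18781, e3 q20583 L722171 q18788, e3 q20584 L739420 q22205, e3 q20585 L722193 q20585, e3 q20586 L739437 q22207, e3 q20587 L739446 q22208, e3 q20588 L722232 q19702, e3 q20589 (flp_d L722236) q18745, e3 q20590 (flp_d L722245) q18746, e3 q20591 L722260 q19031, e3 q20592 L722266 q18748, e3 q20593 (flp_d L736324) q21971, e3 q20594 L722286 q18782, e3 q20595 L722298 q19035, e3 q20596 L722308 q19036, e3 q20597 (flp_d L738195) q22109, e3 q20598 L722326 q18775, e3 q20599 L722344 q19140, e3 q20600 L722350 q18785, e3 q20601 (flp_d L736212) q21962, e3 q20602 (flp_d L736340) q21972, e3 q20603 L739625 q22223, e3 q20604 L722388 q19044, e3 q20605 L739643 q22225, e3 q20606 (flp_d L738818) q22159, e3 q20607 L722418 q18776, trivial⟩ (by decide +kernel)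

theorem ce_d_322 : ∀ r, r < 64 → sm gd (Qf (20608 + r)) = Qf (tab Gen.d (20608 + r)) :=
  edges_tab (sm gd) Qf (tab Gen.d) 20608 [(20608, 22156), (20609, 18790), (20610, 22228), (20611, 20611), (20612, 22230), (20613, 18766), (20614, 22232), (20615, 18768), (20616, 21769), (20617, 22143), (20618, 18771), (20619, 18772), (20620, 22237), (20621, 22236), (20622, 22218), (20623, 22169), (20624, 18778), (20625, 20625), (20626, 22203), (20627, 22163), (20628, 19936), (20629, 22241), (20630, 18786), (20631, 21773), (20632, 18791), (20633, 20633), (20634, 20634), (20635, 20635), (20636, 20636), (20637, 18804), (20638, 18797), (20639, 20639), (20640, 22253), (20641, 20641), (20642, 18809), (20643, 18810), (20644, 22123), (20645, 19491), (20646, 18802), (20647, 22261), (20648, 20648), (20649, 22248), (20650, 22249), (20651, 22125), (20652, 22266), (20653, 20653), (20654, 18807), (20655, 21808), (20656, 22270), (20657, 22273), (20658, 19467), (20659, 22257), (20660, 22276), (20661, 22277), (20662, 20662), (20663, 22279), (20664, 22280),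 (20665, 19588), (20666, 22282), (20667, 18819), (20668, 20668), (20669, 22285), (20670, 18822), (20671, 18823)]
    ⟨e3 q20608 (flp_d L738786) q22156, e3 q20609 L722444 q18790, e3 q20610 L739677 q22228, e3 q20611 L722464 q20611, e3 q20612 L739695 q22230, e3 q20613 (flp_d L722477) q18766, e3 q20614 L739716 q22232, e3 q20615 (flp_d L722491) q18768, e3 q20616 (flp_d L733565) q21769, e3 q20617 (flp_d L738626) q22143, e3 q20618 (flp_d L722523) q18771, e3 q20619 (flp_d L722531) q18772, e3 q20620 (flp_d L739796) q22237, e3 q20621 (flp_d L739781) q22236, e3 q20622 (flp_d L739579) q22218, e3 q20623 (flp_d L738948) q22169, e3 q20624 (flp_d L722587) q18778, e3 q20625 L722607 q20625, e3 q20626 (flp_d L739394) q22203, e3 q20627 (flp_d L738880) q22163, e3 q20628 L722650 q19936, e3 q20629 L739835 q22241, e3 q20630 (flp_d L722667) q18786, e3 q20631 (flp_d L733620) q21773, e3 q20632 (flp_d L722689) q18791, e3 q20633 L722709 q20633, e3 q20634 L722719 q20634, e3 q20635 L722731 q20635, e3 q20636 L722745 q20636, e3 q20637 L722756 q18804, e3 q20638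 L722762 q18797, e3 q20639 L722771 q20639, e3 q20640 L739969 q22253, e3 q20641 L722791 q20641, e3 q20642 L722799 q18809, e3 q20643 L722810 q18810, e3 q20644 (flp_d L738381) q22123, e3 q20645 L722835 q19491, e3 q20646 L722841 q18802, e3 q20647 L740049 q22261, e3 q20648 L722865 q20648, e3 q20649 (flp_d L739919) q22248, e3 q20650 (flp_d L739930) q22249, e3 q20651 (flp_d L738405) q22125, e3 q20652 L740102 q22266, e3 q20653 L722918 q20653, e3 q20654 (flp_d L722925) q18807, e3 q20655 (flp_d L734121) q21808, e3 q20656 (flp_d L740158) q22270, e3 q20657 L740183 q22273, e3 q20658 L722962 q19467, e3 q20659 (flp_d L740006) q22257, e3 q20660 L740212 q22276, e3 q20661 L740218 q22277, e3 q20662 L723000 q20662, e3 q20663 L740239 q22279, e3 q20664 L740250 q22280, e3 q20665 L723039 q19588, e3 q20666 L740275 q22282, e3 q20667 (flp_d L723055) q18819, e3 q20668 L723064 q20668, e3 q20669 L740302 q22285, e3 q20670 (flp_d L723075) q18822, e3 q20671 (flp_d L723082) q18823, trivial⟩ (by decide +kernel)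

theorem ce_d_323 : ∀ r, r < 64 → sm gd (Qf (20672 + r)) = Qf (tab Gen.d (20672 + r)) :=
  edges_tab (sm gd) Qf (tab Gen.d) 20672 [(20672, 18824), (20673, 22234), (20674, 22288), (20675, 18827), (20676, 22235), (20677, 19130), (20678, 19131), (20679, 22145), (20680, 18831), (20681, 22291), (20682, 22293), (20683, 22296), (20684, 19141), (20685, 22298), (20686, 22299), (20687, 18888), (20688, 18837), (20689, 22302), (20690, 22304), (20691, 22307), (20692, 18840), (20693, 22269), (20694, 18841), (20695, 21889), (20696, 22309), (20697, 22314), (20698, 18842), (20699, 19156), (20700, 19157), (20701, 22318), (20702, 18845), (20703, 20703), (20704, 22321), (20705, 18848), (20706, 22322), (20707, 18850), (20708, 21765), (20709, 20709), (20710, 22324), (20711, 18854), (20712, 20712), (20713, 22327), (20714, 18857), (20715, 22329), (20716, 18876), (20717, 22332), (20718, 18861), (20719, 22328), (20720, 18864), (20721, 22336), (20722, 22337), (20723, 18867), (20724, 18873), (20725, 18869), (20726, 22209), (20727, 19691), (20728, 18871),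 (20729, 18874), (20730, 18877), (20731, 20731), (20732, 19206), (20733, 20733), (20734, 20734), (20735, 20735)]
    ⟨e3 q20672 (flp_d L723095) q18824, e3 q20673 (flp_d L739750) q22234, e3 q20674 L740331 q22288, e3 q20675 (flp_d L723120) q18827, e3 q20676 (flp_d L739766) q22235, e3 q20677 L723136 q19130, e3 q20678 L723142 q19131, e3 q20679 (flp_d L738658) q22145, e3 q20680 (flp_d L723156) q18831, e3 q20681 (flp_d L740364) q22291, e3 q20682 (flp_d L740389) q22293, e3 q20683 L740417 q22296, e3 q20684 L723200 q19141, e3 q20685 L740437 q22298, e3 q20686 L740443 q22299, e3 q20687 L723234 q18888, e3 q20688 (flp_d L723242) q18837, e3 q20689 (flp_d L740495) q22302, e3 q20690 (flp_d L740518) q22304, e3 q20691 L740552 q22307, e3 q20692 L723296 q18840, e3 q20693 (flp_d L740154) q22269, e3 q20694 L723311 q18841, e3 q20695 (flp_d L735251) q21889, e3 q20696 (flp_d L740577) q22309, e3 q20697 L740616 q22314, e3 q20698 (flp_d L723341) q18842, e3 q20699 L723351 q19156, e3 q20700 L723359 q19157, e3 q20701 L740644 q22318, e3 q20702 (flp_d L723373)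 q18845, e3 q20703 L723385 q20703, e3 q20704 L740666 q22321, e3 q20705 (flp_d L723402) q18848, e3 q20706 L740675 q22322, e3 q20707 (flp_d L723420) q18850, e3 q20708 (flp_d L733513) q21765, e3 q20709 L723452 q20709, e3 q20710 L740699 q22324, e3 q20711 (flp_d L723473) q18854, e3 q20712 L723489 q20712, e3 q20713 L740734 q22327, e3 q20714 (flp_d L723500) q18857, e3 q20715 (flp_d L740751) q22329, e3 q20716 L723513 q18876, e3 q20717 L740765 q22332, e3 q20718 (flp_d L723525) q18861, e3 q20719 (flp_d L740744) q22328, e3 q20720 (flp_d L723537) q18864, e3 q20721 (flp_d L740804) q22336, e3 q20722 L740808 q22337, e3 q20723 (flp_d L723566) q18867, e3 q20724 L723580 q18873, e3 q20725 L723585 q18869, e3 q20726 (flp_d L739472) q22209, e3 q20727 L723603 q19691, e3 q20728 (flp_d L723605) q18871, e3 q20729 (flp_d L723615) q18874, e3 q20730 (flp_d L723624) q18877, e3 q20731 L723638 q20731, e3 q20732 L723642 q19206, e3 q20733 L723646 q20733, e3 q20734 L723663 q20734, e3 q20735 L723677 q20735, trivial⟩ (by decide +kernel)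

theorem ce_d_324 : ∀ r, r < 64 → sm gd (Qf (20736 + r)) = Qf (tab Gen.d (20736 + r)) :=
  edges_tab (sm gd) Qf (tab Gen.d) 20736 [(20736, 18884), (20737, 22345), (20738, 18885), (20739, 18887), (20740, 22347), (20741, 21771), (20742, 20742), (20743, 18890), (20744, 22351), (20745, 18891), (20746, 20746), (20747, 22354), (20748, 18894), (20749, 22356), (20750, 22355), (20751, 20751), (20752, 19240), (20753, 19360), (20754, 22088), (20755, 18909), (20756, 19860), (20757, 20757), (20758, 22090), (20759, 19007), (20760, 20760), (20761, 19009), (20762, 22364), (20763, 18917), (20764, 22106), (20765, 18919), (20766, 22108), (20767, 19037), (20768, 22112), (20769, 22369), (20770, 22370), (20771, 22371), (20772, 18928), (20773, 18930), (20774, 18931), (20775, 18940), (20776, 18934), (20777, 19581), (20778, 18982), (20779, 18942), (20780, 18943), (20781, 19085), (20782, 21854), (20783, 18939), (20784, 22373), (20785, 22374), (20786, 19094), (20787, 22378), (20788, 22386), (20789, 20789), (20790, 22388), (20791, 22389), (20792, 18949),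 (20793, 18995), (20794, 18991), (20795, 19645), (20796, 22144), (20797, 19132), (20798, 19733), (20799, 19781)]
    ⟨e3 q20736 L723684 q18884, e3 q20737 L740887 q22345, e3 q20738 (flp_d L723701) q18885, e3 q20739 (flp_d L723710) q18887, e3 q20740 (flp_d L740910) q22347, e3 q20741 (flp_d L733605) q21771, e3 q20742 L723762 q20742, e3 q20743 L723769 q18890, e3 q20744 L740956 q22351, e3 q20745 (flp_d L723790) q18891, e3 q20746 L723807 q20746, e3 q20747 L740988 q22354, e3 q20748 (flp_d L723818) q18894, e3 q20749 (flp_d L741012) q22356, e3 q20750 (flp_d L741005) q22355, e3 q20751 L723845 q20751, e3 q20752 L723859 q19240, e3 q20753 L723877 q19360, e3 q20754 (flp_d L737873) q22088, e3 q20755 L723896 q18909, e3 q20756 (flp_d L723916) q19860, e3 q20757 L723926 q20757, e3 q20758 (flp_d L737899) q22090, e3 q20759 L723951 q19007, e3 q20760 L723963 q20760, e3 q20761 L723978 q19009, e3 q20762 L741100 q22364, e3 q20763 (flp_d L723996) q18917, e3 q20764 (flp_d L738151) q22106, e3 q20765 L724030 q18919, e3 q20766 (flp_d L738177) q22108, e3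 q20767 L724057 q19037, e3 q20768 (flp_d L738233) q22112, e3 q20769 L741166 q22369, e3 q20770 L741176 q22370, e3 q20771 L741191 q22371, e3 q20772 (flp_d L724106) q18928, e3 q20773 (flp_d L724118) q18930, e3 q20774 (flp_d L724130) q18931, e3 q20775 L724143 q18940, e3 q20776 L724149 q18934, e3 q20777 L724162 q19581, e3 q20778 L724170 q18982, e3 q20779 L724179 q18942, e3 q20780 L724186 q18943, e3 q20781 L724199 q19085, e3 q20782 (flp_d L734731) q21854, e3 q20783 L724219 q18939, e3 q20784 (flp_d L741214) q22373, e3 q20785 (flp_d L741223) q22374, e3 q20786 L724258 q19094, e3 q20787 (flp_d L741263) q22378, e3 q20788 L741354 q22386, e3 q20789 L724290 q20789, e3 q20790 L741376 q22388, e3 q20791 L741390 q22389, e3 q20792 (flp_d L724318) q18949, e3 q20793 L724345 q18995, e3 q20794 L724355 q18991, e3 q20795 L724366 q19645, e3 q20796 (flp_d L738636) q22144, e3 q20797 L724386 q19132, e3 q20798 L724396 q19733, e3 q20799 L724416 q19781, trivial⟩ (by decide +kernel)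

theorem ce_d_325 : ∀ r, r < 64 → sm gd (Qf (20800 + r)) = Qf (tab Gen.d (20800 + r)) :=
  edges_tab (sm gd) Qf (tab Gen.d) 20800 [(20800, 22110), (20801, 22396), (20802, 19780), (20803, 19736), (20804, 18963), (20805, 19731), (20806, 22400), (20807, 19666), (20808, 22152), (20809, 22403), (20810, 18967), (20811, 22405), (20812, 18970), (20813, 19460), (20814, 18985), (20815, 22407), (20816, 18976), (20817, 19457), (20818, 22410), (20819, 18979), (20820, 22411), (20821, 18983), (20822, 22413), (20823, 18986), (20824, 19935), (20825, 22164), (20826, 18989), (20827, 19779), (20828, 19737), (20829, 18994), (20830, 22390), (20831, 19754), (20832, 19763), (20833, 22093), (20834, 19000), (20835, 22380), (20836, 20836), (20837, 22172), (20838, 22359), (20839, 19004), (20840, 22424), (20841, 22426), (20842, 22427), (20843, 22428), (20844, 19010), (20845, 19019), (20846, 19013), (20847, 19470), (20848, 19235), (20849, 19021), (20850, 19022), (20851, 19775), (20852, 19742), (20853, 19018), (20854, 22429), (20855, 22430), (20856, 19747),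 (20857, 22435), (20858, 22444), (20859, 20859), (20860, 20860), (20861, 22447), (20862, 22448), (20863, 19028)]
    ⟨e3 q20800 (flp_d L738203) q22110, e3 q20801 L741479 q22396, e3 q20802 L724442 q19780, e3 q20803 L724464 q19736, e3 q20804 L724474 q18963, e3 q20805 L724492 q19731, e3 q20806 L741533 q22400, e3 q20807 L724518 q19666, e3 q20808 (flp_d L738732) q22152, e3 q20809 L741567 q22403, e3 q20810 (flp_d L724540) q18967, e3 q20811 L741577 q22405, e3 q20812 (flp_d L724554) q18970, e3 q20813 L724577 q19460, e3 q20814 L724587 q18985, e3 q20815 L741597 q22407, e3 q20816 (flp_d L724601) q18976, e3 q20817 L724619 q19457, e3 q20818 L741625 q22410, e3 q20819 (flp_d L724632) q18979, e3 q20820 L741636 q22411, e3 q20821 (flp_d L724652) q18983, e3 q20822 L741655 q22413, e3 q20823 (flp_d L724676) q18986, e3 q20824 L724692 q19935, e3 q20825 (flp_d L738887) q22164, e3 q20826 (flp_d L724699) q18989, e3 q20827 L724721 q19779, e3 q20828 L724737 q19737, e3 q20829 L724745 q18994, e3 q20830 (flp_d L741409) q22390, e3 q20831 L724769 q19754,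 e3 q20832 L724782 q19763, e3 q20833 (flp_d L737949) q22093, e3 q20834 L724800 q19000, e3 q20835 (flp_d L741284) q22380, e3 q20836 L724823 q20836, e3 q20837 (flp_d L738989) q22172, e3 q20838 (flp_d L741039) q22359, e3 q20839 (flp_d L724844) q19004, e3 q20840 (flp_d L741775) q22424, e3 q20841 L741790 q22426, e3 q20842 L741797 q22427, e3 q20843 L741803 q22428, e3 q20844 (flp_d L724888) q19010, e3 q20845 L724905 q19019, e3 q20846 L724915 q19013, e3 q20847 L724934 q19470, e3 q20848 L724944 q19235, e3 q20849 L724955 q19021, e3 q20850 L724962 q19022, e3 q20851 L724975 q19775, e3 q20852 L724991 q19742, e3 q20853 L725001 q19018, e3 q20854 (flp_d L741821) q22429, e3 q20855 (flp_d L741834) q22430, e3 q20856 L725040 q19747, e3 q20857 (flp_d L741903) q22435, e3 q20858 L742010 q22444, e3 q20859 L725072 q20859, e3 q20860 L725082 q20860, e3 q20861 L742042 q22447, e3 q20862 L742054 q22448, e3 q20863 (flp_d L725110) q19028, trivial⟩ (by decide +kernel)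

theorem ce_d_326 : ∀ r, r < 64 → sm gd (Qf (20864 + r)) = Qf (tab Gen.d (20864 + r)) :=
  edges_tab (sm gd) Qf (tab Gen.d) 20864 [(20864, 19406), (20865, 21985), (20866, 19065), (20867, 22126), (20868, 22211), (20869, 22366), (20870, 19033), (20871, 22455), (20872, 22456), (20873, 19824), (20874, 22215), (20875, 22216), (20876, 22462), (20877, 19038), (20878, 22464), (20879, 19831), (20880, 19041), (20881, 19820), (20882, 19042), (20883, 22467), (20884, 22471), (20885, 22472), (20886, 19045), (20887, 20887), (20888, 20888), (20889, 22476), (20890, 19059), (20891, 22478), (20892, 19051), (20893, 22480), (20894, 19054), (20895, 19055), (20896, 22481), (20897, 19058), (20898, 22484), (20899, 19060), (20900, 20900), (20901, 20901), (20902, 22240), (20903, 22004), (20904, 19068), (20905, 19069), (20906, 22489), (20907, 20907), (20908, 19072), (20909, 19237), (20910, 19949), (20911, 19087), (20912, 19076), (20913, 19238), (20914, 19478), (20915, 19239), (20916, 19092), (20917, 19093), (20918, 22375), (20919, 19241), (20920, 22505),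 (20921, 19243), (20922, 19081), (20923, 22509), (20924, 22511), (20925, 22515), (20926, 19101), (20927, 19102)]
    ⟨e3 q20864 L725131 q19406, e3 q20865 (flp_d L736520) q21985, e3 q20866 L725155 q19065, e3 q20867 L738425 q22126, e3 q20868 (flp_d L739495) q22211, e3 q20869 (flp_d L741138) q22366, e3 q20870 (flp_d L725188) q19033, e3 q20871 (flp_d L742147) q22455, e3 q20872 (flp_d L742160) q22456, e3 q20873 L725238 q19824, e3 q20874 (flp_d L739539) q22215, e3 q20875 (flp_d L739555) q22216, e3 q20876 L742224 q22462, e3 q20877 (flp_d L725266) q19038, e3 q20878 (flp_d L742250) q22464, e3 q20879 L725298 q19831, e3 q20880 L725306 q19041, e3 q20881 L725321 q19820, e3 q20882 L725327 q19042, e3 q20883 (flp_d L742287) q22467, e3 q20884 L742326 q22471, e3 q20885 L742336 q22472, e3 q20886 (flp_d L725363) q19045, e3 q20887 L725377 q20887, e3 q20888 L725389 q20888, e3 q20889 L742374 q22476, e3 q20890 L725413 q19059, e3 q20891 L742395 q22478, e3 q20892 (flp_d L725426) q19051, e3 q20893 L742416 q22480, e3 q20894 (flp_d L725445) q19054, e3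 q20895 (flp_d L725456) q19055, e3 q20896 (flp_d L742436) q22481, e3 q20897 L725482 q19058, e3 q20898 L742452 q22484, e3 q20899 (flp_d L725493) q19060, e3 q20900 L725512 q20900, e3 q20901 L725520 q20901, e3 q20902 (flp_d L739833) q22240, e3 q20903 (flp_d L736740) q22004, e3 q20904 L725550 q19068, e3 q20905 (flp_d L725555) q19069, e3 q20906 (flp_d L742503) q22489, e3 q20907 L725595 q20907, e3 q20908 L725600 q19072, e3 q20909 L725613 q19237, e3 q20910 L725627 q19949, e3 q20911 L725641 q19087, e3 q20912 L725649 q19076, e3 q20913 L725659 q19238, e3 q20914 L725676 q19478, e3 q20915 L725684 q19239, e3 q20916 L725691 q19092, e3 q20917 L725698 q19093, e3 q20918 (flp_d L741236) q22375, e3 q20919 L725711 q19241, e3 q20920 L742690 q22505, e3 q20921 L725730 q19243, e3 q20922 (flp_d L725735) q19081, e3 q20923 (flp_d L742740) q22509, e3 q20924 (flp_d L742770) q22511, e3 q20925 L742802 q22515, e3 q20926 L725771 q19101, e3 q20927 L725780 q19102, trivial⟩ (by decide +kernel)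

theorem ce_d_327 : ∀ r, r < 64 → sm gd (Qf (20928 + r)) = Qf (tab Gen.d (20928 + r)) :=
  edges_tab (sm gd) Qf (tab Gen.d) 20928 [(20928, 22518), (20929, 19143), (20930, 19220), (20931, 21944), (20932, 22493), (20933, 22382), (20934, 19793), (20935, 19248), (20936, 19877), (20937, 19878), (20938, 19791), (20939, 22500), (20940, 22501), (20941, 22532), (20942, 19095), (20943, 22533), (20944, 19797), (20945, 19098), (20946, 19150), (20947, 19099), (20948, 22495), (20949, 22536), (20950, 22541), (20951, 21924), (20952, 22516), (20953, 22544), (20954, 19103), (20955, 19803), (20956, 19931), (20957, 19969), (20958, 22548), (20959, 20959), (20960, 20960), (20961, 22551), (20962, 19110), (20963, 19242), (20964, 19415), (20965, 22555), (20966, 19114), (20967, 20967), (20968, 22557), (20969, 19117), (20970, 19515), (20971, 19422), (20972, 22011), (20973, 22562), (20974, 19124), (20975, 19198), (20976, 19197), (20977, 19256), (20978, 19211), (20979, 19128), (20980, 21978), (20981, 22566), (20982, 22570), (20983, 22189), (20984, 22289),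 (20985, 22573), (20986, 19815), (20987, 19215), (20988, 19134), (20989, 22576), (20990, 22577), (20991, 22580)]
    ⟨e3 q20928 L742825 q22518, e3 q20929 L725803 q19143, e3 q20930 L725811 q19220, e3 q20931 (flp_d L735968) q21944, e3 q20932 (flp_d L742556) q22493, e3 q20933 (flp_d L741314) q22382, e3 q20934 L725852 q19793, e3 q20935 L725860 q19248, e3 q20936 L725872 q19877, e3 q20937 L725886 q19878, e3 q20938 L725902 q19791, e3 q20939 (flp_d L742645) q22500, e3 q20940 (flp_d L742652) q22501, e3 q20941 L742986 q22532, e3 q20942 (flp_d L725928) q19095, e3 q20943 (flp_d L742998) q22533, e3 q20944 L725956 q19797, e3 q20945 L725964 q19098, e3 q20946 L725980 q19150, e3 q20947 L725986 q19099, e3 q20948 (flp_d L742588) q22495, e3 q20949 (flp_d L743036) q22536, e3 q20950 L743092 q22541, e3 q20951 (flp_d L735706) q21924, e3 q20952 (flp_d L742813) q22516, e3 q20953 L743120 q22544, e3 q20954 (flp_d L726054) q19103, e3 q20955 L726069 q19803, e3 q20956 L726081 q19931, e3 q20957 L726094 q19969, e3 q20958 L743159 q22548, e3 q20959 L726119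 q20959, e3 q20960 L726127 q20960, e3 q20961 L743193 q22551, e3 q20962 (flp_d L726139) q19110, e3 q20963 L726155 q19242, e3 q20964 L726171 q19415, e3 q20965 L743244 q22555, e3 q20966 (flp_d L726187) q19114, e3 q20967 L726203 q20967, e3 q20968 L743264 q22557, e3 q20969 (flp_d L726216) q19117, e3 q20970 L726232 q19515, e3 q20971 L726242 q19422, e3 q20972 (flp_d L736808) q22011, e3 q20973 L743315 q22562, e3 q20974 (flp_d L726272) q19124, e3 q20975 L726291 q19198, e3 q20976 L726295 q19197, e3 q20977 L726317 q19256, e3 q20978 L726325 q19211, e3 q20979 (flp_d L726332) q19128, e3 q20980 (flp_d L736428) q21978, e3 q20981 (flp_d L743369) q22566, e3 q20982 L743409 q22570, e3 q20983 L739221 q22189, e3 q20984 (flp_d L740344) q22289, e3 q20985 L743440 q22573, e3 q20986 L726402 q19815, e3 q20987 L726410 q19215, e3 q20988 (flp_d L726418) q19134, e3 q20989 (flp_d L743482) q22576, e3 q20990 (flp_d L743499) q22577, e3 q20991 L743527 q22580, trivial⟩ (by decide +kernel)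

theorem ce_d_328 : ∀ r, r < 64 → sm gd (Qf (20992 + r)) = Qf (tab Gen.d (20992 + r)) :=
  edges_tab (sm gd) Qf (tab Gen.d) 20992 [(20992, 19137), (20993, 19826), (20994, 19138), (20995, 22581), (20996, 22583), (20997, 22589), (20998, 19139), (20999, 22196), (21000, 22219), (21001, 22593), (21002, 19142), (21003, 22519), (21004, 22005), (21005, 19146), (21006, 19147), (21007, 22596), (21008, 22597), (21009, 22601), (21010, 19148), (21011, 19152), (21012, 22535), (21013, 19153), (21014, 22537), (21015, 22609), (21016, 22603), (21017, 22605), (21018, 22612), (21019, 19154), (21020, 22614), (21021, 22316), (21022, 22617), (21023, 19158), (21024, 22613), (21025, 22012), (21026, 21026), (21027, 22622), (21028, 19163), (21029, 21029), (21030, 21030), (21031, 22625), (21032, 19166), (21033, 22627), (21034, 19199), (21035, 22629), (21036, 19170), (21037, 22626), (21038, 21038), (21039, 21039), (21040, 22635), (21041, 19175), (21042, 21042), (21043, 22637), (21044, 19179), (21045, 19185), (21046, 19181), (21047, 22640), (21048, 22641),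 (21049, 19183), (21050, 22638), (21051, 22619), (21052, 22563), (21053, 21053), (21054, 21959), (21055, 22648)]
    ⟨e3 q20992 L726462 q19137, e3 q20993 L726479 q19826, e3 q20994 L726483 q19138, e3 q20995 (flp_d L743545) q22581, e3 q20996 (flp_d L743569) q22583, e3 q20997 L743626 q22589, e3 q20998 (flp_d L726513) q19139, e3 q20999 (flp_d L739304) q22196, e3 q21000 (flp_d L739591) q22219, e3 q21001 L743656 q22593, e3 q21002 (flp_d L726547) q19142, e3 q21003 (flp_d L742837) q22519, e3 q21004 (flp_d L736760) q22005, e3 q21005 L726571 q19146, e3 q21006 L726578 q19147, e3 q21007 (flp_d L743680) q22596, e3 q21008 (flp_d L743689) q22597, e3 q21009 L743724 q22601, e3 q21010 (flp_d L726614) q19148, e3 q21011 L726628 q19152, e3 q21012 (flp_d L743030) q22535, e3 q21013 L726640 q19153, e3 q21014 (flp_d L743048) q22537, e3 q21015 L743785 q22609, e3 q21016 (flp_d L743746) q22603, e3 q21017 (flp_d L743760) q22605, e3 q21018 L743811 q22612, e3 q21019 (flp_d L726683) q19154, e3 q21020 (flp_d L743829) q22614, e3 q21021 (flp_d L740628) q22316,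 e3 q21022 L743851 q22617, e3 q21023 (flp_d L726715) q19158, e3 q21024 (flp_d L743819) q22613, e3 q21025 (flp_d L736833) q22012, e3 q21026 L726740 q21026, e3 q21027 L743879 q22622, e3 q21028 (flp_d L726756) q19163, e3 q21029 L726773 q21029, e3 q21030 L726783 q21030, e3 q21031 L743906 q22625, e3 q21032 (flp_d L726795) q19166, e3 q21033 (flp_d L743937) q22627, e3 q21034 L726816 q19199, e3 q21035 L743946 q22629, e3 q21036 (flp_d L726828) q19170, e3 q21037 (flp_d L743921) q22626, e3 q21038 L726853 q21038, e3 q21039 L726868 q21039, e3 q21040 L744005 q22635, e3 q21041 (flp_d L726879) q19175, e3 q21042 L726890 q21042, e3 q21043 L744020 q22637, e3 q21044 (flp_d L726903) q19179, e3 q21045 L726915 q19185, e3 q21046 L726930 q19181, e3 q21047 (flp_d L744045) q22640, e3 q21048 L744050 q22641, e3 q21049 (flp_d L726948) q19183, e3 q21050 (flp_d L744034) q22638, e3 q21051 (flp_d L743863) q22619, e3 q21052 (flp_d L743336) q22563, e3 q21053 L726980 q21053, e3 q21054 (flp_d L736170) q21959, e3 q21055 L744115 q22648, trivial⟩ (by decide +kernel)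

theorem ce_d_329 : ∀ r, r < 64 → sm gd (Qf (21056 + r)) = Qf (tab Gen.d (21056 + r)) :=
  edges_tab (sm gd) Qf (tab Gen.d) 21056 [(21056, 19191), (21057, 19924), (21058, 19195), (21059, 22560), (21060, 21802), (21061, 22651), (21062, 19200), (21063, 21063), (21064, 22338), (21065, 21065), (21066, 19203), (21067, 21067), (21068, 22340), (21069, 21069), (21070, 22662), (21071, 21071), (21072, 21072), (21073, 19213), (21074, 19214), (21075, 19255), (21076, 22565), (21077, 22564), (21078, 19862), (21079, 19861), (21080, 22664), (21081, 19225), (21082, 19228), (21083, 19227), (21084, 22668), (21085, 22669), (21086, 22496), (21087, 22671), (21088, 22504), (21089, 22553), (21090, 22674), (21091, 19245), (21092, 22017), (21093, 19246), (21094, 19251), (21095, 19254), (21096, 19807), (21097, 19258), (21098, 21098), (21099, 19798), (21100, 19776), (21101, 19262), (21102, 22683), (21103, 22684), (21104, 19271), (21105, 19383), (21106, 19289), (21107, 22686), (21108, 19365), (21109, 19317), (21110, 19391), (21111, 22689), (21112, 19612),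 (21113, 22690), (21114, 19311), (21115, 19468), (21116, 19303), (21117, 21803), (21118, 21724), (21119, 22693)]
    ⟨e3 q21056 (flp_d L727009) q19191, e3 q21057 L727020 q19924, e3 q21058 (flp_d L727022) q19195, e3 q21059 (flp_d L743289) q22560, e3 q21060 (flp_d L734034) q21802, e3 q21061 L744141 q22651, e3 q21062 (flp_d L727065) q19200, e3 q21063 L727078 q21063, e3 q21064 (flp_d L740826) q22338, e3 q21065 L727086 q21065, e3 q21066 (flp_d L727093) q19203, e3 q21067 L727107 q21067, e3 q21068 (flp_d L740847) q22340, e3 q21069 L727117 q21069, e3 q21070 L744240 q22662, e3 q21071 L727132 q21071, e3 q21072 L727148 q21072, e3 q21073 L727155 q19213, e3 q21074 (flp_d L727163) q19214, e3 q21075 L727184 q19255, e3 q21076 (flp_d L743363) q22565, e3 q21077 (flp_d L743344) q22564, e3 q21078 L727213 q19862, e3 q21079 L727223 q19861, e3 q21080 L744257 q22664, e3 q21081 (flp_d L727232) q19225, e3 q21082 L727254 q19228, e3 q21083 L727266 q19227, e3 q21084 (flp_d L744311) q22668, e3 q21085 L744316 q22669, e3 q21086 (flp_d L742598) q22496, e3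 q21087 L744345 q22671, e3 q21088 (flp_d L742683) q22504, e3 q21089 (flp_d L743222) q22553, e3 q21090 L744384 q22674, e3 q21091 L727364 q19245, e3 q21092 (flp_d L736903) q22017, e3 q21093 (flp_d L727387) q19246, e3 q21094 L727399 q19251, e3 q21095 L727411 q19254, e3 q21096 L727429 q19807, e3 q21097 (flp_d L727431) q19258, e3 q21098 L727453 q21098, e3 q21099 L727464 q19798, e3 q21100 L727476 q19776, e3 q21101 L727484 q19262, e3 q21102 L744486 q22683, e3 q21103 L744499 q22684, e3 q21104 (flp_d L727515) q19271, e3 q21105 L727530 q19383, e3 q21106 L727548 q19289, e3 q21107 L744526 q22686, e3 q21108 L727568 q19365, e3 q21109 L727586 q19317, e3 q21110 L727596 q19391, e3 q21111 L744566 q22689, e3 q21112 L727620 q19612, e3 q21113 L744574 q22690, e3 q21114 L727644 q19311, e3 q21115 L727652 q19468, e3 q21116 L727666 q19303, e3 q21117 (flp_d L734044) q21803, e3 q21118 (flp_d L732878) q21724, e3 q21119 L744608 q22693, trivial⟩ (by decide +kernel)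

theorem ce_d_330 : ∀ r, r < 64 → sm gd (Qf (21120 + r)) = Qf (tab Gen.d (21120 + r)) :=
  edges_tab (sm gd) Qf (tab Gen.d) 21120 [(21120, 19739), (21121, 19740), (21122, 19660), (21123, 19301), (21124, 19302), (21125, 19785), (21126, 22696), (21127, 22700), (21128, 19492), (21129, 22702), (21130, 19306), (21131, 21732), (21132, 21132), (21133, 22705), (21134, 21134), (21135, 22707), (21136, 19314), (21137, 21743), (21138, 19318), (21139, 22708), (21140, 19320), (21141, 19686), (21142, 19469), (21143, 22682), (21144, 21144), (21145, 19332), (21146, 19433), (21147, 19370), (21148, 19441), (21149, 22713), (21150, 22714), (21151, 21965), (21152, 19351), (21153, 21967), (21154, 22718), (21155, 22719), (21156, 19341), (21157, 19342), (21158, 19354), (21159, 22723), (21160, 19345), (21161, 22003), (21162, 19347), (21163, 22041), (21164, 19352), (21165, 22028), (21166, 22039), (21167, 19355), (21168, 19964), (21169, 19965), (21170, 19596), (21171, 19503), (21172, 22728), (21173, 19368), (21174, 22729), (21175, 22731), (21176, 22732),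 (21177, 22733), (21178, 19374), (21179, 19407), (21180, 19891), (21181, 19408), (21182, 21713), (21183, 21714)]
    ⟨e3 q21120 L727708 q19739, e3 q21121 L727722 q19740, e3 q21122 L727738 q19660, e3 q21123 L727748 q19301, e3 q21124 L727763 q19302, e3 q21125 L727775 q19785, e3 q21126 (flp_d L744652) q22696, e3 q21127 L744699 q22700, e3 q21128 L727803 q19492, e3 q21129 L744711 q22702, e3 q21130 (flp_d L727821) q19306, e3 q21131 (flp_d L733002) q21732, e3 q21132 L727847 q21132, e3 q21133 L744739 q22705, e3 q21134 L727870 q21134, e3 q21135 L744760 q22707, e3 q21136 (flp_d L727885) q19314, e3 q21137 (flp_d L733170) q21743, e3 q21138 (flp_d L727904) q19318, e3 q21139 L744769 q22708, e3 q21140 (flp_d L727915) q19320, e3 q21141 L727932 q19686, e3 q21142 L727945 q19469, e3 q21143 (flp_d L744481) q22682, e3 q21144 L727965 q21144, e3 q21145 L727976 q19332, e3 q21146 L727994 q19433, e3 q21147 L728004 q19370, e3 q21148 L728022 q19441, e3 q21149 L744830 q22713, e3 q21150 L744842 q22714, e3 q21151 (flp_d L736250) q21965, e3 q21152 L728072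 q19351, e3 q21153 (flp_d L736276) q21967, e3 q21154 L744892 q22718, e3 q21155 L744900 q22719, e3 q21156 (flp_d L728106) q19341, e3 q21157 (flp_d L728116) q19342, e3 q21158 L728134 q19354, e3 q21159 L744937 q22723, e3 q21160 (flp_d L728152) q19345, e3 q21161 (flp_d L736730) q22003, e3 q21162 (flp_d L728177) q19347, e3 q21163 (flp_d L737187) q22041, e3 q21164 (flp_d L728198) q19352, e3 q21165 (flp_d L737026) q22028, e3 q21166 (flp_d L737168) q22039, e3 q21167 (flp_d L728226) q19355, e3 q21168 L728246 q19964, e3 q21169 L728254 q19965, e3 q21170 L728263 q19596, e3 q21171 L728281 q19503, e3 q21172 L744987 q22728, e3 q21173 (flp_d L728295) q19368, e3 q21174 (flp_d L745001) q22729, e3 q21175 L745014 q22731, e3 q21176 L745025 q22732, e3 q21177 L745033 q22733, e3 q21178 (flp_d L728339) q19374, e3 q21179 L728352 q19407, e3 q21180 L728371 q19891, e3 q21181 L728379 q19408, e3 q21182 (flp_d L732688) q21713, e3 q21183 (flp_d L732706) q21714, trivial⟩ (by decide +kernel)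

theorem ce_d_331 : ∀ r, r < 64 → sm gd (Qf (21184 + r)) = Qf (tab Gen.d (21184 + r)) :=
  edges_tab (sm gd) Qf (tab Gen.d) 21184 [(21184, 19909), (21185, 22503), (21186, 19410), (21187, 19380), (21188, 22742), (21189, 22743), (21190, 22746), (21191, 19626), (21192, 22748), (21193, 19385), (21194, 22749), (21195, 22751), (21196, 19388), (21197, 19389), (21198, 22752), (21199, 22755), (21200, 19390), (21201, 22757), (21202, 19392), (21203, 22759), (21204, 21204), (21205, 22761), (21206, 19396), (21207, 19767), (21208, 19399), (21209, 22764), (21210, 19401), (21211, 22449), (21212, 21801), (21213, 22735), (21214, 22767), (21215, 22768), (21216, 19412), (21217, 22770), (21218, 19413), (21219, 22023), (21220, 19417), (21221, 22773), (21222, 19418), (21223, 22775), (21224, 19420), (21225, 22776), (21226, 22019), (21227, 19423), (21228, 21228), (21229, 21229), (21230, 21230), (21231, 21231), (21232, 22466), (21233, 21233), (21234, 19430), (21235, 22784), (21236, 22786), (21237, 22787), (21238, 22788), (21239, 21239), (21240, 19839),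 (21241, 21878), (21242, 22792), (21243, 21243), (21244, 19438), (21245, 22796), (21246, 22798), (21247, 22799)]
    ⟨e3 q21184 L728406 q19909, e3 q21185 (flp_d L742675) q22503, e3 q21186 L728418 q19410, e3 q21187 (flp_d L728424) q19380, e3 q21188 (flp_d L745132) q22742, e3 q21189 (flp_d L745143) q22743, e3 q21190 L745173 q22746, e3 q21191 L728474 q19626, e3 q21192 L745199 q22748, e3 q21193 (flp_d L728490) q19385, e3 q21194 (flp_d L745211) q22749, e3 q21195 L745225 q22751, e3 q21196 L728520 q19388, e3 q21197 L728531 q19389, e3 q21198 (flp_d L745241) q22752, e3 q21199 L745268 q22755, e3 q21200 (flp_d L728555) q19390, e3 q21201 L745280 q22757, e3 q21202 (flp_d L728575) q19392, e3 q21203 L745296 q22759, e3 q21204 L728594 q21204, e3 q21205 L745317 q22761, e3 q21206 (flp_d L728612) q19396, e3 q21207 L728633 q19767, e3 q21208 (flp_d L728637) q19399, e3 q21209 L745350 q22764, e3 q21210 (flp_d L728653) q19401, e3 q21211 (flp_d L742074) q22449, e3 q21212 (flp_d L734016) q21801, e3 q21213 (flp_d L745063) q22735, e3 q21214 L745382 q22767,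 e3 q21215 L745394 q22768, e3 q21216 L728727 q19412, e3 q21217 L745414 q22770, e3 q21218 (flp_d L728748) q19413, e3 q21219 (flp_d L736961) q22023, e3 q21220 L728775 q19417, e3 q21221 L745442 q22773, e3 q21222 (flp_d L728791) q19418, e3 q21223 L745457 q22775, e3 q21224 (flp_d L728809) q19420, e3 q21225 (flp_d L745473) q22776, e3 q21226 (flp_d L736918) q22019, e3 q21227 (flp_d L728836) q19423, e3 q21228 L728854 q21228, e3 q21229 L728864 q21229, e3 q21230 L728871 q21230, e3 q21231 L728877 q21231, e3 q21232 (flp_d L742281) q22466, e3 q21233 L728904 q21233, e3 q21234 (flp_d L728909) q19430, e3 q21235 (flp_d L745558) q22784, e3 q21236 L745577 q22786, e3 q21237 L745586 q22787, e3 q21238 L745598 q22788, e3 q21239 L728962 q21239, e3 q21240 L728970 q19839, e3 q21241 (flp_d L735090) q21878, e3 q21242 L745632 q22792, e3 q21243 L729003 q21243, e3 q21244 (flp_d L729008) q19438, e3 q21245 (flp_d L745680) q22796, e3 q21246 L745699 q22798, e3 q21247 L745708 q22799, trivial⟩ (by decide +kernel)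

theorem ce_d_332 : ∀ r, r < 64 → sm gd (Qf (21248 + r)) = Qf (tab Gen.d (21248 + r)) :=
  edges_tab (sm gd) Qf (tab Gen.d) 21248 [(21248, 19442), (21249, 22526), (21250, 22800), (21251, 22803), (21252, 19445), (21253, 19485), (21254, 19446), (21255, 22804), (21256, 22808), (21257, 19447), (21258, 19818), (21259, 22811), (21260, 19450), (21261, 22813), (21262, 19452), (21263, 19932), (21264, 22013), (21265, 19455), (21266, 22408), (21267, 21857), (21268, 21858), (21269, 21805), (21270, 21806), (21271, 22817), (21272, 22274), (21273, 22819), (21274, 22432), (21275, 22433), (21276, 22822), (21277, 19473), (21278, 22795), (21279, 19474), (21280, 22824), (21281, 22828), (21282, 19475), (21283, 22830), (21284, 19477), (21285, 22497), (21286, 22498), (21287, 22009), (21288, 19481), (21289, 22567), (21290, 19482), (21291, 22582), (21292, 22834), (21293, 22839), (21294, 19483), (21295, 19487), (21296, 22463), (21297, 19488), (21298, 22805), (21299, 22845), (21300, 22450), (21301, 22841), (21302, 22848), (21303, 19489), (21304, 22850),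 (21305, 22259), (21306, 22853), (21307, 19493), (21308, 22849), (21309, 21309), (21310, 21310), (21311, 22000)]
    ⟨e3 q21248 (flp_d L729049) q19442, e3 q21249 (flp_d L742922) q22526, e3 q21250 (flp_d L745724) q22800, e3 q21251 L745753 q22803, e3 q21252 L729092 q19445, e3 q21253 L729101 q19485, e3 q21254 L729105 q19446, e3 q21255 (flp_d L745766) q22804, e3 q21256 L745794 q22808, e3 q21257 (flp_d L729126) q19447, e3 q21258 L729139 q19818, e3 q21259 L745815 q22811, e3 q21260 (flp_d L729157) q19450, e3 q21261 L745831 q22813, e3 q21262 (flp_d L729176) q19452, e3 q21263 L729192 q19932, e3 q21264 (flp_d L736843) q22013, e3 q21265 (flp_d L729216) q19455, e3 q21266 (flp_d L741617) q22408, e3 q21267 (flp_d L734779) q21857, e3 q21268 (flp_d L734796) q21858, e3 q21269 (flp_d L734077) q21805, e3 q21270 (flp_d L734093) q21806, e3 q21271 L745874 q22817, e3 q21272 (flp_d L740196) q22274, e3 q21273 L745890 q22819, e3 q21274 (flp_d L741865) q22432, e3 q21275 (flp_d L741878) q22433, e3 q21276 L745918 q22822, e3 q21277 L729329 q19473, e3 q21278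 (flp_d L745674) q22795, e3 q21279 L729342 q19474, e3 q21280 (flp_d L745945) q22824, e3 q21281 L745976 q22828, e3 q21282 (flp_d L729366) q19475, e3 q21283 L745986 q22830, e3 q21284 (flp_d L729386) q19477, e3 q21285 (flp_d L742613) q22497, e3 q21286 (flp_d L742626) q22498, e3 q21287 (flp_d L736798) q22009, e3 q21288 L729426 q19481, e3 q21289 (flp_d L743383) q22567, e3 q21290 L729439 q19482, e3 q21291 (flp_d L743565) q22582, e3 q21292 (flp_d L746028) q22834, e3 q21293 L746069 q22839, e3 q21294 (flp_d L729475) q19483, e3 q21295 L729489 q19487, e3 q21296 (flp_d L742244) q22463, e3 q21297 L729501 q19488, e3 q21298 (flp_d L745776) q22805, e3 q21299 L746108 q22845, e3 q21300 (flp_d L742084) q22450, e3 q21301 (flp_d L746085) q22841, e3 q21302 L746128 q22848, e3 q21303 (flp_d L729536) q19489, e3 q21304 (flp_d L746138) q22850, e3 q21305 (flp_d L740027) q22259, e3 q21306 L746154 q22853, e3 q21307 (flp_d L729558) q19493, e3 q21308 (flp_d L746134) q22849, e3 q21309 L729574 q21309, e3 q21310 L729587 q21310, e3 q21311 (flp_d L736680) q22000,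 trivial⟩ (by decide +kernel)

theorem ce_d_333 : ∀ r, r < 64 → sm gd (Qf (21312 + r)) = Qf (tab Gen.d (21312 + r)) :=
  edges_tab (sm gd) Qf (tab Gen.d) 21312 [(21312, 21312), (21313, 22859), (21314, 19499), (21315, 22860), (21316, 19501), (21317, 22552), (21318, 21318), (21319, 22863), (21320, 21320), (21321, 22865), (21322, 19509), (21323, 21323), (21324, 22867), (21325, 19513), (21326, 22558), (21327, 21865), (21328, 19518), (21329, 21329), (21330, 21955), (21331, 22870), (21332, 19524), (21333, 19527), (21334, 19528), (21335, 21335), (21336, 22874), (21337, 19531), (21338, 22875), (21339, 21339), (21340, 22878), (21341, 19536), (21342, 22879), (21343, 22880), (21344, 19539), (21345, 19541), (21346, 22882), (21347, 21347), (21348, 19548), (21349, 19549), (21350, 21350), (21351, 19551), (21352, 19552), (21353, 22886), (21354, 21354), (21355, 19555), (21356, 21704), (21357, 19559), (21358, 21705), (21359, 19561), (21360, 19562), (21361, 19563), (21362, 19565), (21363, 21709), (21364, 22063), (21365, 19749), (21366, 19627),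 (21367, 19724), (21368, 19634), (21369, 22376), (21370, 22891), (21371, 22892), (21372, 19586), (21373, 22287), (21374, 22894), (21375, 19589)]
    ⟨e3 q21312 L729608 q21312, e3 q21313 L746208 q22859, e3 q21314 (flp_d L729626) q19499, e3 q21315 L746218 q22860, e3 q21316 (flp_d L729647) q19501, e3 q21317 (flp_d L743212) q22552, e3 q21318 L729670 q21318, e3 q21319 L746247 q22863, e3 q21320 L729697 q21320, e3 q21321 L746272 q22865, e3 q21322 (flp_d L729710) q19509, e3 q21323 L729721 q21323, e3 q21324 L746287 q22867, e3 q21325 (flp_d L729734) q19513, e3 q21326 (flp_d L743280) q22558, e3 q21327 (flp_d L734894) q21865, e3 q21328 (flp_d L729751) q19518, e3 q21329 L729771 q21329, e3 q21330 (flp_d L736121) q21955, e3 q21331 L746312 q22870, e3 q21332 (flp_d L729798) q19524, e3 q21333 (flp_d L729803) q19527, e3 q21334 (flp_d L729811) q19528, e3 q21335 L729824 q21335, e3 q21336 L746341 q22874, e3 q21337 (flp_d L729833) q19531, e3 q21338 (flp_d L746353) q22875, e3 q21339 L729848 q21339, e3 q21340 L746369 q22878, e3 q21341 (flp_d L729855)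 q19536, e3 q21342 (flp_d L746381) q22879, e3 q21343 L746383 q22880, e3 q21344 (flp_d L729871) q19539, e3 q21345 L729879 q19541, e3 q21346 (flp_d L746395) q22882, e3 q21347 L729888 q21347, e3 q21348 (flp_d L729892) q19548, e3 q21349 (flp_d L729902) q19549, e3 q21350 L729922 q21350, e3 q21351 (flp_d L729923) q19551, e3 q21352 (flp_d L729932) q19552, e3 q21353 (flp_d L746428) q22886, e3 q21354 L729949 q21354, e3 q21355 (flp_d L729953) q19555, e3 q21356 (flp_d L732534) q21704, e3 q21357 (flp_d L729970) q19559, e3 q21358 (flp_d L732556) q21705, e3 q21359 (flp_d L729986) q19561, e3 q21360 (flp_d L729996) q19562, e3 q21361 (flp_d L729999) q19563, e3 q21362 (flp_d L730007) q19565, e3 q21363 (flp_d L732623) q21709, e3 q21364 (flp_d L737566) q22063, e3 q21365 L730035 q19749, e3 q21366 L730053 q19627, e3 q21367 L730063 q19724, e3 q21368 L730081 q19634, e3 q21369 (flp_d L741244) q22376, e3 q21370 L746474 q22891, e3 q21371 L746484 q22892, e3 q21372 (flp_d L730107) q19586, e3 q21373 (flp_d L740327) q22287, e3 q21374 L746502 q22894, e3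 q21375 (flp_d L730137) q19589, trivial⟩ (by decide +kernel)

theorem ce_d_334 : ∀ r, r < 64 → sm gd (Qf (21376 + r)) = Qf (tab Gen.d (21376 + r)) :=
  edges_tab (sm gd) Qf (tab Gen.d) 21376 [(21376, 19590), (21377, 21377), (21378, 19594), (21379, 22898), (21380, 22900), (21381, 22901), (21382, 19598), (21383, 19599), (21384, 21739), (21385, 22903), (21386, 19604), (21387, 22897), (21388, 19605), (21389, 22905), (21390, 22909), (21391, 19606), (21392, 22911), (21393, 19608), (21394, 22913), (21395, 19610), (21396, 22914), (21397, 19614), (21398, 19617), (21399, 22210), (21400, 21400), (21401, 22918), (21402, 19620), (21403, 22919), (21404, 21404), (21405, 21405), (21406, 19624), (21407, 22922), (21408, 22924), (21409, 22925), (21410, 19628), (21411, 19629), (21412, 19786), (21413, 22171), (21414, 22927), (21415, 22928), (21416, 19636), (21417, 19637), (21418, 21728), (21419, 22018), (21420, 19951), (21421, 22392), (21422, 22934), (21423, 19672), (21424, 19648), (21425, 22937), (21426, 19649), (21427, 19650), (21428, 19651),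 (21429, 21734), (21430, 21738), (21431, 21896), (21432, 22943), (21433, 19864), (21434, 22945), (21435, 21869), (21436, 22947), (21437, 22948), (21438, 19664), (21439, 19665)]
    ⟨e3 q21376 (flp_d L730146) q19590, e3 q21377 L730164 q21377, e3 q21378 (flp_d L730165) q19594, e3 q21379 (flp_d L746537) q22898, e3 q21380 L746548 q22900, e3 q21381 L746557 q22901, e3 q21382 (flp_d L730188) q19598, e3 q21383 (flp_d L730197) q19599, e3 q21384 (flp_d L733109) q21739, e3 q21385 L746572 q22903, e3 q21386 L730221 q19604, e3 q21387 (flp_d L746533) q22897, e3 q21388 L730236 q19605, e3 q21389 (flp_d L746593) q22905, e3 q21390 L746620 q22909, e3 q21391 (flp_d L730254) q19606, e3 q21392 L746628 q22911, e3 q21393 (flp_d L730270) q19608, e3 q21394 L746642 q22913, e3 q21395 (flp_d L730282) q19610, e3 q21396 (flp_d L746652) q22914, e3 q21397 (flp_d L730295) q19614, e3 q21398 L730303 q19617, e3 q21399 (flp_d L739489) q22210, e3 q21400 L730315 q21400, e3 q21401 L746675 q22918, e3 q21402 (flp_d L730324) q19620, e3 q21403 (flp_d L746683) q22919,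 e3 q21404 L730337 q21404, e3 q21405 L730343 q21405, e3 q21406 (flp_d L730345) q19624, e3 q21407 (flp_d L746704) q22922, e3 q21408 L746721 q22924, e3 q21409 L746730 q22925, e3 q21410 (flp_d L730380) q19628, e3 q21411 (flp_d L730389) q19629, e3 q21412 L730400 q19786, e3 q21413 (flp_d L738979) q22171, e3 q21414 L746744 q22927, e3 q21415 L746752 q22928, e3 q21416 (flp_d L730428) q19636, e3 q21417 (flp_d L730436) q19637, e3 q21418 (flp_d L732936) q21728, e3 q21419 (flp_d L736914) q22018, e3 q21420 L730459 q19951, e3 q21421 (flp_d L741438) q22392, e3 q21422 L746789 q22934, e3 q21423 L730479 q19672, e3 q21424 L730483 q19648, e3 q21425 L746806 q22937, e3 q21426 (flp_d L730494) q19649, e3 q21427 (flp_d L730501) q19650, e3 q21428 (flp_d L730505) q19651, e3 q21429 L733033 q21734, e3 q21430 L733093 q21738, e3 q21431 (flp_d L735355) q21896, e3 q21432 L746841 q22943, e3 q21433 L730544 q19864, e3 q21434 L746855 q22945, e3 q21435 (flp_d L734949) q21869, e3 q21436 L746869 q22947, e3 q21437 L746879 q22948, e3 q21438 (flp_d L730578) q19664,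 e3 q21439 (flp_d L730586) q19665, trivial⟩ (by decide +kernel)

theorem ce_d_335 : ∀ r, r < 64 → sm gd (Qf (21440 + r)) = Qf (tab Gen.d (21440 + r)) :=
  edges_tab (sm gd) Qf (tab Gen.d) 21440 [(21440, 22401), (21441, 22952), (21442, 19670), (21443, 21864), (21444, 22955), (21445, 19671), (21446, 22935), (21447, 22958), (21448, 21890), (21449, 22960), (21450, 19676), (21451, 22962), (21452, 19896), (21453, 22965), (21454, 19680), (21455, 22961), (21456, 19682), (21457, 19684), (21458, 22260), (21459, 21746), (21460, 21767), (21461, 21748), (21462, 19689), (21463, 22331), (21464, 22204), (21465, 19703), (21466, 19704), (21467, 21906), (21468, 19706), (21469, 22973), (21470, 19708), (21471, 22974), (21472, 22976), (21473, 19711), (21474, 19713), (21475, 22658), (21476, 19956), (21477, 19957), (21478, 22131), (21479, 22170), (21480, 19787), (21481, 22981), (21482, 19726), (21483, 22983), (21484, 21856), (21485, 19819), (21486, 22985), (21487, 22986), (21488, 19734), (21489, 21862), (21490, 22416), (21491, 22439), (21492, 22097),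 (21493, 22694), (21494, 22992), (21495, 22437), (21496, 22438), (21497, 22417), (21498, 19745), (21499, 19746), (21500, 22995), (21501, 22998), (21502, 22098), (21503, 23000)]
    ⟨e3 q21440 (flp_d L741549) q22401, e3 q21441 L746901 q22952, e3 q21442 L730608 q19670, e3 q21443 (flp_d L734876) q21864, e3 q21444 L746923 q22955, e3 q21445 (flp_d L730626) q19671, e3 q21446 (flp_d L746800) q22935, e3 q21447 L746941 q22958, e3 q21448 (flp_d L735264) q21890, e3 q21449 L746953 q22960, e3 q21450 (flp_d L730662) q19676, e3 q21451 (flp_d L746963) q22962, e3 q21452 L730670 q19896, e3 q21453 L746977 q22965, e3 q21454 (flp_d L730682) q19680, e3 q21455 (flp_d L746959) q22961, e3 q21456 (flp_d L730692) q19682, e3 q21457 (flp_d L730700) q19684, e3 q21458 (flp_d L740045) q22260, e3 q21459 (flp_d L733226) q21746, e3 q21460 (flp_d L733545) q21767, e3 q21461 (flp_d L733262) q21748, e3 q21462 (flp_d L730736) q19689, e3 q21463 (flp_d L740763) q22331, e3 q21464 (flp_d L739416) q22204, e3 q21465 (flp_d L730752) q19703, e3 q21466 (flp_d L730761) q19704,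 e3 q21467 (flp_d L735495) q21906, e3 q21468 (flp_d L730775) q19706, e3 q21469 L747024 q22973, e3 q21470 (flp_d L730788) q19708, e3 q21471 (flp_d L747037) q22974, e3 q21472 L747046 q22976, e3 q21473 (flp_d L730808) q19711, e3 q21474 L730817 q19713, e3 q21475 (flp_d L744206) q22658, e3 q21476 L730828 q19956, e3 q21477 L730833 q19957, e3 q21478 (flp_d L738479) q22131, e3 q21479 (flp_d L738961) q22170, e3 q21480 L730858 q19787, e3 q21481 L747077 q22981, e3 q21482 (flp_d L730868) q19726, e3 q21483 L747091 q22983, e3 q21484 (flp_d L734759) q21856, e3 q21485 L730889 q19819, e3 q21486 L747105 q22985, e3 q21487 L747113 q22986, e3 q21488 (flp_d L730911) q19734, e3 q21489 (flp_d L734855) q21862, e3 q21490 (flp_d L741688) q22416, e3 q21491 (flp_d L741960) q22439, e3 q21492 (flp_d L738008) q22097, e3 q21493 (flp_d L744626) q22694, e3 q21494 L747156 q22992, e3 q21495 (flp_d L741924) q22437, e3 q21496 (flp_d L741939) q22438, e3 q21497 (flp_d L741708) q22417, e3 q21498 L730985 q19745, e3 q21499 L730992 q19746, e3 q21500 (flp_d L747184) q22995,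 e3 q21501 L747207 q22998, e3 q21502 (flp_d L738024) q22098, e3 q21503 L747221 q23000, trivial⟩ (by decide +kernel)

theorem ce_d_336 : ∀ r, r < 64 → sm gd (Qf (21504 + r)) = Qf (tab Gen.d (21504 + r)) :=
  edges_tab (sm gd) Qf (tab Gen.d) 21504 [(21504, 19750), (21505, 19752), (21506, 19753), (21507, 23002), (21508, 23005), (21509, 19757), (21510, 23007), (21511, 23008), (21512, 19758), (21513, 19759), (21514, 23009), (21515, 21515), (21516, 23013), (21517, 23014), (21518, 19765), (21519, 22188), (21520, 23015), (21521, 19769), (21522, 19770), (21523, 22431), (21524, 22391), (21525, 22667), (21526, 23018), (21527, 23019), (21528, 23020), (21529, 19782), (21530, 21986), (21531, 22520), (21532, 22698), (21533, 23024), (21534, 21980), (21535, 22525), (21536, 23026), (21537, 19792), (21538, 22524), (21539, 22002), (21540, 19796), (21541, 23030), (21542, 22680), (21543, 23032), (21544, 19800), (21545, 23033), (21546, 19966), (21547, 22677), (21548, 22678), (21549, 22734), (21550, 19937), (21551, 19809), (21552, 23037), (21553,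 23039), (21554, 22823), (21555, 19812), (21556, 23042), (21557, 19813), (21558, 19814), (21559, 21927), (21560, 22574), (21561, 22452), (21562, 21945), (21563, 23048), (21564, 22468), (21565, 19927), (21566, 19823), (21567, 23051)]
    ⟨e3 q21504 (flp_d L731034) q19750, e3 q21505 L731046 q19752, e3 q21506 L731057 q19753, e3 q21507 (flp_d L747241) q23002, e3 q21508 L747268 q23005, e3 q21509 L731081 q19757, e3 q21510 L747277 q23007, e3 q21511 L747281 q23008, e3 q21512 (flp_d L731098) q19758, e3 q21513 (flp_d L731100) q19759, e3 q21514 (flp_d L747287) q23009, e3 q21515 L731116 q21515, e3 q21516 L747307 q23013, e3 q21517 L747315 q23014, e3 q21518 (flp_d L731140) q19765, e3 q21519 (flp_d L739201) q22188, e3 q21520 L747322 q23015, e3 q21521 (flp_d L731163) q19769, e3 q21522 (flp_d L731170) q19770, e3 q21523 (flp_d L741855) q22431, e3 q21524 (flp_d L741430) q22391, e3 q21525 (flp_d L744303) q22667, e3 q21526 L747340 q23018, e3 q21527 L747348 q23019, e3 q21528 L747354 q23020, e3 q21529 (flp_d L731223) q19782, e3 q21530 (flp_d L736538)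 q21986, e3 q21531 (flp_d L742856) q22520, e3 q21532 (flp_d L744679) q22698, e3 q21533 L747385 q23024, e3 q21534 (flp_d L736454) q21980, e3 q21535 (flp_d L742910) q22525, e3 q21536 L747399 q23026, e3 q21537 (flp_d L731289) q19792, e3 q21538 (flp_d L742894) q22524, e3 q21539 (flp_d L736712) q22002, e3 q21540 L731315 q19796, e3 q21541 L747425 q23030, e3 q21542 (flp_d L744459) q22680, e3 q21543 L747437 q23032, e3 q21544 (flp_d L731337) q19800, e3 q21545 (flp_d L747447) q23033, e3 q21546 L731354 q19966, e3 q21547 (flp_d L744421) q22677, e3 q21548 (flp_d L744433) q22678, e3 q21549 (flp_d L745055) q22734, e3 q21550 L731384 q19937, e3 q21551 (flp_d L731390) q19809, e3 q21552 (flp_d L747475) q23037, e3 q21553 L747485 q23039, e3 q21554 (flp_d L745939) q22823, e3 q21555 L731418 q19812, e3 q21556 L747505 q23042, e3 q21557 (flp_d L731428) q19813, e3 q21558 (flp_d L731434) q19814, e3 q21559 (flp_d L735750) q21927, e3 q21560 (flp_d L743452) q22574, e3 q21561 (flp_d L742118) q22452, e3 q21562 (flp_d L735986) q21945, e3 q21563 L747539 q23048,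 e3 q21564 (flp_d L742298) q22468, e3 q21565 L731491 q19927, e3 q21566 L731497 q19823, e3 q21567 L747561 q23051, trivial⟩ (by decide +kernel)

theorem ce_d_337 : ∀ r, r < 64 → sm gd (Qf (21568 + r)) = Qf (tab Gen.d (21568 + r)) :=
  edges_tab (sm gd) Qf (tab Gen.d) 21568 [(21568, 19825), (21569, 22584), (21570, 21954), (21571, 22521), (21572, 19829), (21573, 19830), (21574, 23055), (21575, 23058), (21576, 19835), (21577, 19887), (21578, 19836), (21579, 19889), (21580, 23064), (21581, 22506), (21582, 23060), (21583, 23067), (21584, 19837), (21585, 21925), (21586, 23070), (21587, 19840), (21588, 23068), (21589, 19967), (21590, 23073), (21591, 19845), (21592, 23074), (21593, 19848), (21594, 21594), (21595, 23077), (21596, 19851), (21597, 21880), (21598, 21836), (21599, 23079), (21600, 19857), (21601, 22360), (21602, 23081), (21603, 21749), (21604, 23083), (21605, 19865), (21606, 19928), (21607, 23086), (21608, 23087), (21609, 23088), (21610, 19871), (21611, 23090), (21612, 21747), (21613, 23093), (21614, 19875), (21615, 23089),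 (21616, 22527), (21617, 23097), (21618, 19882), (21619, 19883), (21620, 23098), (21621, 23100), (21622, 19884), (21623, 23059), (21624, 19892), (21625, 23061), (21626, 23105), (21627, 23106), (21628, 19890), (21629, 22736), (21630, 23109), (21631, 19893)]
    ⟨e3 q21568 (flp_d L731513) q19825, e3 q21569 (flp_d L743582) q22584, e3 q21570 (flp_d L736106) q21954, e3 q21571 (flp_d L742864) q22521, e3 q21572 L731541 q19829, e3 q21573 L731548 q19830, e3 q21574 (flp_d L747591) q23055, e3 q21575 L747612 q23058, e3 q21576 L731570 q19835, e3 q21577 L731578 q19887, e3 q21578 L731582 q19836, e3 q21579 L731589 q19889, e3 q21580 L747650 q23064, e3 q21581 (flp_d L742712) q22506, e3 q21582 (flp_d L747627) q23060, e3 q21583 L747672 q23067, e3 q21584 (flp_d L731623) q19837, e3 q21585 (flp_d L735717) q21925, e3 q21586 L747692 q23070, e3 q21587 (flp_d L731641) q19840, e3 q21588 (flp_d L747682) q23068, e3 q21589 L731658 q19967, e3 q21590 L747708 q23073, e3 q21591 (flp_d L731675) q19845, e3 q21592 L747720 q23074, e3 q21593 (flp_d L731691) q19848,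 e3 q21594 L731704 q21594, e3 q21595 L747748 q23077, e3 q21596 (flp_d L731719) q19851, e3 q21597 (flp_d L735116) q21880, e3 q21598 (flp_d L734492) q21836, e3 q21599 L747762 q23079, e3 q21600 (flp_d L731751) q19857, e3 q21601 (flp_d L741051) q22360, e3 q21602 L747779 q23081, e3 q21603 (flp_d L733274) q21749, e3 q21604 L747790 q23083, e3 q21605 (flp_d L731785) q19865, e3 q21606 L731793 q19928, e3 q21607 L747808 q23086, e3 q21608 L747818 q23087, e3 q21609 L747828 q23088, e3 q21610 (flp_d L731827) q19871, e3 q21611 (flp_d L747848) q23090, e3 q21612 (flp_d L733238) q21747, e3 q21613 L747868 q23093, e3 q21614 (flp_d L731853) q19875, e3 q21615 (flp_d L747838) q23089, e3 q21616 (flp_d L742938) q22527, e3 q21617 L747890 q23097, e3 q21618 L731881 q19882, e3 q21619 L731889 q19883, e3 q21620 (flp_d L747898) q23098, e3 q21621 L747912 q23100, e3 q21622 (flp_d L731913) q19884, e3 q21623 (flp_d L747623) q23059, e3 q21624 L731925 q19892, e3 q21625 (flp_d L747634) q23061, e3 q21626 L747940 q23105, e3 q21627 L747946 q23106, e3 q21628 (flp_d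 L731949) q19890, e3 q21629 (flp_d L745076) q22736, e3 q21630 L747962 q23109, e3 q21631 (flp_d L731969) q19893, trivial⟩ (by decide +kernel)

theorem ce_d_338 : ∀ r, r < 64 → sm gd (Qf (21632 + r)) = Qf (tab Gen.d (21632 + r)) :=
  edges_tab (sm gd) Qf (tab Gen.d) 21632 [(21632, 19899), (21633, 19895), (21634, 23114), (21635, 23115), (21636, 19897), (21637, 23110), (21638, 23112), (21639, 19968), (21640, 21996), (21641, 23120), (21642, 19904), (21643, 19905), (21644, 19907), (21645, 23123), (21646, 21891), (21647, 22006), (21648, 23125), (21649, 19913), (21650, 22649), (21651, 23128), (21652, 19916), (21653, 23111), (21654, 19919), (21655, 23131), (21656, 19922), (21657, 19925), (21658, 19970), (21659, 19930), (21660, 22546), (21661, 22042), (21662, 19934), (21663, 23135), (21664, 23136), (21665, 19939), (21666, 23138), (21667, 19940), (21668, 21668), (21669, 23142), (21670, 19943), (21671, 23143), (21672, 22488), (21673, 21673), (21674, 22491), (21675, 22492), (21676, 19952), (21677, 19954), (21678, 22040), (21679, 22726),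 (21680, 23145), (21681, 19971), (21682, 21682), (21683, 23148), (21684, 23149), (21685, 19976), (21686, 19977), (21687, 19979), (21688, 19984), (21689, 19992), (21690, 19985), (21691, 21691), (21692, 19983), (21693, 21908), (21694, 19988), (21695, 21695)]
    ⟨e3 q21632 L731975 q19899, e3 q21633 L731979 q19895, e3 q21634 (flp_d L747986) q23114, e3 q21635 L747988 q23115, e3 q21636 (flp_d L731993) q19897, e3 q21637 (flp_d L747970) q23110, e3 q21638 (flp_d L747978) q23112, e3 q21639 L732007 q19968, e3 q21640 (flp_d L736631) q21996, e3 q21641 L748010 q23120, e3 q21642 (flp_d L732030) q19904, e3 q21643 (flp_d L732041) q19905, e3 q21644 L732058 q19907, e3 q21645 (flp_d L748039) q23123, e3 q21646 (flp_d L735283) q21891, e3 q21647 (flp_d L736768) q22006, e3 q21648 L748052 q23125, e3 q21649 (flp_d L732089) q19913, e3 q21650 (flp_d L744128) q22649, e3 q21651 L748074 q23128, e3 q21652 (flp_d L732113) q19916, e3 q21653 (flp_d L747974) q23111, e3 q21654 L732127 q19919, e3 q21655 L748096 q23131, e3 q21656 (flp_d L732140) q19922, e3 q21657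 (flp_d L732148) q19925, e3 q21658 L732161 q19970, e3 q21659 (flp_d L732166) q19930, e3 q21660 (flp_d L743140) q22546, e3 q21661 (flp_d L737198) q22042, e3 q21662 L732205 q19934, e3 q21663 L748134 q23135, e3 q21664 L748140 q23136, e3 q21665 L732236 q19939, e3 q21666 L748156 q23138, e3 q21667 (flp_d L732248) q19940, e3 q21668 L732259 q21668, e3 q21669 L748180 q23142, e3 q21670 (flp_d L732266) q19943, e3 q21671 (flp_d L748188) q23143, e3 q21672 (flp_d L742493) q22488, e3 q21673 L732282 q21673, e3 q21674 (flp_d L742531) q22491, e3 q21675 (flp_d L742546) q22492, e3 q21676 (flp_d L732294) q19952, e3 q21677 (flp_d L732301) q19954, e3 q21678 (flp_d L737174) q22040, e3 q21679 (flp_d L744968) q22726, e3 q21680 L748195 q23145, e3 q21681 (flp_d L732342) q19971, e3 q21682 L732353 q21682, e3 q21683 L748221 q23148, e3 q21684 L748228 q23149, e3 q21685 (flp_d L732368) q19976, e3 q21686 (flp_d L732374) q19977, e3 q21687 (flp_d L732380) q19979, e3 q21688 L732393 q19984, e3 q21689 L732398 q19992, e3 q21690 L732402 q19985, e3 q21691 L732418 q21691,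 e3 q21692 L732423 q19983, e3 q21693 (flp_d L735526) q21908, e3 q21694 (flp_d L732433) q19988, e3 q21695 L732447 q21695, trivial⟩ (by decide +kernel)

theorem ce_d_339 : ∀ r, r < 64 → sm gd (Qf (21696 + r)) = Qf (tab Gen.d (21696 + r)) :=
  edges_tab (sm gd) Qf (tab Gen.d) 21696 [(21696, 23146), (21697, 23151), (21698, 23153), (21699, 19996), (21700, 19997), (21701, 21701), (21702, 20373), (21703, 23158), (21704, 21356), (21705, 21358), (21706, 20016), (21707, 21707), (21708, 20020), (21709, 21363), (21710, 20022), (21711, 20440), (21712, 20423), (21713, 21182), (21714, 21183), (21715, 20075), (21716, 21716), (21717, 23164), (21718, 20031), (21719, 20134), (21720, 20135), (21721, 20084), (21722, 20288), (21723, 20289), (21724, 21118), (21725, 20143), (21726, 23170), (21727, 20055), (21728, 21418), (21729, 20059), (21730, 21730), (21731, 21731), (21732, 21131), (21733, 21733), (21734, 21429), (21735, 23176), (21736, 20049), (21737, 20534), (21738, 21430), (21739, 21384), (21740, 20056), (21741, 21741), (21742, 20194), (21743,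 21137), (21744, 20064), (21745, 23181), (21746, 21459), (21747, 21612), (21748, 21461), (21749, 21603), (21750, 23184), (21751, 21751), (21752, 23186), (21753, 20079), (21754, 23187), (21755, 20081), (21756, 23188), (21757, 23189), (21758, 20311), (21759, 20312)]
    ⟨e3 q21696 (flp_d L748210) q23146, e3 q21697 (flp_d L748244) q23151, e3 q21698 (flp_d L748257) q23153, e3 q21699 (flp_d L732463) q19996, e3 q21700 (flp_d L732470) q19997, e3 q21701 L732481 q21701, e3 q21702 L732497 q20373, e3 q21703 L748291 q23158, e3 q21704 L732534 q21356, e3 q21705 L732556 q21358, e3 q21706 (flp_d L732558) q20016, e3 q21707 L732589 q21707, e3 q21708 (flp_d L732590) q20020, e3 q21709 L732623 q21363, e3 q21710 (flp_d L732627) q20022, e3 q21711 L732661 q20440, e3 q21712 L732665 q20423, e3 q21713 L732688 q21182, e3 q21714 L732706 q21183, e3 q21715 L732728 q20075, e3 q21716 L732740 q21716, e3 q21717 L748400 q23164, e3 q21718 (flp_d L732763) q20031, e3 q21719 L732786 q20134, e3 q21720 L732804 q20135, e3 q21721 L732826 q20084, e3 q21722 L732838 q20288,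 e3 q21723 L732856 q20289, e3 q21724 L732878 q21118, e3 q21725 L732888 q20143, e3 q21726 L748497 q23170, e3 q21727 L732914 q20055, e3 q21728 L732936 q21418, e3 q21729 L732948 q20059, e3 q21730 L732966 q21730, e3 q21731 L732983 q21731, e3 q21732 L733002 q21131, e3 q21733 L733012 q21733, e3 q21734 (flp_d L733033) q21429, e3 q21735 L748598 q23176, e3 q21736 (flp_d L733045) q20049, e3 q21737 L733073 q20534, e3 q21738 (flp_d L733093) q21430, e3 q21739 L733109 q21384, e3 q21740 (flp_d L733111) q20056, e3 q21741 L733137 q21741, e3 q21742 L733146 q20194, e3 q21743 L733170 q21137, e3 q21744 (flp_d L733174) q20064, e3 q21745 L748677 q23181, e3 q21746 L733226 q21459, e3 q21747 L733238 q21612, e3 q21748 L733262 q21461, e3 q21749 L733274 q21603, e3 q21750 L748729 q23184, e3 q21751 L733306 q21751, e3 q21752 L748757 q23186, e3 q21753 (flp_d L733327) q20079, e3 q21754 L748772 q23187, e3 q21755 (flp_d L733356) q20081, e3 q21756 L748789 q23188, e3 q21757 L748801 q23189, e3 q21758 L733413 q20311, e3 q21759 L733431 q20312, trivial⟩ (by decide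 +kernel)

theorem ce_d_340 : ∀ r, r < 64 → sm gd (Qf (21760 + r)) = Qf (tab Gen.d (21760 + r)) :=
  edges_tab (sm gd) Qf (tab Gen.d) 21760 [(21760, 23192), (21761, 20089), (21762, 20100), (21763, 23195), (21764, 20092), (21765, 20708), (21766, 20552), (21767, 21460), (21768, 20097), (21769, 20616), (21770, 20101), (21771, 20741), (21772, 20349), (21773, 20631), (21774, 20114), (21775, 20107), (21776, 21776), (21777, 23207), (21778, 21778), (21779, 20118), (21780, 20119), (21781, 20251), (21782, 20207), (21783, 20112), (21784, 23215), (21785, 21785), (21786, 23202), (21787, 23203), (21788, 20259), (21789, 20116), (21790, 23222), (21791, 23224), (21792, 23211), (21793, 23226), (21794, 23227), (21795, 21795), (21796, 21796), (21797, 23230), (21798, 20125), (21799, 23232), (21800, 20127), (21801, 21212), (21802, 21060), (21803, 21117), (21804, 20290), (21805, 21269), (21806, 21270), (21807, 23237), (21808, 20655), (21809, 23165), (21810, 23240), (21811, 20137), (21812, 23242), (21813, 23244), (21814, 20140), (21815, 23221), (21816,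 20141), (21817, 23246), (21818, 23250), (21819, 20142), (21820, 23252), (21821, 20144), (21822, 21822), (21823, 23255)]
    ⟨e3 q21760 L748853 q23192, e3 q21761 (flp_d L733453) q20089, e3 q21762 L733469 q20100, e3 q21763 L748887 q23195, e3 q21764 (flp_d L733489) q20092, e3 q21765 L733513 q20708, e3 q21766 L733529 q20552, e3 q21767 L733545 q21460, e3 q21768 (flp_d L733547) q20097, e3 q21769 L733565 q20616, e3 q21770 (flp_d L733579) q20101, e3 q21771 L733605 q20741, e3 q21772 L733616 q20349, e3 q21773 L733620 q20631, e3 q21774 L733647 q20114, e3 q21775 L733657 q20107, e3 q21776 L733666 q21776, e3 q21777 L749072 q23207, e3 q21778 L733696 q21778, e3 q21779 L733708 q20118, e3 q21780 L733721 q20119, e3 q21781 L733736 q20251, e3 q21782 L733754 q20207, e3 q21783 L733766 q20112, e3 q21784 L749191 q23215, e3 q21785 L733797 q21785, e3 q21786 (flp_d L748998) q23202, e3 q21787 (flp_d L749015) q23203, e3 q21788 L733838 q20259, e3 q21789 (flp_d L733842) q20116, e3 q21790 (flp_d L749307) q23222, e3 q21791 L749330 q23224, e3 q21792 (flp_d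 L749137) q23211, e3 q21793 L749361 q23226, e3 q21794 L749373 q23227, e3 q21795 L733930 q21795, e3 q21796 L733944 q21796, e3 q21797 L749415 q23230, e3 q21798 (flp_d L733964) q20125, e3 q21799 L749444 q23232, e3 q21800 (flp_d L733991) q20127, e3 q21801 L734016 q21212, e3 q21802 L734034 q21060, e3 q21803 L734044 q21117, e3 q21804 L734067 q20290, e3 q21805 L734077 q21269, e3 q21806 L734093 q21270, e3 q21807 L749518 q23237, e3 q21808 L734121 q20655, e3 q21809 (flp_d L748425) q23165, e3 q21810 L749562 q23240, e3 q21811 (flp_d L734151) q20137, e3 q21812 (flp_d L749598) q23242, e3 q21813 L749626 q23244, e3 q21814 L734207 q20140, e3 q21815 (flp_d L749299) q23221, e3 q21816 L734232 q20141, e3 q21817 (flp_d L749669) q23246, e3 q21818 L749718 q23250, e3 q21819 (flp_d L734264) q20142, e3 q21820 L749734 q23252, e3 q21821 (flp_d L734288) q20144, e3 q21822 L734306 q21822, e3 q21823 L749766 q23255, trivial⟩ (by decide +kernel)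

theorem ce_d_341 : ∀ r, r < 64 → sm gd (Qf (21824 + r)) = Qf (tab Gen.d (21824 + r)) :=
  edges_tab (sm gd) Qf (tab Gen.d) 21824 [(21824, 20147), (21825, 20161), (21826, 23258), (21827, 20150), (21828, 20151), (21829, 23260), (21830, 20153), (21831, 23262), (21832, 20155), (21833, 23261), (21834, 20160), (21835, 20159), (21836, 21598), (21837, 23267), (21838, 20162), (21839, 21839), (21840, 21840), (21841, 23179), (21842, 21842), (21843, 20167), (21844, 21844), (21845, 20169), (21846, 23275), (21847, 20170), (21848, 21848), (21849, 23278), (21850, 20173), (21851, 23279), (21852, 21852), (21853, 21853), (21854, 20782), (21855, 20181), (21856, 21484), (21857, 21267), (21858, 21268), (21859, 21859), (21860, 20493), (21861, 20187), (21862, 21489), (21863, 21863), (21864, 21443), (21865, 21327), (21866, 20191), (21867, 23293), (21868, 23295), (21869, 21435), (21870, 23297), (21871, 23298), (21872, 20198), (21873, 23299), (21874, 20200), (21875, 20203), (21876, 20211), (21877, 20212), (21878, 21241), (21879, 23213), (21880, 21597),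 (21881, 20209), (21882, 23304), (21883, 23306), (21884, 23301), (21885, 23308), (21886, 20215), (21887, 23309)]
    ⟨e3 q21824 (flp_d L734326) q20147, e3 q21825 L734345 q20161, e3 q21826 L749802 q23258, e3 q21827 (flp_d L734362) q20150, e3 q21828 (flp_d L734375) q20151, e3 q21829 L749827 q23260, e3 q21830 (flp_d L734407) q20153, e3 q21831 (flp_d L749868) q23262, e3 q21832 (flp_d L734430) q20155, e3 q21833 (flp_d L749851) q23261, e3 q21834 L734464 q20160, e3 q21835 L734480 q20159, e3 q21836 L734492 q21598, e3 q21837 L749920 q23267, e3 q21838 (flp_d L734516) q20162, e3 q21839 L734539 q21839, e3 q21840 L734549 q21840, e3 q21841 (flp_d L748655) q23179, e3 q21842 L734563 q21842, e3 q21843 (flp_d L734575) q20167, e3 q21844 L734603 q21844, e3 q21845 L734612 q20169, e3 q21846 L750024 q23275, e3 q21847 (flp_d L734635) q20170, e3 q21848 L734656 q21848, e3 q21849 L750066 q23278, e3 q21850 (flp_d L734673) q20173, e3 q21851 (flp_d L750090) q23279, e3 q21852 L734706 q21852, e3 q21853 L734715 q21853, e3 q21854 L734731 q20782, e3 q21855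 L734743 q20181, e3 q21856 L734759 q21484, e3 q21857 L734779 q21267, e3 q21858 L734796 q21268, e3 q21859 L734813 q21859, e3 q21860 L734826 q20493, e3 q21861 L734834 q20187, e3 q21862 L734855 q21489, e3 q21863 L734865 q21863, e3 q21864 L734876 q21443, e3 q21865 L734894 q21327, e3 q21866 (flp_d L734896) q20191, e3 q21867 (flp_d L750295) q23293, e3 q21868 L750320 q23295, e3 q21869 L734949 q21435, e3 q21870 L750353 q23297, e3 q21871 L750363 q23298, e3 q21872 (flp_d L734984) q20198, e3 q21873 L750379 q23299, e3 q21874 (flp_d L735015) q20200, e3 q21875 (flp_d L735033) q20203, e3 q21876 L735056 q20211, e3 q21877 L735073 q20212, e3 q21878 L735090 q21241, e3 q21879 (flp_d L749164) q23213, e3 q21880 L735116 q21597, e3 q21881 (flp_d L735120) q20209, e3 q21882 (flp_d L750467) q23304, e3 q21883 L750494 q23306, e3 q21884 (flp_d L750422) q23301, e3 q21885 L750529 q23308, e3 q21886 (flp_d L735195) q20215, e3 q21887 L750539 q23309, trivial⟩ (by decide +kernel)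

theorem ce_d_342 : ∀ r, r < 64 → sm gd (Qf (21888 + r)) = Qf (tab Gen.d (21888 + r)) :=
  edges_tab (sm gd) Qf (tab Gen.d) 21888 [(21888, 20217), (21889, 20695), (21890, 21448), (21891, 21646), (21892, 23312), (21893, 23313), (21894, 20225), (21895, 20517), (21896, 21431), (21897, 23317), (21898, 20228), (21899, 20237), (21900, 23320), (21901, 20232), (21902, 23322), (21903, 20235), (21904, 23323), (21905, 20238), (21906, 21467), (21907, 20240), (21908, 21693), (21909, 21909), (21910, 23327), (21911, 21911), (21912, 20257), (21913, 20258), (21914, 23204), (21915, 21915), (21916, 23245), (21917, 21917), (21918, 20247), (21919, 23241), (21920, 23338), (21921, 23341), (21922, 20267), (21923, 23343), (21924, 20951), (21925, 21585), (21926, 23214), (21927, 21559), (21928, 21928), (21929, 20255), (21930, 23349), (21931, 23351), (21932, 23331), (21933, 23332), (21934, 23354), (21935, 20260), (21936, 23355), (21937, 23357), (21938, 20263), (21939, 20305), (21940, 20264), (21941, 23358), (21942, 23362), (21943, 20265), (21944, 20931),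 (21945, 21562), (21946, 23366), (21947, 20268), (21948, 23368), (21949, 20270), (21950, 21950), (21951, 23371)]
    ⟨e3 q21888 (flp_d L735228) q20217, e3 q21889 L735251 q20695, e3 q21890 L735264 q21448, e3 q21891 L735283 q21646, e3 q21892 L750583 q23312, e3 q21893 L750595 q23313, e3 q21894 (flp_d L735313) q20225, e3 q21895 L735337 q20517, e3 q21896 L735355 q21431, e3 q21897 L750659 q23317, e3 q21898 (flp_d L735375) q20228, e3 q21899 L735391 q20237, e3 q21900 L750693 q23320, e3 q21901 (flp_d L735413) q20232, e3 q21902 L750721 q23322, e3 q21903 (flp_d L735440) q20235, e3 q21904 L750738 q23323, e3 q21905 (flp_d L735473) q20238, e3 q21906 L735495 q21467, e3 q21907 (flp_d L735499) q20240, e3 q21908 L735526 q21693, e3 q21909 L735532 q21909, e3 q21910 L750800 q23327, e3 q21911 L735562 q21911, e3 q21912 L735574 q20257, e3 q21913 L735585 q20258, e3 q21914 (flp_d L749036) q23204, e3 q21915 L735608 q21915, e3 q21916 (flp_d L749659) q23245, e3 q21917 L735634 q21917, e3 q21918 (flp_d L735638) q20247, e3 q21919 (flp_d L749588) q23241,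 e3 q21920 (flp_d L750960) q23338, e3 q21921 L750988 q23341, e3 q21922 L735685 q20267, e3 q21923 L751009 q23343, e3 q21924 L735706 q20951, e3 q21925 L735717 q21585, e3 q21926 (flp_d L749187) q23214, e3 q21927 L735750 q21559, e3 q21928 L735760 q21928, e3 q21929 (flp_d L735765) q20255, e3 q21930 (flp_d L751095) q23349, e3 q21931 L751116 q23351, e3 q21932 (flp_d L750867) q23331, e3 q21933 (flp_d L750882) q23332, e3 q21934 L751157 q23354, e3 q21935 (flp_d L735840) q20260, e3 q21936 (flp_d L751173) q23355, e3 q21937 L751198 q23357, e3 q21938 L735891 q20263, e3 q21939 L735916 q20305, e3 q21940 L735920 q20264, e3 q21941 (flp_d L751219) q23358, e3 q21942 L751269 q23362, e3 q21943 (flp_d L735951) q20265, e3 q21944 L735968 q20931, e3 q21945 L735986 q21562, e3 q21946 L751316 q23366, e3 q21947 (flp_d L736004) q20268, e3 q21948 L751330 q23368, e3 q21949 (flp_d L736027) q20270, e3 q21950 L736045 q21950, e3 q21951 L751375 q23371, trivial⟩ (by decide +kernel)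

theorem ce_d_343 : ∀ r, r < 64 → sm gd (Qf (21952 + r)) = Qf (tab Gen.d (21952 + r)) :=
  edges_tab (sm gd) Qf (tab Gen.d) 21952 [(21952, 20273), (21953, 20274), (21954, 21570), (21955, 21330), (21956, 21956), (21957, 23375), (21958, 20280), (21959, 21054), (21960, 23378), (21961, 20285), (21962, 20601), (21963, 23167), (21964, 23382), (21965, 21151), (21966, 20353), (21967, 21153), (21968, 23386), (21969, 23387), (21970, 20295), (21971, 20593), (21972, 20602), (21973, 23391), (21974, 20298), (21975, 20299), (21976, 23393), (21977, 23395), (21978, 20980), (21979, 20303), (21980, 21534), (21981, 23399), (21982, 20304), (21983, 23359), (21984, 23402), (21985, 20865), (21986, 21530), (21987, 23405), (21988, 20309), (21989, 23407), (21990, 23190), (21991, 23410), (21992, 20313), (21993, 23406), (21994, 23414), (21995, 20316), (21996, 21640), (21997, 20342), (21998, 23418), (21999, 20320), (22000, 21311), (22001, 20322), (22002, 21539), (22003, 21161), (22004, 20903), (22005, 21004), (22006, 21647), (22007, 23425), (22008, 20331),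 (22009, 21287), (22010, 23412), (22011, 20972), (22012, 21025), (22013, 21264), (22014, 20339), (22015, 23429)]
    ⟨e3 q21952 (flp_d L736065) q20273, e3 q21953 (flp_d L736077) q20274, e3 q21954 L736106 q21570, e3 q21955 L736121 q21330, e3 q21956 L736131 q21956, e3 q21957 L751431 q23375, e3 q21958 (flp_d L736152) q20280, e3 q21959 L736170 q21054, e3 q21960 L751468 q23378, e3 q21961 (flp_d L736189) q20285, e3 q21962 L736212 q20601, e3 q21963 (flp_d L748459) q23167, e3 q21964 L751525 q23382, e3 q21965 L736250 q21151, e3 q21966 L736262 q20353, e3 q21967 L736276 q21153, e3 q21968 L751579 q23386, e3 q21969 L751589 q23387, e3 q21970 (flp_d L736306) q20295, e3 q21971 L736324 q20593, e3 q21972 L736340 q20602, e3 q21973 L751635 q23391, e3 q21974 (flp_d L736360) q20298, e3 q21975 (flp_d L736366) q20299, e3 q21976 (flp_d L751659) q23393, e3 q21977 L751685 q23395, e3 q21978 L736428 q20980, e3 q21979 L736436 q20303, e3 q21980 L736454 q21534, e3 q21981 L751751 q23399, e3 q21982 (flp_d L736474) q20304, e3 q21983 (flp_d L751237) q23359,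 e3 q21984 L751781 q23402, e3 q21985 L736520 q20865, e3 q21986 L736538 q21530, e3 q21987 L751827 q23405, e3 q21988 (flp_d L736558) q20309, e3 q21989 (flp_d L751849) q23407, e3 q21990 (flp_d L748827) q23190, e3 q21991 L751869 q23410, e3 q21992 (flp_d L736588) q20313, e3 q21993 (flp_d L751843) q23406, e3 q21994 L751893 q23414, e3 q21995 (flp_d L736613) q20316, e3 q21996 L736631 q21640, e3 q21997 L736641 q20342, e3 q21998 L751952 q23418, e3 q21999 (flp_d L736659) q20320, e3 q22000 L736680 q21311, e3 q22001 (flp_d L736682) q20322, e3 q22002 L736712 q21539, e3 q22003 L736730 q21161, e3 q22004 L736740 q20903, e3 q22005 L736760 q21004, e3 q22006 L736768 q21647, e3 q22007 L752056 q23425, e3 q22008 (flp_d L736780) q20331, e3 q22009 L736798 q21287, e3 q22010 (flp_d L751885) q23412, e3 q22011 L736808 q20972, e3 q22012 L736833 q21025, e3 q22013 L736843 q21264, e3 q22014 (flp_d L736853) q20339, e3 q22015 L752098 q23429, trivial⟩ (by decide +kernel)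

theorem ce_d_344 : ∀ r, r < 64 → sm gd (Qf (22016 + r)) = Qf (tab Gen.d (22016 + r)) :=
  edges_tab (sm gd) Qf (tab Gen.d) 22016 [(22016, 20343), (22017, 21092), (22018, 21419), (22019, 21226), (22020, 20346), (22021, 20358), (22022, 23199), (22023, 21219), (22024, 23437), (22025, 20367), (22026, 23433), (22027, 20354), (22028, 21165), (22029, 20357), (22030, 23441), (22031, 22031), (22032, 23443), (22033, 20361), (22034, 23444), (22035, 23446), (22036, 20364), (22037, 20366), (22038, 23448), (22039, 21166), (22040, 21678), (22041, 21163), (22042, 21661), (22043, 20404), (22044, 20409), (22045, 23451), (22046, 23452), (22047, 20414), (22048, 20384), (22049, 20385), (22050, 23453), (22051, 20390), (22052, 23455), (22053, 20392), (22054, 20395), (22055, 20418), (22056, 20397), (22057, 20416), (22058, 23454), (22059, 20406), (22060, 20508), (22061, 23456), (22062, 23457), (22063, 21364), (22064, 20412), (22065, 20413), (22066, 23160), (22067, 20419), (22068, 20420), (22069, 23463), (22070, 23462), (22071, 22071), (22072, 22072),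 (22073, 20429), (22074, 20430), (22075, 20431), (22076, 20432), (22077, 23460), (22078, 20434), (22079, 23461)]
    ⟨e3 q22016 (flp_d L736880) q20343, e3 q22017 L736903 q21092, e3 q22018 L736914 q21419, e3 q22019 L736918 q21226, e3 q22020 (flp_d L736930) q20346, e3 q22021 L736950 q20358, e3 q22022 (flp_d L748960) q23199, e3 q22023 L736961 q21219, e3 q22024 L752203 q23437, e3 q22025 L736991 q20367, e3 q22026 (flp_d L752166) q23433, e3 q22027 (flp_d L737010) q20354, e3 q22028 L737026 q21165, e3 q22029 L737036 q20357, e3 q22030 L752248 q23441, e3 q22031 L737069 q22031, e3 q22032 L752279 q23443, e3 q22033 (flp_d L737088) q20361, e3 q22034 (flp_d L752304) q23444, e3 q22035 L752319 q23446, e3 q22036 (flp_d L737122) q20364, e3 q22037 L737147 q20366, e3 q22038 (flp_d L752352) q23448, e3 q22039 L737168 q21166, e3 q22040 L737174 q21678, e3 q22041 L737187 q21163, e3 q22042 L737198 q21661, e3 q22043 L737221 q20404, e3 q22044 L737241 q20409, e3 q22045 L752384 q23451, e3 q22046 L752403 q23452, e3 q22047 L737297 q20414, e3 q22048 (flp_d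 L737301) q20384, e3 q22049 (flp_d L737319) q20385, e3 q22050 L752422 q23453, e3 q22051 (flp_d L737355) q20390, e3 q22052 L752460 q23455, e3 q22053 (flp_d L737384) q20392, e3 q22054 (flp_d L737393) q20395, e3 q22055 L737425 q20418, e3 q22056 (flp_d L737427) q20397, e3 q22057 L737459 q20416, e3 q22058 (flp_d L752456) q23454, e3 q22059 (flp_d L737481) q20406, e3 q22060 L737510 q20508, e3 q22061 (flp_d L752494) q23456, e3 q22062 L752498 q23457, e3 q22063 L737566 q21364, e3 q22064 (flp_d L737570) q20412, e3 q22065 (flp_d L737581) q20413, e3 q22066 (flp_d L748332) q23160, e3 q22067 (flp_d L737608) q20419, e3 q22068 (flp_d L737620) q20420, e3 q22069 (flp_d L752629) q23463, e3 q22070 (flp_d L752610) q23462, e3 q22071 L737670 q22071, e3 q22072 L737686 q22072, e3 q22073 (flp_d L737689) q20429, e3 q22074 (flp_d L737700) q20430, e3 q22075 (flp_d L737711) q20431, e3 q22076 (flp_d L737728) q20432, e3 q22077 (flp_d L752571) q23460, e3 q22078 (flp_d L737749) q20434, e3 q22079 (flp_d L752591) q23461, trivial⟩ (by decide +kernel)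

theorem ce_d_345 : ∀ r, r < 64 → sm gd (Qf (22080 + r)) = Qf (tab Gen.d (22080 + r)) :=
  edges_tab (sm gd) Qf (tab Gen.d) 22080 [(22080, 20436), (22081, 20437), (22082, 20441), (22083, 23465), (22084, 20443), (22085, 20448), (22086, 20445), (22087, 23458), (22088, 20754), (22089, 20453), (22090, 20758), (22091, 20559), (22092, 20560), (22093, 20833), (22094, 20459), (22095, 23287), (22096, 22096), (22097, 21492), (22098, 21502), (22099, 20578), (22100, 20580), (22101, 23475), (22102, 22102), (22103, 23477), (22104, 20468), (22105, 20469), (22106, 20764), (22107, 20471), (22108, 20766), (22109, 20597), (22110, 20800), (22111, 23482), (22112, 20768), (22113, 23484), (22114, 20480), (22115, 23485), (22116, 20482), (22117, 20486), (22118, 20488), (22119, 23488), (22120, 22120), (22121, 20498), (22122, 20499), (22123, 20644), (22124, 23288), (22125, 20651), (22126, 20867), (22127, 22127), (22128, 20496), (22129, 23497), (22130, 23499), (22131, 21478), (22132, 23492), (22133, 23502), (22134, 23503), (22135, 20503), (22136, 22136),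 (22137, 23506), (22138, 20506), (22139, 20507), (22140, 20563), (22141, 23508), (22142, 20511), (22143, 20617)]
    ⟨e3 q22080 (flp_d L737771) q20436, e3 q22081 (flp_d L737784) q20437, e3 q22082 (flp_d L737793) q20441, e3 q22083 (flp_d L752667) q23465, e3 q22084 (flp_d L737822) q20443, e3 q22085 L737840 q20448, e3 q22086 L737847 q20445, e3 q22087 (flp_d L752532) q23458, e3 q22088 L737873 q20754, e3 q22089 L737883 q20453, e3 q22090 L737899 q20758, e3 q22091 L737917 q20559, e3 q22092 L737933 q20560, e3 q22093 L737949 q20833, e3 q22094 L737961 q20459, e3 q22095 (flp_d L750207) q23287, e3 q22096 L737993 q22096, e3 q22097 L738008 q21492, e3 q22098 L738024 q21502, e3 q22099 L738040 q20578, e3 q22100 L738056 q20580, e3 q22101 L752819 q23475, e3 q22102 L738084 q22102, e3 q22103 L752852 q23477, e3 q22104 (flp_d L738107) q20468, e3 q22105 (flp_d L738122) q20469, e3 q22106 L738151 q20764, e3 q22107 L738163 q20471, e3 q22108 L738177 q20766, e3 q22109 L738195 q20597, e3 q22110 L738203 q20800, e3 q22111 L752931 q23482, e3 q22112 L738233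 q20768, e3 q22113 L752963 q23484, e3 q22114 (flp_d L738251) q20480, e3 q22115 L752973 q23485, e3 q22116 (flp_d L738281) q20482, e3 q22117 (flp_d L738297) q20486, e3 q22118 (flp_d L738312) q20488, e3 q22119 L753023 q23488, e3 q22120 L738343 q22120, e3 q22121 L738353 q20498, e3 q22122 L738366 q20499, e3 q22123 L738381 q20644, e3 q22124 (flp_d L750222) q23288, e3 q22125 L738405 q20651, e3 q22126 (flp_d L738425) q20867, e3 q22127 L738433 q22127, e3 q22128 (flp_d L738440) q20496, e3 q22129 (flp_d L753151) q23497, e3 q22130 L753170 q23499, e3 q22131 L738479 q21478, e3 q22132 (flp_d L753084) q23492, e3 q22133 L753207 q23502, e3 q22134 L753215 q23503, e3 q22135 (flp_d L738515) q20503, e3 q22136 L738532 q22136, e3 q22137 L753265 q23506, e3 q22138 (flp_d L738545) q20506, e3 q22139 (flp_d L738554) q20507, e3 q22140 L738580 q20563, e3 q22141 L753289 q23508, e3 q22142 (flp_d L738600) q20511, e3 q22143 L738626 q20617, trivial⟩ (by decide +kernel)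

theorem ce_d_346 : ∀ r, r < 64 → sm gd (Qf (22144 + r)) = Qf (tab Gen.d (22144 + r)) :=
  edges_tab (sm gd) Qf (tab Gen.d) 22144 [(22144, 20796), (22145, 20679), (22146, 23510), (22147, 23315), (22148, 23512), (22149, 20520), (22150, 23514), (22151, 20521), (22152, 20808), (22153, 23517), (22154, 20524), (22155, 20525), (22156, 20608), (22157, 23520), (22158, 20528), (22159, 20606), (22160, 23172), (22161, 20536), (22162, 20539), (22163, 20627), (22164, 20825), (22165, 20543), (22166, 23526), (22167, 20545), (22168, 23527), (22169, 20623), (22170, 21479), (22171, 21413), (22172, 20837), (22173, 23467), (22174, 23531), (22175, 22175), (22176, 20556), (22177, 23534), (22178, 23536), (22179, 23537), (22180, 23504), (22181, 20562), (22182, 20571), (22183, 20566), (22184, 23540), (22185, 22185), (22186, 20576), (22187, 20577), (22188, 21519), (22189, 20983), (22190, 22190), (22191, 23538), (22192, 23470), (22193, 23379), (22194, 22194), (22195, 20574), (22196, 20999), (22197, 23551), (22198, 23554), (22199, 23544), (22200, 23556),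 (22201, 23507), (22202, 23557), (22203, 20626), (22204, 21464), (22205, 20584), (22206, 23560), (22207, 20586)]
    ⟨e3 q22144 L738636 q20796, e3 q22145 L738658 q20679, e3 q22146 L753322 q23510, e3 q22147 (flp_d L750633) q23315, e3 q22148 L753342 q23512, e3 q22149 L738698 q20520, e3 q22150 L753374 q23514, e3 q22151 (flp_d L738716) q20521, e3 q22152 L738732 q20808, e3 q22153 L753400 q23517, e3 q22154 (flp_d L738748) q20524, e3 q22155 (flp_d L738756) q20525, e3 q22156 L738786 q20608, e3 q22157 L753428 q23520, e3 q22158 (flp_d L738800) q20528, e3 q22159 L738818 q20606, e3 q22160 (flp_d L748543) q23172, e3 q22161 (flp_d L738838) q20536, e3 q22162 (flp_d L738854) q20539, e3 q22163 L738880 q20627, e3 q22164 L738887 q20825, e3 q22165 (flp_d L738891) q20543, e3 q22166 L753513 q23526, e3 q22167 (flp_d L738920) q20545, e3 q22168 (flp_d L753540) q23527, e3 q22169 L738948 q20623, e3 q22170 L738961 q21479, e3 q22171 L738979 q21413, e3 q22172 L738989 q20837, e3 q22173 (flp_d L752701) q23467, e3 q22174 L753585 q23531, e3 q22175 L739031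 q22175, e3 q22176 (flp_d L739038) q20556, e3 q22177 (flp_d L753640) q23534, e3 q22178 L753661 q23536, e3 q22179 L753672 q23537, e3 q22180 (flp_d L753247) q23504, e3 q22181 (flp_d L739099) q20562, e3 q22182 L739122 q20571, e3 q22183 L739132 q20566, e3 q22184 L753713 q23540, e3 q22185 L739161 q22185, e3 q22186 L739173 q20576, e3 q22187 L739186 q20577, e3 q22188 L739201 q21519, e3 q22189 (flp_d L739221) q20983, e3 q22190 L739231 q22190, e3 q22191 (flp_d L753688) q23538, e3 q22192 (flp_d L752753) q23470, e3 q22193 (flp_d L751492) q23379, e3 q22194 L739278 q22194, e3 q22195 (flp_d L739285) q20574, e3 q22196 L739304 q20999, e3 q22197 (flp_d L753879) q23551, e3 q22198 L753918 q23554, e3 q22199 (flp_d L753782) q23544, e3 q22200 L753939 q23556, e3 q22201 (flp_d L753285) q23507, e3 q22202 L753947 q23557, e3 q22203 L739394 q20626, e3 q22204 L739416 q21464, e3 q22205 (flp_d L739420) q20584, e3 q22206 L753999 q23560, e3 q22207 (flp_d L739437) q20586, trivial⟩ (by decide +kernel)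

theorem ce_d_347 : ∀ r, r < 64 → sm gd (Qf (22208 + r)) = Qf (tab Gen.d (22208 + r)) :=
  edges_tab (sm gd) Qf (tab Gen.d) 22208 [(22208, 20587), (22209, 20726), (22210, 21399), (22211, 20868), (22212, 23479), (22213, 23389), (22214, 23521), (22215, 20874), (22216, 20875), (22217, 23566), (22218, 20622), (22219, 21000), (22220, 23569), (22221, 23380), (22222, 23571), (22223, 20603), (22224, 23573), (22225, 20605), (22226, 23519), (22227, 23198), (22228, 20610), (22229, 23577), (22230, 20612), (22231, 23579), (22232, 20614), (22233, 23578), (22234, 20673), (22235, 20676), (22236, 20621), (22237, 20620), (22238, 23200), (22239, 22239), (22240, 20902), (22241, 20629), (22242, 23430), (22243, 22243), (22244, 22244), (22245, 22245), (22246, 23588), (22247, 22247), (22248, 20649), (22249, 20650), (22250, 23289), (22251, 23208), (22252, 22252), (22253, 20640), (22254, 23205), (22255, 23597), (22256, 23600), (22257, 20659), (22258, 23602), (22259, 21305), (22260, 21458), (22261, 20647), (22262, 23605), (22263, 23607), (22264, 23592),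 (22265, 23609), (22266, 20652), (22267, 23610), (22268, 23612), (22269, 20693), (22270, 20656), (22271, 23238)]
    ⟨e3 q22208 (flp_d L739446) q20587, e3 q22209 L739472 q20726, e3 q22210 L739489 q21399, e3 q22211 L739495 q20868, e3 q22212 (flp_d L752901) q23479, e3 q22213 (flp_d L751615) q23389, e3 q22214 (flp_d L753456) q23521, e3 q22215 L739539 q20874, e3 q22216 L739555 q20875, e3 q22217 L754075 q23566, e3 q22218 L739579 q20622, e3 q22219 L739591 q21000, e3 q22220 L754107 q23569, e3 q22221 (flp_d L751509) q23380, e3 q22222 L754129 q23571, e3 q22223 (flp_d L739625) q20603, e3 q22224 L754143 q23573, e3 q22225 (flp_d L739643) q20605, e3 q22226 (flp_d L753422) q23519, e3 q22227 (flp_d L748931) q23198, e3 q22228 (flp_d L739677) q20610, e3 q22229 L754195 q23577, e3 q22230 (flp_d L739695) q20612, e3 q22231 (flp_d L754238) q23579, e3 q22232 (flp_d L739716) q20614, e3 q22233 (flp_d L754219) q23578, e3 q22234 L739750 q20673, e3 q22235 L739766 q20676, e3 q22236 L739781 q20621, e3 q22237 L739796 q20620, e3 q22238 (flp_d L748966) q23200,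 e3 q22239 L739827 q22239, e3 q22240 L739833 q20902, e3 q22241 (flp_d L739835) q20629, e3 q22242 (flp_d L752123) q23430, e3 q22243 L739864 q22243, e3 q22244 L739880 q22244, e3 q22245 L739887 q22245, e3 q22246 L754331 q23588, e3 q22247 L739909 q22247, e3 q22248 L739919 q20649, e3 q22249 L739930 q20650, e3 q22250 (flp_d L750241) q23289, e3 q22251 (flp_d L749097) q23208, e3 q22252 L739965 q22252, e3 q22253 (flp_d L739969) q20640, e3 q22254 (flp_d L749054) q23205, e3 q22255 (flp_d L754455) q23597, e3 q22256 L754479 q23600, e3 q22257 L740006 q20659, e3 q22258 L754498 q23602, e3 q22259 L740027 q21305, e3 q22260 L740045 q21458, e3 q22261 (flp_d L740049) q20647, e3 q22262 (flp_d L754543) q23605, e3 q22263 L754564 q23607, e3 q22264 (flp_d L754394) q23592, e3 q22265 L754587 q23609, e3 q22266 (flp_d L740102) q20652, e3 q22267 (flp_d L754601) q23610, e3 q22268 L754628 q23612, e3 q22269 L740154 q20693, e3 q22270 L740158 q20656, e3 q22271 (flp_d L749540) q23238, trivial⟩ (by decide +kernel)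

theorem ce_d_348 : ∀ r, r < 64 → sm gd (Qf (22272 + r)) = Qf (tab Gen.d (22272 + r)) :=
  edges_tab (sm gd) Qf (tab Gen.d) 22272 [(22272, 23616), (22273, 20657), (22274, 21272), (22275, 23619), (22276, 20660), (22277, 20661), (22278, 23621), (22279, 20663), (22280, 20664), (22281, 23623), (22282, 20666), (22283, 23575), (22284, 23625), (22285, 20669), (22286, 23576), (22287, 21373), (22288, 20674), (22289, 20984), (22290, 23629), (22291, 20681), (22292, 23604), (22293, 20682), (22294, 23631), (22295, 23635), (22296, 20683), (22297, 23637), (22298, 20685), (22299, 20686), (22300, 23639), (22301, 23196), (22302, 20689), (22303, 23489), (22304, 20690), (22305, 23641), (22306, 23645), (22307, 20691), (22308, 23218), (22309, 20696), (22310, 23613), (22311, 23650), (22312, 23310), (22313, 23652), (22314, 20697), (22315, 23654), (22316, 21021), (22317, 23657), (22318, 20701), (22319, 23653), (22320, 23661), (22321, 20704), (22322, 20706), (22323, 23663), (22324, 20710), (22325, 23664), (22326, 23666), (22327, 20713), (22328, 20719),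 (22329, 20715), (22330, 23669), (22331, 21463), (22332, 20717), (22333, 23667), (22334, 23659), (22335, 23559)]
    ⟨e3 q22272 L754669 q23616, e3 q22273 (flp_d L740183) q20657, e3 q22274 L740196 q21272, e3 q22275 L754694 q23619, e3 q22276 (flp_d L740212) q20660, e3 q22277 (flp_d L740218) q20661, e3 q22278 L754706 q23621, e3 q22279 (flp_d L740239) q20663, e3 q22280 (flp_d L740250) q20664, e3 q22281 L754734 q23623, e3 q22282 (flp_d L740275) q20666, e3 q22283 (flp_d L754173) q23575, e3 q22284 L754753 q23625, e3 q22285 (flp_d L740302) q20669, e3 q22286 (flp_d L754193) q23576, e3 q22287 L740327 q21373, e3 q22288 (flp_d L740331) q20674, e3 q22289 L740344 q20984, e3 q22290 L754782 q23629, e3 q22291 L740364 q20681, e3 q22292 (flp_d L754535) q23604, e3 q22293 L740389 q20682, e3 q22294 (flp_d L754813) q23631, e3 q22295 L754856 q23635, e3 q22296 (flp_d L740417) q20683, e3 q22297 L754870 q23637, e3 q22298 (flp_d L740437) q20685, e3 q22299 (flp_d L740443) q20686, e3 q22300 (flp_d L754894) q23639, e3 q22301 (flp_d L748917) q23196, e3 q22302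 L740495 q20689, e3 q22303 (flp_d L753048) q23489, e3 q22304 L740518 q20690, e3 q22305 (flp_d L754928) q23641, e3 q22306 L754975 q23645, e3 q22307 (flp_d L740552) q20691, e3 q22308 (flp_d L749248) q23218, e3 q22309 L740577 q20696, e3 q22310 (flp_d L754647) q23613, e3 q22311 L755019 q23650, e3 q22312 (flp_d L750562) q23310, e3 q22313 L755035 q23652, e3 q22314 (flp_d L740616) q20697, e3 q22315 (flp_d L755049) q23654, e3 q22316 L740628 q21021, e3 q22317 L755065 q23657, e3 q22318 (flp_d L740644) q20701, e3 q22319 (flp_d L755043) q23653, e3 q22320 L755091 q23661, e3 q22321 (flp_d L740666) q20704, e3 q22322 (flp_d L740675) q20706, e3 q22323 L755108 q23663, e3 q22324 (flp_d L740699) q20710, e3 q22325 (flp_d L755138) q23664, e3 q22326 L755152 q23666, e3 q22327 (flp_d L740734) q20713, e3 q22328 L740744 q20719, e3 q22329 L740751 q20715, e3 q22330 (flp_d L755175) q23669, e3 q22331 L740763 q21463, e3 q22332 (flp_d L740765) q20717, e3 q22333 (flp_d L755168) q23667, e3 q22334 (flp_d L755083) q23659, e3 q22335 (flp_d L753997) q23559, trivial⟩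 (by decide +kernel)

theorem ce_d_349 : ∀ r, r < 64 → sm gd (Qf (22336 + r)) = Qf (tab Gen.d (22336 + r)) :=
  edges_tab (sm gd) Qf (tab Gen.d) 22336 [(22336, 20721), (22337, 20722), (22338, 21064), (22339, 22339), (22340, 21068), (22341, 22341), (22342, 23675), (22343, 22343), (22344, 23677), (22345, 20737), (22346, 23678), (22347, 20740), (22348, 23680), (22349, 22349), (22350, 23682), (22351, 20744), (22352, 23683), (22353, 23684), (22354, 20747), (22355, 20750), (22356, 20749), (22357, 23688), (22358, 23466), (22359, 20838), (22360, 21601), (22361, 23691), (22362, 23692), (22363, 23693), (22364, 20762), (22365, 23478), (22366, 20869), (22367, 23695), (22368, 23696), (22369, 20769), (22370, 20770), (22371, 20771), (22372, 23486), (22373, 20784), (22374, 20785), (22375, 20918), (22376, 21369), (22377, 23702), (22378, 20787), (22379, 23704), (22380, 20835), (22381, 23282), (22382, 20933), (22383, 23699), (22384, 23708), (22385, 23709), (22386, 20788), (22387, 23711), (22388, 20790), (22389, 20791), (22390, 20830), (22391,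 21524), (22392, 21421), (22393, 23715), (22394, 23716), (22395, 23717), (22396, 20801), (22397, 23719), (22398, 23720), (22399, 23721)]
    ⟨e3 q22336 L740804 q20721, e3 q22337 (flp_d L740808) q20722, e3 q22338 L740826 q21064, e3 q22339 L740839 q22339, e3 q22340 L740847 q21068, e3 q22341 L740853 q22341, e3 q22342 L755224 q23675, e3 q22343 L740872 q22343, e3 q22344 L755245 q23677, e3 q22345 (flp_d L740887) q20737, e3 q22346 (flp_d L755261) q23678, e3 q22347 L740910 q20740, e3 q22348 L755276 q23680, e3 q22349 L740939 q22349, e3 q22350 L755303 q23682, e3 q22351 (flp_d L740956) q20744, e3 q22352 (flp_d L755327) q23683, e3 q22353 L755329 q23684, e3 q22354 (flp_d L740988) q20747, e3 q22355 L741005 q20750, e3 q22356 L741012 q20749, e3 q22357 (flp_d L755371) q23688, e3 q22358 (flp_d L752679) q23466, e3 q22359 L741039 q20838, e3 q22360 L741051 q21601, e3 q22361 L755403 q23691, e3 q22362 L755418 q23692, e3 q22363 L755430 q23693, e3 q22364 (flp_d L741100) q20762, e3 q22365 (flp_d L752877) q23478, e3 q22366 L741138 q20869, e3 q22367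 L755460 q23695, e3 q22368 L755470 q23696, e3 q22369 (flp_d L741166) q20769, e3 q22370 (flp_d L741176) q20770, e3 q22371 (flp_d L741191) q20771, e3 q22372 (flp_d L753002) q23486, e3 q22373 L741214 q20784, e3 q22374 L741223 q20785, e3 q22375 L741236 q20918, e3 q22376 L741244 q21369, e3 q22377 L755531 q23702, e3 q22378 L741263 q20787, e3 q22379 L755549 q23704, e3 q22380 L741284 q20835, e3 q22381 (flp_d L750123) q23282, e3 q22382 L741314 q20933, e3 q22383 (flp_d L755506) q23699, e3 q22384 L755602 q23708, e3 q22385 L755612 q23709, e3 q22386 (flp_d L741354) q20788, e3 q22387 L755632 q23711, e3 q22388 (flp_d L741376) q20790, e3 q22389 (flp_d L741390) q20791, e3 q22390 L741409 q20830, e3 q22391 L741430 q21524, e3 q22392 L741438 q21421, e3 q22393 L755681 q23715, e3 q22394 L755689 q23716, e3 q22395 L755705 q23717, e3 q22396 (flp_d L741479) q20801, e3 q22397 L755717 q23719, e3 q22398 L755735 q23720, e3 q22399 L755753 q23721, trivial⟩ (by decide +kernel)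

theorem ce_d_350 : ∀ r, r < 64 → sm gd (Qf (22400 + r)) = Qf (tab Gen.d (22400 + r)) :=
  edges_tab (sm gd) Qf (tab Gen.d) 22400 [(22400, 20806), (22401, 21440), (22402, 23724), (22403, 20809), (22404, 23722), (22405, 20811), (22406, 23729), (22407, 20815), (22408, 21266), (22409, 23726), (22410, 20818), (22411, 20820), (22412, 23487), (22413, 20822), (22414, 23523), (22415, 23734), (22416, 21490), (22417, 21497), (22418, 23736), (22419, 23469), (22420, 23539), (22421, 23705), (22422, 23739), (22423, 23740), (22424, 20840), (22425, 23742), (22426, 20841), (22427, 20842), (22428, 20843), (22429, 20854), (22430, 20855), (22431, 21523), (22432, 21274), (22433, 21275), (22434, 23749), (22435, 20857), (22436, 23751), (22437, 21495), (22438, 21496), (22439, 21491), (22440, 23630), (22441, 23745), (22442, 23756), (22443, 23757), (22444, 20858), (22445, 22445), (22446, 23760), (22447, 20861), (22448, 20862), (22449, 21211), (22450, 21300), (22451, 23403), (22452, 21561), (22453, 23495), (22454, 23767), (22455, 20871), (22456, 20872),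 (22457, 23589), (22458, 23768), (22459, 23772), (22460, 23564), (22461, 23774), (22462, 20876), (22463, 21296)]
    ⟨e3 q22400 (flp_d L741533) q20806, e3 q22401 L741549 q21440, e3 q22402 L755793 q23724, e3 q22403 (flp_d L741567) q20809, e3 q22404 (flp_d L755779) q23722, e3 q22405 (flp_d L741577) q20811, e3 q22406 L755827 q23729, e3 q22407 (flp_d L741597) q20815, e3 q22408 L741617 q21266, e3 q22409 (flp_d L755807) q23726, e3 q22410 (flp_d L741625) q20818, e3 q22411 (flp_d L741636) q20820, e3 q22412 (flp_d L753019) q23487, e3 q22413 (flp_d L741655) q20822, e3 q22414 (flp_d L753479) q23523, e3 q22415 L755881 q23734, e3 q22416 L741688 q21490, e3 q22417 L741708 q21497, e3 q22418 L755904 q23736, e3 q22419 (flp_d L752729) q23469, e3 q22420 (flp_d L753709) q23539, e3 q22421 (flp_d L755567) q23705, e3 q22422 L755938 q23739, e3 q22423 L755949 q23740, e3 q22424 L741775 q20840, e3 q22425 L755964 q23742, e3 q22426 (flp_d L741790) q20841, e3 q22427 (flp_d L741797) q20842, e3 q22428 (flp_d L741803) q20843, e3 q22429 L741821 q20854, e3 q22430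 L741834 q20855, e3 q22431 L741855 q21523, e3 q22432 L741865 q21274, e3 q22433 L741878 q21275, e3 q22434 L756035 q23749, e3 q22435 L741903 q20857, e3 q22436 L756057 q23751, e3 q22437 L741924 q21495, e3 q22438 L741939 q21496, e3 q22439 L741960 q21491, e3 q22440 (flp_d L754805) q23630, e3 q22441 (flp_d L755985) q23745, e3 q22442 L756122 q23756, e3 q22443 L756132 q23757, e3 q22444 (flp_d L742010) q20858, e3 q22445 L742026 q22445, e3 q22446 L756163 q23760, e3 q22447 (flp_d L742042) q20861, e3 q22448 (flp_d L742054) q20862, e3 q22449 L742074 q21211, e3 q22450 L742084 q21300, e3 q22451 (flp_d L751801) q23403, e3 q22452 L742118 q21561, e3 q22453 (flp_d L753123) q23495, e3 q22454 L756248 q23767, e3 q22455 L742147 q20871, e3 q22456 L742160 q20872, e3 q22457 (flp_d L754356) q23589, e3 q22458 (flp_d L756262) q23768, e3 q22459 L756309 q23772, e3 q22460 (flp_d L754053) q23564, e3 q22461 L756329 q23774, e3 q22462 (flp_d L742224) q20876, e3 q22463 L742244 q21296, trivial⟩ (by decide +kernel)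

theorem ce_d_351 : ∀ r, r < 64 → sm gd (Qf (22464 + r)) = Qf (tab Gen.d (22464 + r)) :=
  edges_tab (sm gd) Qf (tab Gen.d) 22464 [(22464, 20878), (22465, 23778), (22466, 21232), (22467, 20883), (22468, 21564), (22469, 23782), (22470, 23783), (22471, 20884), (22472, 20885), (22473, 23784), (22474, 22474), (22475, 23789), (22476, 20889), (22477, 23791), (22478, 20891), (22479, 23790), (22480, 20893), (22481, 20896), (22482, 23794), (22483, 23786), (22484, 20898), (22485, 22485), (22486, 23528), (22487, 23800), (22488, 21672), (22489, 20906), (22490, 22490), (22491, 21674), (22492, 21675), (22493, 20932), (22494, 23283), (22495, 20948), (22496, 21086), (22497, 21285), (22498, 21286), (22499, 23808), (22500, 20939), (22501, 20940), (22502, 23811), (22503, 21185), (22504, 21088), (22505, 20920), (22506, 21581), (22507, 23814), (22508, 23817), (22509, 20923), (22510, 23596), (22511, 20924), (22512, 23325), (22513, 23818), (22514, 23823), (22515, 20925), (22516, 20952), (22517, 23826), (22518, 20928), (22519, 21003), (22520, 21531),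 (22521, 21571), (22522, 23364), (22523, 23831), (22524, 21538), (22525, 21535), (22526, 21249), (22527, 21616)]
    ⟨e3 q22464 L742250 q20878, e3 q22465 L756371 q23778, e3 q22466 L742281 q21232, e3 q22467 L742287 q20883, e3 q22468 L742298 q21564, e3 q22469 L756417 q23782, e3 q22470 L756427 q23783, e3 q22471 (flp_d L742326) q20884, e3 q22472 (flp_d L742336) q20885, e3 q22473 (flp_d L756445) q23784, e3 q22474 L742356 q22474, e3 q22475 L756476 q23789, e3 q22476 (flp_d L742374) q20889, e3 q22477 L756503 q23791, e3 q22478 (flp_d L742395) q20891, e3 q22479 (flp_d L756501) q23790, e3 q22480 (flp_d L742416) q20893, e3 q22481 L742436 q20896, e3 q22482 (flp_d L756539) q23794, e3 q22483 (flp_d L756457) q23786, e3 q22484 (flp_d L742452) q20898, e3 q22485 L742469 q22485, e3 q22486 (flp_d L753552) q23528, e3 q22487 L756585 q23800, e3 q22488 L742493 q21672, e3 q22489 L742503 q20906, e3 q22490 L742516 q22490, e3 q22491 L742531 q21674, e3 q22492 L742546 q21675, e3 q22493 L742556 q20932, e3 q22494 (flp_d L750147) q23283, e3 q22495 L742588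 q20948, e3 q22496 L742598 q21086, e3 q22497 L742613 q21285, e3 q22498 L742626 q21286, e3 q22499 L756687 q23808, e3 q22500 L742645 q20939, e3 q22501 L742652 q20940, e3 q22502 L756714 q23811, e3 q22503 L742675 q21185, e3 q22504 L742683 q21088, e3 q22505 (flp_d L742690) q20920, e3 q22506 L742712 q21581, e3 q22507 (flp_d L756753) q23814, e3 q22508 L756782 q23817, e3 q22509 L742740 q20923, e3 q22510 (flp_d L754449) q23596, e3 q22511 L742770 q20924, e3 q22512 (flp_d L750782) q23325, e3 q22513 (flp_d L756799) q23818, e3 q22514 L756851 q23823, e3 q22515 (flp_d L742802) q20925, e3 q22516 L742813 q20952, e3 q22517 L756872 q23826, e3 q22518 (flp_d L742825) q20928, e3 q22519 L742837 q21003, e3 q22520 L742856 q21531, e3 q22521 L742864 q21571, e3 q22522 (flp_d L751290) q23364, e3 q22523 L756918 q23831, e3 q22524 L742894 q21538, e3 q22525 L742910 q21535, e3 q22526 L742922 q21249, e3 q22527 L742938 q21616, trivial⟩ (by decide +kernel)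

theorem ce_d_352 : ∀ r, r < 64 → sm gd (Qf (22528 + r)) = Qf (tab Gen.d (22528 + r)) :=
  edges_tab (sm gd) Qf (tab Gen.d) 22528 [(22528, 23835), (22529, 23344), (22530, 23809), (22531, 23838), (22532, 20941), (22533, 20943), (22534, 23841), (22535, 21012), (22536, 20949), (22537, 21014), (22538, 23845), (22539, 23804), (22540, 23847), (22541, 20950), (22542, 23345), (22543, 23850), (22544, 20953), (22545, 23848), (22546, 21660), (22547, 23855), (22548, 20958), (22549, 22549), (22550, 23857), (22551, 20961), (22552, 21317), (22553, 21089), (22554, 23427), (22555, 20965), (22556, 23863), (22557, 20968), (22558, 21326), (22559, 23852), (22560, 21059), (22561, 23421), (22562, 20973), (22563, 21052), (22564, 21077), (22565, 21076), (22566, 20981), (22567, 21289), (22568, 23396), (22569, 23873), (22570, 20982), (22571, 23546), (22572, 23876), (22573, 20985), (22574, 21560), (22575, 23423), (22576, 20989), (22577, 20990), (22578, 23879), (22579, 23881), (22580, 20991), (22581, 20995), (22582, 21291), (22583, 20996), (22584, 21569),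 (22585, 23886), (22586, 23541), (22587, 23882), (22588, 23889), (22589, 20997), (22590, 23891), (22591, 23552)]
    ⟨e3 q22528 L756970 q23835, e3 q22529 (flp_d L751027) q23344, e3 q22530 (flp_d L756700) q23809, e3 q22531 L757002 q23838, e3 q22532 (flp_d L742986) q20941, e3 q22533 L742998 q20943, e3 q22534 L757028 q23841, e3 q22535 L743030 q21012, e3 q22536 L743036 q20949, e3 q22537 L743048 q21014, e3 q22538 L757076 q23845, e3 q22539 (flp_d L756639) q23804, e3 q22540 L757104 q23847, e3 q22541 (flp_d L743092) q20950, e3 q22542 (flp_d L751040) q23345, e3 q22543 L757134 q23850, e3 q22544 (flp_d L743120) q20953, e3 q22545 (flp_d L757122) q23848, e3 q22546 L743140 q21660, e3 q22547 L757175 q23855, e3 q22548 (flp_d L743159) q20958, e3 q22549 L743180 q22549, e3 q22550 L757202 q23857, e3 q22551 (flp_d L743193) q20961, e3 q22552 L743212 q21317, e3 q22553 L743222 q21089, e3 q22554 (flp_d L752076) q23427, e3 q22555 (flp_d L743244) q20965, e3 q22556 L757270 q23863, e3 q22557 (flp_d L743264) q20968, e3 q22558 L743280 q21326, e3 q22559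 (flp_d L757152) q23852, e3 q22560 L743289 q21059, e3 q22561 (flp_d L751991) q23421, e3 q22562 (flp_d L743315) q20973, e3 q22563 L743336 q21052, e3 q22564 L743344 q21077, e3 q22565 L743363 q21076, e3 q22566 L743369 q20981, e3 q22567 L743383 q21289, e3 q22568 (flp_d L751709) q23396, e3 q22569 L757381 q23873, e3 q22570 (flp_d L743409) q20982, e3 q22571 (flp_d L753809) q23546, e3 q22572 L757410 q23876, e3 q22573 (flp_d L743440) q20985, e3 q22574 L743452 q21560, e3 q22575 (flp_d L752036) q23423, e3 q22576 L743482 q20989, e3 q22577 L743499 q20990, e3 q22578 (flp_d L757444) q23879, e3 q22579 L757465 q23881, e3 q22580 (flp_d L743527) q20991, e3 q22581 L743545 q20995, e3 q22582 L743565 q21291, e3 q22583 L743569 q20996, e3 q22584 L743582 q21569, e3 q22585 L757518 q23886, e3 q22586 (flp_d L753738) q23541, e3 q22587 (flp_d L757475) q23882, e3 q22588 L757544 q23889, e3 q22589 (flp_d L743626) q20997, e3 q22590 (flp_d L757564) q23891, e3 q22591 (flp_d L753896) q23552, trivial⟩ (by decide +kernel)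

theorem ce_d_353 : ∀ r, r < 64 → sm gd (Qf (22592 + r)) = Qf (tab Gen.d (22592 + r)) :=
  edges_tab (sm gd) Qf (tab Gen.d) 22592 [(22592, 23893), (22593, 21001), (22594, 23890), (22595, 23897), (22596, 21007), (22597, 21008), (22598, 23900), (22599, 23898), (22600, 23902), (22601, 21009), (22602, 23904), (22603, 21016), (22604, 23334), (22605, 21017), (22606, 23842), (22607, 23909), (22608, 23910), (22609, 21015), (22610, 23905), (22611, 23914), (22612, 21018), (22613, 21024), (22614, 21020), (22615, 23919), (22616, 23920), (22617, 21022), (22618, 23915), (22619, 21051), (22620, 23917), (22621, 23926), (22622, 21027), (22623, 22623), (22624, 23928), (22625, 21031), (22626, 21037), (22627, 21033), (22628, 23931), (22629, 21035), (22630, 23929), (22631, 23895), (22632, 23868), (22633, 22633), (22634, 23376), (22635, 21040), (22636, 23939), (22637, 21043), (22638, 21050), (22639, 23916), (22640, 21047), (22641, 21048), (22642, 23866), (22643, 23922), (22644, 23864), (22645, 23948), (22646, 23233), (22647, 23372), (22648, 21055),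 (22649, 21650), (22650, 23860), (22651, 21061), (22652, 22652), (22653, 23585), (22654, 22654), (22655, 23958)]
    ⟨e3 q22592 L757574 q23893, e3 q22593 (flp_d L743656) q21001, e3 q22594 (flp_d L757554) q23890, e3 q22595 L757594 q23897, e3 q22596 L743680 q21007, e3 q22597 L743689 q21008, e3 q22598 L757620 q23900, e3 q22599 (flp_d L757606) q23898, e3 q22600 L757646 q23902, e3 q22601 (flp_d L743724) q21009, e3 q22602 (flp_d L757666) q23904, e3 q22603 L743746 q21016, e3 q22604 (flp_d L750915) q23334, e3 q22605 L743760 q21017, e3 q22606 (flp_d L757046) q23842, e3 q22607 L757702 q23909, e3 q22608 L757708 q23910, e3 q22609 (flp_d L743785) q21015, e3 q22610 (flp_d L757674) q23905, e3 q22611 L757742 q23914, e3 q22612 (flp_d L743811) q21018, e3 q22613 L743819 q21024, e3 q22614 L743829 q21020, e3 q22615 (flp_d L757780) q23919, e3 q22616 L757784 q23920, e3 q22617 (flp_d L743851) q21022, e3 q22618 (flp_d L757752) q23915, e3 q22619 L743863 q21051, e3 q22620 (flp_d L757760) q23917, e3 q22621 L757814 q23926, e3 q22622 (flp_d L743879) q21027,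 e3 q22623 L743893 q22623, e3 q22624 L757836 q23928, e3 q22625 (flp_d L743906) q21031, e3 q22626 L743921 q21037, e3 q22627 L743937 q21033, e3 q22628 L757858 q23931, e3 q22629 (flp_d L743946) q21035, e3 q22630 (flp_d L757851) q23929, e3 q22631 (flp_d L757588) q23895, e3 q22632 (flp_d L757333) q23868, e3 q22633 L743984 q22633, e3 q22634 (flp_d L751457) q23376, e3 q22635 (flp_d L744005) q21040, e3 q22636 L757932 q23939, e3 q22637 (flp_d L744020) q21043, e3 q22638 L744034 q21050, e3 q22639 (flp_d L757756) q23916, e3 q22640 L744045 q21047, e3 q22641 (flp_d L744050) q21048, e3 q22642 (flp_d L757301) q23866, e3 q22643 (flp_d L757800) q23922, e3 q22644 (flp_d L757290) q23864, e3 q22645 L758014 q23948, e3 q22646 (flp_d L749470) q23233, e3 q22647 (flp_d L751398) q23372, e3 q22648 (flp_d L744115) q21055, e3 q22649 L744128 q21650, e3 q22650 (flp_d L757230) q23860, e3 q22651 (flp_d L744141) q21061, e3 q22652 L744155 q22652, e3 q22653 (flp_d L754304) q23585, e3 q22654 L744163 q22654, e3 q22655 L758098 q23958, trivial⟩ (by decide +kernel)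

theorem ce_d_354 : ∀ r, r < 64 → sm gd (Qf (22656 + r)) = Qf (tab Gen.d (22656 + r)) :=
  edges_tab (sm gd) Qf (tab Gen.d) 22656 [(22656, 22656), (22657, 22657), (22658, 21475), (22659, 23960), (22660, 22660), (22661, 23962), (22662, 21070), (22663, 23801), (22664, 21080), (22665, 23685), (22666, 23912), (22667, 21525), (22668, 21084), (22669, 21085), (22670, 23450), (22671, 21087), (22672, 23970), (22673, 23431), (22674, 21090), (22675, 23419), (22676, 23432), (22677, 21547), (22678, 21548), (22679, 22679), (22680, 21542), (22681, 23328), (22682, 21143), (22683, 21102), (22684, 21103), (22685, 23975), (22686, 21107), (22687, 23977), (22688, 23978), (22689, 21111), (22690, 21113), (22691, 23981), (22692, 23982), (22693, 21119), (22694, 21493), (22695, 23985), (22696, 21126), (22697, 23987), (22698, 21532), (22699, 23989), (22700, 21127), (22701, 23991), (22702, 21129), (22703, 23990), (22704, 23994), (22705, 21133), (22706, 23995), (22707, 21135), (22708, 21139), (22709, 23968), (22710, 23998), (22711, 23999), (22712, 24000),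 (22713, 21149), (22714, 21150), (22715, 23383), (22716, 23422), (22717, 24004), (22718, 21154), (22719, 21155)]
    ⟨e3 q22656 L744182 q22656, e3 q22657 L744198 q22657, e3 q22658 L744206 q21475, e3 q22659 L758117 q23960, e3 q22660 L744225 q22660, e3 q22661 L758140 q23962, e3 q22662 (flp_d L744240) q21070, e3 q22663 (flp_d L756602) q23801, e3 q22664 (flp_d L744257) q21080, e3 q22665 (flp_d L755348) q23685, e3 q22666 (flp_d L757730) q23912, e3 q22667 L744303 q21525, e3 q22668 L744311 q21084, e3 q22669 (flp_d L744316) q21085, e3 q22670 (flp_d L752378) q23450, e3 q22671 (flp_d L744345) q21087, e3 q22672 L758227 q23970, e3 q22673 (flp_d L752127) q23431, e3 q22674 (flp_d L744384) q21090, e3 q22675 (flp_d L751977) q23419, e3 q22676 (flp_d L752151) q23432, e3 q22677 L744421 q21547, e3 q22678 L744433 q21548, e3 q22679 L744448 q22679, e3 q22680 L744459 q21542, e3 q22681 (flp_d L750825) q23328, e3 q22682 L744481 q21143, e3 q22683 (flp_d L744486) q21102, e3 q22684 (flp_d L744499) q21103, e3 q22685 L758269 q23975, e3 q22686 (flp_d L744526)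 q21107, e3 q22687 L758295 q23977, e3 q22688 L758311 q23978, e3 q22689 (flp_d L744566) q21111, e3 q22690 (flp_d L744574) q21113, e3 q22691 L758345 q23981, e3 q22692 L758357 q23982, e3 q22693 (flp_d L744608) q21119, e3 q22694 L744626 q21493, e3 q22695 L758389 q23985, e3 q22696 L744652 q21126, e3 q22697 L758414 q23987, e3 q22698 L744679 q21532, e3 q22699 L758440 q23989, e3 q22700 (flp_d L744699) q21127, e3 q22701 L758452 q23991, e3 q22702 (flp_d L744711) q21129, e3 q22703 (flp_d L758450) q23990, e3 q22704 L758478 q23994, e3 q22705 (flp_d L744739) q21133, e3 q22706 L758489 q23995, e3 q22707 (flp_d L744760) q21135, e3 q22708 (flp_d L744769) q21139, e3 q22709 (flp_d L758205) q23968, e3 q22710 L758521 q23998, e3 q22711 L758534 q23999, e3 q22712 L758550 q24000, e3 q22713 (flp_d L744830) q21149, e3 q22714 (flp_d L744842) q21150, e3 q22715 (flp_d L751541) q23383, e3 q22716 (flp_d L752014) q23422, e3 q22717 L758602 q24004, e3 q22718 (flp_d L744892) q21154, e3 q22719 (flp_d L744900) q21155, trivial⟩ (by decide +kernel)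

theorem ce_d_355 : ∀ r, r < 64 → sm gd (Qf (22720 + r)) = Qf (tab Gen.d (22720 + r)) :=
  edges_tab (sm gd) Qf (tab Gen.d) 22720 [(22720, 24007), (22721, 24006), (22722, 23415), (22723, 21159), (22724, 23438), (22725, 23439), (22726, 21679), (22727, 24010), (22728, 21172), (22729, 21174), (22730, 24013), (22731, 21175), (22732, 21176), (22733, 21177), (22734, 21549), (22735, 21213), (22736, 21629), (22737, 24019), (22738, 23161), (22739, 24021), (22740, 23812), (22741, 24023), (22742, 21188), (22743, 21189), (22744, 24024), (22745, 24027), (22746, 21190), (22747, 24029), (22748, 21192), (22749, 21194), (22750, 24032), (22751, 21195), (22752, 21198), (22753, 24035), (22754, 24036), (22755, 21199), (22756, 24038), (22757, 21201), (22758, 24037), (22759, 21203), (22760, 24043), (22761, 21205), (22762, 23761), (22763, 23231), (22764, 21209), (22765, 23762), (22766, 24047), (22767, 21214), (22768, 21215), (22769, 24050), (22770, 21217), (22771, 24051), (22772, 24053), (22773, 21221), (22774, 24055), (22775, 21223), (22776, 21225),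 (22777, 24058), (22778, 22778), (22779, 22779), (22780, 22780), (22781, 22781), (22782, 23779), (22783, 24063)]
    ⟨e3 q22720 (flp_d L758626) q24007, e3 q22721 (flp_d L758620) q24006, e3 q22722 (flp_d L751925) q23415, e3 q22723 (flp_d L744937) q21159, e3 q22724 (flp_d L752219) q23438, e3 q22725 (flp_d L752225) q23439, e3 q22726 L744968 q21679, e3 q22727 L758650 q24010, e3 q22728 (flp_d L744987) q21172, e3 q22729 L745001 q21174, e3 q22730 L758679 q24013, e3 q22731 (flp_d L745014) q21175, e3 q22732 (flp_d L745025) q21176, e3 q22733 (flp_d L745033) q21177, e3 q22734 L745055 q21549, e3 q22735 L745063 q21213, e3 q22736 L745076 q21629, e3 q22737 L758739 q24019, e3 q22738 (flp_d L748358) q23161, e3 q22739 L758759 q24021, e3 q22740 (flp_d L756726) q23812, e3 q22741 L758775 q24023, e3 q22742 L745132 q21188, e3 q22743 L745143 q21189, e3 q22744 (flp_d L758791) q24024, e3 q22745 L758824 q24027, e3 q22746 (flp_d L745173) q21190, e3 q22747 L758840 q24029, e3 q22748 (flp_d L745199) q21192, e3 q22749 L745211 q21194, e3 q22750 L758872 q24032,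 e3 q22751 (flp_d L745225) q21195, e3 q22752 L745241 q21198, e3 q22753 L758897 q24035, e3 q22754 L758905 q24036, e3 q22755 (flp_d L745268) q21199, e3 q22756 (flp_d L758921) q24038, e3 q22757 (flp_d L745280) q21201, e3 q22758 (flp_d L758915) q24037, e3 q22759 (flp_d L745296) q21203, e3 q22760 L758958 q24043, e3 q22761 (flp_d L745317) q21205, e3 q22762 (flp_d L756186) q23761, e3 q22763 (flp_d L749442) q23231, e3 q22764 (flp_d L745350) q21209, e3 q22765 (flp_d L756197) q23762, e3 q22766 L758998 q24047, e3 q22767 (flp_d L745382) q21214, e3 q22768 (flp_d L745394) q21215, e3 q22769 L759030 q24050, e3 q22770 (flp_d L745414) q21217, e3 q22771 (flp_d L759054) q24051, e3 q22772 L759067 q24053, e3 q22773 (flp_d L745442) q21221, e3 q22774 (flp_d L759090) q24055, e3 q22775 (flp_d L745457) q21223, e3 q22776 L745473 q21225, e3 q22777 (flp_d L759115) q24058, e3 q22778 L745496 q22778, e3 q22779 L745503 q22779, e3 q22780 L745513 q22780, e3 q22781 L745525 q22781, e3 q22782 (flp_d L756389) q23779, e3 q22783 L759168 q24063, trivial⟩ (by decide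 +kernel)

theorem ce_d_356 : ∀ r, r < 64 → sm gd (Qf (22784 + r)) = Qf (tab Gen.d (22784 + r)) :=
  edges_tab (sm gd) Qf (tab Gen.d) 22784 [(22784, 21235), (22785, 24065), (22786, 21236), (22787, 21237), (22788, 21238), (22789, 24068), (22790, 24070), (22791, 24071), (22792, 21242), (22793, 24072), (22794, 24074), (22795, 21278), (22796, 21245), (22797, 24077), (22798, 21246), (22799, 21247), (22800, 21250), (22801, 23833), (22802, 24082), (22803, 21251), (22804, 21255), (22805, 21298), (22806, 24086), (22807, 24087), (22808, 21256), (22809, 24089), (22810, 24090), (22811, 21259), (22812, 24088), (22813, 21261), (22814, 23424), (22815, 23235), (22816, 24094), (22817, 21271), (22818, 24096), (22819, 21273), (22820, 23747), (22821, 24099), (22822, 21276), (22823, 21554), (22824, 21280), (22825, 24075), (22826, 24104), (22827, 24105), (22828, 21281), (22829, 24107), (22830, 21283), (22831, 24106), (22832, 23806), (22833, 24112), (22834, 21292), (22835, 23871), (22836, 24115), (22837, 23883), (22838, 24117), (22839, 21293), (22840,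 24119), (22841, 21301), (22842, 23776), (22843, 24122), (22844, 24123), (22845, 21299), (22846, 23764), (22847, 24127)]
    ⟨e3 q22784 L745558 q21235, e3 q22785 L759188 q24065, e3 q22786 (flp_d L745577) q21236, e3 q22787 (flp_d L745586) q21237, e3 q22788 (flp_d L745598) q21238, e3 q22789 (flp_d L759217) q24068, e3 q22790 L759232 q24070, e3 q22791 L759242 q24071, e3 q22792 (flp_d L745632) q21242, e3 q22793 (flp_d L759256) q24072, e3 q22794 L759277 q24074, e3 q22795 L745674 q21278, e3 q22796 L745680 q21245, e3 q22797 L759310 q24077, e3 q22798 (flp_d L745699) q21246, e3 q22799 (flp_d L745708) q21247, e3 q22800 L745724 q21250, e3 q22801 (flp_d L756946) q23833, e3 q22802 L759358 q24082, e3 q22803 (flp_d L745753) q21251, e3 q22804 L745766 q21255, e3 q22805 L745776 q21298, e3 q22806 L759386 q24086, e3 q22807 L759390 q24087, e3 q22808 (flp_d L745794) q21256, e3 q22809 (flp_d L759408) q24089, e3 q22810 L759410 q24090, e3 q22811 (flp_d L745815) q21259, e3 q22812 (flp_d L759402) q24088, e3 q22813 (flp_d L745831) q21261, e3 q22814 (flp_d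 L752046) q23424, e3 q22815 (flp_d L749496) q23235, e3 q22816 L759445 q24094, e3 q22817 (flp_d L745874) q21271, e3 q22818 L759457 q24096, e3 q22819 (flp_d L745890) q21273, e3 q22820 (flp_d L756014) q23747, e3 q22821 L759481 q24099, e3 q22822 (flp_d L745918) q21276, e3 q22823 L745939 q21554, e3 q22824 L745945 q21280, e3 q22825 (flp_d L759294) q24075, e3 q22826 L759525 q24104, e3 q22827 L759531 q24105, e3 q22828 (flp_d L745976) q21281, e3 q22829 (flp_d L759549) q24107, e3 q22830 (flp_d L745986) q21283, e3 q22831 (flp_d L759543) q24106, e3 q22832 (flp_d L756668) q23806, e3 q22833 L759591 q24112, e3 q22834 L746028 q21292, e3 q22835 (flp_d L757365) q23871, e3 q22836 L759610 q24115, e3 q22837 (flp_d L757488) q23883, e3 q22838 L759632 q24117, e3 q22839 (flp_d L746069) q21293, e3 q22840 (flp_d L759646) q24119, e3 q22841 L746085 q21301, e3 q22842 (flp_d L756349) q23776, e3 q22843 L759666 q24122, e3 q22844 L759672 q24123, e3 q22845 (flp_d L746108) q21299, e3 q22846 (flp_d L756216) q23764, e3 q22847 L759694 q24127, trivial⟩ (by decide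 +kernel)

theorem ce_d_357 : ∀ r, r < 64 → sm gd (Qf (22848 + r)) = Qf (tab Gen.d (22848 + r)) :=
  edges_tab (sm gd) Qf (tab Gen.d) 22848 [(22848, 21302), (22849, 21308), (22850, 21304), (22851, 24132), (22852, 24133), (22853, 21306), (22854, 24128), (22855, 24130), (22856, 22856), (22857, 24138), (22858, 24139), (22859, 21313), (22860, 21315), (22861, 23858), (22862, 24142), (22863, 21319), (22864, 23373), (22865, 21321), (22866, 24144), (22867, 21324), (22868, 24129), (22869, 23369), (22870, 21331), (22871, 23272), (22872, 23969), (22873, 24147), (22874, 21336), (22875, 21338), (22876, 24149), (22877, 24151), (22878, 21340), (22879, 21342), (22880, 21343), (22881, 24125), (22882, 21346), (22883, 22883), (22884, 23464), (22885, 23159), (22886, 21353), (22887, 23459), (22888, 24155), (22889, 24156), (22890, 24157), (22891, 21370), (22892, 21371), (22893, 23622), (22894, 21374), (22895, 23732), (22896, 22896), (22897, 21387), (22898, 21379), (22899, 24165), (22900, 21380), (22901, 21381), (22902, 23177), (22903, 21385), (22904,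 23285), (22905, 21389), (22906, 24163), (22907, 24173), (22908, 24174), (22909, 21390), (22910, 24176), (22911, 21392)]
    ⟨e3 q22848 (flp_d L746128) q21302, e3 q22849 L746134 q21308, e3 q22850 L746138 q21304, e3 q22851 (flp_d L759718) q24132, e3 q22852 L759720 q24133, e3 q22853 (flp_d L746154) q21306, e3 q22854 (flp_d L759702) q24128, e3 q22855 (flp_d L759710) q24130, e3 q22856 L746176 q22856, e3 q22857 L759754 q24138, e3 q22858 L759766 q24139, e3 q22859 (flp_d L746208) q21313, e3 q22860 (flp_d L746218) q21315, e3 q22861 (flp_d L757219) q23858, e3 q22862 L759789 q24142, e3 q22863 (flp_d L746247) q21319, e3 q22864 (flp_d L751408) q23373, e3 q22865 (flp_d L746272) q21321, e3 q22866 L759807 q24144, e3 q22867 (flp_d L746287) q21324, e3 q22868 (flp_d L759706) q24129, e3 q22869 (flp_d L751358) q23369, e3 q22870 (flp_d L746312) q21331, e3 q22871 (flp_d L749995) q23272, e3 q22872 (flp_d L758225) q23969, e3 q22873 L759825 q24147, e3 q22874 (flp_d L746341) q21336, e3 q22875 L746353 q21338, e3 q22876 (flp_d L759841) q24149, e3 q22877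 L759852 q24151, e3 q22878 (flp_d L746369) q21340, e3 q22879 L746381 q21342, e3 q22880 (flp_d L746383) q21343, e3 q22881 (flp_d L759684) q24125, e3 q22882 L746395 q21346, e3 q22883 L746401 q22883, e3 q22884 (flp_d L752648) q23464, e3 q22885 (flp_d L748328) q23159, e3 q22886 L746428 q21353, e3 q22887 (flp_d L752553) q23459, e3 q22888 L759876 q24155, e3 q22889 L759892 q24156, e3 q22890 L759908 q24157, e3 q22891 (flp_d L746474) q21370, e3 q22892 (flp_d L746484) q21371, e3 q22893 (flp_d L754732) q23622, e3 q22894 (flp_d L746502) q21374, e3 q22895 (flp_d L755868) q23732, e3 q22896 L746526 q22896, e3 q22897 L746533 q21387, e3 q22898 L746537 q21379, e3 q22899 L759964 q24165, e3 q22900 (flp_d L746548) q21380, e3 q22901 (flp_d L746557) q21381, e3 q22902 (flp_d L748628) q23177, e3 q22903 (flp_d L746572) q21385, e3 q22904 (flp_d L750181) q23285, e3 q22905 L746593 q21389, e3 q22906 (flp_d L759956) q24163, e3 q22907 L760022 q24173, e3 q22908 L760026 q24174, e3 q22909 (flp_d L746620) q21390, e3 q22910 (flp_d L760036) q24176, e3 q22911 (flp_d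 L746628) q21392, trivial⟩ (by decide +kernel)

theorem ce_d_358 : ∀ r, r < 64 → sm gd (Qf (22912 + r)) = Qf (tab Gen.d (22912 + r)) :=
  edges_tab (sm gd) Qf (tab Gen.d) 22912 [(22912, 24175), (22913, 21394), (22914, 21396), (22915, 24181), (22916, 23561), (22917, 24183), (22918, 21401), (22919, 21403), (22920, 24185), (22921, 22921), (22922, 21407), (22923, 24188), (22924, 21408), (22925, 21409), (22926, 24191), (22927, 21414), (22928, 21415), (22929, 24194), (22930, 24193), (22931, 23171), (22932, 23269), (22933, 24197), (22934, 21422), (22935, 21446), (22936, 24200), (22937, 21425), (22938, 24202), (22939, 24201), (22940, 23174), (22941, 23175), (22942, 24206), (22943, 21432), (22944, 24208), (22945, 21434), (22946, 24210), (22947, 21436), (22948, 21437), (22949, 24213), (22950, 24212), (22951, 24215), (22952, 21441), (22953, 24217), (22954, 24218), (22955, 21444), (22956, 24220), (22957, 24222), (22958, 21447), (22959, 24225), (22960, 21449), (22961, 21455), (22962, 21451), (22963, 24230), (22964, 24227), (22965, 21453),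 (22966, 24226), (22967, 24228), (22968, 23194), (22969, 23558), (22970, 23324), (22971, 23300), (22972, 23733), (22973, 21469), (22974, 21471), (22975, 23434)]
    ⟨e3 q22912 (flp_d L760032) q24175, e3 q22913 (flp_d L746642) q21394, e3 q22914 L746652 q21396, e3 q22915 (flp_d L760063) q24181, e3 q22916 (flp_d L754023) q23561, e3 q22917 L760074 q24183, e3 q22918 (flp_d L746675) q21401, e3 q22919 L746683 q21403, e3 q22920 (flp_d L760088) q24185, e3 q22921 L746696 q22921, e3 q22922 L746704 q21407, e3 q22923 L760108 q24188, e3 q22924 (flp_d L746721) q21408, e3 q22925 (flp_d L746730) q21409, e3 q22926 L760127 q24191, e3 q22927 (flp_d L746744) q21414, e3 q22928 (flp_d L746752) q21415, e3 q22929 (flp_d L760153) q24194, e3 q22930 (flp_d L760147) q24193, e3 q22931 (flp_d L748523) q23171, e3 q22932 (flp_d L749953) q23269, e3 q22933 L760167 q24197, e3 q22934 (flp_d L746789) q21422, e3 q22935 L746800 q21446, e3 q22936 L760185 q24200, e3 q22937 (flp_d L746806) q21425, e3 q22938 (flp_d L760199) q24202, e3 q22939 (flp_d L760193) q24201,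 e3 q22940 L748580 q23174, e3 q22941 L748596 q23175, e3 q22942 L760219 q24206, e3 q22943 (flp_d L746841) q21432, e3 q22944 L760231 q24208, e3 q22945 (flp_d L746855) q21434, e3 q22946 L760243 q24210, e3 q22947 (flp_d L746869) q21436, e3 q22948 (flp_d L746879) q21437, e3 q22949 (flp_d L760267) q24213, e3 q22950 (flp_d L760261) q24212, e3 q22951 L760275 q24215, e3 q22952 (flp_d L746901) q21441, e3 q22953 L760285 q24217, e3 q22954 L760291 q24218, e3 q22955 (flp_d L746923) q21444, e3 q22956 (flp_d L760303) q24220, e3 q22957 L760313 q24222, e3 q22958 (flp_d L746941) q21447, e3 q22959 L760329 q24225, e3 q22960 (flp_d L746953) q21449, e3 q22961 L746959 q21455, e3 q22962 L746963 q21451, e3 q22963 (flp_d L760357) q24230, e3 q22964 (flp_d L760345) q24227, e3 q22965 (flp_d L746977) q21453, e3 q22966 (flp_d L760337) q24226, e3 q22967 (flp_d L760349) q24228, e3 q22968 (flp_d L748885) q23194, e3 q22969 (flp_d L753978) q23558, e3 q22970 (flp_d L750764) q23324, e3 q22971 (flp_d L750410) q23300, e3 q22972 (flp_d L755879) q23733, e3 q22973 (flp_d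 L747024) q21469, e3 q22974 L747037 q21471, e3 q22975 (flp_d L752175) q23434, trivial⟩ (by decide +kernel)

theorem ce_d_359 : ∀ r, r < 64 → sm gd (Qf (22976 + r)) = Qf (tab Gen.d (22976 + r)) :=
  edges_tab (sm gd) Qf (tab Gen.d) 22976 [(22976, 21472), (22977, 24224), (22978, 23952), (22979, 23500), (22980, 24238), (22981, 21481), (22982, 23710), (22983, 21483), (22984, 24242), (22985, 21486), (22986, 21487), (22987, 23697), (22988, 23290), (22989, 24247), (22990, 23473), (22991, 24249), (22992, 21494), (22993, 23752), (22994, 24252), (22995, 21500), (22996, 24254), (22997, 24255), (22998, 21501), (22999, 24257), (23000, 21503), (23001, 24256), (23002, 21507), (23003, 24261), (23004, 24262), (23005, 21508), (23006, 24264), (23007, 21510), (23008, 21511), (23009, 21514), (23010, 24266), (23011, 24268), (23012, 24271), (23013, 21516), (23014, 21517), (23015, 21520), (23016, 24267), (23017, 24274), (23018, 21526), (23019, 21527), (23020, 21528), (23021, 23918), (23022, 24279), (23023, 24280), (23024, 21533), (23025, 24282),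 (23026, 21536), (23027, 24283), (23028, 24285), (23029, 24286), (23030, 21541), (23031, 24288), (23032, 21543), (23033, 21545), (23034, 24290), (23035, 24016), (23036, 24293), (23037, 21552), (23038, 24295), (23039, 21553)]
    ⟨e3 q22976 (flp_d L747046) q21472, e3 q22977 (flp_d L760327) q24224, e3 q22978 (flp_d L758053) q23952, e3 q22979 (flp_d L753189) q23500, e3 q22980 L760399 q24238, e3 q22981 (flp_d L747077) q21481, e3 q22982 (flp_d L755630) q23710, e3 q22983 (flp_d L747091) q21483, e3 q22984 L760425 q24242, e3 q22985 (flp_d L747105) q21486, e3 q22986 (flp_d L747113) q21487, e3 q22987 (flp_d L755488) q23697, e3 q22988 (flp_d L750253) q23290, e3 q22989 L760460 q24247, e3 q22990 (flp_d L752797) q23473, e3 q22991 L760475 q24249, e3 q22992 (flp_d L747156) q21494, e3 q22993 (flp_d L756075) q23752, e3 q22994 L760497 q24252, e3 q22995 L747184 q21500, e3 q22996 L760510 q24254, e3 q22997 L760516 q24255, e3 q22998 (flp_d L747207) q21501, e3 q22999 L760528 q24257, e3 q23000 (flp_d L747221) q21503, e3 q23001 (flp_d L760526) q24256,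 e3 q23002 L747241 q21507, e3 q23003 L760559 q24261, e3 q23004 L760571 q24262, e3 q23005 (flp_d L747268) q21508, e3 q23006 L760579 q24264, e3 q23007 (flp_d L747277) q21510, e3 q23008 (flp_d L747281) q21511, e3 q23009 L747287 q21514, e3 q23010 (flp_d L760593) q24266, e3 q23011 (flp_d L760601) q24268, e3 q23012 L760613 q24271, e3 q23013 (flp_d L747307) q21516, e3 q23014 (flp_d L747315) q21517, e3 q23015 (flp_d L747322) q21520, e3 q23016 (flp_d L760597) q24267, e3 q23017 L760632 q24274, e3 q23018 (flp_d L747340) q21526, e3 q23019 (flp_d L747348) q21527, e3 q23020 (flp_d L747354) q21528, e3 q23021 (flp_d L757774) q23918, e3 q23022 L760660 q24279, e3 q23023 L760666 q24280, e3 q23024 (flp_d L747385) q21533, e3 q23025 L760678 q24282, e3 q23026 (flp_d L747399) q21536, e3 q23027 (flp_d L760690) q24283, e3 q23028 L760696 q24285, e3 q23029 L760702 q24286, e3 q23030 (flp_d L747425) q21541, e3 q23031 L760710 q24288, e3 q23032 (flp_d L747437) q21543, e3 q23033 L747447 q21545, e3 q23034 (flp_d L760724) q24290, e3 q23035 (flp_d L758708) q24016,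 e3 q23036 L760740 q24293, e3 q23037 L747475 q21552, e3 q23038 L760758 q24295, e3 q23039 (flp_d L747485) q21553, trivial⟩ (by decide +kernel)

theorem ce_d_360 : ∀ r, r < 64 → sm gd (Qf (23040 + r)) = Qf (tab Gen.d (23040 + r)) :=
  edges_tab (sm gd) Qf (tab Gen.d) 23040 [(23040, 24101), (23041, 24299), (23042, 21556), (23043, 24301), (23044, 24300), (23045, 23347), (23046, 24304), (23047, 24305), (23048, 21563), (23049, 24307), (23050, 24308), (23051, 21567), (23052, 24309), (23053, 24311), (23054, 23829), (23055, 21574), (23056, 24314), (23057, 24315), (23058, 21575), (23059, 21623), (23060, 21582), (23061, 21625), (23062, 24320), (23063, 24321), (23064, 21580), (23065, 23815), (23066, 24324), (23067, 21583), (23068, 21588), (23069, 24328), (23070, 21586), (23071, 24325), (23072, 24327), (23073, 21590), (23074, 21592), (23075, 23266), (23076, 24335), (23077, 21595), (23078, 24326), (23079, 21599), (23080, 24337), (23081, 21602), (23082, 24339), (23083, 21604), (23084, 24338), (23085, 24343), (23086, 21607), (23087, 21608),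 (23088, 21609), (23089, 21615), (23090, 21611), (23091, 24350), (23092, 24352), (23093, 21613), (23094, 24346), (23095, 24348), (23096, 24356), (23097, 21617), (23098, 21620), (23099, 24358), (23100, 21621), (23101, 24118), (23102, 24317), (23103, 24363)]
    ⟨e3 q23040 (flp_d L759501) q24101, e3 q23041 L760782 q24299, e3 q23042 (flp_d L747505) q21556, e3 q23043 (flp_d L760792) q24301, e3 q23044 (flp_d L760788) q24300, e3 q23045 (flp_d L751067) q23347, e3 q23046 L760807 q24304, e3 q23047 L760813 q24305, e3 q23048 (flp_d L747539) q21563, e3 q23049 L760825 q24307, e3 q23050 L760835 q24308, e3 q23051 (flp_d L747561) q21567, e3 q23052 (flp_d L760847) q24309, e3 q23053 L760855 q24311, e3 q23054 (flp_d L756902) q23829, e3 q23055 L747591 q21574, e3 q23056 L760874 q24314, e3 q23057 L760880 q24315, e3 q23058 (flp_d L747612) q21575, e3 q23059 L747623 q21623, e3 q23060 L747627 q21582, e3 q23061 L747634 q21625, e3 q23062 L760911 q24320, e3 q23063 L760917 q24321, e3 q23064 (flp_d L747650) q21580, e3 q23065 (flp_d L756767) q23815, e3 q23066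 L760937 q24324, e3 q23067 (flp_d L747672) q21583, e3 q23068 L747682 q21588, e3 q23069 L760963 q24328, e3 q23070 (flp_d L747692) q21586, e3 q23071 (flp_d L760949) q24325, e3 q23072 (flp_d L760959) q24327, e3 q23073 (flp_d L747708) q21590, e3 q23074 (flp_d L747720) q21592, e3 q23075 (flp_d L749904) q23266, e3 q23076 L761011 q24335, e3 q23077 (flp_d L747748) q21595, e3 q23078 (flp_d L760955) q24326, e3 q23079 (flp_d L747762) q21599, e3 q23080 L761029 q24337, e3 q23081 (flp_d L747779) q21602, e3 q23082 L761039 q24339, e3 q23083 (flp_d L747790) q21604, e3 q23084 (flp_d L761037) q24338, e3 q23085 L761056 q24343, e3 q23086 (flp_d L747808) q21607, e3 q23087 (flp_d L747818) q21608, e3 q23088 (flp_d L747828) q21609, e3 q23089 L747838 q21615, e3 q23090 L747848 q21611, e3 q23091 (flp_d L761114) q24350, e3 q23092 L761128 q24352, e3 q23093 (flp_d L747868) q21613, e3 q23094 (flp_d L761088) q24346, e3 q23095 (flp_d L761098) q24348, e3 q23096 L761148 q24356, e3 q23097 (flp_d L747890) q21617, e3 q23098 L747898 q21620, e3 q23099 L761158 q24358,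 e3 q23100 (flp_d L747912) q21621, e3 q23101 (flp_d L759640) q24118, e3 q23102 (flp_d L760894) q24317, e3 q23103 L761186 q24363, trivial⟩ (by decide +kernel)

theorem ce_d_361 : ∀ r, r < 64 → sm gd (Qf (23104 + r)) = Qf (tab Gen.d (23104 + r)) :=
  edges_tab (sm gd) Qf (tab Gen.d) 23104 [(23104, 24364), (23105, 21626), (23106, 21627), (23107, 24223), (23108, 24369), (23109, 21630), (23110, 21637), (23111, 21653), (23112, 21638), (23113, 23758), (23114, 21634), (23115, 21635), (23116, 24370), (23117, 24372), (23118, 24375), (23119, 23416), (23120, 21641), (23121, 23949), (23122, 24347), (23123, 21645), (23124, 24384), (23125, 21648), (23126, 23950), (23127, 24360), (23128, 21651), (23129, 24371), (23130, 24374), (23131, 21655), (23132, 23687), (23133, 24009), (23134, 24388), (23135, 21663), (23136, 21664), (23137, 24390), (23138, 21666), (23139, 23139), (23140, 24391), (23141, 24393), (23142, 21669), (23143, 21671), (23144, 24395), (23145, 21680), (23146, 21696), (23147, 24397), (23148, 21683), (23149, 21684), (23150, 24366),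 (23151, 21697), (23152, 24048), (23153, 21698), (23154, 23154), (23155, 24396), (23156, 24400), (23157, 24332), (23158, 21703), (23159, 22885), (23160, 22066), (23161, 22738), (23162, 24403), (23163, 24404), (23164, 21717), (23165, 21809), (23166, 24406), (23167, 21963)]
    ⟨e3 q23104 L761192 q24364, e3 q23105 (flp_d L747940) q21626, e3 q23106 (flp_d L747946) q21627, e3 q23107 (flp_d L760321) q24223, e3 q23108 L761218 q24369, e3 q23109 (flp_d L747962) q21630, e3 q23110 L747970 q21637, e3 q23111 L747974 q21653, e3 q23112 L747978 q21638, e3 q23113 (flp_d L756150) q23758, e3 q23114 L747986 q21634, e3 q23115 (flp_d L747988) q21635, e3 q23116 (flp_d L761226) q24370, e3 q23117 (flp_d L761236) q24372, e3 q23118 (flp_d L761252) q24375, e3 q23119 (flp_d L751931) q23416, e3 q23120 (flp_d L748010) q21641, e3 q23121 (flp_d L758026) q23949, e3 q23122 (flp_d L761094) q24347, e3 q23123 L748039 q21645, e3 q23124 (flp_d L761306) q24384, e3 q23125 (flp_d L748052) q21648, e3 q23126 (flp_d L758032) q23950, e3 q23127 (flp_d L761172) q24360,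 e3 q23128 (flp_d L748074) q21651, e3 q23129 (flp_d L761232) q24371, e3 q23130 (flp_d L761246) q24374, e3 q23131 (flp_d L748096) q21655, e3 q23132 (flp_d L755367) q23687, e3 q23133 (flp_d L758644) q24009, e3 q23134 L761335 q24388, e3 q23135 (flp_d L748134) q21663, e3 q23136 (flp_d L748140) q21664, e3 q23137 L761351 q24390, e3 q23138 (flp_d L748156) q21666, e3 q23139 L748167 q23139, e3 q23140 (flp_d L761363) q24391, e3 q23141 L761370 q24393, e3 q23142 (flp_d L748180) q21669, e3 q23143 L748188 q21671, e3 q23144 L761380 q24395, e3 q23145 (flp_d L748195) q21680, e3 q23146 L748210 q21696, e3 q23147 L761393 q24397, e3 q23148 (flp_d L748221) q21683, e3 q23149 (flp_d L748228) q21684, e3 q23150 (flp_d L761208) q24366, e3 q23151 L748244 q21697, e3 q23152 (flp_d L759021) q24048, e3 q23153 L748257 q21698, e3 q23154 L748268 q23154, e3 q23155 (flp_d L761391) q24396, e3 q23156 (flp_d L761414) q24400, e3 q23157 (flp_d L760995) q24332, e3 q23158 (flp_d L748291) q21703, e3 q23159 L748328 q22885, e3 q23160 L748332 q22066, e3 q23161 L748358 q22738,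 e3 q23162 L761445 q24403, e3 q23163 L761461 q24404, e3 q23164 (flp_d L748400) q21717, e3 q23165 L748425 q21809, e3 q23166 L761496 q24406, e3 q23167 L748459 q21963, trivial⟩ (by decide +kernel)

theorem ce_d_362 : ∀ r, r < 64 → sm gd (Qf (23168 + r)) = Qf (tab Gen.d (23168 + r)) :=
  edges_tab (sm gd) Qf (tab Gen.d) 23168 [(23168, 24408), (23169, 24409), (23170, 21726), (23171, 22931), (23172, 22160), (23173, 23173), (23174, 22940), (23175, 22941), (23176, 21735), (23177, 22902), (23178, 23178), (23179, 21841), (23180, 24415), (23181, 21745), (23182, 24417), (23183, 24418), (23184, 21750), (23185, 24420), (23186, 21752), (23187, 21754), (23188, 21756), (23189, 21757), (23190, 21990), (23191, 24425), (23192, 21760), (23193, 24423), (23194, 22968), (23195, 21763), (23196, 22301), (23197, 24427), (23198, 22227), (23199, 22022), (23200, 22238), (23201, 24433), (23202, 21786), (23203, 21787), (23204, 21914), (23205, 22254), (23206, 23206), (23207, 21777), (23208, 22251), (23209, 24438), (23210, 24441), (23211, 21792), (23212, 24443),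 (23213, 21879), (23214, 21926), (23215, 21784), (23216, 24445), (23217, 24447), (23218, 22308), (23219, 24434), (23220, 24450), (23221, 21815), (23222, 21790), (23223, 24453), (23224, 21791), (23225, 24455), (23226, 21793), (23227, 21794), (23228, 23228), (23229, 24459), (23230, 21797), (23231, 22763)]
    ⟨e3 q23168 L761530 q24408, e3 q23169 L761546 q24409, e3 q23170 (flp_d L748497) q21726, e3 q23171 L748523 q22931, e3 q23172 L748543 q22160, e3 q23173 L748555 q23173, e3 q23174 (flp_d L748580) q22940, e3 q23175 (flp_d L748596) q22941, e3 q23176 (flp_d L748598) q21735, e3 q23177 L748628 q22902, e3 q23178 L748643 q23178, e3 q23179 L748655 q21841, e3 q23180 L761635 q24415, e3 q23181 (flp_d L748677) q21745, e3 q23182 L761671 q24417, e3 q23183 L761689 q24418, e3 q23184 (flp_d L748729) q21750, e3 q23185 L761717 q24420, e3 q23186 (flp_d L748757) q21752, e3 q23187 (flp_d L748772) q21754, e3 q23188 (flp_d L748789) q21756, e3 q23189 (flp_d L748801) q21757, e3 q23190 L748827 q21990, e3 q23191 L761795 q24425, e3 q23192 (flp_d L748853)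 q21760, e3 q23193 (flp_d L761775) q24423, e3 q23194 L748885 q22968, e3 q23195 (flp_d L748887) q21763, e3 q23196 L748917 q22301, e3 q23197 (flp_d L761831) q24427, e3 q23198 L748931 q22227, e3 q23199 L748960 q22022, e3 q23200 L748966 q22238, e3 q23201 L761906 q24433, e3 q23202 L748998 q21786, e3 q23203 L749015 q21787, e3 q23204 L749036 q21914, e3 q23205 L749054 q22254, e3 q23206 L749066 q23206, e3 q23207 (flp_d L749072) q21777, e3 q23208 L749097 q22251, e3 q23209 (flp_d L761995) q24438, e3 q23210 L762035 q24441, e3 q23211 L749137 q21792, e3 q23212 L762062 q24443, e3 q23213 L749164 q21879, e3 q23214 L749187 q21926, e3 q23215 (flp_d L749191) q21784, e3 q23216 (flp_d L762102) q24445, e3 q23217 L762129 q24447, e3 q23218 L749248 q22308, e3 q23219 (flp_d L761929) q24434, e3 q23220 L762180 q24450, e3 q23221 L749299 q21815, e3 q23222 L749307 q21790, e3 q23223 L762220 q24453, e3 q23224 (flp_d L749330) q21791, e3 q23225 L762245 q24455, e3 q23226 (flp_d L749361) q21793, e3 q23227 (flp_d L749373) q21794, e3 q23228 L749395 q23228, e3 q23229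 L762298 q24459, e3 q23230 (flp_d L749415) q21797, e3 q23231 L749442 q22763, trivial⟩ (by decide +kernel)

theorem ce_d_363 : ∀ r, r < 64 → sm gd (Qf (23232 + r)) = Qf (tab Gen.d (23232 + r)) :=
  edges_tab (sm gd) Qf (tab Gen.d) 23232 [(23232, 21799), (23233, 22646), (23234, 24464), (23235, 22815), (23236, 24466), (23237, 21807), (23238, 22271), (23239, 24469), (23240, 21810), (23241, 21919), (23242, 21812), (23243, 24473), (23244, 21813), (23245, 21916), (23246, 21817), (23247, 24451), (23248, 24478), (23249, 24479), (23250, 21818), (23251, 24481), (23252, 21820), (23253, 24480), (23254, 24486), (23255, 21823), (23256, 24488), (23257, 24490), (23258, 21826), (23259, 24487), (23260, 21829), (23261, 21833), (23262, 21831), (23263, 24495), (23264, 24493), (23265, 24484), (23266, 23075), (23267, 21837), (23268, 23268), (23269, 22932), (23270, 23270), (23271, 24502), (23272, 22871), (23273, 23273), (23274, 24505), (23275, 21846), (23276, 24506), (23277, 24507), (23278, 21849), (23279, 21851), (23280, 24509), (23281, 23281), (23282,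 22381), (23283, 22494), (23284, 24512), (23285, 22904), (23286, 23286), (23287, 22095), (23288, 22124), (23289, 22250), (23290, 22988), (23291, 24518), (23292, 24519), (23293, 21867), (23294, 24521), (23295, 21868)]
    ⟨e3 q23232 (flp_d L749444) q21799, e3 q23233 L749470 q22646, e3 q23234 L762370 q24464, e3 q23235 L749496 q22815, e3 q23236 L762402 q24466, e3 q23237 (flp_d L749518) q21807, e3 q23238 L749540 q22271, e3 q23239 L762442 q24469, e3 q23240 (flp_d L749562) q21810, e3 q23241 L749588 q21919, e3 q23242 L749598 q21812, e3 q23243 L762494 q24473, e3 q23244 (flp_d L749626) q21813, e3 q23245 L749659 q21916, e3 q23246 L749669 q21817, e3 q23247 (flp_d L762200) q24451, e3 q23248 L762572 q24478, e3 q23249 L762582 q24479, e3 q23250 (flp_d L749718) q21818, e3 q23251 (flp_d L762608) q24481, e3 q23252 (flp_d L749734) q21820, e3 q23253 (flp_d L762600) q24480, e3 q23254 L762650 q24486, e3 q23255 (flp_d L749766) q21823, e3 q23256 (flp_d L762693) q24488, e3 q23257 L762707 q24490, e3 q23258 (flp_d L749802) q21826, e3 q23259 (flp_d L762675)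 q24487, e3 q23260 (flp_d L749827) q21829, e3 q23261 L749851 q21833, e3 q23262 L749868 q21831, e3 q23263 (flp_d L762778) q24495, e3 q23264 (flp_d L762757) q24493, e3 q23265 (flp_d L762638) q24484, e3 q23266 L749904 q23075, e3 q23267 (flp_d L749920) q21837, e3 q23268 L749943 q23268, e3 q23269 L749953 q22932, e3 q23270 L749959 q23270, e3 q23271 L762871 q24502, e3 q23272 L749995 q22871, e3 q23273 L750005 q23273, e3 q23274 L762913 q24505, e3 q23275 (flp_d L750024) q21846, e3 q23276 (flp_d L762941) q24506, e3 q23277 L762945 q24507, e3 q23278 (flp_d L750066) q21849, e3 q23279 L750090 q21851, e3 q23280 (flp_d L762979) q24509, e3 q23281 L750111 q23281, e3 q23282 L750123 q22381, e3 q23283 L750147 q22494, e3 q23284 L763016 q24512, e3 q23285 L750181 q22904, e3 q23286 L750193 q23286, e3 q23287 L750207 q22095, e3 q23288 L750222 q22124, e3 q23289 L750241 q22250, e3 q23290 L750253 q22988, e3 q23291 L763112 q24518, e3 q23292 L763127 q24519, e3 q23293 L750295 q21867, e3 q23294 L763158 q24521, e3 q23295 (flp_d L750320) q21868, trivial⟩ (by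 decide +kernel)

theorem ce_d_364 : ∀ r, r < 64 → sm gd (Qf (23296 + r)) = Qf (tab Gen.d (23296 + r)) :=
  edges_tab (sm gd) Qf (tab Gen.d) 23296 [(23296, 24523), (23297, 21870), (23298, 21871), (23299, 21873), (23300, 22971), (23301, 21884), (23302, 24527), (23303, 24528), (23304, 21882), (23305, 24530), (23306, 21883), (23307, 24532), (23308, 21885), (23309, 21887), (23310, 22312), (23311, 24536), (23312, 21892), (23313, 21893), (23314, 24539), (23315, 22147), (23316, 24541), (23317, 21897), (23318, 24538), (23319, 24545), (23320, 21900), (23321, 24543), (23322, 21902), (23323, 21904), (23324, 22970), (23325, 22512), (23326, 23326), (23327, 21910), (23328, 22681), (23329, 24550), (23330, 24553), (23331, 21932), (23332, 21933), (23333, 24556), (23334, 22604), (23335, 23335), (23336, 24475), (23337, 24560), (23338, 21920), (23339, 24471), (23340, 24563), (23341, 21921), (23342, 24565), (23343, 21923), (23344, 22529), (23345, 22542), (23346, 24569), (23347, 23045), (23348, 24571), (23349, 21930), (23350, 24573), (23351, 21931),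 (23352, 24554), (23353, 24576), (23354, 21934), (23355, 21936), (23356, 24579), (23357, 21937), (23358, 21941), (23359, 21983)]
    ⟨e3 q23296 L763185 q24523, e3 q23297 (flp_d L750353) q21870, e3 q23298 (flp_d L750363) q21871, e3 q23299 (flp_d L750379) q21873, e3 q23300 L750410 q22971, e3 q23301 L750422 q21884, e3 q23302 L763244 q24527, e3 q23303 L763258 q24528, e3 q23304 L750467 q21882, e3 q23305 L763287 q24530, e3 q23306 (flp_d L750494) q21883, e3 q23307 L763318 q24532, e3 q23308 (flp_d L750529) q21885, e3 q23309 (flp_d L750539) q21887, e3 q23310 L750562 q22312, e3 q23311 L763372 q24536, e3 q23312 (flp_d L750583) q21892, e3 q23313 (flp_d L750595) q21893, e3 q23314 (flp_d L763424) q24539, e3 q23315 L750633 q22147, e3 q23316 L763446 q24541, e3 q23317 (flp_d L750659) q21897, e3 q23318 (flp_d L763410) q24538, e3 q23319 L763490 q24545, e3 q23320 (flp_d L750693) q21900, e3 q23321 (flp_d L763480) q24543, e3 q23322 (flp_d L750721) q21902, e3 q23323 (flp_d L750738) q21904, e3 q23324 L750764 q22970, e3 q23325 L750782 q22512, e3 q23326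 L750794 q23326, e3 q23327 (flp_d L750800) q21910, e3 q23328 L750825 q22681, e3 q23329 (flp_d L763582) q24550, e3 q23330 L763622 q24553, e3 q23331 L750867 q21932, e3 q23332 L750882 q21933, e3 q23333 L763666 q24556, e3 q23334 L750915 q22604, e3 q23335 L750927 q23335, e3 q23336 (flp_d L762534) q24475, e3 q23337 L763723 q24560, e3 q23338 L750960 q21920, e3 q23339 (flp_d L762468) q24471, e3 q23340 L763757 q24563, e3 q23341 (flp_d L750988) q21921, e3 q23342 L763774 q24565, e3 q23343 (flp_d L751009) q21923, e3 q23344 L751027 q22529, e3 q23345 L751040 q22542, e3 q23346 L763822 q24569, e3 q23347 L751067 q23045, e3 q23348 L763850 q24571, e3 q23349 L751095 q21930, e3 q23350 L763878 q24573, e3 q23351 (flp_d L751116) q21931, e3 q23352 (flp_d L763644) q24554, e3 q23353 L763913 q24576, e3 q23354 (flp_d L751157) q21934, e3 q23355 L751173 q21936, e3 q23356 L763948 q24579, e3 q23357 (flp_d L751198) q21937, e3 q23358 L751219 q21941, e3 q23359 L751237 q21983, trivial⟩ (by decide +kernel)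

theorem ce_d_365 : ∀ r, r < 64 → sm gd (Qf (23360 + r)) = Qf (tab Gen.d (23360 + r)) :=
  edges_tab (sm gd) Qf (tab Gen.d) 23360 [(23360, 24583), (23361, 24584), (23362, 21942), (23363, 24586), (23364, 22522), (23365, 24589), (23366, 21946), (23367, 24585), (23368, 21948), (23369, 22869), (23370, 24594), (23371, 21951), (23372, 22647), (23373, 22864), (23374, 24597), (23375, 21957), (23376, 22634), (23377, 24591), (23378, 21960), (23379, 22193), (23380, 22221), (23381, 24602), (23382, 21964), (23383, 22715), (23384, 24605), (23385, 24606), (23386, 21968), (23387, 21969), (23388, 24609), (23389, 22213), (23390, 24612), (23391, 21973), (23392, 24608), (23393, 21976), (23394, 24617), (23395, 21977), (23396, 22568), (23397, 24620), (23398, 24621), (23399, 21981), (23400, 24623), (23401, 24625), (23402, 21984), (23403, 22451), (23404, 24629), (23405, 21987), (23406, 21993), (23407, 21989), (23408, 24633), (23409, 24635), (23410, 21991), (23411, 24630), (23412, 22010), (23413, 24631), (23414, 21994), (23415, 22722), (23416, 23119),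 (23417, 24643), (23418, 21998), (23419, 22675), (23420, 24614), (23421, 22561), (23422, 22716), (23423, 22575)]
    ⟨e3 q23360 L764008 q24583, e3 q23361 L764014 q24584, e3 q23362 (flp_d L751269) q21942, e3 q23363 (flp_d L764044) q24586, e3 q23364 L751290 q22522, e3 q23365 L764077 q24589, e3 q23366 (flp_d L751316) q21946, e3 q23367 (flp_d L764036) q24585, e3 q23368 (flp_d L751330) q21948, e3 q23369 L751358 q22869, e3 q23370 L764126 q24594, e3 q23371 (flp_d L751375) q21951, e3 q23372 L751398 q22647, e3 q23373 L751408 q22864, e3 q23374 L764170 q24597, e3 q23375 (flp_d L751431) q21957, e3 q23376 L751457 q22634, e3 q23377 (flp_d L764103) q24591, e3 q23378 (flp_d L751468) q21960, e3 q23379 L751492 q22193, e3 q23380 L751509 q22221, e3 q23381 L764245 q24602, e3 q23382 (flp_d L751525) q21964, e3 q23383 L751541 q22715, e3 q23384 L764277 q24605, e3 q23385 L764295 q24606, e3 q23386 (flp_d L751579) q21968, e3 q23387 (flp_d L751589) q21969, e3 q23388 (flp_d L764333) q24609, e3 q23389 L751615 q22213, e3 q23390 L764361 q24612, e3 q23391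 (flp_d L751635) q21973, e3 q23392 (flp_d L764323) q24608, e3 q23393 L751659 q21976, e3 q23394 L764419 q24617, e3 q23395 (flp_d L751685) q21977, e3 q23396 L751709 q22568, e3 q23397 L764465 q24620, e3 q23398 L764477 q24621, e3 q23399 (flp_d L751751) q21981, e3 q23400 (flp_d L764507) q24623, e3 q23401 L764525 q24625, e3 q23402 (flp_d L751781) q21984, e3 q23403 L751801 q22451, e3 q23404 L764581 q24629, e3 q23405 (flp_d L751827) q21987, e3 q23406 L751843 q21993, e3 q23407 L751849 q21989, e3 q23408 (flp_d L764627) q24633, e3 q23409 L764647 q24635, e3 q23410 (flp_d L751869) q21991, e3 q23411 (flp_d L764609) q24630, e3 q23412 L751885 q22010, e3 q23413 (flp_d L764613) q24631, e3 q23414 (flp_d L751893) q21994, e3 q23415 L751925 q22722, e3 q23416 L751931 q23119, e3 q23417 L764716 q24643, e3 q23418 (flp_d L751952) q21998, e3 q23419 L751977 q22675, e3 q23420 (flp_d L764393) q24614, e3 q23421 L751991 q22561, e3 q23422 L752014 q22716, e3 q23423 L752036 q22575, trivial⟩ (by decide +kernel)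

theorem ce_d_366 : ∀ r, r < 64 → sm gd (Qf (23424 + r)) = Qf (tab Gen.d (23424 + r)) :=
  edges_tab (sm gd) Qf (tab Gen.d) 23424 [(23424, 22814), (23425, 22007), (23426, 24637), (23427, 22554), (23428, 24649), (23429, 22015), (23430, 22242), (23431, 22673), (23432, 22676), (23433, 22026), (23434, 22975), (23435, 24654), (23436, 24655), (23437, 22024), (23438, 22724), (23439, 22725), (23440, 24641), (23441, 22030), (23442, 24657), (23443, 22032), (23444, 22034), (23445, 24653), (23446, 22035), (23447, 24627), (23448, 22038), (23449, 24661), (23450, 22670), (23451, 22045), (23452, 22046), (23453, 22050), (23454, 22058), (23455, 22052), (23456, 22061), (23457, 22062), (23458, 22087), (23459, 22887), (23460, 22077), (23461, 22079), (23462, 22070), (23463, 22069), (23464, 22884), (23465, 22083), (23466, 22358), (23467, 22173), (23468, 24663), (23469, 22419), (23470, 22192), (23471, 24515), (23472, 24666), (23473, 22990), (23474, 24668), (23475, 22101), (23476, 24669), (23477, 22103), (23478, 22365), (23479, 22212), (23480, 24671),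 (23481, 24672), (23482, 22111), (23483, 24674), (23484, 22113), (23485, 22115), (23486, 22372), (23487, 22412)]
    ⟨e3 q23424 L752046 q22814, e3 q23425 (flp_d L752056) q22007, e3 q23426 (flp_d L764667) q24637, e3 q23427 L752076 q22554, e3 q23428 L764799 q24649, e3 q23429 (flp_d L752098) q22015, e3 q23430 L752123 q22242, e3 q23431 L752127 q22673, e3 q23432 L752151 q22676, e3 q23433 L752166 q22026, e3 q23434 L752175 q22975, e3 q23435 L764870 q24654, e3 q23436 L764887 q24655, e3 q23437 (flp_d L752203) q22024, e3 q23438 L752219 q22724, e3 q23439 L752225 q22725, e3 q23440 (flp_d L764693) q24641, e3 q23441 (flp_d L752248) q22030, e3 q23442 L764908 q24657, e3 q23443 (flp_d L752279) q22032, e3 q23444 L752304 q22034, e3 q23445 (flp_d L764866) q24653, e3 q23446 (flp_d L752319) q22035, e3 q23447 (flp_d L764561) q24627, e3 q23448 L752352 q22038, e3 q23449 (flp_d L764974) q24661, e3 q23450 L752378 q22670, e3 q23451 (flp_d L752384) q22045, e3 q23452 (flp_d L752403) q22046, e3 q23453 (flp_d L752422) q22050, e3 q23454 L752456 q22058, e3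 q23455 (flp_d L752460) q22052, e3 q23456 L752494 q22061, e3 q23457 (flp_d L752498) q22062, e3 q23458 L752532 q22087, e3 q23459 L752553 q22887, e3 q23460 L752571 q22077, e3 q23461 L752591 q22079, e3 q23462 L752610 q22070, e3 q23463 L752629 q22069, e3 q23464 L752648 q22884, e3 q23465 L752667 q22083, e3 q23466 L752679 q22358, e3 q23467 L752701 q22173, e3 q23468 L765001 q24663, e3 q23469 L752729 q22419, e3 q23470 L752753 q22192, e3 q23471 (flp_d L763073) q24515, e3 q23472 L765053 q24666, e3 q23473 L752797 q22990, e3 q23474 L765088 q24668, e3 q23475 (flp_d L752819) q22101, e3 q23476 L765102 q24669, e3 q23477 (flp_d L752852) q22103, e3 q23478 L752877 q22365, e3 q23479 L752901 q22212, e3 q23480 L765137 q24671, e3 q23481 L765149 q24672, e3 q23482 (flp_d L752931) q22111, e3 q23483 L765177 q24674, e3 q23484 (flp_d L752963) q22113, e3 q23485 (flp_d L752973) q22115, e3 q23486 L753002 q22372, e3 q23487 L753019 q22412, trivial⟩ (by decide +kernel)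

theorem ce_d_367 : ∀ r, r < 64 → sm gd (Qf (23488 + r)) = Qf (tab Gen.d (23488 + r)) :=
  edges_tab (sm gd) Qf (tab Gen.d) 23488 [(23488, 22119), (23489, 22303), (23490, 24677), (23491, 24680), (23492, 22132), (23493, 24682), (23494, 24683), (23495, 22453), (23496, 24685), (23497, 22129), (23498, 24687), (23499, 22130), (23500, 22979), (23501, 24690), (23502, 22133), (23503, 22134), (23504, 22180), (23505, 24693), (23506, 22137), (23507, 22201), (23508, 22141), (23509, 24696), (23510, 22146), (23511, 24698), (23512, 22148), (23513, 24700), (23514, 22150), (23515, 24702), (23516, 24704), (23517, 22153), (23518, 24701), (23519, 22226), (23520, 22157), (23521, 22214), (23522, 24706), (23523, 22414), (23524, 24650), (23525, 24547), (23526, 22166), (23527, 22168), (23528, 22486), (23529, 24711), (23530, 24712), (23531, 22174), (23532, 24713), (23533, 24692), (23534, 22177), (23535, 24716), (23536, 22178), (23537, 22179), (23538, 22191), (23539, 22420), (23540, 22184), (23541, 22586), (23542, 24720), (23543, 24723), (23544, 22199),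 (23545, 24725), (23546, 22571), (23547, 24694), (23548, 24727), (23549, 24600), (23550, 24729), (23551, 22197)]
    ⟨e3 q23488 (flp_d L753023) q22119, e3 q23489 L753048 q22303, e3 q23490 (flp_d L765225) q24677, e3 q23491 L765263 q24680, e3 q23492 L753084 q22132, e3 q23493 L765288 q24682, e3 q23494 L765302 q24683, e3 q23495 L753123 q22453, e3 q23496 L765332 q24685, e3 q23497 L753151 q22129, e3 q23498 L765362 q24687, e3 q23499 (flp_d L753170) q22130, e3 q23500 L753189 q22979, e3 q23501 L765395 q24690, e3 q23502 (flp_d L753207) q22133, e3 q23503 (flp_d L753215) q22134, e3 q23504 L753247 q22180, e3 q23505 L765426 q24693, e3 q23506 (flp_d L753265) q22137, e3 q23507 L753285 q22201, e3 q23508 (flp_d L753289) q22141, e3 q23509 L765467 q24696, e3 q23510 (flp_d L753322) q22146, e3 q23511 L765491 q24698, e3 q23512 (flp_d L753342) q22148, e3 q23513 L765515 q24700, e3 q23514 (flp_d L753374) q22150, e3 q23515 (flp_d L765539) q24702, e3 q23516 L765555 q24704, e3 q23517 (flp_d L753400) q22153, e3 q23518 (flp_d L765533) q24701, e3 q23519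 L753422 q22226, e3 q23520 (flp_d L753428) q22157, e3 q23521 L753456 q22214, e3 q23522 (flp_d L765579) q24706, e3 q23523 L753479 q22414, e3 q23524 (flp_d L764818) q24650, e3 q23525 (flp_d L763537) q24547, e3 q23526 (flp_d L753513) q22166, e3 q23527 L753540 q22168, e3 q23528 L753552 q22486, e3 q23529 L765639 q24711, e3 q23530 L765653 q24712, e3 q23531 (flp_d L753585) q22174, e3 q23532 (flp_d L765673) q24713, e3 q23533 (flp_d L765417) q24692, e3 q23534 L753640 q22177, e3 q23535 L765715 q24716, e3 q23536 (flp_d L753661) q22178, e3 q23537 (flp_d L753672) q22179, e3 q23538 L753688 q22191, e3 q23539 L753709 q22420, e3 q23540 (flp_d L753713) q22184, e3 q23541 L753738 q22586, e3 q23542 (flp_d L765762) q24720, e3 q23543 L765804 q24723, e3 q23544 L753782 q22199, e3 q23545 L765833 q24725, e3 q23546 L753809 q22571, e3 q23547 (flp_d L765456) q24694, e3 q23548 L765865 q24727, e3 q23549 (flp_d L764223) q24600, e3 q23550 L765891 q24729, e3 q23551 L753879 q22197, trivial⟩ (by decide +kernel)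

theorem ce_d_368 : ∀ r, r < 64 → sm gd (Qf (23552 + r)) = Qf (tab Gen.d (23552 + r)) :=
  edges_tab (sm gd) Qf (tab Gen.d) 23552 [(23552, 22591), (23553, 24732), (23554, 22198), (23555, 24734), (23556, 22200), (23557, 22202), (23558, 22969), (23559, 22335), (23560, 22206), (23561, 22916), (23562, 24739), (23563, 24740), (23564, 22460), (23565, 24742), (23566, 22217), (23567, 24430), (23568, 24744), (23569, 22220), (23570, 24747), (23571, 22222), (23572, 24749), (23573, 22224), (23574, 24748), (23575, 22283), (23576, 22286), (23577, 22229), (23578, 22233), (23579, 22231), (23580, 24757), (23581, 24755), (23582, 24752), (23583, 24759), (23584, 23584), (23585, 22653), (23586, 24651), (23587, 23587), (23588, 22246), (23589, 22457), (23590, 24762), (23591, 24765), (23592, 22264), (23593, 24767), (23594, 24439), (23595, 24769), (23596, 22510), (23597, 22255), (23598, 24436), (23599, 24773), (23600, 22256), (23601, 24775), (23602, 22258), (23603, 24777), (23604, 22292), (23605, 22262), (23606, 24780), (23607, 22263), (23608, 24782),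 (23609, 22265), (23610, 22267), (23611, 24785), (23612, 22268), (23613, 22310), (23614, 24788), (23615, 24789)]
    ⟨e3 q23552 L753896 q22591, e3 q23553 L765937 q24732, e3 q23554 (flp_d L753918) q22198, e3 q23555 L765954 q24734, e3 q23556 (flp_d L753939) q22200, e3 q23557 (flp_d L753947) q22202, e3 q23558 L753978 q22969, e3 q23559 L753997 q22335, e3 q23560 (flp_d L753999) q22206, e3 q23561 L754023 q22916, e3 q23562 L766011 q24739, e3 q23563 L766021 q24740, e3 q23564 L754053 q22460, e3 q23565 L766045 q24742, e3 q23566 (flp_d L754075) q22217, e3 q23567 (flp_d L761859) q24430, e3 q23568 L766065 q24744, e3 q23569 (flp_d L754107) q22220, e3 q23570 L766101 q24747, e3 q23571 (flp_d L754129) q22222, e3 q23572 (flp_d L766121) q24749, e3 q23573 (flp_d L754143) q22224, e3 q23574 (flp_d L766113) q24748, e3 q23575 L754173 q22283, e3 q23576 L754193 q22286, e3 q23577 (flp_d L754195) q22229, e3 q23578 L754219 q22233, e3 q23579 L754238 q22231, e3 q23580 (flp_d L766209) q24757, e3 q23581 (flp_d L766190) q24755, e3 q23582 (flp_d L766149) q24752,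 e3 q23583 L766232 q24759, e3 q23584 L754294 q23584, e3 q23585 L754304 q22653, e3 q23586 (flp_d L764830) q24651, e3 q23587 L754325 q23587, e3 q23588 (flp_d L754331) q22246, e3 q23589 L754356 q22457, e3 q23590 (flp_d L766286) q24762, e3 q23591 L766326 q24765, e3 q23592 L754394 q22264, e3 q23593 L766349 q24767, e3 q23594 (flp_d L762012) q24439, e3 q23595 L766373 q24769, e3 q23596 L754449 q22510, e3 q23597 L754455 q22255, e3 q23598 (flp_d L761962) q24436, e3 q23599 L766418 q24773, e3 q23600 (flp_d L754479) q22256, e3 q23601 L766431 q24775, e3 q23602 (flp_d L754498) q22258, e3 q23603 L766451 q24777, e3 q23604 L754535 q22292, e3 q23605 L754543 q22262, e3 q23606 L766495 q24780, e3 q23607 (flp_d L754564) q22263, e3 q23608 L766512 q24782, e3 q23609 (flp_d L754587) q22265, e3 q23610 L754601 q22267, e3 q23611 L766543 q24785, e3 q23612 (flp_d L754628) q22268, e3 q23613 L754647 q22310, e3 q23614 L766579 q24788, e3 q23615 L766585 q24789, trivial⟩ (by decide +kernel)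

theorem ce_d_369 : ∀ r, r < 64 → sm gd (Qf (23616 + r)) = Qf (tab Gen.d (23616 + r)) :=
  edges_tab (sm gd) Qf (tab Gen.d) 23616 [(23616, 22272), (23617, 24791), (23618, 24793), (23619, 22275), (23620, 24790), (23621, 22278), (23622, 22893), (23623, 22281), (23624, 24745), (23625, 22284), (23626, 24754), (23627, 24795), (23628, 24802), (23629, 22290), (23630, 22440), (23631, 22294), (23632, 24778), (23633, 24807), (23634, 24808), (23635, 22295), (23636, 24810), (23637, 22297), (23638, 24809), (23639, 22300), (23640, 24815), (23641, 22305), (23642, 24678), (23643, 24818), (23644, 24819), (23645, 22306), (23646, 24821), (23647, 24448), (23648, 24824), (23649, 24825), (23650, 22311), (23651, 24828), (23652, 22313), (23653, 22319), (23654, 22315), (23655, 24833), (23656, 24835), (23657, 22317), (23658, 24829), (23659, 22334), (23660, 24831), (23661, 22320), (23662, 24812), (23663, 22323), (23664, 22325), (23665, 24843), (23666, 22326), (23667, 22333), (23668, 24830), (23669, 22330), (23670, 24736), (23671, 24837), (23672, 24847),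 (23673, 24848), (23674, 24849), (23675, 22342), (23676, 24851), (23677, 22344), (23678, 22346), (23679, 24853)]
    ⟨e3 q23616 (flp_d L754669) q22272, e3 q23617 (flp_d L766607) q24791, e3 q23618 L766616 q24793, e3 q23619 (flp_d L754694) q22275, e3 q23620 (flp_d L766599) q24790, e3 q23621 (flp_d L754706) q22278, e3 q23622 L754732 q22893, e3 q23623 (flp_d L754734) q22281, e3 q23624 (flp_d L766089) q24745, e3 q23625 (flp_d L754753) q22284, e3 q23626 (flp_d L766165) q24754, e3 q23627 (flp_d L766638) q24795, e3 q23628 L766702 q24802, e3 q23629 (flp_d L754782) q22290, e3 q23630 L754805 q22440, e3 q23631 L754813 q22294, e3 q23632 (flp_d L766473) q24778, e3 q23633 L766762 q24807, e3 q23634 L766770 q24808, e3 q23635 (flp_d L754856) q22295, e3 q23636 (flp_d L766790) q24810, e3 q23637 (flp_d L754870) q22297, e3 q23638 (flp_d L766782) q24809, e3 q23639 L754894 q22300, e3 q23640 L766832 q24815, e3 q23641 L754928 q22305, e3 q23642 (flp_d L765242) q24678, e3 q23643 L766871 q24818, e3 q23644 L766881 q24819, e3 q23645 (flp_d L754975) q22306,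 e3 q23646 (flp_d L766909) q24821, e3 q23647 (flp_d L762154) q24448, e3 q23648 L766934 q24824, e3 q23649 L766940 q24825, e3 q23650 (flp_d L755019) q22311, e3 q23651 L766962 q24828, e3 q23652 (flp_d L755035) q22313, e3 q23653 L755043 q22319, e3 q23654 L755049 q22315, e3 q23655 (flp_d L766992) q24833, e3 q23656 L767004 q24835, e3 q23657 (flp_d L755065) q22317, e3 q23658 (flp_d L766972) q24829, e3 q23659 L755083 q22334, e3 q23660 (flp_d L766980) q24831, e3 q23661 (flp_d L755091) q22320, e3 q23662 (flp_d L766808) q24812, e3 q23663 (flp_d L755108) q22323, e3 q23664 L755138 q22325, e3 q23665 (flp_d L767080) q24843, e3 q23666 (flp_d L755152) q22326, e3 q23667 L755168 q22333, e3 q23668 (flp_d L766976) q24830, e3 q23669 L755175 q22330, e3 q23670 (flp_d L765978) q24736, e3 q23671 (flp_d L767030) q24837, e3 q23672 L767110 q24847, e3 q23673 L767112 q24848, e3 q23674 L767126 q24849, e3 q23675 (flp_d L755224) q22342, e3 q23676 L767143 q24851, e3 q23677 (flp_d L755245) q22344, e3 q23678 L755261 q22346, e3 q23679 L767165 q24853, trivial⟩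 (by decide +kernel)

theorem ce_d_370 : ∀ r, r < 64 → sm gd (Qf (23680 + r)) = Qf (tab Gen.d (23680 + r)) :=
  edges_tab (sm gd) Qf (tab Gen.d) 23680 [(23680, 22348), (23681, 24854), (23682, 22350), (23683, 22352), (23684, 22353), (23685, 22665), (23686, 24827), (23687, 23132), (23688, 22357), (23689, 24861), (23690, 24862), (23691, 22361), (23692, 22362), (23693, 22363), (23694, 24865), (23695, 22367), (23696, 22368), (23697, 22987), (23698, 24868), (23699, 22383), (23700, 24871), (23701, 24872), (23702, 22377), (23703, 24874), (23704, 22379), (23705, 22421), (23706, 24877), (23707, 24878), (23708, 22384), (23709, 22385), (23710, 22982), (23711, 22387), (23712, 24881), (23713, 24884), (23714, 24885), (23715, 22393), (23716, 22394), (23717, 22395), (23718, 24887), (23719, 22397), (23720, 22398), (23721, 22399), (23722, 22404), (23723, 24895), (23724, 22402), (23725, 24893), (23726, 22409), (23727, 24894), (23728, 24889), (23729, 22406), (23730, 24897), (23731, 24902), (23732, 22895), (23733, 22972), (23734, 22415), (23735,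 24905), (23736, 22418), (23737, 24907), (23738, 24908), (23739, 22422), (23740, 22423), (23741, 24911), (23742, 22425), (23743, 24913)]
    ⟨e3 q23680 (flp_d L755276) q22348, e3 q23681 L767180 q24854, e3 q23682 (flp_d L755303) q22350, e3 q23683 L755327 q22352, e3 q23684 (flp_d L755329) q22353, e3 q23685 L755348 q22665, e3 q23686 (flp_d L766960) q24827, e3 q23687 L755367 q23132, e3 q23688 L755371 q22357, e3 q23689 L767258 q24861, e3 q23690 L767270 q24862, e3 q23691 (flp_d L755403) q22361, e3 q23692 (flp_d L755418) q22362, e3 q23693 (flp_d L755430) q22363, e3 q23694 L767309 q24865, e3 q23695 (flp_d L755460) q22367, e3 q23696 (flp_d L755470) q22368, e3 q23697 L755488 q22987, e3 q23698 (flp_d L767349) q24868, e3 q23699 L755506 q22383, e3 q23700 L767374 q24871, e3 q23701 L767384 q24872, e3 q23702 (flp_d L755531) q22377, e3 q23703 L767402 q24874, e3 q23704 (flp_d L755549) q22379, e3 q23705 L755567 q22421, e3 q23706 L767435 q24877, e3 q23707 L767447 q24878, e3 q23708 (flp_d L755602) q22384, e3 q23709 (flp_d L755612) q22385, e3 q23710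 L755630 q22982, e3 q23711 (flp_d L755632) q22387, e3 q23712 (flp_d L767485) q24881, e3 q23713 L767512 q24884, e3 q23714 L767528 q24885, e3 q23715 (flp_d L755681) q22393, e3 q23716 (flp_d L755689) q22394, e3 q23717 (flp_d L755705) q22395, e3 q23718 (flp_d L767560) q24887, e3 q23719 (flp_d L755717) q22397, e3 q23720 (flp_d L755735) q22398, e3 q23721 (flp_d L755753) q22399, e3 q23722 L755779 q22404, e3 q23723 L767642 q24895, e3 q23724 (flp_d L755793) q22402, e3 q23725 (flp_d L767630) q24893, e3 q23726 L755807 q22409, e3 q23727 (flp_d L767634) q24894, e3 q23728 (flp_d L767574) q24889, e3 q23729 (flp_d L755827) q22406, e3 q23730 (flp_d L767666) q24897, e3 q23731 L767694 q24902, e3 q23732 L755868 q22895, e3 q23733 L755879 q22972, e3 q23734 (flp_d L755881) q22415, e3 q23735 L767724 q24905, e3 q23736 (flp_d L755904) q22418, e3 q23737 L767746 q24907, e3 q23738 L767756 q24908, e3 q23739 (flp_d L755938) q22422, e3 q23740 (flp_d L755949) q22423, e3 q23741 L767777 q24911, e3 q23742 (flp_d L755964) q22425, e3 q23743 (flp_d L767797) q24913,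 trivial⟩ (by decide +kernel)

theorem ce_d_371 : ∀ r, r < 64 → sm gd (Qf (23744 + r)) = Qf (tab Gen.d (23744 + r)) :=
  edges_tab (sm gd) Qf (tab Gen.d) 23744 [(23744, 24912), (23745, 22441), (23746, 24916), (23747, 22820), (23748, 24918), (23749, 22434), (23750, 24920), (23751, 22436), (23752, 22993), (23753, 24923), (23754, 24804), (23755, 24925), (23756, 22442), (23757, 22443), (23758, 23113), (23759, 24930), (23760, 22446), (23761, 22762), (23762, 22765), (23763, 24928), (23764, 22846), (23765, 24935), (23766, 24936), (23767, 22454), (23768, 22458), (23769, 24939), (23770, 24763), (23771, 24941), (23772, 22459), (23773, 24943), (23774, 22461), (23775, 24942), (23776, 22842), (23777, 24948), (23778, 22465), (23779, 22782), (23780, 24951), (23781, 24952), (23782, 22469), (23783, 22470), (23784, 22473), (23785, 24954), (23786, 22483), (23787, 24956), (23788, 24960), (23789, 22475), (23790, 22479), (23791, 22477), (23792, 24961), (23793, 24945), (23794, 22482), (23795, 24955), (23796, 24967), (23797, 23797), (23798, 24432),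 (23799, 24860), (23800, 22487), (23801, 22663), (23802, 24971), (23803, 24972), (23804, 22539), (23805, 24642), (23806, 22832), (23807, 24975)]
    ⟨e3 q23744 (flp_d L767791) q24912, e3 q23745 L755985 q22441, e3 q23746 L767818 q24916, e3 q23747 L756014 q22820, e3 q23748 L767845 q24918, e3 q23749 (flp_d L756035) q22434, e3 q23750 L767871 q24920, e3 q23751 (flp_d L756057) q22436, e3 q23752 L756075 q22993, e3 q23753 L767904 q24923, e3 q23754 (flp_d L766726) q24804, e3 q23755 L767932 q24925, e3 q23756 (flp_d L756122) q22442, e3 q23757 (flp_d L756132) q22443, e3 q23758 L756150 q23113, e3 q23759 L767984 q24930, e3 q23760 (flp_d L756163) q22446, e3 q23761 L756186 q22762, e3 q23762 L756197 q22765, e3 q23763 (flp_d L767970) q24928, e3 q23764 L756216 q22846, e3 q23765 L768044 q24935, e3 q23766 L768058 q24936, e3 q23767 (flp_d L756248) q22454, e3 q23768 L756262 q22458, e3 q23769 L768087 q24939, e3 q23770 (flp_d L766303) q24763, e3 q23771 L768115 q24941, e3 q23772 (flp_d L756309) q22459, e3 q23773 L768139 q24943, e3 q23774 (flp_d L756329)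 q22461, e3 q23775 (flp_d L768137) q24942, e3 q23776 L756349 q22842, e3 q23777 L768181 q24948, e3 q23778 (flp_d L756371) q22465, e3 q23779 L756389 q22782, e3 q23780 L768218 q24951, e3 q23781 L768226 q24952, e3 q23782 (flp_d L756417) q22469, e3 q23783 (flp_d L756427) q22470, e3 q23784 L756445 q22473, e3 q23785 (flp_d L768260) q24954, e3 q23786 L756457 q22483, e3 q23787 (flp_d L768274) q24956, e3 q23788 L768298 q24960, e3 q23789 (flp_d L756476) q22475, e3 q23790 L756501 q22479, e3 q23791 (flp_d L756503) q22477, e3 q23792 (flp_d L768321) q24961, e3 q23793 (flp_d L768159) q24945, e3 q23794 L756539 q22482, e3 q23795 (flp_d L768268) q24955, e3 q23796 L768376 q24967, e3 q23797 L756566 q23797, e3 q23798 (flp_d L761902) q24432, e3 q23799 (flp_d L767252) q24860, e3 q23800 (flp_d L756585) q22487, e3 q23801 L756602 q22663, e3 q23802 L768404 q24971, e3 q23803 L768418 q24972, e3 q23804 L756639 q22539, e3 q23805 (flp_d L764709) q24642, e3 q23806 L756668 q22832, e3 q23807 L768461 q24975, trivial⟩ (by decide +kernel)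

theorem ce_d_372 : ∀ r, r < 64 → sm gd (Qf (23808 + r)) = Qf (tab Gen.d (23808 + r)) :=
  edges_tab (sm gd) Qf (tab Gen.d) 23808 [(23808, 22499), (23809, 22530), (23810, 24977), (23811, 22502), (23812, 22740), (23813, 24980), (23814, 22507), (23815, 23065), (23816, 24983), (23817, 22508), (23818, 22513), (23819, 24770), (23820, 24988), (23821, 24548), (23822, 24990), (23823, 22514), (23824, 24992), (23825, 24994), (23826, 22517), (23827, 24991), (23828, 24998), (23829, 23054), (23830, 25000), (23831, 22523), (23832, 25002), (23833, 22801), (23834, 25004), (23835, 22528), (23836, 24567), (23837, 25007), (23838, 22531), (23839, 25005), (23840, 25011), (23841, 22534), (23842, 22606), (23843, 25014), (23844, 25015), (23845, 22538), (23846, 25017), (23847, 22540), (23848, 22545), (23849, 25021), (23850, 22543), (23851, 25018), (23852, 22559), (23853, 25020), (23854, 25027), (23855, 22547), (23856, 25028), (23857, 22550), (23858, 22861), (23859, 25009), (23860, 22650), (23861, 24645), (23862, 25019), (23863, 22556), (23864, 22644),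 (23865, 25023), (23866, 22642), (23867, 25037), (23868, 22632), (23869, 25038), (23870, 25039), (23871, 22835)]
    ⟨e3 q23808 (flp_d L756687) q22499, e3 q23809 L756700 q22530, e3 q23810 L768478 q24977, e3 q23811 (flp_d L756714) q22502, e3 q23812 L756726 q22740, e3 q23813 L768504 q24980, e3 q23814 L756753 q22507, e3 q23815 L756767 q23065, e3 q23816 L768544 q24983, e3 q23817 (flp_d L756782) q22508, e3 q23818 L756799 q22513, e3 q23819 (flp_d L766391) q24770, e3 q23820 L768599 q24988, e3 q23821 (flp_d L763549) q24548, e3 q23822 L768620 q24990, e3 q23823 (flp_d L756851) q22514, e3 q23824 (flp_d L768634) q24992, e3 q23825 L768641 q24994, e3 q23826 (flp_d L756872) q22517, e3 q23827 (flp_d L768628) q24991, e3 q23828 L768670 q24998, e3 q23829 L756902 q23054, e3 q23830 L768695 q25000, e3 q23831 (flp_d L756918) q22523, e3 q23832 L768711 q25002, e3 q23833 L756946 q22801, e3 q23834 L768743 q25004, e3 q23835 (flp_d L756970) q22528, e3 q23836 (flp_d L763802) q24567, e3 q23837 L768783 q25007, e3 q23838 (flp_d L757002) q22531, e3 q23839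 (flp_d L768767) q25005, e3 q23840 L768811 q25011, e3 q23841 (flp_d L757028) q22534, e3 q23842 L757046 q22606, e3 q23843 L768849 q25014, e3 q23844 L768859 q25015, e3 q23845 (flp_d L757076) q22538, e3 q23846 L768885 q25017, e3 q23847 (flp_d L757104) q22540, e3 q23848 L757122 q22545, e3 q23849 L768927 q25021, e3 q23850 (flp_d L757134) q22543, e3 q23851 (flp_d L768905) q25018, e3 q23852 L757152 q22559, e3 q23853 (flp_d L768919) q25020, e3 q23854 L768969 q25027, e3 q23855 (flp_d L757175) q22547, e3 q23856 L768986 q25028, e3 q23857 (flp_d L757202) q22550, e3 q23858 L757219 q22861, e3 q23859 (flp_d L768803) q25009, e3 q23860 L757230 q22650, e3 q23861 (flp_d L764747) q24645, e3 q23862 (flp_d L768913) q25019, e3 q23863 (flp_d L757270) q22556, e3 q23864 L757290 q22644, e3 q23865 (flp_d L768949) q25023, e3 q23866 L757301 q22642, e3 q23867 L769087 q25037, e3 q23868 L757333 q22632, e3 q23869 L769095 q25038, e3 q23870 L769109 q25039, e3 q23871 L757365 q22835, trivial⟩ (by decide +kernel)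

theorem ce_d_373 : ∀ r, r < 64 → sm gd (Qf (23872 + r)) = Qf (tab Gen.d (23872 + r)) :=
  edges_tab (sm gd) Qf (tab Gen.d) 23872 [(23872, 25041), (23873, 22569), (23874, 25043), (23875, 25045), (23876, 22572), (23877, 25042), (23878, 25049), (23879, 22578), (23880, 25050), (23881, 22579), (23882, 22587), (23883, 22837), (23884, 25054), (23885, 25055), (23886, 22585), (23887, 24721), (23888, 25058), (23889, 22588), (23890, 22594), (23891, 22590), (23892, 25063), (23893, 22592), (23894, 25059), (23895, 22631), (23896, 25061), (23897, 22595), (23898, 22599), (23899, 25071), (23900, 22598), (23901, 25073), (23902, 22600), (23903, 24622), (23904, 22602), (23905, 22610), (23906, 24557), (23907, 25080), (23908, 25081), (23909, 22607), (23910, 22608), (23911, 24826), (23912, 22666), (23913, 25089), (23914, 22611), (23915, 22618), (23916, 22639), (23917, 22620), (23918, 23021), (23919, 22615), (23920, 22616), (23921, 25090), (23922, 22643), (23923, 25092), (23924, 25104), (23925, 25095), (23926, 22621), (23927, 25106), (23928, 22624),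 (23929, 22630), (23930, 25060), (23931, 22628), (23932, 25107), (23933, 25065), (23934, 25033), (23935, 25117)]
    ⟨e3 q23872 L769136 q25041, e3 q23873 (flp_d L757381) q22569, e3 q23874 (flp_d L769164) q25043, e3 q23875 L769183 q25045, e3 q23876 (flp_d L757410) q22572, e3 q23877 (flp_d L769148) q25042, e3 q23878 L769206 q25049, e3 q23879 L757444 q22578, e3 q23880 L769220 q25050, e3 q23881 (flp_d L757465) q22579, e3 q23882 L757475 q22587, e3 q23883 L757488 q22837, e3 q23884 L769258 q25054, e3 q23885 L769266 q25055, e3 q23886 (flp_d L757518) q22585, e3 q23887 (flp_d L765779) q24721, e3 q23888 L769300 q25058, e3 q23889 (flp_d L757544) q22588, e3 q23890 L757554 q22594, e3 q23891 L757564 q22590, e3 q23892 L769336 q25063, e3 q23893 (flp_d L757574) q22592, e3 q23894 (flp_d L769310) q25059, e3 q23895 L757588 q22631, e3 q23896 (flp_d L769320) q25061, e3 q23897 (flp_d L757594) q22595, e3 q23898 L757606 q22599, e3 q23899 L769385 q25071, e3 q23900 (flp_d L757620) q22598, e3 q23901 L769401 q25073, e3 q23902 (flp_d L757646) q22600, e3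 q23903 (flp_d L764499) q24622, e3 q23904 L757666 q22602, e3 q23905 L757674 q22610, e3 q23906 (flp_d L763686) q24557, e3 q23907 L769459 q25080, e3 q23908 L769467 q25081, e3 q23909 (flp_d L757702) q22607, e3 q23910 (flp_d L757708) q22608, e3 q23911 (flp_d L766952) q24826, e3 q23912 L757730 q22666, e3 q23913 L769530 q25089, e3 q23914 (flp_d L757742) q22611, e3 q23915 L757752 q22618, e3 q23916 L757756 q22639, e3 q23917 L757760 q22620, e3 q23918 L757774 q23021, e3 q23919 L757780 q22615, e3 q23920 (flp_d L757784) q22616, e3 q23921 (flp_d L769542) q25090, e3 q23922 L757800 q22643, e3 q23923 (flp_d L769552) q25092, e3 q23924 L769632 q25104, e3 q23925 (flp_d L769572) q25095, e3 q23926 (flp_d L757814) q22621, e3 q23927 L769643 q25106, e3 q23928 (flp_d L757836) q22624, e3 q23929 L757851 q22630, e3 q23930 (flp_d L769316) q25060, e3 q23931 (flp_d L757858) q22628, e3 q23932 (flp_d L769663) q25107, e3 q23933 (flp_d L769350) q25065, e3 q23934 (flp_d L769050) q25033, e3 q23935 L769746 q25117, trivial⟩ (by decide +kernel)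

theorem ce_d_374 : ∀ r, r < 64 → sm gd (Qf (23936 + r)) = Qf (tab Gen.d (23936 + r)) :=
  edges_tab (sm gd) Qf (tab Gen.d) 23936 [(23936, 24460), (23937, 24595), (23938, 25075), (23939, 22636), (23940, 25091), (23941, 25120), (23942, 25094), (23943, 25031), (23944, 25099), (23945, 25122), (23946, 24462), (23947, 25124), (23948, 22645), (23949, 23121), (23950, 23126), (23951, 23951), (23952, 22978), (23953, 23953), (23954, 25130), (23955, 24761), (23956, 23956), (23957, 25133), (23958, 22655), (23959, 25135), (23960, 22659), (23961, 25137), (23962, 22661), (23963, 25125), (23964, 24856), (23965, 25085), (23966, 25142), (23967, 25088), (23968, 22709), (23969, 22872), (23970, 22672), (23971, 23971), (23972, 24652), (23973, 24500), (23974, 24551), (23975, 22685), (23976, 24422), (23977, 22687), (23978, 22688), (23979, 24419), (23980, 24416), (23981, 22691), (23982, 22692), (23983, 25155), (23984, 25157), (23985, 22695), (23986, 25159), (23987, 22697), (23988, 25161), (23989, 22699), (23990, 22703), (23991, 22701), (23992, 25162),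 (23993, 25164), (23994, 22704), (23995, 22706), (23996, 25163), (23997, 25170), (23998, 22710), (23999, 22711)]
    ⟨e3 q23936 (flp_d L762325) q24460, e3 q23937 (flp_d L764155) q24595, e3 q23938 (flp_d L769421) q25075, e3 q23939 (flp_d L757932) q22636, e3 q23940 (flp_d L769548) q25091, e3 q23941 L769764 q25120, e3 q23942 (flp_d L769564) q25094, e3 q23943 (flp_d L769017) q25031, e3 q23944 (flp_d L769608) q25099, e3 q23945 L769784 q25122, e3 q23946 (flp_d L762355) q24462, e3 q23947 L769806 q25124, e3 q23948 (flp_d L758014) q22645, e3 q23949 L758026 q23121, e3 q23950 L758032 q23126, e3 q23951 L758043 q23951, e3 q23952 L758053 q22978, e3 q23953 L758057 q23953, e3 q23954 L769862 q25130, e3 q23955 (flp_d L766269) q24761, e3 q23956 L758081 q23956, e3 q23957 L769889 q25133, e3 q23958 (flp_d L758098) q22655, e3 q23959 L769906 q25135, e3 q23960 (flp_d L758117) q22659, e3 q23961 L769929 q25137, e3 q23962 (flp_d L758140) q22661, e3 q23963 (flp_d L769814) q25125, e3 q23964 (flp_d L767218) q24856, e3 q23965 (flp_d L769502) q25085, e3 q23966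 L769974 q25142, e3 q23967 (flp_d L769526) q25088, e3 q23968 L758205 q22709, e3 q23969 L758225 q22872, e3 q23970 (flp_d L758227) q22672, e3 q23971 L758245 q23971, e3 q23972 (flp_d L764849) q24652, e3 q23973 L762854 q24500, e3 q23974 (flp_d L763599) q24551, e3 q23975 (flp_d L758269) q22685, e3 q23976 (flp_d L761757) q24422, e3 q23977 (flp_d L758295) q22687, e3 q23978 (flp_d L758311) q22688, e3 q23979 (flp_d L761715) q24419, e3 q23980 (flp_d L761669) q24416, e3 q23981 (flp_d L758345) q22691, e3 q23982 (flp_d L758357) q22692, e3 q23983 (flp_d L770126) q25155, e3 q23984 L770140 q25157, e3 q23985 (flp_d L758389) q22695, e3 q23986 L770162 q25159, e3 q23987 (flp_d L758414) q22697, e3 q23988 L770188 q25161, e3 q23989 (flp_d L758440) q22699, e3 q23990 L758450 q22703, e3 q23991 (flp_d L758452) q22701, e3 q23992 (flp_d L770208) q25162, e3 q23993 (flp_d L770220) q25164, e3 q23994 (flp_d L758478) q22704, e3 q23995 (flp_d L758489) q22706, e3 q23996 (flp_d L770216) q25163, e3 q23997 L770266 q25170, e3 q23998 (flp_d L758521) q22710, e3 q23999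 (flp_d L758534) q22711, trivial⟩ (by decide +kernel)

theorem ce_d_375 : ∀ r, r < 64 → sm gd (Qf (24000 + r)) = Qf (tab Gen.d (24000 + r)) :=
  edges_tab (sm gd) Qf (tab Gen.d) 24000 [(24000, 22712), (24001, 25097), (24002, 24626), (24003, 25176), (24004, 22717), (24005, 25178), (24006, 22721), (24007, 22720), (24008, 25179), (24009, 23133), (24010, 22727), (24011, 24880), (24012, 25184), (24013, 22730), (24014, 25186), (24015, 25185), (24016, 23035), (24017, 25189), (24018, 25190), (24019, 22737), (24020, 25192), (24021, 22739), (24022, 25194), (24023, 22741), (24024, 22744), (24025, 25197), (24026, 25198), (24027, 22745), (24028, 25200), (24029, 22747), (24030, 25199), (24031, 25204), (24032, 22750), (24033, 25206), (24034, 25208), (24035, 22753), (24036, 22754), (24037, 22758), (24038, 22756), (24039, 25215), (24040, 25211), (24041, 25213), (24042, 24457), (24043, 22760), (24044, 24931), (24045, 24461), (24046, 25212), (24047, 22766), (24048, 23152), (24049, 25145), (24050, 22769), (24051, 22771), (24052, 25225), (24053,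 22772), (24054, 24054), (24055, 22774), (24056, 25230), (24057, 25210), (24058, 22777), (24059, 24059), (24060, 24060), (24061, 24593), (24062, 25232), (24063, 22783)]
    ⟨e3 q24000 (flp_d L758550) q22712, e3 q24001 (flp_d L769592) q25097, e3 q24002 (flp_d L764549) q24626, e3 q24003 L770335 q25176, e3 q24004 (flp_d L758602) q22717, e3 q24005 (flp_d L770357) q25178, e3 q24006 L758620 q22721, e3 q24007 L758626 q22720, e3 q24008 (flp_d L770361) q25179, e3 q24009 L758644 q23133, e3 q24010 (flp_d L758650) q22727, e3 q24011 (flp_d L767477) q24880, e3 q24012 L770405 q25184, e3 q24013 (flp_d L758679) q22730, e3 q24014 (flp_d L770425) q25186, e3 q24015 (flp_d L770417) q25185, e3 q24016 L758708 q23035, e3 q24017 L770445 q25189, e3 q24018 L770458 q25190, e3 q24019 (flp_d L758739) q22737, e3 q24020 L770480 q25192, e3 q24021 (flp_d L758759) q22739, e3 q24022 L770494 q25194, e3 q24023 (flp_d L758775) q22741, e3 q24024 L758791 q22744, e3 q24025 L770519 q25197, e3 q24026 L770529 q25198, e3 q24027 (flp_d L758824) q22745, e3 q24028 (flp_d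 L770553) q25200, e3 q24029 (flp_d L758840) q22747, e3 q24030 (flp_d L770545) q25199, e3 q24031 L770587 q25204, e3 q24032 (flp_d L758872) q22750, e3 q24033 (flp_d L770605) q25206, e3 q24034 L770619 q25208, e3 q24035 (flp_d L758897) q22753, e3 q24036 (flp_d L758905) q22754, e3 q24037 L758915 q22758, e3 q24038 L758921 q22756, e3 q24039 (flp_d L770679) q25215, e3 q24040 (flp_d L770655) q25211, e3 q24041 (flp_d L770665) q25213, e3 q24042 (flp_d L762281) q24457, e3 q24043 (flp_d L758958) q22760, e3 q24044 (flp_d L768005) q24931, e3 q24045 (flp_d L762335) q24461, e3 q24046 (flp_d L770661) q25212, e3 q24047 (flp_d L758998) q22766, e3 q24048 L759021 q23152, e3 q24049 (flp_d L770021) q25145, e3 q24050 (flp_d L759030) q22769, e3 q24051 L759054 q22771, e3 q24052 (flp_d L770783) q25225, e3 q24053 (flp_d L759067) q22772, e3 q24054 L759082 q24054, e3 q24055 L759090 q22774, e3 q24056 (flp_d L770824) q25230, e3 q24057 (flp_d L770647) q25210, e3 q24058 L759115 q22777, e3 q24059 L759127 q24059, e3 q24060 L759137 q24060, e3 q24061 (flp_d L764119)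 q24593, e3 q24062 L770837 q25232, e3 q24063 (flp_d L759168) q22783, trivial⟩ (by decide +kernel)

theorem ce_d_376 : ∀ r, r < 64 → sm gd (Qf (24064 + r)) = Qf (tab Gen.d (24064 + r)) :=
  edges_tab (sm gd) Qf (tab Gen.d) 24064 [(24064, 25235), (24065, 22785), (24066, 25237), (24067, 25236), (24068, 22789), (24069, 25240), (24070, 22790), (24071, 22791), (24072, 22793), (24073, 25244), (24074, 22794), (24075, 22825), (24076, 25247), (24077, 22797), (24078, 25249), (24079, 25248), (24080, 25251), (24081, 25252), (24082, 22802), (24083, 25254), (24084, 25255), (24085, 25256), (24086, 22806), (24087, 22807), (24088, 22812), (24089, 22809), (24090, 22810), (24091, 25259), (24092, 25260), (24093, 25265), (24094, 22816), (24095, 25267), (24096, 22818), (24097, 25266), (24098, 25272), (24099, 22821), (24100, 25274), (24101, 23040), (24102, 25276), (24103, 25277), (24104, 22826), (24105, 22827), (24106, 22831), (24107, 22829), (24108, 25284), (24109, 25280), (24110, 25282), (24111, 25288), (24112, 22833), (24113, 25290), (24114, 25291),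 (24115, 22836), (24116, 25294), (24117, 22838), (24118, 23101), (24119, 22840), (24120, 25299), (24121, 25300), (24122, 22843), (24123, 22844), (24124, 25160), (24125, 22881), (24126, 25308), (24127, 22847)]
    ⟨e3 q24064 L770869 q25235, e3 q24065 (flp_d L759188) q22785, e3 q24066 (flp_d L770893) q25237, e3 q24067 (flp_d L770885) q25236, e3 q24068 L759217 q22789, e3 q24069 L770914 q25240, e3 q24070 (flp_d L759232) q22790, e3 q24071 (flp_d L759242) q22791, e3 q24072 L759256 q22793, e3 q24073 L770946 q25244, e3 q24074 (flp_d L759277) q22794, e3 q24075 L759294 q22825, e3 q24076 L770978 q25247, e3 q24077 (flp_d L759310) q22797, e3 q24078 (flp_d L771002) q25249, e3 q24079 (flp_d L770994) q25248, e3 q24080 L771016 q25251, e3 q24081 L771022 q25252, e3 q24082 (flp_d L759358) q22802, e3 q24083 (flp_d L771048) q25254, e3 q24084 L771050 q25255, e3 q24085 L771058 q25256, e3 q24086 (flp_d L759386) q22806, e3 q24087 (flp_d L759390) q22807, e3 q24088 L759402 q22812, e3 q24089 L759408 q22809, e3 q24090 (flp_d L759410) q22810, e3 q24091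 (flp_d L771081) q25259, e3 q24092 (flp_d L771085) q25260, e3 q24093 L771123 q25265, e3 q24094 (flp_d L759445) q22816, e3 q24095 (flp_d L771137) q25267, e3 q24096 (flp_d L759457) q22818, e3 q24097 (flp_d L771131) q25266, e3 q24098 L771161 q25272, e3 q24099 (flp_d L759481) q22821, e3 q24100 (flp_d L771183) q25274, e3 q24101 L759501 q23040, e3 q24102 L771196 q25276, e3 q24103 L771204 q25277, e3 q24104 (flp_d L759525) q22826, e3 q24105 (flp_d L759531) q22827, e3 q24106 L759543 q22831, e3 q24107 L759549 q22829, e3 q24108 (flp_d L771256) q25284, e3 q24109 (flp_d L771232) q25280, e3 q24110 (flp_d L771244) q25282, e3 q24111 L771284 q25288, e3 q24112 (flp_d L759591) q22833, e3 q24113 L771302 q25290, e3 q24114 L771310 q25291, e3 q24115 (flp_d L759610) q22836, e3 q24116 L771328 q25294, e3 q24117 (flp_d L759632) q22838, e3 q24118 L759640 q23101, e3 q24119 L759646 q22840, e3 q24120 L771362 q25299, e3 q24121 L771372 q25300, e3 q24122 (flp_d L759666) q22843, e3 q24123 (flp_d L759672) q22844, e3 q24124 (flp_d L770186) q25160, e3 q24125 L759684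 q22881, e3 q24126 L771415 q25308, e3 q24127 (flp_d L759694) q22847, trivial⟩ (by decide +kernel)

theorem ce_d_377 : ∀ r, r < 64 → sm gd (Qf (24128 + r)) = Qf (tab Gen.d (24128 + r)) :=
  edges_tab (sm gd) Qf (tab Gen.d) 24128 [(24128, 22854), (24129, 22868), (24130, 22855), (24131, 25180), (24132, 22851), (24133, 22852), (24134, 25309), (24135, 25311), (24136, 25313), (24137, 25319), (24138, 22857), (24139, 22858), (24140, 25281), (24141, 25029), (24142, 22862), (24143, 25296), (24144, 22866), (24145, 25310), (24146, 24503), (24147, 22873), (24148, 25279), (24149, 22876), (24150, 25325), (24151, 22877), (24152, 25293), (24153, 25304), (24154, 25307), (24155, 22888), (24156, 22889), (24157, 22890), (24158, 25331), (24159, 25330), (24160, 24798), (24161, 24499), (24162, 24903), (24163, 22906), (24164, 25335), (24165, 22899), (24166, 25337), (24167, 25336), (24168, 24412), (24169, 24820), (24170, 24513), (24171, 25342), (24172, 25343), (24173, 22907), (24174, 22908), (24175, 22912), (24176, 22910), (24177, 25350), (24178, 25346),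 (24179, 25348), (24180, 25347), (24181, 22915), (24182, 24737), (24183, 22917), (24184, 25345), (24185, 22920), (24186, 24969), (24187, 25357), (24188, 22923), (24189, 25359), (24190, 25358), (24191, 22926)]
    ⟨e3 q24128 L759702 q22854, e3 q24129 L759706 q22868, e3 q24130 L759710 q22855, e3 q24131 (flp_d L770371) q25180, e3 q24132 L759718 q22851, e3 q24133 (flp_d L759720) q22852, e3 q24134 (flp_d L771423) q25309, e3 q24135 (flp_d L771433) q25311, e3 q24136 (flp_d L771443) q25313, e3 q24137 L771469 q25319, e3 q24138 (flp_d L759754) q22857, e3 q24139 (flp_d L759766) q22858, e3 q24140 (flp_d L771240) q25281, e3 q24141 (flp_d L769006) q25029, e3 q24142 (flp_d L759789) q22862, e3 q24143 (flp_d L771350) q25296, e3 q24144 (flp_d L759807) q22866, e3 q24145 (flp_d L771429) q25310, e3 q24146 (flp_d L762891) q24503, e3 q24147 (flp_d L759825) q22873, e3 q24148 (flp_d L771222) q25279, e3 q24149 L759841 q22876, e3 q24150 (flp_d L771523) q25325, e3 q24151 (flp_d L759852) q22877, e3 q24152 (flp_d L771326) q25293, e3 q24153 (flp_d L771397)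 q25304, e3 q24154 (flp_d L771411) q25307, e3 q24155 (flp_d L759876) q22888, e3 q24156 (flp_d L759892) q22889, e3 q24157 (flp_d L759908) q22890, e3 q24158 (flp_d L771578) q25331, e3 q24159 (flp_d L771572) q25330, e3 q24160 (flp_d L766663) q24798, e3 q24161 (flp_d L762839) q24499, e3 q24162 (flp_d L767710) q24903, e3 q24163 L759956 q22906, e3 q24164 L771603 q25335, e3 q24165 (flp_d L759964) q22899, e3 q24166 (flp_d L771617) q25337, e3 q24167 (flp_d L771611) q25336, e3 q24168 (flp_d L761604) q24412, e3 q24169 (flp_d L766899) q24820, e3 q24170 (flp_d L763040) q24513, e3 q24171 L771653 q25342, e3 q24172 L771659 q25343, e3 q24173 (flp_d L760022) q22907, e3 q24174 (flp_d L760026) q22908, e3 q24175 L760032 q22912, e3 q24176 L760036 q22910, e3 q24177 (flp_d L771699) q25350, e3 q24178 (flp_d L771681) q25346, e3 q24179 (flp_d L771689) q25348, e3 q24180 (flp_d L771685) q25347, e3 q24181 L760063 q22915, e3 q24182 (flp_d L766002) q24737, e3 q24183 (flp_d L760074) q22917, e3 q24184 (flp_d L771675) q25345, e3 q24185 L760088 q22920, e3 q24186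 (flp_d L768393) q24969, e3 q24187 L771740 q25357, e3 q24188 (flp_d L760108) q22923, e3 q24189 (flp_d L771764) q25359, e3 q24190 (flp_d L771756) q25358, e3 q24191 (flp_d L760127) q22926, trivial⟩ (by decide +kernel)

theorem ce_d_378 : ∀ r, r < 64 → sm gd (Qf (24192 + r)) = Qf (tab Gen.d (24192 + r)) :=
  edges_tab (sm gd) Qf (tab Gen.d) 24192 [(24192, 24426), (24193, 22930), (24194, 22929), (24195, 25365), (24196, 25363), (24197, 22933), (24198, 25368), (24199, 25370), (24200, 22936), (24201, 22939), (24202, 22938), (24203, 25375), (24204, 25373), (24205, 24411), (24206, 22942), (24207, 25378), (24208, 22944), (24209, 25377), (24210, 22946), (24211, 25383), (24212, 22950), (24213, 22949), (24214, 25384), (24215, 22951), (24216, 25388), (24217, 22953), (24218, 22954), (24219, 25158), (24220, 22956), (24221, 25394), (24222, 22957), (24223, 23107), (24224, 22977), (24225, 22959), (24226, 22966), (24227, 22964), (24228, 22967), (24229, 25349), (24230, 22963), (24231, 25405), (24232, 25399), (24233, 25400), (24234, 25402), (24235,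 25390), (24236, 25396), (24237, 25408), (24238, 22980), (24239, 24879), (24240, 24882), (24241, 24888), (24242, 22984), (24243, 24866), (24244, 24867), (24245, 24869), (24246, 25417), (24247, 22989), (24248, 25419), (24249, 22991), (24250, 25418), (24251, 25423), (24252, 22994), (24253, 25425), (24254, 22996), (24255, 22997)]
    ⟨e3 q24192 (flp_d L761819) q24426, e3 q24193 L760147 q22930, e3 q24194 L760153 q22929, e3 q24195 (flp_d L771798) q25365, e3 q24196 (flp_d L771786) q25363, e3 q24197 (flp_d L760167) q22933, e3 q24198 (flp_d L771816) q25368, e3 q24199 L771827 q25370, e3 q24200 (flp_d L760185) q22936, e3 q24201 L760193 q22939, e3 q24202 L760199 q22938, e3 q24203 (flp_d L771856) q25375, e3 q24204 (flp_d L771844) q25373, e3 q24205 L761586 q24411, e3 q24206 (flp_d L760219) q22942, e3 q24207 (flp_d L771874) q25378, e3 q24208 (flp_d L760231) q22944, e3 q24209 (flp_d L771868) q25377, e3 q24210 (flp_d L760243) q22946, e3 q24211 (flp_d L771902) q25383, e3 q24212 L760261 q22950, e3 q24213 L760267 q22949, e3 q24214 (flp_d L771906)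 q25384, e3 q24215 (flp_d L760275) q22951, e3 q24216 (flp_d L771930) q25388, e3 q24217 (flp_d L760285) q22953, e3 q24218 (flp_d L760291) q22954, e3 q24219 (flp_d L770160) q25158, e3 q24220 L760303 q22956, e3 q24221 (flp_d L771960) q25394, e3 q24222 (flp_d L760313) q22957, e3 q24223 L760321 q23107, e3 q24224 L760327 q22977, e3 q24225 (flp_d L760329) q22959, e3 q24226 L760337 q22966, e3 q24227 L760345 q22964, e3 q24228 L760349 q22967, e3 q24229 (flp_d L771695) q25349, e3 q24230 L760357 q22963, e3 q24231 (flp_d L772020) q25405, e3 q24232 (flp_d L771990) q25399, e3 q24233 (flp_d L771994) q25400, e3 q24234 (flp_d L772008) q25402, e3 q24235 (flp_d L771942) q25390, e3 q24236 (flp_d L771972) q25396, e3 q24237 L772034 q25408, e3 q24238 (flp_d L760399) q22980, e3 q24239 (flp_d L767467) q24879, e3 q24240 (flp_d L767491) q24882, e3 q24241 (flp_d L767568) q24888, e3 q24242 (flp_d L760425) q22984, e3 q24243 (flp_d L767331) q24866, e3 q24244 (flp_d L767341) q24867, e3 q24245 (flp_d L767355) q24869, e3 q24246 L772096 q25417, e3 q24247 (flp_d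 L760460) q22989, e3 q24248 L772106 q25419, e3 q24249 (flp_d L760475) q22991, e3 q24250 (flp_d L772104) q25418, e3 q24251 L772131 q25423, e3 q24252 (flp_d L760497) q22994, e3 q24253 L772143 q25425, e3 q24254 (flp_d L760510) q22996, e3 q24255 (flp_d L760516) q22997, trivial⟩ (by decide +kernel)

theorem ce_d_379 : ∀ r, r < 64 → sm gd (Qf (24256 + r)) = Qf (tab Gen.d (24256 + r)) :=
  edges_tab (sm gd) Qf (tab Gen.d) 24256 [(24256, 23001), (24257, 22999), (24258, 25427), (24259, 25429), (24260, 25433), (24261, 23003), (24262, 23004), (24263, 25177), (24264, 23006), (24265, 25344), (24266, 23010), (24267, 23016), (24268, 23011), (24269, 25441), (24270, 25443), (24271, 23012), (24272, 25428), (24273, 25436), (24274, 23017), (24275, 25447), (24276, 25446), (24277, 25062), (24278, 25096), (24279, 23022), (24280, 23023), (24281, 25451), (24282, 23025), (24283, 23027), (24284, 25456), (24285, 23028), (24286, 23029), (24287, 25435), (24288, 23031), (24289, 24613), (24290, 23034), (24291, 25463), (24292, 25464), (24293, 23036), (24294,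 25466), (24295, 23038), (24296, 25233), (24297, 25468), (24298, 25470), (24299, 23041), (24300, 23044), (24301, 23043), (24302, 25473), (24303, 25476), (24304, 23046), (24305, 23047), (24306, 25477), (24307, 23049), (24308, 23050), (24309, 23052), (24310, 25483), (24311, 23053), (24312, 25486), (24313, 25487), (24314, 23056), (24315, 23057), (24316, 25253), (24317, 23102), (24318, 25493), (24319, 25494)]
    ⟨e3 q24256 L760526 q23001, e3 q24257 (flp_d L760528) q22999, e3 q24258 (flp_d L772163) q25427, e3 q24259 (flp_d L772173) q25429, e3 q24260 L772197 q25433, e3 q24261 (flp_d L760559) q23003, e3 q24262 (flp_d L760571) q23004, e3 q24263 (flp_d L770351) q25177, e3 q24264 (flp_d L760579) q23006, e3 q24265 (flp_d L771669) q25344, e3 q24266 L760593 q23010, e3 q24267 L760597 q23016, e3 q24268 L760601 q23011, e3 q24269 (flp_d L772252) q25441, e3 q24270 (flp_d L772262) q25443, e3 q24271 (flp_d L760613) q23012, e3 q24272 (flp_d L772169) q25428, e3 q24273 (flp_d L772229) q25436, e3 q24274 (flp_d L760632) q23017, e3 q24275 (flp_d L772287)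 q25447, e3 q24276 (flp_d L772281) q25446, e3 q24277 (flp_d L769334) q25062, e3 q24278 (flp_d L769584) q25096, e3 q24279 (flp_d L760660) q23022, e3 q24280 (flp_d L760666) q23023, e3 q24281 (flp_d L772311) q25451, e3 q24282 (flp_d L760678) q23025, e3 q24283 L760690 q23027, e3 q24284 (flp_d L772334) q25456, e3 q24285 (flp_d L760696) q23028, e3 q24286 (flp_d L760702) q23029, e3 q24287 (flp_d L772223) q25435, e3 q24288 (flp_d L760710) q23031, e3 q24289 (flp_d L764381) q24613, e3 q24290 L760724 q23034, e3 q24291 (flp_d L772368) q25463, e3 q24292 L772372 q25464, e3 q24293 (flp_d L760740) q23036, e3 q24294 L772390 q25466, e3 q24295 (flp_d L760758) q23038, e3 q24296 (flp_d L770856) q25233, e3 q24297 (flp_d L772402) q25468, e3 q24298 L772410 q25470, e3 q24299 (flp_d L760782) q23041, e3 q24300 L760788 q23044, e3 q24301 L760792 q23043, e3 q24302 (flp_d L772428) q25473, e3 q24303 L772438 q25476, e3 q24304 (flp_d L760807) q23046, e3 q24305 (flp_d L760813) q23047, e3 q24306 (flp_d L772450) q25477, e3 q24307 (flp_d L760825) q23049, e3 q24308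 (flp_d L760835) q23050, e3 q24309 L760847 q23052, e3 q24310 (flp_d L772485) q25483, e3 q24311 (flp_d L760855) q23053, e3 q24312 L772503 q25486, e3 q24313 L772505 q25487, e3 q24314 (flp_d L760874) q23056, e3 q24315 (flp_d L760880) q23057, e3 q24316 (flp_d L771040) q25253, e3 q24317 L760894 q23102, e3 q24318 L772544 q25493, e3 q24319 L772550 q25494, trivial⟩ (by decide +kernel)

theorem ce_d_380 : ∀ r, r < 64 → sm gd (Qf (24320 + r)) = Qf (tab Gen.d (24320 + r)) :=
  edges_tab (sm gd) Qf (tab Gen.d) 24320 [(24320, 23062), (24321, 23063), (24322, 25471), (24323, 25499), (24324, 23066), (24325, 23071), (24326, 23078), (24327, 23072), (24328, 23069), (24329, 25500), (24330, 25502), (24331, 25504), (24332, 23157), (24333, 24496), (24334, 25490), (24335, 23076), (24336, 25501), (24337, 23080), (24338, 23084), (24339, 23082), (24340, 25510), (24341, 24341), (24342, 25512), (24343, 23085), (24344, 25273), (24345, 24542), (24346, 23094), (24347, 23122), (24348, 23095), (24349, 24926), (24350, 23091), (24351, 25528), (24352, 23092),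 (24353, 25209), (24354, 25522), (24355, 25525), (24356, 23096), (24357, 25289), (24358, 23099), (24359, 25295), (24360, 23127), (24361, 25297), (24362, 25539), (24363, 23103), (24364, 23104), (24365, 24537), (24366, 23150), (24367, 25395), (24368, 25397), (24369, 23108), (24370, 23116), (24371, 23129), (24372, 23117), (24373, 25214), (24374, 23130), (24375, 23118), (24376, 24929), (24377, 24927), (24378, 25548), (24379, 25550), (24380, 25553), (24381, 25126), (24382, 25519), (24383, 25524)]
    ⟨e3 q24320 (flp_d L760911) q23062, e3 q24321 (flp_d L760917) q23063, e3 q24322 (flp_d L772418) q25471, e3 q24323 L772579 q25499, e3 q24324 (flp_d L760937) q23066, e3 q24325 L760949 q23071, e3 q24326 L760955 q23078, e3 q24327 L760959 q23072, e3 q24328 (flp_d L760963) q23069, e3 q24329 (flp_d L772591) q25500, e3 q24330 (flp_d L772603) q25502, e3 q24331 (flp_d L772617) q25504, e3 q24332 L760995 q23157, e3 q24333 (flp_d L762793) q24496, e3 q24334 (flp_d L772529) q25490, e3 q24335 (flp_d L761011) q23076, e3 q24336 (flp_d L772599) q25501,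 e3 q24337 (flp_d L761029) q23080, e3 q24338 L761037 q23084, e3 q24339 (flp_d L761039) q23082, e3 q24340 (flp_d L772661) q25510, e3 q24341 L761051 q24341, e3 q24342 (flp_d L772668) q25512, e3 q24343 (flp_d L761056) q23085, e3 q24344 (flp_d L771175) q25273, e3 q24345 (flp_d L763470) q24542, e3 q24346 L761088 q23094, e3 q24347 L761094 q23122, e3 q24348 L761098 q23095, e3 q24349 (flp_d L767952) q24926, e3 q24350 L761114 q23091, e3 q24351 (flp_d L772789) q25528, e3 q24352 (flp_d L761128) q23092, e3 q24353 (flp_d L770637) q25209, e3 q24354 (flp_d L772737) q25522, e3 q24355 (flp_d L772763) q25525, e3 q24356 (flp_d L761148) q23096, e3 q24357 (flp_d L771300) q25289, e3 q24358 (flp_d L761158) q23099, e3 q24359 (flp_d L771344) q25295, e3 q24360 L761172 q23127, e3 q24361 (flp_d L771354) q25297, e3 q24362 L772843 q25539, e3 q24363 (flp_d L761186) q23103, e3 q24364 (flp_d L761192) q23104, e3 q24365 (flp_d L763396) q24537, e3 q24366 L761208 q23150, e3 q24367 (flp_d L771966) q25395, e3 q24368 (flp_d L771976) q25397, e3 q24369 (flp_d L761218)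 q23108, e3 q24370 L761226 q23116, e3 q24371 L761232 q23129, e3 q24372 L761236 q23117, e3 q24373 (flp_d L770673) q25214, e3 q24374 L761246 q23130, e3 q24375 L761252 q23118, e3 q24376 (flp_d L767976) q24929, e3 q24377 (flp_d L767962) q24927, e3 q24378 (flp_d L772899) q25548, e3 q24379 (flp_d L772909) q25550, e3 q24380 (flp_d L772925) q25553, e3 q24381 (flp_d L769820) q25126, e3 q24382 (flp_d L772711) q25519, e3 q24383 (flp_d L772753) q25524, trivial⟩ (by decide +kernel)

theorem ce_d_381 : ∀ r, r < 64 → sm gd (Qf (24384 + r)) = Qf (tab Gen.d (24384 + r)) :=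
  edges_tab (sm gd) Qf (tab Gen.d) 24384 [(24384, 23124), (24385, 25535), (24386, 25552), (24387, 25549), (24388, 23134), (24389, 25221), (24390, 23137), (24391, 23140), (24392, 25147), (24393, 23141), (24394, 25472), (24395, 23144), (24396, 23155), (24397, 23147), (24398, 25541), (24399, 25543), (24400, 23156), (24401, 25222), (24402, 25567), (24403, 23162), (24404, 23163), (24405, 25570), (24406, 23166), (24407, 25572), (24408, 23168), (24409, 23169), (24410, 25573), (24411, 24205), (24412, 24168), (24413, 25575), (24414, 25578), (24415, 23180), (24416, 23980), (24417, 23182), (24418, 23183), (24419, 23979), (24420, 23185), (24421, 25583), (24422, 23976), (24423, 23193), (24424, 25588), (24425, 23191), (24426, 24192), (24427, 23197), (24428, 25587), (24429, 25590), (24430, 23567), (24431, 25595), (24432, 23798), (24433, 23201), (24434, 23219), (24435, 25598), (24436, 23598), (24437, 25600), (24438, 23209), (24439, 23594), (24440, 25603), (24441, 23210), (24442, 25605), (24443, 23212), (24444, 25607), (24445, 23216), (24446,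 25609), (24447, 23217)]
    ⟨e3 q24384 L761306 q23124, e3 q24385 (flp_d L772827) q25535, e3 q24386 (flp_d L772921) q25552, e3 q24387 (flp_d L772905) q25549, e3 q24388 (flp_d L761335) q23134, e3 q24389 (flp_d L770738) q25221, e3 q24390 (flp_d L761351) q23137, e3 q24391 L761363 q23140, e3 q24392 (flp_d L770034) q25147, e3 q24393 (flp_d L761370) q23141, e3 q24394 (flp_d L772424) q25472, e3 q24395 (flp_d L761380) q23144, e3 q24396 L761391 q23155, e3 q24397 (flp_d L761393) q23147, e3 q24398 (flp_d L772861) q25541, e3 q24399 (flp_d L772873) q25543, e3 q24400 L761414 q23156, e3 q24401 (flp_d L770746) q25222, e3 q24402 L772999 q25567, e3 q24403 (flp_d L761445) q23162, e3 q24404 (flp_d L761461) q23163, e3 q24405 L773048 q25570, e3 q24406 (flp_d L761496) q23166, e3 q24407 L773082 q25572, e3 q24408 (flp_d L761530) q23168, e3 q24409 (flp_d L761546) q23169, e3 q24410 (flp_d L773114) q25573, e3 q24411 (flp_d L761586) q24205, e3 q24412 L761604 q24168, e3 q24413 (flp_d L773138) q25575, e3 q24414 L773170 q25578, e3 q24415 (flp_d L761635)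 q23180, e3 q24416 L761669 q23980, e3 q24417 (flp_d L761671) q23182, e3 q24418 (flp_d L761689) q23183, e3 q24419 L761715 q23979, e3 q24420 (flp_d L761717) q23185, e3 q24421 (flp_d L773268) q25583, e3 q24422 L761757 q23976, e3 q24423 L761775 q23193, e3 q24424 L773331 q25588, e3 q24425 (flp_d L761795) q23191, e3 q24426 L761819 q24192, e3 q24427 L761831 q23197, e3 q24428 (flp_d L773315) q25587, e3 q24429 (flp_d L773377) q25590, e3 q24430 L761859 q23567, e3 q24431 L773429 q25595, e3 q24432 L761902 q23798, e3 q24433 (flp_d L761906) q23201, e3 q24434 L761929 q23219, e3 q24435 L773472 q25598, e3 q24436 L761962 q23598, e3 q24437 L773506 q25600, e3 q24438 L761995 q23209, e3 q24439 L762012 q23594, e3 q24440 L773554 q25603, e3 q24441 (flp_d L762035) q23210, e3 q24442 L773577 q25605, e3 q24443 (flp_d L762062) q23212, e3 q24444 L773603 q25607, e3 q24445 L762102 q23216, e3 q24446 L773638 q25609, e3 q24447 (flp_d L762129) q23217, trivial⟩ (by decide +kernel)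

theorem ce_d_382 : ∀ r, r < 64 → sm gd (Qf (24448 + r)) = Qf (tab Gen.d (24448 + r)) :=
  edges_tab (sm gd) Qf (tab Gen.d) 24448 [(24448, 23647), (24449, 25612), (24450, 23220), (24451, 23247), (24452, 25615), (24453, 23223), (24454, 25617), (24455, 23225), (24456, 25616), (24457, 24042), (24458, 25623), (24459, 23229), (24460, 23936), (24461, 24045), (24462, 23946), (24463, 25620), (24464, 23234), (24465, 25628), (24466, 23236), (24467, 25630), (24468, 25632), (24469, 23239), (24470, 25629), (24471, 23339), (24472, 25637), (24473, 23243), (24474, 25639), (24475, 23336), (24476, 25641), (24477, 25642), (24478, 23248), (24479, 23249), (24480, 23253), (24481, 23251), (24482, 25649), (24483, 25645), (24484, 23265), (24485, 25647), (24486, 23254), (24487, 23259), (24488, 23256), (24489, 25656), (24490, 23257), (24491, 25654), (24492, 25634), (24493, 23264), (24494, 25646), (24495, 23263), (24496, 24333), (24497, 25663), (24498, 24498), (24499, 24161), (24500, 23973), (24501, 25666), (24502, 23271), (24503, 24146), (24504, 25669),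 (24505, 23274), (24506, 23276), (24507, 23277), (24508, 25644), (24509, 23280), (24510, 24510), (24511, 25673)]
    ⟨e3 q24448 L762154 q23647, e3 q24449 L773685 q25612, e3 q24450 (flp_d L762180) q23220, e3 q24451 L762200 q23247, e3 q24452 L773724 q25615, e3 q24453 (flp_d L762220) q23223, e3 q24454 (flp_d L773758) q25617, e3 q24455 (flp_d L762245) q23225, e3 q24456 (flp_d L773746) q25616, e3 q24457 L762281 q24042, e3 q24458 L773826 q25623, e3 q24459 (flp_d L762298) q23229, e3 q24460 L762325 q23936, e3 q24461 L762335 q24045, e3 q24462 L762355 q23946, e3 q24463 (flp_d L773797) q25620, e3 q24464 (flp_d L762370) q23234, e3 q24465 L773899 q25628, e3 q24466 (flp_d L762402) q23236, e3 q24467 (flp_d L773937) q25630, e3 q24468 L773953 q25632, e3 q24469 (flp_d L762442) q23239, e3 q24470 (flp_d L773923) q25629, e3 q24471 L762468 q23339, e3 q24472 L774015 q25637, e3 q24473 (flp_d L762494) q23243, e3 q24474 (flp_d L774055) q25639, e3 q24475 L762534 q23336, e3 q24476 L774076 q25641, e3 q24477 L774090 q25642, e3 q24478 (flp_d L762572) q23248,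 e3 q24479 (flp_d L762582) q23249, e3 q24480 L762600 q23253, e3 q24481 L762608 q23251, e3 q24482 (flp_d L774170) q25649, e3 q24483 (flp_d L774134) q25645, e3 q24484 L762638 q23265, e3 q24485 (flp_d L774150) q25647, e3 q24486 (flp_d L762650) q23254, e3 q24487 L762675 q23259, e3 q24488 L762693 q23256, e3 q24489 (flp_d L774252) q25656, e3 q24490 (flp_d L762707) q23257, e3 q24491 (flp_d L774231) q25654, e3 q24492 (flp_d L773985) q25634, e3 q24493 L762757 q23264, e3 q24494 (flp_d L774146) q25646, e3 q24495 L762778 q23263, e3 q24496 L762793 q24333, e3 q24497 L774341 q25663, e3 q24498 L762827 q24498, e3 q24499 L762839 q24161, e3 q24500 (flp_d L762854) q23973, e3 q24501 L774382 q25666, e3 q24502 (flp_d L762871) q23271, e3 q24503 L762891 q24146, e3 q24504 L774426 q25669, e3 q24505 (flp_d L762913) q23274, e3 q24506 L762941 q23276, e3 q24507 (flp_d L762945) q23277, e3 q24508 (flp_d L774122) q25644, e3 q24509 L762979 q23280, e3 q24510 L762993 q24510, e3 q24511 L774484 q25673, trivial⟩ (by decide +kernel)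

theorem ce_d_383 : ∀ r, r < 64 → sm gd (Qf (24512 + r)) = Qf (tab Gen.d (24512 + r)) :=
  edges_tab (sm gd) Qf (tab Gen.d) 24512 [(24512, 23284), (24513, 24170), (24514, 25676), (24515, 23471), (24516, 25678), (24517, 25679), (24518, 23291), (24519, 23292), (24520, 25682), (24521, 23294), (24522, 25684), (24523, 23296), (24524, 25683), (24525, 25686), (24526, 25688), (24527, 23302), (24528, 23303), (24529, 25691), (24530, 23305), (24531, 25693), (24532, 23307), (24533, 25692), (24534, 25695), (24535, 25697), (24536, 23311), (24537, 24365), (24538, 23318), (24539, 23314), (24540, 25702), (24541, 23316), (24542, 24345), (24543, 23321), (24544, 25700), (24545, 23319), (24546, 25704), (24547, 23525), (24548, 23821), (24549, 25710), (24550, 23329), (24551, 23974), (24552, 25713), (24553, 23330), (24554, 23352), (24555, 25716), (24556, 23333), (24557, 23906), (24558, 25719), (24559, 25720), (24560, 23337), (24561, 25723), (24562, 25724), (24563, 23340), (24564, 25726), (24565, 23342), (24566, 25725), (24567, 23836), (24568, 25732),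 (24569, 23346), (24570, 25734), (24571, 23348), (24572, 25736), (24573, 23350), (24574, 25738), (24575, 25740)]
    ⟨e3 q24512 (flp_d L763016) q23284, e3 q24513 L763040 q24170, e3 q24514 L774536 q25676, e3 q24515 L763073 q23471, e3 q24516 L774569 q25678, e3 q24517 L774585 q25679, e3 q24518 (flp_d L763112) q23291, e3 q24519 (flp_d L763127) q23292, e3 q24520 L774626 q25682, e3 q24521 (flp_d L763158) q23294, e3 q24522 (flp_d L774664) q25684, e3 q24523 (flp_d L763185) q23296, e3 q24524 (flp_d L774652) q25683, e3 q24525 (flp_d L774698) q25686, e3 q24526 L774710 q25688, e3 q24527 (flp_d L763244) q23302, e3 q24528 (flp_d L763258) q23303, e3 q24529 L774754 q25691, e3 q24530 (flp_d L763287) q23305, e3 q24531 (flp_d L774796) q25693, e3 q24532 (flp_d L763318) q23307, e3 q24533 (flp_d L774782) q25692, e3 q24534 (flp_d L774826) q25695, e3 q24535 L774838 q25697, e3 q24536 (flp_d L763372) q23311, e3 q24537 L763396 q24365, e3 q24538 L763410 q23318, e3 q24539 L763424 q23314, e3 q24540 L774906 q25702, e3 q24541 (flp_d L763446) q23316, e3 q24542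 L763470 q24345, e3 q24543 L763480 q23321, e3 q24544 (flp_d L774878) q25700, e3 q24545 (flp_d L763490) q23319, e3 q24546 (flp_d L774948) q25704, e3 q24547 L763537 q23525, e3 q24548 L763549 q23821, e3 q24549 L775020 q25710, e3 q24550 L763582 q23329, e3 q24551 L763599 q23974, e3 q24552 L775068 q25713, e3 q24553 (flp_d L763622) q23330, e3 q24554 L763644 q23352, e3 q24555 L775108 q25716, e3 q24556 (flp_d L763666) q23333, e3 q24557 L763686 q23906, e3 q24558 L775150 q25719, e3 q24559 L775164 q25720, e3 q24560 (flp_d L763723) q23337, e3 q24561 L775191 q25723, e3 q24562 L775201 q25724, e3 q24563 (flp_d L763757) q23340, e3 q24564 (flp_d L775229) q25726, e3 q24565 (flp_d L763774) q23342, e3 q24566 (flp_d L775219) q25725, e3 q24567 L763802 q23836, e3 q24568 L775287 q25732, e3 q24569 (flp_d L763822) q23346, e3 q24570 L775309 q25734, e3 q24571 (flp_d L763850) q23348, e3 q24572 L775338 q25736, e3 q24573 (flp_d L763878) q23350, e3 q24574 (flp_d L775372) q25738, e3 q24575 L775387 q25740, trivial⟩ (by decide +kernel)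

theorem ce_d_384 : ∀ r, r < 64 → sm gd (Qf (24576 + r)) = Qf (tab Gen.d (24576 + r)) :=
  edges_tab (sm gd) Qf (tab Gen.d) 24576 [(24576, 23353), (24577, 25737), (24578, 25744), (24579, 23356), (24580, 25746), (24581, 25747), (24582, 25748), (24583, 23360), (24584, 23361), (24585, 23367), (24586, 23363), (24587, 25754), (24588, 25755), (24589, 23365), (24590, 25751), (24591, 23377), (24592, 25752), (24593, 24061), (24594, 23370), (24595, 23937), (24596, 25742), (24597, 23374), (24598, 25757), (24599, 25764), (24600, 23549), (24601, 25766), (24602, 23381), (24603, 25643), (24604, 25770), (24605, 23384), (24606, 23385), (24607, 25773), (24608, 23392), (24609, 23388), (24610, 25777), (24611, 25779), (24612, 23390), (24613, 24289), (24614, 23420), (24615, 25775), (24616, 25785), (24617, 23394), (24618, 25787), (24619, 25788), (24620, 23397), (24621, 23398), (24622, 23903), (24623, 23400), (24624, 25794), (24625, 23401), (24626, 24002), (24627, 23447), (24628, 25800), (24629, 23404), (24630, 23411), (24631, 23413), (24632, 25648),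 (24633, 23408), (24634, 25806), (24635, 23409), (24636, 25801), (24637, 23426), (24638, 25802), (24639, 25813)]
    ⟨e3 q24576 (flp_d L763913) q23353, e3 q24577 (flp_d L775362) q25737, e3 q24578 L775431 q25744, e3 q24579 (flp_d L763948) q23356, e3 q24580 (flp_d L775469) q25746, e3 q24581 L775473 q25747, e3 q24582 L775491 q25748, e3 q24583 (flp_d L764008) q23360, e3 q24584 (flp_d L764014) q23361, e3 q24585 L764036 q23367, e3 q24586 L764044 q23363, e3 q24587 (flp_d L775558) q25754, e3 q24588 L775566 q25755, e3 q24589 (flp_d L764077) q23365, e3 q24590 (flp_d L775534) q25751, e3 q24591 L764103 q23377, e3 q24592 (flp_d L775538) q25752, e3 q24593 L764119 q24061, e3 q24594 (flp_d L764126) q23370, e3 q24595 L764155 q23937, e3 q24596 (flp_d L775421) q25742, e3 q24597 (flp_d L764170) q23374, e3 q24598 (flp_d L775608) q25757, e3 q24599 L775681 q25764, e3 q24600 L764223 q23549, e3 q24601 L775710 q25766, e3 q24602 (flp_d L764245) q23381, e3 q24603 (flp_d L774110) q25643, e3 q24604 L775747 q25770, e3 q24605 (flp_d L764277) q23384, e3 q24606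 (flp_d L764295) q23385, e3 q24607 (flp_d L775799) q25773, e3 q24608 L764323 q23392, e3 q24609 L764333 q23388, e3 q24610 (flp_d L775843) q25777, e3 q24611 L775863 q25779, e3 q24612 (flp_d L764361) q23390, e3 q24613 L764381 q24289, e3 q24614 L764393 q23420, e3 q24615 (flp_d L775821) q25775, e3 q24616 L775927 q25785, e3 q24617 (flp_d L764419) q23394, e3 q24618 (flp_d L775965) q25787, e3 q24619 L775969 q25788, e3 q24620 (flp_d L764465) q23397, e3 q24621 (flp_d L764477) q23398, e3 q24622 L764499 q23903, e3 q24623 L764507 q23400, e3 q24624 (flp_d L776047) q25794, e3 q24625 (flp_d L764525) q23401, e3 q24626 L764549 q24002, e3 q24627 L764561 q23447, e3 q24628 L776123 q25800, e3 q24629 (flp_d L764581) q23404, e3 q24630 L764609 q23411, e3 q24631 L764613 q23413, e3 q24632 (flp_d L774162) q25648, e3 q24633 L764627 q23408, e3 q24634 (flp_d L776195) q25806, e3 q24635 (flp_d L764647) q23409, e3 q24636 (flp_d L776155) q25801, e3 q24637 L764667 q23426, e3 q24638 (flp_d L776159) q25802, e3 q24639 L776249 q25813, trivial⟩ (by decide +kernel)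

theorem ce_d_385 : ∀ r, r < 64 → sm gd (Qf (24640 + r)) = Qf (tab Gen.d (24640 + r)) :=
  edges_tab (sm gd) Qf (tab Gen.d) 24640 [(24640, 25803), (24641, 23440), (24642, 23805), (24643, 23417), (24644, 25781), (24645, 23861), (24646, 25817), (24647, 25808), (24648, 25818), (24649, 23428), (24650, 23524), (24651, 23586), (24652, 23972), (24653, 23445), (24654, 23435), (24655, 23436), (24656, 25819), (24657, 23442), (24658, 25790), (24659, 25796), (24660, 25799), (24661, 23449), (24662, 25823), (24663, 23468), (24664, 25825), (24665, 25826), (24666, 23472), (24667, 25828), (24668, 23474), (24669, 23476), (24670, 25831), (24671, 23480), (24672, 23481), (24673, 25834), (24674, 23483), (24675, 25833), (24676, 25836), (24677, 23490), (24678, 23642), (24679, 25840), (24680, 23491), (24681, 25842), (24682, 23493), (24683, 23494), (24684, 25845), (24685, 23496), (24686, 25847), (24687, 23498), (24688, 25849), (24689, 25851), (24690, 23501), (24691, 25848), (24692, 23533), (24693, 23505), (24694, 23547), (24695, 25853), (24696, 23509),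 (24697, 25835), (24698, 23511), (24699, 25860), (24700, 23513), (24701, 23518), (24702, 23515), (24703, 25865)]
    ⟨e3 q24640 (flp_d L776171) q25803, e3 q24641 L764693 q23440, e3 q24642 L764709 q23805, e3 q24643 (flp_d L764716) q23417, e3 q24644 (flp_d L775897) q25781, e3 q24645 L764747 q23861, e3 q24646 L776306 q25817, e3 q24647 (flp_d L776219) q25808, e3 q24648 L776318 q25818, e3 q24649 (flp_d L764799) q23428, e3 q24650 L764818 q23524, e3 q24651 L764830 q23586, e3 q24652 L764849 q23972, e3 q24653 L764866 q23445, e3 q24654 (flp_d L764870) q23435, e3 q24655 (flp_d L764887) q23436, e3 q24656 (flp_d L776338) q25819, e3 q24657 (flp_d L764908) q23442, e3 q24658 (flp_d L776007) q25790, e3 q24659 (flp_d L776079) q25796, e3 q24660 (flp_d L776113) q25799, e3 q24661 L764974 q23449, e3 q24662 L776386 q25823, e3 q24663 (flp_d L765001) q23468, e3 q24664 L776420 q25825, e3 q24665 L776438 q25826, e3 q24666 (flp_d L765053) q23472, e3 q24667 L776469 q25828, e3 q24668 (flp_d L765088) q23474, e3 q24669 (flp_d L765102) q23476, e3 q24670 L776514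 q25831, e3 q24671 (flp_d L765137) q23480, e3 q24672 (flp_d L765149) q23481, e3 q24673 (flp_d L776572) q25834, e3 q24674 (flp_d L765177) q23483, e3 q24675 (flp_d L776558) q25833, e3 q24676 (flp_d L776602) q25836, e3 q24677 L765225 q23490, e3 q24678 L765242 q23642, e3 q24679 L776648 q25840, e3 q24680 (flp_d L765263) q23491, e3 q24681 L776667 q25842, e3 q24682 (flp_d L765288) q23493, e3 q24683 (flp_d L765302) q23494, e3 q24684 L776703 q25845, e3 q24685 (flp_d L765332) q23496, e3 q24686 L776736 q25847, e3 q24687 (flp_d L765362) q23498, e3 q24688 (flp_d L776764) q25849, e3 q24689 L776783 q25851, e3 q24690 (flp_d L765395) q23501, e3 q24691 (flp_d L776756) q25848, e3 q24692 L765417 q23533, e3 q24693 (flp_d L765426) q23505, e3 q24694 L765456 q23547, e3 q24695 (flp_d L776809) q25853, e3 q24696 (flp_d L765467) q23509, e3 q24697 (flp_d L776588) q25835, e3 q24698 (flp_d L765491) q23511, e3 q24699 (flp_d L776897) q25860, e3 q24700 (flp_d L765515) q23513, e3 q24701 L765533 q23518, e3 q24702 L765539 q23515, e3 q24703 (flp_d L776953) q25865,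 trivial⟩ (by decide +kernel)

theorem ce_d_386 : ∀ r, r < 64 → sm gd (Qf (24704 + r)) = Qf (tab Gen.d (24704 + r)) :=
  edges_tab (sm gd) Qf (tab Gen.d) 24704 [(24704, 23516), (24705, 25832), (24706, 23522), (24707, 25863), (24708, 25867), (24709, 25871), (24710, 25862), (24711, 23529), (24712, 23530), (24713, 23532), (24714, 25875), (24715, 25876), (24716, 23535), (24717, 25878), (24718, 25877), (24719, 25880), (24720, 23542), (24721, 23887), (24722, 25883), (24723, 23543), (24724, 25885), (24725, 23545), (24726, 25887), (24727, 23548), (24728, 25889), (24729, 23550), (24730, 25891), (24731, 25892), (24732, 23553), (24733, 25894), (24734, 23555), (24735, 25893), (24736, 23670), (24737, 24182), (24738, 25897), (24739, 23562), (24740, 23563), (24741, 25902), (24742, 23565), (24743, 25901), (24744, 23568), (24745, 23624), (24746, 25906), (24747, 23570), (24748, 23574), (24749, 23572), (24750, 25913), (24751, 25909), (24752, 23582), (24753, 25911), (24754, 23626), (24755, 23581), (24756, 25910), (24757, 23580), (24758, 25919),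 (24759, 23583), (24760, 25665), (24761, 23955), (24762, 23590), (24763, 23770), (24764, 25923), (24765, 23591), (24766, 25924), (24767, 23593)]
    ⟨e3 q24704 (flp_d L765555) q23516, e3 q24705 (flp_d L776544) q25832, e3 q24706 L765579 q23522, e3 q24707 (flp_d L776935) q25863, e3 q24708 (flp_d L776985) q25867, e3 q24709 L777011 q25871, e3 q24710 (flp_d L776929) q25862, e3 q24711 (flp_d L765639) q23529, e3 q24712 (flp_d L765653) q23530, e3 q24713 L765673 q23532, e3 q24714 L777066 q25875, e3 q24715 L777080 q25876, e3 q24716 (flp_d L765715) q23535, e3 q24717 (flp_d L777112) q25878, e3 q24718 (flp_d L777102) q25877, e3 q24719 L777122 q25880, e3 q24720 L765762 q23542, e3 q24721 L765779 q23887, e3 q24722 L777172 q25883, e3 q24723 (flp_d L765804) q23543, e3 q24724 L777199 q25885, e3 q24725 (flp_d L765833) q23545, e3 q24726 L777225 q25887, e3 q24727 (flp_d L765865) q23548, e3 q24728 L777249 q25889, e3 q24729 (flp_d L765891) q23550, e3 q24730 L777280 q25891, e3 q24731 L777292 q25892, e3 q24732 (flp_d L765937) q23553, e3 q24733 (flp_d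 L777328) q25894, e3 q24734 (flp_d L765954) q23555, e3 q24735 (flp_d L777318) q25893, e3 q24736 L765978 q23670, e3 q24737 L766002 q24182, e3 q24738 (flp_d L777361) q25897, e3 q24739 (flp_d L766011) q23562, e3 q24740 (flp_d L766021) q23563, e3 q24741 L777404 q25902, e3 q24742 (flp_d L766045) q23565, e3 q24743 (flp_d L777402) q25901, e3 q24744 (flp_d L766065) q23568, e3 q24745 L766089 q23624, e3 q24746 (flp_d L777452) q25906, e3 q24747 (flp_d L766101) q23570, e3 q24748 L766113 q23574, e3 q24749 L766121 q23572, e3 q24750 (flp_d L777526) q25913, e3 q24751 (flp_d L777496) q25909, e3 q24752 L766149 q23582, e3 q24753 (flp_d L777510) q25911, e3 q24754 L766165 q23626, e3 q24755 L766190 q23581, e3 q24756 (flp_d L777506) q25910, e3 q24757 L766209 q23580, e3 q24758 L777586 q25919, e3 q24759 (flp_d L766232) q23583, e3 q24760 (flp_d L774374) q25665, e3 q24761 L766269 q23955, e3 q24762 L766286 q23590, e3 q24763 L766303 q23770, e3 q24764 L777643 q25923, e3 q24765 (flp_d L766326) q23591, e3 q24766 L777653 q25924, e3 q24767 (flp_d L766349)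 q23593, trivial⟩ (by decide +kernel)

theorem ce_d_387 : ∀ r, r < 64 → sm gd (Qf (24768 + r)) = Qf (tab Gen.d (24768 + r)) :=
  edges_tab (sm gd) Qf (tab Gen.d) 24768 [(24768, 25926), (24769, 23595), (24770, 23819), (24771, 25930), (24772, 25931), (24773, 23599), (24774, 25933), (24775, 23601), (24776, 25932), (24777, 23603), (24778, 23632), (24779, 25940), (24780, 23606), (24781, 25942), (24782, 23608), (24783, 25941), (24784, 25946), (24785, 23611), (24786, 25948), (24787, 25950), (24788, 23614), (24789, 23615), (24790, 23620), (24791, 23617), (24792, 25957), (24793, 23618), (24794, 25953), (24795, 23627), (24796, 25955), (24797, 25944), (24798, 24160), (24799, 25954), (24800, 25959), (24801, 25963), (24802, 23628), (24803, 25859), (24804, 23754), (24805, 25968), (24806, 25969), (24807, 23633), (24808, 23634), (24809, 23638), (24810, 23636), (24811, 25972), (24812, 23662), (24813, 25974), (24814, 25979), (24815, 23640), (24816, 25981), (24817, 25982), (24818, 23643), (24819, 23644), (24820, 24169), (24821, 23646), (24822,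 25989), (24823, 25990), (24824, 23648), (24825, 23649), (24826, 23911), (24827, 23686), (24828, 23651), (24829, 23658), (24830, 23668), (24831, 23660)]
    ⟨e3 q24768 L777675 q25926, e3 q24769 (flp_d L766373) q23595, e3 q24770 L766391 q23819, e3 q24771 L777719 q25930, e3 q24772 L777725 q25931, e3 q24773 (flp_d L766418) q23599, e3 q24774 (flp_d L777747) q25933, e3 q24775 (flp_d L766431) q23601, e3 q24776 (flp_d L777739) q25932, e3 q24777 (flp_d L766451) q23603, e3 q24778 L766473 q23632, e3 q24779 L777815 q25940, e3 q24780 (flp_d L766495) q23606, e3 q24781 (flp_d L777845) q25942, e3 q24782 (flp_d L766512) q23608, e3 q24783 (flp_d L777835) q25941, e3 q24784 L777871 q25946, e3 q24785 (flp_d L766543) q23611, e3 q24786 (flp_d L777911) q25948, e3 q24787 L777930 q25950, e3 q24788 (flp_d L766579) q23614, e3 q24789 (flp_d L766585) q23615, e3 q24790 L766599 q23620, e3 q24791 L766607 q23617, e3 q24792 (flp_d L777989) q25957, e3 q24793 (flp_d L766616) q23618, e3 q24794 (flp_d L777957) q25953, e3 q24795 L766638 q23627, e3 q24796 (flp_d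 L777973) q25955, e3 q24797 (flp_d L777863) q25944, e3 q24798 L766663 q24160, e3 q24799 (flp_d L777969) q25954, e3 q24800 (flp_d L778015) q25959, e3 q24801 L778037 q25963, e3 q24802 (flp_d L766702) q23628, e3 q24803 (flp_d L776885) q25859, e3 q24804 L766726 q23754, e3 q24805 L778088 q25968, e3 q24806 L778098 q25969, e3 q24807 (flp_d L766762) q23633, e3 q24808 (flp_d L766770) q23634, e3 q24809 L766782 q23638, e3 q24810 L766790 q23636, e3 q24811 (flp_d L778134) q25972, e3 q24812 L766808 q23662, e3 q24813 (flp_d L778146) q25974, e3 q24814 L778182 q25979, e3 q24815 (flp_d L766832) q23640, e3 q24816 L778210 q25981, e3 q24817 L778222 q25982, e3 q24818 (flp_d L766871) q23643, e3 q24819 (flp_d L766881) q23644, e3 q24820 L766899 q24169, e3 q24821 L766909 q23646, e3 q24822 (flp_d L778302) q25989, e3 q24823 L778308 q25990, e3 q24824 (flp_d L766934) q23648, e3 q24825 (flp_d L766940) q23649, e3 q24826 L766952 q23911, e3 q24827 L766960 q23686, e3 q24828 (flp_d L766962) q23651, e3 q24829 L766972 q23658, e3 q24830 L766976 q23668, e3 q24831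 L766980 q23660, trivial⟩ (by decide +kernel)

theorem ce_d_388 : ∀ r, r < 64 → sm gd (Qf (24832 + r)) = Qf (tab Gen.d (24832 + r)) :=
  edges_tab (sm gd) Qf (tab Gen.d) 24832 [(24832, 25864), (24833, 23655), (24834, 26006), (24835, 23656), (24836, 25998), (24837, 23671), (24838, 26000), (24839, 26012), (24840, 26003), (24841, 25973), (24842, 25986), (24843, 23665), (24844, 25999), (24845, 26014), (24846, 26002), (24847, 23672), (24848, 23673), (24849, 23674), (24850, 26015), (24851, 23676), (24852, 25971), (24853, 23679), (24854, 23681), (24855, 25984), (24856, 23964), (24857, 25994), (24858, 26024), (24859, 25997), (24860, 23799), (24861, 23689), (24862, 23690), (24863, 26028), (24864, 26027), (24865, 23694), (24866, 24243), (24867, 24244), (24868, 23698), (24869, 24245), (24870, 26035), (24871, 23700), (24872, 23701), (24873, 26038), (24874, 23703), (24875, 26037), (24876, 26043), (24877, 23706), (24878, 23707), (24879, 24239), (24880, 24011), (24881, 23712), (24882, 24240), (24883, 26046), (24884, 23713), (24885, 23714),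 (24886, 26051), (24887, 23718), (24888, 24241), (24889, 23728), (24890, 26055), (24891, 25638), (24892, 25861), (24893, 23725), (24894, 23727), (24895, 23723)]
    ⟨e3 q24832 (flp_d L776945) q25864, e3 q24833 L766992 q23655, e3 q24834 (flp_d L778421) q26006, e3 q24835 (flp_d L767004) q23656, e3 q24836 (flp_d L778371) q25998, e3 q24837 L767030 q23671, e3 q24838 (flp_d L778387) q26000, e3 q24839 L778467 q26012, e3 q24840 (flp_d L778403) q26003, e3 q24841 (flp_d L778142) q25973, e3 q24842 (flp_d L778276) q25986, e3 q24843 L767080 q23665, e3 q24844 (flp_d L778381) q25999, e3 q24845 L778488 q26014, e3 q24846 (flp_d L778397) q26002, e3 q24847 (flp_d L767110) q23672, e3 q24848 (flp_d L767112) q23673, e3 q24849 (flp_d L767126) q23674, e3 q24850 (flp_d L778494) q26015, e3 q24851 (flp_d L767143) q23676, e3 q24852 (flp_d L778126) q25971, e3 q24853 (flp_d L767165) q23679, e3 q24854 (flp_d L767180) q23681, e3 q24855 (flp_d L778252) q25984, e3 q24856 L767218 q23964, e3 q24857 (flp_d L778341) q25994, e3 q24858 L778589 q26024, e3 q24859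 (flp_d L778361) q25997, e3 q24860 L767252 q23799, e3 q24861 (flp_d L767258) q23689, e3 q24862 (flp_d L767270) q23690, e3 q24863 (flp_d L778650) q26028, e3 q24864 (flp_d L778636) q26027, e3 q24865 (flp_d L767309) q23694, e3 q24866 L767331 q24243, e3 q24867 L767341 q24244, e3 q24868 L767349 q23698, e3 q24869 L767355 q24245, e3 q24870 L778718 q26035, e3 q24871 (flp_d L767374) q23700, e3 q24872 (flp_d L767384) q23701, e3 q24873 (flp_d L778756) q26038, e3 q24874 (flp_d L767402) q23703, e3 q24875 (flp_d L778746) q26037, e3 q24876 L778794 q26043, e3 q24877 (flp_d L767435) q23706, e3 q24878 (flp_d L767447) q23707, e3 q24879 L767467 q24239, e3 q24880 L767477 q24011, e3 q24881 L767485 q23712, e3 q24882 L767491 q24240, e3 q24883 (flp_d L778842) q26046, e3 q24884 (flp_d L767512) q23713, e3 q24885 (flp_d L767528) q23714, e3 q24886 (flp_d L778902) q26051, e3 q24887 L767560 q23718, e3 q24888 L767568 q24241, e3 q24889 L767574 q23728, e3 q24890 (flp_d L778933) q26055, e3 q24891 (flp_d L774041) q25638, e3 q24892 (flp_d L776915) q25861, e3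 q24893 L767630 q23725, e3 q24894 L767634 q23727, e3 q24895 (flp_d L767642) q23723, trivial⟩ (by decide +kernel)

theorem ce_d_389 : ∀ r, r < 64 → sm gd (Qf (24896 + r)) = Qf (tab Gen.d (24896 + r)) :=
  edges_tab (sm gd) Qf (tab Gen.d) 24896 [(24896, 25674), (24897, 23730), (24898, 26061), (24899, 26069), (24900, 26062), (24901, 26064), (24902, 23731), (24903, 24162), (24904, 26070), (24905, 23735), (24906, 25685), (24907, 23737), (24908, 23738), (24909, 26076), (24910, 26075), (24911, 23741), (24912, 23744), (24913, 23743), (24914, 26080), (24915, 26083), (24916, 23746), (24917, 26085), (24918, 23748), (24919, 26087), (24920, 23750), (24921, 26086), (24922, 26092), (24923, 23753), (24924, 26094), (24925, 23755), (24926, 24349), (24927, 24377), (24928, 23763), (24929, 24376), (24930, 23759), (24931, 24044), (24932, 26096), (24933, 26104), (24934, 26105), (24935, 23765), (24936, 23766), (24937, 26106), (24938, 26110), (24939, 23769), (24940, 26112), (24941, 23771), (24942, 23775), (24943, 23773), (24944, 26113), (24945, 23793),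 (24946, 26115), (24947, 26121), (24948, 23777), (24949, 25694), (24950, 26124), (24951, 23780), (24952, 23781), (24953, 25780), (24954, 23785), (24955, 23795), (24956, 23787), (24957, 26129), (24958, 26134), (24959, 26131)]
    ⟨e3 q24896 (flp_d L774516) q25674, e3 q24897 L767666 q23730, e3 q24898 (flp_d L779005) q26061, e3 q24899 L779077 q26069, e3 q24900 (flp_d L779021) q26062, e3 q24901 (flp_d L779051) q26064, e3 q24902 (flp_d L767694) q23731, e3 q24903 L767710 q24162, e3 q24904 (flp_d L779097) q26070, e3 q24905 (flp_d L767724) q23735, e3 q24906 (flp_d L774682) q25685, e3 q24907 (flp_d L767746) q23737, e3 q24908 (flp_d L767756) q23738, e3 q24909 (flp_d L779162) q26076, e3 q24910 (flp_d L779152) q26075, e3 q24911 (flp_d L767777) q23741, e3 q24912 L767791 q23744, e3 q24913 L767797 q23743, e3 q24914 (flp_d L779193) q26080, e3 q24915 L779209 q26083, e3 q24916 (flp_d L767818) q23746, e3 q24917 L779235 q26085, e3 q24918 (flp_d L767845) q23748, e3 q24919 (flp_d L779271) q26087, e3 q24920 (flp_d L767871) q23750, e3 q24921 (flp_d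 L779257) q26086, e3 q24922 L779311 q26092, e3 q24923 (flp_d L767904) q23753, e3 q24924 L779341 q26094, e3 q24925 (flp_d L767932) q23755, e3 q24926 L767952 q24349, e3 q24927 L767962 q24377, e3 q24928 L767970 q23763, e3 q24929 L767976 q24376, e3 q24930 (flp_d L767984) q23759, e3 q24931 L768005 q24044, e3 q24932 (flp_d L779369) q26096, e3 q24933 L779447 q26104, e3 q24934 L779457 q26105, e3 q24935 (flp_d L768044) q23765, e3 q24936 (flp_d L768058) q23766, e3 q24937 (flp_d L779483) q26106, e3 q24938 L779506 q26110, e3 q24939 (flp_d L768087) q23769, e3 q24940 L779532 q26112, e3 q24941 (flp_d L768115) q23771, e3 q24942 L768137 q23775, e3 q24943 (flp_d L768139) q23773, e3 q24944 (flp_d L779552) q26113, e3 q24945 L768159 q23793, e3 q24946 (flp_d L779570) q26115, e3 q24947 L779614 q26121, e3 q24948 (flp_d L768181) q23777, e3 q24949 (flp_d L774812) q25694, e3 q24950 L779652 q26124, e3 q24951 (flp_d L768218) q23780, e3 q24952 (flp_d L768226) q23781, e3 q24953 (flp_d L775885) q25780, e3 q24954 L768260 q23785, e3 q24955 L768268 q23795,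 e3 q24956 L768274 q23787, e3 q24957 (flp_d L779707) q26129, e3 q24958 L779745 q26134, e3 q24959 (flp_d L779725) q26131, trivial⟩ (by decide +kernel)

theorem ce_d_390 : ∀ r, r < 64 → sm gd (Qf (24960 + r)) = Qf (tab Gen.d (24960 + r)) :=
  edges_tab (sm gd) Qf (tab Gen.d) 24960 [(24960, 23788), (24961, 23792), (24962, 26114), (24963, 26135), (24964, 26117), (24965, 26140), (24966, 26141), (24967, 23796), (24968, 26017), (24969, 24186), (24970, 26142), (24971, 23802), (24972, 23803), (24973, 26146), (24974, 26147), (24975, 23807), (24976, 26149), (24977, 23810), (24978, 26148), (24979, 26153), (24980, 23813), (24981, 26156), (24982, 26157), (24983, 23816), (24984, 25721), (24985, 26159), (24986, 26162), (24987, 26163), (24988, 23820), (24989, 26165), (24990, 23822), (24991, 23827), (24992, 23824), (24993, 26170), (24994, 23825), (24995, 26166), (24996, 24996), (24997, 26168), (24998, 23828), (24999, 26178), (25000, 23830), (25001, 26177), (25002, 23832), (25003, 26183), (25004, 23834), (25005, 23839), (25006, 26186), (25007,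 23837), (25008, 26184), (25009, 23859), (25010, 26185), (25011, 23840), (25012, 25745), (25013, 26194), (25014, 23843), (25015, 23844), (25016, 26164), (25017, 23846), (25018, 23851), (25019, 23862), (25020, 23853), (25021, 23849), (25022, 26198), (25023, 23865)]
    ⟨e3 q24960 (flp_d L768298) q23788, e3 q24961 L768321 q23792, e3 q24962 (flp_d L779564) q26114, e3 q24963 (flp_d L779761) q26135, e3 q24964 (flp_d L779592) q26117, e3 q24965 L779806 q26140, e3 q24966 L779814 q26141, e3 q24967 (flp_d L768376) q23796, e3 q24968 (flp_d L778523) q26017, e3 q24969 L768393 q24186, e3 q24970 (flp_d L779828) q26142, e3 q24971 (flp_d L768404) q23802, e3 q24972 (flp_d L768418) q23803, e3 q24973 L779864 q26146, e3 q24974 L779878 q26147, e3 q24975 (flp_d L768461) q23807, e3 q24976 L779902 q26149, e3 q24977 (flp_d L768478) q23810, e3 q24978 (flp_d L779900) q26148, e3 q24979 L779931 q26153, e3 q24980 (flp_d L768504) q23813, e3 q24981 L779968 q26156, e3 q24982 L779984 q26157, e3 q24983 (flp_d L768544) q23816, e3 q24984 (flp_d L775180) q25721,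 e3 q24985 (flp_d L780004) q26159, e3 q24986 L780021 q26162, e3 q24987 L780035 q26163, e3 q24988 (flp_d L768599) q23820, e3 q24989 L780061 q26165, e3 q24990 (flp_d L768620) q23822, e3 q24991 L768628 q23827, e3 q24992 L768634 q23824, e3 q24993 (flp_d L780092) q26170, e3 q24994 (flp_d L768641) q23825, e3 q24995 (flp_d L780073) q26166, e3 q24996 L768663 q24996, e3 q24997 (flp_d L780080) q26168, e3 q24998 (flp_d L768670) q23828, e3 q24999 L780158 q26178, e3 q25000 (flp_d L768695) q23830, e3 q25001 (flp_d L780156) q26177, e3 q25002 (flp_d L768711) q23832, e3 q25003 L780203 q26183, e3 q25004 (flp_d L768743) q23834, e3 q25005 L768767 q23839, e3 q25006 L780245 q26186, e3 q25007 (flp_d L768783) q23837, e3 q25008 (flp_d L780231) q26184, e3 q25009 L768803 q23859, e3 q25010 (flp_d L780235) q26185, e3 q25011 (flp_d L768811) q23840, e3 q25012 (flp_d L775457) q25745, e3 q25013 L780313 q26194, e3 q25014 (flp_d L768849) q23843, e3 q25015 (flp_d L768859) q23844, e3 q25016 (flp_d L780059) q26164, e3 q25017 (flp_d L768885) q23846, e3 q25018 L768905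 q23851, e3 q25019 L768913 q23862, e3 q25020 L768919 q23853, e3 q25021 (flp_d L768927) q23849, e3 q25022 (flp_d L780371) q26198, e3 q25023 L768949 q23865, trivial⟩ (by decide +kernel)

theorem ce_d_391 : ∀ r, r < 64 → sm gd (Qf (25024 + r)) = Qf (tab Gen.d (25024 + r)) :=
  edges_tab (sm gd) Qf (tab Gen.d) 25024 [(25024, 26199), (25025, 26208), (25026, 26201), (25027, 23854), (25028, 23856), (25029, 24141), (25030, 26188), (25031, 23943), (25032, 26215), (25033, 23934), (25034, 26203), (25035, 26217), (25036, 26218), (25037, 23867), (25038, 23869), (25039, 23870), (25040, 26222), (25041, 23872), (25042, 23877), (25043, 23874), (25044, 26227), (25045, 23875), (25046, 26223), (25047, 25047), (25048, 26225), (25049, 23878), (25050, 23880), (25051, 25772), (25052, 26237), (25053, 26238), (25054, 23884), (25055, 23885), (25056, 25970), (25057, 26243), (25058, 23888), (25059, 23894), (25060, 23930), (25061, 23896), (25062, 24277), (25063, 23892), (25064, 26244), (25065, 23933), (25066, 26246), (25067, 26257), (25068, 26248), (25069,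 25786), (25070, 26259), (25071, 23899), (25072, 26093), (25073, 23901), (25074, 25791), (25075, 23938), (25076, 25792), (25077, 25703), (25078, 26268), (25079, 26269), (25080, 23907), (25081, 23908), (25082, 25991), (25083, 25083), (25084, 25993), (25085, 23965), (25086, 25995), (25087, 26281)]
    ⟨e3 q25024 (flp_d L780375) q26199, e3 q25025 L780451 q26208, e3 q25026 (flp_d L780395) q26201, e3 q25027 (flp_d L768969) q23854, e3 q25028 (flp_d L768986) q23856, e3 q25029 L769006 q24141, e3 q25030 (flp_d L780267) q26188, e3 q25031 L769017 q23943, e3 q25032 L780528 q26215, e3 q25033 L769050 q23934, e3 q25034 (flp_d L780419) q26203, e3 q25035 L780551 q26217, e3 q25036 L780563 q26218, e3 q25037 (flp_d L769087) q23867, e3 q25038 (flp_d L769095) q23869, e3 q25039 (flp_d L769109) q23870, e3 q25040 L780606 q26222, e3 q25041 (flp_d L769136) q23872, e3 q25042 L769148 q23877, e3 q25043 L769164 q23874, e3 q25044 (flp_d L780661) q26227, e3 q25045 (flp_d L769183) q23875, e3 q25046 (flp_d L780624) q26223, e3 q25047 L769199 q25047, e3 q25048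 (flp_d L780633) q26225, e3 q25049 (flp_d L769206) q23878, e3 q25050 (flp_d L769220) q23880, e3 q25051 (flp_d L775789) q25772, e3 q25052 L780734 q26237, e3 q25053 L780746 q26238, e3 q25054 (flp_d L769258) q23884, e3 q25055 (flp_d L769266) q23885, e3 q25056 (flp_d L778116) q25970, e3 q25057 L780795 q26243, e3 q25058 (flp_d L769300) q23888, e3 q25059 L769310 q23894, e3 q25060 L769316 q23930, e3 q25061 L769320 q23896, e3 q25062 L769334 q24277, e3 q25063 (flp_d L769336) q23892, e3 q25064 (flp_d L780809) q26244, e3 q25065 L769350 q23933, e3 q25066 (flp_d L780819) q26246, e3 q25067 L780889 q26257, e3 q25068 (flp_d L780833) q26248, e3 q25069 (flp_d L775953) q25786, e3 q25070 L780901 q26259, e3 q25071 (flp_d L769385) q23899, e3 q25072 (flp_d L779339) q26093, e3 q25073 (flp_d L769401) q23901, e3 q25074 (flp_d L776025) q25791, e3 q25075 L769421 q23938, e3 q25076 (flp_d L776029) q25792, e3 q25077 (flp_d L774934) q25703, e3 q25078 L780978 q26268, e3 q25079 L780988 q26269, e3 q25080 (flp_d L769459) q23907, e3 q25081 (flp_d L769467) q23908,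 e3 q25082 (flp_d L778320) q25991, e3 q25083 L769483 q25083, e3 q25084 (flp_d L778333) q25993, e3 q25085 L769502 q23965, e3 q25086 (flp_d L778345) q25995, e3 q25087 L781079 q26281, trivial⟩ (by decide +kernel)

theorem ce_d_392 : ∀ r, r < 64 → sm gd (Qf (25088 + r)) = Qf (tab Gen.d (25088 + r)) :=
  edges_tab (sm gd) Qf (tab Gen.d) 25088 [(25088, 23967), (25089, 23913), (25090, 23921), (25091, 23940), (25092, 23923), (25093, 26290), (25094, 23942), (25095, 23925), (25096, 24278), (25097, 24001), (25098, 26283), (25099, 23944), (25100, 26285), (25101, 26298), (25102, 26288), (25103, 26300), (25104, 23924), (25105, 26235), (25106, 23927), (25107, 23932), (25108, 26245), (25109, 26305), (25110, 26211), (25111, 26251), (25112, 26209), (25113, 26309), (25114, 26254), (25115, 25624), (25116, 26311), (25117, 23935), (25118, 26284), (25119, 26287), (25120, 23941), (25121, 26315), (25122, 23945), (25123, 26317), (25124, 23947), (25125, 23963), (25126, 24381), (25127, 26143), (25128, 25128), (25129, 26322), (25130, 23954), (25131, 25664),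 (25132, 26325), (25133, 23957), (25134, 26312), (25135, 23959), (25136, 26316), (25137, 23961), (25138, 25668), (25139, 26319), (25140, 26320), (25141, 26332), (25142, 23966), (25143, 26333), (25144, 25144), (25145, 24049), (25146, 26323), (25147, 24392), (25148, 25581), (25149, 25586), (25150, 25947), (25151, 25582)]
    ⟨e3 q25088 L769526 q23967, e3 q25089 (flp_d L769530) q23913, e3 q25090 L769542 q23921, e3 q25091 L769548 q23940, e3 q25092 L769552 q23923, e3 q25093 L781141 q26290, e3 q25094 L769564 q23942, e3 q25095 L769572 q23925, e3 q25096 L769584 q24278, e3 q25097 L769592 q24001, e3 q25098 (flp_d L781103) q26283, e3 q25099 L769608 q23944, e3 q25100 (flp_d L781113) q26285, e3 q25101 L781211 q26298, e3 q25102 (flp_d L781133) q26288, e3 q25103 L781223 q26300, e3 q25104 (flp_d L769632) q23924, e3 q25105 (flp_d L780726) q26235, e3 q25106 (flp_d L769643) q23927, e3 q25107 L769663 q23932, e3 q25108 (flp_d L780815) q26245, e3 q25109 L781261 q26305, e3 q25110 (flp_d L780488) q26211, e3 q25111 (flp_d L780861) q26251, e3 q25112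 (flp_d L780473) q26209, e3 q25113 L781308 q26309, e3 q25114 (flp_d L780875) q26254, e3 q25115 (flp_d L773853) q25624, e3 q25116 L781326 q26311, e3 q25117 (flp_d L769746) q23935, e3 q25118 (flp_d L781109) q26284, e3 q25119 (flp_d L781127) q26287, e3 q25120 (flp_d L769764) q23941, e3 q25121 L781360 q26315, e3 q25122 (flp_d L769784) q23945, e3 q25123 L781378 q26317, e3 q25124 (flp_d L769806) q23947, e3 q25125 L769814 q23963, e3 q25126 L769820 q24381, e3 q25127 (flp_d L779838) q26143, e3 q25128 L769842 q25128, e3 q25129 L781417 q26322, e3 q25130 (flp_d L769862) q23954, e3 q25131 (flp_d L774362) q25664, e3 q25132 L781450 q26325, e3 q25133 (flp_d L769889) q23957, e3 q25134 (flp_d L781340) q26312, e3 q25135 (flp_d L769906) q23959, e3 q25136 (flp_d L781376) q26316, e3 q25137 (flp_d L769929) q23961, e3 q25138 (flp_d L774417) q25668, e3 q25139 (flp_d L781398) q26319, e3 q25140 (flp_d L781402) q26320, e3 q25141 L781521 q26332, e3 q25142 (flp_d L769974) q23966, e3 q25143 (flp_d L781537) q26333, e3 q25144 L770009 q25144, e3 q25145 L770021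 q24049, e3 q25146 (flp_d L781437) q26323, e3 q25147 L770034 q24392, e3 q25148 (flp_d L773236) q25581, e3 q25149 (flp_d L773303) q25586, e3 q25150 (flp_d L777897) q25947, e3 q25151 (flp_d L773252) q25582, trivial⟩ (by decide +kernel)

theorem ce_d_393 : ∀ r, r < 64 → sm gd (Qf (25152 + r)) = Qf (tab Gen.d (25152 + r)) :=
  edges_tab (sm gd) Qf (tab Gen.d) 25152 [(25152, 25584), (25153, 25580), (25154, 25571), (25155, 23983), (25156, 26343), (25157, 23984), (25158, 24219), (25159, 23986), (25160, 24124), (25161, 23988), (25162, 23992), (25163, 23996), (25164, 23993), (25165, 26351), (25166, 26353), (25167, 26355), (25168, 26346), (25169, 26352), (25170, 23997), (25171, 26359), (25172, 26358), (25173, 25795), (25174, 26293), (25175, 25797), (25176, 24003), (25177, 24263), (25178, 24005), (25179, 24008), (25180, 24131), (25181, 26367), (25182, 26045), (25183, 26048), (25184, 24012), (25185, 24015), (25186, 24014), (25187, 26373), (25188, 26376), (25189, 24017), (25190, 24018), (25191, 26379), (25192, 24020), (25193, 26378), (25194,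 24022), (25195, 26385), (25196, 26387), (25197, 24025), (25198, 24026), (25199, 24030), (25200, 24028), (25201, 26394), (25202, 26390), (25203, 26392), (25204, 24031), (25205, 25619), (25206, 24033), (25207, 26402), (25208, 24034), (25209, 24353), (25210, 24057), (25211, 24040), (25212, 24046), (25213, 24041), (25214, 24373), (25215, 24039)]
    ⟨e3 q25152 (flp_d L773272) q25584, e3 q25153 (flp_d L773206) q25580, e3 q25154 (flp_d L773080) q25571, e3 q25155 L770126 q23983, e3 q25156 (flp_d L781656) q26343, e3 q25157 (flp_d L770140) q23984, e3 q25158 L770160 q24219, e3 q25159 (flp_d L770162) q23986, e3 q25160 L770186 q24124, e3 q25161 (flp_d L770188) q23988, e3 q25162 L770208 q23992, e3 q25163 L770216 q23996, e3 q25164 L770220 q23993, e3 q25165 (flp_d L781767) q26351, e3 q25166 (flp_d L781783) q26353, e3 q25167 (flp_d L781801) q26355, e3 q25168 (flp_d L781698) q26346, e3 q25169 (flp_d L781779) q26352, e3 q25170 (flp_d L770266) q23997, e3 q25171 (flp_d L781845) q26359, e3 q25172 (flp_d L781835) q26358, e3 q25173 (flp_d L776067)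 q25795, e3 q25174 (flp_d L781179) q26293, e3 q25175 (flp_d L776085) q25797, e3 q25176 (flp_d L770335) q24003, e3 q25177 L770351 q24263, e3 q25178 L770357 q24005, e3 q25179 L770361 q24008, e3 q25180 L770371 q24131, e3 q25181 (flp_d L781925) q26367, e3 q25182 (flp_d L778832) q26045, e3 q25183 (flp_d L778858) q26048, e3 q25184 (flp_d L770405) q24012, e3 q25185 L770417 q24015, e3 q25186 L770425 q24014, e3 q25187 (flp_d L781976) q26373, e3 q25188 L781998 q26376, e3 q25189 (flp_d L770445) q24017, e3 q25190 (flp_d L770458) q24018, e3 q25191 (flp_d L782044) q26379, e3 q25192 (flp_d L770480) q24020, e3 q25193 (flp_d L782032) q26378, e3 q25194 (flp_d L770494) q24022, e3 q25195 (flp_d L782086) q26385, e3 q25196 L782102 q26387, e3 q25197 (flp_d L770519) q24025, e3 q25198 (flp_d L770529) q24026, e3 q25199 L770545 q24030, e3 q25200 L770553 q24028, e3 q25201 (flp_d L782178) q26394, e3 q25202 (flp_d L782146) q26390, e3 q25203 (flp_d L782160) q26392, e3 q25204 (flp_d L770587) q24031, e3 q25205 (flp_d L773785) q25619, e3 q25206 L770605 q24033,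 e3 q25207 (flp_d L782246) q26402, e3 q25208 (flp_d L770619) q24034, e3 q25209 L770637 q24353, e3 q25210 L770647 q24057, e3 q25211 L770655 q24040, e3 q25212 L770661 q24046, e3 q25213 L770665 q24041, e3 q25214 L770673 q24373, e3 q25215 L770679 q24039, trivial⟩ (by decide +kernel)

theorem ce_d_394 : ∀ r, r < 64 → sm gd (Qf (25216 + r)) = Qf (tab Gen.d (25216 + r)) :=
  edges_tab (sm gd) Qf (tab Gen.d) 25216 [(25216, 26408), (25217, 26410), (25218, 25622), (25219, 26391), (25220, 26101), (25221, 24389), (25222, 24401), (25223, 26335), (25224, 26389), (25225, 24052), (25226, 26415), (25227, 25927), (25228, 26399), (25229, 26329), (25230, 24056), (25231, 26407), (25232, 24062), (25233, 24296), (25234, 26419), (25235, 24064), (25236, 24067), (25237, 24066), (25238, 26423), (25239, 26426), (25240, 24069), (25241, 26428), (25242, 26427), (25243, 26431), (25244, 24073), (25245, 26433), (25246, 26434), (25247, 24076), (25248, 24079), (25249, 24078), (25250, 26437), (25251, 24080), (25252, 24081), (25253, 24316), (25254, 24083), (25255,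 24084), (25256, 24085), (25257, 26421), (25258, 25258), (25259, 24091), (25260, 24092), (25261, 26291), (25262, 26364), (25263, 26450), (25264, 26451), (25265, 24093), (25266, 24097), (25267, 24095), (25268, 26459), (25269, 26455), (25270, 25270), (25271, 26457), (25272, 24098), (25273, 24344), (25274, 24100), (25275, 26467), (25276, 24102), (25277, 24103), (25278, 25627), (25279, 24148)]
    ⟨e3 q25216 (flp_d L782299) q26408, e3 q25217 (flp_d L782313) q26410, e3 q25218 (flp_d L773819) q25622, e3 q25219 (flp_d L782156) q26391, e3 q25220 (flp_d L779423) q26101, e3 q25221 L770738 q24389, e3 q25222 L770746 q24401, e3 q25223 (flp_d L781562) q26335, e3 q25224 (flp_d L782134) q26389, e3 q25225 L770783 q24052, e3 q25226 (flp_d L782358) q26415, e3 q25227 (flp_d L777691) q25927, e3 q25228 (flp_d L782228) q26399, e3 q25229 (flp_d L781499) q26329, e3 q25230 L770824 q24056, e3 q25231 (flp_d L782293) q26407, e3 q25232 (flp_d L770837) q24062, e3 q25233 L770856 q24296, e3 q25234 (flp_d L782399) q26419, e3 q25235 (flp_d L770869) q24064,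 e3 q25236 L770885 q24067, e3 q25237 L770893 q24066, e3 q25238 (flp_d L782433) q26423, e3 q25239 L782461 q26426, e3 q25240 (flp_d L770914) q24069, e3 q25241 (flp_d L782481) q26428, e3 q25242 (flp_d L782473) q26427, e3 q25243 L782501 q26431, e3 q25244 (flp_d L770946) q24073, e3 q25245 (flp_d L782529) q26433, e3 q25246 L782531 q26434, e3 q25247 (flp_d L770978) q24076, e3 q25248 L770994 q24079, e3 q25249 L771002 q24078, e3 q25250 (flp_d L782560) q26437, e3 q25251 (flp_d L771016) q24080, e3 q25252 (flp_d L771022) q24081, e3 q25253 L771040 q24316, e3 q25254 L771048 q24083, e3 q25255 (flp_d L771050) q24084, e3 q25256 (flp_d L771058) q24085, e3 q25257 (flp_d L782422) q26421, e3 q25258 L771072 q25258, e3 q25259 L771081 q24091, e3 q25260 L771085 q24092, e3 q25261 (flp_d L781157) q26291, e3 q25262 (flp_d L781909) q26364, e3 q25263 (flp_d L782662) q26450, e3 q25264 (flp_d L782672) q26451, e3 q25265 (flp_d L771123) q24093, e3 q25266 L771131 q24097, e3 q25267 L771137 q24095, e3 q25268 (flp_d L782729) q26459, e3 q25269 (flp_d L782708) q26455,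 e3 q25270 L771154 q25270, e3 q25271 (flp_d L782715) q26457, e3 q25272 (flp_d L771161) q24098, e3 q25273 L771175 q24344, e3 q25274 L771183 q24100, e3 q25275 L782783 q26467, e3 q25276 (flp_d L771196) q24102, e3 q25277 (flp_d L771204) q24103, e3 q25278 (flp_d L773897) q25627, e3 q25279 L771222 q24148, trivial⟩ (by decide +kernel)

theorem ce_d_395 : ∀ r, r < 64 → sm gd (Qf (25280 + r)) = Qf (tab Gen.d (25280 + r)) :=
  edges_tab (sm gd) Qf (tab Gen.d) 25280 [(25280, 24109), (25281, 24140), (25282, 24110), (25283, 25798), (25284, 24108), (25285, 26480), (25286, 26475), (25287, 26477), (25288, 24111), (25289, 24357), (25290, 24113), (25291, 24114), (25292, 26084), (25293, 24152), (25294, 24116), (25295, 24359), (25296, 24143), (25297, 24361), (25298, 25706), (25299, 24120), (25300, 24121), (25301, 26348), (25302, 25302), (25303, 25689), (25304, 24153), (25305, 26350), (25306, 26458), (25307, 24154), (25308, 24126), (25309, 24134), (25310, 24145), (25311, 24135), (25312, 26049), (25313, 24136), (25314, 26368), (25315, 26200), (25316,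 26508), (25317, 26510), (25318, 26512), (25319, 24137), (25320, 26464), (25321, 26483), (25322, 26509), (25323, 26471), (25324, 26474), (25325, 24150), (25326, 26488), (25327, 26504), (25328, 25985), (25329, 25980), (25330, 24159), (25331, 24158), (25332, 26525), (25333, 26523), (25334, 26527), (25335, 24164), (25336, 24167), (25337, 24166), (25338, 26532), (25339, 26530), (25340, 25987), (25341, 26535), (25342, 24171), (25343, 24172)]
    ⟨e3 q25280 L771232 q24109, e3 q25281 L771240 q24140, e3 q25282 L771244 q24110, e3 q25283 (flp_d L776107) q25798, e3 q25284 L771256 q24108, e3 q25285 (flp_d L782884) q26480, e3 q25286 (flp_d L782848) q26475, e3 q25287 (flp_d L782866) q26477, e3 q25288 (flp_d L771284) q24111, e3 q25289 L771300 q24357, e3 q25290 (flp_d L771302) q24113, e3 q25291 (flp_d L771310) q24114, e3 q25292 (flp_d L779233) q26084, e3 q25293 L771326 q24152, e3 q25294 (flp_d L771328) q24116, e3 q25295 L771344 q24359, e3 q25296 L771350 q24143, e3 q25297 L771354 q24361, e3 q25298 (flp_d L774972) q25706, e3 q25299 (flp_d L771362)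 q24120, e3 q25300 (flp_d L771372) q24121, e3 q25301 (flp_d L781726) q26348, e3 q25302 L771388 q25302, e3 q25303 (flp_d L774738) q25689, e3 q25304 L771397 q24153, e3 q25305 (flp_d L781745) q26350, e3 q25306 (flp_d L782725) q26458, e3 q25307 L771411 q24154, e3 q25308 (flp_d L771415) q24126, e3 q25309 L771423 q24134, e3 q25310 L771429 q24145, e3 q25311 L771433 q24135, e3 q25312 (flp_d L778872) q26049, e3 q25313 L771443 q24136, e3 q25314 (flp_d L781935) q26368, e3 q25315 L780391 q26200, e3 q25316 (flp_d L783079) q26508, e3 q25317 (flp_d L783089) q26510, e3 q25318 (flp_d L783101) q26512, e3 q25319 (flp_d L771469) q24137, e3 q25320 (flp_d L782765) q26464, e3 q25321 (flp_d L782920) q26483, e3 q25322 (flp_d L783085) q26509, e3 q25323 (flp_d L782822) q26471, e3 q25324 (flp_d L782840) q26474, e3 q25325 L771523 q24150, e3 q25326 (flp_d L782949) q26488, e3 q25327 (flp_d L783055) q26504, e3 q25328 (flp_d L778264) q25985, e3 q25329 (flp_d L778208) q25980, e3 q25330 L771572 q24159, e3 q25331 L771578 q24158, e3 q25332 (flp_d L783197) q26525,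 e3 q25333 (flp_d L783183) q26523, e3 q25334 L783207 q26527, e3 q25335 (flp_d L771603) q24164, e3 q25336 L771611 q24167, e3 q25337 L771617 q24166, e3 q25338 (flp_d L783240) q26532, e3 q25339 (flp_d L783226) q26530, e3 q25340 (flp_d L778280) q25987, e3 q25341 L783258 q26535, e3 q25342 (flp_d L771653) q24171, e3 q25343 (flp_d L771659) q24172, trivial⟩ (by decide +kernel)

theorem ce_d_396 : ∀ r, r < 64 → sm gd (Qf (25344 + r)) = Qf (tab Gen.d (25344 + r)) :=
  edges_tab (sm gd) Qf (tab Gen.d) 25344 [(25344, 24265), (25345, 24184), (25346, 24178), (25347, 24180), (25348, 24179), (25349, 24229), (25350, 24177), (25351, 26549), (25352, 26543), (25353, 26546), (25354, 26545), (25355, 26539), (25356, 26542), (25357, 24187), (25358, 24190), (25359, 24189), (25360, 26554), (25361, 25589), (25362, 25591), (25363, 24196), (25364, 26524), (25365, 24195), (25366, 26559), (25367, 25579), (25368, 24198), (25369, 25965), (25370, 24199), (25371, 26468), (25372, 25372), (25373, 24204), (25374, 26531), (25375, 24203), (25376, 26568), (25377,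 24209), (25378, 24207), (25379, 25824), (25380, 25585), (25381, 26571), (25382, 25857), (25383, 24211), (25384, 24214), (25385, 25988), (25386, 26578), (25387, 25872), (25388, 24216), (25389, 26072), (25390, 24235), (25391, 26345), (25392, 26347), (25393, 26572), (25394, 24221), (25395, 24367), (25396, 24236), (25397, 24368), (25398, 26466), (25399, 24232), (25400, 24233), (25401, 25568), (25402, 24234), (25403, 26547), (25404, 26548), (25405, 24231), (25406, 26592), (25407, 26593)]
    ⟨e3 q25344 L771669 q24265, e3 q25345 L771675 q24184, e3 q25346 L771681 q24178, e3 q25347 L771685 q24180, e3 q25348 L771689 q24179, e3 q25349 L771695 q24229, e3 q25350 L771699 q24177, e3 q25351 (flp_d L783347) q26549, e3 q25352 (flp_d L783315) q26543, e3 q25353 (flp_d L783331) q26546, e3 q25354 (flp_d L783325) q26545, e3 q25355 (flp_d L783293) q26539, e3 q25356 (flp_d L783309) q26542, e3 q25357 (flp_d L771740) q24187, e3 q25358 L771756 q24190, e3 q25359 L771764 q24189, e3 q25360 (flp_d L783384) q26554, e3 q25361 (flp_d L773361) q25589, e3 q25362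 (flp_d L773383) q25591, e3 q25363 L771786 q24196, e3 q25364 (flp_d L783191) q26524, e3 q25365 L771798 q24195, e3 q25366 (flp_d L783418) q26559, e3 q25367 (flp_d L773202) q25579, e3 q25368 L771816 q24198, e3 q25369 (flp_d L778059) q25965, e3 q25370 (flp_d L771827) q24199, e3 q25371 (flp_d L782801) q26468, e3 q25372 L771841 q25372, e3 q25373 L771844 q24204, e3 q25374 (flp_d L783236) q26531, e3 q25375 L771856 q24203, e3 q25376 (flp_d L783469) q26568, e3 q25377 L771868 q24209, e3 q25378 L771874 q24207, e3 q25379 (flp_d L776418) q25824, e3 q25380 (flp_d L773297) q25585, e3 q25381 (flp_d L783487) q26571, e3 q25382 (flp_d L776869) q25857, e3 q25383 L771902 q24211, e3 q25384 L771906 q24214, e3 q25385 (flp_d L778296) q25988, e3 q25386 (flp_d L783531) q26578, e3 q25387 (flp_d L777037) q25872, e3 q25388 L771930 q24216, e3 q25389 (flp_d L779126) q26072, e3 q25390 L771942 q24235, e3 q25391 (flp_d L781686) q26345, e3 q25392 (flp_d L781704) q26347, e3 q25393 (flp_d L783497) q26572, e3 q25394 L771960 q24221, e3 q25395 L771966 q24367, e3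 q25396 L771972 q24236, e3 q25397 L771976 q24368, e3 q25398 (flp_d L782781) q26466, e3 q25399 L771990 q24232, e3 q25400 L771994 q24233, e3 q25401 (flp_d L773029) q25568, e3 q25402 L772008 q24234, e3 q25403 (flp_d L783337) q26547, e3 q25404 (flp_d L783343) q26548, e3 q25405 L772020 q24231, e3 q25406 (flp_d L783607) q26592, e3 q25407 (flp_d L783613) q26593, trivial⟩ (by decide +kernel)

theorem ce_d_397 : ∀ r, r < 64 → sm gd (Qf (25408 + r)) = Qf (tab Gen.d (25408 + r)) :=
  edges_tab (sm gd) Qf (tab Gen.d) 25408 [(25408, 24237), (25409, 26044), (25410, 26047), (25411, 26050), (25412, 26056), (25413, 26030), (25414, 26031), (25415, 26032), (25416, 26034), (25417, 24246), (25418, 24250), (25419, 24248), (25420, 26607), (25421, 25421), (25422, 26609), (25423, 24251), (25424, 25789), (25425, 24253), (25426, 25983), (25427, 24258), (25428, 24272), (25429, 24259), (25430, 26538), (25431, 26621), (25432, 26623), (25433, 24260), (25434, 26226), (25435, 24287), (25436, 24273), (25437, 26365), (25438, 26536), (25439, 25439), (25440,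 26540), (25441, 24269), (25442, 26409), (25443, 24270), (25444, 26635), (25445, 26616), (25446, 24276), (25447, 24275), (25448, 26637), (25449, 26249), (25450, 26292), (25451, 24281), (25452, 26496), (25453, 25453), (25454, 26641), (25455, 26615), (25456, 24284), (25457, 26646), (25458, 25756), (25459, 26234), (25460, 26629), (25461, 25741), (25462, 25782), (25463, 24291), (25464, 24292), (25465, 26653), (25466, 24294), (25467, 26418), (25468, 24297), (25469, 26658), (25470, 24298), (25471, 24322)]
    ⟨e3 q25408 (flp_d L772034) q24237, e3 q25409 (flp_d L778820) q26044, e3 q25410 (flp_d L778848) q26047, e3 q25411 (flp_d L778878) q26050, e3 q25412 (flp_d L778949) q26056, e3 q25413 (flp_d L778676) q26030, e3 q25414 (flp_d L778680) q26031, e3 q25415 (flp_d L778690) q26032, e3 q25416 (flp_d L778708) q26034, e3 q25417 (flp_d L772096) q24246, e3 q25418 L772104 q24250, e3 q25419 (flp_d L772106) q24248, e3 q25420 (flp_d L783704) q26607, e3 q25421 L772122 q25421, e3 q25422 (flp_d L783711) q26609, e3 q25423 (flp_d L772131) q24251,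 e3 q25424 (flp_d L775995) q25789, e3 q25425 (flp_d L772143) q24253, e3 q25426 (flp_d L778240) q25983, e3 q25427 L772163 q24258, e3 q25428 L772169 q24272, e3 q25429 L772173 q24259, e3 q25430 (flp_d L783285) q26538, e3 q25431 (flp_d L783793) q26621, e3 q25432 (flp_d L783807) q26623, e3 q25433 (flp_d L772197) q24260, e3 q25434 (flp_d L780653) q26226, e3 q25435 L772223 q24287, e3 q25436 L772229 q24273, e3 q25437 (flp_d L781913) q26365, e3 q25438 (flp_d L783272) q26536, e3 q25439 L772245 q25439, e3 q25440 (flp_d L783297) q26540, e3 q25441 L772252 q24269, e3 q25442 (flp_d L782309) q26409, e3 q25443 L772262 q24270, e3 q25444 (flp_d L783892) q26635, e3 q25445 (flp_d L783762) q26616, e3 q25446 L772281 q24276, e3 q25447 L772287 q24275, e3 q25448 (flp_d L783902) q26637, e3 q25449 (flp_d L780845) q26249, e3 q25450 (flp_d L781173) q26292, e3 q25451 L772311 q24281, e3 q25452 (flp_d L783009) q26496, e3 q25453 L772323 q25453, e3 q25454 (flp_d L783926) q26641, e3 q25455 (flp_d L783754) q26615, e3 q25456 L772334 q24284, e3 q25457 (flp_d L783954)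 q26646, e3 q25458 (flp_d L775594) q25756, e3 q25459 (flp_d L780718) q26234, e3 q25460 (flp_d L783860) q26629, e3 q25461 (flp_d L775409) q25741, e3 q25462 (flp_d L775901) q25782, e3 q25463 L772368 q24291, e3 q25464 (flp_d L772372) q24292, e3 q25465 (flp_d L783998) q26653, e3 q25466 (flp_d L772390) q24294, e3 q25467 (flp_d L782389) q26418, e3 q25468 L772402 q24297, e3 q25469 L784020 q26658, e3 q25470 (flp_d L772410) q24298, e3 q25471 L772418 q24322, trivial⟩ (by decide +kernel)

theorem ce_d_398 : ∀ r, r < 64 → sm gd (Qf (25472 + r)) = Qf (tab Gen.d (25472 + r)) :=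
  edges_tab (sm gd) Qf (tab Gen.d) 25472 [(25472, 24394), (25473, 24302), (25474, 26057), (25475, 26663), (25476, 24303), (25477, 24306), (25478, 26665), (25479, 25479), (25480, 26667), (25481, 26432), (25482, 26445), (25483, 24310), (25484, 26673), (25485, 26263), (25486, 24312), (25487, 24313), (25488, 26675), (25489, 26442), (25490, 24334), (25491, 26443), (25492, 26683), (25493, 24318), (25494, 24319), (25495, 26435), (25496, 25496), (25497, 26659), (25498, 26661), (25499, 24323), (25500, 24329), (25501, 24336), (25502, 24330), (25503, 26374), (25504, 24331), (25505, 26692), (25506, 26694), (25507, 26697), (25508, 26696), (25509, 26693), (25510, 24340), (25511, 25511), (25512, 24342), (25513, 26403), (25514, 25514), (25515, 26701), (25516, 26708), (25517, 26703), (25518, 26463), (25519, 24382), (25520, 26465), (25521, 25705), (25522, 24354), (25523, 26393), (25524, 24383), (25525, 24355), (25526, 26097), (25527, 26095), (25528, 24351), (25529, 26388), (25530, 26405), (25531, 26713), (25532, 26482), (25533, 26484), (25534,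 26491), (25535, 24385)]
    ⟨e3 q25472 L772424 q24394, e3 q25473 L772428 q24302, e3 q25474 (flp_d L778961) q26057, e3 q25475 (flp_d L784048) q26663, e3 q25476 (flp_d L772438) q24303, e3 q25477 L772450 q24306, e3 q25478 (flp_d L784060) q26665, e3 q25479 L772462 q25479, e3 q25480 (flp_d L784069) q26667, e3 q25481 (flp_d L782519) q26432, e3 q25482 (flp_d L782635) q26445, e3 q25483 L772485 q24310, e3 q25484 (flp_d L784111) q26673, e3 q25485 (flp_d L780948) q26263, e3 q25486 (flp_d L772503) q24312, e3 q25487 (flp_d L772505) q24313, e3 q25488 (flp_d L784123) q26675, e3 q25489 (flp_d L782611) q26442, e3 q25490 L772529 q24334, e3 q25491 (flp_d L782615) q26443, e3 q25492 L784168 q26683, e3 q25493 (flp_d L772544) q24318, e3 q25494 (flp_d L772550) q24319, e3 q25495 (flp_d L782549) q26435, e3 q25496 L772568 q25496, e3 q25497 (flp_d L784026) q26659, e3 q25498 (flp_d L784036) q26661, e3 q25499 (flp_d L772579) q24323, e3 q25500 L772591 q24329, e3 q25501 L772599 q24336, e3 q25502 L772603 q24330, e3 q25503 (flp_d L781988) q26374, e3 q25504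 L772617 q24331, e3 q25505 (flp_d L784232) q26692, e3 q25506 (flp_d L784244) q26694, e3 q25507 (flp_d L784266) q26697, e3 q25508 (flp_d L784260) q26696, e3 q25509 (flp_d L784240) q26693, e3 q25510 L772661 q24340, e3 q25511 L772665 q25511, e3 q25512 L772668 q24342, e3 q25513 (flp_d L782260) q26403, e3 q25514 L772682 q25514, e3 q25515 (flp_d L784292) q26701, e3 q25516 L784326 q26708, e3 q25517 (flp_d L784302) q26703, e3 q25518 (flp_d L782755) q26463, e3 q25519 L772711 q24382, e3 q25520 (flp_d L782769) q26465, e3 q25521 (flp_d L774954) q25705, e3 q25522 L772737 q24354, e3 q25523 (flp_d L782172) q26393, e3 q25524 L772753 q24383, e3 q25525 L772763 q24355, e3 q25526 (flp_d L779375) q26097, e3 q25527 (flp_d L779359) q26095, e3 q25528 L772789 q24351, e3 q25529 (flp_d L782122) q26388, e3 q25530 (flp_d L782273) q26405, e3 q25531 (flp_d L784371) q26713, e3 q25532 (flp_d L782908) q26482, e3 q25533 (flp_d L782924) q26484, e3 q25534 (flp_d L782973) q26491, e3 q25535 L772827 q24385, trivial⟩ (by decide +kernel)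

theorem ce_d_399 : ∀ r, r < 64 → sm gd (Qf (25536 + r)) = Qf (tab Gen.d (25536 + r)) :=
  edges_tab (sm gd) Qf (tab Gen.d) 25536 [(25536, 26492), (25537, 26728), (25538, 26494), (25539, 24362), (25540, 25698), (25541, 24398), (25542, 25690), (25543, 24399), (25544, 25699), (25545, 26738), (25546, 26588), (25547, 26590), (25548, 24378), (25549, 24387), (25550, 24379), (25551, 25701), (25552, 24386), (25553, 24380), (25554, 26411), (25555, 26412), (25556, 26100), (25557, 26098), (25558, 26740), (25559, 26742), (25560, 26741), (25561, 26716), (25562, 26655), (25563, 26660), (25564, 26676), (25565, 26730), (25566, 26733), (25567, 24402), (25568, 25401), (25569, 26750), (25570, 24405), (25571, 25154), (25572, 24407), (25573, 24410), (25574, 26754), (25575, 24413), (25576, 26755), (25577, 26759), (25578, 24414), (25579, 25367), (25580, 25153), (25581, 25148), (25582, 25151), (25583, 24421), (25584, 25152), (25585, 25380), (25586, 25149), (25587, 24428), (25588, 24424), (25589, 25361), (25590, 24429), (25591, 25362), (25592, 26774),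 (25593, 26768), (25594, 26775), (25595, 24431), (25596, 26776), (25597, 26778), (25598, 24435), (25599, 26780)]
    ⟨e3 q25536 (flp_d L782977) q26492, e3 q25537 L784471 q26728, e3 q25538 (flp_d L782991) q26494, e3 q25539 (flp_d L772843) q24362, e3 q25540 (flp_d L774862) q25698, e3 q25541 L772861 q24398, e3 q25542 (flp_d L774752) q25690, e3 q25543 L772873 q24399, e3 q25544 (flp_d L774866) q25699, e3 q25545 L784535 q26738, e3 q25546 (flp_d L783583) q26588, e3 q25547 (flp_d L783595) q26590, e3 q25548 L772899 q24378, e3 q25549 L772905 q24387, e3 q25550 L772909 q24379, e3 q25551 (flp_d L774902) q25701, e3 q25552 L772921 q24386, e3 q25553 L772925 q24380, e3 q25554 (flp_d L782321) q26411, e3 q25555 (flp_d L782329) q26412, e3 q25556 (flp_d L779403) q26100, e3 q25557 (flp_d L779385) q26098, e3 q25558 (flp_d L784549) q26740, e3 q25559 (flp_d L784561) q26742, e3 q25560 (flp_d L784555) q26741, e3 q25561 (flp_d L784397) q26716, e3 q25562 (flp_d L784010) q26655, e3 q25563 (flp_d L784032) q26660, e3 q25564 (flp_d L784127) q26676, e3 q25565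 (flp_d L784489) q26730, e3 q25566 (flp_d L784507) q26733, e3 q25567 (flp_d L772999) q24402, e3 q25568 L773029 q25401, e3 q25569 (flp_d L784625) q26750, e3 q25570 (flp_d L773048) q24405, e3 q25571 L773080 q25154, e3 q25572 (flp_d L773082) q24407, e3 q25573 L773114 q24410, e3 q25574 (flp_d L784695) q26754, e3 q25575 L773138 q24413, e3 q25576 (flp_d L784699) q26755, e3 q25577 L784749 q26759, e3 q25578 (flp_d L773170) q24414, e3 q25579 L773202 q25367, e3 q25580 L773206 q25153, e3 q25581 L773236 q25148, e3 q25582 L773252 q25151, e3 q25583 L773268 q24421, e3 q25584 L773272 q25152, e3 q25585 L773297 q25380, e3 q25586 L773303 q25149, e3 q25587 L773315 q24428, e3 q25588 (flp_d L773331) q24424, e3 q25589 L773361 q25361, e3 q25590 L773377 q24429, e3 q25591 L773383 q25362, e3 q25592 L784988 q26774, e3 q25593 (flp_d L784898) q26768, e3 q25594 L785002 q26775, e3 q25595 (flp_d L773429) q24431, e3 q25596 (flp_d L785032) q26776, e3 q25597 L785049 q26778, e3 q25598 (flp_d L773472) q24435, e3 q25599 L785081 q26780, trivial⟩ (by decide +kernel)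

theorem ce_d_400 : ∀ r, r < 64 → sm gd (Qf (25600 + r)) = Qf (tab Gen.d (25600 + r)) :=
  edges_tab (sm gd) Qf (tab Gen.d) 25600 [(25600, 24437), (25601, 26783), (25602, 26784), (25603, 24440), (25604, 26786), (25605, 24442), (25606, 26785), (25607, 24444), (25608, 26792), (25609, 24446), (25610, 26794), (25611, 26796), (25612, 24449), (25613, 26793), (25614, 26800), (25615, 24452), (25616, 24456), (25617, 24454), (25618, 26805), (25619, 25205), (25620, 24463), (25621, 26803), (25622, 25218), (25623, 24458), (25624, 25115), (25625, 26798), (25626, 26813), (25627, 25278), (25628, 24465), (25629, 24470), (25630, 24467), (25631, 26819), (25632, 24468), (25633, 26815), (25634, 24492), (25635, 26817), (25636, 26826), (25637, 24472), (25638, 24891), (25639, 24474), (25640, 26831), (25641, 24476), (25642, 24477), (25643, 24603), (25644, 24508), (25645, 24483), (25646, 24494), (25647, 24485), (25648, 24632), (25649, 24482), (25650, 26845), (25651, 26839), (25652, 26848), (25653, 26842), (25654, 24491), (25655, 26816), (25656, 24489),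 (25657, 26851), (25658, 26781), (25659, 26822), (25660, 26854), (25661, 26855), (25662, 26841), (25663, 24497)]
    ⟨e3 q25600 (flp_d L773506) q24437, e3 q25601 L785126 q26783, e3 q25602 L785142 q26784, e3 q25603 (flp_d L773554) q24440, e3 q25604 (flp_d L785180) q26786, e3 q25605 (flp_d L773577) q24442, e3 q25606 (flp_d L785168) q26785, e3 q25607 (flp_d L773603) q24444, e3 q25608 L785251 q26792, e3 q25609 (flp_d L773638) q24446, e3 q25610 (flp_d L785293) q26794, e3 q25611 L785310 q26796, e3 q25612 (flp_d L773685) q24449, e3 q25613 (flp_d L785279) q26793, e3 q25614 L785362 q26800, e3 q25615 (flp_d L773724) q24452, e3 q25616 L773746 q24456, e3 q25617 L773758 q24454, e3 q25618 (flp_d L785429) q26805, e3 q25619 L773785 q25205, e3 q25620 L773797 q24463, e3 q25621 (flp_d L785401) q26803, e3 q25622 L773819 q25218, e3 q25623 (flp_d L773826) q24458, e3 q25624 L773853 q25115, e3 q25625 (flp_d L785348) q26798, e3 q25626 L785533 q26813, e3 q25627 L773897 q25278, e3 q25628 (flp_d L773899) q24465, e3 q25629 L773923 q24470, e3 q25630 L773937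 q24467, e3 q25631 (flp_d L785623) q26819, e3 q25632 (flp_d L773953) q24468, e3 q25633 (flp_d L785575) q26815, e3 q25634 L773985 q24492, e3 q25635 (flp_d L785593) q26817, e3 q25636 L785701 q26826, e3 q25637 (flp_d L774015) q24472, e3 q25638 L774041 q24891, e3 q25639 L774055 q24474, e3 q25640 L785777 q26831, e3 q25641 (flp_d L774076) q24476, e3 q25642 (flp_d L774090) q24477, e3 q25643 L774110 q24603, e3 q25644 L774122 q24508, e3 q25645 L774134 q24483, e3 q25646 L774146 q24494, e3 q25647 L774150 q24485, e3 q25648 L774162 q24632, e3 q25649 L774170 q24482, e3 q25650 (flp_d L785946) q26845, e3 q25651 (flp_d L785882) q26839, e3 q25652 L785976 q26848, e3 q25653 (flp_d L785918) q26842, e3 q25654 L774231 q24491, e3 q25655 (flp_d L785589) q26816, e3 q25656 L774252 q24489, e3 q25657 (flp_d L786024) q26851, e3 q25658 (flp_d L785111) q26781, e3 q25659 (flp_d L785669) q26822, e3 q25660 L786063 q26854, e3 q25661 L786075 q26855, e3 q25662 (flp_d L785908) q26841, e3 q25663 (flp_d L774341) q24497, trivial⟩ (by decide +kernel)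

theorem ce_d_401 : ∀ r, r < 64 → sm gd (Qf (25664 + r)) = Qf (tab Gen.d (25664 + r)) :=
  edges_tab (sm gd) Qf (tab Gen.d) 25664 [(25664, 25131), (25665, 24760), (25666, 24501), (25667, 26856), (25668, 25138), (25669, 24504), (25670, 26828), (25671, 26835), (25672, 26838), (25673, 24511), (25674, 24896), (25675, 26863), (25676, 24514), (25677, 26864), (25678, 24516), (25679, 24517), (25680, 26867), (25681, 26866), (25682, 24520), (25683, 24524), (25684, 24522), (25685, 24906), (25686, 24525), (25687, 26871), (25688, 24526), (25689, 25303), (25690, 25542), (25691, 24529), (25692, 24533), (25693, 24531), (25694, 24949), (25695, 24534), (25696, 26882), (25697, 24535), (25698, 25540), (25699, 25544), (25700, 24544), (25701, 25551), (25702, 24540), (25703, 25077), (25704, 24546), (25705, 25521), (25706, 25298), (25707, 26891), (25708, 26894), (25709, 26899), (25710, 24549), (25711, 26901), (25712, 26902), (25713, 24552), (25714, 26904), (25715, 26906), (25716, 24555), (25717, 26903), (25718, 26910), (25719, 24558), (25720, 24559),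 (25721, 24984), (25722, 26913), (25723, 24561), (25724, 24562), (25725, 24566), (25726, 24564), (25727, 26922)]
    ⟨e3 q25664 L774362 q25131, e3 q25665 L774374 q24760, e3 q25666 (flp_d L774382) q24501, e3 q25667 (flp_d L786099) q26856, e3 q25668 L774417 q25138, e3 q25669 (flp_d L774426) q24504, e3 q25670 (flp_d L785743) q26828, e3 q25671 (flp_d L785842) q26835, e3 q25672 (flp_d L785874) q26838, e3 q25673 (flp_d L774484) q24511, e3 q25674 L774516 q24896, e3 q25675 L786193 q26863, e3 q25676 (flp_d L774536) q24514, e3 q25677 L786209 q26864, e3 q25678 (flp_d L774569) q24516, e3 q25679 (flp_d L774585) q24517, e3 q25680 (flp_d L786265) q26867, e3 q25681 (flp_d L786251) q26866, e3 q25682 (flp_d L774626) q24520, e3 q25683 L774652 q24524, e3 q25684 L774664 q24522, e3 q25685 L774682 q24906, e3 q25686 L774698 q24525, e3 q25687 (flp_d L786316) q26871, e3 q25688 (flp_d L774710) q24526, e3 q25689 L774738 q25303, e3 q25690 L774752 q25542, e3 q25691 (flp_d L774754) q24529, e3 q25692 L774782 q24533, e3 q25693 L774796 q24531, e3 q25694 L774812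 q24949, e3 q25695 L774826 q24534, e3 q25696 (flp_d L786478) q26882, e3 q25697 (flp_d L774838) q24535, e3 q25698 L774862 q25540, e3 q25699 L774866 q25544, e3 q25700 L774878 q24544, e3 q25701 L774902 q25551, e3 q25702 (flp_d L774906) q24540, e3 q25703 L774934 q25077, e3 q25704 L774948 q24546, e3 q25705 L774954 q25521, e3 q25706 L774972 q25298, e3 q25707 (flp_d L786603) q26891, e3 q25708 (flp_d L786661) q26894, e3 q25709 L786719 q26899, e3 q25710 (flp_d L775020) q24549, e3 q25711 L786748 q26901, e3 q25712 L786764 q26902, e3 q25713 (flp_d L775068) q24552, e3 q25714 (flp_d L786802) q26904, e3 q25715 L786816 q26906, e3 q25716 (flp_d L775108) q24555, e3 q25717 (flp_d L786790) q26903, e3 q25718 L786869 q26910, e3 q25719 (flp_d L775150) q24558, e3 q25720 (flp_d L775164) q24559, e3 q25721 L775180 q24984, e3 q25722 (flp_d L786914) q26913, e3 q25723 (flp_d L775191) q24561, e3 q25724 (flp_d L775201) q24562, e3 q25725 L775219 q24566, e3 q25726 L775229 q24564, e3 q25727 (flp_d L787001) q26922, trivial⟩ (by decide +kernel)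

theorem ce_d_402 : ∀ r, r < 64 → sm gd (Qf (25728 + r)) = Qf (tab Gen.d (25728 + r)) :=
  edges_tab (sm gd) Qf (tab Gen.d) 25728 [(25728, 26918), (25729, 25729), (25730, 26920), (25731, 26927), (25732, 24568), (25733, 26834), (25734, 24570), (25735, 26932), (25736, 24572), (25737, 24577), (25738, 24574), (25739, 26937), (25740, 24575), (25741, 25461), (25742, 24596), (25743, 26935), (25744, 24578), (25745, 25012), (25746, 24580), (25747, 24581), (25748, 24582), (25749, 26916), (25750, 25750), (25751, 24590), (25752, 24592), (25753, 26804), (25754, 24587), (25755, 24588), (25756, 25458), (25757, 24598), (25758, 26953), (25759, 26963), (25760, 26954), (25761, 26939), (25762, 26965), (25763, 26958), (25764, 24599), (25765, 26967), (25766, 24601), (25767, 26832), (25768, 25768), (25769, 26836), (25770, 24604), (25771, 26974), (25772, 25051), (25773, 24607), (25774, 26977), (25775, 24615), (25776, 26818), (25777, 24610), (25778, 26981), (25779, 24611), (25780, 24953), (25781, 24644), (25782, 25462), (25783, 26989), (25784, 26978),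 (25785, 24616), (25786, 25069), (25787, 24618), (25788, 24619), (25789, 25424), (25790, 24658), (25791, 25074)]
    ⟨e3 q25728 (flp_d L786968) q26918, e3 q25729 L775259 q25729, e3 q25730 (flp_d L786981) q26920, e3 q25731 L787049 q26927, e3 q25732 (flp_d L775287) q24568, e3 q25733 (flp_d L785830) q26834, e3 q25734 (flp_d L775309) q24570, e3 q25735 (flp_d L787126) q26932, e3 q25736 (flp_d L775338) q24572, e3 q25737 L775362 q24577, e3 q25738 L775372 q24574, e3 q25739 (flp_d L787183) q26937, e3 q25740 (flp_d L775387) q24575, e3 q25741 L775409 q25461, e3 q25742 L775421 q24596, e3 q25743 (flp_d L787159) q26935, e3 q25744 (flp_d L775431) q24578, e3 q25745 L775457 q25012, e3 q25746 L775469 q24580, e3 q25747 (flp_d L775473) q24581, e3 q25748 (flp_d L775491) q24582, e3 q25749 (flp_d L786945) q26916, e3 q25750 L775519 q25750, e3 q25751 L775534 q24590, e3 q25752 L775538 q24592, e3 q25753 (flp_d L785421) q26804, e3 q25754 L775558 q24587, e3 q25755 (flp_d L775566) q24588, e3 q25756 L775594 q25458, e3 q25757 L775608 q24598, e3 q25758 (flp_d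 L787390) q26953, e3 q25759 L787512 q26963, e3 q25760 (flp_d L787406) q26954, e3 q25761 (flp_d L787217) q26939, e3 q25762 L787538 q26965, e3 q25763 (flp_d L787462) q26958, e3 q25764 (flp_d L775681) q24599, e3 q25765 L787563 q26967, e3 q25766 (flp_d L775710) q24601, e3 q25767 (flp_d L785805) q26832, e3 q25768 L775736 q25768, e3 q25769 (flp_d L785846) q26836, e3 q25770 (flp_d L775747) q24604, e3 q25771 (flp_d L787658) q26974, e3 q25772 L775789 q25051, e3 q25773 L775799 q24607, e3 q25774 (flp_d L787688) q26977, e3 q25775 L775821 q24615, e3 q25776 (flp_d L785615) q26818, e3 q25777 L775843 q24610, e3 q25778 (flp_d L787738) q26981, e3 q25779 (flp_d L775863) q24611, e3 q25780 L775885 q24953, e3 q25781 L775897 q24644, e3 q25782 L775901 q25462, e3 q25783 L787836 q26989, e3 q25784 (flp_d L787702) q26978, e3 q25785 (flp_d L775927) q24616, e3 q25786 L775953 q25069, e3 q25787 L775965 q24618, e3 q25788 (flp_d L775969) q24619, e3 q25789 L775995 q25424, e3 q25790 L776007 q24658, e3 q25791 L776025 q25074, trivial⟩ (by decide +kernel)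

theorem ce_d_403 : ∀ r, r < 64 → sm gd (Qf (25792 + r)) = Qf (tab Gen.d (25792 + r)) :=
  edges_tab (sm gd) Qf (tab Gen.d) 25792 [(25792, 25076), (25793, 26896), (25794, 24624), (25795, 25173), (25796, 24659), (25797, 25175), (25798, 25283), (25799, 24660), (25800, 24628), (25801, 24636), (25802, 24638), (25803, 24640), (25804, 26843), (25805, 26844), (25806, 24634), (25807, 27007), (25808, 24647), (25809, 27008), (25810, 26992), (25811, 27009), (25812, 27018), (25813, 24639), (25814, 26983), (25815, 26986), (25816, 27020), (25817, 24646), (25818, 24648), (25819, 24656), (25820, 27022), (25821, 26994), (25822, 27006), (25823, 24662), (25824, 25379), (25825, 24664), (25826, 24665), (25827, 27027), (25828, 24667), (25829, 27026), (25830, 27029), (25831, 24670), (25832, 24705), (25833, 24675), (25834, 24673), (25835, 24697), (25836, 24676), (25837, 27033), (25838, 27038), (25839, 27039), (25840, 24679), (25841, 27041), (25842, 24681), (25843, 27040), (25844, 27028), (25845, 24684), (25846, 27048), (25847, 24686), (25848, 24691),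 (25849, 24688), (25850, 27053), (25851, 24689), (25852, 27025), (25853, 24695), (25854, 27051), (25855, 27055)]
    ⟨e3 q25792 L776029 q25076, e3 q25793 (flp_d L786691) q26896, e3 q25794 L776047 q24624, e3 q25795 L776067 q25173, e3 q25796 L776079 q24659, e3 q25797 L776085 q25175, e3 q25798 L776107 q25283, e3 q25799 L776113 q24660, e3 q25800 (flp_d L776123) q24628, e3 q25801 L776155 q24636, e3 q25802 L776159 q24638, e3 q25803 L776171 q24640, e3 q25804 (flp_d L785930) q26843, e3 q25805 (flp_d L785938) q26844, e3 q25806 L776195 q24634, e3 q25807 (flp_d L788104) q27007, e3 q25808 L776219 q24647, e3 q25809 (flp_d L788108) q27008, e3 q25810 (flp_d L787888) q26992, e3 q25811 (flp_d L788124) q27009, e3 q25812 L788202 q27018, e3 q25813 (flp_d L776249) q24639, e3 q25814 (flp_d L787774) q26983, e3 q25815 (flp_d L787806) q26986, e3 q25816 L788218 q27020, e3 q25817 (flp_d L776306) q24646, e3 q25818 (flp_d L776318) q24648, e3 q25819 L776338 q24656, e3 q25820 (flp_d L788252) q27022, e3 q25821 (flp_d L787922) q26994, e3 q25822 (flp_d L788076)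 q27006, e3 q25823 (flp_d L776386) q24662, e3 q25824 L776418 q25379, e3 q25825 (flp_d L776420) q24664, e3 q25826 (flp_d L776438) q24665, e3 q25827 (flp_d L788338) q27027, e3 q25828 (flp_d L776469) q24667, e3 q25829 (flp_d L788324) q27026, e3 q25830 (flp_d L788372) q27029, e3 q25831 (flp_d L776514) q24670, e3 q25832 L776544 q24705, e3 q25833 L776558 q24675, e3 q25834 L776572 q24673, e3 q25835 L776588 q24697, e3 q25836 L776602 q24676, e3 q25837 (flp_d L788420) q27033, e3 q25838 L788486 q27038, e3 q25839 L788502 q27039, e3 q25840 (flp_d L776648) q24679, e3 q25841 (flp_d L788536) q27041, e3 q25842 (flp_d L776667) q24681, e3 q25843 (flp_d L788526) q27040, e3 q25844 (flp_d L788356) q27028, e3 q25845 (flp_d L776703) q24684, e3 q25846 (flp_d L788631) q27048, e3 q25847 (flp_d L776736) q24686, e3 q25848 L776756 q24691, e3 q25849 L776764 q24688, e3 q25850 (flp_d L788684) q27053, e3 q25851 (flp_d L776783) q24689, e3 q25852 (flp_d L788310) q27025, e3 q25853 L776809 q24695, e3 q25854 (flp_d L788662) q27051, e3 q25855 (flp_d L788724) q27055,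 trivial⟩ (by decide +kernel)

theorem ce_d_404 : ∀ r, r < 64 → sm gd (Qf (25856 + r)) = Qf (tab Gen.d (25856 + r)) :=
  edges_tab (sm gd) Qf (tab Gen.d) 25856 [(25856, 27059), (25857, 25382), (25858, 27035), (25859, 24803), (25860, 24699), (25861, 24892), (25862, 24710), (25863, 24707), (25864, 24832), (25865, 24703), (25866, 27031), (25867, 24708), (25868, 27032), (25869, 27073), (25870, 27066), (25871, 24709), (25872, 25387), (25873, 27054), (25874, 27076), (25875, 24714), (25876, 24715), (25877, 24718), (25878, 24717), (25879, 27080), (25880, 24719), (25881, 27084), (25882, 27085), (25883, 24722), (25884, 27087), (25885, 24724), (25886, 27086), (25887, 24726), (25888, 27092), (25889, 24728), (25890, 27095), (25891, 24730), (25892, 24731), (25893, 24735), (25894, 24733), (25895, 27101), (25896, 27098), (25897, 24738), (25898, 27099), (25899, 27105), (25900, 26769), (25901, 24743), (25902, 24741), (25903, 27094), (25904, 27107), (25905, 27077), (25906, 24746), (25907, 27114), (25908, 27113), (25909, 24751), (25910, 24756),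 (25911, 24753), (25912, 27034), (25913, 24750), (25914, 27115), (25915, 27123), (25916, 27118), (25917, 27124), (25918, 27117), (25919, 24758)]
    ⟨e3 q25856 L788750 q27059, e3 q25857 L776869 q25382, e3 q25858 (flp_d L788448) q27035, e3 q25859 L776885 q24803, e3 q25860 L776897 q24699, e3 q25861 L776915 q24892, e3 q25862 L776929 q24710, e3 q25863 L776935 q24707, e3 q25864 L776945 q24832, e3 q25865 L776953 q24703, e3 q25866 (flp_d L788404) q27031, e3 q25867 L776985 q24708, e3 q25868 (flp_d L788408) q27032, e3 q25869 L788920 q27073, e3 q25870 (flp_d L788852) q27066, e3 q25871 (flp_d L777011) q24709, e3 q25872 L777037 q25387, e3 q25873 (flp_d L788708) q27054, e3 q25874 L788958 q27076, e3 q25875 (flp_d L777066) q24714, e3 q25876 (flp_d L777080) q24715, e3 q25877 L777102 q24718, e3 q25878 L777112 q24717, e3 q25879 (flp_d L789021) q27080, e3 q25880 (flp_d L777122) q24719, e3 q25881 L789063 q27084, e3 q25882 L789079 q27085, e3 q25883 (flp_d L777172) q24722, e3 q25884 (flp_d L789119) q27087, e3 q25885 (flp_d L777199) q24724, e3 q25886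 (flp_d L789105) q27086, e3 q25887 (flp_d L777225) q24726, e3 q25888 (flp_d L789188) q27092, e3 q25889 (flp_d L777249) q24728, e3 q25890 (flp_d L789222) q27095, e3 q25891 (flp_d L777280) q24730, e3 q25892 (flp_d L777292) q24731, e3 q25893 L777318 q24735, e3 q25894 L777328 q24733, e3 q25895 (flp_d L789291) q27101, e3 q25896 (flp_d L789265) q27098, e3 q25897 L777361 q24738, e3 q25898 (flp_d L789269) q27099, e3 q25899 L789323 q27105, e3 q25900 (flp_d L784930) q26769, e3 q25901 L777402 q24743, e3 q25902 (flp_d L777404) q24741, e3 q25903 (flp_d L789208) q27094, e3 q25904 (flp_d L789349) q27107, e3 q25905 (flp_d L788986) q27077, e3 q25906 L777452 q24746, e3 q25907 L789423 q27114, e3 q25908 (flp_d L789411) q27113, e3 q25909 L777496 q24751, e3 q25910 L777506 q24756, e3 q25911 L777510 q24753, e3 q25912 (flp_d L788442) q27034, e3 q25913 L777526 q24750, e3 q25914 (flp_d L789441) q27115, e3 q25915 L789509 q27123, e3 q25916 (flp_d L789473) q27118, e3 q25917 L789519 q27124, e3 q25918 (flp_d L789461) q27117, e3 q25919 (flp_d L777586) q24758,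 trivial⟩ (by decide +kernel)

theorem ce_d_405 : ∀ r, r < 64 → sm gd (Qf (25920 + r)) = Qf (tab Gen.d (25920 + r)) :=
  edges_tab (sm gd) Qf (tab Gen.d) 25920 [(25920, 27125), (25921, 27127), (25922, 27128), (25923, 24764), (25924, 24766), (25925, 27129), (25926, 24768), (25927, 25227), (25928, 27134), (25929, 27137), (25930, 24771), (25931, 24772), (25932, 24776), (25933, 24774), (25934, 27144), (25935, 27140), (25936, 25936), (25937, 27142), (25938, 27047), (25939, 27150), (25940, 24779), (25941, 24783), (25942, 24781), (25943, 27108), (25944, 24797), (25945, 27153), (25946, 24784), (25947, 25150), (25948, 24786), (25949, 27162), (25950, 24787), (25951, 27138), (25952, 25952), (25953, 24794), (25954, 24799), (25955, 24796), (25956, 27052), (25957, 24792), (25958, 26752), (25959, 24800), (25960, 27168), (25961, 27177), (25962, 27170), (25963, 24801), (25964, 27023), (25965, 25369), (25966, 27062), (25967, 27182), (25968, 24805), (25969, 24806), (25970, 25056), (25971, 24852), (25972, 24811), (25973, 24841), (25974, 24813),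 (25975, 27036), (25976, 27189), (25977, 27120), (25978, 27191), (25979, 24814), (25980, 25329), (25981, 24816), (25982, 24817), (25983, 25426)]
    ⟨e3 q25920 (flp_d L789545) q27125, e3 q25921 L789561 q27127, e3 q25922 L789577 q27128, e3 q25923 (flp_d L777643) q24764, e3 q25924 (flp_d L777653) q24766, e3 q25925 (flp_d L789603) q27129, e3 q25926 (flp_d L777675) q24768, e3 q25927 L777691 q25227, e3 q25928 (flp_d L789654) q27134, e3 q25929 L789673 q27137, e3 q25930 (flp_d L777719) q24771, e3 q25931 (flp_d L777725) q24772, e3 q25932 L777739 q24776, e3 q25933 L777747 q24774, e3 q25934 (flp_d L789739) q27144, e3 q25935 (flp_d L789712) q27140, e3 q25936 L777775 q25936, e3 q25937 (flp_d L789723) q27142, e3 q25938 (flp_d L788615) q27047, e3 q25939 L789799 q27150, e3 q25940 (flp_d L777815) q24779, e3 q25941 L777835 q24783, e3 q25942 L777845 q24781, e3 q25943 (flp_d L789367) q27108, e3 q25944 L777863 q24797, e3 q25945 (flp_d L789842) q27153, e3 q25946 (flp_d L777871) q24784, e3 q25947 L777897 q25150, e3 q25948 L777911 q24786, e3 q25949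 (flp_d L789943) q27162, e3 q25950 (flp_d L777930) q24787, e3 q25951 (flp_d L789695) q27138, e3 q25952 L777950 q25952, e3 q25953 L777957 q24794, e3 q25954 L777969 q24799, e3 q25955 L777973 q24796, e3 q25956 (flp_d L788676) q27052, e3 q25957 L777989 q24792, e3 q25958 (flp_d L784661) q26752, e3 q25959 L778015 q24800, e3 q25960 (flp_d L789991) q27168, e3 q25961 L790069 q27177, e3 q25962 (flp_d L790011) q27170, e3 q25963 (flp_d L778037) q24801, e3 q25964 (flp_d L788276) q27023, e3 q25965 L778059 q25369, e3 q25966 (flp_d L788796) q27062, e3 q25967 L790110 q27182, e3 q25968 (flp_d L778088) q24805, e3 q25969 (flp_d L778098) q24806, e3 q25970 L778116 q25056, e3 q25971 L778126 q24852, e3 q25972 L778134 q24811, e3 q25973 L778142 q24841, e3 q25974 L778146 q24813, e3 q25975 (flp_d L788472) q27036, e3 q25976 (flp_d L790191) q27189, e3 q25977 (flp_d L789491) q27120, e3 q25978 (flp_d L790209) q27191, e3 q25979 (flp_d L778182) q24814, e3 q25980 L778208 q25329, e3 q25981 (flp_d L778210) q24816, e3 q25982 (flp_d L778222) q24817, e3 q25983 L778240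 q25426, trivial⟩ (by decide +kernel)

theorem ce_d_406 : ∀ r, r < 64 → sm gd (Qf (25984 + r)) = Qf (tab Gen.d (25984 + r)) :=
  edges_tab (sm gd) Qf (tab Gen.d) 25984 [(25984, 24855), (25985, 25328), (25986, 24842), (25987, 25340), (25988, 25385), (25989, 24822), (25990, 24823), (25991, 25082), (25992, 25992), (25993, 25084), (25994, 24857), (25995, 25086), (25996, 27220), (25997, 24859), (25998, 24836), (25999, 24844), (26000, 24838), (26001, 27227), (26002, 24846), (26003, 24840), (26004, 27067), (26005, 27068), (26006, 24834), (26007, 26749), (26008, 27223), (26009, 27209), (26010, 27225), (26011, 27236), (26012, 24839), (26013, 27206), (26014, 24845), (26015, 24850), (26016, 27203), (26017, 24968), (26018, 27222), (26019, 27239), (26020, 27186), (26021, 27200), (26022, 27243), (26023, 27217), (26024, 24858), (26025, 27245), (26026, 26993), (26027, 24864), (26028, 24863), (26029, 27247), (26030, 25413), (26031, 25414), (26032, 25415), (26033, 26830), (26034, 25416), (26035, 24870), (26036, 27195), (26037, 24875), (26038,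 24873), (26039, 27259), (26040, 27158), (26041, 26041), (26042, 27257), (26043, 24876), (26044, 25409), (26045, 25182), (26046, 24883), (26047, 25410)]
    ⟨e3 q25984 L778252 q24855, e3 q25985 L778264 q25328, e3 q25986 L778276 q24842, e3 q25987 L778280 q25340, e3 q25988 L778296 q25385, e3 q25989 L778302 q24822, e3 q25990 (flp_d L778308) q24823, e3 q25991 L778320 q25082, e3 q25992 L778326 q25992, e3 q25993 L778333 q25084, e3 q25994 L778341 q24857, e3 q25995 L778345 q25086, e3 q25996 L790492 q27220, e3 q25997 L778361 q24859, e3 q25998 L778371 q24836, e3 q25999 L778381 q24844, e3 q26000 L778387 q24838, e3 q26001 L790552 q27227, e3 q26002 L778397 q24846, e3 q26003 L778403 q24840, e3 q26004 (flp_d L788862) q27067, e3 q26005 (flp_d L788870) q27068, e3 q26006 L778421 q24834, e3 q26007 (flp_d L784609) q26749, e3 q26008 (flp_d L790524) q27223, e3 q26009 (flp_d L790414) q27209, e3 q26010 (flp_d L790544) q27225, e3 q26011 L790616 q27236, e3 q26012 (flp_d L778467) q24839, e3 q26013 (flp_d L790378) q27206, e3 q26014 (flp_d L778488) q24845,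 e3 q26015 L778494 q24850, e3 q26016 (flp_d L790340) q27203, e3 q26017 L778523 q24968, e3 q26018 (flp_d L790514) q27222, e3 q26019 (flp_d L790633) q27239, e3 q26020 (flp_d L790169) q27186, e3 q26021 (flp_d L790310) q27200, e3 q26022 L790678 q27243, e3 q26023 (flp_d L790472) q27217, e3 q26024 (flp_d L778589) q24858, e3 q26025 (flp_d L790710) q27245, e3 q26026 (flp_d L787906) q26993, e3 q26027 L778636 q24864, e3 q26028 L778650 q24863, e3 q26029 (flp_d L790728) q27247, e3 q26030 L778676 q25413, e3 q26031 L778680 q25414, e3 q26032 L778690 q25415, e3 q26033 (flp_d L785773) q26830, e3 q26034 L778708 q25416, e3 q26035 (flp_d L778718) q24870, e3 q26036 (flp_d L790253) q27195, e3 q26037 L778746 q24875, e3 q26038 L778756 q24873, e3 q26039 (flp_d L790865) q27259, e3 q26040 (flp_d L789894) q27158, e3 q26041 L778783 q26041, e3 q26042 (flp_d L790843) q27257, e3 q26043 (flp_d L778794) q24876, e3 q26044 L778820 q25409, e3 q26045 L778832 q25182, e3 q26046 L778842 q24883, e3 q26047 L778848 q25410, trivial⟩ (by decide +kernel)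

theorem ce_d_407 : ∀ r, r < 64 → sm gd (Qf (26048 + r)) = Qf (tab Gen.d (26048 + r)) :=
  edges_tab (sm gd) Qf (tab Gen.d) 26048 [(26048, 25183), (26049, 25312), (26050, 25411), (26051, 24886), (26052, 26869), (26053, 26053), (26054, 27271), (26055, 24890), (26056, 25412), (26057, 25474), (26058, 27275), (26059, 26829), (26060, 27064), (26061, 24898), (26062, 24900), (26063, 26861), (26064, 24901), (26065, 26862), (26066, 27000), (26067, 27280), (26068, 27286), (26069, 24899), (26070, 24904), (26071, 27288), (26072, 25389), (26073, 26873), (26074, 27199), (26075, 24910), (26076, 24909), (26077, 27292), (26078, 27078), (26079, 26079), (26080, 24914), (26081, 27248), (26082, 27297), (26083, 24915), (26084, 25292), (26085, 24917), (26086, 24921), (26087, 24919), (26088, 27306), (26089, 27302), (26090, 26090), (26091, 27304), (26092, 24922), (26093, 25072), (26094, 24924), (26095, 25527), (26096, 24932), (26097, 25526), (26098, 25557), (26099, 27321), (26100, 25556), (26101, 25220), (26102, 27315), (26103, 27324), (26104, 24933),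 (26105, 24934), (26106, 24937), (26107, 27326), (26108, 26108), (26109, 27328), (26110, 24938), (26111, 26982)]
    ⟨e3 q26048 L778858 q25183, e3 q26049 L778872 q25312, e3 q26050 L778878 q25411, e3 q26051 L778902 q24886, e3 q26052 (flp_d L786295) q26869, e3 q26053 L778920 q26053, e3 q26054 (flp_d L790996) q27271, e3 q26055 L778933 q24890, e3 q26056 L778949 q25412, e3 q26057 L778961 q25474, e3 q26058 (flp_d L791042) q27275, e3 q26059 (flp_d L785749) q26829, e3 q26060 (flp_d L788820) q27064, e3 q26061 L779005 q24898, e3 q26062 L779021 q24900, e3 q26063 (flp_d L786175) q26861, e3 q26064 L779051 q24901, e3 q26065 (flp_d L786179) q26862, e3 q26066 (flp_d L787992) q27000, e3 q26067 (flp_d L791114) q27280, e3 q26068 L791170 q27286, e3 q26069 (flp_d L779077) q24899, e3 q26070 L779097 q24904, e3 q26071 (flp_d L791196) q27288, e3 q26072 L779126 q25389, e3 q26073 (flp_d L786342) q26873, e3 q26074 (flp_d L790298) q27199, e3 q26075 L779152 q24910, e3 q26076 L779162 q24909, e3 q26077 (flp_d L791246) q27292, e3 q26078 (flp_d L789002) q27078,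 e3 q26079 L779188 q26079, e3 q26080 L779193 q24914, e3 q26081 (flp_d L790752) q27248, e3 q26082 (flp_d L791292) q27297, e3 q26083 (flp_d L779209) q24915, e3 q26084 L779233 q25292, e3 q26085 (flp_d L779235) q24917, e3 q26086 L779257 q24921, e3 q26087 L779271 q24919, e3 q26088 (flp_d L791396) q27306, e3 q26089 (flp_d L791351) q27302, e3 q26090 L779300 q26090, e3 q26091 (flp_d L791366) q27304, e3 q26092 (flp_d L779311) q24922, e3 q26093 L779339 q25072, e3 q26094 (flp_d L779341) q24924, e3 q26095 L779359 q25527, e3 q26096 L779369 q24932, e3 q26097 L779375 q25526, e3 q26098 L779385 q25557, e3 q26099 L791560 q27321, e3 q26100 L779403 q25556, e3 q26101 L779423 q25220, e3 q26102 (flp_d L791506) q27315, e3 q26103 L791593 q27324, e3 q26104 (flp_d L779447) q24933, e3 q26105 (flp_d L779457) q24934, e3 q26106 L779483 q24937, e3 q26107 (flp_d L791626) q27326, e3 q26108 L779499 q26108, e3 q26109 (flp_d L791645) q27328, e3 q26110 (flp_d L779506) q24938, e3 q26111 (flp_d L787758) q26982, trivial⟩ (by decide +kernel)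

theorem ce_d_408 : ∀ r, r < 64 → sm gd (Qf (26112 + r)) = Qf (tab Gen.d (26112 + r)) :=
  edges_tab (sm gd) Qf (tab Gen.d) 26112 [(26112, 24940), (26113, 24944), (26114, 24962), (26115, 24946), (26116, 27335), (26117, 24964), (26118, 27337), (26119, 27345), (26120, 27339), (26121, 24947), (26122, 27346), (26123, 26884), (26124, 24950), (26125, 26968), (26126, 26126), (26127, 26938), (26128, 26984), (26129, 24957), (26130, 27357), (26131, 24959), (26132, 27355), (26133, 27359), (26134, 24958), (26135, 24963), (26136, 27336), (26137, 27362), (26138, 27363), (26139, 27342), (26140, 24965), (26141, 24966), (26142, 24970), (26143, 25127), (26144, 27365), (26145, 26990), (26146, 24973), (26147, 24974), (26148, 24978), (26149, 24976), (26150, 27368), (26151, 26151), (26152, 27370), (26153, 24979), (26154, 26809), (26155, 27377), (26156, 24981), (26157, 24982), (26158, 26912), (26159, 24985), (26160, 27386), (26161, 27385), (26162, 24986), (26163, 24987), (26164, 25016), (26165, 24989), (26166, 24995), (26167, 26167), (26168, 24997),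 (26169, 27258), (26170, 24993), (26171, 27401), (26172, 27393), (26173, 26173), (26174, 27395), (26175, 27406)]
    ⟨e3 q26112 (flp_d L779532) q24940, e3 q26113 L779552 q24944, e3 q26114 L779564 q24962, e3 q26115 L779570 q24946, e3 q26116 (flp_d L791726) q27335, e3 q26117 L779592 q24964, e3 q26118 (flp_d L791742) q27337, e3 q26119 L791814 q27345, e3 q26120 (flp_d L791768) q27339, e3 q26121 (flp_d L779614) q24947, e3 q26122 (flp_d L791836) q27346, e3 q26123 (flp_d L786508) q26884, e3 q26124 (flp_d L779652) q24950, e3 q26125 (flp_d L787589) q26968, e3 q26126 L779680 q26126, e3 q26127 (flp_d L787203) q26938, e3 q26128 (flp_d L787780) q26984, e3 q26129 L779707 q24957, e3 q26130 L791949 q27357, e3 q26131 L779725 q24959, e3 q26132 (flp_d L791933) q27355, e3 q26133 L791967 q27359, e3 q26134 (flp_d L779745) q24958, e3 q26135 L779761 q24963, e3 q26136 (flp_d L791738) q27336, e3 q26137 L791988 q27362, e3 q26138 L792000 q27363, e3 q26139 (flp_d L791794) q27342, e3 q26140 (flp_d L779806) q24965, e3 q26141 (flp_d L779814) q24966, e3 q26142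 L779828 q24970, e3 q26143 L779838 q25127, e3 q26144 (flp_d L792019) q27365, e3 q26145 (flp_d L787864) q26990, e3 q26146 (flp_d L779864) q24973, e3 q26147 (flp_d L779878) q24974, e3 q26148 L779900 q24978, e3 q26149 (flp_d L779902) q24976, e3 q26150 (flp_d L792057) q27368, e3 q26151 L779924 q26151, e3 q26152 (flp_d L792074) q27370, e3 q26153 (flp_d L779931) q24979, e3 q26154 (flp_d L785481) q26809, e3 q26155 (flp_d L792141) q27377, e3 q26156 (flp_d L779968) q24981, e3 q26157 (flp_d L779984) q24982, e3 q26158 (flp_d L786904) q26912, e3 q26159 L780004 q24985, e3 q26160 L792221 q27386, e3 q26161 (flp_d L792217) q27385, e3 q26162 (flp_d L780021) q24986, e3 q26163 (flp_d L780035) q24987, e3 q26164 L780059 q25016, e3 q26165 (flp_d L780061) q24989, e3 q26166 L780073 q24995, e3 q26167 L780077 q26167, e3 q26168 L780080 q24997, e3 q26169 (flp_d L790859) q27258, e3 q26170 L780092 q24993, e3 q26171 (flp_d L792353) q27401, e3 q26172 (flp_d L792311) q27393, e3 q26173 L780123 q26173, e3 q26174 (flp_d L792322) q27395, e3 q26175 L792391 q27406,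 trivial⟩ (by decide +kernel)

theorem ce_d_409 : ∀ r, r < 64 → sm gd (Qf (26176 + r)) = Qf (tab Gen.d (26176 + r)) :=
  edges_tab (sm gd) Qf (tab Gen.d) 26176 [(26176, 27398), (26177, 25001), (26178, 24999), (26179, 26943), (26180, 26180), (26181, 27407), (26182, 26931), (26183, 25003), (26184, 25008), (26185, 25010), (26186, 25006), (26187, 27414), (26188, 25030), (26189, 27415), (26190, 27424), (26191, 27416), (26192, 26957), (26193, 26945), (26194, 25013), (26195, 27389), (26196, 27391), (26197, 27392), (26198, 25022), (26199, 25024), (26200, 25315), (26201, 25026), (26202, 27380), (26203, 25034), (26204, 27431), (26205, 27438), (26206, 27432), (26207, 27440), (26208, 25025), (26209, 25112), (26210, 27418), (26211, 25110), (26212, 27444), (26213, 27421), (26214, 27445), (26215, 25032), (26216, 27447), (26217, 25035), (26218, 25036), (26219, 26219), (26220, 26827), (26221, 26893), (26222, 25040), (26223, 25046), (26224, 26224), (26225, 25048), (26226, 25434), (26227, 25044), (26228, 27454), (26229, 26229), (26230, 27456),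 (26231, 27466), (26232, 27459), (26233, 26973), (26234, 25459), (26235, 25105), (26236, 26975), (26237, 25052), (26238, 25053), (26239, 27183)]
    ⟨e3 q26176 (flp_d L792337) q27398, e3 q26177 L780156 q25001, e3 q26178 (flp_d L780158) q24999, e3 q26179 (flp_d L787263) q26943, e3 q26180 L780182 q26180, e3 q26181 (flp_d L792396) q27407, e3 q26182 (flp_d L787112) q26931, e3 q26183 (flp_d L780203) q25003, e3 q26184 L780231 q25008, e3 q26185 L780235 q25010, e3 q26186 (flp_d L780245) q25006, e3 q26187 (flp_d L792479) q27414, e3 q26188 L780267 q25030, e3 q26189 (flp_d L792483) q27415, e3 q26190 L792565 q27424, e3 q26191 (flp_d L792495) q27416, e3 q26192 (flp_d L787446) q26957, e3 q26193 (flp_d L787284) q26945, e3 q26194 (flp_d L780313) q25013, e3 q26195 (flp_d L792263) q27389, e3 q26196 (flp_d L792291) q27391, e3 q26197 (flp_d L792295) q27392, e3 q26198 L780371 q25022, e3 q26199 L780375 q25024, e3 q26200 (flp_d L780391) q25315, e3 q26201 L780395 q25026, e3 q26202 (flp_d L792182) q27380, e3 q26203 L780419 q25034, e3 q26204 (flp_d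 L792647) q27431, e3 q26205 L792711 q27438, e3 q26206 (flp_d L792659) q27432, e3 q26207 L792729 q27440, e3 q26208 (flp_d L780451) q25025, e3 q26209 L780473 q25112, e3 q26210 (flp_d L792527) q27418, e3 q26211 L780488 q25110, e3 q26212 L792773 q27444, e3 q26213 (flp_d L792545) q27421, e3 q26214 L792781 q27445, e3 q26215 (flp_d L780528) q25032, e3 q26216 L792802 q27447, e3 q26217 (flp_d L780551) q25035, e3 q26218 (flp_d L780563) q25036, e3 q26219 L780581 q26219, e3 q26220 (flp_d L785729) q26827, e3 q26221 (flp_d L786645) q26893, e3 q26222 (flp_d L780606) q25040, e3 q26223 L780624 q25046, e3 q26224 L780630 q26224, e3 q26225 L780633 q25048, e3 q26226 L780653 q25434, e3 q26227 L780661 q25044, e3 q26228 (flp_d L792893) q27454, e3 q26229 L780681 q26229, e3 q26230 (flp_d L792908) q27456, e3 q26231 L793001 q27466, e3 q26232 (flp_d L792939) q27459, e3 q26233 (flp_d L787642) q26973, e3 q26234 L780718 q25459, e3 q26235 L780726 q25105, e3 q26236 (flp_d L787664) q26975, e3 q26237 (flp_d L780734) q25052, e3 q26238 (flp_d L780746) q25053,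 e3 q26239 (flp_d L790134) q27183, trivial⟩ (by decide +kernel)

theorem ce_d_410 : ∀ r, r < 64 → sm gd (Qf (26240 + r)) = Qf (tab Gen.d (26240 + r)) :=
  edges_tab (sm gd) Qf (tab Gen.d) 26240 [(26240, 26240), (26241, 27185), (26242, 27187), (26243, 25057), (26244, 25064), (26245, 25108), (26246, 25066), (26247, 27485), (26248, 25068), (26249, 25449), (26250, 27478), (26251, 25111), (26252, 27480), (26253, 27491), (26254, 25114), (26255, 27483), (26256, 27494), (26257, 25067), (26258, 26991), (26259, 25070), (26260, 27311), (26261, 26261), (26262, 27313), (26263, 25485), (26264, 26997), (26265, 26960), (26266, 26998), (26267, 26895), (26268, 25078), (26269, 25079), (26270, 26887), (26271, 26271), (26272, 27210), (26273, 26273), (26274, 27212), (26275, 27516), (26276, 26276), (26277, 27215), (26278, 27520), (26279, 27218), (26280, 27522), (26281, 25087), (26282, 27524), (26283, 25098), (26284, 25118), (26285, 25100), (26286, 27449), (26287, 25119), (26288, 25102), (26289, 27532), (26290, 25093), (26291, 25261), (26292, 25450),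 (26293, 25174), (26294, 27525), (26295, 27538), (26296, 27528), (26297, 27540), (26298, 25101), (26299, 27542), (26300, 25103), (26301, 27237), (26302, 27479), (26303, 27547)]
    ⟨e3 q26240 L780776 q26240, e3 q26241 (flp_d L790155) q27185, e3 q26242 (flp_d L790173) q27187, e3 q26243 (flp_d L780795) q25057, e3 q26244 L780809 q25064, e3 q26245 L780815 q25108, e3 q26246 L780819 q25066, e3 q26247 L793167 q27485, e3 q26248 L780833 q25068, e3 q26249 L780845 q25449, e3 q26250 (flp_d L793117) q27478, e3 q26251 L780861 q25111, e3 q26252 (flp_d L793133) q27480, e3 q26253 L793217 q27491, e3 q26254 L780875 q25114, e3 q26255 (flp_d L793155) q27483, e3 q26256 L793233 q27494, e3 q26257 (flp_d L780889) q25067, e3 q26258 (flp_d L787868) q26991, e3 q26259 (flp_d L780901) q25070, e3 q26260 (flp_d L791455) q27311, e3 q26261 L780925 q26261, e3 q26262 (flp_d L791474) q27313, e3 q26263 L780948 q25485, e3 q26264 (flp_d L787954) q26997, e3 q26265 (flp_d L787492) q26960, e3 q26266 (flp_d L787974) q26998, e3 q26267 (flp_d L786667) q26895, e3 q26268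 (flp_d L780978) q25078, e3 q26269 (flp_d L780988) q25079, e3 q26270 (flp_d L786558) q26887, e3 q26271 L781010 q26271, e3 q26272 (flp_d L790426) q27210, e3 q26273 L781021 q26273, e3 q26274 (flp_d L790435) q27212, e3 q26275 L793410 q27516, e3 q26276 L781040 q26276, e3 q26277 (flp_d L790456) q27215, e3 q26278 L793441 q27520, e3 q26279 (flp_d L790478) q27218, e3 q26280 L793463 q27522, e3 q26281 (flp_d L781079) q25087, e3 q26282 (flp_d L793487) q27524, e3 q26283 L781103 q25098, e3 q26284 L781109 q25118, e3 q26285 L781113 q25100, e3 q26286 (flp_d L792835) q27449, e3 q26287 L781127 q25119, e3 q26288 L781133 q25102, e3 q26289 L793543 q27532, e3 q26290 (flp_d L781141) q25093, e3 q26291 L781157 q25261, e3 q26292 L781173 q25450, e3 q26293 L781179 q25174, e3 q26294 (flp_d L793495) q27525, e3 q26295 L793597 q27538, e3 q26296 (flp_d L793519) q27528, e3 q26297 L793611 q27540, e3 q26298 (flp_d L781211) q25101, e3 q26299 L793629 q27542, e3 q26300 (flp_d L781223) q25103, e3 q26301 (flp_d L790624) q27237, e3 q26302 (flp_d L793129) q27479, e3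 q26303 L793657 q27547, trivial⟩ (by decide +kernel)

theorem ce_d_411 : ∀ r, r < 64 → sm gd (Qf (26304 + r)) = Qf (tab Gen.d (26304 + r)) :=
  edges_tab (sm gd) Qf (tab Gen.d) 26304 [(26304, 27482), (26305, 25109), (26306, 27550), (26307, 26810), (26308, 27552), (26309, 25113), (26310, 27554), (26311, 25116), (26312, 25134), (26313, 27527), (26314, 26314), (26315, 25121), (26316, 25136), (26317, 25123), (26318, 27021), (26319, 25139), (26320, 25140), (26321, 27563), (26322, 25129), (26323, 25146), (26324, 27553), (26325, 25132), (26326, 27556), (26327, 27557), (26328, 27559), (26329, 25229), (26330, 27561), (26331, 27568), (26332, 25141), (26333, 25143), (26334, 27564), (26335, 25223), (26336, 26763), (26337, 26767), (26338, 27160), (26339, 26764), (26340, 26766), (26341, 26762), (26342, 26753), (26343, 25156), (26344, 27574), (26345, 25391), (26346, 25168), (26347, 25392), (26348, 25301), (26349, 26349), (26350, 25305), (26351, 25165), (26352, 25169), (26353, 25166), (26354, 27161), (26355, 25167), (26356, 27581), (26357,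 27583), (26358, 25172), (26359, 25171), (26360, 27586), (26361, 27001), (26362, 27535), (26363, 27003), (26364, 25262), (26365, 25437), (26366, 26874), (26367, 25181)]
    ⟨e3 q26304 (flp_d L793147) q27482, e3 q26305 (flp_d L781261) q25109, e3 q26306 L793684 q27550, e3 q26307 (flp_d L785503) q26810, e3 q26308 L793706 q27552, e3 q26309 (flp_d L781308) q25113, e3 q26310 L793720 q27554, e3 q26311 (flp_d L781326) q25116, e3 q26312 L781340 q25134, e3 q26313 (flp_d L793509) q27527, e3 q26314 L781359 q26314, e3 q26315 (flp_d L781360) q25121, e3 q26316 L781376 q25136, e3 q26317 (flp_d L781378) q25123, e3 q26318 (flp_d L788246) q27021, e3 q26319 L781398 q25139, e3 q26320 L781402 q25140, e3 q26321 L793801 q27563, e3 q26322 (flp_d L781417) q25129, e3 q26323 L781437 q25146, e3 q26324 (flp_d L793718) q27553, e3 q26325 (flp_d L781450) q25132, e3 q26326 (flp_d L793744) q27556, e3 q26327 (flp_d L793748) q27557, e3 q26328 (flp_d L793767) q27559, e3 q26329 L781499 q25229, e3 q26330 (flp_d L793793) q27561, e3 q26331 L793861 q27568, e3 q26332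 (flp_d L781521) q25141, e3 q26333 L781537 q25143, e3 q26334 (flp_d L793825) q27564, e3 q26335 L781562 q25223, e3 q26336 (flp_d L784818) q26763, e3 q26337 (flp_d L784884) q26767, e3 q26338 (flp_d L789911) q27160, e3 q26339 (flp_d L784836) q26764, e3 q26340 (flp_d L784870) q26766, e3 q26341 (flp_d L784800) q26762, e3 q26342 (flp_d L784665) q26753, e3 q26343 L781656 q25156, e3 q26344 (flp_d L793940) q27574, e3 q26345 L781686 q25391, e3 q26346 L781698 q25168, e3 q26347 L781704 q25392, e3 q26348 L781726 q25301, e3 q26349 L781740 q26349, e3 q26350 L781745 q25305, e3 q26351 L781767 q25165, e3 q26352 L781779 q25169, e3 q26353 L781783 q25166, e3 q26354 (flp_d L789935) q27161, e3 q26355 L781801 q25167, e3 q26356 (flp_d L794030) q27581, e3 q26357 (flp_d L794056) q27583, e3 q26358 L781835 q25172, e3 q26359 L781845 q25171, e3 q26360 (flp_d L794084) q27586, e3 q26361 (flp_d L788002) q27001, e3 q26362 (flp_d L793577) q27535, e3 q26363 (flp_d L788030) q27003, e3 q26364 L781909 q25262, e3 q26365 L781913 q25437, e3 q26366 (flp_d L786370) q26874,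 e3 q26367 L781925 q25181, trivial⟩ (by decide +kernel)

theorem ce_d_412 : ∀ r, r < 64 → sm gd (Qf (26368 + r)) = Qf (tab Gen.d (26368 + r)) :=
  edges_tab (sm gd) Qf (tab Gen.d) 26368 [(26368, 25314), (26369, 27266), (26370, 27269), (26371, 26948), (26372, 26372), (26373, 25187), (26374, 25503), (26375, 27597), (26376, 25188), (26377, 27600), (26378, 25193), (26379, 25191), (26380, 27603), (26381, 27505), (26382, 26382), (26383, 27601), (26384, 26797), (26385, 25195), (26386, 27609), (26387, 25196), (26388, 25529), (26389, 25224), (26390, 25202), (26391, 25219), (26392, 25203), (26393, 25523), (26394, 25201), (26395, 27620), (26396, 27615), (26397, 27617), (26398, 27133), (26399, 25228), (26400, 26806), (26401, 27560), (26402, 25207), (26403, 25513), (26404, 26404), (26405, 25530), (26406, 27602), (26407, 25231), (26408, 25216), (26409, 25442), (26410, 25217), (26411, 25554), (26412, 25555), (26413, 27633), (26414, 27614), (26415, 25226), (26416, 27638), (26417, 27624), (26418, 25467), (26419, 25234), (26420, 27641), (26421,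 25257), (26422, 26422), (26423, 25238), (26424, 27587), (26425, 27644), (26426, 25239), (26427, 25242), (26428, 25241), (26429, 27650), (26430, 27648), (26431, 25243)]
    ⟨e3 q26368 L781935 q25314, e3 q26369 (flp_d L790940) q27266, e3 q26370 (flp_d L790976) q27269, e3 q26371 (flp_d L787338) q26948, e3 q26372 L781973 q26372, e3 q26373 L781976 q25187, e3 q26374 L781988 q25503, e3 q26375 (flp_d L794200) q27597, e3 q26376 (flp_d L781998) q25188, e3 q26377 (flp_d L794236) q27600, e3 q26378 L782032 q25193, e3 q26379 L782044 q25191, e3 q26380 (flp_d L794266) q27603, e3 q26381 (flp_d L793337) q27505, e3 q26382 L782067 q26382, e3 q26383 (flp_d L794240) q27601, e3 q26384 (flp_d L785336) q26797, e3 q26385 L782086 q25195, e3 q26386 (flp_d L794310) q27609, e3 q26387 (flp_d L782102) q25196, e3 q26388 L782122 q25529, e3 q26389 L782134 q25224, e3 q26390 L782146 q25202, e3 q26391 L782156 q25219, e3 q26392 L782160 q25203, e3 q26393 L782172 q25523, e3 q26394 L782178 q25201, e3 q26395 (flp_d L794421) q27620, e3 q26396 (flp_d L794371) q27615,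 e3 q26397 (flp_d L794393) q27617, e3 q26398 (flp_d L789644) q27133, e3 q26399 L782228 q25228, e3 q26400 (flp_d L785439) q26806, e3 q26401 (flp_d L793781) q27560, e3 q26402 L782246 q25207, e3 q26403 L782260 q25513, e3 q26404 L782270 q26404, e3 q26405 L782273 q25530, e3 q26406 (flp_d L794260) q27602, e3 q26407 L782293 q25231, e3 q26408 L782299 q25216, e3 q26409 L782309 q25442, e3 q26410 L782313 q25217, e3 q26411 L782321 q25554, e3 q26412 L782329 q25555, e3 q26413 (flp_d L794535) q27633, e3 q26414 (flp_d L794363) q27614, e3 q26415 L782358 q25226, e3 q26416 L794572 q27638, e3 q26417 (flp_d L794459) q27624, e3 q26418 L782389 q25467, e3 q26419 L782399 q25234, e3 q26420 L794598 q27641, e3 q26421 L782422 q25257, e3 q26422 L782430 q26422, e3 q26423 L782433 q25238, e3 q26424 (flp_d L794102) q27587, e3 q26425 (flp_d L794628) q27644, e3 q26426 (flp_d L782461) q25239, e3 q26427 L782473 q25242, e3 q26428 L782481 q25241, e3 q26429 (flp_d L794679) q27650, e3 q26430 (flp_d L794661) q27648, e3 q26431 (flp_d L782501) q25243, trivial⟩ (by decide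 +kernel)

theorem ce_d_413 : ∀ r, r < 64 → sm gd (Qf (26432 + r)) = Qf (tab Gen.d (26432 + r)) :=
  edges_tab (sm gd) Qf (tab Gen.d) 26432 [(26432, 25481), (26433, 25245), (26434, 25246), (26435, 25495), (26436, 26436), (26437, 25250), (26438, 27002), (26439, 27660), (26440, 27408), (26441, 26441), (26442, 25489), (26443, 25491), (26444, 26885), (26445, 25482), (26446, 26880), (26447, 26447), (26448, 27642), (26449, 27672), (26450, 25263), (26451, 25264), (26452, 27533), (26453, 27590), (26454, 27673), (26455, 25269), (26456, 26456), (26457, 25271), (26458, 25306), (26459, 25268), (26460, 27676), (26461, 27684), (26462, 27679), (26463, 25518), (26464, 25320), (26465, 25520), (26466, 25398), (26467, 25275), (26468, 25371), (26469, 26469), (26470, 26791), (26471, 25323), (26472, 26814), (26473, 26837), (26474, 25324), (26475, 25286), (26476, 27267), (26477, 25287), (26478, 27004), (26479, 27005), (26480, 25285), (26481, 27700), (26482, 25532), (26483, 25321), (26484, 25533), (26485, 27299), (26486, 26486), (26487, 27083), (26488,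 25326), (26489, 27301), (26490, 27202), (26491, 25534), (26492, 25536), (26493, 27530), (26494, 25538), (26495, 26898)]
    ⟨e3 q26432 L782519 q25481, e3 q26433 L782529 q25245, e3 q26434 (flp_d L782531) q25246, e3 q26435 L782549 q25495, e3 q26436 L782557 q26436, e3 q26437 L782560 q25250, e3 q26438 (flp_d L788024) q27002, e3 q26439 (flp_d L794773) q27660, e3 q26440 (flp_d L792418) q27408, e3 q26441 L782598 q26441, e3 q26442 L782611 q25489, e3 q26443 L782615 q25491, e3 q26444 (flp_d L786532) q26885, e3 q26445 L782635 q25482, e3 q26446 (flp_d L786457) q26880, e3 q26447 L782649 q26447, e3 q26448 (flp_d L794610) q27642, e3 q26449 L794865 q27672, e3 q26450 L782662 q25263, e3 q26451 L782672 q25264, e3 q26452 (flp_d L793557) q27533, e3 q26453 (flp_d L794138) q27590, e3 q26454 (flp_d L794870) q27673, e3 q26455 L782708 q25269, e3 q26456 L782712 q26456, e3 q26457 L782715 q25271, e3 q26458 L782725 q25306, e3 q26459 L782729 q25268, e3 q26460 (flp_d L794898) q27676, e3 q26461 L794943 q27684, e3 q26462 (flp_d L794913) q27679, e3 q26463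 L782755 q25518, e3 q26464 L782765 q25320, e3 q26465 L782769 q25520, e3 q26466 L782781 q25398, e3 q26467 (flp_d L782783) q25275, e3 q26468 L782801 q25371, e3 q26469 L782809 q26469, e3 q26470 (flp_d L785249) q26791, e3 q26471 L782822 q25323, e3 q26472 (flp_d L785549) q26814, e3 q26473 (flp_d L785866) q26837, e3 q26474 L782840 q25324, e3 q26475 L782848 q25286, e3 q26476 (flp_d L790958) q27267, e3 q26477 L782866 q25287, e3 q26478 (flp_d L788052) q27004, e3 q26479 (flp_d L788060) q27005, e3 q26480 L782884 q25285, e3 q26481 (flp_d L795075) q27700, e3 q26482 L782908 q25532, e3 q26483 L782920 q25321, e3 q26484 L782924 q25533, e3 q26485 (flp_d L791312) q27299, e3 q26486 L782938 q26486, e3 q26487 (flp_d L789061) q27083, e3 q26488 L782949 q25326, e3 q26489 (flp_d L791329) q27301, e3 q26490 (flp_d L790334) q27202, e3 q26491 L782973 q25534, e3 q26492 L782977 q25536, e3 q26493 (flp_d L793535) q27530, e3 q26494 L782991 q25538, e3 q26495 (flp_d L786715) q26898, trivial⟩ (by decide +kernel)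

theorem ce_d_414 : ∀ r, r < 64 → sm gd (Qf (26496 + r)) = Qf (tab Gen.d (26496 + r)) :=
  edges_tab (sm gd) Qf (tab Gen.d) 26496 [(26496, 25452), (26497, 26497), (26498, 26876), (26499, 26499), (26500, 27578), (26501, 27724), (26502, 26878), (26503, 27649), (26504, 25327), (26505, 27580), (26506, 27680), (26507, 27681), (26508, 25316), (26509, 25322), (26510, 25317), (26511, 26872), (26512, 25318), (26513, 27270), (26514, 27593), (26515, 27433), (26516, 27730), (26517, 27732), (26518, 27390), (26519, 27695), (26520, 27699), (26521, 27204), (26522, 27196), (26523, 25333), (26524, 25364), (26525, 25332), (26526, 27740), (26527, 25334), (26528, 27254), (26529, 26529), (26530, 25339), (26531, 25374), (26532, 25338), (26533, 27748), (26534, 27207), (26535, 25341), (26536, 25438), (26537, 26537), (26538, 25430), (26539, 25355), (26540, 25440), (26541, 27305), (26542, 25356), (26543, 25352), (26544, 26765), (26545, 25354), (26546, 25353), (26547, 25403), (26548, 25404), (26549, 25351), (26550, 27762), (26551, 27758), (26552, 27610),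 (26553, 26553), (26554, 25360), (26555, 27205), (26556, 27770), (26557, 26770), (26558, 26772), (26559, 25366)]
    ⟨e3 q26496 L783009 q25452, e3 q26497 L783019 q26497, e3 q26498 (flp_d L786398) q26876, e3 q26499 L783030 q26499, e3 q26500 (flp_d L793988) q27578, e3 q26501 L795251 q27724, e3 q26502 (flp_d L786419) q26878, e3 q26503 (flp_d L794675) q27649, e3 q26504 L783055 q25327, e3 q26505 (flp_d L794018) q27580, e3 q26506 (flp_d L794923) q27680, e3 q26507 (flp_d L794929) q27681, e3 q26508 L783079 q25316, e3 q26509 L783085 q25322, e3 q26510 L783089 q25317, e3 q26511 (flp_d L786336) q26872, e3 q26512 L783101 q25318, e3 q26513 (flp_d L790990) q27270, e3 q26514 (flp_d L794168) q27593, e3 q26515 L792675 q27433, e3 q26516 (flp_d L795284) q27730, e3 q26517 (flp_d L795296) q27732, e3 q26518 (flp_d L792277) q27390, e3 q26519 (flp_d L795039) q27695, e3 q26520 (flp_d L795069) q27699, e3 q26521 (flp_d L790350) q27204, e3 q26522 (flp_d L790257) q27196, e3 q26523 L783183 q25333, e3 q26524 L783191 q25364, e3 q26525 L783197 q25332, e3 q26526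 (flp_d L795360) q27740, e3 q26527 (flp_d L783207) q25334, e3 q26528 (flp_d L790820) q27254, e3 q26529 L783223 q26529, e3 q26530 L783226 q25339, e3 q26531 L783236 q25374, e3 q26532 L783240 q25338, e3 q26533 (flp_d L795412) q27748, e3 q26534 (flp_d L790392) q27207, e3 q26535 (flp_d L783258) q25341, e3 q26536 L783272 q25438, e3 q26537 L783278 q26537, e3 q26538 L783285 q25430, e3 q26539 L783293 q25355, e3 q26540 L783297 q25440, e3 q26541 (flp_d L791388) q27305, e3 q26542 L783309 q25356, e3 q26543 L783315 q25352, e3 q26544 (flp_d L784864) q26765, e3 q26545 L783325 q25354, e3 q26546 L783331 q25353, e3 q26547 L783337 q25403, e3 q26548 L783343 q25404, e3 q26549 L783347 q25351, e3 q26550 (flp_d L795512) q27762, e3 q26551 (flp_d L795488) q27758, e3 q26552 (flp_d L794324) q27610, e3 q26553 L783381 q26553, e3 q26554 L783384 q25360, e3 q26555 (flp_d L790370) q27205, e3 q26556 (flp_d L795564) q27770, e3 q26557 (flp_d L784934) q26770, e3 q26558 (flp_d L784968) q26772, e3 q26559 L783418 q25366, trivial⟩ (by decide +kernel)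

theorem ce_d_415 : ∀ r, r < 64 → sm gd (Qf (26560 + r)) = Qf (tab Gen.d (26560 + r)) :=
  edges_tab (sm gd) Qf (tab Gen.d) 26560 [(26560, 27741), (26561, 27742), (26562, 26761), (26563, 27582), (26564, 27689), (26565, 26565), (26566, 27691), (26567, 27781), (26568, 25376), (26569, 27749), (26570, 27750), (26571, 25381), (26572, 25393), (26573, 27024), (26574, 27081), (26575, 27784), (26576, 27060), (26577, 27063), (26578, 25386), (26579, 27208), (26580, 27074), (26581, 26771), (26582, 27289), (26583, 26996), (26584, 27575), (26585, 27577), (26586, 27785), (26587, 27070), (26588, 25546), (26589, 27655), (26590, 25547), (26591, 27688), (26592, 25406), (26593, 25407), (26594, 26751), (26595, 27765), (26596, 27766), (26597, 27767), (26598, 27801), (26599, 27263), (26600, 26600), (26601, 27265), (26602, 27268), (26603, 27276), (26604, 27250), (26605, 27251), (26606, 27252), (26607, 25420), (26608, 26608), (26609, 25422), (26610, 27751), (26611, 26611), (26612, 27809), (26613, 27816), (26614, 27811), (26615, 25455), (26616, 25445),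 (26617, 26995), (26618, 27197), (26619, 26619), (26620, 27201), (26621, 25431), (26622, 27616), (26623, 25432)]
    ⟨e3 q26560 (flp_d L795368) q27741, e3 q26561 (flp_d L795376) q27742, e3 q26562 (flp_d L784782) q26761, e3 q26563 (flp_d L794052) q27582, e3 q26564 (flp_d L794994) q27689, e3 q26565 L783456 q26565, e3 q26566 (flp_d L795007) q27691, e3 q26567 L795632 q27781, e3 q26568 L783469 q25376, e3 q26569 (flp_d L795422) q27749, e3 q26570 (flp_d L795428) q27750, e3 q26571 L783487 q25381, e3 q26572 L783497 q25393, e3 q26573 (flp_d L788280) q27024, e3 q26574 (flp_d L789037) q27081, e3 q26575 (flp_d L795649) q27784, e3 q26576 (flp_d L788770) q27060, e3 q26577 (flp_d L788814) q27063, e3 q26578 L783531 q25386, e3 q26579 (flp_d L790408) q27208, e3 q26580 (flp_d L788936) q27074, e3 q26581 (flp_d L784960) q26771, e3 q26582 (flp_d L791210) q27289, e3 q26583 (flp_d L787950) q26996, e3 q26584 (flp_d L793950) q27575, e3 q26585 (flp_d L793978) q27577, e3 q26586 (flp_d L795659) q27785, e3 q26587 (flp_d L788902) q27070, e3 q26588 L783583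 q25546, e3 q26589 (flp_d L794730) q27655, e3 q26590 L783595 q25547, e3 q26591 (flp_d L794982) q27688, e3 q26592 L783607 q25406, e3 q26593 L783613 q25407, e3 q26594 (flp_d L784631) q26751, e3 q26595 (flp_d L795530) q27765, e3 q26596 (flp_d L795536) q27766, e3 q26597 (flp_d L795542) q27767, e3 q26598 (flp_d L795753) q27801, e3 q26599 (flp_d L790909) q27263, e3 q26600 L783653 q26600, e3 q26601 (flp_d L790928) q27265, e3 q26602 (flp_d L790964) q27268, e3 q26603 (flp_d L791058) q27276, e3 q26604 (flp_d L790770) q27250, e3 q26605 (flp_d L790782) q27251, e3 q26606 (flp_d L790794) q27252, e3 q26607 L783704 q25420, e3 q26608 L783708 q26608, e3 q26609 L783711 q25422, e3 q26610 (flp_d L795440) q27751, e3 q26611 L783731 q26611, e3 q26612 (flp_d L795803) q27809, e3 q26613 L795845 q27816, e3 q26614 (flp_d L795813) q27811, e3 q26615 L783754 q25455, e3 q26616 L783762 q25445, e3 q26617 (flp_d L787928) q26995, e3 q26618 (flp_d L790277) q27197, e3 q26619 L783784 q26619, e3 q26620 (flp_d L790314) q27201, e3 q26621 L783793 q25431, e3 q26622 (flp_d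 L794389) q27616, e3 q26623 L783807 q25432, trivial⟩ (by decide +kernel)

theorem ce_d_416 : ∀ r, r < 64 → sm gd (Qf (26624 + r)) = Qf (tab Gen.d (26624 + r)) :=
  edges_tab (sm gd) Qf (tab Gen.d) 26624 [(26624, 27756), (26625, 27823), (26626, 27461), (26627, 26627), (26628, 27460), (26629, 25460), (26630, 26946), (26631, 27591), (26632, 27753), (26633, 27833), (26634, 27759), (26635, 25444), (26636, 27634), (26637, 25448), (26638, 27065), (26639, 27835), (26640, 27486), (26641, 25454), (26642, 27718), (26643, 27840), (26644, 27837), (26645, 27817), (26646, 25457), (26647, 26959), (26648, 27468), (26649, 27829), (26650, 26940), (26651, 26987), (26652, 27427), (26653, 25465), (26654, 27417), (26655, 25562), (26656, 27639), (26657, 27851), (26658, 25469), (26659, 25497), (26660, 25563), (26661, 25498), (26662, 26985), (26663, 25475), (26664, 27277), (26665, 25478), (26666, 26666), (26667, 25480), (26668, 27857), (26669, 27862), (26670, 27859), (26671, 27654), (26672, 27667), (26673, 25484), (26674, 27501), (26675, 25488), (26676,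 25564), (26677, 27371), (26678, 26678), (26679, 27866), (26680, 27664), (26681, 27873), (26682, 27665), (26683, 25492), (26684, 27646), (26685, 26685), (26686, 27656), (26687, 26687)]
    ⟨e3 q26624 (flp_d L795472) q27756, e3 q26625 (flp_d L795896) q27823, e3 q26626 (flp_d L792967) q27461, e3 q26627 L783847 q26627, e3 q26628 (flp_d L792959) q27460, e3 q26629 L783860 q25460, e3 q26630 (flp_d L787304) q26946, e3 q26631 (flp_d L794152) q27591, e3 q26632 (flp_d L795451) q27753, e3 q26633 L795974 q27833, e3 q26634 (flp_d L795494) q27759, e3 q26635 L783892 q25444, e3 q26636 (flp_d L794545) q27634, e3 q26637 L783902 q25448, e3 q26638 (flp_d L788846) q27065, e3 q26639 (flp_d L795983) q27835, e3 q26640 (flp_d L793189) q27486, e3 q26641 L783926 q25454, e3 q26642 (flp_d L795209) q27718, e3 q26643 L796009 q27840, e3 q26644 (flp_d L795993) q27837, e3 q26645 (flp_d L795852) q27817, e3 q26646 L783954 q25457, e3 q26647 (flp_d L787468) q26959, e3 q26648 (flp_d L793020) q27468, e3 q26649 (flp_d L795952) q27829, e3 q26650 (flp_d L787221) q26940,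 e3 q26651 (flp_d L787816) q26987, e3 q26652 (flp_d L792611) q27427, e3 q26653 L783998 q25465, e3 q26654 (flp_d L792515) q27417, e3 q26655 L784010 q25562, e3 q26656 (flp_d L794578) q27639, e3 q26657 L796074 q27851, e3 q26658 (flp_d L784020) q25469, e3 q26659 L784026 q25497, e3 q26660 L784032 q25563, e3 q26661 L784036 q25498, e3 q26662 (flp_d L787798) q26985, e3 q26663 L784048 q25475, e3 q26664 (flp_d L791070) q27277, e3 q26665 L784060 q25478, e3 q26666 L784066 q26666, e3 q26667 L784069 q25480, e3 q26668 (flp_d L796108) q27857, e3 q26669 L796140 q27862, e3 q26670 (flp_d L796122) q27859, e3 q26671 (flp_d L794712) q27654, e3 q26672 (flp_d L794833) q27667, e3 q26673 L784111 q25484, e3 q26674 (flp_d L793293) q27501, e3 q26675 L784123 q25488, e3 q26676 L784127 q25564, e3 q26677 (flp_d L792088) q27371, e3 q26678 L784141 q26678, e3 q26679 (flp_d L796169) q27866, e3 q26680 (flp_d L794803) q27664, e3 q26681 L796211 q27873, e3 q26682 (flp_d L794819) q27665, e3 q26683 (flp_d L784168) q25492, e3 q26684 (flp_d L794650) q27646, e3 q26685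 L784188 q26685, e3 q26686 (flp_d L794742) q27656, e3 q26687 L784203 q26687, trivial⟩ (by decide +kernel)

theorem ce_d_417 : ∀ r, r < 64 → sm gd (Qf (26688 + r)) = Qf (tab Gen.d (26688 + r)) :=
  edges_tab (sm gd) Qf (tab Gen.d) 26688 [(26688, 27658), (26689, 27883), (26690, 27852), (26691, 27854), (26692, 25505), (26693, 25509), (26694, 25506), (26695, 26883), (26696, 25508), (26697, 25507), (26698, 27598), (26699, 27885), (26700, 27887), (26701, 25515), (26702, 27893), (26703, 25517), (26704, 27628), (26705, 27896), (26706, 27891), (26707, 27898), (26708, 25516), (26709, 27685), (26710, 27902), (26711, 27687), (26712, 26897), (26713, 25531), (26714, 27618), (26715, 27619), (26716, 25561), (26717, 27318), (26718, 27316), (26719, 27314), (26720, 27612), (26721, 27630), (26722, 27705), (26723, 27707), (26724, 27714), (26725, 27627), (26726, 27715), (26727, 27913), (26728, 25537), (26729, 26779), (26730, 25565), (26731, 26889), (26732, 27613), (26733, 25566), (26734, 26879), (26735, 27886), (26736, 26890), (26737, 27923), (26738,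 25545), (26739, 27798), (26740, 25558), (26741, 25560), (26742, 25559), (26743, 26892), (26744, 27635), (26745, 27636), (26746, 27319), (26747, 27924), (26748, 27917), (26749, 26007), (26750, 25569), (26751, 26594)]
    ⟨e3 q26688 (flp_d L794755) q27658, e3 q26689 L796283 q27883, e3 q26690 (flp_d L796080) q27852, e3 q26691 (flp_d L796092) q27854, e3 q26692 L784232 q25505, e3 q26693 L784240 q25509, e3 q26694 L784244 q25506, e3 q26695 (flp_d L786502) q26883, e3 q26696 L784260 q25508, e3 q26697 L784266 q25507, e3 q26698 (flp_d L794212) q27598, e3 q26699 (flp_d L796294) q27885, e3 q26700 (flp_d L796312) q27887, e3 q26701 L784292 q25515, e3 q26702 L796348 q27893, e3 q26703 L784302 q25517, e3 q26704 (flp_d L794489) q27628, e3 q26705 L796365 q27896, e3 q26706 (flp_d L796340) q27891, e3 q26707 L796374 q27898, e3 q26708 (flp_d L784326) q25516, e3 q26709 (flp_d L794948) q27685, e3 q26710 L796403 q27902, e3 q26711 (flp_d L794970) q27687, e3 q26712 (flp_d L786697) q26897, e3 q26713 L784371 q25531, e3 q26714 (flp_d L794405) q27618, e3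 q26715 (flp_d L794413) q27619, e3 q26716 L784397 q25561, e3 q26717 (flp_d L791532) q27318, e3 q26718 (flp_d L791510) q27316, e3 q26719 (flp_d L791496) q27314, e3 q26720 (flp_d L794337) q27612, e3 q26721 (flp_d L794509) q27630, e3 q26722 (flp_d L795109) q27705, e3 q26723 (flp_d L795131) q27707, e3 q26724 (flp_d L795177) q27714, e3 q26725 (flp_d L794483) q27627, e3 q26726 (flp_d L795191) q27715, e3 q26727 L796487 q27913, e3 q26728 (flp_d L784471) q25537, e3 q26729 (flp_d L785079) q26779, e3 q26730 L784489 q25565, e3 q26731 (flp_d L786575) q26889, e3 q26732 (flp_d L794357) q27613, e3 q26733 L784507 q25566, e3 q26734 (flp_d L786433) q26879, e3 q26735 (flp_d L796308) q27886, e3 q26736 (flp_d L786587) q26890, e3 q26737 L796551 q27923, e3 q26738 (flp_d L784535) q25545, e3 q26739 (flp_d L795735) q27798, e3 q26740 L784549 q25558, e3 q26741 L784555 q25560, e3 q26742 L784561 q25559, e3 q26743 (flp_d L786627) q26892, e3 q26744 (flp_d L794553) q27635, e3 q26745 (flp_d L794559) q27636, e3 q26746 (flp_d L791544) q27319, e3 q26747 (flp_d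 L796561) q27924, e3 q26748 (flp_d L796515) q27917, e3 q26749 L784609 q26007, e3 q26750 L784625 q25569, e3 q26751 L784631 q26594, trivial⟩ (by decide +kernel)

theorem ce_d_418 : ∀ r, r < 64 → sm gd (Qf (26752 + r)) = Qf (tab Gen.d (26752 + r)) :=
  edges_tab (sm gd) Qf (tab Gen.d) 26752 [(26752, 25958), (26753, 26342), (26754, 25574), (26755, 25576), (26756, 27932), (26757, 27936), (26758, 27933), (26759, 25577), (26760, 27937), (26761, 26562), (26762, 26341), (26763, 26336), (26764, 26339), (26765, 26544), (26766, 26340), (26767, 26337), (26768, 25593), (26769, 25900), (26770, 26557), (26771, 26581), (26772, 26558), (26773, 27947), (26774, 25592), (26775, 25594), (26776, 25596), (26777, 27950), (26778, 25597), (26779, 26729), (26780, 25599), (26781, 25658), (26782, 27955), (26783, 25601), (26784, 25602), (26785, 25606), (26786, 25604), (26787, 27964), (26788, 27960), (26789, 26789), (26790, 27962), (26791, 26470), (26792, 25608), (26793, 25613), (26794, 25610), (26795, 27974), (26796, 25611), (26797, 26384), (26798, 25625),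 (26799, 27972), (26800, 25614), (26801, 27958), (26802, 26802), (26803, 25621), (26804, 25753), (26805, 25618), (26806, 26400), (26807, 27991), (26808, 27986), (26809, 26154), (26810, 26307), (26811, 27977), (26812, 27994), (26813, 25626), (26814, 26472), (26815, 25633)]
    ⟨e3 q26752 L784661 q25958, e3 q26753 L784665 q26342, e3 q26754 L784695 q25574, e3 q26755 L784699 q25576, e3 q26756 (flp_d L796667) q27932, e3 q26757 L796727 q27936, e3 q26758 (flp_d L796687) q27933, e3 q26759 (flp_d L784749) q25577, e3 q26760 (flp_d L796757) q27937, e3 q26761 L784782 q26562, e3 q26762 L784800 q26341, e3 q26763 L784818 q26336, e3 q26764 L784836 q26339, e3 q26765 L784864 q26544, e3 q26766 L784870 q26340, e3 q26767 L784884 q26337, e3 q26768 L784898 q25593, e3 q26769 L784930 q25900, e3 q26770 L784934 q26557, e3 q26771 L784960 q26581, e3 q26772 L784968 q26558, e3 q26773 L796913 q27947, e3 q26774 (flp_d L784988) q25592, e3 q26775 (flp_d L785002) q25594, e3 q26776 L785032 q25596, e3 q26777 (flp_d L796963) q27950, e3 q26778 (flp_d L785049) q25597,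 e3 q26779 L785079 q26729, e3 q26780 (flp_d L785081) q25599, e3 q26781 L785111 q25658, e3 q26782 (flp_d L797052) q27955, e3 q26783 (flp_d L785126) q25601, e3 q26784 (flp_d L785142) q25602, e3 q26785 L785168 q25606, e3 q26786 L785180 q25604, e3 q26787 (flp_d L797171) q27964, e3 q26788 (flp_d L797126) q27960, e3 q26789 L785218 q26789, e3 q26790 (flp_d L797145) q27962, e3 q26791 L785249 q26470, e3 q26792 (flp_d L785251) q25608, e3 q26793 L785279 q25613, e3 q26794 L785293 q25610, e3 q26795 (flp_d L797312) q27974, e3 q26796 (flp_d L785310) q25611, e3 q26797 L785336 q26384, e3 q26798 L785348 q25625, e3 q26799 (flp_d L797280) q27972, e3 q26800 (flp_d L785362) q25614, e3 q26801 (flp_d L797095) q27958, e3 q26802 L785398 q26802, e3 q26803 L785401 q25621, e3 q26804 L785421 q25753, e3 q26805 L785429 q25618, e3 q26806 L785439 q26400, e3 q26807 L797535 q27991, e3 q26808 (flp_d L797473) q27986, e3 q26809 L785481 q26154, e3 q26810 L785503 q26307, e3 q26811 (flp_d L797367) q27977, e3 q26812 L797582 q27994, e3 q26813 (flp_d L785533) q25626,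 e3 q26814 L785549 q26472, e3 q26815 L785575 q25633, trivial⟩ (by decide +kernel)

theorem ce_d_419 : ∀ r, r < 64 → sm gd (Qf (26816 + r)) = Qf (tab Gen.d (26816 + r)) :=
  edges_tab (sm gd) Qf (tab Gen.d) 26816 [(26816, 25655), (26817, 25635), (26818, 25776), (26819, 25631), (26820, 28003), (26821, 27954), (26822, 25659), (26823, 27997), (26824, 28009), (26825, 28000), (26826, 25636), (26827, 26220), (26828, 25670), (26829, 26059), (26830, 26033), (26831, 25640), (26832, 25767), (26833, 26833), (26834, 25733), (26835, 25671), (26836, 25769), (26837, 26473), (26838, 25672), (26839, 25651), (26840, 28030), (26841, 25662), (26842, 25653), (26843, 25804), (26844, 25805), (26845, 25650), (26846, 28028), (26847, 28036), (26848, 25652), (26849, 28038), (26850, 27999), (26851, 25657), (26852, 28040), (26853, 28006), (26854, 25660), (26855, 25661), (26856, 25667), (26857, 28027), (26858, 28042), (26859, 28011), (26860, 28023), (26861, 26063), (26862, 26065), (26863, 25675), (26864, 25677), (26865, 28046), (26866, 25681), (26867, 25680),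 (26868, 28050), (26869, 26052), (26870, 26870), (26871, 25687), (26872, 26511), (26873, 26073), (26874, 26366), (26875, 28055), (26876, 26498), (26877, 26877), (26878, 26502), (26879, 26734)]
    ⟨e3 q26816 L785589 q25655, e3 q26817 L785593 q25635, e3 q26818 L785615 q25776, e3 q26819 L785623 q25631, e3 q26820 (flp_d L797715) q28003, e3 q26821 (flp_d L797036) q27954, e3 q26822 L785669 q25659, e3 q26823 (flp_d L797629) q27997, e3 q26824 L797785 q28009, e3 q26825 (flp_d L797673) q28000, e3 q26826 (flp_d L785701) q25636, e3 q26827 L785729 q26220, e3 q26828 L785743 q25670, e3 q26829 L785749 q26059, e3 q26830 L785773 q26033, e3 q26831 (flp_d L785777) q25640, e3 q26832 L785805 q25767, e3 q26833 L785819 q26833, e3 q26834 L785830 q25733, e3 q26835 L785842 q25671, e3 q26836 L785846 q25769, e3 q26837 L785866 q26473, e3 q26838 L785874 q25672, e3 q26839 L785882 q25651, e3 q26840 L798077 q28030, e3 q26841 L785908 q25662, e3 q26842 L785918 q25653, e3 q26843 L785930 q25804, e3 q26844 L785938 q25805, e3 q26845 L785946 q25650, e3 q26846 (flp_d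 L798057) q28028, e3 q26847 L798151 q28036, e3 q26848 (flp_d L785976) q25652, e3 q26849 L798171 q28038, e3 q26850 (flp_d L797659) q27999, e3 q26851 L786024 q25657, e3 q26852 L798202 q28040, e3 q26853 (flp_d L797753) q28006, e3 q26854 (flp_d L786063) q25660, e3 q26855 (flp_d L786075) q25661, e3 q26856 L786099 q25667, e3 q26857 (flp_d L798043) q28027, e3 q26858 (flp_d L798235) q28042, e3 q26859 (flp_d L797827) q28011, e3 q26860 (flp_d L797995) q28023, e3 q26861 L786175 q26063, e3 q26862 L786179 q26065, e3 q26863 (flp_d L786193) q25675, e3 q26864 (flp_d L786209) q25677, e3 q26865 (flp_d L798309) q28046, e3 q26866 L786251 q25681, e3 q26867 L786265 q25680, e3 q26868 (flp_d L798360) q28050, e3 q26869 L786295 q26052, e3 q26870 L786311 q26870, e3 q26871 L786316 q25687, e3 q26872 L786336 q26511, e3 q26873 L786342 q26073, e3 q26874 L786370 q26366, e3 q26875 (flp_d L798438) q28055, e3 q26876 L786398 q26498, e3 q26877 L786414 q26877, e3 q26878 L786419 q26502, e3 q26879 L786433 q26734, trivial⟩ (by decide +kernel)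

theorem ce_d_420 : ∀ r, r < 64 → sm gd (Qf (26880 + r)) = Qf (tab Gen.d (26880 + r)) :=
  edges_tab (sm gd) Qf (tab Gen.d) 26880 [(26880, 26446), (26881, 26881), (26882, 25696), (26883, 26695), (26884, 26123), (26885, 26444), (26886, 28065), (26887, 26270), (26888, 26888), (26889, 26731), (26890, 26736), (26891, 25707), (26892, 26743), (26893, 26221), (26894, 25708), (26895, 26267), (26896, 25793), (26897, 26712), (26898, 26495), (26899, 25709), (26900, 28079), (26901, 25711), (26902, 25712), (26903, 25717), (26904, 25714), (26905, 28087), (26906, 25715), (26907, 28083), (26908, 26908), (26909, 28085), (26910, 25718), (26911, 28095), (26912, 26158), (26913, 25722), (26914, 28099), (26915, 28098), (26916, 25749), (26917, 26917), (26918, 25728), (26919, 26919), (26920, 25730), (26921, 27963), (26922, 25727), (26923, 28109), (26924, 28103), (26925, 28112), (26926, 28106), (26927, 25731), (26928, 28016), (26929, 26929), (26930, 28021), (26931, 26182), (26932, 25735), (26933, 28081), (26934, 26934), (26935, 25743), (26936, 27973),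 (26937, 25739), (26938, 26127), (26939, 25761), (26940, 26650), (26941, 28130), (26942, 28122), (26943, 26179)]
    ⟨e3 q26880 L786457 q26446, e3 q26881 L786473 q26881, e3 q26882 L786478 q25696, e3 q26883 L786502 q26695, e3 q26884 L786508 q26123, e3 q26885 L786532 q26444, e3 q26886 (flp_d L798596) q28065, e3 q26887 L786558 q26270, e3 q26888 L786570 q26888, e3 q26889 L786575 q26731, e3 q26890 L786587 q26736, e3 q26891 L786603 q25707, e3 q26892 L786627 q26743, e3 q26893 L786645 q26221, e3 q26894 L786661 q25708, e3 q26895 L786667 q26267, e3 q26896 L786691 q25793, e3 q26897 L786697 q26712, e3 q26898 L786715 q26495, e3 q26899 (flp_d L786719) q25709, e3 q26900 (flp_d L798824) q28079, e3 q26901 (flp_d L786748) q25711, e3 q26902 (flp_d L786764) q25712, e3 q26903 L786790 q25717, e3 q26904 L786802 q25714, e3 q26905 (flp_d L798928) q28087, e3 q26906 (flp_d L786816) q25715, e3 q26907 (flp_d L798883) q28083, e3 q26908 L786856 q26908, e3 q26909 (flp_d L798902) q28085, e3 q26910 (flp_d L786869) q25718, e3 q26911 (flp_d L799043) q28095,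 e3 q26912 L786904 q26158, e3 q26913 L786914 q25722, e3 q26914 L799073 q28099, e3 q26915 (flp_d L799067) q28098, e3 q26916 L786945 q25749, e3 q26917 L786957 q26917, e3 q26918 L786968 q25728, e3 q26919 L786978 q26919, e3 q26920 L786981 q25730, e3 q26921 (flp_d L797165) q27963, e3 q26922 L787001 q25727, e3 q26923 (flp_d L799177) q28109, e3 q26924 (flp_d L799116) q28103, e3 q26925 L799207 q28112, e3 q26926 (flp_d L799147) q28106, e3 q26927 (flp_d L787049) q25731, e3 q26928 (flp_d L797907) q28016, e3 q26929 L787085 q26929, e3 q26930 (flp_d L797967) q28021, e3 q26931 L787112 q26182, e3 q26932 L787126 q25735, e3 q26933 (flp_d L798852) q28081, e3 q26934 L787154 q26934, e3 q26935 L787159 q25743, e3 q26936 (flp_d L797304) q27973, e3 q26937 L787183 q25739, e3 q26938 L787203 q26127, e3 q26939 L787217 q25761, e3 q26940 L787221 q26650, e3 q26941 L799433 q28130, e3 q26942 (flp_d L799339) q28122, e3 q26943 L787263 q26179, trivial⟩ (by decide +kernel)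

theorem ce_d_421 : ∀ r, r < 64 → sm gd (Qf (26944 + r)) = Qf (tab Gen.d (26944 + r)) :=
  edges_tab (sm gd) Qf (tab Gen.d) 26944 [(26944, 26944), (26945, 26193), (26946, 26630), (26947, 28010), (26948, 26371), (26949, 26949), (26950, 28100), (26951, 28140), (26952, 26952), (26953, 25758), (26954, 25760), (26955, 27987), (26956, 27988), (26957, 26192), (26958, 25763), (26959, 26647), (26960, 26265), (26961, 28142), (26962, 28150), (26963, 25759), (26964, 28127), (26965, 25762), (26966, 26966), (26967, 25765), (26968, 26125), (26969, 26969), (26970, 28018), (26971, 28161), (26972, 28024), (26973, 26233), (26974, 25771), (26975, 26236), (26976, 28074), (26977, 25774), (26978, 25784), (26979, 28001), (26980, 28002), (26981, 25778), (26982, 26111), (26983, 25814), (26984, 26128), (26985, 26662), (26986, 25815), (26987, 26651), (26988, 28176), (26989, 25783), (26990, 26145), (26991, 26258), (26992, 25810), (26993, 26026), (26994, 25821), (26995, 26617), (26996, 26583), (26997, 26264), (26998, 26266), (26999, 28076), (27000, 26066),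 (27001, 26361), (27002, 26438), (27003, 26363), (27004, 26478), (27005, 26479), (27006, 25822), (27007, 25807)]
    ⟨e3 q26944 L787279 q26944, e3 q26945 L787284 q26193, e3 q26946 L787304 q26630, e3 q26947 (flp_d L797811) q28010, e3 q26948 L787338 q26371, e3 q26949 L787354 q26949, e3 q26950 (flp_d L799083) q28100, e3 q26951 L799569 q28140, e3 q26952 L787377 q26952, e3 q26953 L787390 q25758, e3 q26954 L787406 q25760, e3 q26955 (flp_d L797493) q27987, e3 q26956 (flp_d L797501) q27988, e3 q26957 L787446 q26192, e3 q26958 L787462 q25763, e3 q26959 L787468 q26647, e3 q26960 L787492 q26265, e3 q26961 (flp_d L799594) q28142, e3 q26962 L799702 q28150, e3 q26963 (flp_d L787512) q25759, e3 q26964 (flp_d L799403) q28127, e3 q26965 (flp_d L787538) q25762, e3 q26966 L787562 q26966, e3 q26967 (flp_d L787563) q25765, e3 q26968 L787589 q26125, e3 q26969 L787601 q26969, e3 q26970 (flp_d L797926) q28018, e3 q26971 L799844 q28161, e3 q26972 (flp_d L798003) q28024, e3 q26973 L787642 q26233, e3 q26974 L787658 q25771, e3 q26975 L787664 q26236,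 e3 q26976 (flp_d L798744) q28074, e3 q26977 L787688 q25774, e3 q26978 L787702 q25784, e3 q26979 (flp_d L797695) q28001, e3 q26980 (flp_d L797703) q28002, e3 q26981 L787738 q25778, e3 q26982 L787758 q26111, e3 q26983 L787774 q25814, e3 q26984 L787780 q26128, e3 q26985 L787798 q26662, e3 q26986 L787806 q25815, e3 q26987 L787816 q26651, e3 q26988 L800037 q28176, e3 q26989 (flp_d L787836) q25783, e3 q26990 L787864 q26145, e3 q26991 L787868 q26258, e3 q26992 L787888 q25810, e3 q26993 L787906 q26026, e3 q26994 L787922 q25821, e3 q26995 L787928 q26617, e3 q26996 L787950 q26583, e3 q26997 L787954 q26264, e3 q26998 L787974 q26266, e3 q26999 (flp_d L798776) q28076, e3 q27000 L787992 q26066, e3 q27001 L788002 q26361, e3 q27002 L788024 q26438, e3 q27003 L788030 q26363, e3 q27004 L788052 q26478, e3 q27005 L788060 q26479, e3 q27006 L788076 q25822, e3 q27007 L788104 q25807, trivial⟩ (by decide +kernel)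

theorem ce_d_422 : ∀ r, r < 64 → sm gd (Qf (27008 + r)) = Qf (tab Gen.d (27008 + r)) :=
  edges_tab (sm gd) Qf (tab Gen.d) 27008 [(27008, 25809), (27009, 25811), (27010, 28032), (27011, 28033), (27012, 28034), (27013, 28192), (27014, 28163), (27015, 28193), (27016, 28179), (27017, 28199), (27018, 25812), (27019, 27948), (27020, 25816), (27021, 26318), (27022, 25820), (27023, 25964), (27024, 26573), (27025, 25852), (27026, 25829), (27027, 25827), (27028, 25844), (27029, 25830), (27030, 28207), (27031, 25866), (27032, 25868), (27033, 25837), (27034, 25912), (27035, 25858), (27036, 25975), (27037, 28214), (27038, 25838), (27039, 25839), (27040, 25843), (27041, 25841), (27042, 28224), (27043, 28220), (27044, 27044), (27045, 28222), (27046, 28209), (27047, 25938), (27048, 25846), (27049, 28218), (27050, 27050), (27051, 25854), (27052, 25956), (27053, 25850), (27054, 25873), (27055, 25855), (27056, 28206), (27057, 28241), (27058, 28234), (27059, 25856), (27060, 26576), (27061, 28216), (27062, 25966), (27063, 26577), (27064, 26060),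 (27065, 26638), (27066, 25870), (27067, 26004), (27068, 26005), (27069, 28212), (27070, 26587), (27071, 28213)]
    ⟨e3 q27008 L788108 q25809, e3 q27009 L788124 q25811, e3 q27010 (flp_d L798113) q28032, e3 q27011 (flp_d L798121) q28033, e3 q27012 (flp_d L798129) q28034, e3 q27013 (flp_d L800273) q28192, e3 q27014 (flp_d L799881) q28163, e3 q27015 (flp_d L800293) q28193, e3 q27016 (flp_d L800089) q28179, e3 q27017 L800357 q28199, e3 q27018 (flp_d L788202) q25812, e3 q27019 (flp_d L796937) q27948, e3 q27020 (flp_d L788218) q25816, e3 q27021 L788246 q26318, e3 q27022 L788252 q25820, e3 q27023 L788276 q25964, e3 q27024 L788280 q26573, e3 q27025 L788310 q25852, e3 q27026 L788324 q25829, e3 q27027 L788338 q25827, e3 q27028 L788356 q25844, e3 q27029 L788372 q25830, e3 q27030 (flp_d L800471) q28207, e3 q27031 L788404 q25866, e3 q27032 L788408 q25868, e3 q27033 L788420 q25837, e3 q27034 L788442 q25912, e3 q27035 L788448 q25858, e3 q27036 L788472 q25975, e3 q27037 (flp_d L800581) q28214, e3 q27038 (flp_d L788486) q25838, e3 q27039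 (flp_d L788502) q25839, e3 q27040 L788526 q25843, e3 q27041 L788536 q25841, e3 q27042 (flp_d L800727) q28224, e3 q27043 (flp_d L800686) q28220, e3 q27044 L788574 q27044, e3 q27045 (flp_d L800705) q28222, e3 q27046 (flp_d L800501) q28209, e3 q27047 L788615 q25938, e3 q27048 L788631 q25846, e3 q27049 (flp_d L800655) q28218, e3 q27050 L788659 q27050, e3 q27051 L788662 q25854, e3 q27052 L788676 q25956, e3 q27053 L788684 q25850, e3 q27054 L788708 q25873, e3 q27055 L788724 q25855, e3 q27056 (flp_d L800453) q28206, e3 q27057 L800944 q28241, e3 q27058 (flp_d L800864) q28234, e3 q27059 (flp_d L788750) q25856, e3 q27060 L788770 q26576, e3 q27061 (flp_d L800613) q28216, e3 q27062 L788796 q25966, e3 q27063 L788814 q26577, e3 q27064 L788820 q26060, e3 q27065 L788846 q26638, e3 q27066 L788852 q25870, e3 q27067 L788862 q26004, e3 q27068 L788870 q26005, e3 q27069 (flp_d L800549) q28212, e3 q27070 L788902 q26587, e3 q27071 (flp_d L800567) q28213, trivial⟩ (by decide +kernel)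

theorem ce_d_423 : ∀ r, r < 64 → sm gd (Qf (27072 + r)) = Qf (tab Gen.d (27072 + r)) :=
  edges_tab (sm gd) Qf (tab Gen.d) 27072 [(27072, 28252), (27073, 25869), (27074, 26580), (27075, 28237), (27076, 25874), (27077, 25905), (27078, 26078), (27079, 27079), (27080, 25879), (27081, 26574), (27082, 28259), (27083, 26487), (27084, 25881), (27085, 25882), (27086, 25886), (27087, 25884), (27088, 28268), (27089, 28264), (27090, 27090), (27091, 28266), (27092, 25888), (27093, 28273), (27094, 25903), (27095, 25890), (27096, 28262), (27097, 27097), (27098, 25896), (27099, 25898), (27100, 28208), (27101, 25895), (27102, 28280), (27103, 28286), (27104, 28281), (27105, 25899), (27106, 27943), (27107, 25904), (27108, 25943), (27109, 28275), (27110, 28289), (27111, 28256), (27112, 28294), (27113, 25908), (27114, 25907), (27115, 25914), (27116, 28298), (27117, 25918), (27118, 25916), (27119, 28215), (27120, 25977), (27121, 28296), (27122, 28303), (27123, 25915), (27124, 25917), (27125, 25920), (27126, 28306), (27127, 25921), (27128, 25922),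 (27129, 25925), (27130, 28308), (27131, 27131), (27132, 28310), (27133, 26398), (27134, 25928), (27135, 28317)]
    ⟨e3 q27072 L801096 q28252, e3 q27073 (flp_d L788920) q25869, e3 q27074 L788936 q26580, e3 q27075 (flp_d L800898) q28237, e3 q27076 (flp_d L788958) q25874, e3 q27077 L788986 q25905, e3 q27078 L789002 q26078, e3 q27079 L789016 q27079, e3 q27080 L789021 q25879, e3 q27081 L789037 q26574, e3 q27082 (flp_d L801202) q28259, e3 q27083 L789061 q26487, e3 q27084 (flp_d L789063) q25881, e3 q27085 (flp_d L789079) q25882, e3 q27086 L789105 q25886, e3 q27087 L789119 q25884, e3 q27088 (flp_d L801330) q28268, e3 q27089 (flp_d L801281) q28264, e3 q27090 L789159 q27090, e3 q27091 (flp_d L801300) q28266, e3 q27092 L789188 q25888, e3 q27093 (flp_d L801394) q28273, e3 q27094 L789208 q25903, e3 q27095 L789222 q25890, e3 q27096 (flp_d L801250) q28262, e3 q27097 L789248 q27097, e3 q27098 L789265 q25896, e3 q27099 L789269 q25898, e3 q27100 (flp_d L800495) q28208, e3 q27101 L789291 q25895, e3 q27102 (flp_d L801485) q28280, e3 q27103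 L801549 q28286, e3 q27104 (flp_d L801503) q28281, e3 q27105 (flp_d L789323) q25899, e3 q27106 (flp_d L796851) q27943, e3 q27107 L789349 q25904, e3 q27108 L789367 q25943, e3 q27109 (flp_d L801418) q28275, e3 q27110 (flp_d L801592) q28289, e3 q27111 (flp_d L801156) q28256, e3 q27112 L801646 q28294, e3 q27113 L789411 q25908, e3 q27114 (flp_d L789423) q25907, e3 q27115 L789441 q25914, e3 q27116 L801696 q28298, e3 q27117 L789461 q25918, e3 q27118 L789473 q25916, e3 q27119 (flp_d L800605) q28215, e3 q27120 L789491 q25977, e3 q27121 (flp_d L801682) q28296, e3 q27122 L801752 q28303, e3 q27123 (flp_d L789509) q25915, e3 q27124 (flp_d L789519) q25917, e3 q27125 L789545 q25920, e3 q27126 (flp_d L801795) q28306, e3 q27127 (flp_d L789561) q25921, e3 q27128 (flp_d L789577) q25922, e3 q27129 L789603 q25925, e3 q27130 (flp_d L801831) q28308, e3 q27131 L789625 q27131, e3 q27132 (flp_d L801850) q28310, e3 q27133 L789644 q26398, e3 q27134 L789654 q25928, e3 q27135 L801918 q28317, trivial⟩ (by decide +kernel)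

theorem ce_d_424 : ∀ r, r < 64 → sm gd (Qf (27136 + r)) = Qf (tab Gen.d (27136 + r)) :=
  edges_tab (sm gd) Qf (tab Gen.d) 27136 [(27136, 28316), (27137, 25929), (27138, 25951), (27139, 27139), (27140, 25935), (27141, 27141), (27142, 25937), (27143, 28223), (27144, 25934), (27145, 28330), (27146, 28324), (27147, 28334), (27148, 28327), (27149, 28229), (27150, 25939), (27151, 28307), (27152, 27152), (27153, 25945), (27154, 28210), (27155, 28290), (27156, 28283), (27157, 28340), (27158, 26040), (27159, 27159), (27160, 26338), (27161, 26354), (27162, 25949), (27163, 28320), (27164, 27164), (27165, 28321), (27166, 28355), (27167, 27167), (27168, 25960), (27169, 28295), (27170, 25962), (27171, 28235), (27172, 28236), (27173, 27930), (27174, 28349), (27175, 28357), (27176, 28364), (27177, 25961), (27178, 27178), (27179, 28204), (27180, 28238), (27181, 28243), (27182, 25967), (27183, 26239), (27184, 27184), (27185, 26241), (27186, 26020), (27187, 26242), (27188, 28013), (27189, 25976), (27190, 28299), (27191, 25978), (27192, 28217),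 (27193, 28377), (27194, 28301), (27195, 26036), (27196, 26522), (27197, 26618), (27198, 27198), (27199, 26074)]
    ⟨e3 q27136 (flp_d L801914) q28316, e3 q27137 (flp_d L789673) q25929, e3 q27138 L789695 q25951, e3 q27139 L789703 q27139, e3 q27140 L789712 q25935, e3 q27141 L789720 q27141, e3 q27142 L789723 q25937, e3 q27143 (flp_d L800721) q28223, e3 q27144 L789739 q25934, e3 q27145 (flp_d L802040) q28330, e3 q27146 (flp_d L801993) q28324, e3 q27147 L802086 q28334, e3 q27148 (flp_d L802018) q28327, e3 q27149 (flp_d L800787) q28229, e3 q27150 (flp_d L789799) q25939, e3 q27151 (flp_d L801815) q28307, e3 q27152 L789839 q27152, e3 q27153 L789842 q25945, e3 q27154 (flp_d L800529) q28210, e3 q27155 (flp_d L801600) q28290, e3 q27156 (flp_d L801525) q28283, e3 q27157 (flp_d L802166) q28340, e3 q27158 L789894 q26040, e3 q27159 L789908 q27159, e3 q27160 L789911 q26338, e3 q27161 L789935 q26354, e3 q27162 L789943 q25949, e3 q27163 (flp_d L801968) q28320, e3 q27164 L789969 q27164, e3 q27165 (flp_d L801972) q28321, e3 q27166 L802328 q28355,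 e3 q27167 L789986 q27167, e3 q27168 L789991 q25960, e3 q27169 (flp_d L801668) q28295, e3 q27170 L790011 q25962, e3 q27171 (flp_d L800878) q28235, e3 q27172 (flp_d L800886) q28236, e3 q27173 (flp_d L796631) q27930, e3 q27174 (flp_d L802279) q28349, e3 q27175 (flp_d L802343) q28357, e3 q27176 L802407 q28364, e3 q27177 (flp_d L790069) q25961, e3 q27178 L790081 q27178, e3 q27179 (flp_d L800417) q28204, e3 q27180 (flp_d L800926) q28238, e3 q27181 (flp_d L800984) q28243, e3 q27182 (flp_d L790110) q25967, e3 q27183 L790134 q26239, e3 q27184 L790144 q27184, e3 q27185 L790155 q26241, e3 q27186 L790169 q26020, e3 q27187 L790173 q26242, e3 q27188 (flp_d L797857) q28013, e3 q27189 L790191 q25976, e3 q27190 (flp_d L801718) q28299, e3 q27191 L790209 q25978, e3 q27192 (flp_d L800637) q28217, e3 q27193 (flp_d L802551) q28377, e3 q27194 (flp_d L801740) q28301, e3 q27195 L790253 q26036, e3 q27196 L790257 q26522, e3 q27197 L790277 q26618, e3 q27198 L790289 q27198, e3 q27199 L790298 q26074, trivial⟩ (by decide +kernel)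

theorem ce_d_425 : ∀ r, r < 64 → sm gd (Qf (27200 + r)) = Qf (tab Gen.d (27200 + r)) :=
  edges_tab (sm gd) Qf (tab Gen.d) 27200 [(27200, 26021), (27201, 26620), (27202, 26490), (27203, 26016), (27204, 26521), (27205, 26555), (27206, 26013), (27207, 26534), (27208, 26579), (27209, 26009), (27210, 26272), (27211, 27211), (27212, 26274), (27213, 28402), (27214, 27214), (27215, 26277), (27216, 28406), (27217, 26023), (27218, 26279), (27219, 28410), (27220, 25996), (27221, 28412), (27222, 26018), (27223, 26008), (27224, 28394), (27225, 26010), (27226, 28417), (27227, 26001), (27228, 28276), (27229, 28247), (27230, 28248), (27231, 27949), (27232, 27927), (27233, 28414), (27234, 28396), (27235, 28424), (27236, 26011), (27237, 26301), (27238, 27238), (27239, 26019), (27240, 28388), (27241, 28428), (27242, 28408), (27243, 26022), (27244, 28429), (27245, 26025), (27246, 28180), (27247, 26029), (27248, 26081), (27249, 28432), (27250, 26604), (27251, 26605), (27252, 26606), (27253, 28015), (27254, 26528), (27255, 27255), (27256, 28381),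 (27257, 26042), (27258, 26169), (27259, 26039), (27260, 28344), (27261, 28444), (27262, 28439), (27263, 26599)]
    ⟨e3 q27200 L790310 q26021, e3 q27201 L790314 q26620, e3 q27202 L790334 q26490, e3 q27203 L790340 q26016, e3 q27204 L790350 q26521, e3 q27205 L790370 q26555, e3 q27206 L790378 q26013, e3 q27207 L790392 q26534, e3 q27208 L790408 q26579, e3 q27209 L790414 q26009, e3 q27210 L790426 q26272, e3 q27211 L790432 q27211, e3 q27212 L790435 q26274, e3 q27213 L802823 q28402, e3 q27214 L790449 q27214, e3 q27215 L790456 q26277, e3 q27216 L802852 q28406, e3 q27217 L790472 q26023, e3 q27218 L790478 q26279, e3 q27219 L802890 q28410, e3 q27220 (flp_d L790492) q25996, e3 q27221 (flp_d L802914) q28412, e3 q27222 L790514 q26018, e3 q27223 L790524 q26008, e3 q27224 (flp_d L802754) q28394, e3 q27225 L790544 q26010, e3 q27226 L802952 q28417, e3 q27227 (flp_d L790552) q26001, e3 q27228 (flp_d L801442) q28276, e3 q27229 (flp_d L801042) q28247, e3 q27230 (flp_d L801050) q28248, e3 q27231 (flp_d L796955) q27949, e3 q27232 (flp_d L796579)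 q27927, e3 q27233 (flp_d L802932) q28414, e3 q27234 (flp_d L802782) q28396, e3 q27235 L803004 q28424, e3 q27236 (flp_d L790616) q26011, e3 q27237 L790624 q26301, e3 q27238 L790630 q27238, e3 q27239 L790633 q26019, e3 q27240 (flp_d L802676) q28388, e3 q27241 L803031 q28428, e3 q27242 (flp_d L802874) q28408, e3 q27243 (flp_d L790678) q26022, e3 q27244 (flp_d L803051) q28429, e3 q27245 L790710 q26025, e3 q27246 (flp_d L800095) q28180, e3 q27247 L790728 q26029, e3 q27248 L790752 q26081, e3 q27249 (flp_d L803086) q28432, e3 q27250 L790770 q26604, e3 q27251 L790782 q26605, e3 q27252 L790794 q26606, e3 q27253 (flp_d L797889) q28015, e3 q27254 L790820 q26528, e3 q27255 L790830 q27255, e3 q27256 (flp_d L802585) q28381, e3 q27257 L790843 q26042, e3 q27258 L790859 q26169, e3 q27259 L790865 q26039, e3 q27260 (flp_d L802204) q28344, e3 q27261 L803218 q28444, e3 q27262 (flp_d L803172) q28439, e3 q27263 L790909 q26599, trivial⟩ (by decide +kernel)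

theorem ce_d_426 : ∀ r, r < 64 → sm gd (Qf (27264 + r)) = Qf (tab Gen.d (27264 + r)) :=
  edges_tab (sm gd) Qf (tab Gen.d) 27264 [(27264, 27264), (27265, 26601), (27266, 26369), (27267, 26476), (27268, 26602), (27269, 26370), (27270, 26513), (27271, 26054), (27272, 28053), (27273, 28454), (27274, 28451), (27275, 26058), (27276, 26603), (27277, 26664), (27278, 28014), (27279, 28245), (27280, 26067), (27281, 28044), (27282, 28166), (27283, 28045), (27284, 28186), (27285, 28459), (27286, 26068), (27287, 28171), (27288, 26071), (27289, 26582), (27290, 28057), (27291, 28386), (27292, 26077), (27293, 28181), (27294, 28464), (27295, 28257), (27296, 28468), (27297, 26082), (27298, 28433), (27299, 26485), (27300, 27300), (27301, 26489), (27302, 26089), (27303, 27303), (27304, 26091), (27305, 26541), (27306, 26088), (27307, 28479), (27308, 28473), (27309, 28482), (27310, 28476), (27311, 26260), (27312, 27312), (27313, 26262), (27314, 26719), (27315, 26102), (27316, 26718), (27317, 28491), (27318, 26717), (27319, 26746), (27320, 28493),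 (27321, 26099), (27322, 28495), (27323, 28488), (27324, 26103), (27325, 27325), (27326, 26107), (27327, 27327)]
    ⟨e3 q27264 L790923 q27264, e3 q27265 L790928 q26601, e3 q27266 L790940 q26369, e3 q27267 L790958 q26476, e3 q27268 L790964 q26602, e3 q27269 L790976 q26370, e3 q27270 L790990 q26513, e3 q27271 L790996 q26054, e3 q27272 (flp_d L798404) q28053, e3 q27273 L803345 q28454, e3 q27274 (flp_d L803309) q28451, e3 q27275 L791042 q26058, e3 q27276 L791058 q26603, e3 q27277 L791070 q26664, e3 q27278 (flp_d L797865) q28014, e3 q27279 (flp_d L801006) q28245, e3 q27280 L791114 q26067, e3 q27281 (flp_d L798261) q28044, e3 q27282 (flp_d L799913) q28166, e3 q27283 (flp_d L798281) q28045, e3 q27284 (flp_d L800189) q28186, e3 q27285 L803396 q28459, e3 q27286 (flp_d L791170) q26068, e3 q27287 (flp_d L799985) q28171, e3 q27288 L791196 q26071, e3 q27289 L791210 q26582, e3 q27290 (flp_d L798466) q28057, e3 q27291 (flp_d L802650) q28386, e3 q27292 L791246 q26077, e3 q27293 (flp_d L800123) q28181, e3 q27294 (flp_d L803464) q28464, e3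 q27295 (flp_d L801170) q28257, e3 q27296 L803502 q28468, e3 q27297 L791292 q26082, e3 q27298 (flp_d L803110) q28433, e3 q27299 L791312 q26485, e3 q27300 L791324 q27300, e3 q27301 L791329 q26489, e3 q27302 L791351 q26089, e3 q27303 L791363 q27303, e3 q27304 L791366 q26091, e3 q27305 L791388 q26541, e3 q27306 L791396 q26088, e3 q27307 (flp_d L803642) q28479, e3 q27308 (flp_d L803563) q28473, e3 q27309 L803666 q28482, e3 q27310 (flp_d L803600) q28476, e3 q27311 L791455 q26260, e3 q27312 L791469 q27312, e3 q27313 L791474 q26262, e3 q27314 L791496 q26719, e3 q27315 L791506 q26102, e3 q27316 L791510 q26718, e3 q27317 L803769 q28491, e3 q27318 L791532 q26717, e3 q27319 L791544 q26746, e3 q27320 L803793 q28493, e3 q27321 (flp_d L791560) q26099, e3 q27322 L803813 q28495, e3 q27323 (flp_d L803741) q28488, e3 q27324 (flp_d L791593) q26103, e3 q27325 L791613 q27325, e3 q27326 L791626 q26107, e3 q27327 L791640 q27327, trivial⟩ (by decide +kernel)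

theorem ce_d_427 : ∀ r, r < 64 → sm gd (Qf (27328 + r)) = Qf (tab Gen.d (27328 + r)) :=
  edges_tab (sm gd) Qf (tab Gen.d) 27328 [(27328, 26109), (27329, 28497), (27330, 28502), (27331, 28499), (27332, 28154), (27333, 27333), (27334, 28170), (27335, 26116), (27336, 26136), (27337, 26118), (27338, 28510), (27339, 26120), (27340, 28506), (27341, 28513), (27342, 26139), (27343, 28508), (27344, 28516), (27345, 26119), (27346, 26122), (27347, 28517), (27348, 28067), (27349, 28113), (27350, 27350), (27351, 28156), (27352, 28523), (27353, 28125), (27354, 28172), (27355, 26132), (27356, 28526), (27357, 26130), (27358, 28528), (27359, 26133), (27360, 28304), (27361, 28531), (27362, 26137), (27363, 26138), (27364, 27364), (27365, 26144), (27366, 28177), (27367, 28078), (27368, 26150), (27369, 27369), (27370, 26152), (27371, 26677), (27372, 27372), (27373, 28534), (27374, 28541), (27375, 28536), (27376, 28094), (27377, 26155), (27378, 28545), (27379, 28544), (27380, 26202), (27381, 27981), (27382, 27382), (27383, 28096), (27384, 28554),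 (27385, 26161), (27386, 26160), (27387, 28557), (27388, 28556), (27389, 26195), (27390, 26518), (27391, 26196)]
    ⟨e3 q27328 L791645 q26109, e3 q27329 (flp_d L803836) q28497, e3 q27330 L803892 q28502, e3 q27331 (flp_d L803866) q28499, e3 q27332 (flp_d L799768) q28154, e3 q27333 L791703 q27333, e3 q27334 (flp_d L799959) q28170, e3 q27335 L791726 q26116, e3 q27336 L791738 q26136, e3 q27337 L791742 q26118, e3 q27338 L803989 q28510, e3 q27339 L791768 q26120, e3 q27340 (flp_d L803945) q28506, e3 q27341 L804015 q28513, e3 q27342 L791794 q26139, e3 q27343 (flp_d L803967) q28508, e3 q27344 L804041 q28516, e3 q27345 (flp_d L791814) q26119, e3 q27346 L791836 q26122, e3 q27347 (flp_d L804051) q28517, e3 q27348 (flp_d L798628) q28067, e3 q27349 (flp_d L799228) q28113, e3 q27350 L791888 q27350, e3 q27351 (flp_d L799789) q28156, e3 q27352 L804121 q28523, e3 q27353 (flp_d L799373) q28125, e3 q27354 (flp_d L799993) q28172, e3 q27355 L791933 q26132, e3 q27356 L804154 q28526, e3 q27357 (flp_d L791949) q26130, e3 q27358 L804174 q28528, e3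 q27359 (flp_d L791967) q26133, e3 q27360 (flp_d L801772) q28304, e3 q27361 L804190 q28531, e3 q27362 (flp_d L791988) q26137, e3 q27363 (flp_d L792000) q26138, e3 q27364 L792014 q27364, e3 q27365 L792019 q26144, e3 q27366 (flp_d L800051) q28177, e3 q27367 (flp_d L798808) q28078, e3 q27368 L792057 q26150, e3 q27369 L792071 q27369, e3 q27370 L792074 q26152, e3 q27371 L792088 q26677, e3 q27372 L792096 q27372, e3 q27373 (flp_d L804228) q28534, e3 q27374 L804296 q28541, e3 q27375 (flp_d L804254) q28536, e3 q27376 (flp_d L799027) q28094, e3 q27377 L792141 q26155, e3 q27378 L804335 q28545, e3 q27379 (flp_d L804329) q28544, e3 q27380 L792182 q26202, e3 q27381 (flp_d L797419) q27981, e3 q27382 L792200 q27382, e3 q27383 (flp_d L799047) q28096, e3 q27384 L804434 q28554, e3 q27385 L792217 q26161, e3 q27386 (flp_d L792221) q26160, e3 q27387 (flp_d L804462) q28557, e3 q27388 (flp_d L804450) q28556, e3 q27389 L792263 q26195, e3 q27390 L792277 q26518, e3 q27391 L792291 q26196, trivial⟩ (by decide +kernel)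

theorem ce_d_428 : ∀ r, r < 64 → sm gd (Qf (27392 + r)) = Qf (tab Gen.d (27392 + r)) :=
  edges_tab (sm gd) Qf (tab Gen.d) 27392 [(27392, 26197), (27393, 26172), (27394, 27394), (27395, 26174), (27396, 28567), (27397, 27397), (27398, 26176), (27399, 28440), (27400, 28441), (27401, 26171), (27402, 28562), (27403, 28575), (27404, 28565), (27405, 28577), (27406, 26175), (27407, 26181), (27408, 26440), (27409, 27409), (27410, 28131), (27411, 28584), (27412, 28579), (27413, 28118), (27414, 26187), (27415, 26189), (27416, 26191), (27417, 26654), (27418, 26210), (27419, 28586), (27420, 28592), (27421, 26213), (27422, 28587), (27423, 28595), (27424, 26190), (27425, 28145), (27426, 28133), (27427, 26652), (27428, 28558), (27429, 28560), (27430, 28561), (27431, 26204), (27432, 26206), (27433, 26515), (27434, 28548), (27435, 28605), (27436, 28601), (27437, 28607), (27438, 26205), (27439, 28609), (27440, 26207), (27441, 28578), (27442, 28613), (27443, 28614), (27444, 26212), (27445, 26214), (27446, 27446), (27447, 26216), (27448, 27448),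 (27449, 26286), (27450, 27450), (27451, 27451), (27452, 28012), (27453, 28073), (27454, 26228), (27455, 27455)]
    ⟨e3 q27392 L792295 q26197, e3 q27393 L792311 q26172, e3 q27394 L792319 q27394, e3 q27395 L792322 q26174, e3 q27396 L804557 q28567, e3 q27397 L792332 q27397, e3 q27398 L792337 q26176, e3 q27399 (flp_d L803188) q28440, e3 q27400 (flp_d L803196) q28441, e3 q27401 L792353 q26171, e3 q27402 (flp_d L804524) q28562, e3 q27403 L804615 q28575, e3 q27404 (flp_d L804549) q28565, e3 q27405 L804628 q28577, e3 q27406 (flp_d L792391) q26175, e3 q27407 L792396 q26181, e3 q27408 L792418 q26440, e3 q27409 L792428 q27409, e3 q27410 (flp_d L799449) q28131, e3 q27411 L804693 q28584, e3 q27412 (flp_d L804641) q28579, e3 q27413 (flp_d L799283) q28118, e3 q27414 L792479 q26187, e3 q27415 L792483 q26189, e3 q27416 L792495 q26191, e3 q27417 L792515 q26654, e3 q27418 L792527 q26210, e3 q27419 (flp_d L804716) q28586, e3 q27420 L804780 q28592, e3 q27421 L792545 q26213, e3 q27422 (flp_d L804732) q28587, e3 q27423 L804804 q28595, e3 q27424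 (flp_d L792565) q26190, e3 q27425 (flp_d L799630) q28145, e3 q27426 (flp_d L799483) q28133, e3 q27427 L792611 q26652, e3 q27428 (flp_d L804472) q28558, e3 q27429 (flp_d L804498) q28560, e3 q27430 (flp_d L804512) q28561, e3 q27431 L792647 q26204, e3 q27432 L792659 q26206, e3 q27433 (flp_d L792675) q26515, e3 q27434 (flp_d L804377) q28548, e3 q27435 L804922 q28605, e3 q27436 (flp_d L804882) q28601, e3 q27437 L804942 q28607, e3 q27438 (flp_d L792711) q26205, e3 q27439 L804966 q28609, e3 q27440 (flp_d L792729) q26207, e3 q27441 (flp_d L804637) q28578, e3 q27442 L805008 q28613, e3 q27443 L805020 q28614, e3 q27444 (flp_d L792773) q26212, e3 q27445 (flp_d L792781) q26214, e3 q27446 L792801 q27446, e3 q27447 (flp_d L792802) q26216, e3 q27448 L792824 q27448, e3 q27449 L792835 q26286, e3 q27450 L792847 q27450, e3 q27451 L792850 q27451, e3 q27452 (flp_d L797833) q28012, e3 q27453 (flp_d L798716) q28073, e3 q27454 L792893 q26228, e3 q27455 L792905 q27455, trivial⟩ (by decide +kernel)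

theorem ce_d_429 : ∀ r, r < 64 → sm gd (Qf (27456 + r)) = Qf (tab Gen.d (27456 + r)) :=
  edges_tab (sm gd) Qf (tab Gen.d) 27456 [(27456, 26230), (27457, 28628), (27458, 27458), (27459, 26232), (27460, 26628), (27461, 26626), (27462, 28624), (27463, 28634), (27464, 28626), (27465, 28636), (27466, 26231), (27467, 28162), (27468, 26648), (27469, 28146), (27470, 28164), (27471, 28255), (27472, 27472), (27473, 28369), (27474, 28371), (27475, 28646), (27476, 28373), (27477, 28375), (27478, 26250), (27479, 26302), (27480, 26252), (27481, 28653), (27482, 26304), (27483, 26255), (27484, 28656), (27485, 26247), (27486, 26640), (27487, 28648), (27488, 28660), (27489, 28651), (27490, 28662), (27491, 26253), (27492, 28572), (27493, 28665), (27494, 26256), (27495, 28174), (27496, 28178), (27497, 28336), (27498, 28483), (27499, 28672), (27500, 28485), (27501, 26674), (27502, 28184), (27503, 28148), (27504, 28075), (27505, 26381), (27506, 27506), (27507, 27951), (27508, 27508), (27509, 28069), (27510, 28683), (27511, 27511), (27512, 28397),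 (27513, 28687), (27514, 28400), (27515, 28689), (27516, 26275), (27517, 28691), (27518, 28404), (27519, 28694)]
    ⟨e3 q27456 L792908 q26230, e3 q27457 L805175 q28628, e3 q27458 L792926 q27458, e3 q27459 L792939 q26232, e3 q27460 L792959 q26628, e3 q27461 L792967 q26626, e3 q27462 (flp_d L805139) q28624, e3 q27463 L805244 q28634, e3 q27464 (flp_d L805163) q28626, e3 q27465 L805255 q28636, e3 q27466 (flp_d L793001) q26231, e3 q27467 (flp_d L799853) q28162, e3 q27468 L793020 q26648, e3 q27469 (flp_d L799658) q28146, e3 q27470 (flp_d L799889) q28164, e3 q27471 (flp_d L801152) q28255, e3 q27472 L793060 q27472, e3 q27473 (flp_d L802466) q28369, e3 q27474 (flp_d L802485) q28371, e3 q27475 L805356 q28646, e3 q27476 (flp_d L802505) q28373, e3 q27477 (flp_d L802531) q28375, e3 q27478 L793117 q26250, e3 q27479 L793129 q26302, e3 q27480 L793133 q26252, e3 q27481 L805419 q28653, e3 q27482 L793147 q26304, e3 q27483 L793155 q26255, e3 q27484 L805443 q28656, e3 q27485 (flp_d L793167) q26247, e3 q27486 L793189 q26640, e3 q27487 (flp_d L805377)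 q28648, e3 q27488 L805481 q28660, e3 q27489 (flp_d L805409) q28651, e3 q27490 L805495 q28662, e3 q27491 (flp_d L793217) q26253, e3 q27492 (flp_d L804587) q28572, e3 q27493 L805511 q28665, e3 q27494 (flp_d L793233) q26256, e3 q27495 (flp_d L800019) q28174, e3 q27496 (flp_d L800069) q28178, e3 q27497 (flp_d L802121) q28336, e3 q27498 (flp_d L803675) q28483, e3 q27499 L805571 q28672, e3 q27500 (flp_d L803705) q28485, e3 q27501 L793293 q26674, e3 q27502 (flp_d L800159) q28184, e3 q27503 (flp_d L799690) q28148, e3 q27504 (flp_d L798752) q28075, e3 q27505 L793337 q26381, e3 q27506 L793347 q27506, e3 q27507 (flp_d L796987) q27951, e3 q27508 L793362 q27508, e3 q27509 (flp_d L798658) q28069, e3 q27510 L805668 q28683, e3 q27511 L793381 q27511, e3 q27512 (flp_d L802790) q28397, e3 q27513 L805693 q28687, e3 q27514 (flp_d L802811) q28400, e3 q27515 L805704 q28689, e3 q27516 (flp_d L793410) q26275, e3 q27517 (flp_d L805723) q28691, e3 q27518 (flp_d L802838) q28404, e3 q27519 L805748 q28694, trivial⟩ (by decide +kernel)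

theorem ce_d_430 : ∀ r, r < 64 → sm gd (Qf (27520 + r)) = Qf (tab Gen.d (27520 + r)) :=
  edges_tab (sm gd) Qf (tab Gen.d) 27520 [(27520, 26278), (27521, 28695), (27522, 26280), (27523, 28697), (27524, 26282), (27525, 26294), (27526, 28616), (27527, 26313), (27528, 26296), (27529, 28610), (27530, 26493), (27531, 28704), (27532, 26289), (27533, 26452), (27534, 28692), (27535, 26362), (27536, 28699), (27537, 28709), (27538, 26295), (27539, 28710), (27540, 26297), (27541, 28391), (27542, 26299), (27543, 28200), (27544, 28425), (27545, 28426), (27546, 28650), (27547, 26303), (27548, 28717), (27549, 27549), (27550, 26306), (27551, 28720), (27552, 26308), (27553, 26324), (27554, 26310), (27555, 28203), (27556, 26326), (27557, 26327), (27558, 27558), (27559, 26328), (27560, 26401), (27561, 26330), (27562, 28728), (27563, 26321), (27564, 26334), (27565, 28722), (27566, 28724), (27567, 28729), (27568, 26331), (27569, 27569), (27570, 27940), (27571, 28347), (27572, 27941), (27573, 27931), (27574, 26344), (27575, 26584), (27576, 28230),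 (27577, 26585), (27578, 26500), (27579, 28735), (27580, 26505), (27581, 26356), (27582, 26563), (27583, 26357)]
    ⟨e3 q27520 (flp_d L793441) q26278, e3 q27521 L805758 q28695, e3 q27522 (flp_d L793463) q26280, e3 q27523 (flp_d L805786) q28697, e3 q27524 L793487 q26282, e3 q27525 L793495 q26294, e3 q27526 (flp_d L805049) q28616, e3 q27527 L793509 q26313, e3 q27528 L793519 q26296, e3 q27529 (flp_d L804988) q28610, e3 q27530 L793535 q26493, e3 q27531 L805842 q28704, e3 q27532 (flp_d L793543) q26289, e3 q27533 L793557 q26452, e3 q27534 (flp_d L805732) q28692, e3 q27535 L793577 q26362, e3 q27536 (flp_d L805804) q28699, e3 q27537 L805892 q28709, e3 q27538 (flp_d L793597) q26295, e3 q27539 L805902 q28710, e3 q27540 (flp_d L793611) q26297, e3 q27541 (flp_d L802714) q28391, e3 q27542 (flp_d L793629) q26299, e3 q27543 (flp_d L800375) q28200, e3 q27544 (flp_d L803012) q28425, e3 q27545 (flp_d L803018) q28426, e3 q27546 (flp_d L805401) q28650, e3 q27547 (flp_d L793657) q26303, e3 q27548 (flp_d L805954) q28717, e3 q27549 L793683 q27549,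 e3 q27550 (flp_d L793684) q26306, e3 q27551 L805978 q28720, e3 q27552 (flp_d L793706) q26308, e3 q27553 L793718 q26324, e3 q27554 (flp_d L793720) q26310, e3 q27555 (flp_d L800413) q28203, e3 q27556 L793744 q26326, e3 q27557 L793748 q26327, e3 q27558 L793756 q27558, e3 q27559 L793767 q26328, e3 q27560 L793781 q26401, e3 q27561 L793793 q26330, e3 q27562 L806052 q28728, e3 q27563 (flp_d L793801) q26321, e3 q27564 L793825 q26334, e3 q27565 (flp_d L805998) q28722, e3 q27566 (flp_d L806022) q28724, e3 q27567 L806060 q28729, e3 q27568 (flp_d L793861) q26331, e3 q27569 L793877 q27569, e3 q27570 (flp_d L796799) q27940, e3 q27571 (flp_d L802247) q28347, e3 q27572 (flp_d L796819) q27941, e3 q27573 (flp_d L796651) q27931, e3 q27574 L793940 q26344, e3 q27575 L793950 q26584, e3 q27576 (flp_d L800815) q28230, e3 q27577 L793978 q26585, e3 q27578 L793988 q26500, e3 q27579 L806133 q28735, e3 q27580 L794018 q26505, e3 q27581 L794030 q26356, e3 q27582 L794052 q26563, e3 q27583 L794056 q26357, trivial⟩ (by decide +kernel)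

theorem ce_d_431 : ∀ r, r < 64 → sm gd (Qf (27584 + r)) = Qf (tab Gen.d (27584 + r)) :=
  edges_tab (sm gd) Qf (tab Gen.d) 27584 [(27584, 28348), (27585, 28736), (27586, 26360), (27587, 26424), (27588, 28739), (27589, 28187), (27590, 26453), (27591, 26631), (27592, 28058), (27593, 26514), (27594, 28448), (27595, 28136), (27596, 28745), (27597, 26375), (27598, 26698), (27599, 27976), (27600, 26377), (27601, 26383), (27602, 26406), (27603, 26380), (27604, 28675), (27605, 28754), (27606, 28749), (27607, 27978), (27608, 28723), (27609, 26386), (27610, 26552), (27611, 27611), (27612, 26720), (27613, 26732), (27614, 26414), (27615, 26396), (27616, 26622), (27617, 26397), (27618, 26714), (27619, 26715), (27620, 26395), (27621, 28764), (27622, 28314), (27623, 28771), (27624, 26417), (27625, 27989), (27626, 28726), (27627, 26725), (27628, 26704), (27629, 28777), (27630, 26721), (27631, 28750), (27632, 28751), (27633, 26413), (27634, 26636), (27635, 26744), (27636, 26745), (27637, 28763), (27638, 26416), (27639, 26656), (27640, 28784),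 (27641, 26420), (27642, 26448), (27643, 28787), (27644, 26425), (27645, 28740), (27646, 26684), (27647, 27647)]
    ⟨e3 q27584 (flp_d L802271) q28348, e3 q27585 (flp_d L806148) q28736, e3 q27586 L794084 q26360, e3 q27587 L794102 q26424, e3 q27588 (flp_d L806182) q28739, e3 q27589 (flp_d L800199) q28187, e3 q27590 L794138 q26453, e3 q27591 L794152 q26631, e3 q27592 (flp_d L798494) q28058, e3 q27593 L794168 q26514, e3 q27594 (flp_d L803271) q28448, e3 q27595 (flp_d L799525) q28136, e3 q27596 L806234 q28745, e3 q27597 L794200 q26375, e3 q27598 L794212 q26698, e3 q27599 (flp_d L797351) q27976, e3 q27600 L794236 q26377, e3 q27601 L794240 q26383, e3 q27602 L794260 q26406, e3 q27603 L794266 q26380, e3 q27604 (flp_d L805600) q28675, e3 q27605 L806321 q28754, e3 q27606 (flp_d L806275) q28749, e3 q27607 (flp_d L797371) q27978, e3 q27608 (flp_d L806010) q28723, e3 q27609 L794310 q26386, e3 q27610 L794324 q26552, e3 q27611 L794334 q27611, e3 q27612 L794337 q26720, e3 q27613 L794357 q26732, e3 q27614 L794363 q26414, e3 q27615 L794371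 q26396, e3 q27616 L794389 q26622, e3 q27617 L794393 q26397, e3 q27618 L794405 q26714, e3 q27619 L794413 q26715, e3 q27620 L794421 q26395, e3 q27621 (flp_d L806420) q28764, e3 q27622 (flp_d L801894) q28314, e3 q27623 L806484 q28771, e3 q27624 L794459 q26417, e3 q27625 (flp_d L797513) q27989, e3 q27626 (flp_d L806034) q28726, e3 q27627 L794483 q26725, e3 q27628 L794489 q26704, e3 q27629 L806536 q28777, e3 q27630 L794509 q26721, e3 q27631 (flp_d L806295) q28750, e3 q27632 (flp_d L806303) q28751, e3 q27633 L794535 q26413, e3 q27634 L794545 q26636, e3 q27635 L794553 q26744, e3 q27636 L794559 q26745, e3 q27637 (flp_d L806412) q28763, e3 q27638 (flp_d L794572) q26416, e3 q27639 L794578 q26656, e3 q27640 L806603 q28784, e3 q27641 (flp_d L794598) q26420, e3 q27642 L794610 q26448, e3 q27643 L806633 q28787, e3 q27644 L794628 q26425, e3 q27645 (flp_d L806200) q28740, e3 q27646 L794650 q26684, e3 q27647 L794658 q27647, trivial⟩ (by decide +kernel)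

theorem ce_d_432 : ∀ r, r < 64 → sm gd (Qf (27648 + r)) = Qf (tab Gen.d (27648 + r)) :=
  edges_tab (sm gd) Qf (tab Gen.d) 27648 [(27648, 26430), (27649, 26503), (27650, 26429), (27651, 28792), (27652, 28089), (27653, 27653), (27654, 26671), (27655, 26589), (27656, 26686), (27657, 27657), (27658, 26688), (27659, 28803), (27660, 26439), (27661, 28188), (27662, 28580), (27663, 28807), (27664, 26680), (27665, 26682), (27666, 28068), (27667, 26672), (27668, 28063), (27669, 28813), (27670, 28785), (27671, 28815), (27672, 26449), (27673, 26454), (27674, 28705), (27675, 28741), (27676, 26460), (27677, 28818), (27678, 27678), (27679, 26462), (27680, 26506), (27681, 26507), (27682, 28816), (27683, 28823), (27684, 26461), (27685, 26709), (27686, 28701), (27687, 26711), (27688, 26591), (27689, 26564), (27690, 27690), (27691, 26566), (27692, 28832), (27693, 27969), (27694, 28022), (27695, 26519), (27696, 27996), (27697, 28025), (27698, 28026), (27699, 26520), (27700, 26481), (27701, 28449), (27702, 28189), (27703, 28190), (27704, 28191),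 (27705, 26722), (27706, 28031), (27707, 26723), (27708, 28470), (27709, 28847), (27710, 28261), (27711, 28387)]
    ⟨e3 q27648 L794661 q26430, e3 q27649 L794675 q26503, e3 q27650 L794679 q26429, e3 q27651 (flp_d L806671) q28792, e3 q27652 (flp_d L798960) q28089, e3 q27653 L794709 q27653, e3 q27654 L794712 q26671, e3 q27655 L794730 q26589, e3 q27656 L794742 q26686, e3 q27657 L794752 q27657, e3 q27658 L794755 q26688, e3 q27659 L806777 q28803, e3 q27660 L794773 q26439, e3 q27661 (flp_d L800221) q28188, e3 q27662 (flp_d L804657) q28580, e3 q27663 L806806 q28807, e3 q27664 L794803 q26680, e3 q27665 L794819 q26682, e3 q27666 (flp_d L798652) q28068, e3 q27667 L794833 q26672, e3 q27668 (flp_d L798562) q28063, e3 q27669 L806857 q28813, e3 q27670 (flp_d L806617) q28785, e3 q27671 L806868 q28815, e3 q27672 (flp_d L794865) q26449, e3 q27673 L794870 q26454, e3 q27674 (flp_d L805858) q28705, e3 q27675 (flp_d L806206) q28741, e3 q27676 L794898 q26460, e3 q27677 L806882 q28818, e3 q27678 L794908 q27678, e3 q27679 L794913 q26462, e3 q27680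 L794923 q26506, e3 q27681 L794929 q26507, e3 q27682 (flp_d L806874) q28816, e3 q27683 L806913 q28823, e3 q27684 (flp_d L794943) q26461, e3 q27685 L794948 q26709, e3 q27686 (flp_d L805820) q28701, e3 q27687 L794970 q26711, e3 q27688 L794982 q26591, e3 q27689 L794994 q26564, e3 q27690 L795004 q27690, e3 q27691 L795007 q26566, e3 q27692 L806992 q28832, e3 q27693 (flp_d L797231) q27969, e3 q27694 (flp_d L797987) q28022, e3 q27695 L795039 q26519, e3 q27696 (flp_d L797613) q27996, e3 q27697 (flp_d L798023) q28025, e3 q27698 (flp_d L798031) q28026, e3 q27699 L795069 q26520, e3 q27700 L795075 q26481, e3 q27701 (flp_d L803289) q28449, e3 q27702 (flp_d L800237) q28189, e3 q27703 (flp_d L800243) q28190, e3 q27704 (flp_d L800259) q28191, e3 q27705 L795109 q26722, e3 q27706 (flp_d L798097) q28031, e3 q27707 L795131 q26723, e3 q27708 (flp_d L803523) q28470, e3 q27709 L807107 q28847, e3 q27710 (flp_d L801222) q28261, e3 q27711 (flp_d L802670) q28387, trivial⟩ (by decide +kernel)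

theorem ce_d_433 : ∀ r, r < 64 → sm gd (Qf (27712 + r)) = Qf (tab Gen.d (27712 + r)) :=
  edges_tab (sm gd) Qf (tab Gen.d) 27712 [(27712, 28472), (27713, 28390), (27714, 26724), (27715, 26726), (27716, 28703), (27717, 28077), (27718, 26642), (27719, 28855), (27720, 28059), (27721, 28858), (27722, 28733), (27723, 28860), (27724, 26501), (27725, 28061), (27726, 28793), (27727, 28794), (27728, 28820), (27729, 28821), (27730, 26516), (27731, 28051), (27732, 26517), (27733, 28056), (27734, 28450), (27735, 28602), (27736, 28864), (27737, 28836), (27738, 28392), (27739, 28382), (27740, 26526), (27741, 26560), (27742, 26561), (27743, 28047), (27744, 27744), (27745, 28436), (27746, 28874), (27747, 27747), (27748, 26533), (27749, 26569), (27750, 26570), (27751, 26610), (27752, 27752), (27753, 26632), (27754, 28883), (27755, 27755), (27756, 26624), (27757, 28267), (27758, 26551), (27759, 26634), (27760, 28477), (27761, 28478), (27762, 26550), (27763, 27942), (27764, 27928), (27765, 26595), (27766, 26596), (27767, 26597), (27768, 28758),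 (27769, 28896), (27770, 26556), (27771, 28393), (27772, 27944), (27773, 28867), (27774, 28868), (27775, 27939)]
    ⟨e3 q27712 (flp_d L803549) q28472, e3 q27713 (flp_d L802708) q28390, e3 q27714 L795177 q26724, e3 q27715 L795191 q26726, e3 q27716 (flp_d L805838) q28703, e3 q27717 (flp_d L798790) q28077, e3 q27718 L795209 q26642, e3 q27719 L807172 q28855, e3 q27720 (flp_d L798500) q28059, e3 q27721 L807193 q28858, e3 q27722 (flp_d L806107) q28733, e3 q27723 L807204 q28860, e3 q27724 (flp_d L795251) q26501, e3 q27725 (flp_d L798534) q28061, e3 q27726 (flp_d L806685) q28793, e3 q27727 (flp_d L806691) q28794, e3 q27728 (flp_d L806899) q28820, e3 q27729 (flp_d L806905) q28821, e3 q27730 L795284 q26516, e3 q27731 (flp_d L798384) q28051, e3 q27732 L795296 q26517, e3 q27733 (flp_d L798458) q28056, e3 q27734 (flp_d L803301) q28450, e3 q27735 L804902 q28602, e3 q27736 (flp_d L807228) q28864, e3 q27737 (flp_d L807023) q28836, e3 q27738 (flp_d L802726) q28392, e3 q27739 (flp_d L802599) q28382, e3 q27740 L795360 q26526, e3 q27741 L795368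 q26560, e3 q27742 L795376 q26561, e3 q27743 (flp_d L798325) q28047, e3 q27744 L795394 q27744, e3 q27745 (flp_d L803140) q28436, e3 q27746 L807293 q28874, e3 q27747 L795407 q27747, e3 q27748 L795412 q26533, e3 q27749 L795422 q26569, e3 q27750 L795428 q26570, e3 q27751 L795440 q26610, e3 q27752 L795448 q27752, e3 q27753 L795451 q26632, e3 q27754 L807359 q28883, e3 q27755 L795465 q27755, e3 q27756 L795472 q26624, e3 q27757 (flp_d L801322) q28267, e3 q27758 L795488 q26551, e3 q27759 L795494 q26634, e3 q27760 (flp_d L803622) q28477, e3 q27761 (flp_d L803630) q28478, e3 q27762 L795512 q26550, e3 q27763 (flp_d L796847) q27942, e3 q27764 (flp_d L796607) q27928, e3 q27765 L795530 q26595, e3 q27766 L795536 q26596, e3 q27767 L795542 q26597, e3 q27768 (flp_d L806354) q28758, e3 q27769 L807450 q28896, e3 q27770 L795564 q26556, e3 q27771 (flp_d L802746) q28393, e3 q27772 (flp_d L796871) q27944, e3 q27773 (flp_d L807250) q28867, e3 q27774 (flp_d L807256) q28868, e3 q27775 (flp_d L796779) q27939, trivial⟩ (by decide +kernel)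

theorem ce_d_434 : ∀ r, r < 64 → sm gd (Qf (27776 + r)) = Qf (tab Gen.d (27776 + r)) :=
  edges_tab (sm gd) Qf (tab Gen.d) 27776 [(27776, 28737), (27777, 28828), (27778, 28902), (27779, 28830), (27780, 28904), (27781, 26567), (27782, 28876), (27783, 28877), (27784, 26575), (27785, 26586), (27786, 28205), (27787, 28260), (27788, 28242), (27789, 28244), (27790, 28395), (27791, 28253), (27792, 27945), (27793, 28462), (27794, 28183), (27795, 28731), (27796, 28906), (27797, 28250), (27798, 26739), (27799, 28798), (27800, 28827), (27801, 26598), (27802, 27929), (27803, 28892), (27804, 28893), (27805, 28445), (27806, 28637), (27807, 28447), (27808, 28434), (27809, 26612), (27810, 28918), (27811, 26614), (27812, 28878), (27813, 28921), (27814, 28916), (27815, 28923), (27816, 26613), (27817, 26645), (27818, 28119), (27819, 28182), (27820, 28383), (27821, 28928), (27822, 28389), (27823, 26625), (27824, 28765), (27825, 28885), (27826, 28631), (27827, 28932), (27828, 28630), (27829, 26649), (27830, 28134), (27831, 28881), (27832, 28935),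 (27833, 26633), (27834, 28780), (27835, 26639), (27836, 28246), (27837, 26644), (27838, 28853), (27839, 28938)]
    ⟨e3 q27776 (flp_d L806170) q28737, e3 q27777 (flp_d L806954) q28828, e3 q27778 L807493 q28902, e3 q27779 (flp_d L806976) q28830, e3 q27780 L807504 q28904, e3 q27781 (flp_d L795632) q26567, e3 q27782 (flp_d L807310) q28876, e3 q27783 (flp_d L807316) q28877, e3 q27784 L795649 q26575, e3 q27785 L795659 q26586, e3 q27786 (flp_d L800437) q28205, e3 q27787 (flp_d L801218) q28260, e3 q27788 (flp_d L800966) q28242, e3 q27789 (flp_d L801000) q28244, e3 q27790 (flp_d L802774) q28395, e3 q27791 (flp_d L801114) q28253, e3 q27792 (flp_d L796897) q27945, e3 q27793 (flp_d L803438) q28462, e3 q27794 (flp_d L800153) q28183, e3 q27795 (flp_d L806079) q28731, e3 q27796 (flp_d L807520) q28906, e3 q27797 (flp_d L801084) q28250, e3 q27798 L795735 q26739, e3 q27799 (flp_d L806735) q28798, e3 q27800 (flp_d L806950) q28827, e3 q27801 L795753 q26598, e3 q27802 (flp_d L796615) q27929, e3 q27803 (flp_d L807424) q28892, e3 q27804 (flp_d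 L807430) q28893, e3 q27805 (flp_d L803229) q28445, e3 q27806 (flp_d L805270) q28637, e3 q27807 (flp_d L803257) q28447, e3 q27808 (flp_d L803116) q28434, e3 q27809 L795803 q26612, e3 q27810 L807588 q28918, e3 q27811 L795813 q26614, e3 q27812 (flp_d L807322) q28878, e3 q27813 L807615 q28921, e3 q27814 (flp_d L807580) q28916, e3 q27815 L807628 q28923, e3 q27816 (flp_d L795845) q26613, e3 q27817 L795852 q26645, e3 q27818 (flp_d L799307) q28119, e3 q27819 (flp_d L800131) q28182, e3 q27820 (flp_d L802613) q28383, e3 q27821 L807668 q28928, e3 q27822 (flp_d L802688) q28389, e3 q27823 L795896 q26625, e3 q27824 (flp_d L806438) q28765, e3 q27825 (flp_d L807378) q28885, e3 q27826 (flp_d L805222) q28631, e3 q27827 L807701 q28932, e3 q27828 (flp_d L805214) q28630, e3 q27829 L795952 q26649, e3 q27830 (flp_d L799503) q28134, e3 q27831 (flp_d L807347) q28881, e3 q27832 L807720 q28935, e3 q27833 (flp_d L795974) q26633, e3 q27834 (flp_d L806569) q28780, e3 q27835 L795983 q26639, e3 q27836 (flp_d L801032) q28246, e3 q27837 L795993 q26644, e3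 q27838 (flp_d L807154) q28853, e3 q27839 L807736 q28938, trivial⟩ (by decide +kernel)

theorem ce_d_435 : ∀ r, r < 64 → sm gd (Qf (27840 + r)) = Qf (tab Gen.d (27840 + r)) :=
  edges_tab (sm gd) Qf (tab Gen.d) 27840 [(27840, 26643), (27841, 28924), (27842, 28147), (27843, 28639), (27844, 28128), (27845, 28598), (27846, 28757), (27847, 28588), (27848, 28721), (27849, 28782), (27850, 28944), (27851, 26657), (27852, 26690), (27853, 28126), (27854, 26691), (27855, 28173), (27856, 28455), (27857, 26668), (27858, 28950), (27859, 26670), (27860, 28948), (27861, 28952), (27862, 26669), (27863, 28797), (27864, 28810), (27865, 28673), (27866, 26679), (27867, 28461), (27868, 28537), (27869, 28957), (27870, 28953), (27871, 28808), (27872, 28959), (27873, 26681), (27874, 27970), (27875, 27875), (27876, 28789), (27877, 28966), (27878, 27878), (27879, 28799), (27880, 28969), (27881, 28801), (27882, 28971), (27883, 26689), (27884, 28945), (27885, 26699), (27886, 26735), (27887, 26700), (27888, 28066), (27889, 28746), (27890, 28972), (27891,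 26706), (27892, 28976), (27893, 26702), (27894, 28775), (27895, 28978), (27896, 26705), (27897, 28979), (27898, 26707), (27899, 28258), (27900, 28825), (27901, 28983), (27902, 26710), (27903, 28766)]
    ⟨e3 q27840 (flp_d L796009) q26643, e3 q27841 (flp_d L807638) q28924, e3 q27842 (flp_d L799666) q28147, e3 q27843 (flp_d L805290) q28639, e3 q27844 (flp_d L799413) q28128, e3 q27845 (flp_d L804842) q28598, e3 q27846 (flp_d L806348) q28757, e3 q27847 (flp_d L804746) q28588, e3 q27848 (flp_d L805994) q28721, e3 q27849 (flp_d L806583) q28782, e3 q27850 L807776 q28944, e3 q27851 (flp_d L796074) q26657, e3 q27852 L796080 q26690, e3 q27853 (flp_d L799395) q28126, e3 q27854 L796092 q26691, e3 q27855 (flp_d L800011) q28173, e3 q27856 (flp_d L803362) q28455, e3 q27857 L796108 q26668, e3 q27858 L807812 q28950, e3 q27859 L796122 q26670, e3 q27860 (flp_d L807800) q28948, e3 q27861 L807825 q28952, e3 q27862 (flp_d L796140) q26669, e3 q27863 (flp_d L806717) q28797, e3 q27864 (flp_d L806835) q28810, e3 q27865 (flp_d L805582) q28673, e3 q27866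 L796169 q26679, e3 q27867 (flp_d L803422) q28461, e3 q27868 (flp_d L804264) q28537, e3 q27869 L807855 q28957, e3 q27870 (flp_d L807833) q28953, e3 q27871 (flp_d L806813) q28808, e3 q27872 L807866 q28959, e3 q27873 (flp_d L796211) q26681, e3 q27874 (flp_d L797261) q27970, e3 q27875 L796235 q27875, e3 q27876 (flp_d L806650) q28789, e3 q27877 L807919 q28966, e3 q27878 L796252 q27878, e3 q27879 (flp_d L806739) q28799, e3 q27880 L807940 q28969, e3 q27881 (flp_d L806761) q28801, e3 q27882 L807951 q28971, e3 q27883 (flp_d L796283) q26689, e3 q27884 (flp_d L807782) q28945, e3 q27885 L796294 q26699, e3 q27886 L796308 q26735, e3 q27887 L796312 q26700, e3 q27888 (flp_d L798620) q28066, e3 q27889 (flp_d L806249) q28746, e3 q27890 (flp_d L807957) q28972, e3 q27891 L796340 q26706, e3 q27892 L807985 q28976, e3 q27893 (flp_d L796348) q26702, e3 q27894 (flp_d L806518) q28775, e3 q27895 L807997 q28978, e3 q27896 (flp_d L796365) q26705, e3 q27897 L808003 q28979, e3 q27898 (flp_d L796374) q26707, e3 q27899 L801198 q28258, e3 q27900 (flp_d L806924)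 q28825, e3 q27901 L808026 q28983, e3 q27902 (flp_d L796403) q26710, e3 q27903 (flp_d L806448) q28766, trivial⟩ (by decide +kernel)

theorem ce_d_436 : ∀ r, r < 64 → sm gd (Qf (27904 + r)) = Qf (tab Gen.d (27904 + r)) :=
  edges_tab (sm gd) Qf (tab Gen.d) 27904 [(27904, 28767), (27905, 28768), (27906, 28489), (27907, 28486), (27908, 28760), (27909, 28843), (27910, 28851), (27911, 28774), (27912, 28988), (27913, 26727), (27914, 28762), (27915, 27953), (27916, 28086), (27917, 26748), (27918, 28071), (27919, 28761), (27920, 28062), (27921, 28973), (27922, 28995), (27923, 26737), (27924, 26747), (27925, 28072), (27926, 28781), (27927, 27232), (27928, 27764), (27929, 27802), (27930, 27173), (27931, 27573), (27932, 26756), (27933, 26758), (27934, 28999), (27935, 29001), (27936, 26757), (27937, 26760), (27938, 29003), (27939, 27775), (27940, 27570), (27941, 27572), (27942, 27763), (27943, 27106), (27944, 27772), (27945, 27792), (27946, 29007), (27947, 26773), (27948, 27019), (27949, 27231), (27950, 26777), (27951, 27507), (27952,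 27952), (27953, 27915), (27954, 26821), (27955, 26782), (27956, 29017), (27957, 29016), (27958, 26801), (27959, 27959), (27960, 26788), (27961, 27961), (27962, 26790), (27963, 26921), (27964, 26787), (27965, 29029), (27966, 29023), (27967, 29032)]
    ⟨e3 q27904 (flp_d L806454) q28767, e3 q27905 (flp_d L806464) q28768, e3 q27906 (flp_d L803749) q28489, e3 q27907 (flp_d L803721) q28486, e3 q27908 (flp_d L806374) q28760, e3 q27909 (flp_d L807071) q28843, e3 q27910 (flp_d L807136) q28851, e3 q27911 (flp_d L806512) q28774, e3 q27912 L808072 q28988, e3 q27913 (flp_d L796487) q26727, e3 q27914 (flp_d L806402) q28762, e3 q27915 (flp_d L797008) q27953, e3 q27916 (flp_d L798922) q28086, e3 q27917 L796515 q26748, e3 q27918 (flp_d L798684) q28071, e3 q27919 (flp_d L806394) q28761, e3 q27920 (flp_d L798548) q28062, e3 q27921 (flp_d L807971) q28973, e3 q27922 L808118 q28995, e3 q27923 (flp_d L796551) q26737, e3 q27924 L796561 q26747, e3 q27925 (flp_d L798710) q28072, e3 q27926 (flp_d L806577) q28781, e3 q27927 L796579 q27232, e3 q27928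 L796607 q27764, e3 q27929 L796615 q27802, e3 q27930 L796631 q27173, e3 q27931 L796651 q27573, e3 q27932 L796667 q26756, e3 q27933 L796687 q26758, e3 q27934 (flp_d L808186) q28999, e3 q27935 L808218 q29001, e3 q27936 (flp_d L796727) q26757, e3 q27937 L796757 q26760, e3 q27938 (flp_d L808256) q29003, e3 q27939 L796779 q27775, e3 q27940 L796799 q27570, e3 q27941 L796819 q27572, e3 q27942 L796847 q27763, e3 q27943 L796851 q27106, e3 q27944 L796871 q27772, e3 q27945 L796897 q27792, e3 q27946 L808326 q29007, e3 q27947 (flp_d L796913) q26773, e3 q27948 L796937 q27019, e3 q27949 L796955 q27231, e3 q27950 L796963 q26777, e3 q27951 L796987 q27507, e3 q27952 L797003 q27952, e3 q27953 L797008 q27915, e3 q27954 L797036 q26821, e3 q27955 L797052 q26782, e3 q27956 L808484 q29017, e3 q27957 (flp_d L808474) q29016, e3 q27958 L797095 q26801, e3 q27959 L797111 q27959, e3 q27960 L797126 q26788, e3 q27961 L797142 q27961, e3 q27962 L797145 q26790, e3 q27963 L797165 q26921, e3 q27964 L797171 q26787, e3 q27965 (flp_d L808662) q29029, e3 q27966 (flp_d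 L808579) q29023, e3 q27967 L808696 q29032, trivial⟩ (by decide +kernel)

theorem ce_d_437 : ∀ r, r < 64 → sm gd (Qf (27968 + r)) = Qf (tab Gen.d (27968 + r)) :=
  edges_tab (sm gd) Qf (tab Gen.d) 27968 [(27968, 29026), (27969, 27693), (27970, 27874), (27971, 27971), (27972, 26799), (27973, 26936), (27974, 26795), (27975, 29040), (27976, 27599), (27977, 26811), (27978, 27607), (27979, 29046), (27980, 29037), (27981, 27381), (27982, 27982), (27983, 29020), (27984, 29052), (27985, 27985), (27986, 26808), (27987, 26955), (27988, 26956), (27989, 27625), (27990, 29057), (27991, 26807), (27992, 29059), (27993, 29043), (27994, 26812), (27995, 27995), (27996, 27696), (27997, 26823), (27998, 29064), (27999, 26850), (28000, 26825), (28001, 26979), (28002, 26980), (28003, 26820), (28004, 29014), (28005, 29072), (28006, 26853), (28007, 29062), (28008, 29075), (28009, 26824), (28010, 26947), (28011, 26859), (28012, 27452), (28013, 27188), (28014, 27278), (28015, 27253), (28016, 26928), (28017, 28017), (28018, 26970), (28019, 29086), (28020,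 28020), (28021, 26930), (28022, 27694), (28023, 26860), (28024, 26972), (28025, 27697), (28026, 27698), (28027, 26857), (28028, 26846), (28029, 29096), (28030, 26840), (28031, 27706)]
    ⟨e3 q27968 (flp_d L808624) q29026, e3 q27969 L797231 q27693, e3 q27970 L797261 q27874, e3 q27971 L797277 q27971, e3 q27972 L797280 q26799, e3 q27973 L797304 q26936, e3 q27974 L797312 q26795, e3 q27975 (flp_d L808822) q29040, e3 q27976 L797351 q27599, e3 q27977 L797367 q26811, e3 q27978 L797371 q27607, e3 q27979 L808906 q29046, e3 q27980 (flp_d L808776) q29037, e3 q27981 L797419 q27381, e3 q27982 L797435 q27982, e3 q27983 (flp_d L808534) q29020, e3 q27984 L808989 q29052, e3 q27985 L797462 q27985, e3 q27986 L797473 q26808, e3 q27987 L797493 q26955, e3 q27988 L797501 q26956, e3 q27989 L797513 q27625, e3 q27990 L809052 q29057, e3 q27991 (flp_d L797535) q26807, e3 q27992 L809078 q29059, e3 q27993 (flp_d L808868) q29043, e3 q27994 (flp_d L797582) q26812, e3 q27995 L797608 q27995, e3 q27996 L797613 q27696, e3 q27997 L797629 q26823, e3 q27998 L809154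 q29064, e3 q27999 L797659 q26850, e3 q28000 L797673 q26825, e3 q28001 L797695 q26979, e3 q28002 L797703 q26980, e3 q28003 L797715 q26820, e3 q28004 (flp_d L808440) q29014, e3 q28005 L809270 q29072, e3 q28006 L797753 q26853, e3 q28007 (flp_d L809130) q29062, e3 q28008 L809314 q29075, e3 q28009 (flp_d L797785) q26824, e3 q28010 L797811 q26947, e3 q28011 L797827 q26859, e3 q28012 L797833 q27452, e3 q28013 L797857 q27188, e3 q28014 L797865 q27278, e3 q28015 L797889 q27253, e3 q28016 L797907 q26928, e3 q28017 L797923 q28017, e3 q28018 L797926 q26970, e3 q28019 L809485 q29086, e3 q28020 L797956 q28020, e3 q28021 L797967 q26930, e3 q28022 L797987 q27694, e3 q28023 L797995 q26860, e3 q28024 L798003 q26972, e3 q28025 L798023 q27697, e3 q28026 L798031 q27698, e3 q28027 L798043 q26857, e3 q28028 L798057 q26846, e3 q28029 L809618 q29096, e3 q28030 (flp_d L798077) q26840, e3 q28031 L798097 q27706, trivial⟩ (by decide +kernel)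

theorem ce_d_438 : ∀ r, r < 64 → sm gd (Qf (28032 + r)) = Qf (tab Gen.d (28032 + r)) :=
  edges_tab (sm gd) Qf (tab Gen.d) 28032 [(28032, 27010), (28033, 27011), (28034, 27012), (28035, 29101), (28036, 26847), (28037, 29002), (28038, 26849), (28039, 29066), (28040, 26852), (28041, 28041), (28042, 26858), (28043, 29091), (28044, 27281), (28045, 27283), (28046, 26865), (28047, 27743), (28048, 28048), (28049, 29106), (28050, 26868), (28051, 27731), (28052, 29110), (28053, 27272), (28054, 29114), (28055, 26875), (28056, 27733), (28057, 27290), (28058, 27592), (28059, 27720), (28060, 29119), (28061, 27725), (28062, 27920), (28063, 27668), (28064, 29122), (28065, 26886), (28066, 27888), (28067, 27348), (28068, 27666), (28069, 27509), (28070, 29127), (28071, 27918), (28072, 27925), (28073, 27453), (28074, 26976), (28075, 27504), (28076, 26999), (28077, 27717), (28078, 27367), (28079, 26900), (28080, 29133), (28081, 26933), (28082, 28082), (28083, 26907), (28084, 28084), (28085, 26909), (28086, 27916), (28087, 26905), (28088, 29143),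 (28089, 27652), (28090, 28090), (28091, 29137), (28092, 29149), (28093, 29140), (28094, 27376), (28095, 26911)]
    ⟨e3 q28032 L798113 q27010, e3 q28033 L798121 q27011, e3 q28034 L798129 q27012, e3 q28035 L809686 q29101, e3 q28036 (flp_d L798151) q26847, e3 q28037 (flp_d L808248) q29002, e3 q28038 (flp_d L798171) q26849, e3 q28039 (flp_d L809192) q29066, e3 q28040 (flp_d L798202) q26852, e3 q28041 L798230 q28041, e3 q28042 L798235 q26858, e3 q28043 (flp_d L809552) q29091, e3 q28044 L798261 q27281, e3 q28045 L798281 q27283, e3 q28046 L798309 q26865, e3 q28047 L798325 q27743, e3 q28048 L798341 q28048, e3 q28049 (flp_d L809757) q29106, e3 q28050 L798360 q26868, e3 q28051 L798384 q27731, e3 q28052 (flp_d L809823) q29110, e3 q28053 L798404 q27272, e3 q28054 L809885 q29114, e3 q28055 L798438 q26875, e3 q28056 L798458 q27733, e3 q28057 L798466 q27290, e3 q28058 L798494 q27592, e3 q28059 L798500 q27720, e3 q28060 L809972 q29119, e3 q28061 L798534 q27725, e3 q28062 L798548 q27920, e3 q28063 L798562 q27668, e3 q28064 L810023 q29122,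 e3 q28065 L798596 q26886, e3 q28066 L798620 q27888, e3 q28067 L798628 q27348, e3 q28068 L798652 q27666, e3 q28069 L798658 q27509, e3 q28070 L810102 q29127, e3 q28071 L798684 q27918, e3 q28072 L798710 q27925, e3 q28073 L798716 q27453, e3 q28074 L798744 q26976, e3 q28075 L798752 q27504, e3 q28076 L798776 q26999, e3 q28077 L798790 q27717, e3 q28078 L798808 q27367, e3 q28079 L798824 q26900, e3 q28080 (flp_d L810205) q29133, e3 q28081 L798852 q26933, e3 q28082 L798868 q28082, e3 q28083 L798883 q26907, e3 q28084 L798899 q28084, e3 q28085 L798902 q26909, e3 q28086 L798922 q27916, e3 q28087 L798928 q26905, e3 q28088 (flp_d L810345) q29143, e3 q28089 L798960 q27652, e3 q28090 L798976 q28090, e3 q28091 (flp_d L810262) q29137, e3 q28092 L810424 q29149, e3 q28093 (flp_d L810307) q29140, e3 q28094 L799027 q27376, e3 q28095 L799043 q26911, trivial⟩ (by decide +kernel)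

theorem ce_d_439 : ∀ r, r < 64 → sm gd (Qf (28096 + r)) = Qf (tab Gen.d (28096 + r)) :=
  edges_tab (sm gd) Qf (tab Gen.d) 28096 [(28096, 27383), (28097, 29154), (28098, 26915), (28099, 26914), (28100, 26950), (28101, 29159), (28102, 28102), (28103, 26924), (28104, 29163), (28105, 28105), (28106, 26926), (28107, 29027), (28108, 29028), (28109, 26923), (28110, 29161), (28111, 29169), (28112, 26925), (28113, 27349), (28114, 28114), (28115, 29081), (28116, 29176), (28117, 29088), (28118, 27413), (28119, 27818), (28120, 29134), (28121, 29181), (28122, 26942), (28123, 29038), (28124, 29039), (28125, 27353), (28126, 27853), (28127, 26964), (28128, 27844), (28129, 29188), (28130, 26941), (28131, 27410), (28132, 29192), (28133, 27426), (28134, 27830), (28135, 29076), (28136, 27595), (28137, 29197), (28138, 29157), (28139, 29199), (28140, 26951), (28141, 29201), (28142, 26961), (28143, 29054), (28144, 29055), (28145, 27425), (28146, 27469), (28147, 27842), (28148, 27503), (28149, 29206), (28150, 26962), (28151, 29170), (28152, 28152),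 (28153, 28153), (28154, 27332), (28155, 28155), (28156, 27351), (28157, 29213), (28158, 28158), (28159, 29084)]
    ⟨e3 q28096 L799047 q27383, e3 q28097 L810483 q29154, e3 q28098 L799067 q26915, e3 q28099 (flp_d L799073) q26914, e3 q28100 L799083 q26950, e3 q28101 L810534 q29159, e3 q28102 L799107 q28102, e3 q28103 L799116 q26924, e3 q28104 L810577 q29163, e3 q28105 L799138 q28105, e3 q28106 L799147 q26926, e3 q28107 (flp_d L808644) q29027, e3 q28108 (flp_d L808652) q29028, e3 q28109 L799177 q26923, e3 q28110 (flp_d L810559) q29161, e3 q28111 L810638 q29169, e3 q28112 (flp_d L799207) q26925, e3 q28113 L799228 q27349, e3 q28114 L799244 q28114, e3 q28115 (flp_d L809412) q29081, e3 q28116 L810728 q29176, e3 q28117 (flp_d L809512) q29088, e3 q28118 L799283 q27413, e3 q28119 L799307 q27818, e3 q28120 (flp_d L810217) q29134, e3 q28121 L810797 q29181, e3 q28122 L799339 q26942, e3 q28123 (flp_d L808800) q29038, e3 q28124 (flp_d L808808) q29039, e3 q28125 L799373 q27353, e3 q28126 L799395 q27853, e3 q28127 L799403 q26964, e3 q28128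 L799413 q27844, e3 q28129 L810884 q29188, e3 q28130 (flp_d L799433) q26941, e3 q28131 L799449 q27410, e3 q28132 L810946 q29192, e3 q28133 L799483 q27426, e3 q28134 L799503 q27830, e3 q28135 (flp_d L809328) q29076, e3 q28136 L799525 q27595, e3 q28137 L811031 q29197, e3 q28138 (flp_d L810514) q29157, e3 q28139 L811056 q29199, e3 q28140 (flp_d L799569) q26951, e3 q28141 (flp_d L811083) q29201, e3 q28142 L799594 q26961, e3 q28143 (flp_d L809022) q29054, e3 q28144 (flp_d L809030) q29055, e3 q28145 L799630 q27425, e3 q28146 L799658 q27469, e3 q28147 L799666 q27842, e3 q28148 L799690 q27503, e3 q28149 L811159 q29206, e3 q28150 (flp_d L799702) q26962, e3 q28151 (flp_d L810653) q29170, e3 q28152 L799736 q28152, e3 q28153 L799745 q28153, e3 q28154 L799768 q27332, e3 q28155 L799784 q28155, e3 q28156 L799789 q27351, e3 q28157 L811253 q29213, e3 q28158 L799815 q28158, e3 q28159 (flp_d L809461) q29084, trivial⟩ (by decide +kernel)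

theorem ce_d_440 : ∀ r, r < 64 → sm gd (Qf (28160 + r)) = Qf (tab Gen.d (28160 + r)) :=
  edges_tab (sm gd) Qf (tab Gen.d) 28160 [(28160, 29216), (28161, 26971), (28162, 27467), (28163, 27014), (28164, 27470), (28165, 29129), (28166, 27282), (28167, 29067), (28168, 29068), (28169, 29069), (28170, 27334), (28171, 27287), (28172, 27354), (28173, 27855), (28174, 27495), (28175, 29228), (28176, 26988), (28177, 27366), (28178, 27496), (28179, 27016), (28180, 27246), (28181, 27293), (28182, 27819), (28183, 27794), (28184, 27502), (28185, 29130), (28186, 27284), (28187, 27589), (28188, 27661), (28189, 27702), (28190, 27703), (28191, 27704), (28192, 27013), (28193, 27015), (28194, 29099), (28195, 29100), (28196, 29239), (28197, 29219), (28198, 29231), (28199, 27017), (28200, 27543), (28201, 29009), (28202, 29010), (28203, 27555), (28204, 27179), (28205, 27786), (28206, 27056), (28207, 27030), (28208, 27100), (28209, 27046), (28210, 27154), (28211, 29247), (28212, 27069), (28213, 27071), (28214, 27037), (28215, 27119), (28216, 27061),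 (28217, 27192), (28218, 27049), (28219, 28219), (28220, 27043), (28221, 28221), (28222, 27045), (28223, 27143)]
    ⟨e3 q28160 L811288 q29216, e3 q28161 (flp_d L799844) q26971, e3 q28162 L799853 q27467, e3 q28163 L799881 q27014, e3 q28164 L799889 q27470, e3 q28165 (flp_d L810147) q29129, e3 q28166 L799913 q27282, e3 q28167 (flp_d L809216) q29067, e3 q28168 (flp_d L809224) q29068, e3 q28169 (flp_d L809236) q29069, e3 q28170 L799959 q27334, e3 q28171 L799985 q27287, e3 q28172 L799993 q27354, e3 q28173 L800011 q27855, e3 q28174 L800019 q27495, e3 q28175 L811453 q29228, e3 q28176 (flp_d L800037) q26988, e3 q28177 L800051 q27366, e3 q28178 L800069 q27496, e3 q28179 L800089 q27016, e3 q28180 L800095 q27246, e3 q28181 L800123 q27293, e3 q28182 L800131 q27819, e3 q28183 L800153 q27794, e3 q28184 L800159 q27502, e3 q28185 (flp_d L810165) q29130, e3 q28186 L800189 q27284, e3 q28187 L800199 q27589, e3 q28188 L800221 q27661, e3 q28189 L800237 q27702, e3 q28190 L800243 q27703, e3 q28191 L800259 q27704, e3 q28192 L800273 q27013, e3 q28193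 L800293 q27015, e3 q28194 (flp_d L809668) q29099, e3 q28195 (flp_d L809676) q29100, e3 q28196 (flp_d L811639) q29239, e3 q28197 (flp_d L811337) q29219, e3 q28198 (flp_d L811515) q29231, e3 q28199 (flp_d L800357) q27017, e3 q28200 L800375 q27543, e3 q28201 (flp_d L808370) q29009, e3 q28202 (flp_d L808378) q29010, e3 q28203 L800413 q27555, e3 q28204 L800417 q27179, e3 q28205 L800437 q27786, e3 q28206 L800453 q27056, e3 q28207 L800471 q27030, e3 q28208 L800495 q27100, e3 q28209 L800501 q27046, e3 q28210 L800529 q27154, e3 q28211 (flp_d L811761) q29247, e3 q28212 L800549 q27069, e3 q28213 L800567 q27071, e3 q28214 L800581 q27037, e3 q28215 L800605 q27119, e3 q28216 L800613 q27061, e3 q28217 L800637 q27192, e3 q28218 L800655 q27049, e3 q28219 L800671 q28219, e3 q28220 L800686 q27043, e3 q28221 L800702 q28221, e3 q28222 L800705 q27045, e3 q28223 L800721 q27143, trivial⟩ (by decide +kernel)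

theorem ce_d_441 : ∀ r, r < 64 → sm gd (Qf (28224 + r)) = Qf (tab Gen.d (28224 + r)) :=
  edges_tab (sm gd) Qf (tab Gen.d) 28224 [(28224, 27042), (28225, 29257), (28226, 29265), (28227, 29260), (28228, 29249), (28229, 27149), (28230, 27576), (28231, 29254), (28232, 29270), (28233, 28233), (28234, 27058), (28235, 27171), (28236, 27172), (28237, 27075), (28238, 27180), (28239, 29246), (28240, 29277), (28241, 27057), (28242, 27788), (28243, 27181), (28244, 27789), (28245, 27279), (28246, 27836), (28247, 27229), (28248, 27230), (28249, 29251), (28250, 27797), (28251, 29282), (28252, 27072), (28253, 27791), (28254, 29274), (28255, 27471), (28256, 27111), (28257, 27295), (28258, 27899), (28259, 27082), (28260, 27787), (28261, 27710), (28262, 27096), (28263, 28263), (28264, 27089), (28265, 28265), (28266, 27091), (28267, 27757), (28268, 27088), (28269, 29298), (28270, 29292), (28271, 29301), (28272, 29295), (28273, 27093), (28274, 29302), (28275, 27109), (28276, 27228), (28277, 29289), (28278, 29307), (28279, 28279), (28280, 27102),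 (28281, 27104), (28282, 29248), (28283, 27156), (28284, 29309), (28285, 29313), (28286, 27103), (28287, 28287)]
    ⟨e3 q28224 L800727 q27042, e3 q28225 (flp_d L811930) q29257, e3 q28226 L812035 q29265, e3 q28227 (flp_d L811977) q29260, e3 q28228 (flp_d L811793) q29249, e3 q28229 L800787 q27149, e3 q28230 L800815 q27576, e3 q28231 (flp_d L811883) q29254, e3 q28232 L812112 q29270, e3 q28233 L800851 q28233, e3 q28234 L800864 q27058, e3 q28235 L800878 q27171, e3 q28236 L800886 q27172, e3 q28237 L800898 q27075, e3 q28238 L800926 q27180, e3 q28239 (flp_d L811741) q29246, e3 q28240 L812209 q29277, e3 q28241 (flp_d L800944) q27057, e3 q28242 L800966 q27788, e3 q28243 L800984 q27181, e3 q28244 L801000 q27789, e3 q28245 L801006 q27279, e3 q28246 L801032 q27836, e3 q28247 L801042 q27229, e3 q28248 L801050 q27230, e3 q28249 (flp_d L811829) q29251, e3 q28250 L801084 q27797, e3 q28251 L812295 q29282, e3 q28252 (flp_d L801096) q27072, e3 q28253 L801114 q27791, e3 q28254 (flp_d L812169) q29274, e3 q28255 L801152 q27471, e3 q28256 L801156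 q27111, e3 q28257 L801170 q27295, e3 q28258 (flp_d L801198) q27899, e3 q28259 L801202 q27082, e3 q28260 L801218 q27787, e3 q28261 L801222 q27710, e3 q28262 L801250 q27096, e3 q28263 L801266 q28263, e3 q28264 L801281 q27089, e3 q28265 L801297 q28265, e3 q28266 L801300 q27091, e3 q28267 L801322 q27757, e3 q28268 L801330 q27088, e3 q28269 (flp_d L812541) q29298, e3 q28270 (flp_d L812452) q29292, e3 q28271 L812577 q29301, e3 q28272 (flp_d L812499) q29295, e3 q28273 L801394 q27093, e3 q28274 (flp_d L812592) q29302, e3 q28275 L801418 q27109, e3 q28276 L801442 q27228, e3 q28277 (flp_d L812407) q29289, e3 q28278 L812660 q29307, e3 q28279 L801474 q28279, e3 q28280 L801485 q27102, e3 q28281 L801503 q27104, e3 q28282 (flp_d L811785) q29248, e3 q28283 L801525 q27156, e3 q28284 (flp_d L812687) q29309, e3 q28285 L812737 q29313, e3 q28286 (flp_d L801549) q27103, e3 q28287 L801579 q28287, trivial⟩ (by decide +kernel)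

theorem ce_d_442 : ∀ r, r < 64 → sm gd (Qf (28288 + r)) = Qf (tab Gen.d (28288 + r)) :=
  edges_tab (sm gd) Qf (tab Gen.d) 28288 [(28288, 29005), (28289, 27110), (28290, 27155), (28291, 29303), (28292, 29284), (28293, 29318), (28294, 27112), (28295, 27169), (28296, 27121), (28297, 29321), (28298, 27116), (28299, 27190), (28300, 29252), (28301, 27194), (28302, 29325), (28303, 27122), (28304, 27360), (28305, 28305), (28306, 27126), (28307, 27151), (28308, 27130), (28309, 28309), (28310, 27132), (28311, 29330), (28312, 29335), (28313, 29332), (28314, 27622), (28315, 29338), (28316, 27136), (28317, 27135), (28318, 29341), (28319, 29340), (28320, 27163), (28321, 27165), (28322, 29346), (28323, 28323), (28324, 27146), (28325, 29351), (28326, 28326), (28327, 27148), (28328, 29261), (28329, 29262), (28330, 27145), (28331, 29357), (28332, 29349), (28333, 29359), (28334, 27147), (28335, 29266), (28336, 27497), (28337, 28337), (28338, 29329), (28339, 29365), (28340, 27157), (28341, 29250), (28342, 29316), (28343, 29311), (28344, 27260),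 (28345, 29370), (28346, 28346), (28347, 27571), (28348, 27584), (28349, 27174), (28350, 29343), (28351, 29376)]
    ⟨e3 q28288 (flp_d L808290) q29005, e3 q28289 L801592 q27110, e3 q28290 L801600 q27155, e3 q28291 (flp_d L812610) q29303, e3 q28292 (flp_d L812331) q29284, e3 q28293 L812814 q29318, e3 q28294 (flp_d L801646) q27112, e3 q28295 L801668 q27169, e3 q28296 L801682 q27121, e3 q28297 L812858 q29321, e3 q28298 (flp_d L801696) q27116, e3 q28299 L801718 q27190, e3 q28300 (flp_d L811859) q29252, e3 q28301 L801740 q27194, e3 q28302 L812914 q29325, e3 q28303 (flp_d L801752) q27122, e3 q28304 L801772 q27360, e3 q28305 L801788 q28305, e3 q28306 L801795 q27126, e3 q28307 L801815 q27151, e3 q28308 L801831 q27130, e3 q28309 L801847 q28309, e3 q28310 L801850 q27132, e3 q28311 (flp_d L812985) q29330, e3 q28312 L813049 q29335, e3 q28313 (flp_d L813015) q29332, e3 q28314 L801894 q27622, e3 q28315 L813076 q29338, e3 q28316 L801914 q27136, e3 q28317 (flp_d L801918) q27135, e3 q28318 (flp_d L813108) q29341, e3 q28319 (flp_d L813096)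 q29340, e3 q28320 L801968 q27163, e3 q28321 L801972 q27165, e3 q28322 L813157 q29346, e3 q28323 L801988 q28323, e3 q28324 L801993 q27146, e3 q28325 L813195 q29351, e3 q28326 L802011 q28326, e3 q28327 L802018 q27148, e3 q28328 (flp_d L811993) q29261, e3 q28329 (flp_d L812001) q29262, e3 q28330 L802040 q27145, e3 q28331 (flp_d L813251) q29357, e3 q28332 (flp_d L813179) q29349, e3 q28333 L813271 q29359, e3 q28334 (flp_d L802086) q27147, e3 q28335 (flp_d L812052) q29266, e3 q28336 L802121 q27497, e3 q28337 L802137 q28337, e3 q28338 (flp_d L812969) q29329, e3 q28339 L813344 q29365, e3 q28340 L802166 q27157, e3 q28341 (flp_d L811821) q29250, e3 q28342 (flp_d L812788) q29316, e3 q28343 (flp_d L812719) q29311, e3 q28344 L802204 q27260, e3 q28345 L813403 q29370, e3 q28346 L802234 q28346, e3 q28347 L802247 q27571, e3 q28348 L802271 q27584, e3 q28349 L802279 q27174, e3 q28350 (flp_d L813127) q29343, e3 q28351 L813484 q29376, trivial⟩ (by decide +kernel)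

theorem ce_d_443 : ∀ r, r < 64 → sm gd (Qf (28352 + r)) = Qf (tab Gen.d (28352 + r)) :=
  edges_tab (sm gd) Qf (tab Gen.d) 28352 [(28352, 28352), (28353, 29344), (28354, 29379), (28355, 27166), (28356, 29381), (28357, 27175), (28358, 29319), (28359, 29272), (28360, 29273), (28361, 28998), (28362, 29373), (28363, 29385), (28364, 27176), (28365, 29360), (28366, 28366), (28367, 29245), (28368, 29275), (28369, 27473), (28370, 28370), (28371, 27474), (28372, 29393), (28373, 27476), (28374, 29077), (28375, 27477), (28376, 29079), (28377, 27193), (28378, 29322), (28379, 29253), (28380, 29324), (28381, 27256), (28382, 27739), (28383, 27820), (28384, 29401), (28385, 28385), (28386, 27291), (28387, 27711), (28388, 27240), (28389, 27822), (28390, 27713), (28391, 27541), (28392, 27738), (28393, 27771), (28394, 27224), (28395, 27790), (28396, 27234), (28397, 27512), (28398, 29413), (28399, 28399), (28400, 27514), (28401, 29416), (28402, 27213), (28403, 29418), (28404, 27518), (28405, 29421), (28406, 27216), (28407, 29423), (28408, 27242),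 (28409, 29425), (28410, 27219), (28411, 29427), (28412, 27221), (28413, 29430), (28414, 27233), (28415, 29409)]
    ⟨e3 q28352 L802309 q28352, e3 q28353 (flp_d L813143) q29344, e3 q28354 L813507 q29379, e3 q28355 (flp_d L802328) q27166, e3 q28356 (flp_d L813522) q29381, e3 q28357 L802343 q27175, e3 q28358 (flp_d L812836) q29319, e3 q28359 (flp_d L812147) q29272, e3 q28360 (flp_d L812155) q29273, e3 q28361 (flp_d L808166) q28998, e3 q28362 (flp_d L813456) q29373, e3 q28363 L813558 q29385, e3 q28364 (flp_d L802407) q27176, e3 q28365 (flp_d L813286) q29360, e3 q28366 L802423 q28366, e3 q28367 (flp_d L811721) q29245, e3 q28368 (flp_d L812197) q29275, e3 q28369 L802466 q27473, e3 q28370 L802482 q28370, e3 q28371 L802485 q27474, e3 q28372 L813648 q29393, e3 q28373 L802505 q27476, e3 q28374 (flp_d L809356) q29077, e3 q28375 L802531 q27477, e3 q28376 (flp_d L809388) q29079, e3 q28377 L802551 q27193, e3 q28378 (flp_d L812880) q29322, e3 q28379 (flp_d L811877) q29253, e3 q28380 (flp_d L812910) q29324, e3 q28381 L802585 q27256, e3 q28382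 L802599 q27739, e3 q28383 L802613 q27820, e3 q28384 L813739 q29401, e3 q28385 L802639 q28385, e3 q28386 L802650 q27291, e3 q28387 L802670 q27711, e3 q28388 L802676 q27240, e3 q28389 L802688 q27822, e3 q28390 L802708 q27713, e3 q28391 L802714 q27541, e3 q28392 L802726 q27738, e3 q28393 L802746 q27771, e3 q28394 L802754 q27224, e3 q28395 L802774 q27790, e3 q28396 L802782 q27234, e3 q28397 L802790 q27512, e3 q28398 L813886 q29413, e3 q28399 L802804 q28399, e3 q28400 L802811 q27514, e3 q28401 L813907 q29416, e3 q28402 (flp_d L802823) q27213, e3 q28403 (flp_d L813924) q29418, e3 q28404 L802838 q27518, e3 q28405 L813941 q29421, e3 q28406 (flp_d L802852) q27216, e3 q28407 (flp_d L813965) q29423, e3 q28408 L802874 q27242, e3 q28409 L813981 q29425, e3 q28410 (flp_d L802890) q27219, e3 q28411 (flp_d L814007) q29427, e3 q28412 L802914 q27221, e3 q28413 (flp_d L814043) q29430, e3 q28414 L802932 q27233, e3 q28415 (flp_d L813850) q29409, trivial⟩ (by decide +kernel)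

theorem ce_d_444 : ∀ r, r < 64 → sm gd (Qf (28416 + r)) = Qf (tab Gen.d (28416 + r)) :=
  edges_tab (sm gd) Qf (tab Gen.d) 28416 [(28416, 29432), (28417, 27226), (28418, 29304), (28419, 29419), (28420, 29280), (28421, 29008), (28422, 28996), (28423, 29410), (28424, 27235), (28425, 27544), (28426, 27545), (28427, 28427), (28428, 27241), (28429, 27244), (28430, 28430), (28431, 29232), (28432, 27249), (28433, 27298), (28434, 27808), (28435, 29080), (28436, 27745), (28437, 29443), (28438, 29398), (28439, 27262), (28440, 27399), (28441, 27400), (28442, 29368), (28443, 29447), (28444, 27261), (28445, 27805), (28446, 29450), (28447, 27807), (28448, 27594), (28449, 27701), (28450, 27734), (28451, 27274), (28452, 29112), (28453, 29453), (28454, 27273), (28455, 27856), (28456, 29105), (28457, 29221), (28458, 29235), (28459, 27285), (28460, 29225), (28461, 27867), (28462, 27793), (28463, 29403), (28464, 27294), (28465, 29233), (28466, 29285), (28467, 29459), (28468, 27296), (28469, 29440), (28470, 27708), (28471, 29462), (28472, 27712),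 (28473, 27308), (28474, 29465), (28475, 28475), (28476, 27310), (28477, 27760), (28478, 27761), (28479, 27307)]
    ⟨e3 q28416 L814063 q29432, e3 q28417 (flp_d L802952) q27226, e3 q28418 (flp_d L812634) q29304, e3 q28419 (flp_d L813931) q29419, e3 q28420 (flp_d L812269) q29280, e3 q28421 (flp_d L808354) q29008, e3 q28422 (flp_d L808130) q28996, e3 q28423 (flp_d L813866) q29410, e3 q28424 (flp_d L803004) q27235, e3 q28425 L803012 q27544, e3 q28426 L803018 q27545, e3 q28427 L803024 q28427, e3 q28428 (flp_d L803031) q27241, e3 q28429 L803051 q27244, e3 q28430 L803067 q28430, e3 q28431 (flp_d L811523) q29232, e3 q28432 L803086 q27249, e3 q28433 L803110 q27298, e3 q28434 L803116 q27808, e3 q28435 (flp_d L809406) q29080, e3 q28436 L803140 q27745, e3 q28437 L814166 q29443, e3 q28438 (flp_d L813703) q29398, e3 q28439 L803172 q27262, e3 q28440 L803188 q27399, e3 q28441 L803196 q27400, e3 q28442 (flp_d L813379) q29368, e3 q28443 L814211 q29447, e3 q28444 (flp_d L803218) q27261, e3 q28445 L803229 q27805, e3 q28446 L814249 q29450, e3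 q28447 L803257 q27807, e3 q28448 L803271 q27594, e3 q28449 L803289 q27701, e3 q28450 L803301 q27734, e3 q28451 L803309 q27274, e3 q28452 (flp_d L809855) q29112, e3 q28453 L814290 q29453, e3 q28454 (flp_d L803345) q27273, e3 q28455 L803362 q27856, e3 q28456 (flp_d L809739) q29105, e3 q28457 (flp_d L811357) q29221, e3 q28458 (flp_d L811577) q29235, e3 q28459 (flp_d L803396) q27285, e3 q28460 (flp_d L811423) q29225, e3 q28461 L803422 q27867, e3 q28462 L803438 q27793, e3 q28463 (flp_d L813768) q29403, e3 q28464 L803464 q27294, e3 q28465 (flp_d L811551) q29233, e3 q28466 (flp_d L812345) q29285, e3 q28467 L814362 q29459, e3 q28468 (flp_d L803502) q27296, e3 q28469 (flp_d L814140) q29440, e3 q28470 L803523 q27708, e3 q28471 L814402 q29462, e3 q28472 L803549 q27712, e3 q28473 L803563 q27308, e3 q28474 L814437 q29465, e3 q28475 L803589 q28475, e3 q28476 L803600 q27310, e3 q28477 L803622 q27760, e3 q28478 L803630 q27761, e3 q28479 L803642 q27307, trivial⟩ (by decide +kernel)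

theorem ce_d_445 : ∀ r, r < 64 → sm gd (Qf (28480 + r)) = Qf (tab Gen.d (28480 + r)) :=
  edges_tab (sm gd) Qf (tab Gen.d) 28480 [(28480, 29463), (28481, 29472), (28482, 27309), (28483, 27498), (28484, 29476), (28485, 27500), (28486, 27907), (28487, 29479), (28488, 27323), (28489, 27906), (28490, 29482), (28491, 27317), (28492, 29484), (28493, 27320), (28494, 29473), (28495, 27322), (28496, 28496), (28497, 27329), (28498, 29489), (28499, 27331), (28500, 29487), (28501, 29491), (28502, 27330), (28503, 29209), (28504, 29494), (28505, 29224), (28506, 27340), (28507, 29497), (28508, 27343), (28509, 29499), (28510, 27338), (28511, 29495), (28512, 29501), (28513, 27341), (28514, 29470), (28515, 29503), (28516, 27344), (28517, 27347), (28518, 29504), (28519, 29171), (28520, 29507), (28521, 29211), (28522, 29509), (28523, 27352), (28524, 29184), (28525, 29511), (28526, 27356), (28527, 29510), (28528, 27358), (28529, 29326), (28530, 29327), (28531, 27361), (28532, 29230), (28533, 29131), (28534, 27373), (28535, 29518), (28536, 27375),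 (28537, 27868), (28538, 29521), (28539, 29516), (28540, 29523), (28541, 27374), (28542, 29150), (28543, 29527)]
    ⟨e3 q28480 (flp_d L814417) q29463, e3 q28481 L814523 q29472, e3 q28482 (flp_d L803666) q27309, e3 q28483 L803675 q27498, e3 q28484 L814568 q29476, e3 q28485 L803705 q27500, e3 q28486 L803721 q27907, e3 q28487 L814601 q29479, e3 q28488 L803741 q27323, e3 q28489 L803749 q27906, e3 q28490 L814635 q29482, e3 q28491 (flp_d L803769) q27317, e3 q28492 L814659 q29484, e3 q28493 (flp_d L803793) q27320, e3 q28494 (flp_d L814536) q29473, e3 q28495 (flp_d L803813) q27322, e3 q28496 L803833 q28496, e3 q28497 L803836 q27329, e3 q28498 L814718 q29489, e3 q28499 L803866 q27331, e3 q28500 (flp_d L814692) q29487, e3 q28501 L814741 q29491, e3 q28502 (flp_d L803892) q27330, e3 q28503 (flp_d L811199) q29209, e3 q28504 L814779 q29494, e3 q28505 (flp_d L811397) q29224, e3 q28506 L803945 q27340, e3 q28507 L814812 q29497, e3 q28508 L803967 q27343, e3 q28509 L814838 q29499, e3 q28510 (flp_d L803989) q27338, e3 q28511 (flp_d L814794)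 q29495, e3 q28512 L814858 q29501, e3 q28513 (flp_d L804015) q27341, e3 q28514 (flp_d L814505) q29470, e3 q28515 L814872 q29503, e3 q28516 (flp_d L804041) q27344, e3 q28517 L804051 q27347, e3 q28518 (flp_d L814886) q29504, e3 q28519 (flp_d L810657) q29171, e3 q28520 L814926 q29507, e3 q28521 (flp_d L811233) q29211, e3 q28522 L814947 q29509, e3 q28523 (flp_d L804121) q27352, e3 q28524 (flp_d L810836) q29184, e3 q28525 L814962 q29511, e3 q28526 (flp_d L804154) q27356, e3 q28527 (flp_d L814960) q29510, e3 q28528 (flp_d L804174) q27358, e3 q28529 (flp_d L812936) q29326, e3 q28530 (flp_d L812944) q29327, e3 q28531 (flp_d L804190) q27361, e3 q28532 (flp_d L811489) q29230, e3 q28533 (flp_d L810171) q29131, e3 q28534 L804228 q27373, e3 q28535 L815034 q29518, e3 q28536 L804254 q27375, e3 q28537 L804264 q27868, e3 q28538 L815063 q29521, e3 q28539 (flp_d L815010) q29516, e3 q28540 L815078 q29523, e3 q28541 (flp_d L804296) q27374, e3 q28542 (flp_d L810435) q29150, e3 q28543 L815117 q29527, trivial⟩ (by decide +kernel)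

theorem ce_d_446 : ∀ r, r < 64 → sm gd (Qf (28544 + r)) = Qf (tab Gen.d (28544 + r)) :=
  edges_tab (sm gd) Qf (tab Gen.d) 28544 [(28544, 27379), (28545, 27378), (28546, 29530), (28547, 29529), (28548, 27434), (28549, 29047), (28550, 29534), (28551, 28551), (28552, 29152), (28553, 29537), (28554, 27384), (28555, 29539), (28556, 27388), (28557, 27387), (28558, 27428), (28559, 29065), (28560, 27429), (28561, 27430), (28562, 27402), (28563, 29547), (28564, 28564), (28565, 27404), (28566, 29551), (28567, 27396), (28568, 29553), (28569, 28569), (28570, 29444), (28571, 29445), (28572, 27492), (28573, 29545), (28574, 29559), (28575, 27403), (28576, 29561), (28577, 27405), (28578, 27441), (28579, 27412), (28580, 27662), (28581, 29567), (28582, 29190), (28583, 29569), (28584, 27411), (28585, 29177), (28586, 27419), (28587, 27422), (28588, 27847), (28589, 29574), (28590, 29571), (28591, 29576), (28592, 27420), (28593, 29356), (28594, 29579), (28595, 27423), (28596, 29524), (28597, 29203), (28598, 27845), (28599, 29542), (28600, 29544),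 (28601, 27436), (28602, 27735), (28603, 29531), (28604, 29585), (28605, 27435), (28606, 29587), (28607, 27437)]
    ⟨e3 q28544 L804329 q27379, e3 q28545 (flp_d L804335) q27378, e3 q28546 (flp_d L815157) q29530, e3 q28547 (flp_d L815143) q29529, e3 q28548 L804377 q27434, e3 q28549 (flp_d L808922) q29047, e3 q28550 L815203 q29534, e3 q28551 L804413 q28551, e3 q28552 (flp_d L810467) q29152, e3 q28553 L815228 q29537, e3 q28554 (flp_d L804434) q27384, e3 q28555 (flp_d L815246) q29539, e3 q28556 L804450 q27388, e3 q28557 L804462 q27387, e3 q28558 L804472 q27428, e3 q28559 (flp_d L809176) q29065, e3 q28560 L804498 q27429, e3 q28561 L804512 q27430, e3 q28562 L804524 q27402, e3 q28563 L815339 q29547, e3 q28564 L804542 q28564, e3 q28565 L804549 q27404, e3 q28566 L815369 q29551, e3 q28567 (flp_d L804557) q27396, e3 q28568 (flp_d L815384) q29553, e3 q28569 L804570 q28569, e3 q28570 (flp_d L814189) q29444, e3 q28571 (flp_d L814195) q29445, e3 q28572 L804587 q27492, e3 q28573 (flp_d L815323) q29545, e3 q28574 L815429 q29559, e3 q28575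 (flp_d L804615) q27403, e3 q28576 L815446 q29561, e3 q28577 (flp_d L804628) q27405, e3 q28578 L804637 q27441, e3 q28579 L804641 q27412, e3 q28580 L804657 q27662, e3 q28581 L815490 q29567, e3 q28582 (flp_d L810916) q29190, e3 q28583 L815509 q29569, e3 q28584 (flp_d L804693) q27411, e3 q28585 (flp_d L810741) q29177, e3 q28586 L804716 q27419, e3 q28587 L804732 q27422, e3 q28588 L804746 q27847, e3 q28589 L815576 q29574, e3 q28590 (flp_d L815538) q29571, e3 q28591 L815596 q29576, e3 q28592 (flp_d L804780) q27420, e3 q28593 (flp_d L813239) q29356, e3 q28594 L815620 q29579, e3 q28595 (flp_d L804804) q27423, e3 q28596 (flp_d L815091) q29524, e3 q28597 (flp_d L811109) q29203, e3 q28598 L804842 q27845, e3 q28599 (flp_d L815281) q29542, e3 q28600 (flp_d L815309) q29544, e3 q28601 L804882 q27436, e3 q28602 (flp_d L804902) q27735, e3 q28603 (flp_d L815169) q29531, e3 q28604 L815694 q29585, e3 q28605 (flp_d L804922) q27435, e3 q28606 L815718 q29587, e3 q28607 (flp_d L804942) q27437, trivial⟩ (by decide +kernel)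

theorem ce_d_447 : ∀ r, r < 64 → sm gd (Qf (28608 + r)) = Qf (tab Gen.d (28608 + r)) :=
  edges_tab (sm gd) Qf (tab Gen.d) 28608 [(28608, 29560), (28609, 27439), (28610, 27529), (28611, 29563), (28612, 29564), (28613, 27442), (28614, 27443), (28615, 28615), (28616, 27526), (28617, 28617), (28618, 28618), (28619, 28619), (28620, 29596), (28621, 28621), (28622, 29078), (28623, 29128), (28624, 27462), (28625, 29600), (28626, 27464), (28627, 29602), (28628, 27457), (28629, 29570), (28630, 27828), (28631, 27826), (28632, 29598), (28633, 29606), (28634, 27463), (28635, 29607), (28636, 27465), (28637, 27806), (28638, 29218), (28639, 27843), (28640, 29204), (28641, 29283), (28642, 29613), (28643, 29389), (28644, 29391), (28645, 29616), (28646, 27475), (28647, 29394), (28648, 27487), (28649, 29594), (28650, 27546), (28651, 27489), (28652, 29622), (28653, 27481), (28654, 29624), (28655, 29626), (28656, 27484), (28657, 29617), (28658, 29618), (28659, 29630), (28660, 27488), (28661, 29631), (28662, 27490), (28663, 29557), (28664, 29073),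 (28665, 27493), (28666, 29229), (28667, 29227), (28668, 29186), (28669, 29361), (28670, 29474), (28671, 29642)]
    ⟨e3 q28608 (flp_d L815444) q29560, e3 q28609 (flp_d L804966) q27439, e3 q28610 L804988 q27529, e3 q28611 (flp_d L815459) q29563, e3 q28612 (flp_d L815464) q29564, e3 q28613 (flp_d L805008) q27442, e3 q28614 (flp_d L805020) q27443, e3 q28615 L805038 q28615, e3 q28616 L805049 q27526, e3 q28617 L805053 q28617, e3 q28618 L805072 q28618, e3 q28619 L805077 q28619, e3 q28620 L815821 q29596, e3 q28621 L805100 q28621, e3 q28622 (flp_d L809364) q29078, e3 q28623 (flp_d L810119) q29128, e3 q28624 L805139 q27462, e3 q28625 L815868 q29600, e3 q28626 L805163 q27464, e3 q28627 L815883 q29602, e3 q28628 (flp_d L805175) q27457, e3 q28629 (flp_d L815530) q29570, e3 q28630 L805214 q27828, e3 q28631 L805222 q27826, e3 q28632 (flp_d L815846) q29598, e3 q28633 L815931 q29606, e3 q28634 (flp_d L805244) q27463, e3 q28635 L815937 q29607, e3 q28636 (flp_d L805255) q27465, e3 q28637 L805270 q27806, e3 q28638 (flp_d L811309) q29218, e3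 q28639 L805290 q27843, e3 q28640 (flp_d L811137) q29204, e3 q28641 (flp_d L812313) q29283, e3 q28642 L815990 q29613, e3 q28643 (flp_d L813598) q29389, e3 q28644 (flp_d L813630) q29391, e3 q28645 L816021 q29616, e3 q28646 (flp_d L805356) q27475, e3 q28647 (flp_d L813659) q29394, e3 q28648 L805377 q27487, e3 q28649 (flp_d L815810) q29594, e3 q28650 L805401 q27546, e3 q28651 L805409 q27489, e3 q28652 L816074 q29622, e3 q28653 (flp_d L805419) q27481, e3 q28654 (flp_d L816098) q29624, e3 q28655 L816112 q29626, e3 q28656 (flp_d L805443) q27484, e3 q28657 (flp_d L816034) q29617, e3 q28658 (flp_d L816040) q29618, e3 q28659 L816156 q29630, e3 q28660 (flp_d L805481) q27488, e3 q28661 L816166 q29631, e3 q28662 (flp_d L805495) q27490, e3 q28663 (flp_d L815413) q29557, e3 q28664 (flp_d L809290) q29073, e3 q28665 (flp_d L805511) q27493, e3 q28666 (flp_d L811483) q29229, e3 q28667 (flp_d L811447) q29227, e3 q28668 (flp_d L810866) q29186, e3 q28669 (flp_d L813290) q29361, e3 q28670 (flp_d L814542) q29474, e3 q28671 L816254 q29642, trivial⟩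 (by decide +kernel)

theorem ce_d_448 : ∀ r, r < 64 → sm gd (Qf (28672 + r)) = Qf (tab Gen.d (28672 + r)) :=
  edges_tab (sm gd) Qf (tab Gen.d) 28672 [(28672, 27499), (28673, 27865), (28674, 29205), (28675, 27604), (28676, 29645), (28677, 28677), (28678, 29011), (28679, 29649), (28680, 28680), (28681, 29125), (28682, 29652), (28683, 27510), (28684, 29654), (28685, 29411), (28686, 29656), (28687, 27513), (28688, 29658), (28689, 27515), (28690, 29661), (28691, 27517), (28692, 27534), (28693, 29665), (28694, 27519), (28695, 27521), (28696, 29666), (28697, 27523), (28698, 29663), (28699, 27536), (28700, 29580), (28701, 27686), (28702, 29590), (28703, 27716), (28704, 27531), (28705, 27674), (28706, 29662), (28707, 29664), (28708, 29673), (28709, 27537), (28710, 27539), (28711, 29407), (28712, 29405), (28713, 29242), (28714, 29437), (28715, 29679), (28716, 29438), (28717, 27548), (28718, 28718), (28719, 28719), (28720, 27551), (28721, 27848), (28722, 27565), (28723, 27608), (28724, 27566), (28725, 29540), (28726, 27626), (28727,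 29686), (28728, 27562), (28729, 27567), (28730, 28730), (28731, 27795), (28732, 29267), (28733, 27722), (28734, 29690), (28735, 27579)]
    ⟨e3 q28672 (flp_d L805571) q27499, e3 q28673 L805582 q27865, e3 q28674 (flp_d L811155) q29205, e3 q28675 L805600 q27604, e3 q28676 L816282 q29645, e3 q28677 L805622 q28677, e3 q28678 (flp_d L808390) q29011, e3 q28679 L816319 q29649, e3 q28680 L805647 q28680, e3 q28681 (flp_d L810078) q29125, e3 q28682 L816342 q29652, e3 q28683 (flp_d L805668) q27510, e3 q28684 (flp_d L816359) q29654, e3 q28685 (flp_d L813874) q29411, e3 q28686 L816369 q29656, e3 q28687 (flp_d L805693) q27513, e3 q28688 L816378 q29658, e3 q28689 (flp_d L805704) q27515, e3 q28690 (flp_d L816401) q29661, e3 q28691 L805723 q27517, e3 q28692 L805732 q27534, e3 q28693 L816431 q29665, e3 q28694 (flp_d L805748) q27519, e3 q28695 (flp_d L805758) q27521, e3 q28696 (flp_d L816451) q29666, e3 q28697 L805786 q27523, e3 q28698 (flp_d L816422) q29663, e3 q28699 L805804 q27536, e3 q28700 (flp_d L815644) q29580, e3 q28701 L805820 q27686,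 e3 q28702 (flp_d L815768) q29590, e3 q28703 L805838 q27716, e3 q28704 (flp_d L805842) q27531, e3 q28705 L805858 q27674, e3 q28706 (flp_d L816411) q29662, e3 q28707 (flp_d L816427) q29664, e3 q28708 L816511 q29673, e3 q28709 (flp_d L805892) q27537, e3 q28710 (flp_d L805902) q27539, e3 q28711 (flp_d L813822) q29407, e3 q28712 (flp_d L813794) q29405, e3 q28713 (flp_d L811695) q29242, e3 q28714 (flp_d L814103) q29437, e3 q28715 L816565 q29679, e3 q28716 (flp_d L814109) q29438, e3 q28717 L805954 q27548, e3 q28718 L805966 q28718, e3 q28719 L805969 q28719, e3 q28720 (flp_d L805978) q27551, e3 q28721 L805994 q27848, e3 q28722 L805998 q27565, e3 q28723 L806010 q27608, e3 q28724 L806022 q27566, e3 q28725 (flp_d L815264) q29540, e3 q28726 L806034 q27626, e3 q28727 L816629 q29686, e3 q28728 (flp_d L806052) q27562, e3 q28729 (flp_d L806060) q27567, e3 q28730 L806074 q28730, e3 q28731 L806079 q27795, e3 q28732 (flp_d L812080) q29267, e3 q28733 L806107 q27722, e3 q28734 L816677 q29690, e3 q28735 (flp_d L806133) q27579, trivial⟩ (by decide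 +kernel)

theorem ce_d_449 : ∀ r, r < 64 → sm gd (Qf (28736 + r)) = Qf (tab Gen.d (28736 + r)) :=
  edges_tab (sm gd) Qf (tab Gen.d) 28736 [(28736, 27585), (28737, 27776), (28738, 29372), (28739, 27588), (28740, 27645), (28741, 27675), (28742, 29116), (28743, 29195), (28744, 29694), (28745, 27596), (28746, 27889), (28747, 29041), (28748, 29682), (28749, 27606), (28750, 27631), (28751, 27632), (28752, 29643), (28753, 29700), (28754, 27605), (28755, 29044), (28756, 29683), (28757, 27846), (28758, 27768), (28759, 29706), (28760, 27908), (28761, 27919), (28762, 27914), (28763, 27637), (28764, 27621), (28765, 27824), (28766, 27903), (28767, 27904), (28768, 27905), (28769, 29336), (28770, 29714), (28771, 27623), (28772, 29709), (28773, 29676), (28774, 27911), (28775, 27894), (28776, 29718), (28777, 27629), (28778, 29697), (28779, 29698), (28780, 27834), (28781, 27926), (28782, 27849), (28783, 29721), (28784, 27640), (28785, 27670), (28786, 29723), (28787, 27643), (28788, 29692), (28789, 27876), (28790, 29726), (28791, 28791), (28792,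 27651), (28793, 27726), (28794, 27727), (28795, 29144), (28796, 29732), (28797, 27863), (28798, 27799), (28799, 27879)]
    ⟨e3 q28736 L806148 q27585, e3 q28737 L806170 q27776, e3 q28738 (flp_d L813448) q29372, e3 q28739 L806182 q27588, e3 q28740 L806200 q27645, e3 q28741 L806206 q27675, e3 q28742 (flp_d L809934) q29116, e3 q28743 (flp_d L811001) q29195, e3 q28744 L816723 q29694, e3 q28745 (flp_d L806234) q27596, e3 q28746 L806249 q27889, e3 q28747 (flp_d L808834) q29041, e3 q28748 (flp_d L816597) q29682, e3 q28749 L806275 q27606, e3 q28750 L806295 q27631, e3 q28751 L806303 q27632, e3 q28752 (flp_d L816264) q29643, e3 q28753 L816785 q29700, e3 q28754 (flp_d L806321) q27605, e3 q28755 (flp_d L808884) q29044, e3 q28756 (flp_d L816601) q29683, e3 q28757 L806348 q27846, e3 q28758 L806354 q27768, e3 q28759 L816838 q29706, e3 q28760 L806374 q27908, e3 q28761 L806394 q27919, e3 q28762 L806402 q27914, e3 q28763 L806412 q27637, e3 q28764 L806420 q27621, e3 q28765 L806438 q27824, e3 q28766 L806448 q27903, e3 q28767 L806454 q27904,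 e3 q28768 L806464 q27905, e3 q28769 (flp_d L813060) q29336, e3 q28770 L816923 q29714, e3 q28771 (flp_d L806484) q27623, e3 q28772 (flp_d L816879) q29709, e3 q28773 (flp_d L816543) q29676, e3 q28774 L806512 q27911, e3 q28775 L806518 q27894, e3 q28776 L816959 q29718, e3 q28777 (flp_d L806536) q27629, e3 q28778 (flp_d L816765) q29697, e3 q28779 (flp_d L816771) q29698, e3 q28780 L806569 q27834, e3 q28781 L806577 q27926, e3 q28782 L806583 q27849, e3 q28783 L816989 q29721, e3 q28784 (flp_d L806603) q27640, e3 q28785 L806617 q27670, e3 q28786 L817009 q29723, e3 q28787 (flp_d L806633) q27643, e3 q28788 (flp_d L816713) q29692, e3 q28789 L806650 q27876, e3 q28790 L817033 q29726, e3 q28791 L806666 q28791, e3 q28792 L806671 q27651, e3 q28793 L806685 q27726, e3 q28794 L806691 q27727, e3 q28795 (flp_d L810353) q29144, e3 q28796 L817086 q29732, e3 q28797 L806717 q27863, e3 q28798 L806735 q27799, e3 q28799 L806739 q27879, trivial⟩ (by decide +kernel)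

theorem ce_d_450 : ∀ r, r < 64 → sm gd (Qf (28800 + r)) = Qf (tab Gen.d (28800 + r)) :=
  edges_tab (sm gd) Qf (tab Gen.d) 28800 [(28800, 29736), (28801, 27881), (28802, 29738), (28803, 27659), (28804, 29236), (28805, 29565), (28806, 29740), (28807, 27663), (28808, 27871), (28809, 29124), (28810, 27864), (28811, 29120), (28812, 29742), (28813, 27669), (28814, 29743), (28815, 27671), (28816, 27682), (28817, 29746), (28818, 27677), (28819, 29554), (28820, 27728), (28821, 27729), (28822, 29749), (28823, 27683), (28824, 29371), (28825, 27900), (28826, 29669), (28827, 27800), (28828, 27777), (28829, 29756), (28830, 27779), (28831, 29758), (28832, 27692), (28833, 29033), (28834, 29089), (28835, 29090), (28836, 27737), (28837, 29092), (28838, 29093), (28839, 29094), (28840, 29451), (28841, 29237), (28842, 29238), (28843, 27909), (28844, 29097), (28845, 29460), (28846, 29767), (28847, 27709), (28848, 29288), (28849, 29404), (28850, 29406), (28851, 27910), (28852, 29670), (28853, 27838), (28854, 29770), (28855, 27719), (28856, 29117),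 (28857, 29772), (28858, 27721), (28859, 29773), (28860, 27723), (28861, 29728), (28862, 29729), (28863, 29748)]
    ⟨e3 q28800 L817127 q29736, e3 q28801 L806761 q27881, e3 q28802 L817144 q29738, e3 q28803 (flp_d L806777) q27659, e3 q28804 (flp_d L811597) q29236, e3 q28805 (flp_d L815470) q29565, e3 q28806 L817160 q29740, e3 q28807 (flp_d L806806) q27663, e3 q28808 L806813 q27871, e3 q28809 (flp_d L810072) q29124, e3 q28810 L806835 q27864, e3 q28811 (flp_d L809993) q29120, e3 q28812 L817172 q29742, e3 q28813 (flp_d L806857) q27669, e3 q28814 L817178 q29743, e3 q28815 (flp_d L806868) q27671, e3 q28816 L806874 q27682, e3 q28817 L817189 q29746, e3 q28818 (flp_d L806882) q27677, e3 q28819 (flp_d L815397) q29554, e3 q28820 L806899 q27728, e3 q28821 L806905 q27729, e3 q28822 L817207 q29749, e3 q28823 (flp_d L806913) q27683, e3 q28824 (flp_d L813424) q29371, e3 q28825 L806924 q27900, e3 q28826 (flp_d L816477) q29669, e3 q28827 L806950 q27800, e3 q28828 L806954 q27777, e3 q28829 L817255 q29756, e3 q28830 L806976 q27779, e3 q28831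 L817272 q29758, e3 q28832 (flp_d L806992) q27692, e3 q28833 (flp_d L808711) q29033, e3 q28834 (flp_d L809532) q29089, e3 q28835 (flp_d L809540) q29090, e3 q28836 L807023 q27737, e3 q28837 (flp_d L809576) q29092, e3 q28838 (flp_d L809584) q29093, e3 q28839 (flp_d L809596) q29094, e3 q28840 (flp_d L814274) q29451, e3 q28841 (flp_d L811607) q29237, e3 q28842 (flp_d L811623) q29238, e3 q28843 L807071 q27909, e3 q28844 (flp_d L809638) q29097, e3 q28845 (flp_d L814380) q29460, e3 q28846 L817340 q29767, e3 q28847 (flp_d L807107) q27709, e3 q28848 (flp_d L812391) q29288, e3 q28849 (flp_d L813788) q29404, e3 q28850 (flp_d L813814) q29406, e3 q28851 L807136 q27910, e3 q28852 (flp_d L816489) q29670, e3 q28853 L807154 q27838, e3 q28854 L817362 q29770, e3 q28855 (flp_d L807172) q27719, e3 q28856 (flp_d L809942) q29117, e3 q28857 L817376 q29772, e3 q28858 (flp_d L807193) q27721, e3 q28859 L817382 q29773, e3 q28860 (flp_d L807204) q27723, e3 q28861 (flp_d L817056) q29728, e3 q28862 (flp_d L817062) q29729, e3 q28863 (flp_d L817205) q29748,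 trivial⟩ (by decide +kernel)

theorem ce_d_451 : ∀ r, r < 64 → sm gd (Qf (28864 + r)) = Qf (tab Gen.d (28864 + r)) :=
  edges_tab (sm gd) Qf (tab Gen.d) 28864 [(28864, 27736), (28865, 29111), (28866, 29115), (28867, 27773), (28868, 27774), (28869, 29107), (28870, 29780), (28871, 28871), (28872, 29441), (28873, 29783), (28874, 27746), (28875, 29217), (28876, 27782), (28877, 27783), (28878, 27812), (28879, 29788), (28880, 28880), (28881, 27831), (28882, 29791), (28883, 27754), (28884, 29701), (28885, 27825), (28886, 29296), (28887, 29297), (28888, 29468), (28889, 29469), (28890, 29004), (28891, 28997), (28892, 27803), (28893, 27804), (28894, 29704), (28895, 29799), (28896, 27769), (28897, 29408), (28898, 29777), (28899, 29691), (28900, 29754), (28901, 29801), (28902, 27778), (28903, 29802), (28904, 27780), (28905, 29785), (28906, 27796), (28907, 29287), (28908, 29278), (28909, 29006), (28910, 29234), (28911, 29281), (28912, 29733), (28913, 29797), (28914, 29448), (28915, 29609), (28916, 27814), (28917, 29806), (28918, 27810),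 (28919, 29786), (28920, 29808), (28921, 27813), (28922, 29809), (28923, 27815), (28924, 27841), (28925, 29178), (28926, 29399), (28927, 29813)]
    ⟨e3 q28864 L807228 q27736, e3 q28865 (flp_d L809847) q29111, e3 q28866 (flp_d L809914) q29115, e3 q28867 L807250 q27773, e3 q28868 L807256 q27774, e3 q28869 (flp_d L809773) q29107, e3 q28870 L817427 q29780, e3 q28871 L807278 q28871, e3 q28872 (flp_d L814146) q29441, e3 q28873 L817448 q29783, e3 q28874 (flp_d L807293) q27746, e3 q28875 (flp_d L811303) q29217, e3 q28876 L807310 q27782, e3 q28877 L807316 q27783, e3 q28878 L807322 q27812, e3 q28879 L817486 q29788, e3 q28880 L807340 q28880, e3 q28881 L807347 q27831, e3 q28882 L817509 q29791, e3 q28883 (flp_d L807359) q27754, e3 q28884 (flp_d L816798) q29701, e3 q28885 L807378 q27825, e3 q28886 (flp_d L812521) q29296, e3 q28887 (flp_d L812529) q29297, e3 q28888 (flp_d L814485) q29468, e3 q28889 (flp_d L814493) q29469, e3 q28890 (flp_d L808284) q29004, e3 q28891 (flp_d L808158) q28997, e3 q28892 L807424 q27803, e3 q28893 L807430 q27804,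 e3 q28894 (flp_d L816820) q29704, e3 q28895 L817569 q29799, e3 q28896 (flp_d L807450) q27769, e3 q28897 (flp_d L813842) q29408, e3 q28898 (flp_d L817407) q29777, e3 q28899 (flp_d L816701) q29691, e3 q28900 (flp_d L817235) q29754, e3 q28901 L817583 q29801, e3 q28902 (flp_d L807493) q27778, e3 q28903 L817589 q29802, e3 q28904 (flp_d L807504) q27780, e3 q28905 (flp_d L817464) q29785, e3 q28906 L807520 q27796, e3 q28907 (flp_d L812385) q29287, e3 q28908 (flp_d L812239) q29278, e3 q28909 (flp_d L808322) q29006, e3 q28910 (flp_d L811567) q29234, e3 q28911 (flp_d L812291) q29281, e3 q28912 (flp_d L817103) q29733, e3 q28913 (flp_d L817557) q29797, e3 q28914 (flp_d L814223) q29448, e3 q28915 (flp_d L815956) q29609, e3 q28916 L807580 q27814, e3 q28917 L817608 q29806, e3 q28918 (flp_d L807588) q27810, e3 q28919 (flp_d L817470) q29786, e3 q28920 L817626 q29808, e3 q28921 (flp_d L807615) q27813, e3 q28922 L817634 q29809, e3 q28923 (flp_d L807628) q27815, e3 q28924 L807638 q27841, e3 q28925 (flp_d L810765) q29178, e3 q28926 (flp_d L813719)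 q29399, e3 q28927 L817661 q29813, trivial⟩ (by decide +kernel)

theorem ce_d_452 : ∀ r, r < 64 → sm gd (Qf (28928 + r)) = Qf (tab Gen.d (28928 + r)) :=
  edges_tab (sm gd) Qf (tab Gen.d) 28928 [(28928, 27821), (28929, 29710), (28930, 29604), (28931, 29815), (28932, 27827), (28933, 29193), (28934, 29816), (28935, 27832), (28936, 29279), (28937, 29818), (28938, 27839), (28939, 29583), (28940, 29703), (28941, 29572), (28942, 29633), (28943, 29822), (28944, 27850), (28945, 27884), (28946, 29185), (28947, 29226), (28948, 27860), (28949, 29825), (28950, 27858), (28951, 29826), (28952, 27861), (28953, 27870), (28954, 29456), (28955, 29519), (28956, 29830), (28957, 27869), (28958, 29832), (28959, 27872), (28960, 29831), (28961, 29034), (28962, 29837), (28963, 28963), (28964, 29724), (28965, 29839), (28966, 27877), (28967, 29734), (28968, 29841), (28969, 27880), (28970, 29842), (28971, 27882), (28972, 27890), (28973, 27921), (28974, 29123), (28975, 29845), (28976, 27892), (28977, 29847), (28978, 27895), (28979, 27897), (28980, 29750),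 (28981, 29286), (28982, 29852), (28983, 27901), (28984, 29711), (28985, 29712), (28986, 29477), (28987, 29716), (28988, 27912), (28989, 29708), (28990, 29142), (28991, 29013)]
    ⟨e3 q28928 (flp_d L807668) q27821, e3 q28929 (flp_d L816895) q29710, e3 q28930 (flp_d L815915) q29604, e3 q28931 L817679 q29815, e3 q28932 (flp_d L807701) q27827, e3 q28933 (flp_d L810975) q29193, e3 q28934 L817685 q29816, e3 q28935 (flp_d L807720) q27832, e3 q28936 (flp_d L812257) q29279, e3 q28937 L817692 q29818, e3 q28938 (flp_d L807736) q27839, e3 q28939 (flp_d L815672) q29583, e3 q28940 (flp_d L816814) q29703, e3 q28941 (flp_d L815556) q29572, e3 q28942 (flp_d L816184) q29633, e3 q28943 L817719 q29822, e3 q28944 (flp_d L807776) q27850, e3 q28945 L807782 q27884, e3 q28946 (flp_d L810858) q29185, e3 q28947 (flp_d L811439) q29226, e3 q28948 L807800 q27860, e3 q28949 L817735 q29825, e3 q28950 (flp_d L807812) q27858, e3 q28951 L817743 q29826, e3 q28952 (flp_d L807825) q27861, e3 q28953 L807833 q27870, e3 q28954 (flp_d L814328) q29456, e3 q28955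 (flp_d L815047) q29519, e3 q28956 L817766 q29830, e3 q28957 (flp_d L807855) q27869, e3 q28958 L817777 q29832, e3 q28959 (flp_d L807866) q27872, e3 q28960 (flp_d L817775) q29831, e3 q28961 (flp_d L808729) q29034, e3 q28962 L817817 q29837, e3 q28963 L807900 q28963, e3 q28964 (flp_d L817019) q29724, e3 q28965 L817832 q29839, e3 q28966 (flp_d L807919) q27877, e3 q28967 (flp_d L817107) q29734, e3 q28968 L817846 q29841, e3 q28969 (flp_d L807940) q27880, e3 q28970 L817852 q29842, e3 q28971 (flp_d L807951) q27882, e3 q28972 L807957 q27890, e3 q28973 L807971 q27921, e3 q28974 (flp_d L810054) q29123, e3 q28975 L817869 q29845, e3 q28976 (flp_d L807985) q27892, e3 q28977 L817880 q29847, e3 q28978 (flp_d L807997) q27895, e3 q28979 (flp_d L808003) q27897, e3 q28980 (flp_d L817214) q29750, e3 q28981 L812373 q29286, e3 q28982 L817904 q29852, e3 q28983 (flp_d L808026) q27901, e3 q28984 (flp_d L816903) q29711, e3 q28985 (flp_d L816911) q29712, e3 q28986 (flp_d L814585) q29477, e3 q28987 (flp_d L816945) q29716, e3 q28988 (flp_d L808072) q27912,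 e3 q28989 (flp_d L816867) q29708, e3 q28990 (flp_d L810335) q29142, e3 q28991 (flp_d L808424) q29013, trivial⟩ (by decide +kernel)

theorem ce_d_453 : ∀ r, r < 64 → sm gd (Qf (28992 + r)) = Qf (tab Gen.d (28992 + r)) :=
  edges_tab (sm gd) Qf (tab Gen.d) 28992 [(28992, 29141), (28993, 29707), (28994, 29844), (28995, 27922), (28996, 28422), (28997, 28891), (28998, 28361), (28999, 27934), (29000, 29858), (29001, 27935), (29002, 28037), (29003, 27938), (29004, 28890), (29005, 28288), (29006, 28909), (29007, 27946), (29008, 28421), (29009, 28201), (29010, 28202), (29011, 28678), (29012, 29866), (29013, 28991), (29014, 28004), (29015, 29869), (29016, 27957), (29017, 27956), (29018, 29872), (29019, 29871), (29020, 27983), (29021, 29875), (29022, 29022), (29023, 27966), (29024, 29880), (29025, 29025), (29026, 27968), (29027, 28107), (29028, 28108), (29029, 27965), (29030, 29878), (29031, 29887), (29032, 27967), (29033, 28833), (29034, 28961), (29035, 29891), (29036, 29036), (29037, 27980), (29038, 28123), (29039, 28124), (29040,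 27975), (29041, 28747), (29042, 29899), (29043, 27993), (29044, 28755), (29045, 29902), (29046, 27979), (29047, 28549), (29048, 29906), (29049, 29049), (29050, 29873), (29051, 29909), (29052, 27984), (29053, 29911), (29054, 28143), (29055, 28144)]
    ⟨e3 q28992 (flp_d L810327) q29141, e3 q28993 (flp_d L816861) q29707, e3 q28994 (flp_d L817867) q29844, e3 q28995 (flp_d L808118) q27922, e3 q28996 L808130 q28422, e3 q28997 L808158 q28891, e3 q28998 L808166 q28361, e3 q28999 L808186 q27934, e3 q29000 L817962 q29858, e3 q29001 (flp_d L808218) q27935, e3 q29002 L808248 q28037, e3 q29003 L808256 q27938, e3 q29004 L808284 q28890, e3 q29005 L808290 q28288, e3 q29006 L808322 q28909, e3 q29007 (flp_d L808326) q27946, e3 q29008 L808354 q28421, e3 q29009 L808370 q28201, e3 q29010 L808378 q28202, e3 q29011 L808390 q28678, e3 q29012 L818100 q29866, e3 q29013 L808424 q28991, e3 q29014 L808440 q28004, e3 q29015 L818147 q29869, e3 q29016 L808474 q27957, e3 q29017 (flp_d L808484) q27956, e3 q29018 (flp_d L818201) q29872, e3 q29019 (flp_d L818183)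 q29871, e3 q29020 L808534 q27983, e3 q29021 L818245 q29875, e3 q29022 L808568 q29022, e3 q29023 L808579 q27966, e3 q29024 L818323 q29880, e3 q29025 L808613 q29025, e3 q29026 L808624 q27968, e3 q29027 L808644 q28107, e3 q29028 L808652 q28108, e3 q29029 L808662 q27965, e3 q29030 (flp_d L818295) q29878, e3 q29031 L818419 q29887, e3 q29032 (flp_d L808696) q27967, e3 q29033 L808711 q28833, e3 q29034 L808729 q28961, e3 q29035 L818472 q29891, e3 q29036 L808763 q29036, e3 q29037 L808776 q27980, e3 q29038 L808800 q28123, e3 q29039 L808808 q28124, e3 q29040 L808822 q27975, e3 q29041 L808834 q28747, e3 q29042 L818600 q29899, e3 q29043 L808868 q27993, e3 q29044 L808884 q28755, e3 q29045 L818648 q29902, e3 q29046 (flp_d L808906) q27979, e3 q29047 L808922 q28549, e3 q29048 L818708 q29906, e3 q29049 L808956 q29049, e3 q29050 (flp_d L818217) q29873, e3 q29051 L818751 q29909, e3 q29052 (flp_d L808989) q27984, e3 q29053 (flp_d L818776) q29911, e3 q29054 L809022 q28143, e3 q29055 L809030 q28144, trivial⟩ (by decide +kernel)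

theorem ce_d_454 : ∀ r, r < 64 → sm gd (Qf (29056 + r)) = Qf (tab Gen.d (29056 + r)) :=
  edges_tab (sm gd) Qf (tab Gen.d) 29056 [(29056, 29913), (29057, 27990), (29058, 29888), (29059, 27992), (29060, 29060), (29061, 29061), (29062, 28007), (29063, 29918), (29064, 27998), (29065, 28559), (29066, 28039), (29067, 28167), (29068, 28168), (29069, 28169), (29070, 29867), (29071, 29924), (29072, 28005), (29073, 28664), (29074, 29926), (29075, 28008), (29076, 28135), (29077, 28374), (29078, 28622), (29079, 28376), (29080, 28435), (29081, 28115), (29082, 29932), (29083, 29083), (29084, 28159), (29085, 29935), (29086, 28019), (29087, 29937), (29088, 28117), (29089, 28834), (29090, 28835), (29091, 28043), (29092, 28837), (29093, 28838), (29094, 28839), (29095, 29944), (29096, 28029), (29097, 28844), (29098, 29938), (29099, 28194), (29100, 28195), (29101, 28035), (29102, 29859), (29103, 29860), (29104, 29104), (29105, 28456), (29106, 28049), (29107, 28869), (29108, 29954), (29109, 29951), (29110, 28052), (29111, 28865), (29112, 28452),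 (29113, 29957), (29114, 28054), (29115, 28866), (29116, 28742), (29117, 28856), (29118, 29959), (29119, 28060)]
    ⟨e3 q29056 L818800 q29913, e3 q29057 (flp_d L809052) q27990, e3 q29058 (flp_d L818438) q29888, e3 q29059 (flp_d L809078) q27992, e3 q29060 L809106 q29060, e3 q29061 L809115 q29061, e3 q29062 L809130 q28007, e3 q29063 L818875 q29918, e3 q29064 (flp_d L809154) q27998, e3 q29065 L809176 q28559, e3 q29066 L809192 q28039, e3 q29067 L809216 q28167, e3 q29068 L809224 q28168, e3 q29069 L809236 q28169, e3 q29070 (flp_d L818119) q29867, e3 q29071 L818965 q29924, e3 q29072 (flp_d L809270) q28005, e3 q29073 L809290 q28664, e3 q29074 L818995 q29926, e3 q29075 (flp_d L809314) q28008, e3 q29076 L809328 q28135, e3 q29077 L809356 q28374, e3 q29078 L809364 q28622, e3 q29079 L809388 q28376, e3 q29080 L809406 q28435, e3 q29081 L809412 q28115, e3 q29082 L819095 q29932, e3 q29083 L809446 q29083, e3 q29084 L809461 q28159, e3 q29085 L819138 q29935, e3 q29086 (flp_d L809485) q28019, e3 q29087 (flp_d L819167) q29937, e3 q29088 L809512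 q28117, e3 q29089 L809532 q28834, e3 q29090 L809540 q28835, e3 q29091 L809552 q28043, e3 q29092 L809576 q28837, e3 q29093 L809584 q28838, e3 q29094 L809596 q28839, e3 q29095 L819266 q29944, e3 q29096 (flp_d L809618) q28029, e3 q29097 L809638 q28844, e3 q29098 (flp_d L819190) q29938, e3 q29099 L809668 q28194, e3 q29100 L809676 q28195, e3 q29101 (flp_d L809686) q28035, e3 q29102 (flp_d L817994) q29859, e3 q29103 (flp_d L818002) q29860, e3 q29104 L809724 q29104, e3 q29105 L809739 q28456, e3 q29106 L809757 q28049, e3 q29107 L809773 q28869, e3 q29108 L819420 q29954, e3 q29109 (flp_d L819372) q29951, e3 q29110 L809823 q28052, e3 q29111 L809847 q28865, e3 q29112 L809855 q28452, e3 q29113 L819473 q29957, e3 q29114 (flp_d L809885) q28054, e3 q29115 L809914 q28866, e3 q29116 L809934 q28742, e3 q29117 L809942 q28856, e3 q29118 L819507 q29959, e3 q29119 (flp_d L809972) q28060, trivial⟩ (by decide +kernel)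

theorem ce_d_455 : ∀ r, r < 64 → sm gd (Qf (29120 + r)) = Qf (tab Gen.d (29120 + r)) :=
  edges_tab (sm gd) Qf (tab Gen.d) 29120 [(29120, 28811), (29121, 29961), (29122, 28064), (29123, 28974), (29124, 28809), (29125, 28681), (29126, 29963), (29127, 28070), (29128, 28623), (29129, 28165), (29130, 28185), (29131, 28533), (29132, 29920), (29133, 28080), (29134, 28120), (29135, 29971), (29136, 29136), (29137, 28091), (29138, 29976), (29139, 29139), (29140, 28093), (29141, 28992), (29142, 28990), (29143, 28088), (29144, 28795), (29145, 29984), (29146, 29146), (29147, 29974), (29148, 29987), (29149, 28092), (29150, 28542), (29151, 29896), (29152, 28552), (29153, 29992), (29154, 28097), (29155, 29981), (29156, 29156), (29157, 28138), (29158, 29996), (29159, 28101), (29160, 29998), (29161, 28110), (29162, 30000), (29163, 28104), (29164, 30002), (29165, 29883), (29166, 29884), (29167, 29885), (29168, 30006), (29169, 28111), (29170, 28151), (29171, 28519), (29172, 30012), (29173, 29173), (29174, 29930), (29175, 30015), (29176, 28116),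 (29177, 28585), (29178, 28925), (29179, 29969), (29180, 30019), (29181, 28121), (29182, 29894), (29183, 29895)]
    ⟨e3 q29120 L809993 q28811, e3 q29121 L819541 q29961, e3 q29122 (flp_d L810023) q28064, e3 q29123 L810054 q28974, e3 q29124 L810072 q28809, e3 q29125 L810078 q28681, e3 q29126 L819571 q29963, e3 q29127 (flp_d L810102) q28070, e3 q29128 L810119 q28623, e3 q29129 L810147 q28165, e3 q29130 L810165 q28185, e3 q29131 L810171 q28533, e3 q29132 (flp_d L818913) q29920, e3 q29133 L810205 q28080, e3 q29134 L810217 q28120, e3 q29135 L819696 q29971, e3 q29136 L810251 q29136, e3 q29137 L810262 q28091, e3 q29138 L819774 q29976, e3 q29139 L810296 q29139, e3 q29140 L810307 q28093, e3 q29141 L810327 q28992, e3 q29142 L810335 q28990, e3 q29143 L810345 q28088, e3 q29144 L810353 q28795, e3 q29145 L819888 q29984, e3 q29146 L810387 q29146, e3 q29147 (flp_d L819746) q29974, e3 q29148 L819933 q29987, e3 q29149 (flp_d L810424) q28092, e3 q29150 L810435 q28542, e3 q29151 (flp_d L818558) q29896, e3 q29152 L810467 q28552, e3 q29153 L819998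 q29992, e3 q29154 (flp_d L810483) q28097, e3 q29155 (flp_d L819850) q29981, e3 q29156 L810511 q29156, e3 q29157 L810514 q28138, e3 q29158 L820040 q29996, e3 q29159 (flp_d L810534) q28101, e3 q29160 (flp_d L820065) q29998, e3 q29161 L810559 q28110, e3 q29162 L820079 q30000, e3 q29163 (flp_d L810577) q28104, e3 q29164 (flp_d L820104) q30002, e3 q29165 (flp_d L818379) q29883, e3 q29166 (flp_d L818385) q29884, e3 q29167 (flp_d L818397) q29885, e3 q29168 L820141 q30006, e3 q29169 (flp_d L810638) q28111, e3 q29170 L810653 q28151, e3 q29171 L810657 q28519, e3 q29172 L820213 q30012, e3 q29173 L810691 q29173, e3 q29174 (flp_d L819067) q29930, e3 q29175 L820256 q30015, e3 q29176 (flp_d L810728) q28116, e3 q29177 L810741 q28585, e3 q29178 L810765 q28925, e3 q29179 (flp_d L819668) q29969, e3 q29180 L820309 q30019, e3 q29181 (flp_d L810797) q28121, e3 q29182 (flp_d L818536) q29894, e3 q29183 (flp_d L818544) q29895, trivial⟩ (by decide +kernel)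

theorem ce_d_456 : ∀ r, r < 64 → sm gd (Qf (29184 + r)) = Qf (tab Gen.d (29184 + r)) :=
  edges_tab (sm gd) Qf (tab Gen.d) 29184 [(29184, 28524), (29185, 28946), (29186, 28668), (29187, 30023), (29188, 28129), (29189, 29988), (29190, 28582), (29191, 30026), (29192, 28132), (29193, 28933), (29194, 29927), (29195, 28743), (29196, 30028), (29197, 28137), (29198, 30029), (29199, 28139), (29200, 30032), (29201, 28141), (29202, 29912), (29203, 28597), (29204, 28640), (29205, 28674), (29206, 28149), (29207, 30008), (29208, 30009), (29209, 28503), (29210, 30039), (29211, 28521), (29212, 30041), (29213, 28157), (29214, 30043), (29215, 30045), (29216, 28160), (29217, 28875), (29218, 28638), (29219, 28197), (29220, 29965), (29221, 28457), (29222, 29921), (29223, 29922), (29224, 28505), (29225, 28460), (29226, 28947), (29227, 28667), (29228, 28175), (29229, 28666), (29230, 28532), (29231, 28198), (29232, 28431), (29233, 28465), (29234, 28910), (29235, 28458), (29236, 28804), (29237, 28841), (29238, 28842), (29239, 28196), (29240, 29948),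 (29241, 30049), (29242, 28713), (29243, 29862), (29244, 29863), (29245, 28367), (29246, 28239), (29247, 28211)]
    ⟨e3 q29184 L810836 q28524, e3 q29185 L810858 q28946, e3 q29186 L810866 q28668, e3 q29187 L820363 q30023, e3 q29188 (flp_d L810884) q28129, e3 q29189 (flp_d L819952) q29988, e3 q29190 L810916 q28582, e3 q29191 L820411 q30026, e3 q29192 (flp_d L810946) q28132, e3 q29193 L810975 q28933, e3 q29194 (flp_d L819013) q29927, e3 q29195 L811001 q28743, e3 q29196 L820445 q30028, e3 q29197 (flp_d L811031) q28137, e3 q29198 L820461 q30029, e3 q29199 (flp_d L811056) q28139, e3 q29200 (flp_d L820494) q30032, e3 q29201 L811083 q28141, e3 q29202 (flp_d L818792) q29912, e3 q29203 L811109 q28597, e3 q29204 L811137 q28640, e3 q29205 L811155 q28674, e3 q29206 (flp_d L811159) q28149, e3 q29207 (flp_d L820164) q30008, e3 q29208 (flp_d L820171) q30009, e3 q29209 L811199 q28503, e3 q29210 L820595 q30039, e3 q29211 L811233 q28521, e3 q29212 L820624 q30041, e3 q29213 (flp_d L811253) q28157, e3 q29214 (flp_d L820651) q30043, e3 q29215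 L820676 q30045, e3 q29216 (flp_d L811288) q28160, e3 q29217 L811303 q28875, e3 q29218 L811309 q28638, e3 q29219 L811337 q28197, e3 q29220 (flp_d L819614) q29965, e3 q29221 L811357 q28457, e3 q29222 (flp_d L818931) q29921, e3 q29223 (flp_d L818943) q29922, e3 q29224 L811397 q28505, e3 q29225 L811423 q28460, e3 q29226 L811439 q28947, e3 q29227 L811447 q28667, e3 q29228 (flp_d L811453) q28175, e3 q29229 L811483 q28666, e3 q29230 L811489 q28532, e3 q29231 L811515 q28198, e3 q29232 L811523 q28431, e3 q29233 L811551 q28465, e3 q29234 L811567 q28910, e3 q29235 L811577 q28458, e3 q29236 L811597 q28804, e3 q29237 L811607 q28841, e3 q29238 L811623 q28842, e3 q29239 L811639 q28196, e3 q29240 (flp_d L819336) q29948, e3 q29241 (flp_d L820728) q30049, e3 q29242 L811695 q28713, e3 q29243 (flp_d L818048) q29862, e3 q29244 (flp_d L818056) q29863, e3 q29245 L811721 q28367, e3 q29246 L811741 q28239, e3 q29247 L811761 q28211, trivial⟩ (by decide +kernel)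

theorem ce_d_457 : ∀ r, r < 64 → sm gd (Qf (29248 + r)) = Qf (tab Gen.d (29248 + r)) :=
  edges_tab (sm gd) Qf (tab Gen.d) 29248 [(29248, 28282), (29249, 28228), (29250, 28341), (29251, 28249), (29252, 28300), (29253, 28379), (29254, 28231), (29255, 30062), (29256, 29256), (29257, 28225), (29258, 30066), (29259, 29259), (29260, 28227), (29261, 28328), (29262, 28329), (29263, 30064), (29264, 30071), (29265, 28226), (29266, 28335), (29267, 28732), (29268, 30060), (29269, 30074), (29270, 28232), (29271, 30076), (29272, 28359), (29273, 28360), (29274, 28254), (29275, 28368), (29276, 30079), (29277, 28240), (29278, 28908), (29279, 28936), (29280, 28420), (29281, 28911), (29282, 28251), (29283, 28641), (29284, 28292), (29285, 28466), (29286, 28981), (29287, 28907), (29288, 28848), (29289, 28277), (29290, 30084), (29291, 29291), (29292, 28270), (29293, 30089), (29294, 29294), (29295, 28272), (29296, 28886), (29297, 28887), (29298, 28269), (29299, 30087), (29300, 30096), (29301, 28271), (29302, 28274), (29303, 28291), (29304, 28418),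 (29305, 30082), (29306, 30100), (29307, 28278), (29308, 30102), (29309, 28284), (29310, 30058), (29311, 28343)]
    ⟨e3 q29248 L811785 q28282, e3 q29249 L811793 q28228, e3 q29250 L811821 q28341, e3 q29251 L811829 q28249, e3 q29252 L811859 q28300, e3 q29253 L811877 q28379, e3 q29254 L811883 q28231, e3 q29255 L820942 q30062, e3 q29256 L811917 q29256, e3 q29257 L811930 q28225, e3 q29258 L821005 q30066, e3 q29259 L811964 q29259, e3 q29260 L811977 q28227, e3 q29261 L811993 q28328, e3 q29262 L812001 q28329, e3 q29263 (flp_d L820977) q30064, e3 q29264 L821078 q30071, e3 q29265 (flp_d L812035) q28226, e3 q29266 L812052 q28335, e3 q29267 L812080 q28732, e3 q29268 (flp_d L820914) q30060, e3 q29269 L821124 q30074, e3 q29270 (flp_d L812112) q28232, e3 q29271 (flp_d L821157) q30076, e3 q29272 L812147 q28359, e3 q29273 L812155 q28360, e3 q29274 L812169 q28254, e3 q29275 L812197 q28368, e3 q29276 L821207 q30079, e3 q29277 (flp_d L812209) q28240, e3 q29278 L812239 q28908, e3 q29279 L812257 q28936, e3 q29280 L812269 q28420, e3 q29281 L812291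 q28911, e3 q29282 (flp_d L812295) q28251, e3 q29283 L812313 q28641, e3 q29284 L812331 q28292, e3 q29285 L812345 q28466, e3 q29286 (flp_d L812373) q28981, e3 q29287 L812385 q28907, e3 q29288 L812391 q28848, e3 q29289 L812407 q28277, e3 q29290 L821295 q30084, e3 q29291 L812441 q29291, e3 q29292 L812452 q28270, e3 q29293 L821373 q30089, e3 q29294 L812486 q29294, e3 q29295 L812499 q28272, e3 q29296 L812521 q28886, e3 q29297 L812529 q28887, e3 q29298 L812541 q28269, e3 q29299 (flp_d L821345) q30087, e3 q29300 L821475 q30096, e3 q29301 (flp_d L812577) q28271, e3 q29302 L812592 q28274, e3 q29303 L812610 q28291, e3 q29304 L812634 q28418, e3 q29305 (flp_d L821267) q30082, e3 q29306 L821528 q30100, e3 q29307 (flp_d L812660) q28278, e3 q29308 (flp_d L821555) q30102, e3 q29309 L812687 q28284, e3 q29310 (flp_d L820886) q30058, e3 q29311 L812719 q28343, trivial⟩ (by decide +kernel)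

theorem ce_d_458 : ∀ r, r < 64 → sm gd (Qf (29312 + r)) = Qf (tab Gen.d (29312 + r)) :=
  edges_tab (sm gd) Qf (tab Gen.d) 29312 [(29312, 30104), (29313, 28285), (29314, 30097), (29315, 29315), (29316, 28342), (29317, 30107), (29318, 28293), (29319, 28358), (29320, 30109), (29321, 28297), (29322, 28378), (29323, 30044), (29324, 28380), (29325, 28302), (29326, 28529), (29327, 28530), (29328, 29328), (29329, 28338), (29330, 28311), (29331, 30118), (29332, 28313), (29333, 30116), (29334, 30120), (29335, 28312), (29336, 28769), (29337, 30122), (29338, 28315), (29339, 30124), (29340, 28319), (29341, 28318), (29342, 29342), (29343, 28350), (29344, 28353), (29345, 30129), (29346, 28322), (29347, 30131), (29348, 29348), (29349, 28332), (29350, 30134), (29351, 28325), (29352, 30136), (29353, 29353), (29354, 30068), (29355, 30069), (29356, 28593), (29357, 28331), (29358, 30142), (29359, 28333), (29360, 28365), (29361, 28669), (29362, 30003), (29363, 30115), (29364, 30149), (29365, 28339), (29366, 30059), (29367, 30103), (29368, 28442),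 (29369, 30151), (29370, 28345), (29371, 28824), (29372, 28738), (29373, 28362), (29374, 30127), (29375, 30155)]
    ⟨e3 q29312 L821581 q30104, e3 q29313 (flp_d L812737) q28285, e3 q29314 (flp_d L821496) q30097, e3 q29315 L812773 q29315, e3 q29316 L812788 q28342, e3 q29317 L821629 q30107, e3 q29318 (flp_d L812814) q28293, e3 q29319 L812836 q28358, e3 q29320 L821667 q30109, e3 q29321 (flp_d L812858) q28297, e3 q29322 L812880 q28378, e3 q29323 (flp_d L820674) q30044, e3 q29324 L812910 q28380, e3 q29325 (flp_d L812914) q28302, e3 q29326 L812936 q28529, e3 q29327 L812944 q28530, e3 q29328 L812956 q29328, e3 q29329 L812969 q28338, e3 q29330 L812985 q28311, e3 q29331 L821809 q30118, e3 q29332 L813015 q28313, e3 q29333 (flp_d L821781) q30116, e3 q29334 L821834 q30120, e3 q29335 (flp_d L813049) q28312, e3 q29336 L813060 q28769, e3 q29337 L821852 q30122, e3 q29338 (flp_d L813076) q28315, e3 q29339 (flp_d L821874) q30124, e3 q29340 L813096 q28319, e3 q29341 L813108 q28318, e3 q29342 L813124 q29342, e3 q29343 L813127 q28350, e3 q29344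 L813143 q28353, e3 q29345 L821930 q30129, e3 q29346 (flp_d L813157) q28322, e3 q29347 (flp_d L821947) q30131, e3 q29348 L813172 q29348, e3 q29349 L813179 q28332, e3 q29350 L821965 q30134, e3 q29351 (flp_d L813195) q28325, e3 q29352 (flp_d L821986) q30136, e3 q29353 L813214 q29353, e3 q29354 (flp_d L821050) q30068, e3 q29355 (flp_d L821056) q30069, e3 q29356 L813239 q28593, e3 q29357 L813251 q28331, e3 q29358 L822041 q30142, e3 q29359 (flp_d L813271) q28333, e3 q29360 L813286 q28365, e3 q29361 L813290 q28669, e3 q29362 (flp_d L820119) q30003, e3 q29363 (flp_d L821763) q30115, e3 q29364 L822125 q30149, e3 q29365 (flp_d L813344) q28339, e3 q29366 (flp_d L820906) q30059, e3 q29367 (flp_d L821571) q30103, e3 q29368 L813379 q28442, e3 q29369 L822149 q30151, e3 q29370 (flp_d L813403) q28345, e3 q29371 L813424 q28824, e3 q29372 L813448 q28738, e3 q29373 L813456 q28362, e3 q29374 (flp_d L821908) q30127, e3 q29375 L822207 q30155, trivial⟩ (by decide +kernel)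

theorem ce_d_459 : ∀ r, r < 64 → sm gd (Qf (29376 + r)) = Qf (tab Gen.d (29376 + r)) :=
  edges_tab (sm gd) Qf (tab Gen.d) 29376 [(29376, 28351), (29377, 30157), (29378, 30158), (29379, 28354), (29380, 30161), (29381, 28356), (29382, 30108), (29383, 30077), (29384, 30153), (29385, 28363), (29386, 30144), (29387, 30145), (29388, 30078), (29389, 28643), (29390, 30033), (29391, 28644), (29392, 30168), (29393, 28372), (29394, 28647), (29395, 29928), (29396, 29929), (29397, 30110), (29398, 28438), (29399, 28926), (29400, 30171), (29401, 28384), (29402, 29964), (29403, 28463), (29404, 28849), (29405, 28712), (29406, 28850), (29407, 28711), (29408, 28897), (29409, 28415), (29410, 28423), (29411, 28685), (29412, 30178), (29413, 28398), (29414, 30180), (29415, 30182), (29416, 28401), (29417, 30185), (29418, 28403), (29419, 28419), (29420, 30189), (29421, 28405), (29422, 30191), (29423, 28407), (29424, 30141), (29425, 28409), (29426, 30193), (29427, 28411), (29428, 30196), (29429, 30187), (29430, 28413), (29431, 30176), (29432, 28416),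 (29433, 30098), (29434, 30186), (29435, 30188), (29436, 29861), (29437, 28714), (29438, 28716), (29439, 29439)]
    ⟨e3 q29376 (flp_d L813484) q28351, e3 q29377 (flp_d L822226) q30157, e3 q29378 L822230 q30158, e3 q29379 (flp_d L813507) q28354, e3 q29380 (flp_d L822251) q30161, e3 q29381 L813522 q28356, e3 q29382 (flp_d L821655) q30108, e3 q29383 (flp_d L821177) q30077, e3 q29384 (flp_d L822187) q30153, e3 q29385 (flp_d L813558) q28363, e3 q29386 (flp_d L822066) q30144, e3 q29387 (flp_d L822071) q30145, e3 q29388 (flp_d L821203) q30078, e3 q29389 L813598 q28643, e3 q29390 (flp_d L820513) q30033, e3 q29391 L813630 q28644, e3 q29392 L822322 q30168, e3 q29393 (flp_d L813648) q28372, e3 q29394 L813659 q28647, e3 q29395 (flp_d L819041) q29928, e3 q29396 (flp_d L819059) q29929, e3 q29397 (flp_d L821693) q30110, e3 q29398 L813703 q28438, e3 q29399 L813719 q28926, e3 q29400 L822356 q30171, e3 q29401 (flp_d L813739) q28384, e3 q29402 (flp_d L819596) q29964, e3 q29403 L813768 q28463, e3 q29404 L813788 q28849, e3 q29405 L813794 q28712,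 e3 q29406 L813814 q28850, e3 q29407 L813822 q28711, e3 q29408 L813842 q28897, e3 q29409 L813850 q28415, e3 q29410 L813866 q28423, e3 q29411 L813874 q28685, e3 q29412 L822446 q30178, e3 q29413 (flp_d L813886) q28398, e3 q29414 (flp_d L822465) q30180, e3 q29415 L822474 q30182, e3 q29416 (flp_d L813907) q28401, e3 q29417 (flp_d L822497) q30185, e3 q29418 L813924 q28403, e3 q29419 L813931 q28419, e3 q29420 L822529 q30189, e3 q29421 (flp_d L813941) q28405, e3 q29422 (flp_d L822555) q30191, e3 q29423 L813965 q28407, e3 q29424 (flp_d L822033) q30141, e3 q29425 (flp_d L813981) q28409, e3 q29426 (flp_d L822581) q30193, e3 q29427 L814007 q28411, e3 q29428 (flp_d L822617) q30196, e3 q29429 (flp_d L822516) q30187, e3 q29430 L814043 q28413, e3 q29431 (flp_d L822430) q30176, e3 q29432 (flp_d L814063) q28416, e3 q29433 (flp_d L821512) q30098, e3 q29434 (flp_d L822505) q30186, e3 q29435 (flp_d L822523) q30188, e3 q29436 (flp_d L818030) q29861, e3 q29437 L814103 q28714, e3 q29438 L814109 q28716, e3 q29439 L814125 q29439, trivial⟩ (by decide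 +kernel)

theorem ce_d_460 : ∀ r, r < 64 → sm gd (Qf (29440 + r)) = Qf (tab Gen.d (29440 + r)) :=
  edges_tab (sm gd) Qf (tab Gen.d) 29440 [(29440, 28469), (29441, 28872), (29442, 30202), (29443, 28437), (29444, 28570), (29445, 28571), (29446, 30204), (29447, 28443), (29448, 28914), (29449, 30207), (29450, 28446), (29451, 28840), (29452, 30208), (29453, 28453), (29454, 30050), (29455, 30052), (29456, 28954), (29457, 30055), (29458, 30211), (29459, 28467), (29460, 28845), (29461, 30214), (29462, 28471), (29463, 28480), (29464, 30217), (29465, 28474), (29466, 30219), (29467, 29467), (29468, 28888), (29469, 28889), (29470, 28514), (29471, 30224), (29472, 28481), (29473, 28494), (29474, 28670), (29475, 30228), (29476, 28484), (29477, 28986), (29478, 30230), (29479, 28487), (29480, 30094), (29481, 30233), (29482, 28490), (29483, 30215), (29484, 28492), (29485, 30226), (29486, 29486), (29487, 28500), (29488, 30237), (29489, 28498), (29490, 30238), (29491, 28501), (29492, 30037), (29493, 30241), (29494, 28504), (29495, 28511), (29496,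 30243), (29497, 28507), (29498, 30244), (29499, 28509), (29500, 30245), (29501, 28512), (29502, 30223), (29503, 28515)]
    ⟨e3 q29440 L814140 q28469, e3 q29441 L814146 q28872, e3 q29442 L822673 q30202, e3 q29443 (flp_d L814166) q28437, e3 q29444 L814189 q28570, e3 q29445 L814195 q28571, e3 q29446 L822697 q30204, e3 q29447 (flp_d L814211) q28443, e3 q29448 L814223 q28914, e3 q29449 L822730 q30207, e3 q29450 (flp_d L814249) q28446, e3 q29451 L814274 q28840, e3 q29452 L822744 q30208, e3 q29453 (flp_d L814290) q28453, e3 q29454 (flp_d L820740) q30050, e3 q29455 (flp_d L820782) q30052, e3 q29456 L814328 q28954, e3 q29457 (flp_d L820836) q30055, e3 q29458 L822785 q30211, e3 q29459 (flp_d L814362) q28467, e3 q29460 L814380 q28845, e3 q29461 L822826 q30214, e3 q29462 (flp_d L814402) q28471, e3 q29463 L814417 q28480, e3 q29464 L822861 q30217, e3 q29465 (flp_d L814437) q28474, e3 q29466 (flp_d L822886) q30219, e3 q29467 L814464 q29467, e3 q29468 L814485 q28888, e3 q29469 L814493 q28889, e3 q29470 L814505 q28514, e3 q29471 L822947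 q30224, e3 q29472 (flp_d L814523) q28481, e3 q29473 L814536 q28494, e3 q29474 L814542 q28670, e3 q29475 L822984 q30228, e3 q29476 (flp_d L814568) q28484, e3 q29477 L814585 q28986, e3 q29478 L823008 q30230, e3 q29479 (flp_d L814601) q28487, e3 q29480 (flp_d L821451) q30094, e3 q29481 L823036 q30233, e3 q29482 (flp_d L814635) q28490, e3 q29483 (flp_d L822847) q30215, e3 q29484 (flp_d L814659) q28492, e3 q29485 (flp_d L822966) q30226, e3 q29486 L814687 q29486, e3 q29487 L814692 q28500, e3 q29488 L823086 q30237, e3 q29489 (flp_d L814718) q28498, e3 q29490 L823100 q30238, e3 q29491 (flp_d L814741) q28501, e3 q29492 (flp_d L820565) q30037, e3 q29493 L823137 q30241, e3 q29494 (flp_d L814779) q28504, e3 q29495 L814794 q28511, e3 q29496 L823159 q30243, e3 q29497 (flp_d L814812) q28507, e3 q29498 L823169 q30244, e3 q29499 (flp_d L814838) q28509, e3 q29500 L823183 q30245, e3 q29501 (flp_d L814858) q28512, e3 q29502 (flp_d L822939) q30223, e3 q29503 (flp_d L814872) q28515, trivial⟩ (by decide +kernel)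

theorem ce_d_461 : ∀ r, r < 64 → sm gd (Qf (29504 + r)) = Qf (tab Gen.d (29504 + r)) :=
  edges_tab (sm gd) Qf (tab Gen.d) 29504 [(29504, 28518), (29505, 30010), (29506, 30248), (29507, 28520), (29508, 30250), (29509, 28522), (29510, 28527), (29511, 28525), (29512, 30252), (29513, 30113), (29514, 30114), (29515, 29966), (29516, 28539), (29517, 30256), (29518, 28535), (29519, 28955), (29520, 30258), (29521, 28538), (29522, 30260), (29523, 28540), (29524, 28596), (29525, 29989), (29526, 30265), (29527, 28543), (29528, 30267), (29529, 28547), (29530, 28546), (29531, 28603), (29532, 29904), (29533, 30270), (29534, 28550), (29535, 30249), (29536, 30272), (29537, 28553), (29538, 30274), (29539, 28555), (29540, 28725), (29541, 29541), (29542, 28599), (29543, 29919), (29544, 28600), (29545, 28573), (29546, 30279), (29547, 28563), (29548, 30281), (29549, 29549), (29550, 30284), (29551, 28566), (29552, 30287), (29553, 28568), (29554, 28819), (29555, 30137), (29556, 30203), (29557, 28663), (29558, 30291), (29559, 28574), (29560, 28608),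 (29561, 28576), (29562, 30007), (29563, 28611), (29564, 28612), (29565, 28805), (29566, 30300), (29567, 28581)]
    ⟨e3 q29504 L814886 q28518, e3 q29505 (flp_d L820185) q30010, e3 q29506 L823217 q30248, e3 q29507 (flp_d L814926) q28520, e3 q29508 L823238 q30250, e3 q29509 (flp_d L814947) q28522, e3 q29510 L814960 q28527, e3 q29511 (flp_d L814962) q28525, e3 q29512 (flp_d L823257) q30252, e3 q29513 (flp_d L821745) q30113, e3 q29514 (flp_d L821753) q30114, e3 q29515 (flp_d L819622) q29966, e3 q29516 L815010 q28539, e3 q29517 L823289 q30256, e3 q29518 (flp_d L815034) q28535, e3 q29519 L815047 q28955, e3 q29520 L823307 q30258, e3 q29521 (flp_d L815063) q28538, e3 q29522 L823324 q30260, e3 q29523 (flp_d L815078) q28540, e3 q29524 L815091 q28596, e3 q29525 (flp_d L819960) q29989, e3 q29526 L823368 q30265, e3 q29527 (flp_d L815117) q28543, e3 q29528 (flp_d L823394) q30267, e3 q29529 L815143 q28547, e3 q29530 L815157 q28546, e3 q29531 L815169 q28603, e3 q29532 (flp_d L818680) q29904, e3 q29533 L823426 q30270, e3 q29534 (flp_d L815203)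 q28550, e3 q29535 (flp_d L823236) q30249, e3 q29536 L823446 q30272, e3 q29537 (flp_d L815228) q28553, e3 q29538 (flp_d L823466) q30274, e3 q29539 L815246 q28555, e3 q29540 L815264 q28725, e3 q29541 L815276 q29541, e3 q29542 L815281 q28599, e3 q29543 (flp_d L818897) q29919, e3 q29544 L815309 q28600, e3 q29545 L815323 q28573, e3 q29546 L823520 q30279, e3 q29547 (flp_d L815339) q28563, e3 q29548 (flp_d L823541) q30281, e3 q29549 L815358 q29549, e3 q29550 L823566 q30284, e3 q29551 (flp_d L815369) q28566, e3 q29552 (flp_d L823587) q30287, e3 q29553 L815384 q28568, e3 q29554 L815397 q28819, e3 q29555 (flp_d L821999) q30137, e3 q29556 (flp_d L822691) q30203, e3 q29557 L815413 q28663, e3 q29558 L823617 q30291, e3 q29559 (flp_d L815429) q28574, e3 q29560 L815444 q28608, e3 q29561 (flp_d L815446) q28576, e3 q29562 (flp_d L820156) q30007, e3 q29563 L815459 q28611, e3 q29564 L815464 q28612, e3 q29565 L815470 q28805, e3 q29566 L823692 q30300, e3 q29567 (flp_d L815490) q28581, trivial⟩ (by decide +kernel)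

theorem ce_d_462 : ∀ r, r < 64 → sm gd (Qf (29568 + r)) = Qf (tab Gen.d (29568 + r)) :=
  edges_tab (sm gd) Qf (tab Gen.d) 29568 [(29568, 30301), (29569, 28583), (29570, 28629), (29571, 28590), (29572, 28941), (29573, 30305), (29574, 28589), (29575, 30306), (29576, 28591), (29577, 30140), (29578, 30259), (29579, 28594), (29580, 28700), (29581, 30262), (29582, 30263), (29583, 28939), (29584, 30314), (29585, 28604), (29586, 30016), (29587, 28606), (29588, 30293), (29589, 30294), (29590, 28702), (29591, 30296), (29592, 30320), (29593, 30298), (29594, 28649), (29595, 29595), (29596, 28620), (29597, 30322), (29598, 28632), (29599, 30324), (29600, 28625), (29601, 30325), (29602, 28627), (29603, 30303), (29604, 28930), (29605, 30328), (29606, 28633), (29607, 28635), (29608, 30046), (29609, 28915), (29610, 30034), (29611, 30080), (29612, 30334), (29613, 28642), (29614, 30165), (29615, 30335), (29616, 28645), (29617, 28657), (29618, 28658), (29619, 30308), (29620, 30126), (29621, 30341), (29622, 28652), (29623, 30343), (29624, 28654),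 (29625, 30162), (29626, 28655), (29627, 30337), (29628, 30338), (29629, 30349), (29630, 28659), (29631, 28661)]
    ⟨e3 q29568 L823704 q30301, e3 q29569 (flp_d L815509) q28583, e3 q29570 L815530 q28629, e3 q29571 L815538 q28590, e3 q29572 L815556 q28941, e3 q29573 L823747 q30305, e3 q29574 (flp_d L815576) q28589, e3 q29575 L823761 q30306, e3 q29576 (flp_d L815596) q28591, e3 q29577 (flp_d L822021) q30140, e3 q29578 (flp_d L823322) q30259, e3 q29579 (flp_d L815620) q28594, e3 q29580 L815644 q28700, e3 q29581 (flp_d L823343) q30262, e3 q29582 (flp_d L823348) q30263, e3 q29583 L815672 q28939, e3 q29584 L823845 q30314, e3 q29585 (flp_d L815694) q28604, e3 q29586 (flp_d L820273) q30016, e3 q29587 (flp_d L815718) q28606, e3 q29588 (flp_d L823642) q30293, e3 q29589 (flp_d L823647) q30294, e3 q29590 L815768 q28702, e3 q29591 (flp_d L823665) q30296, e3 q29592 L823919 q30320, e3 q29593 (flp_d L823678) q30298, e3 q29594 L815810 q28649, e3 q29595 L815814 q29595, e3 q29596 (flp_d L815821) q28620, e3 q29597 (flp_d L823946) q30322, e3 q29598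 L815846 q28632, e3 q29599 L823964 q30324, e3 q29600 (flp_d L815868) q28625, e3 q29601 L823974 q30325, e3 q29602 (flp_d L815883) q28627, e3 q29603 (flp_d L823731) q30303, e3 q29604 L815915 q28930, e3 q29605 L824007 q30328, e3 q29606 (flp_d L815931) q28633, e3 q29607 (flp_d L815937) q28635, e3 q29608 (flp_d L820691) q30046, e3 q29609 L815956 q28915, e3 q29610 (flp_d L820531) q30034, e3 q29611 (flp_d L821231) q30080, e3 q29612 L824057 q30334, e3 q29613 (flp_d L815990) q28642, e3 q29614 (flp_d L822284) q30165, e3 q29615 L824065 q30335, e3 q29616 (flp_d L816021) q28645, e3 q29617 L816034 q28657, e3 q29618 L816040 q28658, e3 q29619 (flp_d L823789) q30308, e3 q29620 (flp_d L821896) q30126, e3 q29621 L824117 q30341, e3 q29622 (flp_d L816074) q28652, e3 q29623 (flp_d L824141) q30343, e3 q29624 L816098 q28654, e3 q29625 (flp_d L822260) q30162, e3 q29626 (flp_d L816112) q28655, e3 q29627 (flp_d L824084) q30337, e3 q29628 (flp_d L824089) q30338, e3 q29629 L824195 q30349, e3 q29630 (flp_d L816156) q28659, e3 q29631 (flp_d L816166) q28661,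 trivial⟩ (by decide +kernel)

theorem ce_d_463 : ∀ r, r < 64 → sm gd (Qf (29632 + r)) = Qf (tab Gen.d (29632 + r)) :=
  edges_tab (sm gd) Qf (tab Gen.d) 29632 [(29632, 30290), (29633, 28942), (29634, 29925), (29635, 29900), (29636, 30054), (29637, 30053), (29638, 30275), (29639, 30022), (29640, 30146), (29641, 30356), (29642, 28671), (29643, 28752), (29644, 30359), (29645, 28676), (29646, 30220), (29647, 29864), (29648, 30362), (29649, 28679), (29650, 30364), (29651, 30366), (29652, 28682), (29653, 30369), (29654, 28684), (29655, 30370), (29656, 28686), (29657, 29892), (29658, 28688), (29659, 30375), (29660, 30357), (29661, 28690), (29662, 28706), (29663, 28698), (29664, 28707), (29665, 28693), (29666, 28696), (29667, 30379), (29668, 30311), (29669, 28826), (29670, 28852), (29671, 30376), (29672, 30380), (29673, 28708), (29674, 30175), (29675, 30174), (29676, 28773), (29677, 30386), (29678, 30200), (29679, 28715), (29680, 29680), (29681, 29681), (29682, 28748), (29683, 28756), (29684, 30268), (29685, 30390), (29686, 28727),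 (29687, 30282), (29688, 30072), (29689, 30391), (29690, 28734), (29691, 28899), (29692, 28788), (29693, 30393), (29694, 28744), (29695, 29897)]
    ⟨e3 q29632 (flp_d L823613) q30290, e3 q29633 L816184 q28942, e3 q29634 (flp_d L818985) q29925, e3 q29635 (flp_d L818622) q29900, e3 q29636 (flp_d L820818) q30054, e3 q29637 (flp_d L820794) q30053, e3 q29638 (flp_d L823486) q30275, e3 q29639 (flp_d L820357) q30022, e3 q29640 (flp_d L822083) q30146, e3 q29641 L824257 q30356, e3 q29642 (flp_d L816254) q28671, e3 q29643 L816264 q28752, e3 q29644 L824284 q30359, e3 q29645 (flp_d L816282) q28676, e3 q29646 (flp_d L822905) q30220, e3 q29647 (flp_d L818070) q29864, e3 q29648 L824310 q30362, e3 q29649 (flp_d L816319) q28679, e3 q29650 (flp_d L824329) q30364, e3 q29651 L824338 q30366, e3 q29652 (flp_d L816342) q28682, e3 q29653 (flp_d L824361) q30369, e3 q29654 L816359 q28684, e3 q29655 L824365 q30370, e3 q29656 (flp_d L816369) q28686, e3 q29657 (flp_d L818495) q29892, e3 q29658 (flp_d L816378) q28688, e3 q29659 (flp_d L824399) q30375,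 e3 q29660 (flp_d L824272) q30357, e3 q29661 L816401 q28690, e3 q29662 L816411 q28706, e3 q29663 L816422 q28698, e3 q29664 L816427 q28707, e3 q29665 (flp_d L816431) q28693, e3 q29666 L816451 q28696, e3 q29667 (flp_d L824435) q30379, e3 q29668 (flp_d L823821) q30311, e3 q29669 L816477 q28826, e3 q29670 L816489 q28852, e3 q29671 (flp_d L824409) q30376, e3 q29672 (flp_d L824441) q30380, e3 q29673 (flp_d L816511) q28708, e3 q29674 (flp_d L822414) q30175, e3 q29675 (flp_d L822400) q30174, e3 q29676 L816543 q28773, e3 q29677 L824501 q30386, e3 q29678 (flp_d L822657) q30200, e3 q29679 (flp_d L816565) q28715, e3 q29680 L816579 q29680, e3 q29681 L816582 q29681, e3 q29682 L816597 q28748, e3 q29683 L816601 q28756, e3 q29684 (flp_d L823414) q30268, e3 q29685 L824535 q30390, e3 q29686 (flp_d L816629) q28727, e3 q29687 (flp_d L823554) q30282, e3 q29688 (flp_d L821106) q30072, e3 q29689 L824545 q30391, e3 q29690 (flp_d L816677) q28734, e3 q29691 L816701 q28899, e3 q29692 L816713 q28788, e3 q29693 L824572 q30393, e3 q29694 (flp_d L816723)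 q28744, e3 q29695 (flp_d L818572) q29897, trivial⟩ (by decide +kernel)

theorem ce_d_464 : ∀ r, r < 64 → sm gd (Qf (29696 + r)) = Qf (tab Gen.d (29696 + r)) :=
  edges_tab (sm gd) Qf (tab Gen.d) 29696 [(29696, 30388), (29697, 28778), (29698, 28779), (29699, 30397), (29700, 28753), (29701, 28884), (29702, 30353), (29703, 28940), (29704, 28894), (29705, 30403), (29706, 28759), (29707, 28993), (29708, 28989), (29709, 28772), (29710, 28929), (29711, 28984), (29712, 28985), (29713, 30407), (29714, 28770), (29715, 30405), (29716, 28987), (29717, 30409), (29718, 28776), (29719, 30396), (29720, 30411), (29721, 28783), (29722, 30412), (29723, 28786), (29724, 28964), (29725, 30415), (29726, 28790), (29727, 30373), (29728, 28861), (29729, 28862), (29730, 29982), (29731, 30419), (29732, 28796), (29733, 28912), (29734, 28967), (29735, 30421), (29736, 28800), (29737, 30422), (29738, 28802), (29739, 30424), (29740, 28806), (29741, 30426), (29742, 28812), (29743, 28814), (29744, 30425), (29745, 30429), (29746, 28817), (29747, 30288), (29748,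 28863), (29749, 28822), (29750, 28980), (29751, 30152), (29752, 30067), (29753, 30382), (29754, 28900), (29755, 30437), (29756, 28829), (29757, 30438), (29758, 28831), (29759, 29939)]
    ⟨e3 q29696 (flp_d L824517) q30388, e3 q29697 L816765 q28778, e3 q29698 L816771 q28779, e3 q29699 L824611 q30397, e3 q29700 (flp_d L816785) q28753, e3 q29701 L816798 q28884, e3 q29702 (flp_d L824229) q30353, e3 q29703 L816814 q28940, e3 q29704 L816820 q28894, e3 q29705 L824663 q30403, e3 q29706 (flp_d L816838) q28759, e3 q29707 L816861 q28993, e3 q29708 L816867 q28989, e3 q29709 L816879 q28772, e3 q29710 L816895 q28929, e3 q29711 L816903 q28984, e3 q29712 L816911 q28985, e3 q29713 L824703 q30407, e3 q29714 (flp_d L816923) q28770, e3 q29715 (flp_d L824689) q30405, e3 q29716 L816945 q28987, e3 q29717 L824719 q30409, e3 q29718 (flp_d L816959) q28776, e3 q29719 (flp_d L824605) q30396, e3 q29720 L824740 q30411, e3 q29721 (flp_d L816989) q28783, e3 q29722 L824752 q30412, e3 q29723 (flp_d L817009) q28786, e3 q29724 L817019 q28964, e3 q29725 L824775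 q30415, e3 q29726 (flp_d L817033) q28790, e3 q29727 (flp_d L824383) q30373, e3 q29728 L817056 q28861, e3 q29729 L817062 q28862, e3 q29730 (flp_d L819860) q29982, e3 q29731 L824809 q30419, e3 q29732 (flp_d L817086) q28796, e3 q29733 L817103 q28912, e3 q29734 L817107 q28967, e3 q29735 L824827 q30421, e3 q29736 (flp_d L817127) q28800, e3 q29737 L824837 q30422, e3 q29738 (flp_d L817144) q28802, e3 q29739 L824852 q30424, e3 q29740 (flp_d L817160) q28806, e3 q29741 L824861 q30426, e3 q29742 (flp_d L817172) q28812, e3 q29743 (flp_d L817178) q28814, e3 q29744 (flp_d L824859) q30425, e3 q29745 L824876 q30429, e3 q29746 (flp_d L817189) q28817, e3 q29747 (flp_d L823601) q30288, e3 q29748 L817205 q28863, e3 q29749 (flp_d L817207) q28822, e3 q29750 L817214 q28980, e3 q29751 (flp_d L822169) q30152, e3 q29752 (flp_d L821028) q30067, e3 q29753 (flp_d L824461) q30382, e3 q29754 L817235 q28900, e3 q29755 L824922 q30437, e3 q29756 (flp_d L817255) q28829, e3 q29757 L824932 q30438, e3 q29758 (flp_d L817272) q28831, e3 q29759 (flp_d L819204) q29939,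 trivial⟩ (by decide +kernel)

theorem ce_d_465 : ∀ r, r < 64 → sm gd (Qf (29760 + r)) = Qf (tab Gen.d (29760 + r)) :=
  edges_tab (sm gd) Qf (tab Gen.d) 29760 [(29760, 29940), (29761, 29941), (29762, 29942), (29763, 29943), (29764, 30056), (29765, 29945), (29766, 30443), (29767, 28846), (29768, 30173), (29769, 30445), (29770, 28854), (29771, 30447), (29772, 28857), (29773, 28859), (29774, 30444), (29775, 30417), (29776, 29955), (29777, 28898), (29778, 29952), (29779, 30451), (29780, 28870), (29781, 30048), (29782, 30453), (29783, 28873), (29784, 30047), (29785, 28905), (29786, 28919), (29787, 30457), (29788, 28879), (29789, 30400), (29790, 30459), (29791, 28882), (29792, 30399), (29793, 30092), (29794, 30093), (29795, 30222), (29796, 29857), (29797, 28913), (29798, 30463), (29799, 28895), (29800, 30465), (29801, 28901), (29802, 28903), (29803, 30209), (29804, 30331), (29805, 30468), (29806, 28917), (29807, 30470), (29808, 28920), (29809, 28922), (29810, 30392), (29811, 30017), (29812, 30473), (29813, 28927), (29814, 30475),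 (29815, 28931), (29816, 28934), (29817, 30476), (29818, 28937), (29819, 30471), (29820, 30401), (29821, 30350), (29822, 28943), (29823, 30021)]
    ⟨e3 q29760 (flp_d L819212) q29940, e3 q29761 (flp_d L819224) q29941, e3 q29762 (flp_d L819244) q29942, e3 q29763 (flp_d L819256) q29943, e3 q29764 (flp_d L820848) q30056, e3 q29765 (flp_d L819290) q29945, e3 q29766 L824967 q30443, e3 q29767 (flp_d L817340) q28846, e3 q29768 (flp_d L822392) q30173, e3 q29769 L824976 q30445, e3 q29770 (flp_d L817362) q28854, e3 q29771 L824993 q30447, e3 q29772 (flp_d L817376) q28857, e3 q29773 (flp_d L817382) q28859, e3 q29774 (flp_d L824974) q30444, e3 q29775 (flp_d L824795) q30417, e3 q29776 (flp_d L819451) q29955, e3 q29777 L817407 q28898, e3 q29778 (flp_d L819390) q29952, e3 q29779 L825018 q30451, e3 q29780 (flp_d L817427) q28870, e3 q29781 (flp_d L820706) q30048, e3 q29782 L825034 q30453, e3 q29783 (flp_d L817448) q28873, e3 q29784 (flp_d L820701) q30047, e3 q29785 L817464 q28905, e3 q29786 L817470 q28919, e3 q29787 L825059 q30457, e3 q29788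 (flp_d L817486) q28879, e3 q29789 (flp_d L824637) q30400, e3 q29790 L825077 q30459, e3 q29791 (flp_d L817509) q28882, e3 q29792 (flp_d L824630) q30399, e3 q29793 (flp_d L821431) q30092, e3 q29794 (flp_d L821439) q30093, e3 q29795 (flp_d L822927) q30222, e3 q29796 (flp_d L817958) q29857, e3 q29797 L817557 q28913, e3 q29798 L825110 q30463, e3 q29799 (flp_d L817569) q28895, e3 q29800 L825123 q30465, e3 q29801 (flp_d L817583) q28901, e3 q29802 (flp_d L817589) q28903, e3 q29803 (flp_d L822765) q30209, e3 q29804 (flp_d L824034) q30331, e3 q29805 L825138 q30468, e3 q29806 (flp_d L817608) q28917, e3 q29807 L825153 q30470, e3 q29808 (flp_d L817626) q28920, e3 q29809 (flp_d L817634) q28922, e3 q29810 (flp_d L824570) q30392, e3 q29811 (flp_d L820289) q30017, e3 q29812 L825176 q30473, e3 q29813 (flp_d L817661) q28927, e3 q29814 L825187 q30475, e3 q29815 (flp_d L817679) q28931, e3 q29816 (flp_d L817685) q28934, e3 q29817 (flp_d L825200) q30476, e3 q29818 (flp_d L817692) q28937, e3 q29819 (flp_d L825168) q30471, e3 q29820 (flp_d L824649)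 q30401, e3 q29821 (flp_d L824213) q30350, e3 q29822 (flp_d L817719) q28943, e3 q29823 (flp_d L820349) q30021, trivial⟩ (by decide +kernel)

theorem ce_d_466 : ∀ r, r < 64 → sm gd (Qf (29824 + r)) = Qf (tab Gen.d (29824 + r)) :=
  edges_tab (sm gd) Qf (tab Gen.d) 29824 [(29824, 30479), (29825, 28949), (29826, 28951), (29827, 30292), (29828, 30210), (29829, 30482), (29830, 28956), (29831, 28960), (29832, 28958), (29833, 30484), (29834, 30485), (29835, 29889), (29836, 30489), (29837, 28962), (29838, 30490), (29839, 28965), (29840, 30492), (29841, 28968), (29842, 28970), (29843, 30483), (29844, 28994), (29845, 28975), (29846, 30377), (29847, 28977), (29848, 30143), (29849, 30432), (29850, 30081), (29851, 30499), (29852, 28982), (29853, 30406), (29854, 30404), (29855, 29980), (29856, 29979), (29857, 29796), (29858, 29000), (29859, 29102), (29860, 29103), (29861, 29436), (29862, 29243), (29863, 29244), (29864, 29647), (29865, 30505), (29866, 29012), (29867, 29070), (29868, 30508), (29869, 29015), (29870, 30510), (29871, 29019),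 (29872, 29018), (29873, 29050), (29874, 30513), (29875, 29021), (29876, 30515), (29877, 29877), (29878, 29030), (29879, 30518), (29880, 29024), (29881, 30520), (29882, 29882), (29883, 29165), (29884, 29166), (29885, 29167), (29886, 30525), (29887, 29031)]
    ⟨e3 q29824 L825210 q30479, e3 q29825 (flp_d L817735) q28949, e3 q29826 (flp_d L817743) q28951, e3 q29827 (flp_d L823632) q30292, e3 q29828 (flp_d L822773) q30210, e3 q29829 L825231 q30482, e3 q29830 (flp_d L817766) q28956, e3 q29831 L817775 q28960, e3 q29832 (flp_d L817777) q28958, e3 q29833 (flp_d L825246) q30484, e3 q29834 (flp_d L825251) q30485, e3 q29835 (flp_d L818444) q29889, e3 q29836 L825279 q30489, e3 q29837 (flp_d L817817) q28962, e3 q29838 L825287 q30490, e3 q29839 (flp_d L817832) q28965, e3 q29840 L825298 q30492, e3 q29841 (flp_d L817846) q28968, e3 q29842 (flp_d L817852) q28970, e3 q29843 (flp_d L825238) q30483, e3 q29844 L817867 q28994, e3 q29845 (flp_d L817869) q28975, e3 q29846 (flp_d L824416) q30377, e3 q29847 (flp_d L817880) q28977, e3 q29848 (flp_d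 L822056) q30143, e3 q29849 (flp_d L824897) q30432, e3 q29850 L821261 q30081, e3 q29851 L825334 q30499, e3 q29852 (flp_d L817904) q28982, e3 q29853 (flp_d L824701) q30406, e3 q29854 (flp_d L824679) q30404, e3 q29855 (flp_d L819838) q29980, e3 q29856 (flp_d L819832) q29979, e3 q29857 L817958 q29796, e3 q29858 (flp_d L817962) q29000, e3 q29859 L817994 q29102, e3 q29860 L818002 q29103, e3 q29861 L818030 q29436, e3 q29862 L818048 q29243, e3 q29863 L818056 q29244, e3 q29864 L818070 q29647, e3 q29865 L825415 q30505, e3 q29866 (flp_d L818100) q29012, e3 q29867 L818119 q29070, e3 q29868 L825462 q30508, e3 q29869 (flp_d L818147) q29015, e3 q29870 (flp_d L825498) q30510, e3 q29871 L818183 q29019, e3 q29872 L818201 q29018, e3 q29873 L818217 q29050, e3 q29874 L825544 q30513, e3 q29875 (flp_d L818245) q29021, e3 q29876 (flp_d L825577) q30515, e3 q29877 L818280 q29877, e3 q29878 L818295 q29030, e3 q29879 L825617 q30518, e3 q29880 (flp_d L818323) q29024, e3 q29881 (flp_d L825648) q30520, e3 q29882 L818356 q29882, e3 q29883 L818379 q29165,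 e3 q29884 L818385 q29166, e3 q29885 L818397 q29167, e3 q29886 L825707 q30525, e3 q29887 (flp_d L818419) q29031, trivial⟩ (by decide +kernel)

theorem ce_d_467 : ∀ r, r < 64 → sm gd (Qf (29888 + r)) = Qf (tab Gen.d (29888 + r)) :=
  edges_tab (sm gd) Qf (tab Gen.d) 29888 [(29888, 29058), (29889, 29835), (29890, 30530), (29891, 29035), (29892, 29657), (29893, 29893), (29894, 29182), (29895, 29183), (29896, 29151), (29897, 29695), (29898, 30536), (29899, 29042), (29900, 29635), (29901, 30539), (29902, 29045), (29903, 30506), (29904, 29532), (29905, 30542), (29906, 29048), (29907, 30544), (29908, 30545), (29909, 29051), (29910, 30548), (29911, 29053), (29912, 29202), (29913, 29056), (29914, 30527), (29915, 30528), (29916, 29916), (29917, 30552), (29918, 29063), (29919, 29543), (29920, 29132), (29921, 29222), (29922, 29223), (29923, 30556), (29924, 29071), (29925, 29634), (29926, 29074), (29927, 29194), (29928, 29395), (29929, 29396), (29930, 29174), (29931, 30560), (29932, 29082), (29933, 30562), (29934, 30564), (29935, 29085),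 (29936, 30567), (29937, 29087), (29938, 29098), (29939, 29759), (29940, 29760), (29941, 29761), (29942, 29762), (29943, 29763), (29944, 29095), (29945, 29765), (29946, 30568), (29947, 30569), (29948, 29240), (29949, 30501), (29950, 30502), (29951, 29109)]
    ⟨e3 q29888 L818438 q29058, e3 q29889 L818444 q29835, e3 q29890 L825771 q30530, e3 q29891 (flp_d L818472) q29035, e3 q29892 L818495 q29657, e3 q29893 L818511 q29893, e3 q29894 L818536 q29182, e3 q29895 L818544 q29183, e3 q29896 L818558 q29151, e3 q29897 L818572 q29695, e3 q29898 L825869 q30536, e3 q29899 (flp_d L818600) q29042, e3 q29900 L818622 q29635, e3 q29901 L825921 q30539, e3 q29902 (flp_d L818648) q29045, e3 q29903 (flp_d L825442) q30506, e3 q29904 L818680 q29532, e3 q29905 L825967 q30542, e3 q29906 (flp_d L818708) q29048, e3 q29907 (flp_d L826002) q30544, e3 q29908 L826012 q30545, e3 q29909 (flp_d L818751) q29051, e3 q29910 (flp_d L826049) q30548, e3 q29911 L818776 q29053, e3 q29912 L818792 q29202, e3 q29913 (flp_d L818800) q29056, e3 q29914 (flp_d L825738) q30527,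 e3 q29915 (flp_d L825745) q30528, e3 q29916 L818858 q29916, e3 q29917 L826100 q30552, e3 q29918 (flp_d L818875) q29063, e3 q29919 L818897 q29543, e3 q29920 L818913 q29132, e3 q29921 L818931 q29222, e3 q29922 L818943 q29223, e3 q29923 L826168 q30556, e3 q29924 (flp_d L818965) q29071, e3 q29925 L818985 q29634, e3 q29926 (flp_d L818995) q29074, e3 q29927 L819013 q29194, e3 q29928 L819041 q29395, e3 q29929 L819059 q29396, e3 q29930 L819067 q29174, e3 q29931 L826238 q30560, e3 q29932 (flp_d L819095) q29082, e3 q29933 (flp_d L826271) q30562, e3 q29934 L826294 q30564, e3 q29935 (flp_d L819138) q29085, e3 q29936 (flp_d L826337) q30567, e3 q29937 L819167 q29087, e3 q29938 L819190 q29098, e3 q29939 L819204 q29759, e3 q29940 L819212 q29760, e3 q29941 L819224 q29761, e3 q29942 L819244 q29762, e3 q29943 L819256 q29763, e3 q29944 (flp_d L819266) q29095, e3 q29945 L819290 q29765, e3 q29946 (flp_d L826359) q30568, e3 q29947 (flp_d L826366) q30569, e3 q29948 L819336 q29240, e3 q29949 (flp_d L825359) q30501, e3 q29950 (flp_d L825367) q30502,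 e3 q29951 L819372 q29109, trivial⟩ (by decide +kernel)

theorem ce_d_468 : ∀ r, r < 64 → sm gd (Qf (29952 + r)) = Qf (tab Gen.d (29952 + r)) :=
  edges_tab (sm gd) Qf (tab Gen.d) 29952 [(29952, 29778), (29953, 30577), (29954, 29108), (29955, 29776), (29956, 30578), (29957, 29113), (29958, 30580), (29959, 29118), (29960, 30582), (29961, 29121), (29962, 30584), (29963, 29126), (29964, 29402), (29965, 29220), (29966, 29515), (29967, 30554), (29968, 30511), (29969, 29179), (29970, 30591), (29971, 29135), (29972, 30593), (29973, 29973), (29974, 29147), (29975, 30596), (29976, 29138), (29977, 30598), (29978, 29978), (29979, 29856), (29980, 29855), (29981, 29155), (29982, 29730), (29983, 30603), (29984, 29145), (29985, 30605), (29986, 30606), (29987, 29148), (29988, 29189), (29989, 29525), (29990, 30534), (29991, 30610), (29992, 29153), (29993, 30601), (29994, 30563), (29995, 30613), (29996, 29158), (29997, 30616), (29998, 29160), (29999, 30618), (30000, 29162), (30001, 30621), (30002, 29164), (30003, 29362), (30004, 30523), (30005,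 30524), (30006, 29168), (30007, 29562), (30008, 29207), (30009, 29208), (30010, 29505), (30011, 30630), (30012, 29172), (30013, 30632), (30014, 30634), (30015, 29175)]
    ⟨e3 q29952 L819390 q29778, e3 q29953 L826488 q30577, e3 q29954 (flp_d L819420) q29108, e3 q29955 L819451 q29776, e3 q29956 L826504 q30578, e3 q29957 (flp_d L819473) q29113, e3 q29958 L826539 q30580, e3 q29959 (flp_d L819507) q29118, e3 q29960 L826574 q30582, e3 q29961 (flp_d L819541) q29121, e3 q29962 L826609 q30584, e3 q29963 (flp_d L819571) q29126, e3 q29964 L819596 q29402, e3 q29965 L819614 q29220, e3 q29966 L819622 q29515, e3 q29967 (flp_d L826142) q30554, e3 q29968 (flp_d L825516) q30511, e3 q29969 L819668 q29179, e3 q29970 L826711 q30591, e3 q29971 (flp_d L819696) q29135, e3 q29972 (flp_d L826744) q30593, e3 q29973 L819731 q29973, e3 q29974 L819746 q29147, e3 q29975 L826786 q30596, e3 q29976 (flp_d L819774) q29138, e3 q29977 (flp_d L826819) q30598, e3 q29978 L819809 q29978, e3 q29979 L819832 q29856, e3 q29980 L819838 q29855, e3 q29981 L819850 q29155,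 e3 q29982 L819860 q29730, e3 q29983 L826883 q30603, e3 q29984 (flp_d L819888) q29145, e3 q29985 (flp_d L826918) q30605, e3 q29986 L826928 q30606, e3 q29987 (flp_d L819933) q29148, e3 q29988 L819952 q29189, e3 q29989 L819960 q29525, e3 q29990 (flp_d L825843) q30534, e3 q29991 L826977 q30610, e3 q29992 (flp_d L819998) q29153, e3 q29993 (flp_d L826861) q30601, e3 q29994 (flp_d L826292) q30563, e3 q29995 L827009 q30613, e3 q29996 (flp_d L820040) q29158, e3 q29997 (flp_d L827046) q30616, e3 q29998 L820065 q29160, e3 q29999 L827065 q30618, e3 q30000 (flp_d L820079) q29162, e3 q30001 (flp_d L827102) q30621, e3 q30002 L820104 q29164, e3 q30003 L820119 q29362, e3 q30004 (flp_d L825691) q30523, e3 q30005 (flp_d L825701) q30524, e3 q30006 (flp_d L820141) q29168, e3 q30007 L820156 q29562, e3 q30008 L820164 q29207, e3 q30009 L820171 q29208, e3 q30010 L820185 q29505, e3 q30011 L827206 q30630, e3 q30012 (flp_d L820213) q29172, e3 q30013 (flp_d L827239) q30632, e3 q30014 L827262 q30634, e3 q30015 (flp_d L820256) q29175, trivial⟩ (by decide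 +kernel)

theorem ce_d_469 : ∀ r, r < 64 → sm gd (Qf (30016 + r)) = Qf (tab Gen.d (30016 + r)) :=
  edges_tab (sm gd) Qf (tab Gen.d) 30016 [(30016, 29586), (30017, 29811), (30018, 30638), (30019, 29180), (30020, 30533), (30021, 29823), (30022, 29639), (30023, 29187), (30024, 30608), (30025, 30642), (30026, 29191), (30027, 30644), (30028, 29196), (30029, 29198), (30030, 30647), (30031, 30643), (30032, 29200), (30033, 29390), (30034, 29610), (30035, 30626), (30036, 30628), (30037, 29492), (30038, 30652), (30039, 29210), (30040, 30653), (30041, 29212), (30042, 30656), (30043, 29214), (30044, 29323), (30045, 29215), (30046, 29608), (30047, 29784), (30048, 29781), (30049, 29241), (30050, 29454), (30051, 30555), (30052, 29455), (30053, 29637), (30054, 29636), (30055, 29457), (30056, 29764), (30057, 30503), (30058, 29310), (30059, 29366), (30060, 29268), (30061, 30663), (30062, 29255), (30063, 30587), (30064, 29263), (30065, 30666), (30066, 29258), (30067, 29752), (30068, 29354), (30069, 29355), (30070, 30669), (30071, 29264), (30072,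 29688), (30073, 30671), (30074, 29269), (30075, 30674), (30076, 29271), (30077, 29383), (30078, 29388), (30079, 29276)]
    ⟨e3 q30016 L820273 q29586, e3 q30017 L820289 q29811, e3 q30018 L827306 q30638, e3 q30019 (flp_d L820309) q29180, e3 q30020 (flp_d L825829) q30533, e3 q30021 L820349 q29823, e3 q30022 L820357 q29639, e3 q30023 (flp_d L820363) q29187, e3 q30024 (flp_d L826957) q30608, e3 q30025 L827359 q30642, e3 q30026 (flp_d L820411) q29191, e3 q30027 L827394 q30644, e3 q30028 (flp_d L820445) q29196, e3 q30029 (flp_d L820461) q29198, e3 q30030 (flp_d L827441) q30647, e3 q30031 (flp_d L827392) q30643, e3 q30032 L820494 q29200, e3 q30033 L820513 q29390, e3 q30034 L820531 q29610, e3 q30035 (flp_d L827165) q30626, e3 q30036 (flp_d L827180) q30628, e3 q30037 L820565 q29492, e3 q30038 L827508 q30652, e3 q30039 (flp_d L820595) q29210, e3 q30040 L827524 q30653, e3 q30041 (flp_d L820624) q29212, e3 q30042 (flp_d L827563) q30656, e3 q30043 L820651 q29214, e3 q30044 L820674 q29323, e3 q30045 (flp_d L820676) q29215, e3 q30046 L820691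 q29608, e3 q30047 L820701 q29784, e3 q30048 L820706 q29781, e3 q30049 L820728 q29241, e3 q30050 L820740 q29454, e3 q30051 (flp_d L826160) q30555, e3 q30052 L820782 q29455, e3 q30053 L820794 q29637, e3 q30054 L820818 q29636, e3 q30055 L820836 q29457, e3 q30056 L820848 q29764, e3 q30057 (flp_d L825387) q30503, e3 q30058 L820886 q29310, e3 q30059 L820906 q29366, e3 q30060 L820914 q29268, e3 q30061 L827642 q30663, e3 q30062 (flp_d L820942) q29255, e3 q30063 (flp_d L826653) q30587, e3 q30064 L820977 q29263, e3 q30065 L827688 q30666, e3 q30066 (flp_d L821005) q29258, e3 q30067 L821028 q29752, e3 q30068 L821050 q29354, e3 q30069 L821056 q29355, e3 q30070 L827734 q30669, e3 q30071 (flp_d L821078) q29264, e3 q30072 L821106 q29688, e3 q30073 L827761 q30671, e3 q30074 (flp_d L821124) q29269, e3 q30075 (flp_d L827812) q30674, e3 q30076 L821157 q29271, e3 q30077 L821177 q29383, e3 q30078 L821203 q29388, e3 q30079 (flp_d L821207) q29276, trivial⟩ (by decide +kernel)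

theorem ce_d_470 : ∀ r, r < 64 → sm gd (Qf (30080 + r)) = Qf (tab Gen.d (30080 + r)) :=
  edges_tab (sm gd) Qf (tab Gen.d) 30080 [(30080, 29611), (30081, 29850), (30082, 29305), (30083, 30676), (30084, 29290), (30085, 30637), (30086, 30086), (30087, 29299), (30088, 30680), (30089, 29293), (30090, 30682), (30091, 30091), (30092, 29793), (30093, 29794), (30094, 29480), (30095, 30687), (30096, 29300), (30097, 29314), (30098, 29433), (30099, 30690), (30100, 29306), (30101, 30693), (30102, 29308), (30103, 29367), (30104, 29312), (30105, 30689), (30106, 30623), (30107, 29317), (30108, 29382), (30109, 29320), (30110, 29397), (30111, 30657), (30112, 30617), (30113, 29513), (30114, 29514), (30115, 29363), (30116, 29333), (30117, 30701), (30118, 29331), (30119, 30702), (30120, 29334), (30121, 30704), (30122, 29337), (30123, 30706), (30124, 29339), (30125, 30521), (30126, 29620), (30127, 29374), (30128, 30709), (30129, 29345), (30130, 30712), (30131, 29347), (30132, 30715), (30133, 30716), (30134, 29350), (30135, 30719), (30136, 29352),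 (30137, 29555), (30138, 30722), (30139, 30668), (30140, 29577), (30141, 29424), (30142, 29358), (30143, 29848)]
    ⟨e3 q30080 L821231 q29611, e3 q30081 (flp_d L821261) q29850, e3 q30082 L821267 q29305, e3 q30083 L827840 q30676, e3 q30084 (flp_d L821295) q29290, e3 q30085 (flp_d L827298) q30637, e3 q30086 L821330 q30086, e3 q30087 L821345 q29299, e3 q30088 L827900 q30680, e3 q30089 (flp_d L821373) q29293, e3 q30090 (flp_d L827931) q30682, e3 q30091 L821406 q30091, e3 q30092 L821431 q29793, e3 q30093 L821439 q29794, e3 q30094 L821451 q29480, e3 q30095 L827996 q30687, e3 q30096 (flp_d L821475) q29300, e3 q30097 L821496 q29314, e3 q30098 L821512 q29433, e3 q30099 L828033 q30690, e3 q30100 (flp_d L821528) q29306, e3 q30101 (flp_d L828070) q30693, e3 q30102 L821555 q29308, e3 q30103 L821571 q29367, e3 q30104 (flp_d L821581) q29312, e3 q30105 (flp_d L828031) q30689, e3 q30106 (flp_d L827131) q30623, e3 q30107 (flp_d L821629) q29317, e3 q30108 L821655 q29382, e3 q30109 (flp_d L821667) q29320, e3 q30110 L821693 q29397, e3 q30111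 (flp_d L827585) q30657, e3 q30112 (flp_d L827061) q30617, e3 q30113 L821745 q29513, e3 q30114 L821753 q29514, e3 q30115 L821763 q29363, e3 q30116 L821781 q29333, e3 q30117 L828185 q30701, e3 q30118 (flp_d L821809) q29331, e3 q30119 L828197 q30702, e3 q30120 (flp_d L821834) q29334, e3 q30121 L828214 q30704, e3 q30122 (flp_d L821852) q29337, e3 q30123 (flp_d L828238) q30706, e3 q30124 L821874 q29339, e3 q30125 (flp_d L825667) q30521, e3 q30126 L821896 q29620, e3 q30127 L821908 q29374, e3 q30128 L828268 q30709, e3 q30129 (flp_d L821930) q29345, e3 q30130 (flp_d L828293) q30712, e3 q30131 L821947 q29347, e3 q30132 (flp_d L828319) q30715, e3 q30133 L828329 q30716, e3 q30134 (flp_d L821965) q29350, e3 q30135 (flp_d L828360) q30719, e3 q30136 L821986 q29352, e3 q30137 L821999 q29555, e3 q30138 (flp_d L828389) q30722, e3 q30139 (flp_d L827728) q30668, e3 q30140 L822021 q29577, e3 q30141 L822033 q29424, e3 q30142 (flp_d L822041) q29358, e3 q30143 L822056 q29848, trivial⟩ (by decide +kernel)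

theorem ce_d_471 : ∀ r, r < 64 → sm gd (Qf (30144 + r)) = Qf (tab Gen.d (30144 + r)) :=
  edges_tab (sm gd) Qf (tab Gen.d) 30144 [(30144, 29386), (30145, 29387), (30146, 29640), (30147, 30622), (30148, 30731), (30149, 29364), (30150, 30733), (30151, 29369), (30152, 29751), (30153, 29384), (30154, 30736), (30155, 29375), (30156, 30739), (30157, 29377), (30158, 29378), (30159, 30742), (30160, 30735), (30161, 29380), (30162, 29625), (30163, 30727), (30164, 30729), (30165, 29614), (30166, 30649), (30167, 30747), (30168, 29392), (30169, 30558), (30170, 30749), (30171, 29400), (30172, 30586), (30173, 29768), (30174, 29675), (30175, 29674), (30176, 29431), (30177, 30753), (30178, 29412), (30179, 30756), (30180, 29414), (30181, 30538), (30182, 29415), (30183, 30760), (30184, 30751), (30185, 29417), (30186, 29434), (30187, 29429), (30188, 29435), (30189, 29420), (30190, 30766), (30191, 29422), (30192, 30725), (30193, 29426), (30194, 30769), (30195, 30764), (30196, 29428), (30197, 30694), (30198, 30761), (30199, 30765), (30200, 29678),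 (30201, 30772), (30202, 29442), (30203, 29556), (30204, 29446), (30205, 30526), (30206, 30775), (30207, 29449)]
    ⟨e3 q30144 L822066 q29386, e3 q30145 L822071 q29387, e3 q30146 L822083 q29640, e3 q30147 (flp_d L827116) q30622, e3 q30148 L828493 q30731, e3 q30149 (flp_d L822125) q29364, e3 q30150 L828516 q30733, e3 q30151 (flp_d L822149) q29369, e3 q30152 L822169 q29751, e3 q30153 L822187 q29384, e3 q30154 L828565 q30736, e3 q30155 (flp_d L822207) q29375, e3 q30156 (flp_d L828592) q30739, e3 q30157 L822226 q29377, e3 q30158 (flp_d L822230) q29378, e3 q30159 (flp_d L828619) q30742, e3 q30160 (flp_d L828563) q30735, e3 q30161 L822251 q29380, e3 q30162 L822260 q29625, e3 q30163 (flp_d L828454) q30727, e3 q30164 (flp_d L828469) q30729, e3 q30165 L822284 q29614, e3 q30166 (flp_d L827472) q30649, e3 q30167 L828666 q30747, e3 q30168 (flp_d L822322) q29392, e3 q30169 (flp_d L826218) q30558, e3 q30170 L828685 q30749, e3 q30171 (flp_d L822356) q29400, e3 q30172 (flp_d L826646) q30586, e3 q30173 L822392 q29768, e3 q30174 L822400 q29675,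 e3 q30175 L822414 q29674, e3 q30176 L822430 q29431, e3 q30177 L828738 q30753, e3 q30178 (flp_d L822446) q29412, e3 q30179 (flp_d L828765) q30756, e3 q30180 L822465 q29414, e3 q30181 (flp_d L825917) q30538, e3 q30182 (flp_d L822474) q29415, e3 q30183 (flp_d L828798) q30760, e3 q30184 (flp_d L828722) q30751, e3 q30185 L822497 q29417, e3 q30186 L822505 q29434, e3 q30187 L822516 q29429, e3 q30188 L822523 q29435, e3 q30189 (flp_d L822529) q29420, e3 q30190 (flp_d L828850) q30766, e3 q30191 L822555 q29422, e3 q30192 (flp_d L828428) q30725, e3 q30193 L822581 q29426, e3 q30194 (flp_d L828890) q30769, e3 q30195 (flp_d L828828) q30764, e3 q30196 L822617 q29428, e3 q30197 (flp_d L828089) q30694, e3 q30198 (flp_d L828806) q30761, e3 q30199 (flp_d L828836) q30765, e3 q30200 L822657 q29678, e3 q30201 L828920 q30772, e3 q30202 (flp_d L822673) q29442, e3 q30203 L822691 q29556, e3 q30204 (flp_d L822697) q29446, e3 q30205 (flp_d L825728) q30526, e3 q30206 L828953 q30775, e3 q30207 (flp_d L822730) q29449, trivial⟩ (by decide +kernel)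

theorem ce_d_472 : ∀ r, r < 64 → sm gd (Qf (30208 + r)) = Qf (tab Gen.d (30208 + r)) :=
  edges_tab (sm gd) Qf (tab Gen.d) 30208 [(30208, 29452), (30209, 29803), (30210, 29828), (30211, 29458), (30212, 30581), (30213, 30779), (30214, 29461), (30215, 29483), (30216, 30782), (30217, 29464), (30218, 30785), (30219, 29466), (30220, 29646), (30221, 30683), (30222, 29795), (30223, 29502), (30224, 29471), (30225, 30579), (30226, 29485), (30227, 30792), (30228, 29475), (30229, 30794), (30230, 29478), (30231, 30686), (30232, 30549), (30233, 29481), (30234, 30781), (30235, 30790), (30236, 30798), (30237, 29488), (30238, 29490), (30239, 30673), (30240, 30801), (30241, 29493), (30242, 30803), (30243, 29496), (30244, 29498), (30245, 29500), (30246, 30788), (30247, 30804), (30248, 29506), (30249, 29535), (30250, 29508), (30251, 30583), (30252, 29512), (30253, 30808), (30254, 30699), (30255, 30810), (30256, 29517), (30257, 30812), (30258, 29520), (30259, 29578), (30260, 29522), (30261, 30607), (30262, 29581), (30263, 29582), (30264, 30819),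 (30265, 29526), (30266, 30821), (30267, 29528), (30268, 29684), (30269, 30823), (30270, 29533), (30271, 30806)]
    ⟨e3 q30208 (flp_d L822744) q29452, e3 q30209 L822765 q29803, e3 q30210 L822773 q29828, e3 q30211 (flp_d L822785) q29458, e3 q30212 (flp_d L826572) q30581, e3 q30213 L829010 q30779, e3 q30214 (flp_d L822826) q29461, e3 q30215 L822847 q29483, e3 q30216 L829047 q30782, e3 q30217 (flp_d L822861) q29464, e3 q30218 (flp_d L829084) q30785, e3 q30219 L822886 q29466, e3 q30220 L822905 q29646, e3 q30221 (flp_d L827950) q30683, e3 q30222 L822927 q29795, e3 q30223 L822939 q29502, e3 q30224 (flp_d L822947) q29471, e3 q30225 (flp_d L826537) q30579, e3 q30226 L822966 q29485, e3 q30227 L829155 q30792, e3 q30228 (flp_d L822984) q29475, e3 q30229 L829186 q30794, e3 q30230 (flp_d L823008) q29478, e3 q30231 (flp_d L827988) q30686, e3 q30232 (flp_d L826068) q30549, e3 q30233 (flp_d L823036) q29481, e3 q30234 (flp_d L829045) q30781, e3 q30235 (flp_d L829146) q30790, e3 q30236 L829228 q30798, e3 q30237 (flp_d L823086) q29488, e3 q30238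 (flp_d L823100) q29490, e3 q30239 (flp_d L827802) q30673, e3 q30240 L829269 q30801, e3 q30241 (flp_d L823137) q29493, e3 q30242 L829292 q30803, e3 q30243 (flp_d L823159) q29496, e3 q30244 (flp_d L823169) q29498, e3 q30245 (flp_d L823183) q29500, e3 q30246 (flp_d L829124) q30788, e3 q30247 L829304 q30804, e3 q30248 (flp_d L823217) q29506, e3 q30249 L823236 q29535, e3 q30250 (flp_d L823238) q29508, e3 q30251 (flp_d L826607) q30583, e3 q30252 L823257 q29512, e3 q30253 (flp_d L829351) q30808, e3 q30254 (flp_d L828163) q30699, e3 q30255 L829360 q30810, e3 q30256 (flp_d L823289) q29517, e3 q30257 L829383 q30812, e3 q30258 (flp_d L823307) q29520, e3 q30259 L823322 q29578, e3 q30260 (flp_d L823324) q29522, e3 q30261 (flp_d L826945) q30607, e3 q30262 L823343 q29581, e3 q30263 L823348 q29582, e3 q30264 L829443 q30819, e3 q30265 (flp_d L823368) q29526, e3 q30266 (flp_d L829473) q30821, e3 q30267 L823394 q29528, e3 q30268 L823414 q29684, e3 q30269 L829495 q30823, e3 q30270 (flp_d L823426) q29533, e3 q30271 (flp_d L829335) q30806, trivial⟩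 (by decide +kernel)

theorem ce_d_473 : ∀ r, r < 64 → sm gd (Qf (30272 + r)) = Qf (tab Gen.d (30272 + r)) :=
  edges_tab (sm gd) Qf (tab Gen.d) 30272 [(30272, 29536), (30273, 30826), (30274, 29538), (30275, 29638), (30276, 30633), (30277, 30553), (30278, 30829), (30279, 29546), (30280, 30832), (30281, 29548), (30282, 29687), (30283, 30723), (30284, 29550), (30285, 30836), (30286, 30825), (30287, 29552), (30288, 29747), (30289, 30720), (30290, 29632), (30291, 29558), (30292, 29827), (30293, 29588), (30294, 29589), (30295, 30625), (30296, 29591), (30297, 30848), (30298, 29593), (30299, 30850), (30300, 29566), (30301, 29568), (30302, 30635), (30303, 29603), (30304, 30855), (30305, 29573), (30306, 29575), (30307, 30724), (30308, 29619), (30309, 30814), (30310, 30758), (30311, 29668), (30312, 30816), (30313, 30818), (30314, 29584), (30315, 30636), (30316, 30842), (30317, 30844), (30318, 30862), (30319, 30847), (30320, 29592), (30321, 30864), (30322, 29597), (30323, 30865), (30324, 29599), (30325, 29601), (30326, 30853), (30327,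 30645), (30328, 29605), (30329, 30655), (30330, 30658), (30331, 29804), (30332, 30688), (30333, 30871), (30334, 29612), (30335, 29615)]
    ⟨e3 q30272 (flp_d L823446) q29536, e3 q30273 (flp_d L829530) q30826, e3 q30274 L823466 q29538, e3 q30275 L823486 q29638, e3 q30276 (flp_d L827260) q30633, e3 q30277 (flp_d L826126) q30553, e3 q30278 L829564 q30829, e3 q30279 (flp_d L823520) q29546, e3 q30280 (flp_d L829595) q30832, e3 q30281 L823541 q29548, e3 q30282 L823554 q29687, e3 q30283 (flp_d L828408) q30723, e3 q30284 (flp_d L823566) q29550, e3 q30285 (flp_d L829631) q30836, e3 q30286 (flp_d L829522) q30825, e3 q30287 L823587 q29552, e3 q30288 L823601 q29747, e3 q30289 (flp_d L828374) q30720, e3 q30290 L823613 q29632, e3 q30291 (flp_d L823617) q29558, e3 q30292 L823632 q29827, e3 q30293 L823642 q29588, e3 q30294 L823647 q29589, e3 q30295 (flp_d L827155) q30625, e3 q30296 L823665 q29591, e3 q30297 L829733 q30848, e3 q30298 L823678 q29593, e3 q30299 L829751 q30850, e3 q30300 (flp_d L823692) q29566, e3 q30301 (flp_d L823704) q29568,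 e3 q30302 (flp_d L827281) q30635, e3 q30303 L823731 q29603, e3 q30304 L829817 q30855, e3 q30305 (flp_d L823747) q29573, e3 q30306 (flp_d L823761) q29575, e3 q30307 (flp_d L828416) q30724, e3 q30308 L823789 q29619, e3 q30309 (flp_d L829406) q30814, e3 q30310 (flp_d L828784) q30758, e3 q30311 L823821 q29668, e3 q30312 (flp_d L829422) q30816, e3 q30313 (flp_d L829437) q30818, e3 q30314 (flp_d L823845) q29584, e3 q30315 (flp_d L827291) q30636, e3 q30316 (flp_d L829689) q30842, e3 q30317 (flp_d L829706) q30844, e3 q30318 L829901 q30862, e3 q30319 (flp_d L829729) q30847, e3 q30320 (flp_d L823919) q29592, e3 q30321 (flp_d L829929) q30864, e3 q30322 L823946 q29597, e3 q30323 L829935 q30865, e3 q30324 (flp_d L823964) q29599, e3 q30325 (flp_d L823974) q29601, e3 q30326 (flp_d L829796) q30853, e3 q30327 (flp_d L827427) q30645, e3 q30328 (flp_d L824007) q29605, e3 q30329 (flp_d L827557) q30655, e3 q30330 (flp_d L827595) q30658, e3 q30331 L824034 q29804, e3 q30332 (flp_d L828019) q30688, e3 q30333 L829985 q30871, e3 q30334 (flp_d L824057)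 q29612, e3 q30335 (flp_d L824065) q29615, trivial⟩ (by decide +kernel)

theorem ce_d_474 : ∀ r, r < 64 → sm gd (Qf (30336 + r)) = Qf (tab Gen.d (30336 + r)) :=
  edges_tab (sm gd) Qf (tab Gen.d) 30336 [(30336, 30854), (30337, 29627), (30338, 29628), (30339, 30856), (30340, 30708), (30341, 29621), (30342, 30878), (30343, 29623), (30344, 30744), (30345, 30714), (30346, 30740), (30347, 30874), (30348, 30876), (30349, 29629), (30350, 29821), (30351, 30557), (30352, 30537), (30353, 29702), (30354, 30827), (30355, 30640), (30356, 29641), (30357, 29660), (30358, 30887), (30359, 29644), (30360, 30786), (30361, 30890), (30362, 29648), (30363, 30893), (30364, 29650), (30365, 30532), (30366, 29651), (30367, 30896), (30368, 30627), (30369, 29653), (30370, 29655), (30371, 30799), (30372, 30531), (30373, 29727), (30374, 30886), (30375, 29659), (30376, 29671), (30377, 29846), (30378, 30843), (30379, 29667), (30380, 29672), (30381, 30905), (30382, 29753), (30383, 30906), (30384, 30752), (30385, 30909), (30386, 29677), (30387, 30833), (30388,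 29696), (30389, 30822), (30390, 29685), (30391, 29689), (30392, 29810), (30393, 29693), (30394, 30566), (30395, 30883), (30396, 29719), (30397, 29699), (30398, 30670), (30399, 29792)]
    ⟨e3 q30336 L829815 q30854, e3 q30337 L824084 q29627, e3 q30338 L824089 q29628, e3 q30339 (flp_d L829843) q30856, e3 q30340 (flp_d L828260) q30708, e3 q30341 (flp_d L824117) q29621, e3 q30342 (flp_d L830053) q30878, e3 q30343 L824141 q29623, e3 q30344 (flp_d L828638) q30744, e3 q30345 (flp_d L828310) q30714, e3 q30346 (flp_d L828605) q30740, e3 q30347 (flp_d L830018) q30874, e3 q30348 (flp_d L830033) q30876, e3 q30349 (flp_d L824195) q29629, e3 q30350 L824213 q29821, e3 q30351 (flp_d L826192) q30557, e3 q30352 (flp_d L825891) q30537, e3 q30353 L824229 q29702, e3 q30354 (flp_d L829550) q30827, e3 q30355 (flp_d L827337) q30640, e3 q30356 (flp_d L824257) q29641, e3 q30357 L824272 q29660, e3 q30358 L830137 q30887, e3 q30359 (flp_d L824284) q29644, e3 q30360 (flp_d L829102) q30786, e3 q30361 L830166 q30890, e3 q30362 (flp_d L824310) q29648, e3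 q30363 (flp_d L830193) q30893, e3 q30364 L824329 q29650, e3 q30365 (flp_d L825809) q30532, e3 q30366 (flp_d L824338) q29651, e3 q30367 (flp_d L830213) q30896, e3 q30368 L827174 q30627, e3 q30369 L824361 q29653, e3 q30370 (flp_d L824365) q29655, e3 q30371 (flp_d L829257) q30799, e3 q30372 (flp_d L825793) q30531, e3 q30373 L824383 q29727, e3 q30374 (flp_d L830135) q30886, e3 q30375 L824399 q29659, e3 q30376 L824409 q29671, e3 q30377 L824416 q29846, e3 q30378 (flp_d L829700) q30843, e3 q30379 L824435 q29667, e3 q30380 L824441 q29672, e3 q30381 (flp_d L830280) q30905, e3 q30382 L824461 q29753, e3 q30383 (flp_d L830286) q30906, e3 q30384 (flp_d L828730) q30752, e3 q30385 L830308 q30909, e3 q30386 (flp_d L824501) q29677, e3 q30387 (flp_d L829609) q30833, e3 q30388 L824517 q29696, e3 q30389 (flp_d L829493) q30822, e3 q30390 (flp_d L824535) q29685, e3 q30391 (flp_d L824545) q29689, e3 q30392 L824570 q29810, e3 q30393 (flp_d L824572) q29693, e3 q30394 (flp_d L826331) q30566, e3 q30395 (flp_d L830099) q30883, e3 q30396 L824605 q29719,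 e3 q30397 (flp_d L824611) q29699, e3 q30398 (flp_d L827759) q30670, e3 q30399 L824630 q29792, trivial⟩ (by decide +kernel)

theorem ce_d_475 : ∀ r, r < 64 → sm gd (Qf (30400 + r)) = Qf (tab Gen.d (30400 + r)) :=
  edges_tab (sm gd) Qf (tab Gen.d) 30400 [(30400, 29789), (30401, 29820), (30402, 30917), (30403, 29705), (30404, 29854), (30405, 29715), (30406, 29853), (30407, 29713), (30408, 30919), (30409, 29717), (30410, 30547), (30411, 29720), (30412, 29722), (30413, 30805), (30414, 30922), (30415, 29725), (30416, 30901), (30417, 29775), (30418, 30925), (30419, 29731), (30420, 30927), (30421, 29735), (30422, 29737), (30423, 30926), (30424, 29739), (30425, 29744), (30426, 29741), (30427, 30866), (30428, 30930), (30429, 29745), (30430, 30837), (30431, 30907), (30432, 29849), (30433, 30734), (30434, 30743), (30435, 30667), (30436, 30938), (30437, 29755), (30438, 29757), (30439, 30784), (30440, 30570), (30441, 30571), (30442, 30572), (30443, 29766), (30444, 29774), (30445, 29769), (30446, 30648), (30447, 29771), (30448, 30872),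 (30449, 30942), (30450, 30946), (30451, 29779), (30452, 30661), (30453, 29782), (30454, 30659), (30455, 30732), (30456, 30950), (30457, 29787), (30458, 30916), (30459, 29790), (30460, 30914), (30461, 30748), (30462, 30685), (30463, 29798)]
    ⟨e3 q30400 L824637 q29789, e3 q30401 L824649 q29820, e3 q30402 L830377 q30917, e3 q30403 (flp_d L824663) q29705, e3 q30404 L824679 q29854, e3 q30405 L824689 q29715, e3 q30406 L824701 q29853, e3 q30407 (flp_d L824703) q29713, e3 q30408 (flp_d L830404) q30919, e3 q30409 (flp_d L824719) q29717, e3 q30410 (flp_d L826043) q30547, e3 q30411 (flp_d L824740) q29720, e3 q30412 (flp_d L824752) q29722, e3 q30413 (flp_d L829325) q30805, e3 q30414 L830428 q30922, e3 q30415 (flp_d L824775) q29725, e3 q30416 (flp_d L830243) q30901, e3 q30417 L824795 q29775, e3 q30418 L830453 q30925, e3 q30419 (flp_d L824809) q29731, e3 q30420 L830470 q30927, e3 q30421 (flp_d L824827) q29735, e3 q30422 (flp_d L824837) q29737, e3 q30423 (flp_d L830468) q30926, e3 q30424 (flp_d L824852) q29739, e3 q30425 L824859 q29744,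 e3 q30426 (flp_d L824861) q29741, e3 q30427 (flp_d L829954) q30866, e3 q30428 (flp_d L830501) q30930, e3 q30429 (flp_d L824876) q29745, e3 q30430 (flp_d L829645) q30837, e3 q30431 (flp_d L830299) q30907, e3 q30432 L824897 q29849, e3 q30433 (flp_d L828540) q30734, e3 q30434 (flp_d L828626) q30743, e3 q30435 (flp_d L827710) q30667, e3 q30436 L830538 q30938, e3 q30437 (flp_d L824922) q29755, e3 q30438 (flp_d L824932) q29757, e3 q30439 (flp_d L829078) q30784, e3 q30440 (flp_d L826384) q30570, e3 q30441 (flp_d L826396) q30571, e3 q30442 (flp_d L826416) q30572, e3 q30443 (flp_d L824967) q29766, e3 q30444 L824974 q29774, e3 q30445 (flp_d L824976) q29769, e3 q30446 (flp_d L827454) q30648, e3 q30447 (flp_d L824993) q29771, e3 q30448 (flp_d L830002) q30872, e3 q30449 (flp_d L830575) q30942, e3 q30450 L830594 q30946, e3 q30451 (flp_d L825018) q29779, e3 q30452 (flp_d L827620) q30661, e3 q30453 (flp_d L825034) q29782, e3 q30454 (flp_d L827605) q30659, e3 q30455 (flp_d L828514) q30732, e3 q30456 L830623 q30950, e3 q30457 (flp_d L825059)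 q29787, e3 q30458 (flp_d L830373) q30916, e3 q30459 (flp_d L825077) q29790, e3 q30460 (flp_d L830360) q30914, e3 q30461 (flp_d L828683) q30748, e3 q30462 (flp_d L827976) q30685, e3 q30463 (flp_d L825110) q29798, trivial⟩ (by decide +kernel)

theorem ce_d_476 : ∀ r, r < 64 → sm gd (Qf (30464 + r)) = Qf (tab Gen.d (30464 + r)) :=
  edges_tab (sm gd) Qf (tab Gen.d) 30464 [(30464, 30703), (30465, 29800), (30466, 30776), (30467, 30777), (30468, 29805), (30469, 30780), (30470, 29807), (30471, 29819), (30472, 30911), (30473, 29812), (30474, 30793), (30475, 29814), (30476, 29817), (30477, 30961), (30478, 30958), (30479, 29824), (30480, 30639), (30481, 30841), (30482, 29829), (30483, 29843), (30484, 29833), (30485, 29834), (30486, 30967), (30487, 30969), (30488, 30971), (30489, 29836), (30490, 29838), (30491, 30811), (30492, 29840), (30493, 30802), (30494, 30966), (30495, 30903), (30496, 30726), (30497, 30934), (30498, 30979), (30499, 29851), (30500, 30600), (30501, 29949), (30502, 29950), (30503, 30057), (30504, 30981), (30505, 29865),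 (30506, 29903), (30507, 30984), (30508, 29868), (30509, 30986), (30510, 29870), (30511, 29968), (30512, 30988), (30513, 29874), (30514, 30991), (30515, 29876), (30516, 30994), (30517, 30995), (30518, 29879), (30519, 30998), (30520, 29881), (30521, 30125), (30522, 31001), (30523, 30004), (30524, 30005), (30525, 29886), (30526, 30205), (30527, 29914)]
    ⟨e3 q30464 (flp_d L828212) q30703, e3 q30465 (flp_d L825123) q29800, e3 q30466 (flp_d L828982) q30776, e3 q30467 (flp_d L828994) q30777, e3 q30468 (flp_d L825138) q29805, e3 q30469 (flp_d L829033) q30780, e3 q30470 (flp_d L825153) q29807, e3 q30471 L825168 q29819, e3 q30472 (flp_d L830338) q30911, e3 q30473 (flp_d L825176) q29812, e3 q30474 (flp_d L829184) q30793, e3 q30475 (flp_d L825187) q29814, e3 q30476 L825200 q29817, e3 q30477 (flp_d L830710) q30961, e3 q30478 (flp_d L830691) q30958, e3 q30479 (flp_d L825210) q29824, e3 q30480 (flp_d L827327) q30639, e3 q30481 (flp_d L829679) q30841, e3 q30482 (flp_d L825231) q29829, e3 q30483 L825238 q29843, e3 q30484 L825246 q29833,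 e3 q30485 L825251 q29834, e3 q30486 (flp_d L830745) q30967, e3 q30487 (flp_d L830758) q30969, e3 q30488 L830770 q30971, e3 q30489 (flp_d L825279) q29836, e3 q30490 (flp_d L825287) q29838, e3 q30491 (flp_d L829381) q30811, e3 q30492 (flp_d L825298) q29840, e3 q30493 (flp_d L829290) q30802, e3 q30494 (flp_d L830737) q30966, e3 q30495 (flp_d L830258) q30903, e3 q30496 (flp_d L828444) q30726, e3 q30497 (flp_d L830520) q30934, e3 q30498 L830815 q30979, e3 q30499 (flp_d L825334) q29851, e3 q30500 (flp_d L826851) q30600, e3 q30501 L825359 q29949, e3 q30502 L825367 q29950, e3 q30503 L825387 q30057, e3 q30504 L830839 q30981, e3 q30505 (flp_d L825415) q29865, e3 q30506 L825442 q29903, e3 q30507 L830886 q30984, e3 q30508 (flp_d L825462) q29868, e3 q30509 (flp_d L830926) q30986, e3 q30510 L825498 q29870, e3 q30511 L825516 q29968, e3 q30512 L830956 q30988, e3 q30513 (flp_d L825544) q29874, e3 q30514 (flp_d L831007) q30991, e3 q30515 L825577 q29876, e3 q30516 (flp_d L831053) q30994, e3 q30517 L831065 q30995, e3 q30518 (flp_d L825617) q29879,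 e3 q30519 (flp_d L831112) q30998, e3 q30520 L825648 q29881, e3 q30521 L825667 q30125, e3 q30522 (flp_d L831153) q31001, e3 q30523 L825691 q30004, e3 q30524 L825701 q30005, e3 q30525 (flp_d L825707) q29886, e3 q30526 L825728 q30205, e3 q30527 L825738 q29914, trivial⟩ (by decide +kernel)

theorem ce_d_477 : ∀ r, r < 64 → sm gd (Qf (30528 + r)) = Qf (tab Gen.d (30528 + r)) :=
  edges_tab (sm gd) Qf (tab Gen.d) 30528 [(30528, 29915), (30529, 31008), (30530, 29890), (30531, 30372), (30532, 30365), (30533, 30020), (30534, 29990), (30535, 31013), (30536, 29898), (30537, 30352), (30538, 30181), (30539, 29901), (30540, 30983), (30541, 31017), (30542, 29905), (30543, 31020), (30544, 29907), (30545, 29908), (30546, 31023), (30547, 30410), (30548, 29910), (30549, 30232), (30550, 31005), (30551, 31007), (30552, 29917), (30553, 30277), (30554, 29967), (30555, 30051), (30556, 29923), (30557, 30351), (30558, 30169), (30559, 31028), (30560, 29931), (30561, 31031), (30562, 29933), (30563, 29994), (30564, 29934), (30565, 31035), (30566, 30394),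 (30567, 29936), (30568, 29946), (30569, 29947), (30570, 30440), (30571, 30441), (30572, 30442), (30573, 31036), (30574, 31039), (30575, 30980), (30576, 31042), (30577, 29953), (30578, 29956), (30579, 30225), (30580, 29958), (30581, 30212), (30582, 29960), (30583, 30251), (30584, 29962), (30585, 31043), (30586, 30172), (30587, 30063), (30588, 31027), (30589, 30987), (30590, 31052), (30591, 29970)]
    ⟨e3 q30528 L825745 q29915, e3 q30529 L831243 q31008, e3 q30530 (flp_d L825771) q29890, e3 q30531 L825793 q30372, e3 q30532 L825809 q30365, e3 q30533 L825829 q30020, e3 q30534 L825843 q29990, e3 q30535 L831332 q31013, e3 q30536 (flp_d L825869) q29898, e3 q30537 L825891 q30352, e3 q30538 L825917 q30181, e3 q30539 (flp_d L825921) q29901, e3 q30540 (flp_d L830882) q30983, e3 q30541 L831404 q31017, e3 q30542 (flp_d L825967) q29905, e3 q30543 (flp_d L831457) q31020, e3 q30544 L826002 q29907, e3 q30545 (flp_d L826012) q29908, e3 q30546 (flp_d L831500) q31023, e3 q30547 L826043 q30410, e3 q30548 L826049 q29910, e3 q30549 L826068 q30232,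 e3 q30550 (flp_d L831216) q31005, e3 q30551 (flp_d L831233) q31007, e3 q30552 (flp_d L826100) q29917, e3 q30553 L826126 q30277, e3 q30554 L826142 q29967, e3 q30555 L826160 q30051, e3 q30556 (flp_d L826168) q29923, e3 q30557 L826192 q30351, e3 q30558 L826218 q30169, e3 q30559 L831569 q31028, e3 q30560 (flp_d L826238) q29931, e3 q30561 (flp_d L831618) q31031, e3 q30562 L826271 q29933, e3 q30563 L826292 q29994, e3 q30564 (flp_d L826294) q29934, e3 q30565 (flp_d L831675) q31035, e3 q30566 L826331 q30394, e3 q30567 L826337 q29936, e3 q30568 L826359 q29946, e3 q30569 L826366 q29947, e3 q30570 L826384 q30440, e3 q30571 L826396 q30441, e3 q30572 L826416 q30442, e3 q30573 (flp_d L831699) q31036, e3 q30574 (flp_d L831735) q31039, e3 q30575 (flp_d L830827) q30980, e3 q30576 L831783 q31042, e3 q30577 (flp_d L826488) q29953, e3 q30578 (flp_d L826504) q29956, e3 q30579 L826537 q30225, e3 q30580 (flp_d L826539) q29958, e3 q30581 L826572 q30212, e3 q30582 (flp_d L826574) q29960, e3 q30583 L826607 q30251, e3 q30584 (flp_d L826609) q29962,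 e3 q30585 (flp_d L831816) q31043, e3 q30586 L826646 q30172, e3 q30587 L826653 q30063, e3 q30588 (flp_d L831559) q31027, e3 q30589 (flp_d L830944) q30987, e3 q30590 L831947 q31052, e3 q30591 (flp_d L826711) q29970, trivial⟩ (by decide +kernel)

theorem ce_d_478 : ∀ r, r < 64 → sm gd (Qf (30592 + r)) = Qf (tab Gen.d (30592 + r)) :=
  edges_tab (sm gd) Qf (tab Gen.d) 30592 [(30592, 31055), (30593, 29972), (30594, 31033), (30595, 31057), (30596, 29975), (30597, 31060), (30598, 29977), (30599, 31021), (30600, 30500), (30601, 29993), (30602, 31063), (30603, 29983), (30604, 31066), (30605, 29985), (30606, 29986), (30607, 30261), (30608, 30024), (30609, 31012), (30610, 29991), (30611, 31062), (30612, 31032), (30613, 29995), (30614, 31072), (30615, 31030), (30616, 29997), (30617, 30112), (30618, 29999), (30619, 31076), (30620, 31019), (30621, 30001), (30622, 30147), (30623, 30106), (30624, 31003), (30625, 30295), (30626, 30035), (30627, 30368), (30628, 30036), (30629, 31085), (30630, 30011), (30631, 31088), (30632, 30013), (30633,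 30276), (30634, 30014), (30635, 30302), (30636, 30315), (30637, 30085), (30638, 30018), (30639, 30480), (30640, 30355), (30641, 31068), (30642, 30025), (30643, 30031), (30644, 30027), (30645, 30327), (30646, 31095), (30647, 30030), (30648, 30446), (30649, 30166), (30650, 31083), (30651, 31101), (30652, 30038), (30653, 30040), (30654, 31104), (30655, 30329)]
    ⟨e3 q30592 (flp_d L831998) q31055, e3 q30593 L826744 q29972, e3 q30594 (flp_d L831653) q31033, e3 q30595 L832024 q31057, e3 q30596 (flp_d L826786) q29975, e3 q30597 (flp_d L832075) q31060, e3 q30598 L826819 q29977, e3 q30599 (flp_d L831480) q31021, e3 q30600 L826851 q30500, e3 q30601 L826861 q29993, e3 q30602 L832113 q31063, e3 q30603 (flp_d L826883) q29983, e3 q30604 (flp_d L832166) q31066, e3 q30605 L826918 q29985, e3 q30606 (flp_d L826928) q29986, e3 q30607 L826945 q30261, e3 q30608 L826957 q30024, e3 q30609 (flp_d L831322) q31012, e3 q30610 (flp_d L826977) q29991, e3 q30611 (flp_d L832107) q31062, e3 q30612 (flp_d L831638) q31032, e3 q30613 (flp_d L827009) q29995,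 e3 q30614 (flp_d L832245) q31072, e3 q30615 (flp_d L831612) q31030, e3 q30616 L827046 q29997, e3 q30617 L827061 q30112, e3 q30618 (flp_d L827065) q29999, e3 q30619 (flp_d L832286) q31076, e3 q30620 (flp_d L831451) q31019, e3 q30621 L827102 q30001, e3 q30622 L827116 q30147, e3 q30623 L827131 q30106, e3 q30624 (flp_d L831188) q31003, e3 q30625 L827155 q30295, e3 q30626 L827165 q30035, e3 q30627 (flp_d L827174) q30368, e3 q30628 L827180 q30036, e3 q30629 L832392 q31085, e3 q30630 (flp_d L827206) q30011, e3 q30631 (flp_d L832441) q31088, e3 q30632 L827239 q30013, e3 q30633 L827260 q30276, e3 q30634 (flp_d L827262) q30014, e3 q30635 L827281 q30302, e3 q30636 L827291 q30315, e3 q30637 L827298 q30085, e3 q30638 (flp_d L827306) q30018, e3 q30639 L827327 q30480, e3 q30640 L827337 q30355, e3 q30641 (flp_d L832198) q31068, e3 q30642 (flp_d L827359) q30025, e3 q30643 L827392 q30031, e3 q30644 (flp_d L827394) q30027, e3 q30645 L827427 q30327, e3 q30646 (flp_d L832536) q31095, e3 q30647 L827441 q30030, e3 q30648 L827454 q30446, e3 q30649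 L827472 q30166, e3 q30650 (flp_d L832367) q31083, e3 q30651 L832602 q31101, e3 q30652 (flp_d L827508) q30038, e3 q30653 (flp_d L827524) q30040, e3 q30654 (flp_d L832653) q31104, e3 q30655 L827557 q30329, trivial⟩ (by decide +kernel)

theorem ce_d_479 : ∀ r, r < 64 → sm gd (Qf (30656 + r)) = Qf (tab Gen.d (30656 + r)) :=
  edges_tab (sm gd) Qf (tab Gen.d) 30656 [(30656, 30042), (30657, 30111), (30658, 30330), (30659, 30454), (30660, 31111), (30661, 30452), (30662, 31113), (30663, 30061), (30664, 31050), (30665, 31116), (30666, 30065), (30667, 30435), (30668, 30139), (30669, 30070), (30670, 30398), (30671, 30073), (30672, 31121), (30673, 30239), (30674, 30075), (30675, 31122), (30676, 30083), (30677, 31093), (30678, 30993), (30679, 31126), (30680, 30088), (30681, 31129), (30682, 30090), (30683, 30221), (30684, 31002), (30685, 30462), (30686, 30231), (30687, 30095), (30688, 30332), (30689, 30105), (30690, 30099), (30691, 31136), (30692, 31102), (30693, 30101), (30694, 30197), (30695, 31134), (30696, 31080), (30697, 31105), (30698,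 31074), (30699, 30254), (30700, 31141), (30701, 30117), (30702, 30119), (30703, 30464), (30704, 30121), (30705, 31144), (30706, 30123), (30707, 30999), (30708, 30340), (30709, 30128), (30710, 31148), (30711, 30997), (30712, 30130), (30713, 31152), (30714, 30345), (30715, 30132), (30716, 30133), (30717, 31154), (30718, 30990), (30719, 30135)]
    ⟨e3 q30656 L827563 q30042, e3 q30657 L827585 q30111, e3 q30658 L827595 q30330, e3 q30659 L827605 q30454, e3 q30660 L832738 q31111, e3 q30661 L827620 q30452, e3 q30662 L832760 q31113, e3 q30663 (flp_d L827642) q30061, e3 q30664 (flp_d L831919) q31050, e3 q30665 L832809 q31116, e3 q30666 (flp_d L827688) q30065, e3 q30667 L827710 q30435, e3 q30668 L827728 q30139, e3 q30669 (flp_d L827734) q30070, e3 q30670 L827759 q30398, e3 q30671 (flp_d L827761) q30073, e3 q30672 (flp_d L832902) q31121, e3 q30673 L827802 q30239, e3 q30674 L827812 q30075, e3 q30675 L832914 q31122, e3 q30676 (flp_d L827840) q30083, e3 q30677 (flp_d L832500) q31093, e3 q30678 (flp_d L831042) q30993, e3 q30679 L832977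 q31126, e3 q30680 (flp_d L827900) q30088, e3 q30681 (flp_d L833024) q31129, e3 q30682 L827931 q30090, e3 q30683 L827950 q30221, e3 q30684 (flp_d L831178) q31002, e3 q30685 L827976 q30462, e3 q30686 L827988 q30231, e3 q30687 (flp_d L827996) q30095, e3 q30688 L828019 q30332, e3 q30689 L828031 q30105, e3 q30690 (flp_d L828033) q30099, e3 q30691 (flp_d L833118) q31136, e3 q30692 (flp_d L832635) q31102, e3 q30693 L828070 q30101, e3 q30694 L828089 q30197, e3 q30695 (flp_d L833102) q31134, e3 q30696 (flp_d L832338) q31080, e3 q30697 (flp_d L832677) q31105, e3 q30698 (flp_d L832266) q31074, e3 q30699 L828163 q30254, e3 q30700 L833187 q31141, e3 q30701 (flp_d L828185) q30117, e3 q30702 (flp_d L828197) q30119, e3 q30703 L828212 q30464, e3 q30704 (flp_d L828214) q30121, e3 q30705 (flp_d L833230) q31144, e3 q30706 L828238 q30123, e3 q30707 (flp_d L831130) q30999, e3 q30708 L828260 q30340, e3 q30709 (flp_d L828268) q30128, e3 q30710 (flp_d L833274) q31148, e3 q30711 (flp_d L831106) q30997, e3 q30712 L828293 q30130, e3 q30713 (flp_d L833307)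 q31152, e3 q30714 L828310 q30345, e3 q30715 L828319 q30132, e3 q30716 (flp_d L828329) q30133, e3 q30717 (flp_d L833331) q31154, e3 q30718 (flp_d L831001) q30990, e3 q30719 L828360 q30135, trivial⟩ (by decide +kernel)

theorem ce_d_480 : ∀ r, r < 64 → sm gd (Qf (30720 + r)) = Qf (tab Gen.d (30720 + r)) :=
  edges_tab (sm gd) Qf (tab Gen.d) 30720 [(30720, 30289), (30721, 31159), (30722, 30138), (30723, 30283), (30724, 30307), (30725, 30192), (30726, 30496), (30727, 30163), (30728, 31106), (30729, 30164), (30730, 31077), (30731, 30148), (30732, 30455), (30733, 30150), (30734, 30433), (30735, 30160), (30736, 30154), (30737, 31169), (30738, 31118), (30739, 30156), (30740, 30346), (30741, 31167), (30742, 30159), (30743, 30434), (30744, 30344), (30745, 31164), (30746, 31099), (30747, 30167), (30748, 30461), (30749, 30170), (30750, 31048), (30751, 30184), (30752, 30384), (30753, 30177), (30754, 31179), (30755, 31115), (30756, 30179), (30757, 31015), (30758, 30310), (30759, 31177), (30760, 30183), (30761, 30198), (30762, 31049), (30763,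 31137), (30764, 30195), (30765, 30199), (30766, 30190), (30767, 31161), (30768, 31187), (30769, 30194), (30770, 31138), (30771, 31188), (30772, 30201), (30773, 30982), (30774, 31004), (30775, 30206), (30776, 30466), (30777, 30467), (30778, 31045), (30779, 30213), (30780, 30469), (30781, 30234), (30782, 30216), (30783, 31201)]
    ⟨e3 q30720 L828374 q30289, e3 q30721 (flp_d L833379) q31159, e3 q30722 L828389 q30138, e3 q30723 L828408 q30283, e3 q30724 L828416 q30307, e3 q30725 L828428 q30192, e3 q30726 L828444 q30496, e3 q30727 L828454 q30163, e3 q30728 (flp_d L832684) q31106, e3 q30729 L828469 q30164, e3 q30730 (flp_d L832302) q31077, e3 q30731 (flp_d L828493) q30148, e3 q30732 L828514 q30455, e3 q30733 (flp_d L828516) q30150, e3 q30734 L828540 q30433, e3 q30735 L828563 q30160, e3 q30736 (flp_d L828565) q30154, e3 q30737 (flp_d L833501) q31169, e3 q30738 (flp_d L832862) q31118, e3 q30739 L828592 q30156, e3 q30740 L828605 q30346, e3 q30741 (flp_d L833487) q31167, e3 q30742 L828619 q30159, e3 q30743 L828626 q30434, e3 q30744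 L828638 q30344, e3 q30745 (flp_d L833442) q31164, e3 q30746 (flp_d L832587) q31099, e3 q30747 (flp_d L828666) q30167, e3 q30748 L828683 q30461, e3 q30749 (flp_d L828685) q30170, e3 q30750 (flp_d L831898) q31048, e3 q30751 L828722 q30184, e3 q30752 L828730 q30384, e3 q30753 (flp_d L828738) q30177, e3 q30754 (flp_d L833598) q31179, e3 q30755 (flp_d L832807) q31115, e3 q30756 L828765 q30179, e3 q30757 (flp_d L831384) q31015, e3 q30758 L828784 q30310, e3 q30759 (flp_d L833584) q31177, e3 q30760 L828798 q30183, e3 q30761 L828806 q30198, e3 q30762 (flp_d L831913) q31049, e3 q30763 (flp_d L833131) q31137, e3 q30764 L828828 q30195, e3 q30765 L828836 q30199, e3 q30766 L828850 q30190, e3 q30767 (flp_d L833411) q31161, e3 q30768 (flp_d L833665) q31187, e3 q30769 L828890 q30194, e3 q30770 (flp_d L833149) q31138, e3 q30771 (flp_d L833673) q31188, e3 q30772 (flp_d L828920) q30201, e3 q30773 (flp_d L830868) q30982, e3 q30774 (flp_d L831204) q31004, e3 q30775 (flp_d L828953) q30206, e3 q30776 L828982 q30466, e3 q30777 L828994 q30467, e3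 q30778 (flp_d L831852) q31045, e3 q30779 (flp_d L829010) q30213, e3 q30780 L829033 q30469, e3 q30781 L829045 q30234, e3 q30782 (flp_d L829047) q30216, e3 q30783 (flp_d L833835) q31201, trivial⟩ (by decide +kernel)

theorem ce_d_481 : ∀ r, r < 64 → sm gd (Qf (30784 + r)) = Qf (tab Gen.d (30784 + r)) :=
  edges_tab (sm gd) Qf (tab Gen.d) 30784 [(30784, 30439), (30785, 30218), (30786, 30360), (30787, 31130), (30788, 30246), (30789, 31044), (30790, 30235), (30791, 31024), (30792, 30227), (30793, 30474), (30794, 30229), (30795, 31132), (30796, 31025), (30797, 31198), (30798, 30236), (30799, 30371), (30800, 31120), (30801, 30240), (30802, 30493), (30803, 30242), (30804, 30247), (30805, 30413), (30806, 30271), (30807, 31046), (30808, 30253), (30809, 31037), (30810, 30255), (30811, 30491), (30812, 30257), (30813, 31065), (30814, 30309), (30815, 31067), (30816, 30312), (30817, 31204), (30818, 30313), (30819, 30264), (30820, 31226), (30821, 30266), (30822, 30389), (30823, 30269), (30824, 31214), (30825, 30286), (30826, 30273), (30827,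 30354), (30828, 31089), (30829, 30278), (30830, 31231), (30831, 31054), (30832, 30280), (30833, 30387), (30834, 31160), (30835, 31228), (30836, 30285), (30837, 30430), (30838, 31155), (30839, 31215), (30840, 31189), (30841, 30481), (30842, 30316), (30843, 30378), (30844, 30317), (30845, 31081), (30846, 31244), (30847, 30319)]
    ⟨e3 q30784 L829078 q30439, e3 q30785 L829084 q30218, e3 q30786 L829102 q30360, e3 q30787 (flp_d L833042) q31130, e3 q30788 L829124 q30246, e3 q30789 (flp_d L831834) q31044, e3 q30790 L829146 q30235, e3 q30791 (flp_d L831513) q31024, e3 q30792 (flp_d L829155) q30227, e3 q30793 L829184 q30474, e3 q30794 (flp_d L829186) q30229, e3 q30795 (flp_d L833068) q31132, e3 q30796 (flp_d L831531) q31025, e3 q30797 (flp_d L833804) q31198, e3 q30798 (flp_d L829228) q30236, e3 q30799 L829257 q30371, e3 q30800 (flp_d L832890) q31120, e3 q30801 (flp_d L829269) q30240, e3 q30802 L829290 q30493, e3 q30803 (flp_d L829292) q30242, e3 q30804 (flp_d L829304) q30247, e3 q30805 L829325 q30413, e3 q30806 L829335 q30271, e3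 q30807 (flp_d L831870) q31046, e3 q30808 L829351 q30253, e3 q30809 (flp_d L831706) q31037, e3 q30810 (flp_d L829360) q30255, e3 q30811 L829381 q30491, e3 q30812 (flp_d L829383) q30257, e3 q30813 (flp_d L832160) q31065, e3 q30814 L829406 q30309, e3 q30815 (flp_d L832184) q31067, e3 q30816 L829422 q30312, e3 q30817 (flp_d L833876) q31204, e3 q30818 L829437 q30313, e3 q30819 (flp_d L829443) q30264, e3 q30820 (flp_d L834106) q31226, e3 q30821 L829473 q30266, e3 q30822 L829493 q30389, e3 q30823 (flp_d L829495) q30269, e3 q30824 (flp_d L833997) q31214, e3 q30825 L829522 q30286, e3 q30826 L829530 q30273, e3 q30827 L829550 q30354, e3 q30828 (flp_d L832461) q31089, e3 q30829 (flp_d L829564) q30278, e3 q30830 (flp_d L834166) q31231, e3 q30831 (flp_d L831992) q31054, e3 q30832 L829595 q30280, e3 q30833 L829609 q30387, e3 q30834 (flp_d L833399) q31160, e3 q30835 (flp_d L834138) q31228, e3 q30836 L829631 q30285, e3 q30837 L829645 q30430, e3 q30838 (flp_d L833345) q31155, e3 q30839 (flp_d L834008) q31215, e3 q30840 (flp_d L833688) q31189,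 e3 q30841 L829679 q30481, e3 q30842 L829689 q30316, e3 q30843 L829700 q30378, e3 q30844 L829706 q30317, e3 q30845 (flp_d L832344) q31081, e3 q30846 L834288 q31244, e3 q30847 L829729 q30319, trivial⟩ (by decide +kernel)

theorem ce_d_482 : ∀ r, r < 64 → sm gd (Qf (30848 + r)) = Qf (tab Gen.d (30848 + r)) :=
  edges_tab (sm gd) Qf (tab Gen.d) 30848 [(30848, 30297), (30849, 31246), (30850, 30299), (30851, 31087), (30852, 31090), (30853, 30326), (30854, 30336), (30855, 30304), (30856, 30339), (30857, 31220), (30858, 31183), (30859, 31224), (30860, 31091), (30861, 31241), (30862, 30318), (30863, 31251), (30864, 30321), (30865, 30323), (30866, 30427), (30867, 31096), (30868, 31103), (30869, 31108), (30870, 31133), (30871, 30333), (30872, 30448), (30873, 31249), (30874, 30347), (30875, 31092), (30876, 30348), (30877, 31146), (30878, 30342), (30879, 31174), (30880, 31151), (30881, 31171), (30882, 31259), (30883, 30395), (30884, 31014), (30885, 31227), (30886, 30374), (30887, 30358), (30888, 31202), (30889, 31069), (30890, 30361),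 (30891, 31266), (30892, 31084), (30893, 30363), (30894, 31011), (30895, 31082), (30896, 30367), (30897, 31006), (30898, 31210), (30899, 31009), (30900, 31199), (30901, 30416), (30902, 31263), (30903, 30495), (30904, 31240), (30905, 30381), (30906, 30383), (30907, 30431), (30908, 31242), (30909, 30385), (30910, 31232), (30911, 30472)]
    ⟨e3 q30848 (flp_d L829733) q30297, e3 q30849 (flp_d L834313) q31246, e3 q30850 (flp_d L829751) q30299, e3 q30851 (flp_d L832435) q31087, e3 q30852 (flp_d L832473) q31090, e3 q30853 L829796 q30326, e3 q30854 (flp_d L829815) q30336, e3 q30855 (flp_d L829817) q30304, e3 q30856 L829843 q30339, e3 q30857 (flp_d L834053) q31220, e3 q30858 (flp_d L833632) q31183, e3 q30859 (flp_d L834083) q31224, e3 q30860 (flp_d L832483) q31091, e3 q30861 (flp_d L834260) q31241, e3 q30862 (flp_d L829901) q30318, e3 q30863 (flp_d L834370) q31251, e3 q30864 L829929 q30321, e3 q30865 (flp_d L829935) q30323, e3 q30866 L829954 q30427, e3 q30867 (flp_d L832554) q31096, e3 q30868 (flp_d L832645) q31103, e3 q30869 (flp_d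 L832711) q31108, e3 q30870 (flp_d L833088) q31133, e3 q30871 (flp_d L829985) q30333, e3 q30872 L830002 q30448, e3 q30873 L834354 q31249, e3 q30874 L830018 q30347, e3 q30875 (flp_d L832494) q31092, e3 q30876 L830033 q30348, e3 q30877 (flp_d L833254) q31146, e3 q30878 L830053 q30342, e3 q30879 (flp_d L833551) q31174, e3 q30880 (flp_d L833297) q31151, e3 q30881 (flp_d L833524) q31171, e3 q30882 (flp_d L834442) q31259, e3 q30883 L830099 q30395, e3 q30884 (flp_d L831358) q31014, e3 q30885 (flp_d L834128) q31227, e3 q30886 L830135 q30374, e3 q30887 (flp_d L830137) q30358, e3 q30888 (flp_d L833855) q31202, e3 q30889 L832215 q31069, e3 q30890 (flp_d L830166) q30361, e3 q30891 (flp_d L834504) q31266, e3 q30892 (flp_d L832382) q31084, e3 q30893 L830193 q30363, e3 q30894 (flp_d L831302) q31011, e3 q30895 L832359 q31082, e3 q30896 L830213 q30367, e3 q30897 (flp_d L831227) q31006, e3 q30898 (flp_d L833950) q31210, e3 q30899 (flp_d L831269) q31009, e3 q30900 (flp_d L833817) q31199, e3 q30901 L830243 q30416, e3 q30902 (flp_d L834477) q31263,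 e3 q30903 L830258 q30495, e3 q30904 (flp_d L834254) q31240, e3 q30905 L830280 q30381, e3 q30906 L830286 q30383, e3 q30907 L830299 q30431, e3 q30908 (flp_d L834273) q31242, e3 q30909 (flp_d L830308) q30385, e3 q30910 (flp_d L834180) q31232, e3 q30911 L830338 q30472, trivial⟩ (by decide +kernel)

theorem ce_d_483 : ∀ r, r < 64 → sm gd (Qf (30912 + r)) = Qf (tab Gen.d (30912 + r)) :=
  edges_tab (sm gd) Qf (tab Gen.d) 30912 [(30912, 31034), (30913, 31119), (30914, 30460), (30915, 31107), (30916, 30458), (30917, 30402), (30918, 31010), (30919, 30408), (30920, 31022), (30921, 31213), (30922, 30414), (30923, 31274), (30924, 31059), (30925, 30418), (30926, 30423), (30927, 30420), (30928, 31124), (30929, 31290), (30930, 30428), (30931, 31252), (30932, 31293), (30933, 31278), (30934, 30497), (30935, 31173), (30936, 31117), (30937, 31170), (30938, 30436), (30939, 31128), (30940, 31200), (30941, 31040), (30942, 30449), (30943, 31098), (30944, 31256), (30945, 31300), (30946, 30450), (30947, 31110), (30948, 31079), (30949, 31166), (30950,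 30456), (30951, 31284), (30952, 31100), (30953, 31176), (30954, 31143), (30955, 31194), (30956, 31195), (30957, 31197), (30958, 30478), (30959, 31280), (30960, 31208), (30961, 30477), (30962, 31312), (30963, 31310), (30964, 31094), (30965, 31239), (30966, 30494), (30967, 30486), (30968, 31038), (30969, 30487), (30970, 31316), (30971, 30488), (30972, 31142), (30973, 31218), (30974, 31212), (30975, 31314)]
    ⟨e3 q30912 (flp_d L831667) q31034, e3 q30913 (flp_d L832876) q31119, e3 q30914 L830360 q30460, e3 q30915 (flp_d L832707) q31107, e3 q30916 L830373 q30458, e3 q30917 (flp_d L830377) q30402, e3 q30918 (flp_d L831294) q31010, e3 q30919 L830404 q30408, e3 q30920 (flp_d L831492) q31022, e3 q30921 (flp_d L833985) q31213, e3 q30922 (flp_d L830428) q30414, e3 q30923 (flp_d L834556) q31274, e3 q30924 (flp_d L832069) q31059, e3 q30925 (flp_d L830453) q30418, e3 q30926 L830468 q30423, e3 q30927 (flp_d L830470) q30420, e3 q30928 (flp_d L832959) q31124, e3 q30929 (flp_d L834709) q31290, e3 q30930 L830501 q30428, e3 q30931 (flp_d L834386)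 q31252, e3 q30932 (flp_d L834730) q31293, e3 q30933 (flp_d L834599) q31278, e3 q30934 L830520 q30497, e3 q30935 (flp_d L833539) q31173, e3 q30936 (flp_d L832835) q31117, e3 q30937 (flp_d L833510) q31170, e3 q30938 (flp_d L830538) q30436, e3 q30939 (flp_d L833018) q31128, e3 q30940 (flp_d L833827) q31200, e3 q30941 (flp_d L831753) q31040, e3 q30942 L830575 q30449, e3 q30943 (flp_d L832567) q31098, e3 q30944 (flp_d L834421) q31256, e3 q30945 (flp_d L834773) q31300, e3 q30946 (flp_d L830594) q30450, e3 q30947 (flp_d L832732) q31110, e3 q30948 L832326 q31079, e3 q30949 (flp_d L833471) q31166, e3 q30950 (flp_d L830623) q30456, e3 q30951 (flp_d L834652) q31284, e3 q30952 (flp_d L832600) q31100, e3 q30953 (flp_d L833572) q31176, e3 q30954 (flp_d L833222) q31143, e3 q30955 (flp_d L833750) q31194, e3 q30956 (flp_d L833754) q31195, e3 q30957 (flp_d L833790) q31197, e3 q30958 L830691 q30478, e3 q30959 (flp_d L834611) q31280, e3 q30960 (flp_d L833924) q31208, e3 q30961 L830710 q30477, e3 q30962 (flp_d L834857) q31312, e3 q30963 (flp_d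 L834843) q31310, e3 q30964 (flp_d L832518) q31094, e3 q30965 (flp_d L834237) q31239, e3 q30966 L830737 q30494, e3 q30967 L830745 q30486, e3 q30968 (flp_d L831729) q31038, e3 q30969 L830758 q30487, e3 q30970 (flp_d L834888) q31316, e3 q30971 (flp_d L830770) q30488, e3 q30972 (flp_d L833212) q31142, e3 q30973 (flp_d L834035) q31218, e3 q30974 (flp_d L833973) q31212, e3 q30975 (flp_d L834873) q31314, trivial⟩ (by decide +kernel)

theorem ce_d_484 : ∀ r, r < 64 → sm gd (Qf (30976 + r)) = Qf (tab Gen.d (30976 + r)) :=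
  edges_tab (sm gd) Qf (tab Gen.d) 30976 [(30976, 31276), (30977, 31162), (30978, 31321), (30979, 30498), (30980, 30575), (30981, 30504), (30982, 30773), (30983, 30540), (30984, 30507), (30985, 31325), (30986, 30509), (30987, 30589), (30988, 30512), (30989, 31328), (30990, 30718), (30991, 30514), (30992, 31332), (30993, 30678), (30994, 30516), (30995, 30517), (30996, 31334), (30997, 30711), (30998, 30519), (30999, 30707), (31000, 31339), (31001, 30522), (31002, 30684), (31003, 30624), (31004, 30774), (31005, 30550), (31006, 30897), (31007, 30551), (31008, 30529), (31009, 30899), (31010, 30918), (31011, 30894), (31012, 30609), (31013, 30535), (31014, 30884), (31015, 30757), (31016, 31323), (31017, 30541), (31018, 31349), (31019, 30620), (31020, 30543), (31021, 30599), (31022, 30920), (31023, 30546), (31024, 30791), (31025, 30796), (31026, 31343), (31027, 30588), (31028, 30559), (31029, 31357), (31030, 30615), (31031, 30561), (31032, 30612), (31033, 30594), (31034, 30912), (31035, 30565), (31036, 30573), (31037, 30809), (31038,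 30968), (31039, 30574)]
    ⟨e3 q30976 (flp_d L834578) q31276, e3 q30977 (flp_d L833421) q31162, e3 q30978 L834917 q31321, e3 q30979 (flp_d L830815) q30498, e3 q30980 L830827 q30575, e3 q30981 (flp_d L830839) q30504, e3 q30982 L830868 q30773, e3 q30983 L830882 q30540, e3 q30984 (flp_d L830886) q30507, e3 q30985 (flp_d L834981) q31325, e3 q30986 L830926 q30509, e3 q30987 L830944 q30589, e3 q30988 (flp_d L830956) q30512, e3 q30989 (flp_d L835035) q31328, e3 q30990 L831001 q30718, e3 q30991 L831007 q30514, e3 q30992 (flp_d L835094) q31332, e3 q30993 L831042 q30678, e3 q30994 L831053 q30516, e3 q30995 (flp_d L831065) q30517, e3 q30996 (flp_d L835126) q31334, e3 q30997 L831106 q30711, e3 q30998 L831112 q30519, e3 q30999 L831130 q30707, e3 q31000 (flp_d L835196) q31339, e3 q31001 L831153 q30522, e3 q31002 L831178 q30684, e3 q31003 L831188 q30624, e3 q31004 L831204 q30774, e3 q31005 L831216 q30550, e3 q31006 L831227 q30897, e3 q31007 L831233 q30551, e3 q31008 (flp_d L831243) q30529, e3 q31009 L831269 q30899, e3 q31010 L831294 q30918,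 e3 q31011 L831302 q30894, e3 q31012 L831322 q30609, e3 q31013 (flp_d L831332) q30535, e3 q31014 L831358 q30884, e3 q31015 L831384 q30757, e3 q31016 (flp_d L834952) q31323, e3 q31017 (flp_d L831404) q30541, e3 q31018 (flp_d L835360) q31349, e3 q31019 L831451 q30620, e3 q31020 L831457 q30543, e3 q31021 L831480 q30599, e3 q31022 L831492 q30920, e3 q31023 L831500 q30546, e3 q31024 L831513 q30791, e3 q31025 L831531 q30796, e3 q31026 (flp_d L835255) q31343, e3 q31027 L831559 q30588, e3 q31028 (flp_d L831569) q30559, e3 q31029 (flp_d L835473) q31357, e3 q31030 L831612 q30615, e3 q31031 L831618 q30561, e3 q31032 L831638 q30612, e3 q31033 L831653 q30594, e3 q31034 L831667 q30912, e3 q31035 L831675 q30565, e3 q31036 L831699 q30573, e3 q31037 L831706 q30809, e3 q31038 L831729 q30968, e3 q31039 L831735 q30574, trivial⟩ (by decide +kernel)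

theorem ce_d_485 : ∀ r, r < 64 → sm gd (Qf (31040 + r)) = Qf (tab Gen.d (31040 + r)) :=
  edges_tab (sm gd) Qf (tab Gen.d) 31040 [(31040, 30941), (31041, 31365), (31042, 30576), (31043, 30585), (31044, 30789), (31045, 30778), (31046, 30807), (31047, 31367), (31048, 30750), (31049, 30762), (31050, 30664), (31051, 31326), (31052, 30590), (31053, 31376), (31054, 30831), (31055, 30592), (31056, 31361), (31057, 30595), (31058, 31380), (31059, 30924), (31060, 30597), (31061, 31351), (31062, 30611), (31063, 30602), (31064, 31384), (31065, 30813), (31066, 30604), (31067, 30815), (31068, 30641), (31069, 30889), (31070, 31358), (31071, 31356), (31072, 30614), (31073, 31359), (31074, 30698), (31075, 31348), (31076, 30619), (31077, 30730), (31078, 31350), (31079, 30948), (31080, 30696), (31081, 30845), (31082, 30895), (31083, 30650), (31084, 30892), (31085, 30629), (31086, 31400), (31087, 30851), (31088, 30631), (31089, 30828), (31090, 30852), (31091, 30860), (31092, 30875), (31093, 30677), (31094, 30964), (31095, 30646), (31096, 30867),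 (31097, 31409), (31098, 30943), (31099, 30746), (31100, 30952), (31101, 30651), (31102, 30692), (31103, 30868)]
    ⟨e3 q31040 L831753 q30941, e3 q31041 (flp_d L835592) q31365, e3 q31042 (flp_d L831783) q30576, e3 q31043 L831816 q30585, e3 q31044 L831834 q30789, e3 q31045 L831852 q30778, e3 q31046 L831870 q30807, e3 q31047 (flp_d L835633) q31367, e3 q31048 L831898 q30750, e3 q31049 L831913 q30762, e3 q31050 L831919 q30664, e3 q31051 (flp_d L835001) q31326, e3 q31052 (flp_d L831947) q30590, e3 q31053 (flp_d L835778) q31376, e3 q31054 L831992 q30831, e3 q31055 L831998 q30592, e3 q31056 (flp_d L835537) q31361, e3 q31057 (flp_d L832024) q30595, e3 q31058 (flp_d L835843) q31380, e3 q31059 L832069 q30924, e3 q31060 L832075 q30597, e3 q31061 (flp_d L835397) q31351, e3 q31062 L832107 q30611, e3 q31063 (flp_d L832113) q30602, e3 q31064 (flp_d L835908) q31384, e3 q31065 L832160 q30813, e3 q31066 L832166 q30604, e3 q31067 L832184 q30815, e3 q31068 L832198 q30641, e3 q31069 (flp_d L832215) q30889, e3 q31070 (flp_d L835495) q31358, e3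 q31071 (flp_d L835465) q31356, e3 q31072 L832245 q30614, e3 q31073 (flp_d L835502) q31359, e3 q31074 L832266 q30698, e3 q31075 (flp_d L835352) q31348, e3 q31076 L832286 q30619, e3 q31077 L832302 q30730, e3 q31078 (flp_d L835375) q31350, e3 q31079 (flp_d L832326) q30948, e3 q31080 L832338 q30696, e3 q31081 L832344 q30845, e3 q31082 (flp_d L832359) q30895, e3 q31083 L832367 q30650, e3 q31084 L832382 q30892, e3 q31085 (flp_d L832392) q30629, e3 q31086 (flp_d L836123) q31400, e3 q31087 L832435 q30851, e3 q31088 L832441 q30631, e3 q31089 L832461 q30828, e3 q31090 L832473 q30852, e3 q31091 L832483 q30860, e3 q31092 L832494 q30875, e3 q31093 L832500 q30677, e3 q31094 L832518 q30964, e3 q31095 L832536 q30646, e3 q31096 L832554 q30867, e3 q31097 (flp_d L836240) q31409, e3 q31098 L832567 q30943, e3 q31099 L832587 q30746, e3 q31100 L832600 q30952, e3 q31101 (flp_d L832602) q30651, e3 q31102 L832635 q30692, e3 q31103 L832645 q30868, trivial⟩ (by decide +kernel)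

theorem ce_d_486 : ∀ r, r < 64 → sm gd (Qf (31104 + r)) = Qf (tab Gen.d (31104 + r)) :=
  edges_tab (sm gd) Qf (tab Gen.d) 31104 [(31104, 30654), (31105, 30697), (31106, 30728), (31107, 30915), (31108, 30869), (31109, 31418), (31110, 30947), (31111, 30660), (31112, 31396), (31113, 30662), (31114, 31373), (31115, 30755), (31116, 30665), (31117, 30936), (31118, 30738), (31119, 30913), (31120, 30800), (31121, 30672), (31122, 30675), (31123, 31406), (31124, 30928), (31125, 31331), (31126, 30679), (31127, 31428), (31128, 30939), (31129, 30681), (31130, 30787), (31131, 31340), (31132, 30795), (31133, 30870), (31134, 30695), (31135, 31413), (31136, 30691), (31137, 30763), (31138, 30770), (31139, 31395), (31140, 31390), (31141, 30700), (31142, 30972), (31143, 30954), (31144, 30705), (31145, 31335), (31146, 30877), (31147, 31333), (31148, 30710), (31149, 31442), (31150, 31337), (31151, 30880), (31152, 30713), (31153, 31327), (31154, 30717), (31155, 30838), (31156, 31448), (31157, 31330), (31158, 31360), (31159, 30721), (31160, 30834),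 (31161, 30767), (31162, 30977), (31163, 31415), (31164, 30745), (31165, 31402), (31166, 30949), (31167, 30741)]
    ⟨e3 q31104 L832653 q30654, e3 q31105 L832677 q30697, e3 q31106 L832684 q30728, e3 q31107 L832707 q30915, e3 q31108 L832711 q30869, e3 q31109 L836375 q31418, e3 q31110 L832732 q30947, e3 q31111 (flp_d L832738) q30660, e3 q31112 (flp_d L836074) q31396, e3 q31113 (flp_d L832760) q30662, e3 q31114 (flp_d L835727) q31373, e3 q31115 L832807 q30755, e3 q31116 (flp_d L832809) q30665, e3 q31117 L832835 q30936, e3 q31118 L832862 q30738, e3 q31119 L832876 q30913, e3 q31120 L832890 q30800, e3 q31121 L832902 q30672, e3 q31122 (flp_d L832914) q30675, e3 q31123 (flp_d L836204) q31406, e3 q31124 L832959 q30928, e3 q31125 (flp_d L835084) q31331, e3 q31126 (flp_d L832977) q30679, e3 q31127 (flp_d L836530) q31428, e3 q31128 L833018 q30939, e3 q31129 L833024 q30681, e3 q31130 L833042 q30787, e3 q31131 (flp_d L835220) q31340, e3 q31132 L833068 q30795, e3 q31133 L833088 q30870, e3 q31134 L833102 q30695, e3 q31135 (flp_d L836321)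 q31413, e3 q31136 L833118 q30691, e3 q31137 L833131 q30763, e3 q31138 L833149 q30770, e3 q31139 (flp_d L836057) q31395, e3 q31140 (flp_d L835991) q31390, e3 q31141 (flp_d L833187) q30700, e3 q31142 L833212 q30972, e3 q31143 L833222 q30954, e3 q31144 L833230 q30705, e3 q31145 (flp_d L835146) q31335, e3 q31146 L833254 q30877, e3 q31147 (flp_d L835118) q31333, e3 q31148 L833274 q30710, e3 q31149 (flp_d L836704) q31442, e3 q31150 (flp_d L835171) q31337, e3 q31151 L833297 q30880, e3 q31152 L833307 q30713, e3 q31153 (flp_d L835027) q31327, e3 q31154 L833331 q30717, e3 q31155 L833345 q30838, e3 q31156 (flp_d L836773) q31448, e3 q31157 (flp_d L835066) q31330, e3 q31158 (flp_d L835523) q31360, e3 q31159 L833379 q30721, e3 q31160 L833399 q30834, e3 q31161 L833411 q30767, e3 q31162 L833421 q30977, e3 q31163 (flp_d L836340) q31415, e3 q31164 L833442 q30745, e3 q31165 (flp_d L836152) q31402, e3 q31166 L833471 q30949, e3 q31167 L833487 q30741, trivial⟩ (by decide +kernel)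

theorem ce_d_487 : ∀ r, r < 64 → sm gd (Qf (31168 + r)) = Qf (tab Gen.d (31168 + r)) :=
  edges_tab (sm gd) Qf (tab Gen.d) 31168 [(31168, 31422), (31169, 30737), (31170, 30937), (31171, 30881), (31172, 31455), (31173, 30935), (31174, 30879), (31175, 31403), (31176, 30953), (31177, 30759), (31178, 31421), (31179, 30754), (31180, 31347), (31181, 31374), (31182, 31338), (31183, 30858), (31184, 31463), (31185, 31372), (31186, 31434), (31187, 30768), (31188, 30771), (31189, 30840), (31190, 31385), (31191, 31435), (31192, 31322), (31193, 31341), (31194, 30955), (31195, 30956), (31196, 31369), (31197, 30957), (31198, 30797), (31199, 30900), (31200, 30940), (31201, 30783), (31202, 30888), (31203, 31429), (31204, 30817), (31205, 31324), (31206, 31368), (31207, 31353), (31208, 30960), (31209, 31354), (31210, 30898), (31211, 31424), (31212, 30974), (31213, 30921), (31214, 30824), (31215, 30839), (31216, 31370), (31217, 31363), (31218, 30973), (31219, 31383), (31220, 30857), (31221, 31420), (31222, 31386), (31223, 31478), (31224, 30859),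 (31225, 31431), (31226, 30820), (31227, 30885), (31228, 30835), (31229, 31401), (31230, 31375), (31231, 30830)]
    ⟨e3 q31168 (flp_d L836444) q31422, e3 q31169 L833501 q30737, e3 q31170 L833510 q30937, e3 q31171 L833524 q30881, e3 q31172 (flp_d L836859) q31455, e3 q31173 L833539 q30935, e3 q31174 L833551 q30879, e3 q31175 (flp_d L836173) q31403, e3 q31176 L833572 q30953, e3 q31177 L833584 q30759, e3 q31178 (flp_d L836426) q31421, e3 q31179 L833598 q30754, e3 q31180 (flp_d L835334) q31347, e3 q31181 (flp_d L835744) q31374, e3 q31182 (flp_d L835190) q31338, e3 q31183 L833632 q30858, e3 q31184 (flp_d L836950) q31463, e3 q31185 L835719 q31372, e3 q31186 (flp_d L836613) q31434, e3 q31187 L833665 q30768, e3 q31188 L833673 q30771, e3 q31189 L833688 q30840, e3 q31190 (flp_d L835923) q31385, e3 q31191 (flp_d L836633) q31435, e3 q31192 (flp_d L834936) q31322, e3 q31193 (flp_d L835226) q31341, e3 q31194 L833750 q30955, e3 q31195 L833754 q30956, e3 q31196 (flp_d L835656) q31369, e3 q31197 L833790 q30957, e3 q31198 L833804 q30797, e3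 q31199 L833817 q30900, e3 q31200 L833827 q30940, e3 q31201 L833835 q30783, e3 q31202 L833855 q30888, e3 q31203 (flp_d L836550) q31429, e3 q31204 L833876 q30817, e3 q31205 (flp_d L834969) q31324, e3 q31206 (flp_d L835637) q31368, e3 q31207 (flp_d L835418) q31353, e3 q31208 L833924 q30960, e3 q31209 (flp_d L835438) q31354, e3 q31210 L833950 q30898, e3 q31211 (flp_d L836463) q31424, e3 q31212 L833973 q30974, e3 q31213 L833985 q30921, e3 q31214 L833997 q30824, e3 q31215 L834008 q30839, e3 q31216 (flp_d L835675) q31370, e3 q31217 (flp_d L835560) q31363, e3 q31218 L834035 q30973, e3 q31219 (flp_d L835900) q31383, e3 q31220 L834053 q30857, e3 q31221 (flp_d L836410) q31420, e3 q31222 (flp_d L835935) q31386, e3 q31223 (flp_d L837123) q31478, e3 q31224 L834083 q30859, e3 q31225 (flp_d L836575) q31431, e3 q31226 L834106 q30820, e3 q31227 L834128 q30885, e3 q31228 L834138 q30835, e3 q31229 (flp_d L836145) q31401, e3 q31230 (flp_d L835770) q31375, e3 q31231 L834166 q30830, trivial⟩ (by decide +kernel)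

theorem ce_d_488 : ∀ r, r < 64 → sm gd (Qf (31232 + r)) = Qf (tab Gen.d (31232 + r)) :=
  edges_tab (sm gd) Qf (tab Gen.d) 31232 [(31232, 30910), (31233, 31449), (31234, 31378), (31235, 31436), (31236, 31492), (31237, 31485), (31238, 31471), (31239, 30965), (31240, 30904), (31241, 30861), (31242, 30908), (31243, 31500), (31244, 30846), (31245, 31502), (31246, 30849), (31247, 31399), (31248, 31404), (31249, 30873), (31250, 31467), (31251, 30863), (31252, 30931), (31253, 31410), (31254, 31414), (31255, 31432), (31256, 30944), (31257, 31504), (31258, 31405), (31259, 30882), (31260, 31407), (31261, 31441), (31262, 31458), (31263, 30902), (31264, 31387), (31265, 31398), (31266, 30891), (31267, 31346), (31268, 31344), (31269, 31355), (31270, 31397), (31271, 31342), (31272, 31482), (31273, 31476), (31274, 30923), (31275, 31382), (31276, 30976), (31277, 31498), (31278, 30933), (31279, 31499), (31280, 30959), (31281, 31362), (31282, 31423), (31283, 31416), (31284, 30951), (31285, 31391), (31286, 31345), (31287, 31352), (31288, 31484),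 (31289, 31379), (31290, 30929), (31291, 31425), (31292, 31522), (31293, 30932), (31294, 31505), (31295, 31516)]
    ⟨e3 q31232 L834180 q30910, e3 q31233 (flp_d L836793) q31449, e3 q31234 (flp_d L835811) q31378, e3 q31235 (flp_d L836646) q31436, e3 q31236 (flp_d L837284) q31492, e3 q31237 (flp_d L837222) q31485, e3 q31238 (flp_d L837033) q31471, e3 q31239 L834237 q30965, e3 q31240 L834254 q30904, e3 q31241 L834260 q30861, e3 q31242 L834273 q30908, e3 q31243 L837363 q31500, e3 q31244 (flp_d L834288) q30846, e3 q31245 (flp_d L837387) q31502, e3 q31246 L834313 q30849, e3 q31247 (flp_d L836115) q31399, e3 q31248 (flp_d L836177) q31404, e3 q31249 (flp_d L834354) q30873, e3 q31250 (flp_d L836994) q31467, e3 q31251 L834370 q30863, e3 q31252 L834386 q30931, e3 q31253 (flp_d L836259) q31410, e3 q31254 (flp_d L836325) q31414, e3 q31255 (flp_d L836585) q31432, e3 q31256 L834421 q30944, e3 q31257 L837421 q31504, e3 q31258 (flp_d L836196) q31405, e3 q31259 L834442 q30882, e3 q31260 (flp_d L836217) q31407, e3 q31261 (flp_d L836694) q31441,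 e3 q31262 (flp_d L836901) q31458, e3 q31263 L834477 q30902, e3 q31264 L835956 q31387, e3 q31265 (flp_d L836093) q31398, e3 q31266 L834504 q30891, e3 q31267 (flp_d L835306) q31346, e3 q31268 (flp_d L835270) q31344, e3 q31269 (flp_d L835451) q31355, e3 q31270 L836085 q31397, e3 q31271 (flp_d L835247) q31342, e3 q31272 (flp_d L837171) q31482, e3 q31273 (flp_d L837104) q31476, e3 q31274 L834556 q30923, e3 q31275 (flp_d L835876) q31382, e3 q31276 L834578 q30976, e3 q31277 (flp_d L837347) q31498, e3 q31278 L834599 q30933, e3 q31279 (flp_d L837355) q31499, e3 q31280 L834611 q30959, e3 q31281 (flp_d L835543) q31362, e3 q31282 (flp_d L836448) q31423, e3 q31283 (flp_d L836364) q31416, e3 q31284 L834652 q30951, e3 q31285 L836008 q31391, e3 q31286 (flp_d L835296) q31345, e3 q31287 (flp_d L835403) q31352, e3 q31288 (flp_d L837201) q31484, e3 q31289 (flp_d L835835) q31379, e3 q31290 L834709 q30929, e3 q31291 (flp_d L836490) q31425, e3 q31292 (flp_d L837577) q31522, e3 q31293 L834730 q30932, e3 q31294 (flp_d L837425) q31505, e3 q31295 (flp_d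 L837529) q31516, trivial⟩ (by decide +kernel)

theorem ce_d_489 : ∀ r, r < 64 → sm gd (Qf (31296 + r)) = Qf (tab Gen.d (31296 + r)) :=
  edges_tab (sm gd) Qf (tab Gen.d) 31296 [(31296, 31460), (31297, 31457), (31298, 31427), (31299, 31477), (31300, 30945), (31301, 31411), (31302, 31506), (31303, 31394), (31304, 31454), (31305, 31412), (31306, 31462), (31307, 31438), (31308, 31474), (31309, 31475), (31310, 30963), (31311, 31481), (31312, 30962), (31313, 31408), (31314, 30975), (31315, 31364), (31316, 30970), (31317, 31366), (31318, 31437), (31319, 31487), (31320, 31483), (31321, 30978), (31322, 31192), (31323, 31016), (31324, 31205), (31325, 30985), (31326, 31051), (31327, 31153), (31328, 30989), (31329, 31536), (31330, 31157), (31331, 31125), (31332, 30992), (31333, 31147), (31334, 30996), (31335, 31145), (31336, 31542), (31337, 31150), (31338, 31182), (31339, 31000), (31340, 31131), (31341, 31193), (31342, 31271), (31343, 31026), (31344, 31268), (31345, 31286), (31346, 31267), (31347, 31180), (31348, 31075), (31349, 31018),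 (31350, 31078), (31351, 31061), (31352, 31287), (31353, 31207), (31354, 31209), (31355, 31269), (31356, 31071), (31357, 31029), (31358, 31070), (31359, 31073)]
    ⟨e3 q31296 (flp_d L836923) q31460, e3 q31297 (flp_d L836887) q31457, e3 q31298 (flp_d L836522) q31427, e3 q31299 (flp_d L837108) q31477, e3 q31300 L834773 q30945, e3 q31301 (flp_d L836283) q31411, e3 q31302 (flp_d L837436) q31506, e3 q31303 L836043 q31394, e3 q31304 (flp_d L836846) q31454, e3 q31305 (flp_d L836303) q31412, e3 q31306 (flp_d L836939) q31462, e3 q31307 (flp_d L836664) q31438, e3 q31308 (flp_d L837062) q31474, e3 q31309 (flp_d L837079) q31475, e3 q31310 L834843 q30963, e3 q31311 (flp_d L837154) q31481, e3 q31312 L834857 q30962, e3 q31313 (flp_d L836227) q31408, e3 q31314 L834873 q30975, e3 q31315 (flp_d L835584) q31364, e3 q31316 L834888 q30970, e3 q31317 (flp_d L835607) q31366, e3 q31318 (flp_d L836660) q31437, e3 q31319 (flp_d L837235) q31487, e3 q31320 (flp_d L837188) q31483, e3 q31321 (flp_d L834917) q30978, e3 q31322 L834936 q31192, e3 q31323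 L834952 q31016, e3 q31324 L834969 q31205, e3 q31325 L834981 q30985, e3 q31326 L835001 q31051, e3 q31327 L835027 q31153, e3 q31328 L835035 q30989, e3 q31329 (flp_d L837735) q31536, e3 q31330 L835066 q31157, e3 q31331 L835084 q31125, e3 q31332 L835094 q30992, e3 q31333 L835118 q31147, e3 q31334 L835126 q30996, e3 q31335 L835146 q31145, e3 q31336 (flp_d L837830) q31542, e3 q31337 L835171 q31150, e3 q31338 L835190 q31182, e3 q31339 L835196 q31000, e3 q31340 L835220 q31131, e3 q31341 L835226 q31193, e3 q31342 L835247 q31271, e3 q31343 L835255 q31026, e3 q31344 L835270 q31268, e3 q31345 L835296 q31286, e3 q31346 L835306 q31267, e3 q31347 L835334 q31180, e3 q31348 L835352 q31075, e3 q31349 L835360 q31018, e3 q31350 L835375 q31078, e3 q31351 L835397 q31061, e3 q31352 L835403 q31287, e3 q31353 L835418 q31207, e3 q31354 L835438 q31209, e3 q31355 L835451 q31269, e3 q31356 L835465 q31071, e3 q31357 L835473 q31029, e3 q31358 L835495 q31070, e3 q31359 L835502 q31073, trivial⟩ (by decide +kernel)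

theorem ce_d_490 : ∀ r, r < 64 → sm gd (Qf (31360 + r)) = Qf (tab Gen.d (31360 + r)) :=
  edges_tab (sm gd) Qf (tab Gen.d) 31360 [(31360, 31158), (31361, 31056), (31362, 31281), (31363, 31217), (31364, 31315), (31365, 31041), (31366, 31317), (31367, 31047), (31368, 31206), (31369, 31196), (31370, 31216), (31371, 31563), (31372, 31185), (31373, 31114), (31374, 31181), (31375, 31230), (31376, 31053), (31377, 31558), (31378, 31234), (31379, 31289), (31380, 31058), (31381, 31551), (31382, 31275), (31383, 31219), (31384, 31064), (31385, 31190), (31386, 31222), (31387, 31264), (31388, 31555), (31389, 31556), (31390, 31140), (31391, 31285), (31392, 31549), (31393, 31550), (31394, 31303), (31395, 31139), (31396, 31112), (31397, 31270), (31398, 31265), (31399, 31247), (31400, 31086), (31401, 31229), (31402, 31165), (31403, 31175), (31404, 31248), (31405, 31258), (31406, 31123), (31407, 31260), (31408, 31313), (31409, 31097), (31410, 31253), (31411, 31301), (31412, 31305), (31413, 31135), (31414, 31254), (31415, 31163), (31416, 31283),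 (31417, 31588), (31418, 31109), (31419, 31577), (31420, 31221), (31421, 31178), (31422, 31168), (31423, 31282)]
    ⟨e3 q31360 L835523 q31158, e3 q31361 L835537 q31056, e3 q31362 L835543 q31281, e3 q31363 L835560 q31217, e3 q31364 L835584 q31315, e3 q31365 L835592 q31041, e3 q31366 L835607 q31317, e3 q31367 L835633 q31047, e3 q31368 L835637 q31206, e3 q31369 L835656 q31196, e3 q31370 L835675 q31216, e3 q31371 (flp_d L838171) q31563, e3 q31372 (flp_d L835719) q31185, e3 q31373 L835727 q31114, e3 q31374 L835744 q31181, e3 q31375 L835770 q31230, e3 q31376 L835778 q31053, e3 q31377 (flp_d L838098) q31558, e3 q31378 L835811 q31234, e3 q31379 L835835 q31289, e3 q31380 L835843 q31058, e3 q31381 (flp_d L837989) q31551, e3 q31382 L835876 q31275, e3 q31383 L835900 q31219, e3 q31384 L835908 q31064, e3 q31385 L835923 q31190, e3 q31386 L835935 q31222, e3 q31387 (flp_d L835956) q31264, e3 q31388 (flp_d L838041) q31555, e3 q31389 (flp_d L838060) q31556, e3 q31390 L835991 q31140, e3 q31391 (flp_d L836008) q31285, e3 q31392 (flp_d L837944)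 q31549, e3 q31393 (flp_d L837965) q31550, e3 q31394 (flp_d L836043) q31303, e3 q31395 L836057 q31139, e3 q31396 L836074 q31112, e3 q31397 (flp_d L836085) q31270, e3 q31398 L836093 q31265, e3 q31399 L836115 q31247, e3 q31400 L836123 q31086, e3 q31401 L836145 q31229, e3 q31402 L836152 q31165, e3 q31403 L836173 q31175, e3 q31404 L836177 q31248, e3 q31405 L836196 q31258, e3 q31406 L836204 q31123, e3 q31407 L836217 q31260, e3 q31408 L836227 q31313, e3 q31409 L836240 q31097, e3 q31410 L836259 q31253, e3 q31411 L836283 q31301, e3 q31412 L836303 q31305, e3 q31413 L836321 q31135, e3 q31414 L836325 q31254, e3 q31415 L836340 q31163, e3 q31416 L836364 q31283, e3 q31417 L838561 q31588, e3 q31418 (flp_d L836375) q31109, e3 q31419 L838404 q31577, e3 q31420 L836410 q31221, e3 q31421 L836426 q31178, e3 q31422 L836444 q31168, e3 q31423 L836448 q31282, trivial⟩ (by decide +kernel)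

theorem ce_d_491 : ∀ r, r < 64 → sm gd (Qf (31424 + r)) = Qf (tab Gen.d (31424 + r)) :=
  edges_tab (sm gd) Qf (tab Gen.d) 31424 [(31424, 31211), (31425, 31291), (31426, 31535), (31427, 31298), (31428, 31127), (31429, 31203), (31430, 31543), (31431, 31225), (31432, 31255), (31433, 31585), (31434, 31186), (31435, 31191), (31436, 31235), (31437, 31318), (31438, 31307), (31439, 31539), (31440, 31540), (31441, 31261), (31442, 31149), (31443, 31552), (31444, 31544), (31445, 31533), (31446, 31534), (31447, 31557), (31448, 31156), (31449, 31233), (31450, 31538), (31451, 31559), (31452, 31586), (31453, 31580), (31454, 31304), (31455, 31172), (31456, 31592), (31457, 31297), (31458, 31262), (31459, 31537), (31460, 31296), (31461, 31581), (31462, 31306), (31463, 31184), (31464, 31591), (31465, 31565), (31466, 31541), (31467, 31250), (31468, 31545), (31469, 31564), (31470, 31596), (31471, 31238), (31472, 31571), (31473, 31531), (31474, 31308), (31475, 31309), (31476, 31273), (31477, 31299), (31478, 31223), (31479, 31532), (31480, 31553),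 (31481, 31311), (31482, 31272), (31483, 31320), (31484, 31288), (31485, 31237), (31486, 31560), (31487, 31319)]
    ⟨e3 q31424 L836463 q31211, e3 q31425 L836490 q31291, e3 q31426 (flp_d L837723) q31535, e3 q31427 L836522 q31298, e3 q31428 L836530 q31127, e3 q31429 L836550 q31203, e3 q31430 (flp_d L837856) q31543, e3 q31431 L836575 q31225, e3 q31432 L836585 q31255, e3 q31433 (flp_d L838510) q31585, e3 q31434 L836613 q31186, e3 q31435 L836633 q31191, e3 q31436 L836646 q31235, e3 q31437 L836660 q31318, e3 q31438 L836664 q31307, e3 q31439 (flp_d L837783) q31539, e3 q31440 (flp_d L837802) q31540, e3 q31441 L836694 q31261, e3 q31442 L836704 q31149, e3 q31443 (flp_d L838006) q31552, e3 q31444 (flp_d L837865) q31544, e3 q31445 (flp_d L837682) q31533, e3 q31446 (flp_d L837703) q31534, e3 q31447 (flp_d L838082) q31557, e3 q31448 L836773 q31156, e3 q31449 L836793 q31233, e3 q31450 (flp_d L837769) q31538, e3 q31451 (flp_d L838115) q31559, e3 q31452 (flp_d L838534) q31586, e3 q31453 (flp_d L838444) q31580, e3 q31454 L836846 q31304, e3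 q31455 L836859 q31172, e3 q31456 (flp_d L838618) q31592, e3 q31457 L836887 q31297, e3 q31458 L836901 q31262, e3 q31459 (flp_d L837758) q31537, e3 q31460 L836923 q31296, e3 q31461 (flp_d L838466) q31581, e3 q31462 L836939 q31306, e3 q31463 L836950 q31184, e3 q31464 (flp_d L838601) q31591, e3 q31465 (flp_d L838211) q31565, e3 q31466 (flp_d L837822) q31541, e3 q31467 L836994 q31250, e3 q31468 (flp_d L837890) q31545, e3 q31469 (flp_d L838203) q31564, e3 q31470 (flp_d L838688) q31596, e3 q31471 L837033 q31238, e3 q31472 (flp_d L838312) q31571, e3 q31473 (flp_d L837647) q31531, e3 q31474 L837062 q31308, e3 q31475 L837079 q31309, e3 q31476 L837104 q31273, e3 q31477 L837108 q31299, e3 q31478 L837123 q31223, e3 q31479 (flp_d L837676) q31532, e3 q31480 (flp_d L838017) q31553, e3 q31481 L837154 q31311, e3 q31482 L837171 q31272, e3 q31483 L837188 q31320, e3 q31484 L837201 q31288, e3 q31485 L837222 q31237, e3 q31486 (flp_d L838126) q31560, e3 q31487 L837235 q31319, trivial⟩ (by decide +kernel)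

theorem ce_d_492 : ∀ r, r < 64 → sm gd (Qf (31488 + r)) = Qf (tab Gen.d (31488 + r)) :=
  edges_tab (sm gd) Qf (tab Gen.d) 31488 [(31488, 31570), (31489, 31590), (31490, 31616), (31491, 31595), (31492, 31236), (31493, 31566), (31494, 31567), (31495, 31597), (31496, 31618), (31497, 31613), (31498, 31277), (31499, 31279), (31500, 31243), (31501, 31624), (31502, 31245), (31503, 31579), (31504, 31257), (31505, 31294), (31506, 31302), (31507, 31582), (31508, 31583), (31509, 31572), (31510, 31578), (31511, 31547), (31512, 31554), (31513, 31546), (31514, 31615), (31515, 31569), (31516, 31295), (31517, 31623), (31518, 31587), (31519, 31574), (31520, 31548), (31521, 31568), (31522, 31292), (31523, 31593), (31524, 31607), (31525, 31594), (31526, 31576), (31527, 31584), (31528, 31561), (31529, 31562), (31530, 31598), (31531, 31473), (31532, 31479), (31533, 31445), (31534, 31446), (31535, 31426), (31536, 31329), (31537, 31459), (31538, 31450), (31539, 31439), (31540, 31440), (31541, 31466), (31542, 31336), (31543, 31430), (31544, 31444),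 (31545, 31468), (31546, 31513), (31547, 31511), (31548, 31520), (31549, 31392), (31550, 31393), (31551, 31381)]
    ⟨e3 q31488 (flp_d L838291) q31570, e3 q31489 (flp_d L838597) q31590, e3 q31490 (flp_d L838921) q31616, e3 q31491 (flp_d L838673) q31595, e3 q31492 L837284 q31236, e3 q31493 (flp_d L838225) q31566, e3 q31494 (flp_d L838246) q31567, e3 q31495 (flp_d L838708) q31597, e3 q31496 (flp_d L838953) q31618, e3 q31497 (flp_d L838886) q31613, e3 q31498 L837347 q31277, e3 q31499 L837355 q31279, e3 q31500 (flp_d L837363) q31243, e3 q31501 (flp_d L839009) q31624, e3 q31502 L837387 q31245, e3 q31503 (flp_d L838425) q31579, e3 q31504 (flp_d L837421) q31257, e3 q31505 L837425 q31294, e3 q31506 L837436 q31302, e3 q31507 (flp_d L838477) q31582, e3 q31508 (flp_d L838485) q31583, e3 q31509 L838335 q31572, e3 q31510 (flp_d L838413) q31578, e3 q31511 (flp_d L837913) q31547, e3 q31512 (flp_d L838037) q31554, e3 q31513 (flp_d L837905) q31546, e3 q31514 (flp_d L838912) q31615, e3 q31515 (flp_d L838279) q31569, e3 q31516 L837529 q31295,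 e3 q31517 (flp_d L838996) q31623, e3 q31518 (flp_d L838559) q31587, e3 q31519 (flp_d L838362) q31574, e3 q31520 (flp_d L837925) q31548, e3 q31521 (flp_d L838258) q31568, e3 q31522 L837577 q31292, e3 q31523 (flp_d L838637) q31593, e3 q31524 (flp_d L838820) q31607, e3 q31525 (flp_d L838654) q31594, e3 q31526 L838388 q31576, e3 q31527 (flp_d L838506) q31584, e3 q31528 (flp_d L838151) q31561, e3 q31529 (flp_d L838159) q31562, e3 q31530 (flp_d L838712) q31598, e3 q31531 L837647 q31473, e3 q31532 L837676 q31479, e3 q31533 L837682 q31445, e3 q31534 L837703 q31446, e3 q31535 L837723 q31426, e3 q31536 L837735 q31329, e3 q31537 L837758 q31459, e3 q31538 L837769 q31450, e3 q31539 L837783 q31439, e3 q31540 L837802 q31440, e3 q31541 L837822 q31466, e3 q31542 L837830 q31336, e3 q31543 L837856 q31430, e3 q31544 L837865 q31444, e3 q31545 L837890 q31468, e3 q31546 L837905 q31513, e3 q31547 L837913 q31511, e3 q31548 L837925 q31520, e3 q31549 L837944 q31392, e3 q31550 L837965 q31393, e3 q31551 L837989 q31381, trivial⟩ (by decide +kernel)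

theorem ce_d_493 : ∀ r, r < 64 → sm gd (Qf (31552 + r)) = Qf (tab Gen.d (31552 + r)) :=
  edges_tab (sm gd) Qf (tab Gen.d) 31552 [(31552, 31443), (31553, 31480), (31554, 31512), (31555, 31388), (31556, 31389), (31557, 31447), (31558, 31377), (31559, 31451), (31560, 31486), (31561, 31528), (31562, 31529), (31563, 31371), (31564, 31469), (31565, 31465), (31566, 31493), (31567, 31494), (31568, 31521), (31569, 31515), (31570, 31488), (31571, 31472), (31572, 31509), (31573, 31643), (31574, 31519), (31575, 31640), (31576, 31526), (31577, 31419), (31578, 31510), (31579, 31503), (31580, 31453), (31581, 31461), (31582, 31507), (31583, 31508), (31584, 31527), (31585, 31433), (31586, 31452), (31587, 31518), (31588, 31417), (31589, 31652), (31590, 31489), (31591, 31464), (31592, 31456), (31593, 31523), (31594, 31525), (31595, 31491), (31596, 31470), (31597, 31495), (31598, 31530), (31599, 31635), (31600, 31641), (31601, 31637), (31602, 31632), (31603, 31644), (31604, 31634), (31605, 31645), (31606, 31653), (31607, 31524), (31608, 31633),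 (31609, 31654), (31610, 31647), (31611, 31636), (31612, 31638), (31613, 31497), (31614, 31650), (31615, 31514)]
    ⟨e3 q31552 L838006 q31443, e3 q31553 L838017 q31480, e3 q31554 L838037 q31512, e3 q31555 L838041 q31388, e3 q31556 L838060 q31389, e3 q31557 L838082 q31447, e3 q31558 L838098 q31377, e3 q31559 L838115 q31451, e3 q31560 L838126 q31486, e3 q31561 L838151 q31528, e3 q31562 L838159 q31529, e3 q31563 L838171 q31371, e3 q31564 L838203 q31469, e3 q31565 L838211 q31465, e3 q31566 L838225 q31493, e3 q31567 L838246 q31494, e3 q31568 L838258 q31521, e3 q31569 L838279 q31515, e3 q31570 L838291 q31488, e3 q31571 L838312 q31472, e3 q31572 (flp_d L838335) q31509, e3 q31573 (flp_d L839273) q31643, e3 q31574 L838362 q31519, e3 q31575 (flp_d L839223) q31640, e3 q31576 (flp_d L838388) q31526, e3 q31577 (flp_d L838404) q31419, e3 q31578 L838413 q31510, e3 q31579 L838425 q31503, e3 q31580 L838444 q31453, e3 q31581 L838466 q31461, e3 q31582 L838477 q31507, e3 q31583 L838485 q31508, e3 q31584 L838506 q31527, e3 q31585 L838510 q31433,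 e3 q31586 L838534 q31452, e3 q31587 L838559 q31518, e3 q31588 (flp_d L838561) q31417, e3 q31589 (flp_d L839435) q31652, e3 q31590 L838597 q31489, e3 q31591 L838601 q31464, e3 q31592 L838618 q31456, e3 q31593 L838637 q31523, e3 q31594 L838654 q31525, e3 q31595 L838673 q31491, e3 q31596 L838688 q31470, e3 q31597 L838708 q31495, e3 q31598 L838712 q31530, e3 q31599 (flp_d L839140) q31635, e3 q31600 (flp_d L839247) q31641, e3 q31601 (flp_d L839169) q31637, e3 q31602 (flp_d L839089) q31632, e3 q31603 (flp_d L839296) q31644, e3 q31604 (flp_d L839121) q31634, e3 q31605 (flp_d L839312) q31645, e3 q31606 (flp_d L839444) q31653, e3 q31607 L838820 q31524, e3 q31608 (flp_d L839109) q31633, e3 q31609 (flp_d L839467) q31654, e3 q31610 (flp_d L839340) q31647, e3 q31611 (flp_d L839161) q31636, e3 q31612 (flp_d L839195) q31638, e3 q31613 L838886 q31497, e3 q31614 (flp_d L839393) q31650, e3 q31615 L838912 q31514, trivial⟩ (by decide +kernel)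

theorem ce_d_494 : ∀ r, r < 55 → sm gd (Qf (31616 + r)) = Qf (tab Gen.d (31616 + r)) :=
  edges_tab (sm gd) Qf (tab Gen.d) 31616 [(31616, 31490), (31617, 31631), (31618, 31496), (31619, 31656), (31620, 31657), (31621, 31648), (31622, 31658), (31623, 31517), (31624, 31501), (31625, 31655), (31626, 31639), (31627, 31642), (31628, 31649), (31629, 31651), (31630, 31646), (31631, 31617), (31632, 31602), (31633, 31608), (31634, 31604), (31635, 31599), (31636, 31611), (31637, 31601), (31638, 31612), (31639, 31626), (31640, 31575), (31641, 31600), (31642, 31627), (31643, 31573), (31644, 31603), (31645, 31605), (31646, 31630), (31647, 31610), (31648, 31621), (31649, 31628), (31650, 31614), (31651, 31629), (31652, 31589), (31653, 31606), (31654, 31609), (31655, 31625), (31656, 31619), (31657, 31620), (31658, 31622), (31659, 31669), (31660, 31667), (31661, 31666), (31662, 31670), (31663, 31665), (31664, 31668), (31665, 31663), (31666, 31661), (31667, 31660), (31668, 31664), (31669, 31659), (31670, 31662)]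
    ⟨e3 q31616 L838921 q31490, e3 q31617 (flp_d L839078) q31631, e3 q31618 L838953 q31496, e3 q31619 (flp_d L839497) q31656, e3 q31620 (flp_d L839506) q31657, e3 q31621 (flp_d L839359) q31648, e3 q31622 (flp_d L839527) q31658, e3 q31623 L838996 q31517, e3 q31624 L839009 q31501, e3 q31625 (flp_d L839476) q31655, e3 q31626 (flp_d L839206) q31639, e3 q31627 (flp_d L839264) q31642, e3 q31628 (flp_d L839376) q31649, e3 q31629 (flp_d L839418) q31651, e3 q31630 (flp_d L839323) q31646, e3 q31631 L839078 q31617, e3 q31632 L839089 q31602, e3 q31633 L839109 q31608, e3 q31634 L839121 q31604, e3 q31635 L839140 q31599, e3 q31636 L839161 q31611, e3 q31637 L839169 q31601, e3 q31638 L839195 q31612, e3 q31639 L839206 q31626, e3 q31640 L839223 q31575, e3 q31641 L839247 q31600, e3 q31642 L839264 q31627, e3 q31643 L839273 q31573, e3 q31644 L839296 q31603, e3 q31645 L839312 q31605, e3 q31646 L839323 q31630, e3 q31647 L839340 q31610, e3 q31648 L839359 q31621, e3 q31649 L839376 q31628, e3 q31650 L839393 q31614, e3 q31651 L839418 q31629, e3 q31652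 L839435 q31589, e3 q31653 L839444 q31606, e3 q31654 L839467 q31609, e3 q31655 L839476 q31625, e3 q31656 L839497 q31619, e3 q31657 L839506 q31620, e3 q31658 L839527 q31622, e3 q31659 (flp_d L839698) q31669, e3 q31660 (flp_d L839652) q31667, e3 q31661 (flp_d L839633) q31666, e3 q31662 (flp_d L839717) q31670, e3 q31663 (flp_d L839620) q31665, e3 q31664 (flp_d L839679) q31668, e3 q31665 L839620 q31663, e3 q31666 L839633 q31661, e3 q31667 L839652 q31660, e3 q31668 L839679 q31664, e3 q31669 L839698 q31659, e3 q31670 L839717 q31662, trivial⟩ (by decide +kernel)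

theorem cl_d : ∀ i, i < 31671 → sm gd (Qf i) = Qf (tab Gen.d i) :=
  all_of_chunks (fun i => sm gd (Qf i) = Qf (tab Gen.d i)) 494 55
    ⟨ce_d_0, ce_d_1, ce_d_2, ce_d_3, ce_d_4, ce_d_5, ce_d_6, ce_d_7, ce_d_8, ce_d_9, ce_d_10, ce_d_11, ce_d_12, ce_d_13, ce_d_14, ce_d_15, ce_d_16, ce_d_17, ce_d_18, ce_d_19, ce_d_20, ce_d_21, ce_d_22, ce_d_23, ce_d_24, ce_d_25, ce_d_26, ce_d_27, ce_d_28, ce_d_29, ce_d_30, ce_d_31, ce_d_32, ce_d_33, ce_d_34, ce_d_35, ce_d_36, ce_d_37, ce_d_38, ce_d_39, ce_d_40, ce_d_41, ce_d_42, ce_d_43, ce_d_44, ce_d_45, ce_d_46, ce_d_47, ce_d_48, ce_d_49, ce_d_50, ce_d_51, ce_d_52, ce_d_53, ce_d_54, ce_d_55, ce_d_56, ce_d_57, ce_d_58, ce_d_59, ce_d_60, ce_d_61, ce_d_62, ce_d_63, ce_d_64, ce_d_65, ce_d_66, ce_d_67, ce_d_68, ce_d_69, ce_d_70, ce_d_71, ce_d_72, ce_d_73, ce_d_74, ce_d_75, ce_d_76, ce_d_77, ce_d_78, ce_d_79, ce_d_80, ce_d_81, ce_d_82, ce_d_83, ce_d_84, ce_d_85, ce_d_86, ce_d_87, ce_d_88, ce_d_89, ce_d_90, ce_d_91, ce_d_92, ce_d_93, ce_d_94, ce_d_95, ce_d_96, ce_d_97, ce_d_98, ce_d_99, ce_d_100,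 ce_d_101, ce_d_102, ce_d_103, ce_d_104, ce_d_105, ce_d_106, ce_d_107, ce_d_108, ce_d_109, ce_d_110, ce_d_111, ce_d_112, ce_d_113, ce_d_114, ce_d_115, ce_d_116, ce_d_117, ce_d_118, ce_d_119, ce_d_120, ce_d_121, ce_d_122, ce_d_123, ce_d_124, ce_d_125, ce_d_126, ce_d_127, ce_d_128, ce_d_129, ce_d_130, ce_d_131, ce_d_132, ce_d_133, ce_d_134, ce_d_135, ce_d_136, ce_d_137, ce_d_138, ce_d_139, ce_d_140, ce_d_141, ce_d_142, ce_d_143, ce_d_144, ce_d_145, ce_d_146, ce_d_147, ce_d_148, ce_d_149, ce_d_150, ce_d_151, ce_d_152, ce_d_153, ce_d_154, ce_d_155, ce_d_156, ce_d_157, ce_d_158, ce_d_159, ce_d_160, ce_d_161, ce_d_162, ce_d_163, ce_d_164, ce_d_165, ce_d_166, ce_d_167, ce_d_168, ce_d_169, ce_d_170, ce_d_171, ce_d_172, ce_d_173, ce_d_174, ce_d_175, ce_d_176, ce_d_177, ce_d_178, ce_d_179, ce_d_180, ce_d_181, ce_d_182, ce_d_183, ce_d_184, ce_d_185, ce_d_186, ce_d_187, ce_d_188, ce_d_189, ce_d_190, ce_d_191, ce_d_192, ce_d_193, ce_d_194, ce_d_195, ce_d_196, ce_d_197, ce_d_198, ce_d_199, ce_d_200, ce_d_201, ce_d_202, ce_d_203, ce_d_204,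 ce_d_205, ce_d_206, ce_d_207, ce_d_208, ce_d_209, ce_d_210, ce_d_211, ce_d_212, ce_d_213, ce_d_214, ce_d_215, ce_d_216, ce_d_217, ce_d_218, ce_d_219, ce_d_220, ce_d_221, ce_d_222, ce_d_223, ce_d_224, ce_d_225, ce_d_226, ce_d_227, ce_d_228, ce_d_229, ce_d_230, ce_d_231, ce_d_232, ce_d_233, ce_d_234, ce_d_235, ce_d_236, ce_d_237, ce_d_238, ce_d_239, ce_d_240, ce_d_241, ce_d_242, ce_d_243, ce_d_244, ce_d_245, ce_d_246, ce_d_247, ce_d_248, ce_d_249, ce_d_250, ce_d_251, ce_d_252, ce_d_253, ce_d_254, ce_d_255, ce_d_256, ce_d_257, ce_d_258, ce_d_259, ce_d_260, ce_d_261, ce_d_262, ce_d_263, ce_d_264, ce_d_265, ce_d_266, ce_d_267, ce_d_268, ce_d_269, ce_d_270, ce_d_271, ce_d_272, ce_d_273, ce_d_274, ce_d_275, ce_d_276, ce_d_277, ce_d_278, ce_d_279, ce_d_280, ce_d_281, ce_d_282, ce_d_283, ce_d_284, ce_d_285, ce_d_286, ce_d_287, ce_d_288, ce_d_289, ce_d_290, ce_d_291, ce_d_292, ce_d_293, ce_d_294, ce_d_295, ce_d_296, ce_d_297, ce_d_298, ce_d_299, ce_d_300, ce_d_301, ce_d_302, ce_d_303, ce_d_304, ce_d_305, ce_d_306, ce_d_307, ce_d_308,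 ce_d_309, ce_d_310, ce_d_311, ce_d_312, ce_d_313, ce_d_314, ce_d_315, ce_d_316, ce_d_317, ce_d_318, ce_d_319, ce_d_320, ce_d_321, ce_d_322, ce_d_323, ce_d_324, ce_d_325, ce_d_326, ce_d_327, ce_d_328, ce_d_329, ce_d_330, ce_d_331, ce_d_332, ce_d_333, ce_d_334, ce_d_335, ce_d_336, ce_d_337, ce_d_338, ce_d_339, ce_d_340, ce_d_341, ce_d_342, ce_d_343, ce_d_344, ce_d_345, ce_d_346, ce_d_347, ce_d_348, ce_d_349, ce_d_350, ce_d_351, ce_d_352, ce_d_353, ce_d_354, ce_d_355, ce_d_356, ce_d_357, ce_d_358, ce_d_359, ce_d_360, ce_d_361, ce_d_362, ce_d_363, ce_d_364, ce_d_365, ce_d_366, ce_d_367, ce_d_368, ce_d_369, ce_d_370, ce_d_371, ce_d_372, ce_d_373, ce_d_374, ce_d_375, ce_d_376, ce_d_377, ce_d_378, ce_d_379, ce_d_380, ce_d_381, ce_d_382, ce_d_383, ce_d_384, ce_d_385, ce_d_386, ce_d_387, ce_d_388, ce_d_389, ce_d_390, ce_d_391, ce_d_392, ce_d_393, ce_d_394, ce_d_395, ce_d_396, ce_d_397, ce_d_398, ce_d_399, ce_d_400, ce_d_401, ce_d_402, ce_d_403, ce_d_404, ce_d_405, ce_d_406, ce_d_407, ce_d_408, ce_d_409, ce_d_410, ce_d_411, ce_d_412,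 ce_d_413, ce_d_414, ce_d_415, ce_d_416, ce_d_417, ce_d_418, ce_d_419, ce_d_420, ce_d_421, ce_d_422, ce_d_423, ce_d_424, ce_d_425, ce_d_426, ce_d_427, ce_d_428, ce_d_429, ce_d_430, ce_d_431, ce_d_432, ce_d_433, ce_d_434, ce_d_435, ce_d_436, ce_d_437, ce_d_438, ce_d_439, ce_d_440, ce_d_441, ce_d_442, ce_d_443, ce_d_444, ce_d_445, ce_d_446, ce_d_447, ce_d_448, ce_d_449, ce_d_450, ce_d_451, ce_d_452, ce_d_453, ce_d_454, ce_d_455, ce_d_456, ce_d_457, ce_d_458, ce_d_459, ce_d_460, ce_d_461, ce_d_462, ce_d_463, ce_d_464, ce_d_465, ce_d_466, ce_d_467, ce_d_468, ce_d_469, ce_d_470, ce_d_471, ce_d_472, ce_d_473, ce_d_474, ce_d_475, ce_d_476, ce_d_477, ce_d_478, ce_d_479, ce_d_480, ce_d_481, ce_d_482, ce_d_483, ce_d_484, ce_d_485, ce_d_486, ce_d_487, ce_d_488, ce_d_489, ce_d_490, ce_d_491, ce_d_492, ce_d_493, trivial⟩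
    ce_d_494


end Cfsg.Agent.Helper28.FicA
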