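import Cfsg.Agent.Helper28.FicC0

/-!
# The Fi₂₃ presentation, cosets of the subgroup generated by a, …, i: the action of the generator e (helper28; generated)
-/

set_option autoImplicit false
set_option maxRecDepth 100000
set_option linter.unusedSimpArgs false
set_option linter.constructorNameAsVariable false

noncomputable section

namespace Cfsg.Agent.Helper28.FicA

open Cfsg.Spor Cfsg.Spor.Fi23 Cfsg.Agent.Helper28.CosetTable

theorem ce_e_0 : ∀ r, r < 64 → sm ge (Qf (0 + r)) = Qf (tab Gen.e (0 + r)) :=
  edges_tab (sm ge) Qf (tab Gen.e) 0 [(0, 0), (1, 1), (2, 2), (3, 4), (4, 3), (5, 5), (6, 6), (7, 7), (8, 8), (9, 9), (10, 10), (11, 11), (12, 12), (13, 18), (14, 14), (15, 15), (16, 23), (17, 17), (18, 13), (19, 26), (20, 29), (21, 21), (22, 31), (23, 16), (24, 34), (25, 25), (26, 19), (27, 38), (28, 40), (29, 20), (30, 43), (31, 22), (32, 47), (33, 33), (34, 24), (35, 51), (36, 36), (37, 37), (38, 27), (39, 56), (40, 28), (41, 60), (42, 42), (43, 30), (44, 64), (45, 45), (46, 46), (47, 32), (48, 70), (49, 49), (50, 50),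 (51, 35), (52, 52), (53, 53), (54, 54), (55, 55), (56, 39), (57, 82), (58, 58), (59, 59), (60, 41), (61, 89), (62, 62), (63, 63)]
    ⟨e3 q0 L4 q0, e3 q1 L15 q1, e3 q2 L25 q2, e3 q3 L39 q4, e3 q4 (flp_e L39) q3, e3 q5 L57 q5, e3 q6 L61 q6, e3 q7 L71 q7, e3 q8 L79 q8, e3 q9 L90 q9, e3 q10 L99 q10, e3 q11 L108 q11, e3 q12 L119 q12, e3 q13 L169 q18, e3 q14 L136 q14, e3 q15 L147 q15, e3 q16 L214 q23, e3 q17 L164 q17, e3 q18 (flp_e L169) q13, e3 q19 (flp_e L244) q26, e3 q20 L266 q29, e3 q21 L201 q21, e3 q22 L285 q31, e3 q23 (flp_e L214) q16, e3 q24 (flp_e L315) q34, e3 q25 L238 q25, e3 q26 L244 q19, e3 q27 (flp_e L349) q38, e3 q28 L363 q40, e3 q29 (flp_e L266) q20, e3 q30 (flp_e L397) q43, e3 q31 (flp_e L285) q22, e3 q32 (flp_e L431) q47, e3 q33 L309 q33, e3 q34 L315 q24, e3 q35 (flp_e L465) q51, e3 q36 L333 q36, e3 q37 L341 q37, e3 q38 L349 q27, e3 q39 L505 q56, e3 q40 (flp_e L363) q28, e3 q41 (flp_e L547) q60, e3 q42 L390 q42, e3 q43 L397 q30, e3 q44 (flp_e L585) q64, e3 q45 L417 q45, e3 q46 L425 q46, e3 q47 L431 q32, e3 q48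 (flp_e L636) q70, e3 q49 L449 q49, e3 q50 L457 q50, e3 q51 L465 q35, e3 q52 L475 q52, e3 q53 L484 q53, e3 q54 L492 q54, e3 q55 L503 q55, e3 q56 (flp_e L505) q39, e3 q57 (flp_e L745) q82, e3 q58 L531 q58, e3 q59 L540 q59, e3 q60 L547 q41, e3 q61 (flp_e L811) q89, e3 q62 L567 q62, e3 q63 L576 q63, trivial⟩ (by decide +kernel)

theorem ce_e_1 : ∀ r, r < 64 → sm ge (Qf (64 + r)) = Qf (tab Gen.e (64 + r)) :=
  edges_tab (sm ge) Qf (tab Gen.e) 64 [(64, 44), (65, 95), (66, 66), (67, 67), (68, 68), (69, 69), (70, 48), (71, 105), (72, 72), (73, 73), (74, 74), (75, 75), (76, 76), (77, 77), (78, 113), (79, 79), (80, 80), (81, 81), (82, 57), (83, 121), (84, 123), (85, 85), (86, 86), (87, 87), (88, 88), (89, 61), (90, 133), (91, 91), (92, 92), (93, 93), (94, 94), (95, 65), (96, 138), (97, 139), (98, 140), (99, 99), (100, 100), (101, 101), (102, 102), (103, 103), (104, 152), (105, 71), (106, 106), (107, 107), (108, 157), (109, 109), (110, 110), (111, 161), (112, 163), (113, 78), (114, 114), (115, 115), (116, 168), (117, 117), (118, 118),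 (119, 119), (120, 120), (121, 83), (122, 179), (123, 84), (124, 180), (125, 181), (126, 182), (127, 127)]
    ⟨e3 q64 L585 q44, e3 q65 L866 q95, e3 q66 L601 q66, e3 q67 L611 q67, e3 q68 L619 q68, e3 q69 L627 q69, e3 q70 L636 q48, e3 q71 L946 q105, e3 q72 L655 q72, e3 q73 L664 q73, e3 q74 L672 q74, e3 q75 L684 q75, e3 q76 L691 q76, e3 q77 L700 q77, e3 q78 L1016 q113, e3 q79 L716 q79, e3 q80 L729 q80, e3 q81 L738 q81, e3 q82 L745 q57, e3 q83 (flp_e L1092) q121, e3 q84 L1107 q123, e3 q85 L772 q85, e3 q86 L783 q86, e3 q87 L792 q87, e3 q88 L801 q88, e3 q89 L811 q61, e3 q90 L1197 q133, e3 q91 L832 q91, e3 q92 L842 q92, e3 q93 L851 q93, e3 q94 L864 q94, e3 q95 (flp_e L866) q65, e3 q96 (flp_e L1251) q138, e3 q97 (flp_e L1257) q139, e3 q98 (flp_e L1266) q140, e3 q99 L902 q99, e3 q100 L909 q100, e3 q101 L917 q101, e3 q102 L926 q102, e3 q103 L935 q103, e3 q104 L1360 q152, e3 q105 (flp_e L946) q71, e3 q106 L959 q106, e3 q107 L968 q107, e3 q108 L1402 q157, e3 q109 L984 q109, e3 q110 L993 q110, e3 q111 L1438 q161, e3 q112 L1454 q163, e3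 q113 (flp_e L1016) q78, e3 q114 L1027 q114, e3 q115 L1035 q115, e3 q116 L1499 q168, e3 q117 L1053 q117, e3 q118 L1064 q118, e3 q119 L1073 q119, e3 q120 L1082 q120, e3 q121 L1092 q83, e3 q122 L1600 q179, e3 q123 (flp_e L1107) q84, e3 q124 (flp_e L1615) q180, e3 q125 (flp_e L1622) q181, e3 q126 (flp_e L1632) q182, e3 q127 L1148 q127, trivial⟩ (by decide +kernel)

theorem ce_e_2 : ∀ r, r < 64 → sm ge (Qf (128 + r)) = Qf (tab Gen.e (128 + r)) :=
  edges_tab (sm ge) Qf (tab Gen.e) 128 [(128, 128), (129, 129), (130, 130), (131, 131), (132, 194), (133, 90), (134, 134), (135, 135), (136, 199), (137, 137), (138, 96), (139, 97), (140, 98), (141, 202), (142, 203), (143, 204), (144, 206), (145, 207), (146, 146), (147, 216), (148, 148), (149, 149), (150, 220), (151, 222), (152, 104), (153, 153), (154, 154), (155, 227), (156, 229), (157, 108), (158, 158), (159, 232), (160, 234), (161, 111), (162, 237), (163, 112), (164, 164), (165, 239), (166, 166), (167, 167), (168, 116), (169, 246), (170, 247), (171, 248), (172, 172), (173, 173), (174,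 174), (175, 175), (176, 176), (177, 260), (178, 261), (179, 122), (180, 124), (181, 125), (182, 126), (183, 264), (184, 265), (185, 266), (186, 268), (187, 269), (188, 188), (189, 278), (190, 190), (191, 191)]
    ⟨e3 q128 L1156 q128, e3 q129 L1165 q129, e3 q130 L1175 q130, e3 q131 L1185 q131, e3 q132 L1738 q194, e3 q133 (flp_e L1197) q90, e3 q134 L1212 q134, e3 q135 L1222 q135, e3 q136 L1786 q199, e3 q137 L1241 q137, e3 q138 L1251 q96, e3 q139 L1257 q97, e3 q140 L1266 q98, e3 q141 (flp_e L1816) q202, e3 q142 (flp_e L1823) q203, e3 q143 (flp_e L1832) q204, e3 q144 (flp_e L1847) q206, e3 q145 (flp_e L1855) q207, e3 q146 L1314 q146, e3 q147 L1925 q216, e3 q148 L1331 q148, e3 q149 L1341 q149, e3 q150 L1959 q220, e3 q151 L1973 q222, e3 q152 (flp_e L1360) q104, e3 q153 L1375 q153, e3 q154 L1380 q154, e3 q155 L2013 q227, e3 q156 L2031 q229, e3 q157 (flp_e L1402) q108, e3 q158 L1413 q158, e3 q159 L2058 q232, e3 q160 L2075 q234, e3 q161 (flp_e L1438) q111, e3 q162 L2101 q237, e3 q163 (flp_e L1454) q112, e3 q164 L1466 q164, e3 q165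 L2117 q239, e3 q166 L1486 q166, e3 q167 L1496 q167, e3 q168 (flp_e L1499) q116, e3 q169 (flp_e L2184) q246, e3 q170 (flp_e L2191) q247, e3 q171 (flp_e L2201) q248, e3 q172 L1540 q172, e3 q173 L1548 q173, e3 q174 L1557 q174, e3 q175 L1567 q175, e3 q176 L1577 q176, e3 q177 L2307 q260, e3 q178 L2317 q261, e3 q179 (flp_e L1600) q122, e3 q180 L1615 q124, e3 q181 L1622 q125, e3 q182 L1632 q126, e3 q183 (flp_e L2350) q264, e3 q184 (flp_e L2358) q265, e3 q185 (flp_e L2368) q266, e3 q186 (flp_e L2385) q268, e3 q187 (flp_e L2394) q269, e3 q188 L1686 q188, e3 q189 L2473 q278, e3 q190 L1705 q190, e3 q191 L1716 q191, trivial⟩ (by decide +kernel)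

theorem ce_e_3 : ∀ r, r < 64 → sm ge (Qf (192 + r)) = Qf (tab Gen.e (192 + r)) :=
  edges_tab (sm ge) Qf (tab Gen.e) 192 [(192, 282), (193, 284), (194, 132), (195, 195), (196, 196), (197, 289), (198, 291), (199, 136), (200, 200), (201, 201), (202, 141), (203, 142), (204, 143), (205, 205), (206, 144), (207, 145), (208, 296), (209, 297), (210, 299), (211, 300), (212, 303), (213, 311), (214, 313), (215, 315), (216, 147), (217, 217), (218, 319), (219, 321), (220, 150), (221, 324), (222, 151), (223, 322), (224, 224), (225, 329), (226, 331), (227, 155), (228, 334), (229, 156), (230, 230), (231, 337), (232, 159), (233, 340), (234, 160), (235, 235), (236, 343), (237, 162), (238, 238), (239, 165), (240, 347), (241, 348), (242, 349), (243, 356), (244, 244), (245, 245), (246, 169), (247, 170), (248, 171), (249, 361), (250, 362), (251, 363), (252, 365), (253, 366), (254, 254), (255, 375)]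
    ⟨e3 q192 L2512 q282, e3 q193 L2526 q284, e3 q194 (flp_e L1738) q132, e3 q195 L1755 q195, e3 q196 L1761 q196, e3 q197 L2573 q289, e3 q198 L2591 q291, e3 q199 (flp_e L1786) q136, e3 q200 L1798 q200, e3 q201 L1809 q201, e3 q202 L1816 q141, e3 q203 L1823 q142, e3 q204 L1832 q143, e3 q205 L1841 q205, e3 q206 L1847 q144, e3 q207 L1855 q145, e3 q208 (flp_e L2640) q296, e3 q209 (flp_e L2650) q297, e3 q210 (flp_e L2666) q299, e3 q211 (flp_e L2674) q300, e3 q212 (flp_e L2697) q303, e3 q213 L2760 q311, e3 q214 L2774 q313, e3 q215 L2791 q315, e3 q216 (flp_e L1925) q147, e3 q217 L1938 q217, e3 q218 L2822 q319, e3 q219 L2838 q321, e3 q220 (flp_e L1959) q150, e3 q221 L2860 q324, e3 q222 (flp_e L1973) q151, e3 q223 (flp_e L2850) q322, e3 q224 L1992 q224, e3 q225 L2900 q329, e3 q226 L2919 q331, e3 q227 (flp_e L2013) q155, e3 q228 L2945 q334, e3 q229 (flp_e L2031) q156, e3 q230 L2043 q230, e3 q231 L2970 q337, e3 q232 (flp_e L2058) q159, e3 q233 L2998 q340, e3 q234 (flp_e L2075) q160, e3 q235 L2090 q235, e3 q236 L3023 q343, e3 q237 (flp_e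 L2101) q162, e3 q238 L2116 q238, e3 q239 (flp_e L2117) q165, e3 q240 (flp_e L3063) q347, e3 q241 (flp_e L3071) q348, e3 q242 (flp_e L3082) q349, e3 q243 L3142 q356, e3 q244 L2166 q244, e3 q245 L2175 q245, e3 q246 L2184 q169, e3 q247 L2191 q170, e3 q248 L2201 q171, e3 q249 (flp_e L3193) q361, e3 q250 (flp_e L3201) q362, e3 q251 (flp_e L3211) q363, e3 q252 (flp_e L3230) q365, e3 q253 (flp_e L3239) q366, e3 q254 L2255 q254, e3 q255 L3318 q375, trivial⟩ (by decide +kernel)

theorem ce_e_4 : ∀ r, r < 64 → sm ge (Qf (256 + r)) = Qf (tab Gen.e (256 + r)) :=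
  edges_tab (sm ge) Qf (tab Gen.e) 256 [(256, 256), (257, 257), (258, 379), (259, 381), (260, 177), (261, 178), (262, 262), (263, 263), (264, 183), (265, 184), (266, 185), (267, 267), (268, 186), (269, 187), (270, 389), (271, 390), (272, 392), (273, 393), (274, 396), (275, 404), (276, 406), (277, 408), (278, 189), (279, 279), (280, 412), (281, 414), (282, 192), (283, 417), (284, 193), (285, 415), (286, 286), (287, 422), (288, 424), (289, 197), (290, 427), (291, 198), (292, 292), (293, 293), (294, 294), (295, 295), (296, 208), (297, 209), (298, 298), (299, 210), (300, 211), (301, 301), (302, 302), (303, 212), (304, 447), (305, 436), (306, 437), (307, 440), (308, 452), (309, 454), (310, 456), (311, 213), (312, 459), (313, 214), (314, 462), (315, 215), (316, 457), (317, 467), (318, 469), (319, 218)]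
    ⟨e3 q256 L2275 q256, e3 q257 L2286 q257, e3 q258 L3357 q379, e3 q259 L3373 q381, e3 q260 (flp_e L2307) q177, e3 q261 (flp_e L2317) q178, e3 q262 L2335 q262, e3 q263 L2342 q263, e3 q264 L2350 q183, e3 q265 L2358 q184, e3 q266 L2368 q185, e3 q267 L2378 q267, e3 q268 L2385 q186, e3 q269 L2394 q187, e3 q270 (flp_e L3450) q389, e3 q271 (flp_e L3461) q390, e3 q272 (flp_e L3479) q392, e3 q273 (flp_e L3488) q393, e3 q274 (flp_e L3516) q396, e3 q275 L3587 q404, e3 q276 L3604 q406, e3 q277 L3621 q408, e3 q278 (flp_e L2473) q189, e3 q279 L2488 q279, e3 q280 L3658 q412, e3 q281 L3674 q414, e3 q282 (flp_e L2512) q192, e3 q283 L3700 q417, e3 q284 (flp_e L2526) q193, e3 q285 (flp_e L3689) q415, e3 q286 L2549 q286, e3 q287 L3745 q422, e3 q288 L3764 q424, e3 q289 (flp_e L2573) q197, e3 q290 L3794 q427, e3 q291 (flp_e L2591) q198, e3 q292 L2604 q292, e3 q293 L2616 q293, e3 q294 L2623 q294, e3 q295 L2632 q295, e3 q296 L2640 q208, e3 q297 L2650 q209, e3 q298 L2660 q298, e3 q299 L2666 q210, e3 q300 L2674 q211, e3 q301 L2680 q301, e3 q302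 L2690 q302, e3 q303 L2697 q212, e3 q304 L3955 q447, e3 q305 (flp_e L3873) q436, e3 q306 (flp_e L3882) q437, e3 q307 (flp_e L3906) q440, e3 q308 L3998 q452, e3 q309 L4014 q454, e3 q310 L4030 q456, e3 q311 (flp_e L2760) q213, e3 q312 L4054 q459, e3 q313 (flp_e L2774) q214, e3 q314 L4079 q462, e3 q315 (flp_e L2791) q215, e3 q316 (flp_e L4043) q457, e3 q317 L4118 q467, e3 q318 L4135 q469, e3 q319 (flp_e L2822) q218, trivial⟩ (by decide +kernel)

theorem ce_e_5 : ∀ r, r < 64 → sm ge (Qf (320 + r)) = Qf (tab Gen.e (320 + r)) :=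
  edges_tab (sm ge) Qf (tab Gen.e) 320 [(320, 472), (321, 219), (322, 223), (323, 476), (324, 221), (325, 474), (326, 475), (327, 327), (328, 481), (329, 225), (330, 484), (331, 226), (332, 332), (333, 487), (334, 228), (335, 473), (336, 491), (337, 231), (338, 338), (339, 495), (340, 233), (341, 341), (342, 342), (343, 236), (344, 344), (345, 345), (346, 346), (347, 240), (348, 241), (349, 242), (350, 504), (351, 505), (352, 506), (353, 353), (354, 507), (355, 508), (356, 243), (357, 517), (358, 358), (359, 521), (360, 360), (361, 249), (362, 250), (363, 251), (364, 364), (365, 252), (366, 253), (367, 525), (368, 526), (369, 528), (370, 529), (371, 531), (372, 539), (373, 541), (374, 543), (375, 255), (376, 376), (377, 547), (378, 549), (379, 258), (380, 552), (381, 259), (382, 550), (383, 383)]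
    ⟨e3 q320 L4157 q472, e3 q321 (flp_e L2838) q219, e3 q322 L2850 q223, e3 q323 L4186 q476, e3 q324 (flp_e L2860) q221, e3 q325 (flp_e L4177) q474, e3 q326 (flp_e L4183) q475, e3 q327 L2887 q327, e3 q328 L4228 q481, e3 q329 (flp_e L2900) q225, e3 q330 L4256 q484, e3 q331 (flp_e L2919) q226, e3 q332 L2934 q332, e3 q333 L4280 q487, e3 q334 (flp_e L2945) q228, e3 q335 (flp_e L4169) q473, e3 q336 L4313 q491, e3 q337 (flp_e L2970) q231, e3 q338 L2988 q338, e3 q339 L4350 q495, e3 q340 (flp_e L2998) q233, e3 q341 L3013 q341, e3 q342 L3021 q342, e3 q343 (flp_e L3023) q236, e3 q344 L3039 q344, e3 q345 L3044 q345, e3 q346 L3055 q346, e3 q347 L3063 q240, e3 q348 L3071 q241, e3 q349 L3082 q242, e3 q350 (flp_e L4457) q504, e3 q351 (flp_e L4466) q505, e3 q352 (flp_e L4477) q506, e3 q353 L3122 q353, e3 q354 (flp_e L4488) q507, e3 q355 (flp_e L4498) q508, e3 q356 (flp_e L3142) q243, e3 q357 (flp_e L4587) q517, e3 q358 L3167 q358, e3 q359 L4616 q521, e3 q360 L3185 q360, e3 q361 L3193 q249, e3 q362 L3201 q250, e3 q363 L3211 q251, e3 q364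 L3223 q364, e3 q365 L3230 q252, e3 q366 L3239 q253, e3 q367 (flp_e L4657) q525, e3 q368 (flp_e L4668) q526, e3 q369 (flp_e L4688) q528, e3 q370 (flp_e L4697) q529, e3 q371 (flp_e L4717) q531, e3 q372 L4789 q539, e3 q373 L4805 q541, e3 q374 L4824 q543, e3 q375 (flp_e L3318) q255, e3 q376 L3334 q376, e3 q377 L4860 q547, e3 q378 L4878 q549, e3 q379 (flp_e L3357) q258, e3 q380 L4904 q552, e3 q381 (flp_e L3373) q259, e3 q382 (flp_e L4893) q550, e3 q383 L3397 q383, trivial⟩ (by decide +kernel)

theorem ce_e_6 : ∀ r, r < 64 → sm ge (Qf (384 + r)) = Qf (tab Gen.e (384 + r)) :=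
  edges_tab (sm ge) Qf (tab Gen.e) 384 [(384, 384), (385, 385), (386, 386), (387, 387), (388, 388), (389, 270), (390, 271), (391, 391), (392, 272), (393, 273), (394, 394), (395, 395), (396, 274), (397, 577), (398, 567), (399, 568), (400, 571), (401, 582), (402, 584), (403, 586), (404, 275), (405, 589), (406, 276), (407, 592), (408, 277), (409, 587), (410, 597), (411, 599), (412, 280), (413, 602), (414, 281), (415, 285), (416, 606), (417, 283), (418, 604), (419, 605), (420, 420), (421, 611), (422, 287), (423, 614), (424, 288), (425, 425), (426, 617), (427, 290), (428, 603), (429, 429), (430, 430), (431, 431), (432, 626), (433, 433), (434, 434), (435, 435), (436, 305), (437, 306), (438, 438), (439, 439), (440, 307), (441, 639), (442, 442), (443, 443), (444, 444), (445, 642), (446, 644), (447, 304)]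
    ⟨e3 q384 L3407 q384, e3 q385 L3413 q385, e3 q386 L3423 q386, e3 q387 L3431 q387, e3 q388 L3441 q388, e3 q389 L3450 q270, e3 q390 L3461 q271, e3 q391 L3472 q391, e3 q392 L3479 q272, e3 q393 L3488 q273, e3 q394 L3496 q394, e3 q395 L3508 q395, e3 q396 L3516 q274, e3 q397 L5131 q577, e3 q398 (flp_e L5044) q567, e3 q399 (flp_e L5054) q568, e3 q400 (flp_e L5083) q571, e3 q401 L5180 q582, e3 q402 L5199 q584, e3 q403 L5215 q586, e3 q404 (flp_e L3587) q275, e3 q405 L5241 q589, e3 q406 (flp_e L3604) q276, e3 q407 L5270 q592, e3 q408 (flp_e L3621) q277, e3 q409 (flp_e L5231) q587, e3 q410 L5315 q597, e3 q411 L5332 q599, e3 q412 (flp_e L3658) q280, e3 q413 L5358 q602, e3 q414 (flp_e L3674) q281, e3 q415 L3689 q285, e3 q416 L5391 q606, e3 q417 (flp_e L3700) q283, e3 q418 (flp_e L5381) q604, e3 q419 (flp_e L5388) q605, e3 q420 L3730 q420, e3 q421 L5435 q611, e3 q422 (flp_e L3745) q287, e3 q423 L5467 q614, e3 q424 (flp_e L3764) q288, e3 q425 L3782 q425, e3 q426 L5494 q617, e3 q427 (flp_e L3794) q290, e3 q428 (flp_e L5371) q603, e3 q429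 L3816 q429, e3 q430 L3823 q430, e3 q431 L3833 q431, e3 q432 L5572 q626, e3 q433 L3849 q433, e3 q434 L3857 q434, e3 q435 L3867 q435, e3 q436 L3873 q305, e3 q437 L3882 q306, e3 q438 L3889 q438, e3 q439 L3899 q439, e3 q440 L3906 q307, e3 q441 L5676 q639, e3 q442 L3921 q442, e3 q443 L3932 q443, e3 q444 L3938 q444, e3 q445 L5717 q642, e3 q446 L5732 q644, e3 q447 (flp_e L3955) q304, trivial⟩ (by decide +kernel)

theorem ce_e_7 : ∀ r, r < 64 → sm ge (Qf (448 + r)) = Qf (tab Gen.e (448 + r)) :=
  edges_tab (sm ge) Qf (tab Gen.e) 448 [(448, 632), (449, 648), (450, 650), (451, 652), (452, 308), (453, 655), (454, 309), (455, 658), (456, 310), (457, 316), (458, 663), (459, 312), (460, 656), (461, 667), (462, 314), (463, 463), (464, 660), (465, 661), (466, 674), (467, 317), (468, 677), (469, 318), (470, 470), (471, 681), (472, 320), (473, 335), (474, 325), (475, 326), (476, 323), (477, 683), (478, 686), (479, 687), (480, 692), (481, 328), (482, 482), (483, 696), (484, 330), (485, 678), (486, 486), (487, 333), (488, 682), (489, 685), (490,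 702), (491, 336), (492, 492), (493, 493), (494, 494), (495, 339), (496, 496), (497, 497), (498, 711), (499, 499), (500, 500), (501, 501), (502, 502), (503, 503), (504, 350), (505, 351), (506, 352), (507, 354), (508, 355), (509, 720), (510, 721), (511, 511)]
    ⟨e3 q448 (flp_e L5625) q632, e3 q449 L5765 q648, e3 q450 L5782 q650, e3 q451 L5799 q652, e3 q452 (flp_e L3998) q308, e3 q453 L5823 q655, e3 q454 (flp_e L4014) q309, e3 q455 L5849 q658, e3 q456 (flp_e L4030) q310, e3 q457 L4043 q316, e3 q458 L5886 q663, e3 q459 (flp_e L4054) q312, e3 q460 (flp_e L5838) q656, e3 q461 L5920 q667, e3 q462 (flp_e L4079) q314, e3 q463 L4093 q463, e3 q464 (flp_e L5868) q660, e3 q465 (flp_e L5873) q661, e3 q466 L5977 q674, e3 q467 (flp_e L4118) q317, e3 q468 L6002 q677, e3 q469 (flp_e L4135) q318, e3 q470 L4147 q470, e3 q471 L6032 q681, e3 q472 (flp_e L4157) q320, e3 q473 L4169 q335, e3 q474 L4177 q325, e3 q475 L4183 q326, e3 q476 (flp_e L4186) q323, e3 q477 (flp_e L6054) q683, e3 q478 (flp_e L6074) q686, e3 q479 (flp_e L6081) q687, e3 q480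 L6119 q692, e3 q481 (flp_e L4228) q328, e3 q482 L4246 q482, e3 q483 L6156 q696, e3 q484 (flp_e L4256) q330, e3 q485 (flp_e L6016) q678, e3 q486 L4278 q486, e3 q487 (flp_e L4280) q333, e3 q488 (flp_e L6045) q682, e3 q489 (flp_e L6067) q685, e3 q490 L6225 q702, e3 q491 (flp_e L4313) q336, e3 q492 L4330 q492, e3 q493 L4340 q493, e3 q494 L4345 q494, e3 q495 (flp_e L4350) q339, e3 q496 L4366 q496, e3 q497 L4373 q497, e3 q498 L6322 q711, e3 q499 L4387 q499, e3 q500 L4399 q500, e3 q501 L4431 q501, e3 q502 L4440 q502, e3 q503 L4449 q503, e3 q504 L4457 q350, e3 q505 L4466 q351, e3 q506 L4477 q352, e3 q507 L4488 q354, e3 q508 L4498 q355, e3 q509 (flp_e L6455) q720, e3 q510 (flp_e L6467) q721, e3 q511 L4531 q511, trivial⟩ (by decide +kernel)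

theorem ce_e_8 : ∀ r, r < 64 → sm ge (Qf (512 + r)) = Qf (tab Gen.e (512 + r)) :=
  edges_tab (sm ge) Qf (tab Gen.e) 512 [(512, 722), (513, 723), (514, 514), (515, 724), (516, 735), (517, 357), (518, 736), (519, 739), (520, 741), (521, 359), (522, 522), (523, 523), (524, 524), (525, 367), (526, 368), (527, 527), (528, 369), (529, 370), (530, 530), (531, 371), (532, 758), (533, 750), (534, 751), (535, 753), (536, 763), (537, 765), (538, 767), (539, 372), (540, 770), (541, 373), (542, 773), (543, 374), (544, 768), (545, 778), (546, 780), (547, 377), (548, 783), (549, 378), (550, 382), (551, 787), (552, 380), (553, 553), (554, 785), (555, 786), (556, 794), (557, 557), (558, 558), (559, 559), (560, 560), (561, 561), (562, 562), (563, 805), (564, 564), (565, 565), (566, 566), (567, 398), (568, 399), (569, 569), (570, 570), (571, 400), (572, 817), (573, 573), (574, 574), (575, 820)]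
    ⟨e3 q512 (flp_e L6479) q722, e3 q513 (flp_e L6489) q723, e3 q514 L4558 q514, e3 q515 (flp_e L6499) q724, e3 q516 L6600 q735, e3 q517 L4587 q357, e3 q518 (flp_e L6611) q736, e3 q519 L6635 q739, e3 q520 L6652 q741, e3 q521 (flp_e L4616) q359, e3 q522 L4630 q522, e3 q523 L4638 q523, e3 q524 L4648 q524, e3 q525 L4657 q367, e3 q526 L4668 q368, e3 q527 L4681 q527, e3 q528 L4688 q369, e3 q529 L4697 q370, e3 q530 L4709 q530, e3 q531 L4717 q371, e3 q532 L6811 q758, e3 q533 (flp_e L6741) q750, e3 q534 (flp_e L6751) q751, e3 q535 (flp_e L6772) q753, e3 q536 L6861 q763, e3 q537 L6879 q765, e3 q538 L6897 q767, e3 q539 (flp_e L4789) q372, e3 q540 L6924 q770, e3 q541 (flp_e L4805) q373, e3 q542 L6953 q773, e3 q543 (flp_e L4824) q374, e3 q544 (flp_e L6913) q768, e3 q545 L6995 q778, e3 q546 L7014 q780, e3 q547 (flp_e L4860) q377, e3 q548 L7040 q783, e3 q549 (flp_e L4878) q378, e3 q550 L4893 q382, e3 q551 L7073 q787, e3 q552 (flp_e L4904) q380, e3 q553 L4921 q553, e3 q554 (flp_e L7062) q785, e3 q555 (flp_e L7070) q786, e3 q556 L7134 q794,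 e3 q557 L4950 q557, e3 q558 L4960 q558, e3 q559 L4969 q559, e3 q560 L4980 q560, e3 q561 L4988 q561, e3 q562 L4999 q562, e3 q563 L7238 q805, e3 q564 L5017 q564, e3 q565 L5026 q565, e3 q566 L5037 q566, e3 q567 L5044 q398, e3 q568 L5054 q399, e3 q569 L5063 q569, e3 q570 L5075 q570, e3 q571 L5083 q400, e3 q572 L7350 q817, e3 q573 L5104 q573, e3 q574 L5111 q574, e3 q575 L7388 q820, trivial⟩ (by decide +kernel)

theorem ce_e_9 : ∀ r, r < 64 → sm ge (Qf (576 + r)) = Qf (tab Gen.e (576 + r)) :=
  edges_tab (sm ge) Qf (tab Gen.e) 576 [(576, 822), (577, 397), (578, 811), (579, 826), (580, 828), (581, 830), (582, 401), (583, 833), (584, 402), (585, 836), (586, 403), (587, 409), (588, 841), (589, 405), (590, 834), (591, 845), (592, 407), (593, 593), (594, 838), (595, 839), (596, 852), (597, 410), (598, 855), (599, 411), (600, 600), (601, 859), (602, 413), (603, 428), (604, 418), (605, 419), (606, 416), (607, 861), (608, 864), (609, 865), (610, 870), (611, 421), (612, 612), (613, 874), (614, 423), (615, 856), (616, 616), (617, 426), (618,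 860), (619, 863), (620, 620), (621, 621), (622, 887), (623, 623), (624, 624), (625, 892), (626, 432), (627, 894), (628, 628), (629, 898), (630, 630), (631, 631), (632, 448), (633, 904), (634, 634), (635, 635), (636, 636), (637, 907), (638, 909), (639, 441)]
    ⟨e3 q576 L7403 q822, e3 q577 (flp_e L5131) q397, e3 q578 (flp_e L7300) q811, e3 q579 L7442 q826, e3 q580 L7462 q828, e3 q581 L7479 q830, e3 q582 (flp_e L5180) q401, e3 q583 L7505 q833, e3 q584 (flp_e L5199) q402, e3 q585 L7535 q836, e3 q586 (flp_e L5215) q403, e3 q587 L5231 q409, e3 q588 L7577 q841, e3 q589 (flp_e L5241) q405, e3 q590 (flp_e L7523) q834, e3 q591 L7615 q845, e3 q592 (flp_e L5270) q407, e3 q593 L5285 q593, e3 q594 (flp_e L7557) q838, e3 q595 (flp_e L7563) q839, e3 q596 L7676 q852, e3 q597 (flp_e L5315) q410, e3 q598 L7705 q855, e3 q599 (flp_e L5332) q411, e3 q600 L5347 q600, e3 q601 L7739 q859, e3 q602 (flp_e L5358) q413, e3 q603 L5371 q428, e3 q604 L5381 q418, e3 q605 L5388 q419, e3 q606 (flp_e L5391) q416, e3 q607 (flp_e L7761) q861, e3 q608 (flp_e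 L7787) q864, e3 q609 (flp_e L7795) q865, e3 q610 L7836 q870, e3 q611 (flp_e L5435) q421, e3 q612 L5456 q612, e3 q613 L7877 q874, e3 q614 (flp_e L5467) q423, e3 q615 (flp_e L7720) q856, e3 q616 L5492 q616, e3 q617 (flp_e L5494) q426, e3 q618 (flp_e L7753) q860, e3 q619 (flp_e L7778) q863, e3 q620 L5524 q620, e3 q621 L5534 q621, e3 q622 L7987 q887, e3 q623 L5551 q623, e3 q624 L5560 q624, e3 q625 L8032 q892, e3 q626 (flp_e L5572) q432, e3 q627 (flp_e L8051) q894, e3 q628 L5591 q628, e3 q629 L8077 q898, e3 q630 L5606 q630, e3 q631 L5617 q631, e3 q632 L5625 q448, e3 q633 L8125 q904, e3 q634 L5642 q634, e3 q635 L5653 q635, e3 q636 L5659 q636, e3 q637 L8167 q907, e3 q638 L8183 q909, e3 q639 (flp_e L5676) q441, trivial⟩ (by decide +kernel)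

theorem ce_e_10 : ∀ r, r < 64 → sm ge (Qf (640 + r)) = Qf (tab Gen.e (640 + r)) :=
  edges_tab (sm ge) Qf (tab Gen.e) 640 [(640, 911), (641, 912), (642, 445), (643, 914), (644, 446), (645, 645), (646, 919), (647, 921), (648, 449), (649, 924), (650, 450), (651, 927), (652, 451), (653, 653), (654, 932), (655, 453), (656, 460), (657, 936), (658, 455), (659, 659), (660, 464), (661, 465), (662, 943), (663, 458), (664, 664), (665, 934), (666, 935), (667, 461), (668, 668), (669, 938), (670, 955), (671, 941), (672, 942), (673, 959), (674, 466), (675, 675), (676, 963), (677, 468), (678, 485), (679, 679), (680, 680), (681, 471), (682, 488), (683, 477), (684, 684), (685, 489), (686, 478), (687, 479), (688, 971), (689, 973), (690, 976), (691, 979), (692, 480), (693, 960), (694, 694), (695, 695), (696, 483), (697, 964), (698, 698), (699, 988), (700, 967), (701, 970), (702, 490), (703, 703)]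
    ⟨e3 q640 L8219 q911, e3 q641 L8235 q912, e3 q642 (flp_e L5717) q445, e3 q643 L8258 q914, e3 q644 (flp_e L5732) q446, e3 q645 L5745 q645, e3 q646 L8295 q919, e3 q647 L8314 q921, e3 q648 (flp_e L5765) q449, e3 q649 L8341 q924, e3 q650 (flp_e L5782) q450, e3 q651 L8366 q927, e3 q652 (flp_e L5799) q451, e3 q653 L5812 q653, e3 q654 L8405 q932, e3 q655 (flp_e L5823) q453, e3 q656 L5838 q460, e3 q657 L8438 q936, e3 q658 (flp_e L5849) q455, e3 q659 L5860 q659, e3 q660 L5868 q464, e3 q661 L5873 q465, e3 q662 L8489 q943, e3 q663 (flp_e L5886) q458, e3 q664 L5903 q664, e3 q665 (flp_e L8428) q934, e3 q666 (flp_e L8433) q935, e3 q667 (flp_e L5920) q461, e3 q668 L5935 q668, e3 q669 (flp_e L8460) q938, e3 q670 L8590 q955, e3 q671 (flp_e L8477) q941, e3 q672 (flp_e L8484) q942, e3 q673 L8621 q959, e3 q674 (flp_e L5977) q466, e3 q675 L5992 q675, e3 q676 L8654 q963, e3 q677 (flp_e L6002) q468, e3 q678 L6016 q485, e3 q679 L6023 q679, e3 q680 L6028 q680, e3 q681 (flp_e L6032) q471, e3 q682 L6045 q488, e3 q683 L6054 q477, e3 q684 L6063 q684,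 e3 q685 L6067 q489, e3 q686 L6074 q478, e3 q687 L6081 q479, e3 q688 (flp_e L8722) q971, e3 q689 (flp_e L8753) q973, e3 q690 (flp_e L8781) q976, e3 q691 L8802 q979, e3 q692 (flp_e L6119) q480, e3 q693 (flp_e L8637) q960, e3 q694 L6145 q694, e3 q695 L6151 q695, e3 q696 (flp_e L6156) q483, e3 q697 (flp_e L8669) q964, e3 q698 L6181 q698, e3 q699 L8896 q988, e3 q700 (flp_e L8687) q967, e3 q701 (flp_e L8713) q970, e3 q702 (flp_e L6225) q490, e3 q703 L6243 q703, trivial⟩ (by decide +kernel)

theorem ce_e_11 : ∀ r, r < 64 → sm ge (Qf (704 + r)) = Qf (tab Gen.e (704 + r)) :=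
  edges_tab (sm ge) Qf (tab Gen.e) 704 [(704, 704), (705, 994), (706, 706), (707, 707), (708, 708), (709, 709), (710, 998), (711, 498), (712, 999), (713, 1000), (714, 714), (715, 715), (716, 716), (717, 717), (718, 718), (719, 719), (720, 509), (721, 510), (722, 512), (723, 513), (724, 515), (725, 1017), (726, 726), (727, 1011), (728, 1012), (729, 729), (730, 1013), (731, 1024), (732, 732), (733, 1027), (734, 1029), (735, 516), (736, 518), (737, 1033), (738, 1035), (739, 519), (740, 1038), (741, 520), (742, 1030), (743, 743), (744, 744), (745, 745), (746, 1047), (747, 747), (748, 748), (749, 749), (750, 533), (751, 534), (752, 752), (753, 535), (754, 1057), (755, 755), (756, 1060), (757, 1062), (758, 532), (759, 1052), (760, 1066), (761, 1068), (762, 1070), (763, 536), (764, 1073), (765, 537), (766, 1076), (767, 538)]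
    ⟨e3 q704 L6252 q704, e3 q705 L9002 q994, e3 q706 L6266 q706, e3 q707 L6276 q707, e3 q708 L6289 q708, e3 q709 L6297 q709, e3 q710 L9080 q998, e3 q711 (flp_e L6322) q498, e3 q712 (flp_e L9109) q999, e3 q713 L9164 q1000, e3 q714 L6397 q714, e3 q715 L6407 q715, e3 q716 L6415 q716, e3 q717 L6425 q717, e3 q718 L6434 q718, e3 q719 L6445 q719, e3 q720 L6455 q509, e3 q721 L6467 q510, e3 q722 L6479 q512, e3 q723 L6489 q513, e3 q724 L6499 q515, e3 q725 L9332 q1017, e3 q726 L6520 q726, e3 q727 (flp_e L9282) q1011, e3 q728 (flp_e L9293) q1012, e3 q729 L6549 q729, e3 q730 (flp_e L9304) q1013, e3 q731 L9400 q1024, e3 q732 L6577 q732, e3 q733 L9427 q1027, e3 q734 L9443 q1029, e3 q735 (flp_e L6600) q516, e3 q736 L6611 q518, e3 q737 L9476 q1033, e3 q738 L9494 q1035, e3 q739 (flp_e L6635) q519, e3 q740 L9520 q1038, e3 q741 (flp_e L6652) q520, e3 q742 (flp_e L9456) q1030, e3 q743 L6673 q743, e3 q744 L6681 q744, e3 q745 L6692 q745, e3 q746 L9602 q1047, e3 q747 L6712 q747, e3 q748 L6721 q748, e3 q749 L6734 q749, e3 q750 L6741 q533, e3 q751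 L6751 q534, e3 q752 L6764 q752, e3 q753 L6772 q535, e3 q754 L9701 q1057, e3 q755 L6792 q755, e3 q756 L9728 q1060, e3 q757 L9745 q1062, e3 q758 (flp_e L6811) q532, e3 q759 (flp_e L9660) q1052, e3 q760 L9783 q1066, e3 q761 L9802 q1068, e3 q762 L9821 q1070, e3 q763 (flp_e L6861) q536, e3 q764 L9848 q1073, e3 q765 (flp_e L6879) q537, e3 q766 L9878 q1076, e3 q767 (flp_e L6897) q538, trivial⟩ (by decide +kernel)

theorem ce_e_12 : ∀ r, r < 64 → sm ge (Qf (768 + r)) = Qf (tab Gen.e (768 + r)) :=
  edges_tab (sm ge) Qf (tab Gen.e) 768 [(768, 544), (769, 1081), (770, 540), (771, 1074), (772, 1085), (773, 542), (774, 1039), (775, 1078), (776, 1079), (777, 1093), (778, 545), (779, 1096), (780, 546), (781, 781), (782, 1100), (783, 548), (784, 784), (785, 554), (786, 555), (787, 551), (788, 788), (789, 1102), (790, 1112), (791, 791), (792, 1105), (793, 1106), (794, 556), (795, 1117), (796, 1118), (797, 797), (798, 798), (799, 799), (800, 800), (801, 1126), (802, 802), (803, 803), (804, 1130), (805, 563), (806, 1132), (807, 807), (808,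 1136), (809, 809), (810, 810), (811, 578), (812, 1141), (813, 813), (814, 814), (815, 1144), (816, 1146), (817, 572), (818, 1148), (819, 1150), (820, 575), (821, 1153), (822, 576), (823, 823), (824, 1158), (825, 1160), (826, 579), (827, 1163), (828, 580), (829, 1166), (830, 581), (831, 831)]
    ⟨e3 q768 L6913 q544, e3 q769 L9920 q1081, e3 q770 (flp_e L6924) q540, e3 q771 (flp_e L9866) q1074, e3 q772 L9958 q1085, e3 q773 (flp_e L6953) q542, e3 q774 (flp_e L9534) q1039, e3 q775 (flp_e L9899) q1078, e3 q776 (flp_e L9906) q1079, e3 q777 L10027 q1093, e3 q778 (flp_e L6995) q545, e3 q779 L10056 q1096, e3 q780 (flp_e L7014) q546, e3 q781 L7029 q781, e3 q782 L10090 q1100, e3 q783 (flp_e L7040) q548, e3 q784 L7054 q784, e3 q785 L7062 q554, e3 q786 L7070 q555, e3 q787 (flp_e L7073) q551, e3 q788 L7091 q788, e3 q789 (flp_e L10114) q1102, e3 q790 L10192 q1112, e3 q791 L7114 q791, e3 q792 (flp_e L10135) q1105, e3 q793 (flp_e L10144) q1106, e3 q794 (flp_e L7134) q556, e3 q795 (flp_e L10239) q1117, e3 q796 (flp_e L10246) q1118, e3 q797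 L7163 q797, e3 q798 L7173 q798, e3 q799 L7183 q799, e3 q800 L7194 q800, e3 q801 L10316 q1126, e3 q802 L7213 q802, e3 q803 L7223 q803, e3 q804 L10356 q1130, e3 q805 (flp_e L7238) q563, e3 q806 (flp_e L10382) q1132, e3 q807 L7260 q807, e3 q808 L10412 q1136, e3 q809 L7278 q809, e3 q810 L7291 q810, e3 q811 L7300 q578, e3 q812 L10458 q1141, e3 q813 L7323 q813, e3 q814 L7330 q814, e3 q815 L10497 q1144, e3 q816 L10513 q1146, e3 q817 (flp_e L7350) q572, e3 q818 L10547 q1148, e3 q819 L10563 q1150, e3 q820 (flp_e L7388) q575, e3 q821 L10590 q1153, e3 q822 (flp_e L7403) q576, e3 q823 L7419 q823, e3 q824 L10633 q1158, e3 q825 L10652 q1160, e3 q826 (flp_e L7442) q579, e3 q827 L10681 q1163, e3 q828 (flp_e L7462) q580, e3 q829 L10710 q1166, e3 q830 (flp_e L7479) q581, e3 q831 L7495 q831, trivial⟩ (by decide +kernel)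

theorem ce_e_13 : ∀ r, r < 64 → sm ge (Qf (832 + r)) = Qf (tab Gen.e (832 + r)) :=
  edges_tab (sm ge) Qf (tab Gen.e) 832 [(832, 1171), (833, 583), (834, 590), (835, 1175), (836, 585), (837, 837), (838, 594), (839, 595), (840, 1182), (841, 588), (842, 842), (843, 1173), (844, 1174), (845, 591), (846, 846), (847, 1177), (848, 1194), (849, 1180), (850, 1181), (851, 1198), (852, 596), (853, 853), (854, 1202), (855, 598), (856, 615), (857, 857), (858, 858), (859, 601), (860, 618), (861, 607), (862, 862), (863, 619), (864, 608), (865, 609), (866, 1210), (867, 1214), (868, 1218), (869, 1221), (870, 610), (871, 1199), (872, 872), (873, 873), (874, 613), (875, 1203), (876, 876), (877, 1232), (878, 1206), (879, 1209), (880, 1211), (881, 1213), (882, 1217), (883, 1238), (884, 884), (885, 885), (886, 1243), (887, 622), (888, 1245), (889, 889), (890, 1249), (891, 1250), (892, 625), (893, 1252), (894, 627), (895, 1253)]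
    ⟨e3 q832 L10754 q1171, e3 q833 (flp_e L7505) q583, e3 q834 L7523 q590, e3 q835 L10791 q1175, e3 q836 (flp_e L7535) q585, e3 q837 L7547 q837, e3 q838 L7557 q594, e3 q839 L7563 q595, e3 q840 L10849 q1182, e3 q841 (flp_e L7577) q588, e3 q842 L7595 q842, e3 q843 (flp_e L10780) q1173, e3 q844 (flp_e L10786) q1174, e3 q845 (flp_e L7615) q591, e3 q846 L7631 q846, e3 q847 (flp_e L10813) q1177, e3 q848 L10958 q1194, e3 q849 (flp_e L10836) q1180, e3 q850 (flp_e L10844) q1181, e3 q851 L10996 q1198, e3 q852 (flp_e L7676) q596, e3 q853 L7694 q853, e3 q854 L11033 q1202, e3 q855 (flp_e L7705) q598, e3 q856 L7720 q615, e3 q857 L7729 q857, e3 q858 L7735 q858, e3 q859 (flp_e L7739) q601, e3 q860 L7753 q618, e3 q861 L7761 q607, e3 q862 L7772 q862, e3 q863 L7778 q619, e3 q864 L7787 q608, e3 q865 L7795 q609, e3 q866 (flp_e L11111) q1210, e3 q867 (flp_e L11140) q1214, e3 q868 (flp_e L11176) q1218, e3 q869 L11197 q1221, e3 q870 (flp_e L7836) q610, e3 q871 (flp_e L11013) q1199, e3 q872 L7865 q872, e3 q873 L7872 q873, e3 q874 (flp_e L7877) q613,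 e3 q875 (flp_e L11049) q1203, e3 q876 L7902 q876, e3 q877 L11299 q1232, e3 q878 (flp_e L11070) q1206, e3 q879 (flp_e L11101) q1209, e3 q880 (flp_e L11115) q1211, e3 q881 (flp_e L11133) q1213, e3 q882 (flp_e L11166) q1217, e3 q883 L11365 q1238, e3 q884 L7965 q884, e3 q885 L7974 q885, e3 q886 L11411 q1243, e3 q887 (flp_e L7987) q622, e3 q888 (flp_e L11432) q1245, e3 q889 L8008 q889, e3 q890 L11462 q1249, e3 q891 L11469 q1250, e3 q892 (flp_e L8032) q625, e3 q893 (flp_e L11498) q1252, e3 q894 L8051 q627, e3 q895 (flp_e L11513) q1253, trivial⟩ (by decide +kernel)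

theorem ce_e_14 : ∀ r, r < 64 → sm ge (Qf (896 + r)) = Qf (tab Gen.e (896 + r)) :=
  edges_tab (sm ge) Qf (tab Gen.e) 896 [(896, 1256), (897, 1258), (898, 629), (899, 899), (900, 900), (901, 901), (902, 1262), (903, 1264), (904, 633), (905, 1266), (906, 1267), (907, 637), (908, 1269), (909, 638), (910, 1259), (911, 640), (912, 641), (913, 913), (914, 643), (915, 915), (916, 916), (917, 917), (918, 1284), (919, 646), (920, 1287), (921, 647), (922, 922), (923, 1292), (924, 649), (925, 925), (926, 1296), (927, 651), (928, 928), (929, 929), (930, 930), (931, 1303), (932, 654), (933, 933), (934, 665), (935, 666), (936, 657), (937, 937), (938, 669), (939, 1314), (940, 940), (941, 671), (942, 672), (943, 662), (944, 944), (945, 1305), (946, 1324), (947, 947), (948, 1308), (949, 1309), (950, 950), (951, 1311), (952, 952), (953, 1332), (954, 1313), (955, 670), (956, 1335), (957, 1317), (958, 1337), (959, 673)]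
    ⟨e3 q896 L11535 q1256, e3 q897 L11550 q1258, e3 q898 (flp_e L8077) q629, e3 q899 L8086 q899, e3 q900 L8098 q900, e3 q901 L8105 q901, e3 q902 L11600 q1262, e3 q903 L11618 q1264, e3 q904 (flp_e L8125) q633, e3 q905 L11657 q1266, e3 q906 L11674 q1267, e3 q907 (flp_e L8167) q637, e3 q908 L11696 q1269, e3 q909 (flp_e L8183) q638, e3 q910 (flp_e L11561) q1259, e3 q911 (flp_e L8219) q640, e3 q912 (flp_e L8235) q641, e3 q913 L8250 q913, e3 q914 (flp_e L8258) q643, e3 q915 L8270 q915, e3 q916 L8277 q916, e3 q917 L8283 q917, e3 q918 L11872 q1284, e3 q919 (flp_e L8295) q646, e3 q920 L11901 q1287, e3 q921 (flp_e L8314) q647, e3 q922 L8330 q922, e3 q923 L11943 q1292, e3 q924 (flp_e L8341) q649, e3 q925 L8356 q925, e3 q926 L11977 q1296, e3 q927 (flp_e L8366) q651, e3 q928 L8379 q928, e3 q929 L8386 q929, e3 q930 L8390 q930, e3 q931 L12029 q1303, e3 q932 (flp_e L8405) q654, e3 q933 L8419 q933, e3 q934 L8428 q665, e3 q935 L8433 q666, e3 q936 (flp_e L8438) q657, e3 q937 L8451 q937, e3 q938 L8460 q669, e3 q939 L12132 q1314, e3 q940 L8469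 q940, e3 q941 L8477 q671, e3 q942 L8484 q672, e3 q943 (flp_e L8489) q662, e3 q944 L8507 q944, e3 q945 (flp_e L12055) q1305, e3 q946 L12218 q1324, e3 q947 L8528 q947, e3 q948 (flp_e L12073) q1308, e3 q949 (flp_e L12081) q1309, e3 q950 L8556 q950, e3 q951 (flp_e L12101) q1311, e3 q952 L8568 q952, e3 q953 L12283 q1332, e3 q954 (flp_e L12128) q1313, e3 q955 (flp_e L8590) q670, e3 q956 (flp_e L12310) q1335, e3 q957 (flp_e L12159) q1317, e3 q958 L12321 q1337, e3 q959 (flp_e L8621) q673, trivial⟩ (by decide +kernel)

theorem ce_e_15 : ∀ r, r < 64 → sm ge (Qf (960 + r)) = Qf (tab Gen.e (960 + r)) :=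
  edges_tab (sm ge) Qf (tab Gen.e) 960 [(960, 693), (961, 961), (962, 962), (963, 676), (964, 697), (965, 965), (966, 1348), (967, 700), (968, 968), (969, 969), (970, 701), (971, 688), (972, 972), (973, 689), (974, 974), (975, 975), (976, 690), (977, 1353), (978, 1355), (979, 691), (980, 1338), (981, 981), (982, 1363), (983, 1341), (984, 984), (985, 1344), (986, 986), (987, 1367), (988, 699), (989, 1368), (990, 990), (991, 991), (992, 1371), (993, 993), (994, 705), (995, 1373), (996, 1374), (997, 1376), (998, 710), (999, 712), (1000, 713), (1001, 1378), (1002, 1379), (1003, 1003), (1004, 1004), (1005, 1386), (1006, 1006), (1007, 1007), (1008, 1008), (1009, 1009), (1010, 1010), (1011, 727), (1012, 728), (1013, 730), (1014, 1397), (1015, 1399), (1016, 1401), (1017, 725), (1018, 1018), (1019, 1393), (1020, 1406), (1021, 1021), (1022, 1409), (1023, 1411)]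
    ⟨e3 q960 L8637 q693, e3 q961 L8646 q961, e3 q962 L8651 q962, e3 q963 (flp_e L8654) q676, e3 q964 L8669 q697, e3 q965 L8677 q965, e3 q966 L12430 q1348, e3 q967 L8687 q700, e3 q968 L8695 q968, e3 q969 L8703 q969, e3 q970 L8713 q701, e3 q971 L8722 q688, e3 q972 L8740 q972, e3 q973 L8753 q689, e3 q974 L8761 q974, e3 q975 L8766 q975, e3 q976 L8781 q690, e3 q977 (flp_e L12496) q1353, e3 q978 (flp_e L12545) q1355, e3 q979 (flp_e L8802) q691, e3 q980 (flp_e L12338) q1338, e3 q981 L8831 q981, e3 q982 L12636 q1363, e3 q983 (flp_e L12360) q1341, e3 q984 L8851 q984, e3 q985 (flp_e L12388) q1344, e3 q986 L8871 q986, e3 q987 L12707 q1367, e3 q988 (flp_e L8896) q699, e3 q989 (flp_e L12733) q1368, e3 q990 L8956 q990, e3 q991 L8966 q991, e3 q992 L12840 q1371, e3 q993 L8997 q993, e3 q994 (flp_e L9002) q705, e3 q995 (flp_e L12882) q1373, e3 q996 (flp_e L12890) q1374, e3 q997 L12939 q1376, e3 q998 (flp_e L9080) q710, e3 q999 L9109 q712, e3 q1000 (flp_e L9164) q713, e3 q1001 (flp_e L13077) q1378, e3 q1002 (flp_e L13087) q1379, e3 q1003 L9200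 q1003, e3 q1004 L9209 q1004, e3 q1005 L13149 q1386, e3 q1006 L9228 q1006, e3 q1007 L9237 q1007, e3 q1008 L9249 q1008, e3 q1009 L9261 q1009, e3 q1010 L9271 q1010, e3 q1011 L9282 q727, e3 q1012 L9293 q728, e3 q1013 L9304 q730, e3 q1014 L13259 q1397, e3 q1015 L13277 q1399, e3 q1016 L13294 q1401, e3 q1017 (flp_e L9332) q725, e3 q1018 L9346 q1018, e3 q1019 (flp_e L13229) q1393, e3 q1020 L13339 q1406, e3 q1021 L9377 q1021, e3 q1022 L13367 q1409, e3 q1023 L13384 q1411, trivial⟩ (by decide +kernel)

theorem ce_e_16 : ∀ r, r < 64 → sm ge (Qf (1024 + r)) = Qf (tab Gen.e (1024 + r)) :=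
  edges_tab (sm ge) Qf (tab Gen.e) 1024 [(1024, 731), (1025, 1414), (1026, 1416), (1027, 733), (1028, 1419), (1029, 734), (1030, 742), (1031, 1424), (1032, 1426), (1033, 737), (1034, 1429), (1035, 738), (1036, 1417), (1037, 1433), (1038, 740), (1039, 774), (1040, 1421), (1041, 1422), (1042, 1042), (1043, 1043), (1044, 1443), (1045, 1045), (1046, 1046), (1047, 746), (1048, 1447), (1049, 1049), (1050, 1451), (1051, 1051), (1052, 759), (1053, 1455), (1054, 1054), (1055, 1458), (1056, 1460), (1057, 754), (1058, 1463), (1059, 1465), (1060, 756), (1061, 1468), (1062, 757), (1063, 1063), (1064, 1473), (1065, 1475), (1066, 760), (1067, 1478), (1068, 761), (1069, 1481), (1070, 762), (1071, 1071), (1072, 1486), (1073, 764), (1074, 771), (1075, 1490), (1076, 766), (1077, 1420), (1078, 775), (1079, 776), (1080, 1497), (1081, 769), (1082, 1430), (1083, 1488), (1084, 1489), (1085, 772), (1086, 1434), (1087, 1492)]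
    ⟨e3 q1024 (flp_e L9400) q731, e3 q1025 L13408 q1414, e3 q1026 L13427 q1416, e3 q1027 (flp_e L9427) q733, e3 q1028 L13454 q1419, e3 q1029 (flp_e L9443) q734, e3 q1030 L9456 q742, e3 q1031 L13492 q1424, e3 q1032 L13511 q1426, e3 q1033 (flp_e L9476) q737, e3 q1034 L13539 q1429, e3 q1035 (flp_e L9494) q738, e3 q1036 (flp_e L13442) q1417, e3 q1037 L13574 q1433, e3 q1038 (flp_e L9520) q740, e3 q1039 L9534 q774, e3 q1040 (flp_e L13474) q1421, e3 q1041 (flp_e L13480) q1422, e3 q1042 L9555 q1042, e3 q1043 L9566 q1043, e3 q1044 L13660 q1443, e3 q1045 L9587 q1045, e3 q1046 L9597 q1046, e3 q1047 (flp_e L9602) q746, e3 q1048 (flp_e L13712) q1447, e3 q1049 L9628 q1049, e3 q1050 L13743 q1451, e3 q1051 L9651 q1051, e3 q1052 L9660 q759, e3 q1053 L13779 q1455, e3 q1054 L9682 q1054, e3 q1055 L13807 q1458, e3 q1056 L13825 q1460, e3 q1057 (flp_e L9701) q754, e3 q1058 L13850 q1463, e3 q1059 L13868 q1465, e3 q1060 (flp_e L9728) q756, e3 q1061 L13895 q1468, e3 q1062 (flp_e L9745) q757, e3 q1063 L9761 q1063, e3 q1064 L13936 q1473, e3 q1065 L13957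 q1475, e3 q1066 (flp_e L9783) q760, e3 q1067 L13987 q1478, e3 q1068 (flp_e L9802) q761, e3 q1069 L14016 q1481, e3 q1070 (flp_e L9821) q762, e3 q1071 L9837 q1071, e3 q1072 L14060 q1486, e3 q1073 (flp_e L9848) q764, e3 q1074 L9866 q771, e3 q1075 L14097 q1490, e3 q1076 (flp_e L9878) q766, e3 q1077 (flp_e L13465) q1420, e3 q1078 L9899 q775, e3 q1079 L9906 q776, e3 q1080 L14154 q1497, e3 q1081 (flp_e L9920) q769, e3 q1082 (flp_e L13556) q1430, e3 q1083 (flp_e L14085) q1488, e3 q1084 (flp_e L14092) q1489, e3 q1085 (flp_e L9958) q772, e3 q1086 (flp_e L13589) q1434, e3 q1087 (flp_e L14121) q1492, trivial⟩ (by decide +kernel)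

theorem ce_e_17 : ∀ r, r < 64 → sm ge (Qf (1088 + r)) = Qf (tab Gen.e (1088 + r)) :=
  edges_tab (sm ge) Qf (tab Gen.e) 1088 [(1088, 1510), (1089, 1437), (1090, 1495), (1091, 1496), (1092, 1516), (1093, 777), (1094, 1094), (1095, 1520), (1096, 779), (1097, 1097), (1098, 1098), (1099, 1099), (1100, 782), (1101, 1101), (1102, 789), (1103, 1533), (1104, 1104), (1105, 792), (1106, 793), (1107, 1107), (1108, 1528), (1109, 1541), (1110, 1110), (1111, 1532), (1112, 790), (1113, 1546), (1114, 1547), (1115, 1115), (1116, 1537), (1117, 795), (1118, 796), (1119, 1552), (1120, 1553), (1121, 1555), (1122, 1559), (1123, 1123), (1124, 1124), (1125, 1563), (1126, 801), (1127, 1565), (1128, 1128), (1129, 1569), (1130, 804), (1131, 1571), (1132, 806), (1133, 1572), (1134, 1575), (1135, 1577), (1136, 808), (1137, 1137), (1138, 1138), (1139, 1581), (1140, 1583), (1141, 812), (1142, 1585), (1143, 1587), (1144, 815), (1145, 1590), (1146, 816), (1147, 1578), (1148, 818), (1149, 1595), (1150, 819), (1151, 1151)]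
    ⟨e3 q1088 L14268 q1510, e3 q1089 (flp_e L13609) q1437, e3 q1090 (flp_e L14140) q1495, e3 q1091 (flp_e L14149) q1496, e3 q1092 L14317 q1516, e3 q1093 (flp_e L10027) q777, e3 q1094 L10045 q1094, e3 q1095 L14354 q1520, e3 q1096 (flp_e L10056) q779, e3 q1097 L10072 q1097, e3 q1098 L10079 q1098, e3 q1099 L10086 q1099, e3 q1100 (flp_e L10090) q782, e3 q1101 L10105 q1101, e3 q1102 L10114 q789, e3 q1103 L14463 q1533, e3 q1104 L10128 q1104, e3 q1105 L10135 q792, e3 q1106 L10144 q793, e3 q1107 L10157 q1107, e3 q1108 (flp_e L14430) q1528, e3 q1109 L14530 q1541, e3 q1110 L10181 q1110, e3 q1111 (flp_e L14460) q1532, e3 q1112 (flp_e L10192) q790, e3 q1113 (flp_e L14578) q1546, e3 q1114 (flp_e L14586) q1547, e3 q1115 L10222 q1115, e3 q1116 (flp_e L14498) q1537, e3 q1117 L10239 q795, e3 q1118 L10246 q796, e3 q1119 (flp_e L14630) q1552, e3 q1120 (flp_e L14638) q1553, e3 q1121 (flp_e L14654) q1555, e3 q1122 L14688 q1559, e3 q1123 L10290 q1123, e3 q1124 L10300 q1124, e3 q1125 L14728 q1563, e3 q1126 (flp_e L10316) q801, e3 q1127 (flp_e L14756)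 q1565, e3 q1128 L10340 q1128, e3 q1129 L14790 q1569, e3 q1130 (flp_e L10356) q804, e3 q1131 (flp_e L14814) q1571, e3 q1132 L10382 q806, e3 q1133 (flp_e L14833) q1572, e3 q1134 L14858 q1575, e3 q1135 L14873 q1577, e3 q1136 (flp_e L10412) q808, e3 q1137 L10427 q1137, e3 q1138 L10435 q1138, e3 q1139 L14921 q1581, e3 q1140 L14939 q1583, e3 q1141 (flp_e L10458) q812, e3 q1142 L14976 q1585, e3 q1143 L14993 q1587, e3 q1144 (flp_e L10497) q815, e3 q1145 L15019 q1590, e3 q1146 (flp_e L10513) q816, e3 q1147 (flp_e L14887) q1578, e3 q1148 (flp_e L10547) q818, e3 q1149 L15106 q1595, e3 q1150 (flp_e L10563) q819, e3 q1151 L10581 q1151, trivial⟩ (by decide +kernel)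

theorem ce_e_18 : ∀ r, r < 64 → sm ge (Qf (1152 + r)) = Qf (tab Gen.e (1152 + r)) :=
  edges_tab (sm ge) Qf (tab Gen.e) 1152 [(1152, 1599), (1153, 821), (1154, 1154), (1155, 1155), (1156, 1156), (1157, 1607), (1158, 824), (1159, 1610), (1160, 825), (1161, 1161), (1162, 1615), (1163, 827), (1164, 1164), (1165, 1619), (1166, 829), (1167, 1167), (1168, 1168), (1169, 1169), (1170, 1626), (1171, 832), (1172, 1172), (1173, 843), (1174, 844), (1175, 835), (1176, 1176), (1177, 847), (1178, 1639), (1179, 1179), (1180, 849), (1181, 850), (1182, 840), (1183, 1183), (1184, 1628), (1185, 1650), (1186, 1186), (1187, 1631), (1188, 1632), (1189, 1189), (1190, 1634), (1191, 1191), (1192, 1658), (1193, 1638), (1194, 848), (1195, 1661), (1196, 1643), (1197, 1663), (1198, 851), (1199, 871), (1200, 1200), (1201, 1201), (1202, 854), (1203, 875), (1204, 1204), (1205, 1676), (1206, 878), (1207, 1207), (1208, 1208), (1209, 879), (1210, 866), (1211, 880), (1212, 1212), (1213, 881), (1214, 867), (1215, 1215)]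
    ⟨e3 q1152 L15142 q1599, e3 q1153 (flp_e L10590) q821, e3 q1154 L10603 q1154, e3 q1155 L10612 q1155, e3 q1156 L10619 q1156, e3 q1157 L15208 q1607, e3 q1158 (flp_e L10633) q824, e3 q1159 L15241 q1610, e3 q1160 (flp_e L10652) q825, e3 q1161 L10671 q1161, e3 q1162 L15288 q1615, e3 q1163 (flp_e L10681) q827, e3 q1164 L10699 q1164, e3 q1165 L15326 q1619, e3 q1166 (flp_e L10710) q829, e3 q1167 L10724 q1167, e3 q1168 L10733 q1168, e3 q1169 L10738 q1169, e3 q1170 L15385 q1626, e3 q1171 (flp_e L10754) q832, e3 q1172 L10769 q1172, e3 q1173 L10780 q843, e3 q1174 L10786 q844, e3 q1175 (flp_e L10791) q835, e3 q1176 L10805 q1176, e3 q1177 L10813 q847, e3 q1178 L15496 q1639, e3 q1179 L10826 q1179, e3 q1180 L10836 q849, e3 q1181 L10844 q850, e3 q1182 (flp_e L10849) q840, e3 q1183 L10868 q1183, e3 q1184 (flp_e L15411) q1628, e3 q1185 L15593 q1650, e3 q1186 L10892 q1186, e3 q1187 (flp_e L15435) q1631, e3 q1188 (flp_e L15444) q1632, e3 q1189 L10925 q1189, e3 q1190 (flp_e L15467) q1634, e3 q1191 L10938 q1191, e3 q1192 L15667 q1658, e3 q1193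 (flp_e L15492) q1638, e3 q1194 (flp_e L10958) q848, e3 q1195 (flp_e L15695) q1661, e3 q1196 (flp_e L15533) q1643, e3 q1197 L15708 q1663, e3 q1198 (flp_e L10996) q851, e3 q1199 L11013 q871, e3 q1200 L11024 q1200, e3 q1201 L11030 q1201, e3 q1202 (flp_e L11033) q854, e3 q1203 L11049 q875, e3 q1204 L11056 q1204, e3 q1205 L15825 q1676, e3 q1206 L11070 q878, e3 q1207 L11080 q1207, e3 q1208 L11089 q1208, e3 q1209 L11101 q879, e3 q1210 L11111 q866, e3 q1211 L11115 q880, e3 q1212 L11128 q1212, e3 q1213 L11133 q881, e3 q1214 L11140 q867, e3 q1215 L11150 q1215, trivial⟩ (by decide +kernel)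

theorem ce_e_19 : ∀ r, r < 64 → sm ge (Qf (1216 + r)) = Qf (tab Gen.e (1216 + r)) :=
  edges_tab (sm ge) Qf (tab Gen.e) 1216 [(1216, 1216), (1217, 882), (1218, 868), (1219, 1683), (1220, 1688), (1221, 869), (1222, 1664), (1223, 1223), (1224, 1699), (1225, 1667), (1226, 1226), (1227, 1670), (1228, 1228), (1229, 1672), (1230, 1707), (1231, 1674), (1232, 877), (1233, 1709), (1234, 1679), (1235, 1681), (1236, 1685), (1237, 1713), (1238, 883), (1239, 1716), (1240, 1240), (1241, 1720), (1242, 1721), (1243, 886), (1244, 1723), (1245, 888), (1246, 1724), (1247, 1727), (1248, 1729), (1249, 890), (1250, 891), (1251, 1251), (1252, 893), (1253, 895), (1254, 1735), (1255, 1736), (1256, 896), (1257, 1738), (1258, 897), (1259, 910), (1260, 1742), (1261, 1743), (1262, 902), (1263, 1745), (1264, 903), (1265, 1730), (1266, 905), (1267, 906), (1268, 1737), (1269, 908), (1270, 1270), (1271, 1740), (1272, 1741), (1273, 1273), (1274, 1274), (1275, 1275), (1276, 1276), (1277, 1277), (1278, 1278), (1279, 1767)]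
    ⟨e3 q1216 L11157 q1216, e3 q1217 L11166 q882, e3 q1218 L11176 q868, e3 q1219 (flp_e L15905) q1683, e3 q1220 (flp_e L15952) q1688, e3 q1221 (flp_e L11197) q869, e3 q1222 (flp_e L15726) q1664, e3 q1223 L11226 q1223, e3 q1224 L16051 q1699, e3 q1225 (flp_e L15751) q1667, e3 q1226 L11252 q1226, e3 q1227 (flp_e L15784) q1670, e3 q1228 L11275 q1228, e3 q1229 (flp_e L15796) q1672, e3 q1230 L16132 q1707, e3 q1231 (flp_e L15813) q1674, e3 q1232 (flp_e L11299) q877, e3 q1233 (flp_e L16160) q1709, e3 q1234 (flp_e L15856) q1679, e3 q1235 (flp_e L15875) q1681, e3 q1236 (flp_e L15921) q1685, e3 q1237 L16225 q1713, e3 q1238 (flp_e L11365) q883, e3 q1239 (flp_e L16254) q1716, e3 q1240 L11386 q1240, e3 q1241 L16284 q1720, e3 q1242 L16292 q1721, e3 q1243 (flp_e L11411) q886, e3 q1244 (flp_e L16324) q1723, e3 q1245 L11432 q888, e3 q1246 (flp_e L16341) q1724, e3 q1247 L16366 q1727, e3 q1248 L16383 q1729, e3 q1249 (flp_e L11462) q890, e3 q1250 (flp_e L11469) q891, e3 q1251 L11493 q1251, e3 q1252 L11498 q893, e3 q1253 L11513 q895, e3 q1254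 L16473 q1735, e3 q1255 L16489 q1736, e3 q1256 (flp_e L11535) q896, e3 q1257 L16512 q1738, e3 q1258 (flp_e L11550) q897, e3 q1259 L11561 q910, e3 q1260 L16565 q1742, e3 q1261 L16584 q1743, e3 q1262 (flp_e L11600) q902, e3 q1263 L16610 q1745, e3 q1264 (flp_e L11618) q903, e3 q1265 (flp_e L16397) q1730, e3 q1266 (flp_e L11657) q905, e3 q1267 (flp_e L11674) q906, e3 q1268 (flp_e L16502) q1737, e3 q1269 (flp_e L11696) q908, e3 q1270 L11710 q1270, e3 q1271 (flp_e L16529) q1740, e3 q1272 (flp_e L16535) q1741, e3 q1273 L11771 q1273, e3 q1274 L11795 q1274, e3 q1275 L11803 q1275, e3 q1276 L11809 q1276, e3 q1277 L11824 q1277, e3 q1278 L11832 q1278, e3 q1279 L16956 q1767, trivial⟩ (by decide +kernel)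

theorem ce_e_20 : ∀ r, r < 64 → sm ge (Qf (1280 + r)) = Qf (tab Gen.e (1280 + r)) :=
  edges_tab (sm ge) Qf (tab Gen.e) 1280 [(1280, 1280), (1281, 1281), (1282, 1282), (1283, 1772), (1284, 918), (1285, 1285), (1286, 1776), (1287, 920), (1288, 1288), (1289, 1289), (1290, 1290), (1291, 1783), (1292, 923), (1293, 1293), (1294, 1294), (1295, 1295), (1296, 926), (1297, 1297), (1298, 1298), (1299, 1794), (1300, 1300), (1301, 1301), (1302, 1302), (1303, 931), (1304, 1304), (1305, 945), (1306, 1802), (1307, 1307), (1308, 948), (1309, 949), (1310, 1310), (1311, 951), (1312, 1808), (1313, 954), (1314, 939), (1315, 1811), (1316, 1812), (1317, 957), (1318, 1318), (1319, 1799), (1320, 1320), (1321, 1821), (1322, 1322), (1323, 1801), (1324, 946), (1325, 1825), (1326, 1826), (1327, 1805), (1328, 1328), (1329, 1831), (1330, 1807), (1331, 1834), (1332, 953), (1333, 1836), (1334, 1810), (1335, 956), (1336, 1839), (1337, 958), (1338, 980), (1339, 1339), (1340, 1844), (1341, 983), (1342, 1342), (1343, 1343)]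
    ⟨e3 q1280 L11844 q1280, e3 q1281 L11851 q1281, e3 q1282 L11858 q1282, e3 q1283 L17002 q1772, e3 q1284 (flp_e L11872) q918, e3 q1285 L11890 q1285, e3 q1286 L17039 q1776, e3 q1287 (flp_e L11901) q920, e3 q1288 L11916 q1288, e3 q1289 L11925 q1289, e3 q1290 L11929 q1290, e3 q1291 L17098 q1783, e3 q1292 (flp_e L11943) q923, e3 q1293 L11959 q1293, e3 q1294 L11967 q1294, e3 q1295 L11971 q1295, e3 q1296 (flp_e L11977) q926, e3 q1297 L11992 q1297, e3 q1298 L12000 q1298, e3 q1299 L17203 q1794, e3 q1300 L12007 q1300, e3 q1301 L12016 q1301, e3 q1302 L12024 q1302, e3 q1303 (flp_e L12029) q931, e3 q1304 L12045 q1304, e3 q1305 L12055 q945, e3 q1306 L17287 q1802, e3 q1307 L12066 q1307, e3 q1308 L12073 q948, e3 q1309 L12081 q949, e3 q1310 L12092 q1310, e3 q1311 L12101 q951, e3 q1312 L17367 q1808, e3 q1313 L12128 q954, e3 q1314 (flp_e L12132) q939, e3 q1315 (flp_e L17412) q1811, e3 q1316 (flp_e L17416) q1812, e3 q1317 L12159 q957, e3 q1318 L12172 q1318, e3 q1319 (flp_e L17252) q1799, e3 q1320 L12184 q1320, e3 q1321 L17494 q1821, e3 q1322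 L12204 q1322, e3 q1323 (flp_e L17282) q1801, e3 q1324 (flp_e L12218) q946, e3 q1325 (flp_e L17533) q1825, e3 q1326 (flp_e L17540) q1826, e3 q1327 (flp_e L17318) q1805, e3 q1328 L12254 q1328, e3 q1329 L17579 q1831, e3 q1330 (flp_e L17351) q1807, e3 q1331 L17603 q1834, e3 q1332 (flp_e L12283) q953, e3 q1333 (flp_e L17623) q1836, e3 q1334 (flp_e L17403) q1810, e3 q1335 L12310 q956, e3 q1336 (flp_e L17644) q1839, e3 q1337 (flp_e L12321) q958, e3 q1338 L12338 q980, e3 q1339 L12348 q1339, e3 q1340 L17703 q1844, e3 q1341 L12360 q983, e3 q1342 L12369 q1342, e3 q1343 L12376 q1343, trivial⟩ (by decide +kernel)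

theorem ce_e_21 : ∀ r, r < 64 → sm ge (Qf (1344 + r)) = Qf (tab Gen.e (1344 + r)) :=
  edges_tab (sm ge) Qf (tab Gen.e) 1344 [(1344, 985), (1345, 1345), (1346, 1850), (1347, 1347), (1348, 966), (1349, 1853), (1350, 1854), (1351, 1351), (1352, 1352), (1353, 977), (1354, 1354), (1355, 978), (1356, 1356), (1357, 1357), (1358, 1858), (1359, 1840), (1360, 1360), (1361, 1863), (1362, 1362), (1363, 982), (1364, 1865), (1365, 1866), (1366, 1868), (1367, 987), (1368, 989), (1369, 1870), (1370, 1370), (1371, 992), (1372, 1872), (1373, 995), (1374, 996), (1375, 1874), (1376, 997), (1377, 1377), (1378, 1001), (1379, 1002), (1380, 1877), (1381, 1878), (1382, 1879), (1383, 1383), (1384, 1885), (1385, 1887), (1386, 1005), (1387, 1387), (1388, 1388), (1389, 1389), (1390, 1390), (1391, 1391), (1392, 1895), (1393, 1019), (1394, 1898), (1395, 1900), (1396, 1902), (1397, 1014), (1398, 1905), (1399, 1015), (1400, 1908), (1401, 1016), (1402, 1402), (1403, 1403), (1404, 1914), (1405, 1916), (1406, 1020), (1407, 1919)]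
    ⟨e3 q1344 L12388 q985, e3 q1345 L12396 q1345, e3 q1346 L17794 q1850, e3 q1347 L12426 q1347, e3 q1348 (flp_e L12430) q966, e3 q1349 (flp_e L17839) q1853, e3 q1350 (flp_e L17846) q1854, e3 q1351 L12462 q1351, e3 q1352 L12483 q1352, e3 q1353 L12496 q977, e3 q1354 L12522 q1354, e3 q1355 L12545 q978, e3 q1356 L12554 q1356, e3 q1357 L12560 q1357, e3 q1358 (flp_e L17927) q1858, e3 q1359 (flp_e L17656) q1840, e3 q1360 L12598 q1360, e3 q1361 L18057 q1863, e3 q1362 L12631 q1362, e3 q1363 (flp_e L12636) q982, e3 q1364 (flp_e L18096) q1865, e3 q1365 (flp_e L18103) q1866, e3 q1366 L18150 q1868, e3 q1367 (flp_e L12707) q987, e3 q1368 L12733 q989, e3 q1369 L18300 q1870, e3 q1370 L12818 q1370, e3 q1371 (flp_e L12840) q992, e3 q1372 (flp_e L18389) q1872, e3 q1373 L12882 q995, e3 q1374 L12890 q996, e3 q1375 (flp_e L18434) q1874, e3 q1376 (flp_e L12939) q997, e3 q1377 L13020 q1377, e3 q1378 L13077 q1001, e3 q1379 L13087 q1002, e3 q1380 (flp_e L18679) q1877, e3 q1381 (flp_e L18689) q1878, e3 q1382 (flp_e L18699) q1879, e3 q1383 L13126 q1383,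 e3 q1384 L18754 q1885, e3 q1385 L18773 q1887, e3 q1386 (flp_e L13149) q1005, e3 q1387 L13164 q1387, e3 q1388 L13176 q1388, e3 q1389 L13188 q1389, e3 q1390 L13199 q1390, e3 q1391 L13210 q1391, e3 q1392 L18854 q1895, e3 q1393 L13229 q1019, e3 q1394 L18878 q1898, e3 q1395 L18897 q1900, e3 q1396 L18915 q1902, e3 q1397 (flp_e L13259) q1014, e3 q1398 L18938 q1905, e3 q1399 (flp_e L13277) q1015, e3 q1400 L18966 q1908, e3 q1401 (flp_e L13294) q1016, e3 q1402 L13307 q1402, e3 q1403 L13313 q1403, e3 q1404 L19016 q1914, e3 q1405 L19035 q1916, e3 q1406 (flp_e L13339) q1020, e3 q1407 L19062 q1919, trivial⟩ (by decide +kernel)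

theorem ce_e_22 : ∀ r, r < 64 → sm ge (Qf (1408 + r)) = Qf (tab Gen.e (1408 + r)) :=
  edges_tab (sm ge) Qf (tab Gen.e) 1408 [(1408, 1921), (1409, 1022), (1410, 1924), (1411, 1023), (1412, 1412), (1413, 1929), (1414, 1025), (1415, 1932), (1416, 1026), (1417, 1036), (1418, 1936), (1419, 1028), (1420, 1077), (1421, 1040), (1422, 1041), (1423, 1944), (1424, 1031), (1425, 1947), (1426, 1032), (1427, 1930), (1428, 1951), (1429, 1034), (1430, 1082), (1431, 1934), (1432, 1935), (1433, 1037), (1434, 1086), (1435, 1938), (1436, 1964), (1437, 1089), (1438, 1941), (1439, 1942), (1440, 1969), (1441, 1441), (1442, 1442), (1443, 1044), (1444, 1973), (1445, 1445), (1446, 1977), (1447, 1048), (1448, 1978), (1449, 1981), (1450, 1983), (1451, 1050), (1452, 1452), (1453, 1987), (1454, 1989), (1455, 1053), (1456, 1992), (1457, 1994), (1458, 1055), (1459, 1997), (1460, 1056), (1461, 1984), (1462, 2001), (1463, 1058), (1464, 2003), (1465, 1059), (1466, 1466), (1467, 2007), (1468, 1061), (1469, 1909), (1470, 1470), (1471, 1471)]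
    ⟨e3 q1408 L19082 q1921, e3 q1409 (flp_e L13367) q1022, e3 q1410 L19108 q1924, e3 q1411 (flp_e L13384) q1023, e3 q1412 L13397 q1412, e3 q1413 L19148 q1929, e3 q1414 (flp_e L13408) q1025, e3 q1415 L19179 q1932, e3 q1416 (flp_e L13427) q1026, e3 q1417 L13442 q1036, e3 q1418 L19213 q1936, e3 q1419 (flp_e L13454) q1028, e3 q1420 L13465 q1077, e3 q1421 L13474 q1040, e3 q1422 L13480 q1041, e3 q1423 L19275 q1944, e3 q1424 (flp_e L13492) q1031, e3 q1425 L19304 q1947, e3 q1426 (flp_e L13511) q1032, e3 q1427 (flp_e L19166) q1930, e3 q1428 L19338 q1951, e3 q1429 (flp_e L13539) q1034, e3 q1430 L13556 q1082, e3 q1431 (flp_e L19203) q1934, e3 q1432 (flp_e L19209) q1935, e3 q1433 (flp_e L13574) q1037, e3 q1434 L13589 q1086, e3 q1435 (flp_e L19235) q1938, e3 q1436 L19448 q1964, e3 q1437 L13609 q1089, e3 q1438 (flp_e L19255) q1941, e3 q1439 (flp_e L19262) q1942, e3 q1440 L19487 q1969, e3 q1441 L13645 q1441, e3 q1442 L13655 q1442, e3 q1443 (flp_e L13660) q1044, e3 q1444 (flp_e L19539) q1973, e3 q1445 L13688 q1445, e3 q1446 L19574 q1977,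 e3 q1447 L13712 q1048, e3 q1448 (flp_e L19589) q1978, e3 q1449 L19613 q1981, e3 q1450 L19630 q1983, e3 q1451 (flp_e L13743) q1050, e3 q1452 L13757 q1452, e3 q1453 L19665 q1987, e3 q1454 L19685 q1989, e3 q1455 (flp_e L13779) q1053, e3 q1456 L19713 q1992, e3 q1457 L19732 q1994, e3 q1458 (flp_e L13807) q1055, e3 q1459 L19758 q1997, e3 q1460 (flp_e L13825) q1056, e3 q1461 (flp_e L19644) q1984, e3 q1462 L19800 q2001, e3 q1463 (flp_e L13850) q1058, e3 q1464 L19829 q2003, e3 q1465 (flp_e L13868) q1059, e3 q1466 L13886 q1466, e3 q1467 L19865 q2007, e3 q1468 (flp_e L13895) q1061, e3 q1469 (flp_e L18978) q1909, e3 q1470 L13916 q1470, e3 q1471 L13924 q1471, trivial⟩ (by decide +kernel)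

theorem ce_e_23 : ∀ r, r < 64 → sm ge (Qf (1472 + r)) = Qf (tab Gen.e (1472 + r)) :=
  edges_tab (sm ge) Qf (tab Gen.e) 1472 [(1472, 2015), (1473, 1064), (1474, 2018), (1475, 1065), (1476, 1476), (1477, 2023), (1478, 1067), (1479, 1479), (1480, 2027), (1481, 1069), (1482, 1925), (1483, 1483), (1484, 1484), (1485, 2034), (1486, 1072), (1487, 1933), (1488, 1083), (1489, 1084), (1490, 1075), (1491, 1937), (1492, 1087), (1493, 2047), (1494, 1940), (1495, 1090), (1496, 1091), (1497, 1080), (1498, 1952), (1499, 2036), (1500, 2058), (1501, 1955), (1502, 2039), (1503, 2040), (1504, 1958), (1505, 2042), (1506, 1960), (1507, 2069), (1508, 1962), (1509, 2046), (1510, 1088), (1511, 2074), (1512, 2075), (1513, 1967), (1514, 2051), (1515, 2079), (1516, 1092), (1517, 1517), (1518, 1518), (1519, 1519), (1520, 1095), (1521, 1521), (1522, 1522), (1523, 2092), (1524, 1524), (1525, 1525), (1526, 1526), (1527, 1527), (1528, 1108), (1529, 1529), (1530, 2103), (1531, 1531), (1532, 1111), (1533, 1103), (1534, 2108), (1535, 2109)]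
    ⟨e3 q1472 L19931 q2015, e3 q1473 (flp_e L13936) q1064, e3 q1474 L19964 q2018, e3 q1475 (flp_e L13957) q1065, e3 q1476 L13976 q1476, e3 q1477 L20011 q2023, e3 q1478 (flp_e L13987) q1067, e3 q1479 L14005 q1479, e3 q1480 L20049 q2027, e3 q1481 (flp_e L14016) q1069, e3 q1482 (flp_e L19121) q1925, e3 q1483 L14038 q1483, e3 q1484 L14044 q1484, e3 q1485 L20107 q2034, e3 q1486 (flp_e L14060) q1072, e3 q1487 (flp_e L19193) q1933, e3 q1488 L14085 q1083, e3 q1489 L14092 q1084, e3 q1490 (flp_e L14097) q1075, e3 q1491 (flp_e L19226) q1937, e3 q1492 L14121 q1087, e3 q1493 L20218 q2047, e3 q1494 (flp_e L19246) q1940, e3 q1495 L14140 q1090, e3 q1496 L14149 q1091, e3 q1497 (flp_e L14154) q1080, e3 q1498 (flp_e L19356) q1952, e3 q1499 (flp_e L20135) q2036, e3 q1500 L20308 q2058, e3 q1501 (flp_e L19379) q1955, e3 q1502 (flp_e L20155) q2039, e3 q1503 (flp_e L20165) q2040, e3 q1504 (flp_e L19407) q1958, e3 q1505 (flp_e L20187) q2042, e3 q1506 (flp_e L19419) q1960, e3 q1507 L20402 q2069, e3 q1508 (flp_e L19436) q1962, e3 q1509 (flp_e L20214)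 q2046, e3 q1510 (flp_e L14268) q1088, e3 q1511 (flp_e L20445) q2074, e3 q1512 (flp_e L20451) q2075, e3 q1513 (flp_e L19475) q1967, e3 q1514 (flp_e L20248) q2051, e3 q1515 L20480 q2079, e3 q1516 (flp_e L14317) q1092, e3 q1517 L14335 q1517, e3 q1518 L14344 q1518, e3 q1519 L14351 q1519, e3 q1520 (flp_e L14354) q1095, e3 q1521 L14371 q1521, e3 q1522 L14379 q1522, e3 q1523 L20597 q2092, e3 q1524 L14391 q1524, e3 q1525 L14399 q1525, e3 q1526 L14409 q1526, e3 q1527 L14420 q1527, e3 q1528 L14430 q1108, e3 q1529 L14434 q1529, e3 q1530 L20687 q2103, e3 q1531 L14452 q1531, e3 q1532 L14460 q1111, e3 q1533 (flp_e L14463) q1103, e3 q1534 (flp_e L20733) q2108, e3 q1535 (flp_e L20740) q2109, trivial⟩ (by decide +kernel)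

theorem ce_e_24 : ∀ r, r < 64 → sm ge (Qf (1536 + r)) = Qf (tab Gen.e (1536 + r)) :=
  edges_tab (sm ge) Qf (tab Gen.e) 1536 [(1536, 1536), (1537, 1116), (1538, 2113), (1539, 1539), (1540, 2100), (1541, 1109), (1542, 2118), (1543, 2119), (1544, 1544), (1545, 2107), (1546, 1113), (1547, 1114), (1548, 2124), (1549, 2125), (1550, 2127), (1551, 1551), (1552, 1119), (1553, 1120), (1554, 1554), (1555, 1121), (1556, 2132), (1557, 2134), (1558, 2138), (1559, 1122), (1560, 2141), (1561, 1561), (1562, 2145), (1563, 1125), (1564, 2147), (1565, 1127), (1566, 2148), (1567, 2151), (1568, 2153), (1569, 1129), (1570, 1570), (1571, 1131), (1572, 1133), (1573, 2158), (1574, 2160), (1575, 1134), (1576, 2163), (1577, 1135), (1578, 1147), (1579, 2167), (1580, 2169), (1581, 1139), (1582, 2172), (1583, 1140), (1584, 2154), (1585, 1142), (1586, 2177), (1587, 1143), (1588, 2161), (1589, 2181), (1590, 1145), (1591, 1591), (1592, 2165), (1593, 2166), (1594, 1594), (1595, 1149), (1596, 1596), (1597, 1597), (1598, 1598), (1599, 1152)]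
    ⟨e3 q1536 L14490 q1536, e3 q1537 L14498 q1116, e3 q1538 L20766 q2113, e3 q1539 L14518 q1539, e3 q1540 (flp_e L20668) q2100, e3 q1541 (flp_e L14530) q1109, e3 q1542 (flp_e L20819) q2118, e3 q1543 (flp_e L20827) q2119, e3 q1544 L14560 q1544, e3 q1545 (flp_e L20723) q2107, e3 q1546 L14578 q1113, e3 q1547 L14586 q1114, e3 q1548 (flp_e L20871) q2124, e3 q1549 (flp_e L20880) q2125, e3 q1550 (flp_e L20894) q2127, e3 q1551 L14623 q1551, e3 q1552 L14630 q1119, e3 q1553 L14638 q1120, e3 q1554 L14648 q1554, e3 q1555 L14654 q1121, e3 q1556 (flp_e L20938) q2132, e3 q1557 (flp_e L20955) q2134, e3 q1558 L20986 q2138, e3 q1559 (flp_e L14688) q1122, e3 q1560 (flp_e L21023) q2141, e3 q1561 L14712 q1561, e3 q1562 L21057 q2145, e3 q1563 (flp_e L14728) q1125, e3 q1564 (flp_e L21083) q2147, e3 q1565 L14756 q1127, e3 q1566 (flp_e L21104) q2148, e3 q1567 L21132 q2151, e3 q1568 L21149 q2153, e3 q1569 (flp_e L14790) q1129, e3 q1570 L14806 q1570, e3 q1571 L14814 q1131, e3 q1572 L14833 q1133, e3 q1573 L21229 q2158, e3 q1574 L21245 q2160, e3 q1575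 (flp_e L14858) q1134, e3 q1576 L21272 q2163, e3 q1577 (flp_e L14873) q1135, e3 q1578 L14887 q1147, e3 q1579 L21323 q2167, e3 q1580 L21342 q2169, e3 q1581 (flp_e L14921) q1139, e3 q1582 L21372 q2172, e3 q1583 (flp_e L14939) q1140, e3 q1584 (flp_e L21166) q2154, e3 q1585 (flp_e L14976) q1142, e3 q1586 L21462 q2177, e3 q1587 (flp_e L14993) q1143, e3 q1588 (flp_e L21261) q2161, e3 q1589 L21499 q2181, e3 q1590 (flp_e L15019) q1145, e3 q1591 L15034 q1591, e3 q1592 (flp_e L21292) q2165, e3 q1593 (flp_e L21299) q2166, e3 q1594 L15096 q1594, e3 q1595 (flp_e L15106) q1149, e3 q1596 L15122 q1596, e3 q1597 L15132 q1597, e3 q1598 L15139 q1598, e3 q1599 (flp_e L15142) q1152, trivial⟩ (by decide +kernel)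

theorem ce_e_25 : ∀ r, r < 64 → sm ge (Qf (1600 + r)) = Qf (tab Gen.e (1600 + r)) :=
  edges_tab (sm ge) Qf (tab Gen.e) 1600 [(1600, 1600), (1601, 1601), (1602, 2200), (1603, 1603), (1604, 1604), (1605, 1605), (1606, 2206), (1607, 1157), (1608, 1608), (1609, 2210), (1610, 1159), (1611, 1611), (1612, 1612), (1613, 1613), (1614, 2217), (1615, 1162), (1616, 1616), (1617, 1617), (1618, 1618), (1619, 1165), (1620, 1620), (1621, 1621), (1622, 2230), (1623, 1623), (1624, 1624), (1625, 1625), (1626, 1170), (1627, 1627), (1628, 1184), (1629, 2241), (1630, 1630), (1631, 1187), (1632, 1188), (1633, 1633), (1634, 1190), (1635, 1635), (1636, 2251), (1637, 1637), (1638, 1193), (1639, 1178), (1640, 2255), (1641, 2256), (1642, 1642), (1643, 1196), (1644, 1644), (1645, 2236), (1646, 1646), (1647, 2266), (1648, 1648), (1649, 2240), (1650, 1185), (1651, 2270), (1652, 2271), (1653, 2245), (1654, 1654), (1655, 2276), (1656, 2248), (1657, 2279), (1658, 1192), (1659, 2281), (1660, 2254), (1661, 1195), (1662, 2284), (1663, 1197)]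
    ⟨e3 q1600 L15155 q1600, e3 q1601 L15162 q1601, e3 q1602 L21734 q2200, e3 q1603 L15178 q1603, e3 q1604 L15187 q1604, e3 q1605 L15195 q1605, e3 q1606 L21791 q2206, e3 q1607 (flp_e L15208) q1157, e3 q1608 L15229 q1608, e3 q1609 L21832 q2210, e3 q1610 (flp_e L15241) q1159, e3 q1611 L15257 q1611, e3 q1612 L15268 q1612, e3 q1613 L15273 q1613, e3 q1614 L21898 q2217, e3 q1615 (flp_e L15288) q1162, e3 q1616 L15305 q1616, e3 q1617 L15315 q1617, e3 q1618 L15320 q1618, e3 q1619 (flp_e L15326) q1165, e3 q1620 L15342 q1620, e3 q1621 L15349 q1621, e3 q1622 L22011 q2230, e3 q1623 L15360 q1623, e3 q1624 L15371 q1624, e3 q1625 L15380 q1625, e3 q1626 (flp_e L15385) q1170, e3 q1627 L15402 q1627, e3 q1628 L15411 q1184, e3 q1629 L22106 q2241, e3 q1630 L15426 q1630, e3 q1631 L15435 q1187, e3 q1632 L15444 q1188, e3 q1633 L15457 q1633, e3 q1634 L15467 q1190, e3 q1635 L15471 q1635, e3 q1636 L22199 q2251, e3 q1637 L15484 q1637, e3 q1638 L15492 q1193, e3 q1639 (flp_e L15496) q1178, e3 q1640 (flp_e L22245) q2255, e3 q1641 (flp_e L22251) q2256, e3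 q1642 L15525 q1642, e3 q1643 L15533 q1196, e3 q1644 L15548 q1644, e3 q1645 (flp_e L22073) q2236, e3 q1646 L15561 q1646, e3 q1647 L22338 q2266, e3 q1648 L15580 q1648, e3 q1649 (flp_e L22101) q2240, e3 q1650 (flp_e L15593) q1185, e3 q1651 (flp_e L22378) q2270, e3 q1652 (flp_e L22387) q2271, e3 q1653 (flp_e L22147) q2245, e3 q1654 L15637 q1654, e3 q1655 L22430 q2276, e3 q1656 (flp_e L22184) q2248, e3 q1657 L22459 q2279, e3 q1658 (flp_e L15667) q1192, e3 q1659 (flp_e L22478) q2281, e3 q1660 (flp_e L22234) q2254, e3 q1661 L15695 q1195, e3 q1662 (flp_e L22503) q2284, e3 q1663 (flp_e L15708) q1197, trivial⟩ (by decide +kernel)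

theorem ce_e_26 : ∀ r, r < 64 → sm ge (Qf (1664 + r)) = Qf (tab Gen.e (1664 + r)) :=
  edges_tab (sm ge) Qf (tab Gen.e) 1664 [(1664, 1222), (1665, 1665), (1666, 2291), (1667, 1225), (1668, 1668), (1669, 1669), (1670, 1227), (1671, 1671), (1672, 1229), (1673, 2301), (1674, 1231), (1675, 1675), (1676, 1205), (1677, 2305), (1678, 2306), (1679, 1234), (1680, 1680), (1681, 1235), (1682, 1682), (1683, 1219), (1684, 1684), (1685, 1236), (1686, 1686), (1687, 1687), (1688, 1220), (1689, 1689), (1690, 1690), (1691, 1691), (1692, 2312), (1693, 2285), (1694, 1694), (1695, 2287), (1696, 2325), (1697, 2289), (1698, 1698), (1699, 1224), (1700, 2328), (1701, 2329), (1702, 2294), (1703, 2296), (1704, 2333), (1705, 2334), (1706, 2300), (1707, 1230), (1708, 2337), (1709, 1233), (1710, 2339), (1711, 2340), (1712, 2341), (1713, 1237), (1714, 2344), (1715, 1715), (1716, 1239), (1717, 2346), (1718, 2349), (1719, 2351), (1720, 1241), (1721, 1242), (1722, 1722), (1723, 1244), (1724, 1246), (1725, 2357), (1726, 2358), (1727, 1247)]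
    ⟨e3 q1664 L15726 q1222, e3 q1665 L15735 q1665, e3 q1666 L22563 q2291, e3 q1667 L15751 q1225, e3 q1668 L15762 q1668, e3 q1669 L15770 q1669, e3 q1670 L15784 q1227, e3 q1671 L15793 q1671, e3 q1672 L15796 q1229, e3 q1673 L22667 q2301, e3 q1674 L15813 q1231, e3 q1675 L15821 q1675, e3 q1676 (flp_e L15825) q1205, e3 q1677 (flp_e L22713) q2305, e3 q1678 (flp_e L22722) q2306, e3 q1679 L15856 q1234, e3 q1680 L15867 q1680, e3 q1681 L15875 q1235, e3 q1682 L15889 q1682, e3 q1683 L15905 q1219, e3 q1684 L15915 q1684, e3 q1685 L15921 q1236, e3 q1686 L15930 q1686, e3 q1687 L15936 q1687, e3 q1688 L15952 q1220, e3 q1689 L15963 q1689, e3 q1690 L15971 q1690, e3 q1691 L15979 q1691, e3 q1692 (flp_e L22816) q2312, e3 q1693 (flp_e L22517) q2285, e3 q1694 L16015 q1694, e3 q1695 (flp_e L22531) q2287, e3 q1696 L22951 q2325, e3 q1697 (flp_e L22551) q2289, e3 q1698 L16046 q1698, e3 q1699 (flp_e L16051) q1224, e3 q1700 (flp_e L22992) q2328, e3 q1701 (flp_e L23001) q2329, e3 q1702 (flp_e L22597) q2294, e3 q1703 (flp_e L22618) q2296, e3 q1704 L23052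 q2333, e3 q1705 L23081 q2334, e3 q1706 (flp_e L22663) q2300, e3 q1707 (flp_e L16132) q1230, e3 q1708 (flp_e L23115) q2337, e3 q1709 L16160 q1233, e3 q1710 (flp_e L23139) q2339, e3 q1711 L23169 q2340, e3 q1712 L23183 q2341, e3 q1713 (flp_e L16225) q1237, e3 q1714 (flp_e L23223) q2344, e3 q1715 L16248 q1715, e3 q1716 L16254 q1239, e3 q1717 (flp_e L23249) q2346, e3 q1718 L23274 q2349, e3 q1719 L23292 q2351, e3 q1720 (flp_e L16284) q1241, e3 q1721 (flp_e L16292) q1242, e3 q1722 L16319 q1722, e3 q1723 L16324 q1244, e3 q1724 L16341 q1246, e3 q1725 L23390 q2357, e3 q1726 L23408 q2358, e3 q1727 (flp_e L16366) q1247, trivial⟩ (by decide +kernel)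

theorem ce_e_27 : ∀ r, r < 64 → sm ge (Qf (1728 + r)) = Qf (tab Gen.e (1728 + r)) :=
  edges_tab (sm ge) Qf (tab Gen.e) 1728 [(1728, 2360), (1729, 1248), (1730, 1265), (1731, 1731), (1732, 1732), (1733, 1733), (1734, 2366), (1735, 1254), (1736, 1255), (1737, 1268), (1738, 1257), (1739, 1739), (1740, 1271), (1741, 1272), (1742, 1260), (1743, 1261), (1744, 2359), (1745, 1263), (1746, 1746), (1747, 2362), (1748, 2363), (1749, 2367), (1750, 1750), (1751, 2369), (1752, 2370), (1753, 1753), (1754, 2372), (1755, 2395), (1756, 1756), (1757, 2375), (1758, 2376), (1759, 1759), (1760, 2400), (1761, 1761), (1762, 1762), (1763, 1763), (1764, 2404), (1765, 1765), (1766, 1766), (1767, 1279), (1768, 2408), (1769, 2409), (1770, 1770), (1771, 2412), (1772, 1283), (1773, 1773), (1774, 1774), (1775, 1775), (1776, 1286), (1777, 1777), (1778, 1778), (1779, 2423), (1780, 1780), (1781, 1781), (1782, 1782), (1783, 1291), (1784, 1784), (1785, 1785), (1786, 2431), (1787, 1787), (1788, 1788), (1789, 1789), (1790, 1790), (1791, 1791)]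
    ⟨e3 q1728 L23435 q2360, e3 q1729 (flp_e L16383) q1248, e3 q1730 L16397 q1265, e3 q1731 L16406 q1731, e3 q1732 L16430 q1732, e3 q1733 L16439 q1733, e3 q1734 L23551 q2366, e3 q1735 (flp_e L16473) q1254, e3 q1736 (flp_e L16489) q1255, e3 q1737 L16502 q1268, e3 q1738 (flp_e L16512) q1257, e3 q1739 L16523 q1739, e3 q1740 L16529 q1271, e3 q1741 L16535 q1272, e3 q1742 (flp_e L16565) q1260, e3 q1743 (flp_e L16584) q1261, e3 q1744 (flp_e L23424) q2359, e3 q1745 (flp_e L16610) q1263, e3 q1746 L16626 q1746, e3 q1747 (flp_e L23456) q2362, e3 q1748 (flp_e L23462) q2363, e3 q1749 (flp_e L23582) q2367, e3 q1750 L16714 q1750, e3 q1751 (flp_e L23614) q2369, e3 q1752 (flp_e L23620) q2370, e3 q1753 L16744 q1753, e3 q1754 (flp_e L23644) q2372, e3 q1755 L24009 q2395, e3 q1756 L16761 q1756, e3 q1757 (flp_e L23661) q2375, e3 q1758 (flp_e L23669) q2376, e3 q1759 L16854 q1759, e3 q1760 L24211 q2400, e3 q1761 L16902 q1761, e3 q1762 L16910 q1762, e3 q1763 L16930 q1763, e3 q1764 L24295 q2404, e3 q1765 L16946 q1765, e3 q1766 L16954 q1766, e3 q1767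 (flp_e L16956) q1279, e3 q1768 (flp_e L24336) q2408, e3 q1769 (flp_e L24342) q2409, e3 q1770 L16988 q1770, e3 q1771 L24368 q2412, e3 q1772 (flp_e L17002) q1283, e3 q1773 L17020 q1773, e3 q1774 L17030 q1774, e3 q1775 L17034 q1775, e3 q1776 (flp_e L17039) q1286, e3 q1777 L17056 q1777, e3 q1778 L17066 q1778, e3 q1779 L24486 q2423, e3 q1780 L17075 q1780, e3 q1781 L17085 q1781, e3 q1782 L17092 q1782, e3 q1783 (flp_e L17098) q1291, e3 q1784 L17116 q1784, e3 q1785 L17125 q1785, e3 q1786 L24576 q2431, e3 q1787 L17134 q1787, e3 q1788 L17142 q1788, e3 q1789 L17151 q1789, e3 q1790 L17163 q1790, e3 q1791 L17171 q1791, trivial⟩ (by decide +kernel)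

theorem ce_e_28 : ∀ r, r < 64 → sm ge (Qf (1792 + r)) = Qf (tab Gen.e (1792 + r)) :=
  edges_tab (sm ge) Qf (tab Gen.e) 1792 [(1792, 2437), (1793, 1793), (1794, 1299), (1795, 2440), (1796, 2441), (1797, 1797), (1798, 1798), (1799, 1319), (1800, 2446), (1801, 1323), (1802, 1306), (1803, 2449), (1804, 2450), (1805, 1327), (1806, 2453), (1807, 1330), (1808, 1312), (1809, 2456), (1810, 1334), (1811, 1315), (1812, 1316), (1813, 2459), (1814, 2460), (1815, 1815), (1816, 2465), (1817, 1817), (1818, 2445), (1819, 2469), (1820, 1820), (1821, 1321), (1822, 2473), (1823, 2474), (1824, 2448), (1825, 1325), (1826, 1326), (1827, 2478), (1828, 2479), (1829, 1829), (1830, 2483), (1831, 1329), (1832, 2485), (1833, 2455), (1834, 1331), (1835, 2488), (1836, 1333), (1837, 2491), (1838, 1838), (1839, 1336), (1840, 1359), (1841, 1841), (1842, 2495), (1843, 1843), (1844, 1340), (1845, 2498), (1846, 2499), (1847, 1847), (1848, 2502), (1849, 1849), (1850, 1346), (1851, 2505), (1852, 1852), (1853, 1349), (1854, 1350), (1855, 2507)]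
    ⟨e3 q1792 L24658 q2437, e3 q1793 L17198 q1793, e3 q1794 (flp_e L17203) q1299, e3 q1795 (flp_e L24702) q2440, e3 q1796 (flp_e L24706) q2441, e3 q1797 L17230 q1797, e3 q1798 L17242 q1798, e3 q1799 L17252 q1319, e3 q1800 L24778 q2446, e3 q1801 L17282 q1323, e3 q1802 (flp_e L17287) q1306, e3 q1803 (flp_e L24828) q2449, e3 q1804 (flp_e L24834) q2450, e3 q1805 L17318 q1327, e3 q1806 L24879 q2453, e3 q1807 L17351 q1330, e3 q1808 (flp_e L17367) q1312, e3 q1809 (flp_e L24956) q2456, e3 q1810 L17403 q1334, e3 q1811 L17412 q1315, e3 q1812 L17416 q1316, e3 q1813 (flp_e L25000) q2459, e3 q1814 (flp_e L25005) q2460, e3 q1815 L17443 q1815, e3 q1816 L25059 q2465, e3 q1817 L17462 q1817, e3 q1818 (flp_e L24759) q2445, e3 q1819 L25095 q2469, e3 q1820 L17490 q1820, e3 q1821 (flp_e L17494) q1321, e3 q1822 (flp_e L25134) q2473, e3 q1823 (flp_e L25142) q2474, e3 q1824 (flp_e L24818) q2448, e3 q1825 L17533 q1325, e3 q1826 L17540 q1326, e3 q1827 (flp_e L25176) q2478, e3 q1828 (flp_e L25184) q2479, e3 q1829 L17565 q1829, e3 q1830 L25212 q2483,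 e3 q1831 (flp_e L17579) q1329, e3 q1832 (flp_e L25234) q2485, e3 q1833 (flp_e L24915) q2455, e3 q1834 (flp_e L17603) q1331, e3 q1835 (flp_e L25257) q2488, e3 q1836 L17623 q1333, e3 q1837 (flp_e L25280) q2491, e3 q1838 L17639 q1838, e3 q1839 L17644 q1336, e3 q1840 L17656 q1359, e3 q1841 L17666 q1841, e3 q1842 L25347 q2495, e3 q1843 L17700 q1843, e3 q1844 (flp_e L17703) q1340, e3 q1845 (flp_e L25397) q2498, e3 q1846 (flp_e L25403) q2499, e3 q1847 L17739 q1847, e3 q1848 L25459 q2502, e3 q1849 L17774 q1849, e3 q1850 (flp_e L17794) q1346, e3 q1851 (flp_e L25545) q2505, e3 q1852 L17831 q1852, e3 q1853 L17839 q1349, e3 q1854 L17846 q1350, e3 q1855 (flp_e L25585) q2507, trivial⟩ (by decide +kernel)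

theorem ce_e_29 : ∀ r, r < 64 → sm ge (Qf (1856 + r)) = Qf (tab Gen.e (1856 + r)) :=
  edges_tab (sm ge) Qf (tab Gen.e) 1856 [(1856, 2508), (1857, 1857), (1858, 1358), (1859, 1859), (1860, 1860), (1861, 2512), (1862, 1862), (1863, 1361), (1864, 2514), (1865, 1364), (1866, 1365), (1867, 2516), (1868, 1366), (1869, 1869), (1870, 1369), (1871, 2519), (1872, 1372), (1873, 1873), (1874, 1375), (1875, 1875), (1876, 1876), (1877, 1380), (1878, 1381), (1879, 1382), (1880, 2525), (1881, 2526), (1882, 2531), (1883, 2533), (1884, 2535), (1885, 1384), (1886, 2538), (1887, 1385), (1888, 1888), (1889, 1889), (1890, 1890), (1891, 1891), (1892, 2546), (1893, 2548), (1894, 2550), (1895, 1392), (1896, 2553), (1897, 2555), (1898, 1394), (1899, 2558), (1900, 1395), (1901, 2561), (1902, 1396), (1903, 2551), (1904, 2565), (1905, 1398), (1906, 1906), (1907, 2569), (1908, 1400), (1909, 1469), (1910, 1910), (1911, 1911), (1912, 2577), (1913, 2579), (1914, 1404), (1915, 2582), (1916, 1405), (1917, 1917), (1918, 2587), (1919, 1407)]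
    ⟨e3 q1856 (flp_e L25592) q2508, e3 q1857 L17904 q1857, e3 q1858 L17927 q1358, e3 q1859 L17968 q1859, e3 q1860 L17990 q1860, e3 q1861 L25802 q2512, e3 q1862 L18034 q1862, e3 q1863 (flp_e L18057) q1361, e3 q1864 (flp_e L25887) q2514, e3 q1865 L18096 q1364, e3 q1866 L18103 q1365, e3 q1867 (flp_e L25928) q2516, e3 q1868 (flp_e L18150) q1366, e3 q1869 L18223 q1869, e3 q1870 (flp_e L18300) q1369, e3 q1871 (flp_e L26231) q2519, e3 q1872 L18389 q1372, e3 q1873 L18428 q1873, e3 q1874 L18434 q1375, e3 q1875 L18445 q1875, e3 q1876 L18605 q1876, e3 q1877 L18679 q1380, e3 q1878 L18689 q1381, e3 q1879 L18699 q1382, e3 q1880 (flp_e L26717) q2525, e3 q1881 (flp_e L26727) q2526, e3 q1882 L26772 q2531, e3 q1883 L26790 q2533, e3 q1884 L26810 q2535, e3 q1885 (flp_e L18754) q1384, e3 q1886 L26838 q2538, e3 q1887 (flp_e L18773) q1385, e3 q1888 L18791 q1888, e3 q1889 L18799 q1889, e3 q1890 L18810 q1890, e3 q1891 L18821 q1891, e3 q1892 L26914 q2546, e3 q1893 L26932 q2548, e3 q1894 L26949 q2550, e3 q1895 (flp_e L18854) q1392, e3 q1896 L26973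 q2553, e3 q1897 L26993 q2555, e3 q1898 (flp_e L18878) q1394, e3 q1899 L27019 q2558, e3 q1900 (flp_e L18897) q1395, e3 q1901 L27046 q2561, e3 q1902 (flp_e L18915) q1396, e3 q1903 (flp_e L26960) q2551, e3 q1904 L27086 q2565, e3 q1905 (flp_e L18938) q1398, e3 q1906 L18957 q1906, e3 q1907 L27125 q2569, e3 q1908 (flp_e L18966) q1400, e3 q1909 L18978 q1469, e3 q1910 L18986 q1910, e3 q1911 L18993 q1911, e3 q1912 L27187 q2577, e3 q1913 L27209 q2579, e3 q1914 (flp_e L19016) q1404, e3 q1915 L27239 q2582, e3 q1916 (flp_e L19035) q1405, e3 q1917 L19051 q1917, e3 q1918 L27282 q2587, e3 q1919 (flp_e L19062) q1407, trivial⟩ (by decide +kernel)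

theorem ce_e_30 : ∀ r, r < 64 → sm ge (Qf (1920 + r)) = Qf (tab Gen.e (1920 + r)) :=
  edges_tab (sm ge) Qf (tab Gen.e) 1920 [(1920, 2590), (1921, 1408), (1922, 1922), (1923, 2594), (1924, 1410), (1925, 1482), (1926, 1926), (1927, 1927), (1928, 2602), (1929, 1413), (1930, 1427), (1931, 2606), (1932, 1415), (1933, 1487), (1934, 1431), (1935, 1432), (1936, 1418), (1937, 1491), (1938, 1435), (1939, 2619), (1940, 1494), (1941, 1438), (1942, 1439), (1943, 2625), (1944, 1423), (1945, 1945), (1946, 2629), (1947, 1425), (1948, 1948), (1949, 2604), (1950, 2605), (1951, 1428), (1952, 1498), (1953, 2608), (1954, 2642), (1955, 1501), (1956, 2611), (1957, 2612), (1958, 1504), (1959, 2614), (1960, 1506), (1961, 2653), (1962, 1508), (1963, 2618), (1964, 1436), (1965, 2658), (1966, 2659), (1967, 1513), (1968, 2623), (1969, 1440), (1970, 2664), (1971, 1971), (1972, 2668), (1973, 1444), (1974, 2669), (1975, 2672), (1976, 2674), (1977, 1446), (1978, 1448), (1979, 2678), (1980, 2680), (1981, 1449), (1982, 2683), (1983, 1450)]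
    ⟨e3 q1920 L27312 q2590, e3 q1921 (flp_e L19082) q1408, e3 q1922 L19097 q1922, e3 q1923 L27347 q2594, e3 q1924 (flp_e L19108) q1410, e3 q1925 L19121 q1482, e3 q1926 L19129 q1926, e3 q1927 L19134 q1927, e3 q1928 L27412 q2602, e3 q1929 (flp_e L19148) q1413, e3 q1930 L19166 q1427, e3 q1931 L27449 q2606, e3 q1932 (flp_e L19179) q1415, e3 q1933 L19193 q1487, e3 q1934 L19203 q1431, e3 q1935 L19209 q1432, e3 q1936 (flp_e L19213) q1418, e3 q1937 L19226 q1491, e3 q1938 L19235 q1435, e3 q1939 L27556 q2619, e3 q1940 L19246 q1494, e3 q1941 L19255 q1438, e3 q1942 L19262 q1439, e3 q1943 L27602 q2625, e3 q1944 (flp_e L19275) q1423, e3 q1945 L19293 q1945, e3 q1946 L27639 q2629, e3 q1947 (flp_e L19304) q1425, e3 q1948 L19320 q1948, e3 q1949 (flp_e L27437) q2604, e3 q1950 (flp_e L27444) q2605, e3 q1951 (flp_e L19338) q1428, e3 q1952 L19356 q1498, e3 q1953 (flp_e L27475) q2608, e3 q1954 L27755 q2642, e3 q1955 L19379 q1501, e3 q1956 (flp_e L27496) q2611, e3 q1957 (flp_e L27504) q2612, e3 q1958 L19407 q1504, e3 q1959 (flp_e L27525) q2614,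 e3 q1960 L19419 q1506, e3 q1961 L27850 q2653, e3 q1962 L19436 q1508, e3 q1963 (flp_e L27553) q2618, e3 q1964 (flp_e L19448) q1436, e3 q1965 (flp_e L27893) q2658, e3 q1966 (flp_e L27899) q2659, e3 q1967 L19475 q1513, e3 q1968 (flp_e L27588) q2623, e3 q1969 (flp_e L19487) q1440, e3 q1970 (flp_e L27946) q2664, e3 q1971 L19515 q1971, e3 q1972 L27981 q2668, e3 q1973 L19539 q1444, e3 q1974 (flp_e L27997) q2669, e3 q1975 L28024 q2672, e3 q1976 L28043 q2674, e3 q1977 (flp_e L19574) q1446, e3 q1978 L19589 q1448, e3 q1979 L28081 q2678, e3 q1980 L28099 q2680, e3 q1981 (flp_e L19613) q1449, e3 q1982 L28126 q2683, e3 q1983 (flp_e L19630) q1450, trivial⟩ (by decide +kernel)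

theorem ce_e_31 : ∀ r, r < 64 → sm ge (Qf (1984 + r)) = Qf (tab Gen.e (1984 + r)) :=
  edges_tab (sm ge) Qf (tab Gen.e) 1984 [(1984, 1461), (1985, 2688), (1986, 2690), (1987, 1453), (1988, 2693), (1989, 1454), (1990, 2675), (1991, 2697), (1992, 1456), (1993, 2699), (1994, 1457), (1995, 2681), (1996, 2703), (1997, 1459), (1998, 2562), (1999, 2685), (2000, 2686), (2001, 1462), (2002, 2002), (2003, 1464), (2004, 2566), (2005, 2005), (2006, 2006), (2007, 1467), (2008, 2570), (2009, 2009), (2010, 2725), (2011, 2573), (2012, 2012), (2013, 2013), (2014, 2731), (2015, 1472), (2016, 2016), (2017, 2735), (2018, 1474), (2019, 2583), (2020, 2020), (2021, 2021), (2022, 2742), (2023, 1477), (2024, 2591), (2025, 2025), (2026, 2026), (2027, 1480), (2028, 2595), (2029, 2029), (2030, 2755), (2031, 2598), (2032, 2032), (2033, 2033), (2034, 1485), (2035, 2607), (2036, 1499), (2037, 2766), (2038, 2610), (2039, 1502), (2040, 1503), (2041, 2613), (2042, 1505), (2043, 2615), (2044, 2777), (2045, 2617), (2046, 1509), (2047, 1493)]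
    ⟨e3 q1984 L19644 q1461, e3 q1985 L28167 q2688, e3 q1986 L28188 q2690, e3 q1987 (flp_e L19665) q1453, e3 q1988 L28218 q2693, e3 q1989 (flp_e L19685) q1454, e3 q1990 (flp_e L28060) q2675, e3 q1991 L28263 q2697, e3 q1992 (flp_e L19713) q1456, e3 q1993 L28291 q2699, e3 q1994 (flp_e L19732) q1457, e3 q1995 (flp_e L28115) q2681, e3 q1996 L28328 q2703, e3 q1997 (flp_e L19758) q1459, e3 q1998 (flp_e L27060) q2562, e3 q1999 (flp_e L28145) q2685, e3 q2000 (flp_e L28153) q2686, e3 q2001 (flp_e L19800) q1462, e3 q2002 L19819 q2002, e3 q2003 (flp_e L19829) q1464, e3 q2004 (flp_e L27103) q2566, e3 q2005 L19854 q2005, e3 q2006 L19862 q2006, e3 q2007 (flp_e L19865) q1467, e3 q2008 (flp_e L27137) q2570, e3 q2009 L19887 q2009, e3 q2010 L28538 q2725, e3 q2011 (flp_e L27159) q2573, e3 q2012 L19908 q2012, e3 q2013 L19917 q2013, e3 q2014 L28588 q2731, e3 q2015 (flp_e L19931) q1472, e3 q2016 L19952 q2016, e3 q2017 L28629 q2735, e3 q2018 (flp_e L19964) q1474, e3 q2019 (flp_e L27254) q2583, e3 q2020 L19990 q2020, e3 q2021 L19996 q2021, e3 q2022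 L28694 q2742, e3 q2023 (flp_e L20011) q1477, e3 q2024 (flp_e L27328) q2591, e3 q2025 L20037 q2025, e3 q2026 L20043 q2026, e3 q2027 (flp_e L20049) q1480, e3 q2028 (flp_e L27362) q2595, e3 q2029 L20074 q2029, e3 q2030 L28807 q2755, e3 q2031 (flp_e L27379) q2598, e3 q2032 L20092 q2032, e3 q2033 L20102 q2033, e3 q2034 (flp_e L20107) q1485, e3 q2035 (flp_e L27465) q2607, e3 q2036 L20135 q1499, e3 q2037 L28896 q2766, e3 q2038 (flp_e L27488) q2610, e3 q2039 L20155 q1502, e3 q2040 L20165 q1503, e3 q2041 (flp_e L27515) q2613, e3 q2042 L20187 q1505, e3 q2043 (flp_e L27529) q2615, e3 q2044 L28982 q2777, e3 q2045 (flp_e L27544) q2617, e3 q2046 L20214 q1509, e3 q2047 (flp_e L20218) q1493, trivial⟩ (by decide +kernel)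

theorem ce_e_32 : ∀ r, r < 64 → sm ge (Qf (2048 + r)) = Qf (tab Gen.e (2048 + r)) :=
  edges_tab (sm ge) Qf (tab Gen.e) 2048 [(2048, 2782), (2049, 2783), (2050, 2622), (2051, 1514), (2052, 2636), (2053, 2761), (2054, 2638), (2055, 2790), (2056, 2640), (2057, 2765), (2058, 1500), (2059, 2794), (2060, 2795), (2061, 2645), (2062, 2770), (2063, 2647), (2064, 2800), (2065, 2649), (2066, 2774), (2067, 2804), (2068, 2652), (2069, 1507), (2070, 2807), (2071, 2808), (2072, 2656), (2073, 2781), (2074, 1511), (2075, 1512), (2076, 2813), (2077, 2814), (2078, 2816), (2079, 1515), (2080, 2080), (2081, 2081), (2082, 2825), (2083, 2083), (2084, 2084), (2085, 2085), (2086, 2086), (2087, 2087), (2088, 2088), (2089, 2836), (2090, 2090), (2091, 2091), (2092, 1523), (2093, 2841), (2094, 2842), (2095, 2095), (2096, 2096), (2097, 2097), (2098, 2848), (2099, 2099), (2100, 1540), (2101, 2853), (2102, 2102), (2103, 1530), (2104, 2858), (2105, 2859), (2106, 2106), (2107, 1545), (2108, 1534), (2109, 1535), (2110, 2864), (2111, 2865)]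
    ⟨e3 q2048 (flp_e L29027) q2782, e3 q2049 (flp_e L29032) q2783, e3 q2050 (flp_e L27580) q2622, e3 q2051 L20248 q1514, e3 q2052 (flp_e L27709) q2636, e3 q2053 (flp_e L28861) q2761, e3 q2054 (flp_e L27722) q2638, e3 q2055 L29112 q2790, e3 q2056 (flp_e L27743) q2640, e3 q2057 (flp_e L28891) q2765, e3 q2058 (flp_e L20308) q1500, e3 q2059 (flp_e L29160) q2794, e3 q2060 (flp_e L29168) q2795, e3 q2061 (flp_e L27784) q2645, e3 q2062 (flp_e L28930) q2770, e3 q2063 (flp_e L27803) q2647, e3 q2064 L29225 q2800, e3 q2065 (flp_e L27821) q2649, e3 q2066 (flp_e L28966) q2774, e3 q2067 L29269 q2804, e3 q2068 (flp_e L27846) q2652, e3 q2069 (flp_e L20402) q1507, e3 q2070 (flp_e L29304) q2807, e3 q2071 (flp_e L29310) q2808, e3 q2072 (flp_e L27877) q2656, e3 q2073 (flp_e L29017) q2781, e3 q2074 L20445 q1511, e3 q2075 L20451 q1512, e3 q2076 (flp_e L29348) q2813, e3 q2077 (flp_e L29355) q2814, e3 q2078 (flp_e L29369) q2816, e3 q2079 (flp_e L20480) q1515, e3 q2080 L20499 q2080, e3 q2081 L20509 q2081, e3 q2082 L29448 q2825, e3 q2083 L20523 q2083,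 e3 q2084 L20532 q2084, e3 q2085 L20541 q2085, e3 q2086 L20554 q2086, e3 q2087 L20563 q2087, e3 q2088 L20566 q2088, e3 q2089 L29545 q2836, e3 q2090 L20584 q2090, e3 q2091 L20593 q2091, e3 q2092 (flp_e L20597) q1523, e3 q2093 (flp_e L29590) q2841, e3 q2094 (flp_e L29597) q2842, e3 q2095 L20623 q2095, e3 q2096 L20632 q2096, e3 q2097 L20640 q2097, e3 q2098 L29651 q2848, e3 q2099 L20659 q2099, e3 q2100 L20668 q1540, e3 q2101 L29696 q2853, e3 q2102 L20685 q2102, e3 q2103 (flp_e L20687) q1530, e3 q2104 (flp_e L29741) q2858, e3 q2105 (flp_e L29748) q2859, e3 q2106 L20714 q2106, e3 q2107 L20723 q1545, e3 q2108 L20733 q1534, e3 q2109 L20740 q1535, e3 q2110 (flp_e L29788) q2864, e3 q2111 (flp_e L29796) q2865, trivial⟩ (by decide +kernel)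

theorem ce_e_33 : ∀ r, r < 64 → sm ge (Qf (2112 + r)) = Qf (tab Gen.e (2112 + r)) :=
  edges_tab (sm ge) Qf (tab Gen.e) 2112 [(2112, 2867), (2113, 1538), (2114, 2870), (2115, 2871), (2116, 2116), (2117, 2852), (2118, 1542), (2119, 1543), (2120, 2876), (2121, 2877), (2122, 2879), (2123, 2123), (2124, 1548), (2125, 1549), (2126, 2815), (2127, 1550), (2128, 2884), (2129, 2886), (2130, 2130), (2131, 2131), (2132, 1556), (2133, 2133), (2134, 1557), (2135, 2135), (2136, 2136), (2137, 2892), (2138, 1558), (2139, 2899), (2140, 2140), (2141, 1560), (2142, 2901), (2143, 2904), (2144, 2906), (2145, 1562), (2146, 2146), (2147, 1564), (2148, 1566), (2149, 2911), (2150, 2913), (2151, 1567), (2152, 2916), (2153, 1568), (2154, 1584), (2155, 2155), (2156, 2156), (2157, 2920), (2158, 1573), (2159, 2922), (2160, 1574), (2161, 1588), (2162, 2926), (2163, 1576), (2164, 2164), (2165, 1592), (2166, 1593), (2167, 1579), (2168, 2934), (2169, 1580), (2170, 2914), (2171, 2938), (2172, 1582), (2173, 2173), (2174, 2918), (2175, 2919)]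
    ⟨e3 q2112 (flp_e L29811) q2867, e3 q2113 (flp_e L20766) q1538, e3 q2114 (flp_e L29836) q2870, e3 q2115 (flp_e L29845) q2871, e3 q2116 L20800 q2116, e3 q2117 (flp_e L29692) q2852, e3 q2118 L20819 q1542, e3 q2119 L20827 q1543, e3 q2120 (flp_e L29892) q2876, e3 q2121 (flp_e L29901) q2877, e3 q2122 (flp_e L29916) q2879, e3 q2123 L20864 q2123, e3 q2124 L20871 q1548, e3 q2125 L20880 q1549, e3 q2126 (flp_e L29363) q2815, e3 q2127 L20894 q1550, e3 q2128 (flp_e L29962) q2884, e3 q2129 (flp_e L29977) q2886, e3 q2130 L20922 q2130, e3 q2131 L20930 q2131, e3 q2132 L20938 q1556, e3 q2133 L20949 q2133, e3 q2134 L20955 q1557, e3 q2135 L20963 q2135, e3 q2136 L20973 q2136, e3 q2137 L630215 q2892, e3 q2138 (flp_e L20986) q1558, e3 q2139 (flp_e L30128) q2899, e3 q2140 L21016 q2140, e3 q2141 L21023 q1560, e3 q2142 (flp_e L30159) q2901, e3 q2143 L30187 q2904, e3 q2144 L30205 q2906, e3 q2145 (flp_e L21057) q1562, e3 q2146 L21075 q2146, e3 q2147 L21083 q1564, e3 q2148 L21104 q1566, e3 q2149 L30290 q2911, e3 q2150 L30308 q2913, e3 q2151 (flp_e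 L21132) q1567, e3 q2152 L30339 q2916, e3 q2153 (flp_e L21149) q1568, e3 q2154 L21166 q1584, e3 q2155 L21174 q2155, e3 q2156 L21186 q2156, e3 q2157 L30427 q2920, e3 q2158 (flp_e L21229) q1573, e3 q2159 L30473 q2922, e3 q2160 (flp_e L21245) q1574, e3 q2161 L21261 q1588, e3 q2162 L30509 q2926, e3 q2163 (flp_e L21272) q1576, e3 q2164 L21284 q2164, e3 q2165 L21292 q1592, e3 q2166 L21299 q1593, e3 q2167 (flp_e L21323) q1579, e3 q2168 L30626 q2934, e3 q2169 (flp_e L21342) q1580, e3 q2170 (flp_e L30327) q2914, e3 q2171 L30666 q2938, e3 q2172 (flp_e L21372) q1582, e3 q2173 L21389 q2173, e3 q2174 (flp_e L30363) q2918, e3 q2175 (flp_e L30370) q2919, trivial⟩ (by decide +kernel)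

theorem ce_e_34 : ∀ r, r < 64 → sm ge (Qf (2176 + r)) = Qf (tab Gen.e (2176 + r)) :=
  edges_tab (sm ge) Qf (tab Gen.e) 2176 [(2176, 2921), (2177, 1586), (2178, 2178), (2179, 2924), (2180, 2925), (2181, 1589), (2182, 2182), (2183, 2928), (2184, 2957), (2185, 2185), (2186, 2931), (2187, 2932), (2188, 2188), (2189, 2189), (2190, 2190), (2191, 2966), (2192, 2192), (2193, 2193), (2194, 2194), (2195, 2195), (2196, 2196), (2197, 2975), (2198, 2198), (2199, 2199), (2200, 1602), (2201, 2980), (2202, 2981), (2203, 2203), (2204, 2204), (2205, 2985), (2206, 1606), (2207, 2207), (2208, 2208), (2209, 2209), (2210, 1609), (2211, 2211), (2212, 2212), (2213, 2998), (2214, 2214), (2215, 2215), (2216, 2216), (2217, 1614), (2218, 2218), (2219, 2219), (2220, 3009), (2221, 2221), (2222, 2222), (2223, 2223), (2224, 2224), (2225, 2225), (2226, 2226), (2227, 3019), (2228, 2228), (2229, 2229), (2230, 1622), (2231, 3023), (2232, 3024), (2233, 2233), (2234, 2234), (2235, 2235), (2236, 1645), (2237, 2237), (2238, 3033), (2239, 2239)]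
    ⟨e3 q2176 (flp_e L30461) q2921, e3 q2177 (flp_e L21462) q1586, e3 q2178 L21480 q2178, e3 q2179 (flp_e L30497) q2924, e3 q2180 (flp_e L30504) q2925, e3 q2181 (flp_e L21499) q1589, e3 q2182 L21514 q2182, e3 q2183 (flp_e L30528) q2928, e3 q2184 L30910 q2957, e3 q2185 L21534 q2185, e3 q2186 (flp_e L30551) q2931, e3 q2187 (flp_e L30560) q2932, e3 q2188 L21624 q2188, e3 q2189 L21644 q2189, e3 q2190 L21652 q2190, e3 q2191 L31114 q2966, e3 q2192 L21678 q2192, e3 q2193 L21687 q2193, e3 q2194 L21698 q2194, e3 q2195 L21707 q2195, e3 q2196 L21710 q2196, e3 q2197 L31211 q2975, e3 q2198 L21725 q2198, e3 q2199 L21732 q2199, e3 q2200 (flp_e L21734) q1602, e3 q2201 (flp_e L31253) q2980, e3 q2202 (flp_e L31261) q2981, e3 q2203 L21768 q2203, e3 q2204 L21776 q2204, e3 q2205 L31293 q2985, e3 q2206 (flp_e L21791) q1606, e3 q2207 L21810 q2207, e3 q2208 L21822 q2208, e3 q2209 L21827 q2209, e3 q2210 (flp_e L21832) q1609, e3 q2211 L21850 q2211, e3 q2212 L21859 q2212, e3 q2213 L31419 q2998, e3 q2214 L21872 q2214, e3 q2215 L21884 q2215, e3 q2216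 L21892 q2216, e3 q2217 (flp_e L21898) q1614, e3 q2218 L21917 q2218, e3 q2219 L21925 q2219, e3 q2220 L31520 q3009, e3 q2221 L21938 q2221, e3 q2222 L21948 q2222, e3 q2223 L21958 q2223, e3 q2224 L21972 q2224, e3 q2225 L21981 q2225, e3 q2226 L21984 q2226, e3 q2227 L31615 q3019, e3 q2228 L21997 q2228, e3 q2229 L22006 q2229, e3 q2230 (flp_e L22011) q1622, e3 q2231 (flp_e L31660) q3023, e3 q2232 (flp_e L31666) q3024, e3 q2233 L22039 q2233, e3 q2234 L22048 q2234, e3 q2235 L22062 q2235, e3 q2236 L22073 q1645, e3 q2237 L22077 q2237, e3 q2238 L31747 q3033, e3 q2239 L22094 q2239, trivial⟩ (by decide +kernel)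

theorem ce_e_35 : ∀ r, r < 64 → sm ge (Qf (2240 + r)) = Qf (tab Gen.e (2240 + r)) :=
  edges_tab (sm ge) Qf (tab Gen.e) 2240 [(2240, 1649), (2241, 1629), (2242, 3037), (2243, 3038), (2244, 2244), (2245, 1653), (2246, 2246), (2247, 3043), (2248, 1656), (2249, 3046), (2250, 2250), (2251, 1636), (2252, 3050), (2253, 3051), (2254, 1660), (2255, 1640), (2256, 1641), (2257, 3055), (2258, 3056), (2259, 3057), (2260, 2260), (2261, 3061), (2262, 2262), (2263, 3030), (2264, 3065), (2265, 2265), (2266, 1647), (2267, 3068), (2268, 3069), (2269, 3036), (2270, 1651), (2271, 1652), (2272, 3073), (2273, 3074), (2274, 2274), (2275, 3078), (2276, 1655), (2277, 3080), (2278, 3045), (2279, 1657), (2280, 3083), (2281, 1659), (2282, 3086), (2283, 2283), (2284, 1662), (2285, 1693), (2286, 2286), (2287, 1695), (2288, 3093), (2289, 1697), (2290, 2290), (2291, 1666), (2292, 3097), (2293, 3098), (2294, 1702), (2295, 2295), (2296, 1703), (2297, 3103), (2298, 2298), (2299, 3106), (2300, 1706), (2301, 1673), (2302, 3110), (2303, 3111)]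
    ⟨e3 q2240 L22101 q1649, e3 q2241 (flp_e L22106) q1629, e3 q2242 (flp_e L31798) q3037, e3 q2243 (flp_e L31806) q3038, e3 q2244 L22137 q2244, e3 q2245 L22147 q1653, e3 q2246 L22157 q2246, e3 q2247 L31857 q3043, e3 q2248 L22184 q1656, e3 q2249 L31907 q3046, e3 q2250 L22197 q2250, e3 q2251 (flp_e L22199) q1636, e3 q2252 (flp_e L31941) q3050, e3 q2253 (flp_e L31947) q3051, e3 q2254 L22234 q1660, e3 q2255 L22245 q1640, e3 q2256 L22251 q1641, e3 q2257 (flp_e L31989) q3055, e3 q2258 (flp_e L31996) q3056, e3 q2259 (flp_e L32006) q3057, e3 q2260 L22284 q2260, e3 q2261 L32056 q3061, e3 q2262 L22306 q2262, e3 q2263 (flp_e L31729) q3030, e3 q2264 L32099 q3065, e3 q2265 L22334 q2265, e3 q2266 (flp_e L22338) q1647, e3 q2267 (flp_e L32136) q3068, e3 q2268 (flp_e L32144) q3069, e3 q2269 (flp_e L31786) q3036, e3 q2270 L22378 q1651, e3 q2271 L22387 q1652, e3 q2272 (flp_e L32182) q3073, e3 q2273 (flp_e L32192) q3074, e3 q2274 L22415 q2274, e3 q2275 L32225 q3078, e3 q2276 (flp_e L22430) q1655, e3 q2277 (flp_e L32248) q3080, e3 q2278 (flp_e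 L31902) q3045, e3 q2279 (flp_e L22459) q1657, e3 q2280 (flp_e L32272) q3083, e3 q2281 L22478 q1659, e3 q2282 (flp_e L32294) q3086, e3 q2283 L22496 q2283, e3 q2284 L22503 q1662, e3 q2285 L22517 q1693, e3 q2286 L22528 q2286, e3 q2287 L22531 q1695, e3 q2288 L32366 q3093, e3 q2289 L22551 q1697, e3 q2290 L22560 q2290, e3 q2291 (flp_e L22563) q1666, e3 q2292 (flp_e L32417) q3097, e3 q2293 (flp_e L32425) q3098, e3 q2294 L22597 q1702, e3 q2295 L22609 q2295, e3 q2296 L22618 q1703, e3 q2297 L32487 q3103, e3 q2298 L22648 q2298, e3 q2299 L32537 q3106, e3 q2300 L22663 q1706, e3 q2301 (flp_e L22667) q1673, e3 q2302 (flp_e L32580) q3110, e3 q2303 (flp_e L32588) q3111, trivial⟩ (by decide +kernel)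

theorem ce_e_36 : ∀ r, r < 64 → sm ge (Qf (2304 + r)) = Qf (tab Gen.e (2304 + r)) :=
  edges_tab (sm ge) Qf (tab Gen.e) 2304 [(2304, 2304), (2305, 1677), (2306, 1678), (2307, 3114), (2308, 3115), (2309, 3117), (2310, 2310), (2311, 2311), (2312, 1692), (2313, 2313), (2314, 2314), (2315, 3125), (2316, 2316), (2317, 2317), (2318, 2318), (2319, 2319), (2320, 3088), (2321, 3129), (2322, 2322), (2323, 3131), (2324, 3092), (2325, 1696), (2326, 3135), (2327, 3136), (2328, 1700), (2329, 1701), (2330, 3139), (2331, 3141), (2332, 3143), (2333, 1704), (2334, 1705), (2335, 3145), (2336, 3147), (2337, 1708), (2338, 2338), (2339, 1710), (2340, 1711), (2341, 1712), (2342, 2342), (2343, 2343), (2344, 1714), (2345, 2345), (2346, 1717), (2347, 3160), (2348, 3161), (2349, 1718), (2350, 3163), (2351, 1719), (2352, 2352), (2353, 2353), (2354, 2354), (2355, 2355), (2356, 3169), (2357, 1725), (2358, 1726), (2359, 1744), (2360, 1728), (2361, 2361), (2362, 1747), (2363, 1748), (2364, 2364), (2365, 2365), (2366, 1734), (2367, 1749)]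
    ⟨e3 q2304 L22703 q2304, e3 q2305 L22713 q1677, e3 q2306 L22722 q1678, e3 q2307 (flp_e L32622) q3114, e3 q2308 (flp_e L32631) q3115, e3 q2309 (flp_e L32648) q3117, e3 q2310 L22770 q2310, e3 q2311 L22788 q2311, e3 q2312 L22816 q1692, e3 q2313 L22825 q2313, e3 q2314 L22832 q2314, e3 q2315 L32788 q3125, e3 q2316 L22855 q2316, e3 q2317 L22862 q2317, e3 q2318 L22879 q2318, e3 q2319 L22888 q2319, e3 q2320 (flp_e L32311) q3088, e3 q2321 L32855 q3129, e3 q2322 L22929 q2322, e3 q2323 L32898 q3131, e3 q2324 (flp_e L32361) q3092, e3 q2325 (flp_e L22951) q1696, e3 q2326 (flp_e L32946) q3135, e3 q2327 (flp_e L32954) q3136, e3 q2328 L22992 q1700, e3 q2329 L23001 q1701, e3 q2330 (flp_e L32991) q3139, e3 q2331 (flp_e L33009) q3141, e3 q2332 L33044 q3143, e3 q2333 (flp_e L23052) q1704, e3 q2334 (flp_e L23081) q1705, e3 q2335 (flp_e L33110) q3145, e3 q2336 L33130 q3147, e3 q2337 L23115 q1708, e3 q2338 L23132 q2338, e3 q2339 L23139 q1710, e3 q2340 (flp_e L23169) q1711, e3 q2341 (flp_e L23183) q1712, e3 q2342 L23210 q2342, e3 q2343 L23217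 q2343, e3 q2344 L23223 q1714, e3 q2345 L23241 q2345, e3 q2346 L23249 q1717, e3 q2347 L33350 q3160, e3 q2348 L33369 q3161, e3 q2349 (flp_e L23274) q1718, e3 q2350 L33395 q3163, e3 q2351 (flp_e L23292) q1719, e3 q2352 L23306 q2352, e3 q2353 L23315 q2353, e3 q2354 L23341 q2354, e3 q2355 L23351 q2355, e3 q2356 L33523 q3169, e3 q2357 (flp_e L23390) q1725, e3 q2358 (flp_e L23408) q1726, e3 q2359 L23424 q1744, e3 q2360 (flp_e L23435) q1728, e3 q2361 L23448 q2361, e3 q2362 L23456 q1747, e3 q2363 L23462 q1748, e3 q2364 L23468 q2364, e3 q2365 L23478 q2365, e3 q2366 (flp_e L23551) q1734, e3 q2367 L23582 q1749, trivial⟩ (by decide +kernel)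

theorem ce_e_37 : ∀ r, r < 64 → sm ge (Qf (2368 + r)) = Qf (tab Gen.e (2368 + r)) :=
  edges_tab (sm ge) Qf (tab Gen.e) 2368 [(2368, 2368), (2369, 1751), (2370, 1752), (2371, 2371), (2372, 1754), (2373, 3190), (2374, 2374), (2375, 1757), (2376, 1758), (2377, 3170), (2378, 2378), (2379, 3172), (2380, 3173), (2381, 2381), (2382, 3175), (2383, 3202), (2384, 2384), (2385, 3178), (2386, 3179), (2387, 3182), (2388, 3207), (2389, 3184), (2390, 3185), (2391, 2391), (2392, 3211), (2393, 2393), (2394, 3189), (2395, 1755), (2396, 3215), (2397, 3216), (2398, 3193), (2399, 2399), (2400, 1760), (2401, 3219), (2402, 2402), (2403, 3221), (2404, 1764), (2405, 3223), (2406, 3224), (2407, 2407), (2408, 1768), (2409, 1769), (2410, 3228), (2411, 3229), (2412, 1771), (2413, 2413), (2414, 2414), (2415, 3236), (2416, 2416), (2417, 2417), (2418, 2418), (2419, 2419), (2420, 2420), (2421, 3242), (2422, 2422), (2423, 1779), (2424, 3204), (2425, 3203), (2426, 2426), (2427, 2427), (2428, 2428), (2429, 3247), (2430, 2430), (2431, 1786)]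
    ⟨e3 q2368 L23607 q2368, e3 q2369 L23614 q1751, e3 q2370 L23620 q1752, e3 q2371 L23637 q2371, e3 q2372 L23644 q1754, e3 q2373 L33930 q3190, e3 q2374 L23654 q2374, e3 q2375 L23661 q1757, e3 q2376 L23669 q1758, e3 q2377 (flp_e L33559) q3170, e3 q2378 L23756 q2378, e3 q2379 (flp_e L33596) q3172, e3 q2380 (flp_e L33602) q3173, e3 q2381 L23789 q2381, e3 q2382 (flp_e L33629) q3175, e3 q2383 L34164 q3202, e3 q2384 L23810 q2384, e3 q2385 (flp_e L33649) q3178, e3 q2386 (flp_e L33656) q3179, e3 q2387 (flp_e L33827) q3182, e3 q2388 L34373 q3207, e3 q2389 (flp_e L33874) q3184, e3 q2390 (flp_e L33883) q3185, e3 q2391 L23981 q2391, e3 q2392 L34459 q3211, e3 q2393 L23997 q2393, e3 q2394 (flp_e L33926) q3189, e3 q2395 (flp_e L24009) q1755, e3 q2396 (flp_e L34499) q3215, e3 q2397 (flp_e L34505) q3216, e3 q2398 (flp_e L33958) q3193, e3 q2399 L24157 q2399, e3 q2400 (flp_e L24211) q1760, e3 q2401 (flp_e L34805) q3219, e3 q2402 L24247 q2402, e3 q2403 L34900 q3221, e3 q2404 (flp_e L24295) q1764, e3 q2405 (flp_e L34944) q3223, e3 q2406 (flp_e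 L34950) q3224, e3 q2407 L24328 q2407, e3 q2408 L24336 q1768, e3 q2409 L24342 q1769, e3 q2410 (flp_e L34987) q3228, e3 q2411 (flp_e L34994) q3229, e3 q2412 (flp_e L24368) q1771, e3 q2413 L24388 q2413, e3 q2414 L24399 q2414, e3 q2415 L35087 q3236, e3 q2416 L24410 q2416, e3 q2417 L24419 q2417, e3 q2418 L24427 q2418, e3 q2419 L24441 q2419, e3 q2420 L24451 q2420, e3 q2421 L35180 q3242, e3 q2422 L24482 q2422, e3 q2423 (flp_e L24486) q1779, e3 q2424 L626183 q3204, e3 q2425 L626191 q3203, e3 q2426 L24517 q2426, e3 q2427 L24531 q2427, e3 q2428 L24540 q2428, e3 q2429 L35311 q3247, e3 q2430 L24570 q2430, e3 q2431 (flp_e L24576) q1786, trivial⟩ (by decide +kernel)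

theorem ce_e_38 : ∀ r, r < 64 → sm ge (Qf (2432 + r)) = Qf (tab Gen.e (2432 + r)) :=
  edges_tab (sm ge) Qf (tab Gen.e) 2432 [(2432, 3250), (2433, 3251), (2434, 2434), (2435, 3254), (2436, 2436), (2437, 1792), (2438, 3257), (2439, 2439), (2440, 1795), (2441, 1796), (2442, 3218), (2443, 3217), (2444, 3259), (2445, 1818), (2446, 1800), (2447, 3262), (2448, 1824), (2449, 1803), (2450, 1804), (2451, 3265), (2452, 3266), (2453, 1806), (2454, 3269), (2455, 1833), (2456, 1809), (2457, 3272), (2458, 3231), (2459, 1813), (2460, 1814), (2461, 3227), (2462, 2462), (2463, 3274), (2464, 2464), (2465, 1816), (2466, 3277), (2467, 3278), (2468, 3261), (2469, 1819), (2470, 3282), (2471, 3283), (2472, 2624), (2473, 1822), (2474, 1823), (2475, 3288), (2476, 3289), (2477, 2477), (2478, 1827), (2479, 1828), (2480, 2480), (2481, 3294), (2482, 3297), (2483, 1830), (2484, 3300), (2485, 1832), (2486, 3303), (2487, 2487), (2488, 1835), (2489, 3306), (2490, 2490), (2491, 1837), (2492, 2492), (2493, 3308), (2494, 2494), (2495, 1842)]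
    ⟨e3 q2432 (flp_e L35360) q3250, e3 q2433 (flp_e L35366) q3251, e3 q2434 L24607 q2434, e3 q2435 L35413 q3254, e3 q2436 L24641 q2436, e3 q2437 (flp_e L24658) q1792, e3 q2438 (flp_e L35491) q3257, e3 q2439 L24694 q2439, e3 q2440 L24702 q1795, e3 q2441 L24706 q1796, e3 q2442 (flp_e L626470) q3218, e3 q2443 (flp_e L626637) q3217, e3 q2444 L35595 q3259, e3 q2445 L24759 q1818, e3 q2446 (flp_e L24778) q1800, e3 q2447 (flp_e L35682) q3262, e3 q2448 L24818 q1824, e3 q2449 L24828 q1803, e3 q2450 L24834 q1804, e3 q2451 (flp_e L35731) q3265, e3 q2452 (flp_e L35738) q3266, e3 q2453 (flp_e L24879) q1806, e3 q2454 (flp_e L35828) q3269, e3 q2455 L24915 q1833, e3 q2456 L24956 q1809, e3 q2457 (flp_e L35938) q3272, e3 q2458 (flp_e L626628) q3231, e3 q2459 L25000 q1813, e3 q2460 L25005 q1814, e3 q2461 L626620 q3227, e3 q2462 L25033 q2462, e3 q2463 L36028 q3274, e3 q2464 L25055 q2464, e3 q2465 (flp_e L25059) q1816, e3 q2466 (flp_e L36071) q3277, e3 q2467 (flp_e L36079) q3278, e3 q2468 (flp_e L35635) q3261, e3 q2469 (flp_e L25095) q1819, e3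 q2470 (flp_e L36116) q3282, e3 q2471 (flp_e L36125) q3283, e3 q2472 L527785 q2624, e3 q2473 L25134 q1822, e3 q2474 L25142 q1823, e3 q2475 (flp_e L36179) q3288, e3 q2476 (flp_e L36188) q3289, e3 q2477 L25171 q2477, e3 q2478 L25176 q1827, e3 q2479 L25184 q1828, e3 q2480 L25194 q2480, e3 q2481 (flp_e L36230) q3294, e3 q2482 L36249 q3297, e3 q2483 (flp_e L25212) q1830, e3 q2484 (flp_e L36278) q3300, e3 q2485 L25234 q1832, e3 q2486 (flp_e L36302) q3303, e3 q2487 L25251 q2487, e3 q2488 L25257 q1835, e3 q2489 (flp_e L36332) q3306, e3 q2490 L25274 q2490, e3 q2491 L25280 q1837, e3 q2492 L25287 q2492, e3 q2493 L36382 q3308, e3 q2494 L25325 q2494, e3 q2495 (flp_e L25347) q1842, trivial⟩ (by decide +kernel)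

theorem ce_e_39 : ∀ r, r < 64 → sm ge (Qf (2496 + r)) = Qf (tab Gen.e (2496 + r)) :=
  edges_tab (sm ge) Qf (tab Gen.e) 2496 [(2496, 3311), (2497, 2497), (2498, 1845), (2499, 1846), (2500, 3192), (2501, 3176), (2502, 1848), (2503, 3313), (2504, 2504), (2505, 1851), (2506, 3315), (2507, 1855), (2508, 1856), (2509, 3205), (2510, 3191), (2511, 2511), (2512, 1861), (2513, 3316), (2514, 1864), (2515, 2515), (2516, 1867), (2517, 2517), (2518, 2518), (2519, 1871), (2520, 2520), (2521, 2521), (2522, 2522), (2523, 2523), (2524, 2524), (2525, 1880), (2526, 1881), (2527, 3325), (2528, 3322), (2529, 3328), (2530, 3330), (2531, 1882), (2532, 3333), (2533, 1883), (2534, 3336), (2535, 1884), (2536, 3331), (2537, 3340), (2538, 1886), (2539, 2539), (2540, 2540), (2541, 2541), (2542, 2542), (2543, 3349), (2544, 3351), (2545, 3353), (2546, 1892), (2547, 3356), (2548, 1893), (2549, 3359), (2550, 1894), (2551, 1903), (2552, 3364), (2553, 1896), (2554, 3367), (2555, 1897), (2556, 3354), (2557, 3371), (2558, 1899), (2559, 3357)]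
    ⟨e3 q2496 (flp_e L36478) q3311, e3 q2497 L25388 q2497, e3 q2498 L25397 q1845, e3 q2499 L25403 q1846, e3 q2500 (flp_e L603590) q3192, e3 q2501 (flp_e L625728) q3176, e3 q2502 (flp_e L25459) q1848, e3 q2503 (flp_e L36639) q3313, e3 q2504 L25496 q2504, e3 q2505 L25545 q1851, e3 q2506 (flp_e L36753) q3315, e3 q2507 L25585 q1855, e3 q2508 L25592 q1856, e3 q2509 L627181 q3205, e3 q2510 (flp_e L625838) q3191, e3 q2511 L25683 q2511, e3 q2512 (flp_e L25802) q1861, e3 q2513 (flp_e L37085) q3316, e3 q2514 L25887 q1864, e3 q2515 L25924 q2515, e3 q2516 L25928 q1867, e3 q2517 L25937 q2517, e3 q2518 L26090 q2518, e3 q2519 L26231 q1871, e3 q2520 L26344 q2520, e3 q2521 L26388 q2521, e3 q2522 L26399 q2522, e3 q2523 L26414 q2523, e3 q2524 L26709 q2524, e3 q2525 L26717 q1880, e3 q2526 L26727 q1881, e3 q2527 L38339 q3325, e3 q2528 (flp_e L38316) q3322, e3 q2529 L38370 q3328, e3 q2530 L38389 q3330, e3 q2531 (flp_e L26772) q1882, e3 q2532 L38417 q3333, e3 q2533 (flp_e L26790) q1883, e3 q2534 L38448 q3336, e3 q2535 (flp_e L26810) q1884, e3 q2536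 (flp_e L38405) q3331, e3 q2537 L38484 q3340, e3 q2538 (flp_e L26838) q1886, e3 q2539 L26853 q2539, e3 q2540 L26863 q2540, e3 q2541 L26869 q2541, e3 q2542 L26879 q2542, e3 q2543 L38566 q3349, e3 q2544 L38586 q3351, e3 q2545 L38605 q3353, e3 q2546 (flp_e L26914) q1892, e3 q2547 L38632 q3356, e3 q2548 (flp_e L26932) q1893, e3 q2549 L38660 q3359, e3 q2550 (flp_e L26949) q1894, e3 q2551 L26960 q1903, e3 q2552 L38699 q3364, e3 q2553 (flp_e L26973) q1896, e3 q2554 L38730 q3367, e3 q2555 (flp_e L26993) q1897, e3 q2556 (flp_e L38619) q3354, e3 q2557 L38773 q3371, e3 q2558 (flp_e L27019) q1899, e3 q2559 (flp_e L38649) q3357, trivial⟩ (by decide +kernel)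

theorem ce_e_40 : ∀ r, r < 64 → sm ge (Qf (2560 + r)) = Qf (tab Gen.e (2560 + r)) :=
  edges_tab (sm ge) Qf (tab Gen.e) 2560 [(2560, 3375), (2561, 1901), (2562, 1998), (2563, 3361), (2564, 3362), (2565, 1904), (2566, 2004), (2567, 2567), (2568, 2568), (2569, 1907), (2570, 2008), (2571, 2571), (2572, 3394), (2573, 2011), (2574, 2574), (2575, 2575), (2576, 3400), (2577, 1912), (2578, 3403), (2579, 1913), (2580, 2580), (2581, 3407), (2582, 1915), (2583, 2019), (2584, 2584), (2585, 2585), (2586, 3415), (2587, 1918), (2588, 2588), (2589, 3419), (2590, 1920), (2591, 2024), (2592, 2592), (2593, 2593), (2594, 1923), (2595, 2028), (2596, 2596), (2597, 3432), (2598, 2031), (2599, 2599), (2600, 2600), (2601, 3437), (2602, 1928), (2603, 2603), (2604, 1949), (2605, 1950), (2606, 1931), (2607, 2035), (2608, 1953), (2609, 3450), (2610, 2038), (2611, 1956), (2612, 1957), (2613, 2041), (2614, 1959), (2615, 2043), (2616, 3461), (2617, 2045), (2618, 1963), (2619, 1939), (2620, 3466), (2621, 3467), (2622, 2050), (2623, 1968)]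
    ⟨e3 q2560 L38813 q3375, e3 q2561 (flp_e L27046) q1901, e3 q2562 L27060 q1998, e3 q2563 (flp_e L38678) q3361, e3 q2564 (flp_e L38685) q3362, e3 q2565 (flp_e L27086) q1904, e3 q2566 L27103 q2004, e3 q2567 L27114 q2567, e3 q2568 L27121 q2568, e3 q2569 (flp_e L27125) q1907, e3 q2570 L27137 q2008, e3 q2571 L27145 q2571, e3 q2572 L38977 q3394, e3 q2573 L27159 q2011, e3 q2574 L27167 q2574, e3 q2575 L27174 q2575, e3 q2576 L39027 q3400, e3 q2577 (flp_e L27187) q1912, e3 q2578 L39061 q3403, e3 q2579 (flp_e L27209) q1913, e3 q2580 L27227 q2580, e3 q2581 L39099 q3407, e3 q2582 (flp_e L27239) q1915, e3 q2583 L27254 q2019, e3 q2584 L27264 q2584, e3 q2585 L27269 q2585, e3 q2586 L39171 q3415, e3 q2587 (flp_e L27282) q1918, e3 q2588 L27300 q2588, e3 q2589 L39209 q3419, e3 q2590 (flp_e L27312) q1920, e3 q2591 L27328 q2024, e3 q2592 L27337 q2592, e3 q2593 L27342 q2593, e3 q2594 (flp_e L27347) q1923, e3 q2595 L27362 q2028, e3 q2596 L27370 q2596, e3 q2597 L39318 q3432, e3 q2598 L27379 q2031, e3 q2599 L27389 q2599, e3 q2600 L27397 q2600, e3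 q2601 L39354 q3437, e3 q2602 (flp_e L27412) q1928, e3 q2603 L27427 q2603, e3 q2604 L27437 q1949, e3 q2605 L27444 q1950, e3 q2606 (flp_e L27449) q1931, e3 q2607 L27465 q2035, e3 q2608 L27475 q1953, e3 q2609 L39473 q3450, e3 q2610 L27488 q2038, e3 q2611 L27496 q1956, e3 q2612 L27504 q1957, e3 q2613 L27515 q2041, e3 q2614 L27525 q1959, e3 q2615 L27529 q2043, e3 q2616 L39561 q3461, e3 q2617 L27544 q2045, e3 q2618 L27553 q1963, e3 q2619 (flp_e L27556) q1939, e3 q2620 (flp_e L39606) q3466, e3 q2621 (flp_e L39611) q3467, e3 q2622 L27580 q2050, e3 q2623 L27588 q1968, trivial⟩ (by decide +kernel)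

theorem ce_e_41 : ∀ r, r < 64 → sm ge (Qf (2624 + r)) = Qf (tab Gen.e (2624 + r)) :=
  edges_tab (sm ge) Qf (tab Gen.e) 2624 [(2624, 2472), (2625, 1943), (2626, 2626), (2627, 2627), (2628, 2628), (2629, 1946), (2630, 2630), (2631, 3439), (2632, 3478), (2633, 2633), (2634, 3442), (2635, 3443), (2636, 2052), (2637, 3445), (2638, 2054), (2639, 3485), (2640, 2056), (2641, 3449), (2642, 1954), (2643, 3489), (2644, 3490), (2645, 2061), (2646, 3454), (2647, 2063), (2648, 3495), (2649, 2065), (2650, 3458), (2651, 3499), (2652, 2068), (2653, 1961), (2654, 3502), (2655, 3503), (2656, 2072), (2657, 3465), (2658, 1965), (2659, 1966), (2660, 3508), (2661, 3509), (2662, 3511), (2663, 2663), (2664, 1970), (2665, 3515), (2666, 3518), (2667, 3520), (2668, 1972), (2669, 1974), (2670, 3524), (2671, 3526), (2672, 1975), (2673, 3529), (2674, 1976), (2675, 1990), (2676, 3534), (2677, 3535), (2678, 1979), (2679, 3537), (2680, 1980), (2681, 1995), (2682, 3541), (2683, 1982), (2684, 3360), (2685, 1999), (2686, 2000), (2687, 3548)]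
    ⟨e3 q2624 (flp_e L527785) q2472, e3 q2625 (flp_e L27602) q1943, e3 q2626 L27619 q2626, e3 q2627 L27628 q2627, e3 q2628 L27635 q2628, e3 q2629 (flp_e L27639) q1946, e3 q2630 L27657 q2630, e3 q2631 (flp_e L39380) q3439, e3 q2632 L39752 q3478, e3 q2633 L27677 q2633, e3 q2634 (flp_e L39403) q3442, e3 q2635 (flp_e L39413) q3443, e3 q2636 L27709 q2052, e3 q2637 (flp_e L39438) q3445, e3 q2638 L27722 q2054, e3 q2639 L39849 q3485, e3 q2640 L27743 q2056, e3 q2641 (flp_e L39469) q3449, e3 q2642 (flp_e L27755) q1954, e3 q2643 (flp_e L39897) q3489, e3 q2644 (flp_e L39905) q3490, e3 q2645 L27784 q2061, e3 q2646 (flp_e L39509) q3454, e3 q2647 L27803 q2063, e3 q2648 L39963 q3495, e3 q2649 L27821 q2065, e3 q2650 (flp_e L39545) q3458, e3 q2651 L40007 q3499, e3 q2652 L27846 q2068, e3 q2653 (flp_e L27850) q1961, e3 q2654 (flp_e L40051) q3502, e3 q2655 (flp_e L40057) q3503, e3 q2656 L27877 q2072, e3 q2657 (flp_e L39597) q3465, e3 q2658 L27893 q1965, e3 q2659 L27899 q1966, e3 q2660 (flp_e L40097) q3508, e3 q2661 (flp_e L40104) q3509, e3 q2662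 (flp_e L40119) q3511, e3 q2663 L27937 q2663, e3 q2664 L27946 q1970, e3 q2665 (flp_e L40159) q3515, e3 q2666 L40186 q3518, e3 q2667 L40206 q3520, e3 q2668 (flp_e L27981) q1972, e3 q2669 L27997 q1974, e3 q2670 L40245 q3524, e3 q2671 L40265 q3526, e3 q2672 (flp_e L28024) q1975, e3 q2673 L40296 q3529, e3 q2674 (flp_e L28043) q1976, e3 q2675 L28060 q1990, e3 q2676 L40338 q3534, e3 q2677 L40359 q3535, e3 q2678 (flp_e L28081) q1979, e3 q2679 L40388 q3537, e3 q2680 (flp_e L28099) q1980, e3 q2681 L28115 q1995, e3 q2682 L40424 q3541, e3 q2683 (flp_e L28126) q1982, e3 q2684 (flp_e L38671) q3360, e3 q2685 L28145 q1999, e3 q2686 L28153 q2000, e3 q2687 L40489 q3548, trivial⟩ (by decide +kernel)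

theorem ce_e_42 : ∀ r, r < 64 → sm ge (Qf (2688 + r)) = Qf (tab Gen.e (2688 + r)) :=
  edges_tab (sm ge) Qf (tab Gen.e) 2688 [(2688, 1985), (2689, 3550), (2690, 1986), (2691, 3527), (2692, 3554), (2693, 1988), (2694, 3368), (2695, 3531), (2696, 3532), (2697, 1991), (2698, 3536), (2699, 1993), (2700, 3372), (2701, 3539), (2702, 3540), (2703, 1996), (2704, 3376), (2705, 3543), (2706, 3576), (2707, 3379), (2708, 3546), (2709, 3547), (2710, 2710), (2711, 2711), (2712, 2712), (2713, 3382), (2714, 2714), (2715, 3589), (2716, 3385), (2717, 2717), (2718, 2718), (2719, 3388), (2720, 2720), (2721, 3390), (2722, 3600), (2723, 3392), (2724, 2724), (2725, 2010), (2726, 3605), (2727, 3606), (2728, 3397), (2729, 2729), (2730, 3610), (2731, 2014), (2732, 3404), (2733, 2733), (2734, 2734), (2735, 2017), (2736, 3408), (2737, 2737), (2738, 3623), (2739, 3411), (2740, 2740), (2741, 2741), (2742, 2022), (2743, 3420), (2744, 2744), (2745, 3634), (2746, 3423), (2747, 2747), (2748, 2748), (2749, 3426), (2750, 2750), (2751, 3428)]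
    ⟨e3 q2688 (flp_e L28167) q1985, e3 q2689 L40521 q3550, e3 q2690 (flp_e L28188) q1986, e3 q2691 (flp_e L40284) q3527, e3 q2692 L40561 q3554, e3 q2693 (flp_e L28218) q1988, e3 q2694 (flp_e L38746) q3368, e3 q2695 (flp_e L40319) q3531, e3 q2696 (flp_e L40327) q3532, e3 q2697 (flp_e L28263) q1991, e3 q2698 (flp_e L40376) q3536, e3 q2699 (flp_e L28291) q1993, e3 q2700 (flp_e L38792) q3372, e3 q2701 (flp_e L40411) q3539, e3 q2702 (flp_e L40419) q3540, e3 q2703 (flp_e L28328) q1996, e3 q2704 (flp_e L38827) q3376, e3 q2705 (flp_e L40445) q3543, e3 q2706 L40781 q3576, e3 q2707 (flp_e L38846) q3379, e3 q2708 (flp_e L40464) q3546, e3 q2709 (flp_e L40474) q3547, e3 q2710 L28411 q2710, e3 q2711 L28421 q2711, e3 q2712 L28428 q2712, e3 q2713 (flp_e L38882) q3382, e3 q2714 L28458 q2714, e3 q2715 L40935 q3589, e3 q2716 (flp_e L38909) q3385, e3 q2717 L28480 q2717, e3 q2718 L28490 q2718, e3 q2719 (flp_e L38939) q3388, e3 q2720 L28509 q2720, e3 q2721 (flp_e L38951) q3390, e3 q2722 L41025 q3600, e3 q2723 (flp_e L38968) q3392, e3 q2724 L28536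 q2724, e3 q2725 (flp_e L28538) q2010, e3 q2726 (flp_e L41066) q3605, e3 q2727 (flp_e L41073) q3606, e3 q2728 (flp_e L39006) q3397, e3 q2729 L28573 q2729, e3 q2730 L41101 q3610, e3 q2731 (flp_e L28588) q2014, e3 q2732 (flp_e L39079) q3404, e3 q2733 L28618 q2733, e3 q2734 L28624 q2734, e3 q2735 (flp_e L28629) q2017, e3 q2736 (flp_e L39116) q3408, e3 q2737 L28658 q2737, e3 q2738 L41227 q3623, e3 q2739 (flp_e L39137) q3411, e3 q2740 L28679 q2740, e3 q2741 L28688 q2741, e3 q2742 (flp_e L28694) q2022, e3 q2743 (flp_e L39227) q3420, e3 q2744 L28723 q2744, e3 q2745 L41322 q3634, e3 q2746 (flp_e L39247) q3423, e3 q2747 L28742 q2747, e3 q2748 L28753 q2748, e3 q2749 (flp_e L39277) q3426, e3 q2750 L28775 q2750, e3 q2751 (flp_e L39289) q3428, trivial⟩ (by decide +kernel)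

theorem ce_e_43 : ∀ r, r < 64 → sm ge (Qf (2752 + r)) = Qf (tab Gen.e (2752 + r)) :=
  edges_tab (sm ge) Qf (tab Gen.e) 2752 [(2752, 3645), (2753, 3430), (2754, 2754), (2755, 2030), (2756, 3650), (2757, 3651), (2758, 3435), (2759, 2759), (2760, 3444), (2761, 2053), (2762, 3446), (2763, 3661), (2764, 3448), (2765, 2057), (2766, 2037), (2767, 3666), (2768, 3667), (2769, 3453), (2770, 2062), (2771, 3455), (2772, 3674), (2773, 3457), (2774, 2066), (2775, 3679), (2776, 3460), (2777, 2044), (2778, 3684), (2779, 3685), (2780, 3464), (2781, 2073), (2782, 2048), (2783, 2049), (2784, 3690), (2785, 3691), (2786, 3693), (2787, 3696), (2788, 3658), (2789, 3699), (2790, 2055), (2791, 3701), (2792, 3702), (2793, 3665), (2794, 2059), (2795, 2060), (2796, 3706), (2797, 3707), (2798, 3709), (2799, 3712), (2800, 2064), (2801, 3714), (2802, 3715), (2803, 3678), (2804, 2067), (2805, 3719), (2806, 3720), (2807, 2070), (2808, 2071), (2809, 3724), (2810, 3725), (2811, 3727), (2812, 2812), (2813, 2076), (2814, 2077), (2815, 2126)]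
    ⟨e3 q2752 L41410 q3645, e3 q2753 (flp_e L39304) q3430, e3 q2754 L28802 q2754, e3 q2755 (flp_e L28807) q2030, e3 q2756 (flp_e L41454) q3650, e3 q2757 (flp_e L41459) q3651, e3 q2758 (flp_e L39341) q3435, e3 q2759 L28837 q2759, e3 q2760 (flp_e L39427) q3444, e3 q2761 L28861 q2053, e3 q2762 (flp_e L39442) q3446, e3 q2763 L41536 q3661, e3 q2764 (flp_e L39461) q3448, e3 q2765 L28891 q2057, e3 q2766 (flp_e L28896) q2037, e3 q2767 (flp_e L41586) q3666, e3 q2768 (flp_e L41593) q3667, e3 q2769 (flp_e L39499) q3453, e3 q2770 L28930 q2062, e3 q2771 (flp_e L39518) q3455, e3 q2772 L41641 q3674, e3 q2773 (flp_e L39535) q3457, e3 q2774 L28966 q2066, e3 q2775 L41686 q3679, e3 q2776 (flp_e L39558) q3460, e3 q2777 (flp_e L28982) q2044, e3 q2778 (flp_e L41722) q3684, e3 q2779 (flp_e L41728) q3685, e3 q2780 (flp_e L39589) q3464, e3 q2781 L29017 q2073, e3 q2782 L29027 q2048, e3 q2783 L29032 q2049, e3 q2784 (flp_e L41765) q3690, e3 q2785 (flp_e L41771) q3691, e3 q2786 (flp_e L41786) q3693, e3 q2787 L41833 q3696, e3 q2788 (flp_e L41517) q3658,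 e3 q2789 L41882 q3699, e3 q2790 (flp_e L29112) q2055, e3 q2791 (flp_e L41929) q3701, e3 q2792 (flp_e L41937) q3702, e3 q2793 (flp_e L41575) q3665, e3 q2794 L29160 q2059, e3 q2795 L29168 q2060, e3 q2796 (flp_e L41979) q3706, e3 q2797 (flp_e L41988) q3707, e3 q2798 (flp_e L42001) q3709, e3 q2799 L42043 q3712, e3 q2800 (flp_e L29225) q2064, e3 q2801 (flp_e L42083) q3714, e3 q2802 (flp_e L42090) q3715, e3 q2803 (flp_e L41681) q3678, e3 q2804 (flp_e L29269) q2067, e3 q2805 (flp_e L42133) q3719, e3 q2806 (flp_e L42140) q3720, e3 q2807 L29304 q2070, e3 q2808 L29310 q2071, e3 q2809 (flp_e L42179) q3724, e3 q2810 (flp_e L42186) q3725, e3 q2811 (flp_e L42201) q3727, e3 q2812 L29343 q2812, e3 q2813 L29348 q2076, e3 q2814 L29355 q2077, e3 q2815 L29363 q2126, trivial⟩ (by decide +kernel)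

theorem ce_e_44 : ∀ r, r < 64 → sm ge (Qf (2816 + r)) = Qf (tab Gen.e (2816 + r)) :=
  edges_tab (sm ge) Qf (tab Gen.e) 2816 [(2816, 2078), (2817, 3732), (2818, 3734), (2819, 2819), (2820, 2820), (2821, 2821), (2822, 3744), (2823, 2823), (2824, 2824), (2825, 2082), (2826, 3749), (2827, 3750), (2828, 2828), (2829, 2829), (2830, 2830), (2831, 3756), (2832, 2832), (2833, 2833), (2834, 3761), (2835, 2835), (2836, 2089), (2837, 3766), (2838, 3767), (2839, 2839), (2840, 2840), (2841, 2093), (2842, 2094), (2843, 3772), (2844, 3773), (2845, 3775), (2846, 3778), (2847, 2847), (2848, 2098), (2849, 3782), (2850, 3783), (2851, 2851), (2852, 2117), (2853, 2101), (2854, 3787), (2855, 3788), (2856, 3793), (2857, 2857), (2858, 2104), (2859, 2105), (2860, 3796), (2861, 3797), (2862, 3799), (2863, 3771), (2864, 2110), (2865, 2111), (2866, 3692), (2867, 2112), (2868, 3804), (2869, 3806), (2870, 2114), (2871, 2115), (2872, 3811), (2873, 3812), (2874, 3814), (2875, 2875), (2876, 2120), (2877, 2121), (2878, 3726), (2879, 2122)]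
    ⟨e3 q2816 L29369 q2078, e3 q2817 (flp_e L42241) q3732, e3 q2818 (flp_e L42257) q3734, e3 q2819 L29400 q2819, e3 q2820 L29411 q2820, e3 q2821 L29414 q2821, e3 q2822 L42345 q3744, e3 q2823 L29435 q2823, e3 q2824 L29445 q2824, e3 q2825 (flp_e L29448) q2082, e3 q2826 (flp_e L42395) q3749, e3 q2827 (flp_e L42402) q3750, e3 q2828 L29477 q2828, e3 q2829 L29487 q2829, e3 q2830 L29496 q2830, e3 q2831 L42461 q3756, e3 q2832 L29515 q2832, e3 q2833 L29525 q2833, e3 q2834 L42506 q3761, e3 q2835 L29542 q2835, e3 q2836 (flp_e L29545) q2089, e3 q2837 (flp_e L42551) q3766, e3 q2838 (flp_e L42558) q3767, e3 q2839 L29571 q2839, e3 q2840 L29581 q2840, e3 q2841 L29590 q2093, e3 q2842 L29597 q2094, e3 q2843 (flp_e L42599) q3772, e3 q2844 (flp_e L42606) q3773, e3 q2845 (flp_e L42619) q3775, e3 q2846 L42658 q3778, e3 q2847 L29649 q2847, e3 q2848 (flp_e L29651) q2098, e3 q2849 (flp_e L42709) q3782, e3 q2850 (flp_e L42717) q3783, e3 q2851 L29682 q2851, e3 q2852 L29692 q2117, e3 q2853 (flp_e L29696) q2101, e3 q2854 (flp_e L42752) q3787, e3 q2855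 (flp_e L42760) q3788, e3 q2856 L42797 q3793, e3 q2857 L29732 q2857, e3 q2858 L29741 q2104, e3 q2859 L29748 q2105, e3 q2860 (flp_e L42824) q3796, e3 q2861 (flp_e L42832) q3797, e3 q2862 (flp_e L42848) q3799, e3 q2863 (flp_e L42591) q3771, e3 q2864 L29788 q2110, e3 q2865 L29796 q2111, e3 q2866 (flp_e L41779) q3692, e3 q2867 L29811 q2112, e3 q2868 (flp_e L42887) q3804, e3 q2869 (flp_e L42903) q3806, e3 q2870 L29836 q2114, e3 q2871 L29845 q2115, e3 q2872 (flp_e L42946) q3811, e3 q2873 (flp_e L42956) q3812, e3 q2874 (flp_e L42973) q3814, e3 q2875 L29885 q2875, e3 q2876 L29892 q2120, e3 q2877 L29901 q2121, e3 q2878 (flp_e L42195) q3726, e3 q2879 L29916 q2122, trivial⟩ (by decide +kernel)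

theorem ce_e_45 : ∀ r, r < 64 → sm ge (Qf (2880 + r)) = Qf (tab Gen.e (2880 + r)) :=
  edges_tab (sm ge) Qf (tab Gen.e) 2880 [(2880, 3819), (2881, 3821), (2882, 2882), (2883, 2883), (2884, 2128), (2885, 3733), (2886, 2129), (2887, 3735), (2888, 3736), (2889, 3830), (2890, 2890), (2891, 2891), (2892, 2137), (2893, 2893), (2894, 2894), (2895, 2895), (2896, 2896), (2897, 2897), (2898, 2898), (2899, 2139), (2900, 2900), (2901, 2142), (2902, 3845), (2903, 3847), (2904, 2143), (2905, 3850), (2906, 2144), (2907, 2907), (2908, 2908), (2909, 2909), (2910, 3854), (2911, 2149), (2912, 3856), (2913, 2150), (2914, 2170), (2915, 3860), (2916, 2152), (2917, 2917), (2918, 2174), (2919, 2175), (2920, 2157), (2921, 2176), (2922, 2159), (2923, 2923), (2924, 2179), (2925, 2180), (2926, 2162), (2927, 2927), (2928, 2183), (2929, 3880), (2930, 2930), (2931, 2186), (2932, 2187), (2933, 3855), (2934, 2168), (2935, 2935), (2936, 3858), (2937, 3859), (2938, 2171), (2939, 2939), (2940, 3862), (2941, 3896), (2942, 2942), (2943, 3865)]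
    ⟨e3 q2880 (flp_e L43021) q3819, e3 q2881 (flp_e L43037) q3821, e3 q2882 L29944 q2882, e3 q2883 L29953 q2883, e3 q2884 L29962 q2128, e3 q2885 (flp_e L42251) q3733, e3 q2886 L29977 q2129, e3 q2887 (flp_e L42264) q3735, e3 q2888 (flp_e L42273) q3736, e3 q2889 (flp_e L43111) q3830, e3 q2890 L30011 q2890, e3 q2891 L30019 q2891, e3 q2892 (flp_e L630215) q2137, e3 q2893 L30036 q2893, e3 q2894 L30063 q2894, e3 q2895 L30078 q2895, e3 q2896 L30088 q2896, e3 q2897 L30109 q2897, e3 q2898 L30119 q2898, e3 q2899 L30128 q2139, e3 q2900 L30150 q2900, e3 q2901 L30159 q2142, e3 q2902 L43370 q3845, e3 q2903 L43389 q3847, e3 q2904 (flp_e L30187) q2143, e3 q2905 L43419 q3850, e3 q2906 (flp_e L30205) q2144, e3 q2907 L30222 q2907, e3 q2908 L30229 q2908, e3 q2909 L30242 q2909, e3 q2910 L43514 q3854, e3 q2911 (flp_e L30290) q2149, e3 q2912 L43566 q3856, e3 q2913 (flp_e L30308) q2150, e3 q2914 L30327 q2170, e3 q2915 L43605 q3860, e3 q2916 (flp_e L30339) q2152, e3 q2917 L30353 q2917, e3 q2918 L30363 q2174, e3 q2919 L30370 q2175, e3 q2920 (flp_e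 L30427) q2157, e3 q2921 L30461 q2176, e3 q2922 (flp_e L30473) q2159, e3 q2923 L30488 q2923, e3 q2924 L30497 q2179, e3 q2925 L30504 q2180, e3 q2926 (flp_e L30509) q2162, e3 q2927 L30522 q2927, e3 q2928 L30528 q2183, e3 q2929 L43907 q3880, e3 q2930 L30542 q2930, e3 q2931 L30551 q2186, e3 q2932 L30560 q2187, e3 q2933 (flp_e L43553) q3855, e3 q2934 (flp_e L30626) q2168, e3 q2935 L30646 q2935, e3 q2936 (flp_e L43594) q3858, e3 q2937 (flp_e L43601) q3859, e3 q2938 (flp_e L30666) q2171, e3 q2939 L30683 q2939, e3 q2940 (flp_e L43628) q3862, e3 q2941 L44150 q3896, e3 q2942 L30707 q2942, e3 q2943 (flp_e L43654) q3865, trivial⟩ (by decide +kernel)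

theorem ce_e_46 : ∀ r, r < 64 → sm ge (Qf (2944 + r)) = Qf (tab Gen.e (2944 + r)) :=
  edges_tab (sm ge) Qf (tab Gen.e) 2944 [(2944, 3866), (2945, 3868), (2946, 2946), (2947, 3870), (2948, 3905), (2949, 3872), (2950, 3873), (2951, 2951), (2952, 3875), (2953, 2953), (2954, 3914), (2955, 2955), (2956, 3879), (2957, 2184), (2958, 3919), (2959, 3920), (2960, 2960), (2961, 3883), (2962, 2962), (2963, 2963), (2964, 3925), (2965, 2965), (2966, 2191), (2967, 3928), (2968, 2968), (2969, 2969), (2970, 3933), (2971, 2971), (2972, 2972), (2973, 3937), (2974, 2974), (2975, 2197), (2976, 3941), (2977, 3942), (2978, 2978), (2979, 2979), (2980, 2201), (2981, 2202), (2982, 3947), (2983, 3948), (2984, 3950), (2985, 2205), (2986, 2986), (2987, 2987), (2988, 3959), (2989, 2989), (2990, 2990), (2991, 2991), (2992, 2992), (2993, 2993), (2994, 2994), (2995, 3969), (2996, 2996), (2997, 2997), (2998, 2213), (2999, 3898), (3000, 3897), (3001, 3001), (3002, 3002), (3003, 3003), (3004, 3004), (3005, 3005), (3006, 3979), (3007, 3007)]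
    ⟨e3 q2944 (flp_e L43662) q3866, e3 q2945 (flp_e L43796) q3868, e3 q2946 L30820 q2946, e3 q2947 (flp_e L43825) q3870, e3 q2948 L44362 q3905, e3 q2949 (flp_e L43849) q3872, e3 q2950 (flp_e L43859) q3873, e3 q2951 L30874 q2951, e3 q2952 (flp_e L43879) q3875, e3 q2953 L30884 q2953, e3 q2954 L44461 q3914, e3 q2955 L30899 q2955, e3 q2956 (flp_e L43903) q3879, e3 q2957 (flp_e L30910) q2184, e3 q2958 (flp_e L44502) q3919, e3 q2959 (flp_e L44510) q3920, e3 q2960 L30943 q2960, e3 q2961 (flp_e L43945) q3883, e3 q2962 L31059 q2962, e3 q2963 L31086 q2963, e3 q2964 L44753 q3925, e3 q2965 L31111 q2965, e3 q2966 (flp_e L31114) q2191, e3 q2967 (flp_e L44800) q3928, e3 q2968 L31160 q2968, e3 q2969 L31168 q2969, e3 q2970 L44867 q3933, e3 q2971 L31185 q2971, e3 q2972 L31194 q2972, e3 q2973 L44912 q3937, e3 q2974 L31209 q2974, e3 q2975 (flp_e L31211) q2197, e3 q2976 (flp_e L44954) q3941, e3 q2977 (flp_e L44960) q3942, e3 q2978 L31237 q2978, e3 q2979 L31243 q2979, e3 q2980 L31253 q2201, e3 q2981 L31261 q2202, e3 q2982 (flp_e L45001) q3947,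 e3 q2983 (flp_e L45010) q3948, e3 q2984 (flp_e L45029) q3950, e3 q2985 (flp_e L31293) q2205, e3 q2986 L31314 q2986, e3 q2987 L31324 q2987, e3 q2988 L45112 q3959, e3 q2989 L31339 q2989, e3 q2990 L31350 q2990, e3 q2991 L31359 q2991, e3 q2992 L31375 q2992, e3 q2993 L31386 q2993, e3 q2994 L31389 q2994, e3 q2995 L45218 q3969, e3 q2996 L31405 q2996, e3 q2997 L31415 q2997, e3 q2998 (flp_e L31419) q2213, e3 q2999 (flp_e L626197) q3898, e3 q3000 L605905 q3897, e3 q3001 L31450 q3001, e3 q3002 L31460 q3002, e3 q3003 L31476 q3003, e3 q3004 L31486 q3004, e3 q3005 L31489 q3005, e3 q3006 L45361 q3979, e3 q3007 L31506 q3007, trivial⟩ (by decide +kernel)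

theorem ce_e_47 : ∀ r, r < 64 → sm ge (Qf (3008 + r)) = Qf (tab Gen.e (3008 + r)) :=
  edges_tab (sm ge) Qf (tab Gen.e) 3008 [(3008, 3008), (3009, 2220), (3010, 3983), (3011, 3984), (3012, 3012), (3013, 3013), (3014, 3014), (3015, 3989), (3016, 3016), (3017, 3992), (3018, 3018), (3019, 2227), (3020, 3996), (3021, 3997), (3022, 3022), (3023, 2231), (3024, 2232), (3025, 3922), (3026, 3921), (3027, 4000), (3028, 3028), (3029, 4003), (3030, 2263), (3031, 4006), (3032, 3032), (3033, 2238), (3034, 4009), (3035, 4010), (3036, 2269), (3037, 2242), (3038, 2243), (3039, 4014), (3040, 4015), (3041, 4017), (3042, 4020), (3043, 2247), (3044, 4022), (3045, 2278), (3046, 2249), (3047, 4025), (3048, 4026), (3049, 4030), (3050, 2252), (3051, 2253), (3052, 4032), (3053, 4033), (3054, 3951), (3055, 2257), (3056, 2258), (3057, 2259), (3058, 3946), (3059, 4035), (3060, 4037), (3061, 2261), (3062, 4039), (3063, 4040), (3064, 4005), (3065, 2264), (3066, 4044), (3067, 4045), (3068, 2267), (3069, 2268), (3070, 4049), (3071, 4050)]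
    ⟨e3 q3008 L31514 q3008, e3 q3009 (flp_e L31520) q2220, e3 q3010 (flp_e L45411) q3983, e3 q3011 (flp_e L45419) q3984, e3 q3012 L31550 q3012, e3 q3013 L31561 q3013, e3 q3014 L31571 q3014, e3 q3015 L45472 q3989, e3 q3016 L31599 q3016, e3 q3017 L45522 q3992, e3 q3018 L31612 q3018, e3 q3019 (flp_e L31615) q2227, e3 q3020 (flp_e L45557) q3996, e3 q3021 (flp_e L45563) q3997, e3 q3022 L31650 q3022, e3 q3023 L31660 q2231, e3 q3024 L31666 q2232, e3 q3025 L625864 q3922, e3 q3026 (flp_e L626763) q3921, e3 q3027 (flp_e L45627) q4000, e3 q3028 L31699 q3028, e3 q3029 L45675 q4003, e3 q3030 L31729 q2263, e3 q3031 L45730 q4006, e3 q3032 L31745 q3032, e3 q3033 (flp_e L31747) q2238, e3 q3034 (flp_e L45769) q4009, e3 q3035 (flp_e L45777) q4010, e3 q3036 L31786 q2269, e3 q3037 L31798 q2242, e3 q3038 L31806 q2243, e3 q3039 (flp_e L45822) q4014, e3 q3040 (flp_e L45831) q4015, e3 q3041 (flp_e L45848) q4017, e3 q3042 L45886 q4020, e3 q3043 (flp_e L31857) q2247, e3 q3044 (flp_e L45932) q4022, e3 q3045 L31902 q2278, e3 q3046 (flp_e L31907) q2249,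 e3 q3047 (flp_e L45985) q4025, e3 q3048 (flp_e L45991) q4026, e3 q3049 L46020 q4030, e3 q3050 L31941 q2252, e3 q3051 L31947 q2253, e3 q3052 (flp_e L46046) q4032, e3 q3053 (flp_e L46053) q4033, e3 q3054 L624128 q3951, e3 q3055 L31989 q2257, e3 q3056 L31996 q2258, e3 q3057 L32006 q2259, e3 q3058 L624869 q3946, e3 q3059 (flp_e L46115) q4035, e3 q3060 L46149 q4037, e3 q3061 (flp_e L32056) q2261, e3 q3062 (flp_e L46192) q4039, e3 q3063 (flp_e L46202) q4040, e3 q3064 (flp_e L45724) q4005, e3 q3065 (flp_e L32099) q2264, e3 q3066 (flp_e L46242) q4044, e3 q3067 (flp_e L46251) q4045, e3 q3068 L32136 q2267, e3 q3069 L32144 q2268, e3 q3070 (flp_e L46302) q4049, e3 q3071 (flp_e L46311) q4050, trivial⟩ (by decide +kernel)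

theorem ce_e_48 : ∀ r, r < 64 → sm ge (Qf (3072 + r)) = Qf (tab Gen.e (3072 + r)) :=
  edges_tab (sm ge) Qf (tab Gen.e) 3072 [(3072, 3072), (3073, 2272), (3074, 2273), (3075, 3075), (3076, 4055), (3077, 4058), (3078, 2275), (3079, 4061), (3080, 2277), (3081, 4064), (3082, 3718), (3083, 2280), (3084, 4068), (3085, 3085), (3086, 2282), (3087, 3087), (3088, 2320), (3089, 4071), (3090, 3090), (3091, 4074), (3092, 2324), (3093, 2288), (3094, 4078), (3095, 4079), (3096, 3096), (3097, 2292), (3098, 2293), (3099, 3882), (3100, 3863), (3101, 4082), (3102, 4084), (3103, 2297), (3104, 4086), (3105, 3105), (3106, 2299), (3107, 4089), (3108, 4090), (3109, 4094), (3110, 2302), (3111, 2303), (3112, 4095), (3113, 4096), (3114, 2307), (3115, 2308), (3116, 3900), (3117, 2309), (3118, 3881), (3119, 4099), (3120, 3120), (3121, 3121), (3122, 3122), (3123, 3123), (3124, 4105), (3125, 2315), (3126, 3126), (3127, 3127), (3128, 4107), (3129, 2321), (3130, 4109), (3131, 2323), (3132, 4111), (3133, 4112), (3134, 4115), (3135, 2326)]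
    ⟨e3 q3072 L32175 q3072, e3 q3073 L32182 q2272, e3 q3074 L32192 q2273, e3 q3075 L32204 q3075, e3 q3076 (flp_e L46359) q4055, e3 q3077 L46382 q4058, e3 q3078 (flp_e L32225) q2275, e3 q3079 (flp_e L46413) q4061, e3 q3080 L32248 q2277, e3 q3081 (flp_e L46440) q4064, e3 q3082 (flp_e L42126) q3718, e3 q3083 L32272 q2280, e3 q3084 (flp_e L46468) q4068, e3 q3085 L32288 q3085, e3 q3086 L32294 q2282, e3 q3087 L32303 q3087, e3 q3088 L32311 q2320, e3 q3089 L46520 q4071, e3 q3090 L32345 q3090, e3 q3091 L46575 q4074, e3 q3092 L32361 q2324, e3 q3093 (flp_e L32366) q2288, e3 q3094 (flp_e L46623) q4078, e3 q3095 (flp_e L46630) q4079, e3 q3096 L32406 q3096, e3 q3097 L32417 q2292, e3 q3098 L32425 q2293, e3 q3099 L625689 q3882, e3 q3100 (flp_e L626945) q3863, e3 q3101 (flp_e L46706) q4082, e3 q3102 L46751 q4084, e3 q3103 (flp_e L32487) q2297, e3 q3104 (flp_e L46801) q4086, e3 q3105 L32533 q3105, e3 q3106 (flp_e L32537) q2299, e3 q3107 (flp_e L46857) q4089, e3 q3108 (flp_e L46866) q4090, e3 q3109 L46900 q4094, e3 q3110 L32580 q2302, e3 q3111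 L32588 q2303, e3 q3112 (flp_e L46919) q4095, e3 q3113 (flp_e L46927) q4096, e3 q3114 L32622 q2307, e3 q3115 L32631 q2308, e3 q3116 (flp_e L626884) q3900, e3 q3117 L32648 q2309, e3 q3118 (flp_e L626790) q3881, e3 q3119 (flp_e L46988) q4099, e3 q3120 L32698 q3120, e3 q3121 L32733 q3121, e3 q3122 L32761 q3122, e3 q3123 L32769 q3123, e3 q3124 L47150 q4105, e3 q3125 (flp_e L32788) q2315, e3 q3126 L32804 q3126, e3 q3127 L32821 q3127, e3 q3128 L47212 q4107, e3 q3129 (flp_e L32855) q2321, e3 q3130 (flp_e L47267) q4109, e3 q3131 (flp_e L32898) q2323, e3 q3132 (flp_e L47317) q4111, e3 q3133 (flp_e L47326) q4112, e3 q3134 L47358 q4115, e3 q3135 L32946 q2326, trivial⟩ (by decide +kernel)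

theorem ce_e_49 : ∀ r, r < 64 → sm ge (Qf (3136 + r)) = Qf (tab Gen.e (3136 + r)) :=
  edges_tab (sm ge) Qf (tab Gen.e) 3136 [(3136, 2327), (3137, 4117), (3138, 3138), (3139, 2330), (3140, 3140), (3141, 2331), (3142, 4119), (3143, 2332), (3144, 3144), (3145, 2335), (3146, 4124), (3147, 2336), (3148, 3148), (3149, 3149), (3150, 3150), (3151, 3151), (3152, 3152), (3153, 3153), (3154, 4134), (3155, 3155), (3156, 3156), (3157, 3157), (3158, 3158), (3159, 4138), (3160, 2347), (3161, 2348), (3162, 3162), (3163, 2350), (3164, 3164), (3165, 3165), (3166, 3166), (3167, 3167), (3168, 3168), (3169, 2356), (3170, 2377), (3171, 3171), (3172, 2379), (3173, 2380), (3174, 3174), (3175, 2382), (3176, 2501), (3177, 3177), (3178, 2385), (3179, 2386), (3180, 3180), (3181, 3181), (3182, 2387), (3183, 4153), (3184, 2389), (3185, 2390), (3186, 3186), (3187, 4157), (3188, 3188), (3189, 2394), (3190, 2373), (3191, 2510), (3192, 2500), (3193, 2398), (3194, 4145), (3195, 4160), (3196, 4147), (3197, 4148), (3198, 3198), (3199, 4161)]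
    ⟨e3 q3136 L32954 q2327, e3 q3137 (flp_e L47387) q4117, e3 q3138 L32985 q3138, e3 q3139 L32991 q2330, e3 q3140 L33002 q3140, e3 q3141 L33009 q2331, e3 q3142 (flp_e L47442) q4119, e3 q3143 (flp_e L33044) q2332, e3 q3144 L33104 q3144, e3 q3145 L33110 q2335, e3 q3146 L47594 q4124, e3 q3147 (flp_e L33130) q2336, e3 q3148 L33150 q3148, e3 q3149 L33164 q3149, e3 q3150 L33174 q3150, e3 q3151 L33216 q3151, e3 q3152 L33240 q3152, e3 q3153 L33249 q3153, e3 q3154 L47811 q4134, e3 q3155 L33283 q3155, e3 q3156 L33293 q3156, e3 q3157 L33301 q3157, e3 q3158 L33327 q3158, e3 q3159 L47899 q4138, e3 q3160 (flp_e L33350) q2347, e3 q3161 (flp_e L33369) q2348, e3 q3162 L33385 q3162, e3 q3163 (flp_e L33395) q2350, e3 q3164 L33410 q3164, e3 q3165 L33417 q3165, e3 q3166 L33422 q3166, e3 q3167 L33429 q3167, e3 q3168 L33440 q3168, e3 q3169 (flp_e L33523) q2356, e3 q3170 L33559 q2377, e3 q3171 L33587 q3171, e3 q3172 L33596 q2379, e3 q3173 L33602 q2380, e3 q3174 L33620 q3174, e3 q3175 L33629 q2382, e3 q3176 L625728 q2501, e3 q3177 L33641 q3177, e3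 q3178 L33649 q2385, e3 q3179 L33656 q2386, e3 q3180 L33667 q3180, e3 q3181 L33792 q3181, e3 q3182 L33827 q2387, e3 q3183 L48685 q4153, e3 q3184 L33874 q2389, e3 q3185 L33883 q2390, e3 q3186 L33904 q3186, e3 q3187 L48764 q4157, e3 q3188 L33918 q3188, e3 q3189 L33926 q2394, e3 q3190 (flp_e L33930) q2373, e3 q3191 L625838 q2510, e3 q3192 L603590 q2500, e3 q3193 L33958 q2398, e3 q3194 (flp_e L48229) q4145, e3 q3195 L49023 q4160, e3 q3196 (flp_e L48282) q4147, e3 q3197 (flp_e L48290) q4148, e3 q3198 L34133 q3198, e3 q3199 L626219 q4161, trivial⟩ (by decide +kernel)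

theorem ce_e_50 : ∀ r, r < 64 → sm ge (Qf (3200 + r)) = Qf (tab Gen.e (3200 + r)) :=
  edges_tab (sm ge) Qf (tab Gen.e) 3200 [(3200, 3200), (3201, 4146), (3202, 2383), (3203, 2425), (3204, 2424), (3205, 2509), (3206, 4152), (3207, 2388), (3208, 4164), (3209, 4155), (3210, 4166), (3211, 2392), (3212, 4165), (3213, 4168), (3214, 4154), (3215, 2396), (3216, 2397), (3217, 2443), (3218, 2442), (3219, 2401), (3220, 4171), (3221, 2403), (3222, 4173), (3223, 2405), (3224, 2406), (3225, 4170), (3226, 4175), (3227, 2461), (3228, 2410), (3229, 2411), (3230, 3230), (3231, 2458), (3232, 3232), (3233, 3233), (3234, 4180), (3235, 3235), (3236, 2415), (3237, 4162), (3238, 4181), (3239, 3239), (3240, 4183), (3241, 3241), (3242, 2421), (3243, 4163), (3244, 3244), (3245, 4186), (3246, 3246), (3247, 2429), (3248, 4189), (3249, 3249), (3250, 2432), (3251, 2433), (3252, 4167), (3253, 4190), (3254, 2435), (3255, 4191), (3256, 3256), (3257, 2438), (3258, 4169), (3259, 2444), (3260, 4193), (3261, 2468), (3262, 2447), (3263, 4196)]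
    ⟨e3 q3200 L34152 q3200, e3 q3201 (flp_e L625754) q4146, e3 q3202 (flp_e L34164) q2383, e3 q3203 (flp_e L626191) q2425, e3 q3204 (flp_e L626183) q2424, e3 q3205 (flp_e L627181) q2509, e3 q3206 (flp_e L48630) q4152, e3 q3207 (flp_e L34373) q2388, e3 q3208 (flp_e L49479) q4164, e3 q3209 (flp_e L48717) q4155, e3 q3210 L49576 q4166, e3 q3211 (flp_e L34459) q2392, e3 q3212 (flp_e L626605) q4165, e3 q3213 (flp_e L49627) q4168, e3 q3214 (flp_e L625793) q4154, e3 q3215 L34499 q2396, e3 q3216 L34505 q2397, e3 q3217 L626637 q2443, e3 q3218 L626470 q2442, e3 q3219 L34805 q2401, e3 q3220 (flp_e L50135) q4171, e3 q3221 (flp_e L34900) q2403, e3 q3222 (flp_e L50284) q4173, e3 q3223 L34944 q2405, e3 q3224 L34950 q2406, e3 q3225 L626653 q4170, e3 q3226 (flp_e L50364) q4175, e3 q3227 (flp_e L626620) q2461, e3 q3228 L34987 q2410, e3 q3229 L34994 q2411, e3 q3230 L35003 q3230, e3 q3231 L626628 q2458, e3 q3232 L35037 q3232, e3 q3233 L35048 q3233, e3 q3234 L50510 q4180, e3 q3235 L35082 q3235, e3 q3236 (flp_e L35087) q2415, e3 q3237 L626211 q4162,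 e3 q3238 (flp_e L626246) q4181, e3 q3239 L35122 q3239, e3 q3240 L50625 q4183, e3 q3241 L35161 q3241, e3 q3242 (flp_e L35180) q2421, e3 q3243 (flp_e L626268) q4163, e3 q3244 L35220 q3244, e3 q3245 L50827 q4186, e3 q3246 L35291 q3246, e3 q3247 (flp_e L35311) q2429, e3 q3248 (flp_e L50915) q4189, e3 q3249 L35351 q3249, e3 q3250 L35360 q2432, e3 q3251 L35366 q2433, e3 q3252 (flp_e L626496) q4167, e3 q3253 (flp_e L626540) q4190, e3 q3254 (flp_e L35413) q2435, e3 q3255 (flp_e L51062) q4191, e3 q3256 L35449 q3256, e3 q3257 L35491 q2438, e3 q3258 L626579 q4169, e3 q3259 (flp_e L35595) q2444, e3 q3260 (flp_e L51336) q4193, e3 q3261 L35635 q2468, e3 q3262 L35682 q2447, e3 q3263 (flp_e L51456) q4196, trivial⟩ (by decide +kernel)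

theorem ce_e_51 : ∀ r, r < 64 → sm ge (Qf (3264 + r)) = Qf (tab Gen.e (3264 + r)) :=
  edges_tab (sm ge) Qf (tab Gen.e) 3264 [(3264, 4174), (3265, 2451), (3266, 2452), (3267, 3267), (3268, 4195), (3269, 2454), (3270, 4199), (3271, 4177), (3272, 2457), (3273, 4200), (3274, 2463), (3275, 4203), (3276, 4204), (3277, 2466), (3278, 2467), (3279, 4208), (3280, 4209), (3281, 3281), (3282, 2470), (3283, 2471), (3284, 4214), (3285, 4215), (3286, 3286), (3287, 3287), (3288, 2475), (3289, 2476), (3290, 3290), (3291, 4219), (3292, 3292), (3293, 3293), (3294, 2481), (3295, 3295), (3296, 3296), (3297, 2482), (3298, 4223), (3299, 3299), (3300, 2484), (3301, 4227), (3302, 3302), (3303, 2486), (3304, 3304), (3305, 3305), (3306, 2489), (3307, 3307), (3308, 2493), (3309, 4229), (3310, 3310), (3311, 2496), (3312, 4158), (3313, 2503), (3314, 4231), (3315, 2506), (3316, 2513), (3317, 3317), (3318, 3318), (3319, 4234), (3320, 3320), (3321, 3321), (3322, 2528), (3323, 4238), (3324, 4240), (3325, 2527), (3326, 4243), (3327, 4245)]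
    ⟨e3 q3264 L626521 q4174, e3 q3265 L35731 q2451, e3 q3266 L35738 q2452, e3 q3267 L35746 q3267, e3 q3268 L626593 q4195, e3 q3269 L35828 q2454, e3 q3270 (flp_e L51686) q4199, e3 q3271 (flp_e L626563) q4177, e3 q3272 L35938 q2457, e3 q3273 L51898 q4200, e3 q3274 (flp_e L36028) q2463, e3 q3275 (flp_e L51949) q4203, e3 q3276 (flp_e L51959) q4204, e3 q3277 L36071 q2466, e3 q3278 L36079 q2467, e3 q3279 (flp_e L52017) q4208, e3 q3280 (flp_e L52026) q4209, e3 q3281 L36110 q3281, e3 q3282 L36116 q2470, e3 q3283 L36125 q2471, e3 q3284 (flp_e L52077) q4214, e3 q3285 (flp_e L52087) q4215, e3 q3286 L424665 q3286, e3 q3287 L36173 q3287, e3 q3288 L36179 q2475, e3 q3289 L36188 q2476, e3 q3290 L36200 q3290, e3 q3291 (flp_e L52154) q4219, e3 q3292 L36214 q3292, e3 q3293 L36222 q3293, e3 q3294 L36230 q2481, e3 q3295 L36241 q3295, e3 q3296 L36244 q3296, e3 q3297 (flp_e L36249) q2482, e3 q3298 (flp_e L52231) q4223, e3 q3299 L36271 q3299, e3 q3300 L36278 q2484, e3 q3301 (flp_e L52273) q4227, e3 q3302 L36296 q3302, e3 q3303 L36302 q2486, e3 q3304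 L36311 q3304, e3 q3305 L36325 q3305, e3 q3306 L36332 q2489, e3 q3307 L36340 q3307, e3 q3308 (flp_e L36382) q2493, e3 q3309 (flp_e L52403) q4229, e3 q3310 L36423 q3310, e3 q3311 L36478 q2496, e3 q3312 (flp_e L627247) q4158, e3 q3313 L36639 q2503, e3 q3314 (flp_e L52781) q4231, e3 q3315 L36753 q2506, e3 q3316 L37085 q2513, e3 q3317 L37197 q3317, e3 q3318 L37676 q3318, e3 q3319 L54473 q4234, e3 q3320 L37896 q3320, e3 q3321 L38306 q3321, e3 q3322 L38316 q2528, e3 q3323 L55067 q4238, e3 q3324 L55085 q4240, e3 q3325 (flp_e L38339) q2527, e3 q3326 L55113 q4243, e3 q3327 L55134 q4245, trivial⟩ (by decide +kernel)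

theorem ce_e_52 : ∀ r, r < 64 → sm ge (Qf (3328 + r)) = Qf (tab Gen.e (3328 + r)) :=
  edges_tab (sm ge) Qf (tab Gen.e) 3328 [(3328, 2529), (3329, 4248), (3330, 2530), (3331, 2536), (3332, 4253), (3333, 2532), (3334, 4246), (3335, 4257), (3336, 2534), (3337, 3337), (3338, 4250), (3339, 4251), (3340, 2537), (3341, 3341), (3342, 3342), (3343, 4270), (3344, 3344), (3345, 3345), (3346, 3346), (3347, 4276), (3348, 4278), (3349, 2543), (3350, 4281), (3351, 2544), (3352, 4284), (3353, 2545), (3354, 2556), (3355, 4288), (3356, 2547), (3357, 2559), (3358, 4292), (3359, 2549), (3360, 2684), (3361, 2563), (3362, 2564), (3363, 4299), (3364, 2552), (3365, 4282), (3366, 4303), (3367, 2554), (3368, 2694), (3369, 4286), (3370, 4287), (3371, 2557), (3372, 2700), (3373, 4290), (3374, 4291), (3375, 2560), (3376, 2704), (3377, 4294), (3378, 4322), (3379, 2707), (3380, 4297), (3381, 4298), (3382, 2713), (3383, 3383), (3384, 4331), (3385, 2716), (3386, 3386), (3387, 3387), (3388, 2719), (3389, 3389), (3390, 2721), (3391, 4342)]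
    ⟨e3 q3328 (flp_e L38370) q2529, e3 q3329 L55166 q4248, e3 q3330 (flp_e L38389) q2530, e3 q3331 L38405 q2536, e3 q3332 L55212 q4253, e3 q3333 (flp_e L38417) q2532, e3 q3334 (flp_e L55153) q4246, e3 q3335 L55251 q4257, e3 q3336 (flp_e L38448) q2534, e3 q3337 L38465 q3337, e3 q3338 (flp_e L55189) q4250, e3 q3339 (flp_e L55195) q4251, e3 q3340 (flp_e L38484) q2537, e3 q3341 L38500 q3341, e3 q3342 L38510 q3342, e3 q3343 L55365 q4270, e3 q3344 L38523 q3344, e3 q3345 L38532 q3345, e3 q3346 L38541 q3346, e3 q3347 L55420 q4276, e3 q3348 L55440 q4278, e3 q3349 (flp_e L38566) q2543, e3 q3350 L55467 q4281, e3 q3351 (flp_e L38586) q2544, e3 q3352 L55499 q4284, e3 q3353 (flp_e L38605) q2545, e3 q3354 L38619 q2556, e3 q3355 L55542 q4288, e3 q3356 (flp_e L38632) q2547, e3 q3357 L38649 q2559, e3 q3358 L55581 q4292, e3 q3359 (flp_e L38660) q2549, e3 q3360 L38671 q2684, e3 q3361 L38678 q2563, e3 q3362 L38685 q2564, e3 q3363 L55643 q4299, e3 q3364 (flp_e L38699) q2552, e3 q3365 (flp_e L55487) q4282, e3 q3366 L55686 q4303, e3 q3367 (flp_e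 L38730) q2554, e3 q3368 L38746 q2694, e3 q3369 (flp_e L55521) q4286, e3 q3370 (flp_e L55528) q4287, e3 q3371 (flp_e L38773) q2557, e3 q3372 L38792 q2700, e3 q3373 (flp_e L55568) q4290, e3 q3374 (flp_e L55575) q4291, e3 q3375 (flp_e L38813) q2560, e3 q3376 L38827 q2704, e3 q3377 (flp_e L55600) q4294, e3 q3378 L55859 q4322, e3 q3379 L38846 q2707, e3 q3380 (flp_e L55620) q4297, e3 q3381 (flp_e L55628) q4298, e3 q3382 L38882 q2713, e3 q3383 L38893 q3383, e3 q3384 L55955 q4331, e3 q3385 L38909 q2716, e3 q3386 L38918 q3386, e3 q3387 L38928 q3387, e3 q3388 L38939 q2719, e3 q3389 L38948 q3389, e3 q3390 L38951 q2721, e3 q3391 L56053 q4342, trivial⟩ (by decide +kernel)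

theorem ce_e_53 : ∀ r, r < 64 → sm ge (Qf (3392 + r)) = Qf (tab Gen.e (3392 + r)) :=
  edges_tab (sm ge) Qf (tab Gen.e) 3392 [(3392, 2723), (3393, 3393), (3394, 2572), (3395, 4347), (3396, 4348), (3397, 2728), (3398, 3398), (3399, 4353), (3400, 2576), (3401, 3401), (3402, 4357), (3403, 2578), (3404, 2732), (3405, 3405), (3406, 3406), (3407, 2581), (3408, 2736), (3409, 3409), (3410, 4370), (3411, 2739), (3412, 3412), (3413, 3413), (3414, 4375), (3415, 2586), (3416, 3416), (3417, 3417), (3418, 3418), (3419, 2589), (3420, 2743), (3421, 3421), (3422, 4388), (3423, 2746), (3424, 3424), (3425, 3425), (3426, 2749), (3427, 3427), (3428, 2751), (3429, 4399), (3430, 2753), (3431, 3431), (3432, 2597), (3433, 4404), (3434, 4405), (3435, 2758), (3436, 3436), (3437, 2601), (3438, 3438), (3439, 2631), (3440, 4415), (3441, 3441), (3442, 2634), (3443, 2635), (3444, 2760), (3445, 2637), (3446, 2762), (3447, 4426), (3448, 2764), (3449, 2641), (3450, 2609), (3451, 4431), (3452, 4432), (3453, 2769), (3454, 2646), (3455, 2771)]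
    ⟨e3 q3392 L38968 q2723, e3 q3393 L38976 q3393, e3 q3394 (flp_e L38977) q2572, e3 q3395 (flp_e L56094) q4347, e3 q3396 (flp_e L56101) q4348, e3 q3397 L39006 q2728, e3 q3398 L39014 q3398, e3 q3399 L56141 q4353, e3 q3400 (flp_e L39027) q2576, e3 q3401 L39048 q3401, e3 q3402 L56182 q4357, e3 q3403 (flp_e L39061) q2578, e3 q3404 L39079 q2732, e3 q3405 L39090 q3405, e3 q3406 L39095 q3406, e3 q3407 (flp_e L39099) q2581, e3 q3408 L39116 q2736, e3 q3409 L39126 q3409, e3 q3410 L56304 q4370, e3 q3411 L39137 q2739, e3 q3412 L39148 q3412, e3 q3413 L39155 q3413, e3 q3414 L56345 q4375, e3 q3415 (flp_e L39171) q2586, e3 q3416 L39188 q3416, e3 q3417 L39197 q3417, e3 q3418 L39203 q3418, e3 q3419 (flp_e L39209) q2589, e3 q3420 L39227 q2743, e3 q3421 L39236 q3421, e3 q3422 L56466 q4388, e3 q3423 L39247 q2746, e3 q3424 L39256 q3424, e3 q3425 L39265 q3425, e3 q3426 L39277 q2749, e3 q3427 L39286 q3427, e3 q3428 L39289 q2751, e3 q3429 L56556 q4399, e3 q3430 L39304 q2753, e3 q3431 L39314 q3431, e3 q3432 (flp_e L39318) q2597, e3 q3433 (flp_e L56600)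 q4404, e3 q3434 (flp_e L56605) q4405, e3 q3435 L39341 q2758, e3 q3436 L39350 q3436, e3 q3437 (flp_e L39354) q2601, e3 q3438 L39370 q3438, e3 q3439 L39380 q2631, e3 q3440 L56683 q4415, e3 q3441 L39394 q3441, e3 q3442 L39403 q2634, e3 q3443 L39413 q2635, e3 q3444 L39427 q2760, e3 q3445 L39438 q2637, e3 q3446 L39442 q2762, e3 q3447 L56781 q4426, e3 q3448 L39461 q2764, e3 q3449 L39469 q2641, e3 q3450 (flp_e L39473) q2609, e3 q3451 (flp_e L56831) q4431, e3 q3452 (flp_e L56838) q4432, e3 q3453 L39499 q2769, e3 q3454 L39509 q2646, e3 q3455 L39518 q2771, trivial⟩ (by decide +kernel)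

theorem ce_e_54 : ∀ r, r < 64 → sm ge (Qf (3456 + r)) = Qf (tab Gen.e (3456 + r)) :=
  edges_tab (sm ge) Qf (tab Gen.e) 3456 [(3456, 4439), (3457, 2773), (3458, 2650), (3459, 4444), (3460, 2776), (3461, 2616), (3462, 4449), (3463, 4450), (3464, 2780), (3465, 2657), (3466, 2620), (3467, 2621), (3468, 4455), (3469, 4456), (3470, 4458), (3471, 3471), (3472, 4462), (3473, 3473), (3474, 3474), (3475, 4410), (3476, 4466), (3477, 4414), (3478, 2632), (3479, 4469), (3480, 4470), (3481, 4419), (3482, 4473), (3483, 4423), (3484, 4476), (3485, 2639), (3486, 4478), (3487, 4479), (3488, 4430), (3489, 2643), (3490, 2644), (3491, 4483), (3492, 4484), (3493, 4486), (3494, 4489), (3495, 2648), (3496, 4491), (3497, 4492), (3498, 4443), (3499, 2651), (3500, 4496), (3501, 4497), (3502, 2654), (3503, 2655), (3504, 4501), (3505, 4502), (3506, 4504), (3507, 3507), (3508, 2660), (3509, 2661), (3510, 3510), (3511, 2662), (3512, 4509), (3513, 4511), (3514, 3514), (3515, 2665), (3516, 4518), (3517, 4520), (3518, 2666), (3519, 4523)]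
    ⟨e3 q3456 L56888 q4439, e3 q3457 L39535 q2773, e3 q3458 L39545 q2650, e3 q3459 L56933 q4444, e3 q3460 L39558 q2776, e3 q3461 (flp_e L39561) q2616, e3 q3462 (flp_e L56970) q4449, e3 q3463 (flp_e L56976) q4450, e3 q3464 L39589 q2780, e3 q3465 L39597 q2657, e3 q3466 L39606 q2620, e3 q3467 L39611 q2621, e3 q3468 (flp_e L57015) q4455, e3 q3469 (flp_e L57021) q4456, e3 q3470 (flp_e L57037) q4458, e3 q3471 L39661 q3471, e3 q3472 L57108 q4462, e3 q3473 L39685 q3473, e3 q3474 L39695 q3474, e3 q3475 (flp_e L56648) q4410, e3 q3476 L57207 q4466, e3 q3477 (flp_e L56678) q4414, e3 q3478 (flp_e L39752) q2632, e3 q3479 (flp_e L57254) q4469, e3 q3480 (flp_e L57260) q4470, e3 q3481 (flp_e L56722) q4419, e3 q3482 L57320 q4473, e3 q3483 (flp_e L56762) q4423, e3 q3484 L57369 q4476, e3 q3485 (flp_e L39849) q2639, e3 q3486 (flp_e L57417) q4478, e3 q3487 (flp_e L57425) q4479, e3 q3488 (flp_e L56821) q4430, e3 q3489 L39897 q2643, e3 q3490 L39905 q2644, e3 q3491 (flp_e L57469) q4483, e3 q3492 (flp_e L57478) q4484, e3 q3493 (flp_e L57492) q4486,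 e3 q3494 L57534 q4489, e3 q3495 (flp_e L39963) q2648, e3 q3496 (flp_e L57584) q4491, e3 q3497 (flp_e L57591) q4492, e3 q3498 (flp_e L56929) q4443, e3 q3499 (flp_e L40007) q2651, e3 q3500 (flp_e L57635) q4496, e3 q3501 (flp_e L57642) q4497, e3 q3502 L40051 q2654, e3 q3503 L40057 q2655, e3 q3504 (flp_e L57699) q4501, e3 q3505 (flp_e L57706) q4502, e3 q3506 (flp_e L57722) q4504, e3 q3507 L40090 q3507, e3 q3508 L40097 q2660, e3 q3509 L40104 q2661, e3 q3510 L40114 q3510, e3 q3511 L40119 q2662, e3 q3512 (flp_e L57764) q4509, e3 q3513 (flp_e L57779) q4511, e3 q3514 L40148 q3514, e3 q3515 L40159 q2665, e3 q3516 L57842 q4518, e3 q3517 L57863 q4520, e3 q3518 (flp_e L40186) q2666, e3 q3519 L57893 q4523, trivial⟩ (by decide +kernel)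

theorem ce_e_55 : ∀ r, r < 64 → sm ge (Qf (3520 + r)) = Qf (tab Gen.e (3520 + r)) :=
  edges_tab (sm ge) Qf (tab Gen.e) 3520 [(3520, 2667), (3521, 3521), (3522, 4528), (3523, 4529), (3524, 2670), (3525, 4531), (3526, 2671), (3527, 2691), (3528, 4535), (3529, 2673), (3530, 4285), (3531, 2695), (3532, 2696), (3533, 4542), (3534, 2676), (3535, 2677), (3536, 2698), (3537, 2679), (3538, 4289), (3539, 2701), (3540, 2702), (3541, 2682), (3542, 4293), (3543, 2705), (3544, 4559), (3545, 4296), (3546, 2708), (3547, 2709), (3548, 2687), (3549, 4530), (3550, 2689), (3551, 4300), (3552, 4533), (3553, 4534), (3554, 2692), (3555, 4304), (3556, 4537), (3557, 4579), (3558, 4307), (3559, 4540), (3560, 4541), (3561, 3561), (3562, 4545), (3563, 4546), (3564, 4310), (3565, 4548), (3566, 4592), (3567, 4313), (3568, 4551), (3569, 4552), (3570, 4316), (3571, 4554), (3572, 4318), (3573, 4603), (3574, 4320), (3575, 4558), (3576, 2706), (3577, 4608), (3578, 4609), (3579, 4325), (3580, 4563), (3581, 4613), (3582, 3582), (3583, 3583)]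
    ⟨e3 q3520 (flp_e L40206) q2667, e3 q3521 L40223 q3521, e3 q3522 L57937 q4528, e3 q3523 L57960 q4529, e3 q3524 (flp_e L40245) q2670, e3 q3525 L57993 q4531, e3 q3526 (flp_e L40265) q2671, e3 q3527 L40284 q2691, e3 q3528 L58032 q4535, e3 q3529 (flp_e L40296) q2673, e3 q3530 (flp_e L55512) q4285, e3 q3531 L40319 q2695, e3 q3532 L40327 q2696, e3 q3533 L58102 q4542, e3 q3534 (flp_e L40338) q2676, e3 q3535 (flp_e L40359) q2677, e3 q3536 L40376 q2698, e3 q3537 (flp_e L40388) q2679, e3 q3538 (flp_e L55558) q4289, e3 q3539 L40411 q2701, e3 q3540 L40419 q2702, e3 q3541 (flp_e L40424) q2682, e3 q3542 (flp_e L55593) q4293, e3 q3543 L40445 q2705, e3 q3544 L58274 q4559, e3 q3545 (flp_e L55612) q4296, e3 q3546 L40464 q2708, e3 q3547 L40474 q2709, e3 q3548 (flp_e L40489) q2687, e3 q3549 (flp_e L57980) q4530, e3 q3550 (flp_e L40521) q2689, e3 q3551 (flp_e L55664) q4300, e3 q3552 (flp_e L58020) q4533, e3 q3553 (flp_e L58028) q4534, e3 q3554 (flp_e L40561) q2692, e3 q3555 (flp_e L55702) q4304, e3 q3556 (flp_e L58057) q4537, e3 q3557 L58483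 q4579, e3 q3558 (flp_e L55725) q4307, e3 q3559 (flp_e L58079) q4540, e3 q3560 (flp_e L58088) q4541, e3 q3561 L40653 q3561, e3 q3562 (flp_e L58156) q4545, e3 q3563 (flp_e L58163) q4546, e3 q3564 (flp_e L55764) q4310, e3 q3565 (flp_e L58194) q4548, e3 q3566 L58644 q4592, e3 q3567 (flp_e L55788) q4313, e3 q3568 (flp_e L58214) q4551, e3 q3569 (flp_e L58225) q4552, e3 q3570 (flp_e L55821) q4316, e3 q3571 (flp_e L58244) q4554, e3 q3572 (flp_e L55831) q4318, e3 q3573 L58736 q4603, e3 q3574 (flp_e L55848) q4320, e3 q3575 (flp_e L58270) q4558, e3 q3576 (flp_e L40781) q2706, e3 q3577 (flp_e L58776) q4608, e3 q3578 (flp_e L58783) q4609, e3 q3579 (flp_e L55887) q4325, e3 q3580 (flp_e L58305) q4563, e3 q3581 L58866 q4613, e3 q3582 L40860 q3582, e3 q3583 L40869 q3583, trivial⟩ (by decide +kernel)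

theorem ce_e_56 : ∀ r, r < 64 → sm ge (Qf (3584 + r)) = Qf (tab Gen.e (3584 + r)) :=
  edges_tab (sm ge) Qf (tab Gen.e) 3584 [(3584, 3584), (3585, 4327), (3586, 4620), (3587, 4329), (3588, 3588), (3589, 2715), (3590, 4625), (3591, 4626), (3592, 4334), (3593, 3593), (3594, 4336), (3595, 4633), (3596, 4338), (3597, 3597), (3598, 4638), (3599, 4341), (3600, 2722), (3601, 4643), (3602, 4644), (3603, 4345), (3604, 3604), (3605, 2726), (3606, 2727), (3607, 4649), (3608, 4650), (3609, 4652), (3610, 2730), (3611, 4358), (3612, 3612), (3613, 4661), (3614, 4361), (3615, 3615), (3616, 3616), (3617, 4364), (3618, 3618), (3619, 4366), (3620, 4672), (3621, 4368), (3622, 3622), (3623, 2738), (3624, 4677), (3625, 4678), (3626, 4373), (3627, 3627), (3628, 4382), (3629, 3629), (3630, 4384), (3631, 4688), (3632, 4386), (3633, 3633), (3634, 2745), (3635, 4693), (3636, 4694), (3637, 4391), (3638, 3638), (3639, 4393), (3640, 4701), (3641, 4395), (3642, 3642), (3643, 4706), (3644, 4398), (3645, 2752), (3646, 4711), (3647, 4712)]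
    ⟨e3 q3584 L40879 q3584, e3 q3585 (flp_e L55921) q4327, e3 q3586 L58962 q4620, e3 q3587 (flp_e L55942) q4329, e3 q3588 L40932 q3588, e3 q3589 (flp_e L40935) q2715, e3 q3590 (flp_e L59008) q4625, e3 q3591 (flp_e L59017) q4626, e3 q3592 (flp_e L55990) q4334, e3 q3593 L40974 q3593, e3 q3594 (flp_e L56009) q4336, e3 q3595 L59071 q4633, e3 q3596 (flp_e L56026) q4338, e3 q3597 L41007 q3597, e3 q3598 L59111 q4638, e3 q3599 (flp_e L56050) q4341, e3 q3600 (flp_e L41025) q2722, e3 q3601 (flp_e L59155) q4643, e3 q3602 (flp_e L59161) q4644, e3 q3603 (flp_e L56078) q4345, e3 q3604 L41057 q3604, e3 q3605 L41066 q2726, e3 q3606 L41073 q2727, e3 q3607 (flp_e L59198) q4649, e3 q3608 (flp_e L59206) q4650, e3 q3609 (flp_e L59221) q4652, e3 q3610 (flp_e L41101) q2730, e3 q3611 (flp_e L56202) q4358, e3 q3612 L41134 q3612, e3 q3613 L59302 q4661, e3 q3614 (flp_e L56226) q4361, e3 q3615 L41156 q3615, e3 q3616 L41166 q3616, e3 q3617 (flp_e L56258) q4364, e3 q3618 L41192 q3618, e3 q3619 (flp_e L56272) q4366, e3 q3620 L59401 q4672, e3 q3621 (flp_e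 L56290) q4368, e3 q3622 L41223 q3622, e3 q3623 (flp_e L41227) q2738, e3 q3624 (flp_e L59450) q4677, e3 q3625 (flp_e L59455) q4678, e3 q3626 (flp_e L56330) q4373, e3 q3627 L41261 q3627, e3 q3628 (flp_e L56420) q4382, e3 q3629 L41286 q3629, e3 q3630 (flp_e L56433) q4384, e3 q3631 L59538 q4688, e3 q3632 (flp_e L56452) q4386, e3 q3633 L41316 q3633, e3 q3634 (flp_e L41322) q2745, e3 q3635 (flp_e L59587) q4693, e3 q3636 (flp_e L59594) q4694, e3 q3637 (flp_e L56491) q4391, e3 q3638 L41356 q3638, e3 q3639 (flp_e L56511) q4393, e3 q3640 L59644 q4701, e3 q3641 (flp_e L56528) q4395, e3 q3642 L41393 q3642, e3 q3643 L59689 q4706, e3 q3644 (flp_e L56552) q4398, e3 q3645 (flp_e L41410) q2752, e3 q3646 (flp_e L59726) q4711, e3 q3647 (flp_e L59732) q4712, trivial⟩ (by decide +kernel)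

theorem ce_e_57 : ∀ r, r < 64 → sm ge (Qf (3648 + r)) = Qf (tab Gen.e (3648 + r)) :=
  edges_tab (sm ge) Qf (tab Gen.e) 3648 [(3648, 4402), (3649, 3649), (3650, 2756), (3651, 2757), (3652, 4717), (3653, 4718), (3654, 4720), (3655, 4420), (3656, 4726), (3657, 4422), (3658, 2788), (3659, 4731), (3660, 4425), (3661, 2763), (3662, 4736), (3663, 4737), (3664, 4429), (3665, 2793), (3666, 2767), (3667, 2768), (3668, 4742), (3669, 4743), (3670, 4745), (3671, 4436), (3672, 4749), (3673, 4438), (3674, 2772), (3675, 4753), (3676, 4754), (3677, 4442), (3678, 2803), (3679, 2775), (3680, 4759), (3681, 4760), (3682, 4765), (3683, 4448), (3684, 2778), (3685, 2779), (3686, 4768), (3687, 4769), (3688, 4771), (3689, 4716), (3690, 2784), (3691, 2785), (3692, 2866), (3693, 2786), (3694, 4776), (3695, 4778), (3696, 2787), (3697, 4782), (3698, 4730), (3699, 2789), (3700, 4785), (3701, 2791), (3702, 2792), (3703, 4788), (3704, 4789), (3705, 3705), (3706, 2796), (3707, 2797), (3708, 3708), (3709, 2798), (3710, 4794), (3711, 4796)]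
    ⟨e3 q3648 (flp_e L56583) q4402, e3 q3649 L41445 q3649, e3 q3650 L41454 q2756, e3 q3651 L41459 q2757, e3 q3652 (flp_e L59770) q4717, e3 q3653 (flp_e L59775) q4718, e3 q3654 (flp_e L59788) q4720, e3 q3655 (flp_e L56732) q4420, e3 q3656 L59834 q4726, e3 q3657 (flp_e L56753) q4422, e3 q3658 L41517 q2788, e3 q3659 L59884 q4731, e3 q3660 (flp_e L56778) q4425, e3 q3661 (flp_e L41536) q2763, e3 q3662 (flp_e L59925) q4736, e3 q3663 (flp_e L59933) q4737, e3 q3664 (flp_e L56811) q4429, e3 q3665 L41575 q2793, e3 q3666 L41586 q2767, e3 q3667 L41593 q2768, e3 q3668 (flp_e L59974) q4742, e3 q3669 (flp_e L59982) q4743, e3 q3670 (flp_e L59996) q4745, e3 q3671 (flp_e L56867) q4436, e3 q3672 L60030 q4749, e3 q3673 (flp_e L56885) q4438, e3 q3674 (flp_e L41641) q2772, e3 q3675 (flp_e L60077) q4753, e3 q3676 (flp_e L60084) q4754, e3 q3677 (flp_e L56920) q4442, e3 q3678 L41681 q2803, e3 q3679 (flp_e L41686) q2775, e3 q3680 (flp_e L60125) q4759, e3 q3681 (flp_e L60131) q4760, e3 q3682 L60163 q4765, e3 q3683 (flp_e L56961) q4448, e3 q3684 L41722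 q2778, e3 q3685 L41728 q2779, e3 q3686 (flp_e L60189) q4768, e3 q3687 (flp_e L60196) q4769, e3 q3688 (flp_e L60213) q4771, e3 q3689 (flp_e L59764) q4716, e3 q3690 L41765 q2784, e3 q3691 L41771 q2785, e3 q3692 L41779 q2866, e3 q3693 L41786 q2786, e3 q3694 (flp_e L60248) q4776, e3 q3695 (flp_e L60265) q4778, e3 q3696 (flp_e L41833) q2787, e3 q3697 (flp_e L60365) q4782, e3 q3698 (flp_e L59878) q4730, e3 q3699 (flp_e L41882) q2789, e3 q3700 (flp_e L60421) q4785, e3 q3701 L41929 q2791, e3 q3702 L41937 q2792, e3 q3703 (flp_e L60499) q4788, e3 q3704 (flp_e L60508) q4789, e3 q3705 L41974 q3705, e3 q3706 L41979 q2796, e3 q3707 L41988 q2797, e3 q3708 L41996 q3708, e3 q3709 L42001 q2798, e3 q3710 (flp_e L60566) q4794, e3 q3711 (flp_e L60581) q4796, trivial⟩ (by decide +kernel)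

theorem ce_e_58 : ∀ r, r < 64 → sm ge (Qf (3712 + r)) = Qf (tab Gen.e (3712 + r)) :=
  edges_tab (sm ge) Qf (tab Gen.e) 3712 [(3712, 2799), (3713, 4801), (3714, 2801), (3715, 2802), (3716, 4804), (3717, 4805), (3718, 3082), (3719, 2805), (3720, 2806), (3721, 4811), (3722, 4812), (3723, 3723), (3724, 2809), (3725, 2810), (3726, 2878), (3727, 2811), (3728, 4817), (3729, 4819), (3730, 3730), (3731, 3731), (3732, 2817), (3733, 2885), (3734, 2818), (3735, 2887), (3736, 2888), (3737, 4828), (3738, 3738), (3739, 4836), (3740, 3740), (3741, 3741), (3742, 4841), (3743, 3743), (3744, 2822), (3745, 4846), (3746, 4847), (3747, 3747), (3748, 3748), (3749, 2826), (3750, 2827), (3751, 4852), (3752, 4853), (3753, 4855), (3754, 4858), (3755, 3755), (3756, 2831), (3757, 4862), (3758, 4863), (3759, 3759), (3760, 3760), (3761, 2834), (3762, 4868), (3763, 4869), (3764, 4874), (3765, 3765), (3766, 2837), (3767, 2838), (3768, 4877), (3769, 4878), (3770, 4880), (3771, 2863), (3772, 2843), (3773, 2844), (3774, 4719), (3775, 2845)]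
    ⟨e3 q3712 (flp_e L42043) q2799, e3 q3713 (flp_e L60659) q4801, e3 q3714 L42083 q2801, e3 q3715 L42090 q2802, e3 q3716 (flp_e L60711) q4804, e3 q3717 (flp_e L60719) q4805, e3 q3718 L42126 q3082, e3 q3719 L42133 q2805, e3 q3720 L42140 q2806, e3 q3721 (flp_e L60784) q4811, e3 q3722 (flp_e L60792) q4812, e3 q3723 L42174 q3723, e3 q3724 L42179 q2809, e3 q3725 L42186 q2810, e3 q3726 L42195 q2878, e3 q3727 L42201 q2811, e3 q3728 (flp_e L60846) q4817, e3 q3729 (flp_e L60863) q4819, e3 q3730 L42227 q3730, e3 q3731 L42234 q3731, e3 q3732 L42241 q2817, e3 q3733 L42251 q2885, e3 q3734 L42257 q2818, e3 q3735 L42264 q2887, e3 q3736 L42273 q2888, e3 q3737 (flp_e L60930) q4828, e3 q3738 L42290 q3738, e3 q3739 L61005 q4836, e3 q3740 L42312 q3740, e3 q3741 L42323 q3741, e3 q3742 L61055 q4841, e3 q3743 L42341 q3743, e3 q3744 (flp_e L42345) q2822, e3 q3745 (flp_e L61105) q4846, e3 q3746 (flp_e L61112) q4847, e3 q3747 L42374 q3747, e3 q3748 L42385 q3748, e3 q3749 L42395 q2826, e3 q3750 L42402 q2827, e3 q3751 (flp_e L61156) q4852, e3 q3752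 (flp_e L61165) q4853, e3 q3753 (flp_e L61180) q4855, e3 q3754 L61221 q4858, e3 q3755 L42458 q3755, e3 q3756 (flp_e L42461) q2831, e3 q3757 (flp_e L61272) q4862, e3 q3758 (flp_e L61280) q4863, e3 q3759 L42491 q3759, e3 q3760 L42502 q3760, e3 q3761 (flp_e L42506) q2834, e3 q3762 (flp_e L61323) q4868, e3 q3763 (flp_e L61331) q4869, e3 q3764 L61368 q4874, e3 q3765 L42542 q3765, e3 q3766 L42551 q2837, e3 q3767 L42558 q2838, e3 q3768 (flp_e L61397) q4877, e3 q3769 (flp_e L61404) q4878, e3 q3770 (flp_e L61418) q4880, e3 q3771 L42591 q2863, e3 q3772 L42599 q2843, e3 q3773 L42606 q2844, e3 q3774 (flp_e L59782) q4719, e3 q3775 L42619 q2845, trivial⟩ (by decide +kernel)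

theorem ce_e_59 : ∀ r, r < 64 → sm ge (Qf (3776 + r)) = Qf (tab Gen.e (3776 + r)) :=
  edges_tab (sm ge) Qf (tab Gen.e) 3776 [(3776, 4885), (3777, 4887), (3778, 2846), (3779, 4891), (3780, 4892), (3781, 3781), (3782, 2849), (3783, 2850), (3784, 4897), (3785, 4898), (3786, 4900), (3787, 2854), (3788, 2855), (3789, 4904), (3790, 4905), (3791, 4911), (3792, 4907), (3793, 2856), (3794, 4914), (3795, 4876), (3796, 2860), (3797, 2861), (3798, 4770), (3799, 2862), (3800, 4917), (3801, 4919), (3802, 4883), (3803, 4884), (3804, 2868), (3805, 4777), (3806, 2869), (3807, 4779), (3808, 4780), (3809, 4928), (3810, 3810), (3811, 2872), (3812, 2873), (3813, 4806), (3814, 2874), (3815, 4936), (3816, 4938), (3817, 3817), (3818, 3818), (3819, 2880), (3820, 4818), (3821, 2881), (3822, 4820), (3823, 4821), (3824, 4947), (3825, 3825), (3826, 3826), (3827, 4955), (3828, 3828), (3829, 4827), (3830, 2889), (3831, 4829), (3832, 4830), (3833, 4831), (3834, 4832), (3835, 4833), (3836, 3836), (3837, 3837), (3838, 3838), (3839, 4964)]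
    ⟨e3 q3776 (flp_e L61462) q4885, e3 q3777 (flp_e L61476) q4887, e3 q3778 (flp_e L42658) q2846, e3 q3779 (flp_e L61554) q4891, e3 q3780 (flp_e L61563) q4892, e3 q3781 L42699 q3781, e3 q3782 L42709 q2849, e3 q3783 L42717 q2850, e3 q3784 (flp_e L61635) q4897, e3 q3785 (flp_e L61644) q4898, e3 q3786 (flp_e L61662) q4900, e3 q3787 L42752 q2854, e3 q3788 L42760 q2855, e3 q3789 (flp_e L61697) q4904, e3 q3790 (flp_e L61706) q4905, e3 q3791 L61749 q4911, e3 q3792 (flp_e L61721) q4907, e3 q3793 (flp_e L42797) q2856, e3 q3794 (flp_e L61774) q4914, e3 q3795 (flp_e L61389) q4876, e3 q3796 L42824 q2860, e3 q3797 L42832 q2861, e3 q3798 (flp_e L60205) q4770, e3 q3799 L42848 q2862, e3 q3800 (flp_e L61804) q4917, e3 q3801 (flp_e L61821) q4919, e3 q3802 (flp_e L61444) q4883, e3 q3803 (flp_e L61453) q4884, e3 q3804 L42887 q2868, e3 q3805 (flp_e L60258) q4777, e3 q3806 L42903 q2869, e3 q3807 (flp_e L60272) q4779, e3 q3808 (flp_e L60282) q4780, e3 q3809 (flp_e L61893) q4928, e3 q3810 L42938 q3810, e3 q3811 L42946 q2872, e3 q3812 L42956 q2873,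 e3 q3813 (flp_e L60729) q4806, e3 q3814 L42973 q2874, e3 q3815 (flp_e L61963) q4936, e3 q3816 (flp_e L61981) q4938, e3 q3817 L43003 q3817, e3 q3818 L43012 q3818, e3 q3819 L43021 q2880, e3 q3820 (flp_e L60857) q4818, e3 q3821 L43037 q2881, e3 q3822 (flp_e L60869) q4820, e3 q3823 (flp_e L60878) q4821, e3 q3824 (flp_e L62061) q4947, e3 q3825 L43070 q3825, e3 q3826 L43079 q3826, e3 q3827 L62137 q4955, e3 q3828 L43095 q3828, e3 q3829 (flp_e L60924) q4827, e3 q3830 L43111 q2889, e3 q3831 (flp_e L60938) q4829, e3 q3832 (flp_e L60948) q4830, e3 q3833 (flp_e L60955) q4831, e3 q3834 (flp_e L60964) q4832, e3 q3835 (flp_e L60970) q4833, e3 q3836 L43224 q3836, e3 q3837 L43249 q3837, e3 q3838 L43259 q3838, e3 q3839 L62373 q4964, trivial⟩ (by decide +kernel)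

theorem ce_e_60 : ∀ r, r < 64 → sm ge (Qf (3840 + r)) = Qf (tab Gen.e (3840 + r)) :=
  edges_tab (sm ge) Qf (tab Gen.e) 3840 [(3840, 3840), (3841, 3841), (3842, 3842), (3843, 3843), (3844, 4968), (3845, 2902), (3846, 4970), (3847, 2903), (3848, 3848), (3849, 4974), (3850, 2905), (3851, 3851), (3852, 3852), (3853, 3853), (3854, 2910), (3855, 2933), (3856, 2912), (3857, 3857), (3858, 2936), (3859, 2937), (3860, 2915), (3861, 3861), (3862, 2940), (3863, 3100), (3864, 3864), (3865, 2943), (3866, 2944), (3867, 3867), (3868, 2945), (3869, 3869), (3870, 2947), (3871, 4995), (3872, 2949), (3873, 2950), (3874, 3874), (3875, 2952), (3876, 3876), (3877, 5004), (3878, 3878), (3879, 2956), (3880, 2929), (3881, 3118), (3882, 3099), (3883, 2961), (3884, 4978), (3885, 3885), (3886, 4980), (3887, 5012), (3888, 4982), (3889, 4983), (3890, 3890), (3891, 4985), (3892, 3892), (3893, 5021), (3894, 3894), (3895, 4989), (3896, 2941), (3897, 3000), (3898, 2999), (3899, 3899), (3900, 3116), (3901, 4991), (3902, 3902), (3903, 5028)]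
    ⟨e3 q3840 L43287 q3840, e3 q3841 L43300 q3841, e3 q3842 L43311 q3842, e3 q3843 L43344 q3843, e3 q3844 L62490 q4968, e3 q3845 (flp_e L43370) q2902, e3 q3846 L62542 q4970, e3 q3847 (flp_e L43389) q2903, e3 q3848 L43408 q3848, e3 q3849 L62582 q4974, e3 q3850 (flp_e L43419) q2905, e3 q3851 L43435 q3851, e3 q3852 L43444 q3852, e3 q3853 L43450 q3853, e3 q3854 (flp_e L43514) q2910, e3 q3855 L43553 q2933, e3 q3856 (flp_e L43566) q2912, e3 q3857 L43583 q3857, e3 q3858 L43594 q2936, e3 q3859 L43601 q2937, e3 q3860 (flp_e L43605) q2915, e3 q3861 L43620 q3861, e3 q3862 L43628 q2940, e3 q3863 L626945 q3100, e3 q3864 L43644 q3864, e3 q3865 L43654 q2943, e3 q3866 L43662 q2944, e3 q3867 L43756 q3867, e3 q3868 L43796 q2945, e3 q3869 L43818 q3869, e3 q3870 L43825 q2947, e3 q3871 L63215 q4995, e3 q3872 L43849 q2949, e3 q3873 L43859 q2950, e3 q3874 L43871 q3874, e3 q3875 L43879 q2952, e3 q3876 L43883 q3876, e3 q3877 L63307 q5004, e3 q3878 L43896 q3878, e3 q3879 L43903 q2956, e3 q3880 (flp_e L43907) q2929, e3 q3881 L626790 q3118, e3 q3882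 (flp_e L625689) q3099, e3 q3883 L43945 q2961, e3 q3884 (flp_e L62791) q4978, e3 q3885 L44049 q3885, e3 q3886 (flp_e L62823) q4980, e3 q3887 L63564 q5012, e3 q3888 (flp_e L62850) q4982, e3 q3889 (flp_e L62859) q4983, e3 q3890 L44109 q3890, e3 q3891 (flp_e L62883) q4985, e3 q3892 L44121 q3892, e3 q3893 L63674 q5021, e3 q3894 L44139 q3894, e3 q3895 (flp_e L62911) q4989, e3 q3896 (flp_e L44150) q2941, e3 q3897 (flp_e L605905) q3000, e3 q3898 L626197 q2999, e3 q3899 L44186 q3899, e3 q3900 L626884 q3116, e3 q3901 (flp_e L63159) q4991, e3 q3902 L44332 q3902, e3 q3903 L63979 q5028, trivial⟩ (by decide +kernel)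

theorem ce_e_61 : ∀ r, r < 64 → sm ge (Qf (3904 + r)) = Qf (tab Gen.e (3904 + r)) :=
  edges_tab (sm ge) Qf (tab Gen.e) 3904 [(3904, 4994), (3905, 2948), (3906, 5031), (3907, 4997), (3908, 3908), (3909, 5036), (3910, 3910), (3911, 5001), (3912, 5040), (3913, 3913), (3914, 2954), (3915, 5044), (3916, 5045), (3917, 3917), (3918, 5007), (3919, 2958), (3920, 2959), (3921, 3026), (3922, 3025), (3923, 5049), (3924, 5051), (3925, 2964), (3926, 5053), (3927, 3927), (3928, 2967), (3929, 5056), (3930, 3930), (3931, 5058), (3932, 3932), (3933, 2970), (3934, 5061), (3935, 5062), (3936, 3936), (3937, 2973), (3938, 5066), (3939, 5067), (3940, 5071), (3941, 2976), (3942, 2977), (3943, 5073), (3944, 5074), (3945, 5076), (3946, 3058), (3947, 2982), (3948, 2983), (3949, 3949), (3950, 2984), (3951, 3054), (3952, 5079), (3953, 3953), (3954, 3954), (3955, 3955), (3956, 5087), (3957, 3957), (3958, 3958), (3959, 2988), (3960, 5026), (3961, 5091), (3962, 3962), (3963, 3963), (3964, 3964), (3965, 5095), (3966, 3966), (3967, 5098)]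
    ⟨e3 q3904 (flp_e L63210) q4994, e3 q3905 (flp_e L44362) q2948, e3 q3906 (flp_e L64025) q5031, e3 q3907 (flp_e L63257) q4997, e3 q3908 L44416 q3908, e3 q3909 L64094 q5036, e3 q3910 L44433 q3910, e3 q3911 (flp_e L63291) q5001, e3 q3912 L64139 q5040, e3 q3913 L44458 q3913, e3 q3914 (flp_e L44461) q2954, e3 q3915 (flp_e L64182) q5044, e3 q3916 (flp_e L64188) q5045, e3 q3917 L44486 q3917, e3 q3918 (flp_e L63339) q5007, e3 q3919 L44502 q2958, e3 q3920 L44510 q2959, e3 q3921 L626763 q3026, e3 q3922 (flp_e L625864) q3025, e3 q3923 (flp_e L64254) q5049, e3 q3924 L64590 q5051, e3 q3925 (flp_e L44753) q2964, e3 q3926 (flp_e L64637) q5053, e3 q3927 L44789 q3927, e3 q3928 L44800 q2967, e3 q3929 (flp_e L64690) q5056, e3 q3930 L44846 q3930, e3 q3931 L64762 q5058, e3 q3932 L44865 q3932, e3 q3933 (flp_e L44867) q2970, e3 q3934 (flp_e L64806) q5061, e3 q3935 (flp_e L64814) q5062, e3 q3936 L44909 q3936, e3 q3937 (flp_e L44912) q2973, e3 q3938 (flp_e L64859) q5066, e3 q3939 (flp_e L64867) q5067, e3 q3940 L64903 q5071, e3 q3941 L44954 q2976,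 e3 q3942 L44960 q2977, e3 q3943 (flp_e L64929) q5073, e3 q3944 (flp_e L64936) q5074, e3 q3945 (flp_e L64952) q5076, e3 q3946 (flp_e L624869) q3058, e3 q3947 L45001 q2982, e3 q3948 L45010 q2983, e3 q3949 L45021 q3949, e3 q3950 L45029 q2984, e3 q3951 (flp_e L624128) q3054, e3 q3952 (flp_e L65015) q5079, e3 q3953 L45063 q3953, e3 q3954 L45075 q3954, e3 q3955 L45078 q3955, e3 q3956 L65099 q5087, e3 q3957 L45098 q3957, e3 q3958 L45107 q3958, e3 q3959 (flp_e L45112) q2988, e3 q3960 (flp_e L626234) q5026, e3 q3961 (flp_e L65162) q5091, e3 q3962 L45145 q3962, e3 q3963 L45157 q3963, e3 q3964 L45168 q3964, e3 q3965 L65223 q5095, e3 q3966 L45200 q3966, e3 q3967 L65278 q5098, trivial⟩ (by decide +kernel)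

theorem ce_e_62 : ∀ r, r < 64 → sm ge (Qf (3968 + r)) = Qf (tab Gen.e (3968 + r)) :=
  edges_tab (sm ge) Qf (tab Gen.e) 3968 [(3968, 3968), (3969, 2995), (3970, 5023), (3971, 5022), (3972, 3972), (3973, 5013), (3974, 3974), (3975, 5103), (3976, 3976), (3977, 5106), (3978, 3978), (3979, 3006), (3980, 5109), (3981, 5110), (3982, 3982), (3983, 3010), (3984, 3011), (3985, 5050), (3986, 5113), (3987, 5115), (3988, 5118), (3989, 3015), (3990, 5120), (3991, 3991), (3992, 3017), (3993, 5123), (3994, 5124), (3995, 5128), (3996, 3020), (3997, 3021), (3998, 5047), (3999, 5046), (4000, 3027), (4001, 5032), (4002, 5129), (4003, 3029), (4004, 5131), (4005, 3064), (4006, 3031), (4007, 5134), (4008, 5135), (4009, 3034), (4010, 3035), (4011, 5139), (4012, 5140), (4013, 5081), (4014, 3039), (4015, 3040), (4016, 4016), (4017, 3041), (4018, 5144), (4019, 5146), (4020, 3042), (4021, 5150), (4022, 3044), (4023, 5153), (4024, 4758), (4025, 3047), (4026, 3048), (4027, 5157), (4028, 5158), (4029, 5162), (4030, 3049), (4031, 5077)]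
    ⟨e3 q3968 L45214 q3968, e3 q3969 (flp_e L45218) q2995, e3 q3970 (flp_e L622465) q5023, e3 q3971 (flp_e L623326) q5022, e3 q3972 L45257 q3972, e3 q3973 (flp_e L626123) q5013, e3 q3974 L45311 q3974, e3 q3975 L65446 q5103, e3 q3976 L45342 q3976, e3 q3977 L65501 q5106, e3 q3978 L45358 q3978, e3 q3979 (flp_e L45361) q3006, e3 q3980 (flp_e L65541) q5109, e3 q3981 (flp_e L65549) q5110, e3 q3982 L45400 q3982, e3 q3983 L45411 q3010, e3 q3984 L45419 q3011, e3 q3985 L623066 q5050, e3 q3986 (flp_e L65603) q5113, e3 q3987 (flp_e L65618) q5115, e3 q3988 L65658 q5118, e3 q3989 (flp_e L45472) q3015, e3 q3990 (flp_e L65705) q5120, e3 q3991 L45517 q3991, e3 q3992 (flp_e L45522) q3017, e3 q3993 (flp_e L65756) q5123, e3 q3994 (flp_e L65762) q5124, e3 q3995 L65791 q5128, e3 q3996 L45557 q3020, e3 q3997 L45563 q3021, e3 q3998 L624880 q5047, e3 q3999 L623104 q5046, e3 q4000 L45627 q3027, e3 q4001 (flp_e L626747) q5032, e3 q4002 L65951 q5129, e3 q4003 (flp_e L45675) q3029, e3 q4004 (flp_e L66002) q5131, e3 q4005 L45724 q3064, e3 q4006 (flp_e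 L45730) q3031, e3 q4007 (flp_e L66060) q5134, e3 q4008 (flp_e L66068) q5135, e3 q4009 L45769 q3034, e3 q4010 L45777 q3035, e3 q4011 (flp_e L66126) q5139, e3 q4012 (flp_e L66135) q5140, e3 q4013 (flp_e L626529) q5081, e3 q4014 L45822 q3039, e3 q4015 L45831 q3040, e3 q4016 L45841 q4016, e3 q4017 L45848 q3041, e3 q4018 (flp_e L66196) q5144, e3 q4019 (flp_e L66214) q5146, e3 q4020 (flp_e L45886) q3042, e3 q4021 (flp_e L66299) q5150, e3 q4022 L45932 q3044, e3 q4023 (flp_e L66378) q5153, e3 q4024 (flp_e L60119) q4758, e3 q4025 L45985 q3047, e3 q4026 L45991 q3048, e3 q4027 (flp_e L66445) q5157, e3 q4028 (flp_e L66452) q5158, e3 q4029 L66488 q5162, e3 q4030 (flp_e L46020) q3049, e3 q4031 L624783 q5077, trivial⟩ (by decide +kernel)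

theorem ce_e_63 : ∀ r, r < 64 → sm ge (Qf (4032 + r)) = Qf (tab Gen.e (4032 + r)) :=
  edges_tab (sm ge) Qf (tab Gen.e) 4032 [(4032, 3052), (4033, 3053), (4034, 5072), (4035, 3059), (4036, 5055), (4037, 3060), (4038, 5165), (4039, 3062), (4040, 3063), (4041, 5168), (4042, 5169), (4043, 4784), (4044, 3066), (4045, 3067), (4046, 5175), (4047, 5176), (4048, 4048), (4049, 3070), (4050, 3071), (4051, 4051), (4052, 5181), (4053, 4053), (4054, 4054), (4055, 3076), (4056, 4056), (4057, 4057), (4058, 3077), (4059, 5190), (4060, 4800), (4061, 3079), (4062, 5195), (4063, 4063), (4064, 3081), (4065, 4808), (4066, 4809), (4067, 4067), (4068, 3084), (4069, 4069), (4070, 5202), (4071, 3089), (4072, 5204), (4073, 4073), (4074, 3091), (4075, 5207), (4076, 5208), (4077, 5212), (4078, 3094), (4079, 3095), (4080, 5006), (4081, 4987), (4082, 3101), (4083, 4981), (4084, 3102), (4085, 5214), (4086, 3104), (4087, 5216), (4088, 4867), (4089, 3107), (4090, 3108), (4091, 5219), (4092, 5220), (4093, 5224), (4094, 3109), (4095, 3112)]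
    ⟨e3 q4032 L46046 q3052, e3 q4033 L46053 q3053, e3 q4034 (flp_e L604361) q5072, e3 q4035 L46115 q3059, e3 q4036 (flp_e L624813) q5055, e3 q4037 (flp_e L46149) q3060, e3 q4038 (flp_e L66654) q5165, e3 q4039 L46192 q3062, e3 q4040 L46202 q3063, e3 q4041 (flp_e L66723) q5168, e3 q4042 (flp_e L66734) q5169, e3 q4043 (flp_e L60414) q4784, e3 q4044 L46242 q3066, e3 q4045 L46251 q3067, e3 q4046 (flp_e L66787) q5175, e3 q4047 (flp_e L66797) q5176, e3 q4048 L46296 q4048, e3 q4049 L46302 q3070, e3 q4050 L46311 q3071, e3 q4051 L46323 q4051, e3 q4052 (flp_e L66861) q5181, e3 q4053 L46339 q4053, e3 q4054 L46349 q4054, e3 q4055 L46359 q3076, e3 q4056 L46372 q4056, e3 q4057 L46377 q4057, e3 q4058 (flp_e L46382) q3077, e3 q4059 (flp_e L66949) q5190, e3 q4060 (flp_e L60651) q4800, e3 q4061 L46413 q3079, e3 q4062 (flp_e L66990) q5195, e3 q4063 L46432 q4063, e3 q4064 L46440 q3081, e3 q4065 (flp_e L60765) q4808, e3 q4066 (flp_e L60770) q4809, e3 q4067 L46461 q4067, e3 q4068 L46468 q3084, e3 q4069 L46476 q4069, e3 q4070 L67067 q5202, e3 q4071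 (flp_e L46520) q3089, e3 q4072 (flp_e L67122) q5204, e3 q4073 L46570 q4073, e3 q4074 (flp_e L46575) q3091, e3 q4075 (flp_e L67183) q5207, e3 q4076 (flp_e L67191) q5208, e3 q4077 L67231 q5212, e3 q4078 L46623 q3094, e3 q4079 L46630 q3095, e3 q4080 L625298 q5006, e3 q4081 (flp_e L625458) q4987, e3 q4082 L46706 q3101, e3 q4083 (flp_e L626963) q4981, e3 q4084 (flp_e L46751) q3102, e3 q4085 (flp_e L67453) q5214, e3 q4086 L46801 q3104, e3 q4087 (flp_e L67524) q5216, e3 q4088 (flp_e L61316) q4867, e3 q4089 L46857 q3107, e3 q4090 L46866 q3108, e3 q4091 (flp_e L67599) q5219, e3 q4092 (flp_e L67608) q5220, e3 q4093 L67654 q5224, e3 q4094 (flp_e L46900) q3109, e3 q4095 L46919 q3112, trivial⟩ (by decide +kernel)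

theorem ce_e_64 : ∀ r, r < 64 → sm ge (Qf (4096 + r)) = Qf (tab Gen.e (4096 + r)) :=
  edges_tab (sm ge) Qf (tab Gen.e) 4096 [(4096, 3113), (4097, 5025), (4098, 5005), (4099, 3119), (4100, 5014), (4101, 4996), (4102, 4102), (4103, 4103), (4104, 5229), (4105, 3124), (4106, 5230), (4107, 3128), (4108, 5233), (4109, 3130), (4110, 4110), (4111, 3132), (4112, 3133), (4113, 5238), (4114, 5241), (4115, 3134), (4116, 4116), (4117, 3137), (4118, 4118), (4119, 3142), (4120, 4120), (4121, 4121), (4122, 4122), (4123, 5249), (4124, 3146), (4125, 5250), (4126, 4126), (4127, 4127), (4128, 4128), (4129, 4129), (4130, 4130), (4131, 4131), (4132, 5258), (4133, 4133), (4134, 3154), (4135, 5260), (4136, 5261), (4137, 5262), (4138, 3159), (4139, 4139), (4140, 4140), (4141, 4141), (4142, 4142), (4143, 4143), (4144, 4144), (4145, 3194), (4146, 3201), (4147, 3196), (4148, 3197), (4149, 4149), (4150, 5268), (4151, 4151), (4152, 3206), (4153, 3183), (4154, 3214), (4155, 3209), (4156, 4156), (4157, 3187), (4158, 3312), (4159, 5267)]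
    ⟨e3 q4096 L46927 q3113, e3 q4097 L626891 q5025, e3 q4098 (flp_e L625317) q5005, e3 q4099 L46988 q3119, e3 q4100 (flp_e L626858) q5014, e3 q4101 (flp_e L626803) q4996, e3 q4102 L47063 q4102, e3 q4103 L47132 q4103, e3 q4104 L67945 q5229, e3 q4105 (flp_e L47150) q3124, e3 q4106 (flp_e L67963) q5230, e3 q4107 (flp_e L47212) q3128, e3 q4108 (flp_e L68065) q5233, e3 q4109 L47267 q3130, e3 q4110 L47311 q4110, e3 q4111 L47317 q3132, e3 q4112 L47326 q3133, e3 q4113 (flp_e L68212) q5238, e3 q4114 L68251 q5241, e3 q4115 (flp_e L47358) q3134, e3 q4116 L47382 q4116, e3 q4117 L47387 q3137, e3 q4118 L47398 q4118, e3 q4119 L47442 q3142, e3 q4120 L47463 q4120, e3 q4121 L47510 q4121, e3 q4122 L47579 q4122, e3 q4123 L68561 q5249, e3 q4124 (flp_e L47594) q3146, e3 q4125 (flp_e L68578) q5250, e3 q4126 L47632 q4126, e3 q4127 L47646 q4127, e3 q4128 L47656 q4128, e3 q4129 L47662 q4129, e3 q4130 L47720 q4130, e3 q4131 L47741 q4131, e3 q4132 L68790 q5258, e3 q4133 L47761 q4133, e3 q4134 (flp_e L47811) q3154, e3 q4135 (flp_e L68883) q5260, e3 q4136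 (flp_e L68892) q5261, e3 q4137 L68984 q5262, e3 q4138 (flp_e L47899) q3159, e3 q4139 L47936 q4139, e3 q4140 L47965 q4140, e3 q4141 L47973 q4141, e3 q4142 L47978 q4142, e3 q4143 L48045 q4143, e3 q4144 L48189 q4144, e3 q4145 L48229 q3194, e3 q4146 L625754 q3201, e3 q4147 L48282 q3196, e3 q4148 L48290 q3197, e3 q4149 L48332 q4149, e3 q4150 L69722 q5268, e3 q4151 L48578 q4151, e3 q4152 L48630 q3206, e3 q4153 (flp_e L48685) q3183, e3 q4154 L625793 q3214, e3 q4155 L48717 q3209, e3 q4156 L48762 q4156, e3 q4157 (flp_e L48764) q3187, e3 q4158 L627247 q3312, e3 q4159 (flp_e L69492) q5267, trivial⟩ (by decide +kernel)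

theorem ce_e_65 : ∀ r, r < 64 → sm ge (Qf (4160 + r)) = Qf (tab Gen.e (4160 + r)) :=
  edges_tab (sm ge) Qf (tab Gen.e) 4160 [(4160, 3195), (4161, 3199), (4162, 3237), (4163, 3243), (4164, 3208), (4165, 3212), (4166, 3210), (4167, 3252), (4168, 3213), (4169, 3258), (4170, 3225), (4171, 3220), (4172, 4172), (4173, 3222), (4174, 3264), (4175, 3226), (4176, 4176), (4177, 3271), (4178, 5092), (4179, 4179), (4180, 3234), (4181, 3238), (4182, 4182), (4183, 3240), (4184, 5093), (4185, 4185), (4186, 3245), (4187, 5116), (4188, 4188), (4189, 3248), (4190, 3253), (4191, 3255), (4192, 5117), (4193, 3260), (4194, 5143), (4195, 3268), (4196, 3263), (4197, 4197), (4198, 5148), (4199, 3270), (4200, 3273), (4201, 5272), (4202, 4202), (4203, 3275), (4204, 3276), (4205, 5276), (4206, 5277), (4207, 4207), (4208, 3279), (4209, 3280), (4210, 4210), (4211, 5185), (4212, 4212), (4213, 4213), (4214, 3284), (4215, 3285), (4216, 5280), (4217, 4217), (4218, 4218), (4219, 3291), (4220, 4220), (4221, 4221), (4222, 4222), (4223, 3298)]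
    ⟨e3 q4160 (flp_e L49023) q3195, e3 q4161 (flp_e L626219) q3199, e3 q4162 (flp_e L626211) q3237, e3 q4163 L626268 q3243, e3 q4164 L49479 q3208, e3 q4165 L626605 q3212, e3 q4166 (flp_e L49576) q3210, e3 q4167 L626496 q3252, e3 q4168 L49627 q3213, e3 q4169 (flp_e L626579) q3258, e3 q4170 (flp_e L626653) q3225, e3 q4171 L50135 q3220, e3 q4172 L50277 q4172, e3 q4173 L50284 q3222, e3 q4174 (flp_e L626521) q3264, e3 q4175 L50364 q3226, e3 q4176 L50374 q4176, e3 q4177 L626563 q3271, e3 q4178 L626274 q5092, e3 q4179 L50488 q4179, e3 q4180 (flp_e L50510) q3234, e3 q4181 L626246 q3238, e3 q4182 L50554 q4182, e3 q4183 (flp_e L50625) q3240, e3 q4184 L626106 q5093, e3 q4185 L50665 q4185, e3 q4186 (flp_e L50827) q3245, e3 q4187 (flp_e L623032) q5116, e3 q4188 L50867 q4188, e3 q4189 L50915 q3248, e3 q4190 L626540 q3253, e3 q4191 L51062 q3255, e3 q4192 (flp_e L625943) q5117, e3 q4193 L51336 q3260, e3 q4194 L626570 q5143, e3 q4195 (flp_e L626593) q3268, e3 q4196 L51456 q3263, e3 q4197 L51529 q4197, e3 q4198 L624775 q5148, e3 q4199 L51686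 q3270, e3 q4200 (flp_e L51898) q3273, e3 q4201 (flp_e L74989) q5272, e3 q4202 L51942 q4202, e3 q4203 L51949 q3275, e3 q4204 L51959 q3276, e3 q4205 (flp_e L75082) q5276, e3 q4206 (flp_e L75093) q5277, e3 q4207 L52011 q4207, e3 q4208 L52017 q3279, e3 q4209 L52026 q3280, e3 q4210 L52038 q4210, e3 q4211 (flp_e L624505) q5185, e3 q4212 L52054 q4212, e3 q4213 L52070 q4213, e3 q4214 L52077 q3284, e3 q4215 L52087 q3285, e3 q4216 (flp_e L75250) q5280, e3 q4217 L424676 q4217, e3 q4218 L52145 q4218, e3 q4219 L52154 q3291, e3 q4220 L52167 q4220, e3 q4221 L52206 q4221, e3 q4222 L52225 q4222, e3 q4223 L52231 q3298, trivial⟩ (by decide +kernel)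

theorem ce_e_66 : ∀ r, r < 64 → sm ge (Qf (4224 + r)) = Qf (tab Gen.e (4224 + r)) :=
  edges_tab (sm ge) Qf (tab Gen.e) 4224 [(4224, 5285), (4225, 4225), (4226, 4226), (4227, 3301), (4228, 4228), (4229, 3309), (4230, 5227), (4231, 3314), (4232, 4232), (4233, 5286), (4234, 3319), (4235, 4235), (4236, 5289), (4237, 5291), (4238, 3323), (4239, 5294), (4240, 3324), (4241, 4241), (4242, 5299), (4243, 3326), (4244, 5302), (4245, 3327), (4246, 3334), (4247, 5306), (4248, 3329), (4249, 4249), (4250, 3338), (4251, 3339), (4252, 5313), (4253, 3332), (4254, 4254), (4255, 5304), (4256, 5305), (4257, 3335), (4258, 4258), (4259, 5308), (4260, 5326), (4261, 4261), (4262, 5311), (4263, 5312), (4264, 4264), (4265, 4265), (4266, 4266), (4267, 5337), (4268, 4268), (4269, 4269), (4270, 3343), (4271, 5342), (4272, 5343), (4273, 4273), (4274, 4274), (4275, 5348), (4276, 3347), (4277, 5351), (4278, 3348), (4279, 4279), (4280, 5355), (4281, 3350), (4282, 3365), (4283, 5359), (4284, 3352), (4285, 3530), (4286, 3369), (4287, 3370)]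
    ⟨e3 q4224 (flp_e L75448) q5285, e3 q4225 L52249 q4225, e3 q4226 L52265 q4226, e3 q4227 L52273 q3301, e3 q4228 L52281 q4228, e3 q4229 L52403 q3309, e3 q4230 L626829 q5227, e3 q4231 L52781 q3314, e3 q4232 L53378 q4232, e3 q4233 L78565 q5286, e3 q4234 (flp_e L54473) q3319, e3 q4235 L55043 q4235, e3 q4236 L79355 q5289, e3 q4237 L79375 q5291, e3 q4238 (flp_e L55067) q3323, e3 q4239 L79404 q5294, e3 q4240 (flp_e L55085) q3324, e3 q4241 L55101 q4241, e3 q4242 L79449 q5299, e3 q4243 (flp_e L55113) q3326, e3 q4244 L79481 q5302, e3 q4245 (flp_e L55134) q3327, e3 q4246 L55153 q3334, e3 q4247 L79519 q5306, e3 q4248 (flp_e L55166) q3329, e3 q4249 L55180 q4249, e3 q4250 L55189 q3338, e3 q4251 L55195 q3339, e3 q4252 L79580 q5313, e3 q4253 (flp_e L55212) q3332, e3 q4254 L55231 q4254, e3 q4255 (flp_e L79508) q5304, e3 q4256 (flp_e L79514) q5305, e3 q4257 (flp_e L55251) q3335, e3 q4258 L55269 q4258, e3 q4259 (flp_e L79544) q5308, e3 q4260 L79702 q5326, e3 q4261 L55289 q4261, e3 q4262 (flp_e L79564) q5311, e3 q4263 (flp_e L79574) q5312,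 e3 q4264 L55321 q4264, e3 q4265 L55332 q4265, e3 q4266 L55335 q4266, e3 q4267 L79796 q5337, e3 q4268 L55352 q4268, e3 q4269 L55361 q4269, e3 q4270 (flp_e L55365) q3343, e3 q4271 (flp_e L79844) q5342, e3 q4272 (flp_e L79851) q5343, e3 q4273 L55395 q4273, e3 q4274 L55403 q4274, e3 q4275 L79893 q5348, e3 q4276 (flp_e L55420) q3347, e3 q4277 L79924 q5351, e3 q4278 (flp_e L55440) q3348, e3 q4279 L55454 q4279, e3 q4280 L79969 q5355, e3 q4281 (flp_e L55467) q3350, e3 q4282 L55487 q3365, e3 q4283 L80011 q5359, e3 q4284 (flp_e L55499) q3352, e3 q4285 L55512 q3530, e3 q4286 L55521 q3369, e3 q4287 L55528 q3370, trivial⟩ (by decide +kernel)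

theorem ce_e_67 : ∀ r, r < 64 → sm ge (Qf (4288 + r)) = Qf (tab Gen.e (4288 + r)) :=
  edges_tab (sm ge) Qf (tab Gen.e) 4288 [(4288, 3355), (4289, 3538), (4290, 3373), (4291, 3374), (4292, 3358), (4293, 3542), (4294, 3377), (4295, 5378), (4296, 3545), (4297, 3380), (4298, 3381), (4299, 3363), (4300, 3551), (4301, 5357), (4302, 5358), (4303, 3366), (4304, 3555), (4305, 5361), (4306, 5395), (4307, 3558), (4308, 5364), (4309, 5365), (4310, 3564), (4311, 5367), (4312, 5404), (4313, 3567), (4314, 5370), (4315, 5371), (4316, 3570), (4317, 5373), (4318, 3572), (4319, 5415), (4320, 3574), (4321, 5377), (4322, 3378), (4323, 5420), (4324, 5421), (4325, 3579), (4326, 5382), (4327, 3585), (4328, 5427), (4329, 3587), (4330, 4330), (4331, 3384), (4332, 5432), (4333, 5433), (4334, 3592), (4335, 4335), (4336, 3594), (4337, 5440), (4338, 3596), (4339, 4339), (4340, 5445), (4341, 3599), (4342, 3391), (4343, 5450), (4344, 5451), (4345, 3603), (4346, 4346), (4347, 3395), (4348, 3396), (4349, 5456), (4350, 5457), (4351, 5459)]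
    ⟨e3 q4288 (flp_e L55542) q3355, e3 q4289 L55558 q3538, e3 q4290 L55568 q3373, e3 q4291 L55575 q3374, e3 q4292 (flp_e L55581) q3358, e3 q4293 L55593 q3542, e3 q4294 L55600 q3377, e3 q4295 L80179 q5378, e3 q4296 L55612 q3545, e3 q4297 L55620 q3380, e3 q4298 L55628 q3381, e3 q4299 (flp_e L55643) q3363, e3 q4300 L55664 q3551, e3 q4301 (flp_e L79999) q5357, e3 q4302 (flp_e L80006) q5358, e3 q4303 (flp_e L55686) q3366, e3 q4304 L55702 q3555, e3 q4305 (flp_e L80034) q5361, e3 q4306 L80342 q5395, e3 q4307 L55725 q3558, e3 q4308 (flp_e L80057) q5364, e3 q4309 (flp_e L80064) q5365, e3 q4310 L55764 q3564, e3 q4311 (flp_e L80095) q5367, e3 q4312 L80444 q5404, e3 q4313 L55788 q3567, e3 q4314 (flp_e L80118) q5370, e3 q4315 (flp_e L80129) q5371, e3 q4316 L55821 q3570, e3 q4317 (flp_e L80149) q5373, e3 q4318 L55831 q3572, e3 q4319 L80544 q5415, e3 q4320 L55848 q3574, e3 q4321 (flp_e L80176) q5377, e3 q4322 (flp_e L55859) q3378, e3 q4323 (flp_e L80584) q5420, e3 q4324 (flp_e L80591) q5421, e3 q4325 L55887 q3579, e3 q4326 (flp_e L80212)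 q5382, e3 q4327 L55921 q3585, e3 q4328 L80678 q5427, e3 q4329 L55942 q3587, e3 q4330 L55951 q4330, e3 q4331 (flp_e L55955) q3384, e3 q4332 (flp_e L80730) q5432, e3 q4333 (flp_e L80739) q5433, e3 q4334 L55990 q3592, e3 q4335 L56000 q4335, e3 q4336 L56009 q3594, e3 q4337 L80799 q5440, e3 q4338 L56026 q3596, e3 q4339 L56035 q4339, e3 q4340 L80839 q5445, e3 q4341 L56050 q3599, e3 q4342 (flp_e L56053) q3391, e3 q4343 (flp_e L80884) q5450, e3 q4344 (flp_e L80890) q5451, e3 q4345 L56078 q3603, e3 q4346 L56086 q4346, e3 q4347 L56094 q3395, e3 q4348 L56101 q3396, e3 q4349 (flp_e L80929) q5456, e3 q4350 (flp_e L80937) q5457, e3 q4351 (flp_e L80953) q5459, trivial⟩ (by decide +kernel)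

theorem ce_e_68 : ∀ r, r < 64 → sm ge (Qf (4352 + r)) = Qf (tab Gen.e (4352 + r)) :=
  edges_tab (sm ge) Qf (tab Gen.e) 4352 [(4352, 5462), (4353, 3399), (4354, 4354), (4355, 4355), (4356, 4356), (4357, 3402), (4358, 3611), (4359, 4359), (4360, 5475), (4361, 3614), (4362, 4362), (4363, 4363), (4364, 3617), (4365, 4365), (4366, 3619), (4367, 5486), (4368, 3621), (4369, 4369), (4370, 3410), (4371, 5491), (4372, 5492), (4373, 3626), (4374, 4374), (4375, 3414), (4376, 4376), (4377, 4377), (4378, 5502), (4379, 4379), (4380, 4380), (4381, 4381), (4382, 3628), (4383, 4383), (4384, 3630), (4385, 5513), (4386, 3632), (4387, 4387), (4388, 3422), (4389, 5518), (4390, 5519), (4391, 3637), (4392, 4392), (4393, 3639), (4394, 5526), (4395, 3641), (4396, 4396), (4397, 5531), (4398, 3644), (4399, 3429), (4400, 5536), (4401, 5537), (4402, 3648), (4403, 4403), (4404, 3433), (4405, 3434), (4406, 5542), (4407, 5543), (4408, 5545), (4409, 4409), (4410, 3475), (4411, 4411), (4412, 5554), (4413, 4413), (4414, 3477), (4415, 3440)]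
    ⟨e3 q4352 L80973 q5462, e3 q4353 (flp_e L56141) q3399, e3 q4354 L56160 q4354, e3 q4355 L56171 q4355, e3 q4356 L56177 q4356, e3 q4357 (flp_e L56182) q3402, e3 q4358 L56202 q3611, e3 q4359 L56213 q4359, e3 q4360 L81107 q5475, e3 q4361 L56226 q3614, e3 q4362 L56236 q4362, e3 q4363 L56244 q4363, e3 q4364 L56258 q3617, e3 q4365 L56269 q4365, e3 q4366 L56272 q3619, e3 q4367 L81208 q5486, e3 q4368 L56290 q3621, e3 q4369 L56301 q4369, e3 q4370 (flp_e L56304) q3410, e3 q4371 (flp_e L81257) q5491, e3 q4372 (flp_e L81262) q5492, e3 q4373 L56330 q3626, e3 q4374 L56340 q4374, e3 q4375 (flp_e L56345) q3414, e3 q4376 L56363 q4376, e3 q4377 L56372 q4377, e3 q4378 L81345 q5502, e3 q4379 L56384 q4379, e3 q4380 L56394 q4380, e3 q4381 L56405 q4381, e3 q4382 L56420 q3628, e3 q4383 L56430 q4383, e3 q4384 L56433 q3630, e3 q4385 L81445 q5513, e3 q4386 L56452 q3632, e3 q4387 L56461 q4387, e3 q4388 (flp_e L56466) q3422, e3 q4389 (flp_e L81494) q5518, e3 q4390 (flp_e L81501) q5519, e3 q4391 L56491 q3637, e3 q4392 L56502 q4392, e3 q4393 L56511 q3639,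 e3 q4394 L81553 q5526, e3 q4395 L56528 q3641, e3 q4396 L56539 q4396, e3 q4397 L81598 q5531, e3 q4398 L56552 q3644, e3 q4399 (flp_e L56556) q3429, e3 q4400 (flp_e L81636) q5536, e3 q4401 (flp_e L81642) q5537, e3 q4402 L56583 q3648, e3 q4403 L56592 q4403, e3 q4404 L56600 q3433, e3 q4405 L56605 q3434, e3 q4406 (flp_e L81682) q5542, e3 q4407 (flp_e L81687) q5543, e3 q4408 (flp_e L81701) q5545, e3 q4409 L56637 q4409, e3 q4410 L56648 q3475, e3 q4411 L56652 q4411, e3 q4412 L81773 q5554, e3 q4413 L56669 q4413, e3 q4414 L56678 q3477, e3 q4415 (flp_e L56683) q3440, trivial⟩ (by decide +kernel)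

theorem ce_e_69 : ∀ r, r < 64 → sm ge (Qf (4416 + r)) = Qf (tab Gen.e (4416 + r)) :=
  edges_tab (sm ge) Qf (tab Gen.e) 4416 [(4416, 5559), (4417, 5560), (4418, 4418), (4419, 3481), (4420, 3655), (4421, 5567), (4422, 3657), (4423, 3483), (4424, 5572), (4425, 3660), (4426, 3447), (4427, 5577), (4428, 5578), (4429, 3664), (4430, 3488), (4431, 3451), (4432, 3452), (4433, 5583), (4434, 5584), (4435, 5586), (4436, 3671), (4437, 5591), (4438, 3673), (4439, 3456), (4440, 5596), (4441, 5597), (4442, 3677), (4443, 3498), (4444, 3459), (4445, 5602), (4446, 5603), (4447, 5608), (4448, 3683), (4449, 3462), (4450, 3463), (4451, 5611), (4452, 5612), (4453, 5614), (4454, 5541), (4455, 3468), (4456, 3469), (4457, 4457), (4458, 3470), (4459, 5619), (4460, 5621), (4461, 4461), (4462, 3472), (4463, 5626), (4464, 4464), (4465, 5551), (4466, 3476), (4467, 5629), (4468, 5558), (4469, 3479), (4470, 3480), (4471, 5632), (4472, 5633), (4473, 3482), (4474, 5636), (4475, 5571), (4476, 3484), (4477, 5639), (4478, 3486), (4479, 3487)]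
    ⟨e3 q4416 (flp_e L81824) q5559, e3 q4417 (flp_e L81831) q5560, e3 q4418 L56714 q4418, e3 q4419 L56722 q3481, e3 q4420 L56732 q3655, e3 q4421 L81889 q5567, e3 q4422 L56753 q3657, e3 q4423 L56762 q3483, e3 q4424 L81939 q5572, e3 q4425 L56778 q3660, e3 q4426 (flp_e L56781) q3447, e3 q4427 (flp_e L81981) q5577, e3 q4428 (flp_e L81989) q5578, e3 q4429 L56811 q3664, e3 q4430 L56821 q3488, e3 q4431 L56831 q3451, e3 q4432 L56838 q3452, e3 q4433 (flp_e L82032) q5583, e3 q4434 (flp_e L82040) q5584, e3 q4435 (flp_e L82055) q5586, e3 q4436 L56867 q3671, e3 q4437 L82090 q5591, e3 q4438 L56885 q3673, e3 q4439 (flp_e L56888) q3456, e3 q4440 (flp_e L82138) q5596, e3 q4441 (flp_e L82145) q5597, e3 q4442 L56920 q3677, e3 q4443 L56929 q3498, e3 q4444 (flp_e L56933) q3459, e3 q4445 (flp_e L82187) q5602, e3 q4446 (flp_e L82193) q5603, e3 q4447 L82224 q5608, e3 q4448 L56961 q3683, e3 q4449 L56970 q3462, e3 q4450 L56976 q3463, e3 q4451 (flp_e L82251) q5611, e3 q4452 (flp_e L82258) q5612, e3 q4453 (flp_e L82276) q5614, e3 q4454 (flp_e L81674)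 q5541, e3 q4455 L57015 q3468, e3 q4456 L57021 q3469, e3 q4457 L57031 q4457, e3 q4458 L57037 q3470, e3 q4459 (flp_e L82313) q5619, e3 q4460 (flp_e L82329) q5621, e3 q4461 L57104 q4461, e3 q4462 (flp_e L57108) q3472, e3 q4463 (flp_e L82462) q5626, e3 q4464 L57150 q4464, e3 q4465 (flp_e L81753) q5551, e3 q4466 (flp_e L57207) q3476, e3 q4467 (flp_e L82618) q5629, e3 q4468 (flp_e L81812) q5558, e3 q4469 L57254 q3479, e3 q4470 L57260 q3480, e3 q4471 (flp_e L82666) q5632, e3 q4472 (flp_e L82673) q5633, e3 q4473 (flp_e L57320) q3482, e3 q4474 (flp_e L82784) q5636, e3 q4475 (flp_e L81934) q5571, e3 q4476 (flp_e L57369) q3484, e3 q4477 (flp_e L82841) q5639, e3 q4478 L57417 q3486, e3 q4479 L57425 q3487, trivial⟩ (by decide +kernel)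

theorem ce_e_70 : ∀ r, r < 64 → sm ge (Qf (4480 + r)) = Qf (tab Gen.e (4480 + r)) :=
  edges_tab (sm ge) Qf (tab Gen.e) 4480 [(4480, 5642), (4481, 5643), (4482, 4482), (4483, 3491), (4484, 3492), (4485, 5634), (4486, 3493), (4487, 5648), (4488, 5650), (4489, 3494), (4490, 5655), (4491, 3496), (4492, 3497), (4493, 5658), (4494, 5659), (4495, 4495), (4496, 3500), (4497, 3501), (4498, 5665), (4499, 5666), (4500, 4500), (4501, 3504), (4502, 3505), (4503, 4503), (4504, 3506), (4505, 5671), (4506, 5673), (4507, 4507), (4508, 4508), (4509, 3512), (4510, 4510), (4511, 3513), (4512, 4512), (4513, 4513), (4514, 5682), (4515, 4515), (4516, 5690), (4517, 5691), (4518, 3516), (4519, 5693), (4520, 3517), (4521, 4521), (4522, 5697), (4523, 3519), (4524, 5352), (4525, 4525), (4526, 4526), (4527, 5703), (4528, 3522), (4529, 3523), (4530, 3549), (4531, 3525), (4532, 5356), (4533, 3552), (4534, 3553), (4535, 3528), (4536, 5360), (4537, 3556), (4538, 5720), (4539, 5363), (4540, 3559), (4541, 3560), (4542, 3533), (4543, 4543)]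
    ⟨e3 q4480 (flp_e L82918) q5642, e3 q4481 (flp_e L82927) q5643, e3 q4482 L57462 q4482, e3 q4483 L57469 q3491, e3 q4484 L57478 q3492, e3 q4485 (flp_e L82682) q5634, e3 q4486 L57492 q3493, e3 q4487 (flp_e L82988) q5648, e3 q4488 (flp_e L83002) q5650, e3 q4489 (flp_e L57534) q3494, e3 q4490 (flp_e L83092) q5655, e3 q4491 L57584 q3496, e3 q4492 L57591 q3497, e3 q4493 (flp_e L83164) q5658, e3 q4494 (flp_e L83172) q5659, e3 q4495 L57629 q4495, e3 q4496 L57635 q3500, e3 q4497 L57642 q3501, e3 q4498 (flp_e L83240) q5665, e3 q4499 (flp_e L83248) q5666, e3 q4500 L57692 q4500, e3 q4501 L57699 q3504, e3 q4502 L57706 q3505, e3 q4503 L57717 q4503, e3 q4504 L57722 q3506, e3 q4505 (flp_e L83337) q5671, e3 q4506 (flp_e L83353) q5673, e3 q4507 L57748 q4507, e3 q4508 L57755 q4508, e3 q4509 L57764 q3512, e3 q4510 L57774 q4510, e3 q4511 L57779 q3513, e3 q4512 L57786 q4512, e3 q4513 L57796 q4513, e3 q4514 (flp_e L83426) q5682, e3 q4515 L57815 q4515, e3 q4516 L83490 q5690, e3 q4517 L83514 q5691, e3 q4518 (flp_e L57842) q3516, e3 q4519 L83546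 q5693, e3 q4520 (flp_e L57863) q3517, e3 q4521 L57882 q4521, e3 q4522 L83586 q5697, e3 q4523 (flp_e L57893) q3519, e3 q4524 (flp_e L79939) q5352, e3 q4525 L57917 q4525, e3 q4526 L57924 q4526, e3 q4527 L83658 q5703, e3 q4528 (flp_e L57937) q3522, e3 q4529 (flp_e L57960) q3523, e3 q4530 L57980 q3549, e3 q4531 (flp_e L57993) q3525, e3 q4532 (flp_e L79987) q5356, e3 q4533 L58020 q3552, e3 q4534 L58028 q3553, e3 q4535 (flp_e L58032) q3528, e3 q4536 (flp_e L80025) q5360, e3 q4537 L58057 q3556, e3 q4538 L83850 q5720, e3 q4539 (flp_e L80048) q5363, e3 q4540 L58079 q3559, e3 q4541 L58088 q3560, e3 q4542 (flp_e L58102) q3533, e3 q4543 L58119 q4543, trivial⟩ (by decide +kernel)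

theorem ce_e_71 : ∀ r, r < 64 → sm ge (Qf (4544 + r)) = Qf (tab Gen.e (4544 + r)) :=
  edges_tab (sm ge) Qf (tab Gen.e) 4544 [(4544, 4544), (4545, 3562), (4546, 3563), (4547, 5366), (4548, 3565), (4549, 5736), (4550, 5369), (4551, 3568), (4552, 3569), (4553, 5372), (4554, 3571), (4555, 5374), (4556, 5744), (4557, 5376), (4558, 3575), (4559, 3544), (4560, 5749), (4561, 5750), (4562, 5381), (4563, 3580), (4564, 4564), (4565, 5706), (4566, 5707), (4567, 5383), (4568, 5709), (4569, 5762), (4570, 5386), (4571, 5712), (4572, 5713), (4573, 5389), (4574, 5715), (4575, 5391), (4576, 5773), (4577, 5393), (4578, 5719), (4579, 3557), (4580, 5778), (4581, 5779), (4582, 5398), (4583, 5724), (4584, 5783), (4585, 4585), (4586, 5730), (4587, 5731), (4588, 5400), (4589, 5790), (4590, 5402), (4591, 5735), (4592, 3566), (4593, 5795), (4594, 5796), (4595, 5407), (4596, 5740), (4597, 5409), (4598, 5803), (4599, 5411), (4600, 5742), (4601, 5808), (4602, 5414), (4603, 3573), (4604, 5813), (4605, 5814), (4606, 5418), (4607, 5748)]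
    ⟨e3 q4544 L58147 q4544, e3 q4545 L58156 q3562, e3 q4546 L58163 q3563, e3 q4547 (flp_e L80085) q5366, e3 q4548 L58194 q3565, e3 q4549 L84051 q5736, e3 q4550 (flp_e L80109) q5369, e3 q4551 L58214 q3568, e3 q4552 L58225 q3569, e3 q4553 (flp_e L80141) q5372, e3 q4554 L58244 q3571, e3 q4555 (flp_e L80153) q5374, e3 q4556 L84136 q5744, e3 q4557 (flp_e L80168) q5376, e3 q4558 L58270 q3575, e3 q4559 (flp_e L58274) q3544, e3 q4560 (flp_e L84178) q5749, e3 q4561 (flp_e L84184) q5750, e3 q4562 (flp_e L80204) q5381, e3 q4563 L58305 q3580, e3 q4564 L58341 q4564, e3 q4565 (flp_e L83720) q5706, e3 q4566 (flp_e L83727) q5707, e3 q4567 (flp_e L80236) q5383, e3 q4568 (flp_e L83761) q5709, e3 q4569 L84339 q5762, e3 q4570 (flp_e L80264) q5386, e3 q4571 (flp_e L83784) q5712, e3 q4572 (flp_e L83794) q5713, e3 q4573 (flp_e L80299) q5389, e3 q4574 (flp_e L83817) q5715, e3 q4575 (flp_e L80311) q5391, e3 q4576 L84442 q5773, e3 q4577 (flp_e L80331) q5393, e3 q4578 (flp_e L83847) q5719, e3 q4579 (flp_e L58483) q3557, e3 q4580 (flp_e L84487) q5778,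 e3 q4581 (flp_e L84494) q5779, e3 q4582 (flp_e L80373) q5398, e3 q4583 (flp_e L83885) q5724, e3 q4584 L84582 q5783, e3 q4585 L58566 q4585, e3 q4586 (flp_e L83983) q5730, e3 q4587 (flp_e L83994) q5731, e3 q4588 (flp_e L80408) q5400, e3 q4589 L84680 q5790, e3 q4590 (flp_e L80429) q5402, e3 q4591 (flp_e L84046) q5735, e3 q4592 (flp_e L58644) q3566, e3 q4593 (flp_e L84725) q5795, e3 q4594 (flp_e L84734) q5796, e3 q4595 (flp_e L80478) q5407, e3 q4596 (flp_e L84086) q5740, e3 q4597 (flp_e L80498) q5409, e3 q4598 L84790 q5803, e3 q4599 (flp_e L80515) q5411, e3 q4600 (flp_e L84119) q5742, e3 q4601 L84830 q5808, e3 q4602 (flp_e L80540) q5414, e3 q4603 (flp_e L58736) q3573, e3 q4604 (flp_e L84875) q5813, e3 q4605 (flp_e L84881) q5814, e3 q4606 (flp_e L80568) q5418, e3 q4607 (flp_e L84168) q5748, trivial⟩ (by decide +kernel)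

theorem ce_e_72 : ∀ r, r < 64 → sm ge (Qf (4608 + r)) = Qf (tab Gen.e (4608 + r)) :=
  edges_tab (sm ge) Qf (tab Gen.e) 4608 [(4608, 3577), (4609, 3578), (4610, 5819), (4611, 5820), (4612, 5822), (4613, 3581), (4614, 5825), (4615, 5826), (4616, 4616), (4617, 4617), (4618, 5830), (4619, 5426), (4620, 3586), (4621, 5834), (4622, 5835), (4623, 5430), (4624, 4624), (4625, 3590), (4626, 3591), (4627, 5840), (4628, 5841), (4629, 5843), (4630, 5437), (4631, 5848), (4632, 5439), (4633, 3595), (4634, 5853), (4635, 5854), (4636, 5443), (4637, 4637), (4638, 3598), (4639, 5859), (4640, 5860), (4641, 5865), (4642, 5449), (4643, 3601), (4644, 3602), (4645, 5868), (4646, 5869), (4647, 5871), (4648, 5818), (4649, 3607), (4650, 3608), (4651, 4651), (4652, 3609), (4653, 5876), (4654, 5878), (4655, 5469), (4656, 4656), (4657, 5471), (4658, 5888), (4659, 5473), (4660, 4660), (4661, 3613), (4662, 5893), (4663, 5894), (4664, 5478), (4665, 4665), (4666, 5480), (4667, 5901), (4668, 5482), (4669, 4669), (4670, 5906), (4671, 5485)]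
    ⟨e3 q4608 L58776 q3577, e3 q4609 L58783 q3578, e3 q4610 (flp_e L84919) q5819, e3 q4611 (flp_e L84926) q5820, e3 q4612 (flp_e L84939) q5822, e3 q4613 (flp_e L58866) q3581, e3 q4614 (flp_e L85064) q5825, e3 q4615 (flp_e L85071) q5826, e3 q4616 L58896 q4616, e3 q4617 L58904 q4617, e3 q4618 L85174 q5830, e3 q4619 (flp_e L80675) q5426, e3 q4620 (flp_e L58962) q3586, e3 q4621 (flp_e L85223) q5834, e3 q4622 (flp_e L85231) q5835, e3 q4623 (flp_e L80709) q5430, e3 q4624 L58998 q4624, e3 q4625 L59008 q3590, e3 q4626 L59017 q3591, e3 q4627 (flp_e L85272) q5840, e3 q4628 (flp_e L85282) q5841, e3 q4629 (flp_e L85296) q5843, e3 q4630 (flp_e L80776) q5437, e3 q4631 L85336 q5848, e3 q4632 (flp_e L80796) q5439, e3 q4633 (flp_e L59071) q3595, e3 q4634 (flp_e L85381) q5853, e3 q4635 (flp_e L85388) q5854, e3 q4636 (flp_e L80828) q5443, e3 q4637 L59108 q4637, e3 q4638 (flp_e L59111) q3598, e3 q4639 (flp_e L85430) q5859, e3 q4640 (flp_e L85438) q5860, e3 q4641 L85477 q5865, e3 q4642 (flp_e L80876) q5449, e3 q4643 L59155 q3601, e3 q4644 L59161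 q3602, e3 q4645 (flp_e L85503) q5868, e3 q4646 (flp_e L85510) q5869, e3 q4647 (flp_e L85525) q5871, e3 q4648 (flp_e L84912) q5818, e3 q4649 L59198 q3607, e3 q4650 L59206 q3608, e3 q4651 L59214 q4651, e3 q4652 L59221 q3609, e3 q4653 (flp_e L85563) q5876, e3 q4654 (flp_e L85580) q5878, e3 q4655 (flp_e L81056) q5469, e3 q4656 L59263 q4656, e3 q4657 (flp_e L81071) q5471, e3 q4658 L85668 q5888, e3 q4659 (flp_e L81093) q5473, e3 q4660 L59297 q4660, e3 q4661 (flp_e L59302) q3613, e3 q4662 (flp_e L85722) q5893, e3 q4663 (flp_e L85729) q5894, e3 q4664 (flp_e L81135) q5478, e3 q4665 L59340 q4665, e3 q4666 (flp_e L81157) q5480, e3 q4667 L85787 q5901, e3 q4668 (flp_e L81177) q5482, e3 q4669 L59382 q4669, e3 q4670 L85837 q5906, e3 q4671 (flp_e L81203) q5485, trivial⟩ (by decide +kernel)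

theorem ce_e_73 : ∀ r, r < 64 → sm ge (Qf (4672 + r)) = Qf (tab Gen.e (4672 + r)) :=
  edges_tab (sm ge) Qf (tab Gen.e) 4672 [(4672, 3620), (4673, 5911), (4674, 5912), (4675, 5489), (4676, 4676), (4677, 3624), (4678, 3625), (4679, 5917), (4680, 5918), (4681, 5920), (4682, 5507), (4683, 5926), (4684, 5509), (4685, 4685), (4686, 5931), (4687, 5512), (4688, 3631), (4689, 5936), (4690, 5937), (4691, 5516), (4692, 4692), (4693, 3635), (4694, 3636), (4695, 5942), (4696, 5943), (4697, 5945), (4698, 5523), (4699, 5949), (4700, 5525), (4701, 3640), (4702, 5953), (4703, 5954), (4704, 5529), (4705, 4705), (4706, 3643), (4707, 5959), (4708, 5960), (4709, 5965), (4710, 5535), (4711, 3646), (4712, 3647), (4713, 5968), (4714, 5969), (4715, 5971), (4716, 3689), (4717, 3652), (4718, 3653), (4719, 3774), (4720, 3654), (4721, 5976), (4722, 5978), (4723, 5564), (4724, 5983), (4725, 5566), (4726, 3656), (4727, 5987), (4728, 5988), (4729, 5570), (4730, 3698), (4731, 3659), (4732, 5993), (4733, 5994), (4734, 5590), (4735, 5576)]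
    ⟨e3 q4672 (flp_e L59401) q3620, e3 q4673 (flp_e L85879) q5911, e3 q4674 (flp_e L85885) q5912, e3 q4675 (flp_e L81238) q5489, e3 q4676 L59440 q4676, e3 q4677 L59450 q3624, e3 q4678 L59455 q3625, e3 q4679 (flp_e L85926) q5917, e3 q4680 (flp_e L85933) q5918, e3 q4681 (flp_e L85948) q5920, e3 q4682 (flp_e L81394) q5507, e3 q4683 L85997 q5926, e3 q4684 (flp_e L81415) q5509, e3 q4685 L59518 q4685, e3 q4686 L86047 q5931, e3 q4687 (flp_e L81441) q5512, e3 q4688 (flp_e L59538) q3631, e3 q4689 (flp_e L86089) q5936, e3 q4690 (flp_e L86097) q5937, e3 q4691 (flp_e L81474) q5516, e3 q4692 L59577 q4692, e3 q4693 L59587 q3635, e3 q4694 L59594 q3636, e3 q4695 (flp_e L86139) q5942, e3 q4696 (flp_e L86146) q5943, e3 q4697 (flp_e L86158) q5945, e3 q4698 (flp_e L81531) q5523, e3 q4699 L86194 q5949, e3 q4700 (flp_e L81549) q5525, e3 q4701 (flp_e L59644) q3640, e3 q4702 (flp_e L86242) q5953, e3 q4703 (flp_e L86249) q5954, e3 q4704 (flp_e L81584) q5529, e3 q4705 L59684 q4705, e3 q4706 (flp_e L59689) q3643, e3 q4707 (flp_e L86289) q5959, e3 q4708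 (flp_e L86295) q5960, e3 q4709 L86327 q5965, e3 q4710 (flp_e L81627) q5535, e3 q4711 L59726 q3646, e3 q4712 L59732 q3647, e3 q4713 (flp_e L86355) q5968, e3 q4714 (flp_e L86361) q5969, e3 q4715 (flp_e L86376) q5971, e3 q4716 L59764 q3689, e3 q4717 L59770 q3652, e3 q4718 L59775 q3653, e3 q4719 L59782 q3774, e3 q4720 L59788 q3654, e3 q4721 (flp_e L86416) q5976, e3 q4722 (flp_e L86431) q5978, e3 q4723 (flp_e L81864) q5564, e3 q4724 L86473 q5983, e3 q4725 (flp_e L81886) q5566, e3 q4726 (flp_e L59834) q3656, e3 q4727 (flp_e L86525) q5987, e3 q4728 (flp_e L86534) q5988, e3 q4729 (flp_e L81923) q5570, e3 q4730 L59878 q3698, e3 q4731 (flp_e L59884) q3659, e3 q4732 (flp_e L86579) q5993, e3 q4733 (flp_e L86587) q5994, e3 q4734 L553611 q5590, e3 q4735 (flp_e L81970) q5576, trivial⟩ (by decide +kernel)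

theorem ce_e_74 : ∀ r, r < 64 → sm ge (Qf (4736 + r)) = Qf (tab Gen.e (4736 + r)) :=
  edges_tab (sm ge) Qf (tab Gen.e) 4736 [(4736, 3662), (4737, 3663), (4738, 6001), (4739, 6002), (4740, 6004), (4741, 5941), (4742, 3668), (4743, 3669), (4744, 4744), (4745, 3670), (4746, 6009), (4747, 6011), (4748, 6015), (4749, 3672), (4750, 6018), (4751, 6019), (4752, 5595), (4753, 3675), (4754, 3676), (4755, 6024), (4756, 6025), (4757, 6027), (4758, 4024), (4759, 3680), (4760, 3681), (4761, 6033), (4762, 6034), (4763, 6040), (4764, 6036), (4765, 3682), (4766, 6043), (4767, 5967), (4768, 3686), (4769, 3687), (4770, 3798), (4771, 3688), (4772, 6046), (4773, 6048), (4774, 5974), (4775, 5975), (4776, 3694), (4777, 3805), (4778, 3695), (4779, 3807), (4780, 3808), (4781, 6057), (4782, 3697), (4783, 6064), (4784, 4043), (4785, 3700), (4786, 6068), (4787, 4787), (4788, 3703), (4789, 3704), (4790, 4790), (4791, 6071), (4792, 4792), (4793, 4793), (4794, 3710), (4795, 4795), (4796, 3711), (4797, 4797), (4798, 4798), (4799, 6079)]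
    ⟨e3 q4736 L59925 q3662, e3 q4737 L59933 q3663, e3 q4738 (flp_e L86648) q6001, e3 q4739 (flp_e L86657) q6002, e3 q4740 (flp_e L86673) q6004, e3 q4741 (flp_e L86133) q5941, e3 q4742 L59974 q3668, e3 q4743 L59982 q3669, e3 q4744 L59990 q4744, e3 q4745 L59996 q3670, e3 q4746 (flp_e L86712) q6009, e3 q4747 (flp_e L86728) q6011, e3 q4748 L86757 q6015, e3 q4749 (flp_e L60030) q3672, e3 q4750 (flp_e L86806) q6018, e3 q4751 (flp_e L86814) q6019, e3 q4752 (flp_e L82128) q5595, e3 q4753 L60077 q3675, e3 q4754 L60084 q3676, e3 q4755 (flp_e L86886) q6024, e3 q4756 (flp_e L86894) q6025, e3 q4757 (flp_e L86913) q6027, e3 q4758 L60119 q4024, e3 q4759 L60125 q3680, e3 q4760 L60131 q3681, e3 q4761 (flp_e L86958) q6033, e3 q4762 (flp_e L86965) q6034, e3 q4763 L87000 q6040, e3 q4764 (flp_e L86976) q6036, e3 q4765 (flp_e L60163) q3682, e3 q4766 (flp_e L87027) q6043, e3 q4767 (flp_e L86348) q5967, e3 q4768 L60189 q3686, e3 q4769 L60196 q3687, e3 q4770 L60205 q3798, e3 q4771 L60213 q3688, e3 q4772 (flp_e L87055) q6046, e3 q4773 (flp_e L87074)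 q6048, e3 q4774 (flp_e L86402) q5974, e3 q4775 (flp_e L86409) q5975, e3 q4776 L60248 q3694, e3 q4777 L60258 q3805, e3 q4778 L60265 q3695, e3 q4779 L60272 q3807, e3 q4780 L60282 q3808, e3 q4781 (flp_e L87141) q6057, e3 q4782 L60365 q3697, e3 q4783 (flp_e L87337) q6064, e3 q4784 L60414 q4043, e3 q4785 L60421 q3700, e3 q4786 (flp_e L87417) q6068, e3 q4787 L60494 q4787, e3 q4788 L60499 q3703, e3 q4789 L60508 q3704, e3 q4790 L60517 q4790, e3 q4791 (flp_e L87526) q6071, e3 q4792 L60550 q4792, e3 q4793 L60559 q4793, e3 q4794 L60566 q3710, e3 q4795 L60576 q4795, e3 q4796 L60581 q3711, e3 q4797 L60590 q4797, e3 q4798 L60598 q4798, e3 q4799 (flp_e L87613) q6079, trivial⟩ (by decide +kernel)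

theorem ce_e_75 : ∀ r, r < 64 → sm ge (Qf (4800 + r)) = Qf (tab Gen.e (4800 + r)) :=
  edges_tab (sm ge) Qf (tab Gen.e) 4800 [(4800, 4060), (4801, 3713), (4802, 6088), (4803, 4803), (4804, 3716), (4805, 3717), (4806, 3813), (4807, 6091), (4808, 4065), (4809, 4066), (4810, 4810), (4811, 3721), (4812, 3722), (4813, 4813), (4814, 6101), (4815, 4815), (4816, 4816), (4817, 3728), (4818, 3820), (4819, 3729), (4820, 3822), (4821, 3823), (4822, 6109), (4823, 4823), (4824, 4824), (4825, 6119), (4826, 4826), (4827, 3829), (4828, 3737), (4829, 3831), (4830, 3832), (4831, 3833), (4832, 3834), (4833, 3835), (4834, 6129), (4835, 4835), (4836, 3739), (4837, 6133), (4838, 6134), (4839, 4839), (4840, 4840), (4841, 3742), (4842, 6139), (4843, 6140), (4844, 6145), (4845, 4845), (4846, 3745), (4847, 3746), (4848, 6148), (4849, 6149), (4850, 6151), (4851, 4851), (4852, 3751), (4853, 3752), (4854, 5919), (4855, 3753), (4856, 6156), (4857, 6158), (4858, 3754), (4859, 6163), (4860, 6164), (4861, 4861), (4862, 3757), (4863, 3758)]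
    ⟨e3 q4800 L60651 q4060, e3 q4801 L60659 q3713, e3 q4802 (flp_e L87738) q6088, e3 q4803 L60705 q4803, e3 q4804 L60711 q3716, e3 q4805 L60719 q3717, e3 q4806 L60729 q3813, e3 q4807 (flp_e L87808) q6091, e3 q4808 L60765 q4065, e3 q4809 L60770 q4066, e3 q4810 L60778 q4810, e3 q4811 L60784 q3721, e3 q4812 L60792 q3722, e3 q4813 L60800 q4813, e3 q4814 (flp_e L87913) q6101, e3 q4815 L60832 q4815, e3 q4816 L60839 q4816, e3 q4817 L60846 q3728, e3 q4818 L60857 q3820, e3 q4819 L60863 q3729, e3 q4820 L60869 q3822, e3 q4821 L60878 q3823, e3 q4822 (flp_e L87997) q6109, e3 q4823 L60895 q4823, e3 q4824 L60901 q4824, e3 q4825 L88069 q6119, e3 q4826 L60915 q4826, e3 q4827 L60924 q3829, e3 q4828 L60930 q3737, e3 q4829 L60938 q3831, e3 q4830 L60948 q3832, e3 q4831 L60955 q3833, e3 q4832 L60964 q3834, e3 q4833 L60970 q3835, e3 q4834 L88169 q6129, e3 q4835 L61001 q4835, e3 q4836 (flp_e L61005) q3739, e3 q4837 (flp_e L88225) q6133, e3 q4838 (flp_e L88233) q6134, e3 q4839 L61038 q4839, e3 q4840 L61050 q4840, e3 q4841 (flp_e L61055) q3742, e3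 q4842 (flp_e L88282) q6139, e3 q4843 (flp_e L88290) q6140, e3 q4844 L88333 q6145, e3 q4845 L61095 q4845, e3 q4846 L61105 q3745, e3 q4847 L61112 q3746, e3 q4848 (flp_e L88363) q6148, e3 q4849 (flp_e L88372) q6149, e3 q4850 (flp_e L88388) q6151, e3 q4851 L61149 q4851, e3 q4852 L61156 q3751, e3 q4853 L61165 q3752, e3 q4854 (flp_e L85942) q5919, e3 q4855 L61180 q3753, e3 q4856 (flp_e L88432) q6156, e3 q4857 (flp_e L88448) q6158, e3 q4858 (flp_e L61221) q3754, e3 q4859 (flp_e L88540) q6163, e3 q4860 (flp_e L88549) q6164, e3 q4861 L61262 q4861, e3 q4862 L61272 q3757, e3 q4863 L61280 q3758, trivial⟩ (by decide +kernel)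

theorem ce_e_76 : ∀ r, r < 64 → sm ge (Qf (4864 + r)) = Qf (tab Gen.e (4864 + r)) :=
  edges_tab (sm ge) Qf (tab Gen.e) 4864 [(4864, 6169), (4865, 6170), (4866, 6172), (4867, 4088), (4868, 3762), (4869, 3763), (4870, 6178), (4871, 6179), (4872, 6185), (4873, 6181), (4874, 3764), (4875, 6188), (4876, 3795), (4877, 3768), (4878, 3769), (4879, 5970), (4880, 3770), (4881, 6191), (4882, 6193), (4883, 3802), (4884, 3803), (4885, 3776), (4886, 5977), (4887, 3777), (4888, 5979), (4889, 5980), (4890, 6202), (4891, 3779), (4892, 3780), (4893, 6209), (4894, 6210), (4895, 6212), (4896, 6168), (4897, 3784), (4898, 3785), (4899, 6026), (4900, 3786), (4901, 6217), (4902, 6219), (4903, 6177), (4904, 3789), (4905, 3790), (4906, 6229), (4907, 3792), (4908, 6225), (4909, 6233), (4910, 6227), (4911, 3791), (4912, 6236), (4913, 6235), (4914, 3794), (4915, 6189), (4916, 6190), (4917, 3800), (4918, 6047), (4919, 3801), (4920, 6049), (4921, 6050), (4922, 6244), (4923, 6197), (4924, 6198), (4925, 6254), (4926, 6200), (4927, 6056)]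
    ⟨e3 q4864 (flp_e L88623) q6169, e3 q4865 (flp_e L88631) q6170, e3 q4866 (flp_e L88647) q6172, e3 q4867 L61316 q4088, e3 q4868 L61323 q3762, e3 q4869 L61331 q3763, e3 q4870 (flp_e L88700) q6178, e3 q4871 (flp_e L88708) q6179, e3 q4872 L88753 q6185, e3 q4873 (flp_e L88721) q6181, e3 q4874 (flp_e L61368) q3764, e3 q4875 (flp_e L88775) q6188, e3 q4876 L61389 q3795, e3 q4877 L61397 q3768, e3 q4878 L61404 q3769, e3 q4879 (flp_e L86369) q5970, e3 q4880 L61418 q3770, e3 q4881 (flp_e L88810) q6191, e3 q4882 (flp_e L88825) q6193, e3 q4883 L61444 q3802, e3 q4884 L61453 q3803, e3 q4885 L61462 q3776, e3 q4886 (flp_e L86425) q5977, e3 q4887 L61476 q3777, e3 q4888 (flp_e L86438) q5979, e3 q4889 (flp_e L86446) q5980, e3 q4890 (flp_e L88896) q6202, e3 q4891 L61554 q3779, e3 q4892 L61563 q3780, e3 q4893 (flp_e L89031) q6209, e3 q4894 (flp_e L89041) q6210, e3 q4895 (flp_e L89058) q6212, e3 q4896 (flp_e L88614) q6168, e3 q4897 L61635 q3784, e3 q4898 L61644 q3785, e3 q4899 (flp_e L86904) q6026, e3 q4900 L61662 q3786, e3 q4901 (flp_e L89152)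 q6217, e3 q4902 (flp_e L89171) q6219, e3 q4903 (flp_e L88692) q6177, e3 q4904 L61697 q3789, e3 q4905 L61706 q3790, e3 q4906 L89252 q6229, e3 q4907 L61721 q3792, e3 q4908 (flp_e L89224) q6225, e3 q4909 L89283 q6233, e3 q4910 (flp_e L89240) q6227, e3 q4911 (flp_e L61749) q3791, e3 q4912 (flp_e L89308) q6236, e3 q4913 (flp_e L89303) q6235, e3 q4914 L61774 q3794, e3 q4915 (flp_e L88792) q6189, e3 q4916 (flp_e L88801) q6190, e3 q4917 L61804 q3800, e3 q4918 (flp_e L87066) q6047, e3 q4919 L61821 q3801, e3 q4920 (flp_e L87080) q6049, e3 q4921 (flp_e L87091) q6050, e3 q4922 (flp_e L89388) q6244, e3 q4923 (flp_e L88855) q6197, e3 q4924 (flp_e L88863) q6198, e3 q4925 L89466 q6254, e3 q4926 (flp_e L88880) q6200, e3 q4927 (flp_e L87134) q6056, trivial⟩ (by decide +kernel)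

theorem ce_e_77 : ∀ r, r < 64 → sm ge (Qf (4928 + r)) = Qf (tab Gen.e (4928 + r)) :=
  edges_tab (sm ge) Qf (tab Gen.e) 4928 [(4928, 3809), (4929, 6058), (4930, 6059), (4931, 6060), (4932, 6061), (4933, 6062), (4934, 4934), (4935, 4935), (4936, 3815), (4937, 6092), (4938, 3816), (4939, 6093), (4940, 5667), (4941, 6269), (4942, 4942), (4943, 4943), (4944, 6277), (4945, 4945), (4946, 6108), (4947, 3824), (4948, 6110), (4949, 6111), (4950, 6112), (4951, 6113), (4952, 6114), (4953, 6124), (4954, 6122), (4955, 3827), (4956, 6121), (4957, 6123), (4958, 6125), (4959, 6126), (4960, 6127), (4961, 6128), (4962, 4962), (4963, 4963), (4964, 3839), (4965, 6290), (4966, 6291), (4967, 6292), (4968, 3844), (4969, 4969), (4970, 3846), (4971, 4971), (4972, 4972), (4973, 4973), (4974, 3849), (4975, 4975), (4976, 4976), (4977, 4977), (4978, 3884), (4979, 4979), (4980, 3886), (4981, 4083), (4982, 3888), (4983, 3889), (4984, 4984), (4985, 3891), (4986, 4986), (4987, 4081), (4988, 4988), (4989, 3895), (4990, 4990), (4991, 3901)]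
    ⟨e3 q4928 L61893 q3809, e3 q4929 (flp_e L87149) q6058, e3 q4930 (flp_e L87160) q6059, e3 q4931 (flp_e L87166) q6060, e3 q4932 (flp_e L87176) q6061, e3 q4933 (flp_e L87182) q6062, e3 q4934 L61943 q4934, e3 q4935 L61953 q4935, e3 q4936 L61963 q3815, e3 q4937 (flp_e L87820) q6092, e3 q4938 L61981 q3816, e3 q4939 (flp_e L87835) q6093, e3 q4940 L546640 q5667, e3 q4941 (flp_e L89598) q6269, e3 q4942 L62018 q4942, e3 q4943 L62027 q4943, e3 q4944 L89678 q6277, e3 q4945 L62044 q4945, e3 q4946 (flp_e L87991) q6108, e3 q4947 L62061 q3824, e3 q4948 (flp_e L88004) q6110, e3 q4949 (flp_e L88014) q6111, e3 q4950 (flp_e L88020) q6112, e3 q4951 (flp_e L88029) q6113, e3 q4952 (flp_e L88036) q6114, e3 q4953 (flp_e L647223) q6124, e3 q4954 L645575 q6122, e3 q4955 (flp_e L62137) q3827, e3 q4956 (flp_e L647409) q6121, e3 q4957 (flp_e L88104) q6123, e3 q4958 (flp_e L88121) q6125, e3 q4959 (flp_e L88128) q6126, e3 q4960 (flp_e L88137) q6127, e3 q4961 (flp_e L88145) q6128, e3 q4962 L62326 q4962, e3 q4963 L62354 q4963, e3 q4964 (flp_e L62373)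 q3839, e3 q4965 (flp_e L90112) q6290, e3 q4966 (flp_e L90124) q6291, e3 q4967 L90244 q6292, e3 q4968 (flp_e L62490) q3844, e3 q4969 L62530 q4969, e3 q4970 (flp_e L62542) q3846, e3 q4971 L62561 q4971, e3 q4972 L62571 q4972, e3 q4973 L62577 q4973, e3 q4974 (flp_e L62582) q3849, e3 q4975 L62599 q4975, e3 q4976 L62606 q4976, e3 q4977 L62746 q4977, e3 q4978 L62791 q3884, e3 q4979 L62814 q4979, e3 q4980 L62823 q3886, e3 q4981 L626963 q4083, e3 q4982 L62850 q3888, e3 q4983 L62859 q3889, e3 q4984 L62873 q4984, e3 q4985 L62883 q3891, e3 q4986 L62887 q4986, e3 q4987 L625458 q4081, e3 q4988 L62903 q4988, e3 q4989 L62911 q3895, e3 q4990 L63100 q4990, e3 q4991 L63159 q3901, trivial⟩ (by decide +kernel)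

theorem ce_e_78 : ∀ r, r < 64 → sm ge (Qf (4992 + r)) = Qf (tab Gen.e (4992 + r)) :=
  edges_tab (sm ge) Qf (tab Gen.e) 4992 [(4992, 4992), (4993, 6309), (4994, 3904), (4995, 3871), (4996, 4101), (4997, 3907), (4998, 4998), (4999, 6313), (5000, 5000), (5001, 3911), (5002, 6315), (5003, 5003), (5004, 3877), (5005, 4098), (5006, 4080), (5007, 3918), (5008, 6299), (5009, 5009), (5010, 6319), (5011, 6302), (5012, 3887), (5013, 3973), (5014, 4100), (5015, 5015), (5016, 6320), (5017, 5017), (5018, 6301), (5019, 6325), (5020, 5020), (5021, 3893), (5022, 3971), (5023, 3970), (5024, 5024), (5025, 4097), (5026, 3960), (5027, 6330), (5028, 3903), (5029, 6332), (5030, 6311), (5031, 3906), (5032, 4001), (5033, 5033), (5034, 6335), (5035, 5035), (5036, 3909), (5037, 6333), (5038, 6338), (5039, 6310), (5040, 3912), (5041, 6341), (5042, 6342), (5043, 6346), (5044, 3915), (5045, 3916), (5046, 3999), (5047, 3998), (5048, 6347), (5049, 3923), (5050, 3985), (5051, 3924), (5052, 6350), (5053, 3926), (5054, 6353), (5055, 4036)]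
    ⟨e3 q4992 L63187 q4992, e3 q4993 L91323 q6309, e3 q4994 L63210 q3904, e3 q4995 (flp_e L63215) q3871, e3 q4996 L626803 q4101, e3 q4997 L63257 q3907, e3 q4998 L63266 q4998, e3 q4999 L91431 q6313, e3 q5000 L63282 q5000, e3 q5001 L63291 q3911, e3 q5002 L91477 q6315, e3 q5003 L63305 q5003, e3 q5004 (flp_e L63307) q3877, e3 q5005 L625317 q4098, e3 q5006 (flp_e L625298) q4080, e3 q5007 L63339 q3918, e3 q5008 (flp_e L90716) q6299, e3 q5009 L63531 q5009, e3 q5010 L91844 q6319, e3 q5011 (flp_e L90775) q6302, e3 q5012 (flp_e L63564) q3887, e3 q5013 L626123 q3973, e3 q5014 L626858 q4100, e3 q5015 L63623 q5015, e3 q5016 L623297 q6320, e3 q5017 L63643 q5017, e3 q5018 (flp_e L625414) q6301, e3 q5019 L92022 q6325, e3 q5020 L63670 q5020, e3 q5021 (flp_e L63674) q3893, e3 q5022 L623326 q3971, e3 q5023 L622465 q3970, e3 q5024 L63702 q5024, e3 q5025 (flp_e L626891) q4097, e3 q5026 L626234 q3960, e3 q5027 L92491 q6330, e3 q5028 (flp_e L63979) q3903, e3 q5029 (flp_e L92539) q6332, e3 q5030 (flp_e L91359) q6311, e3 q5031 L64025 q3906, e3 q5032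 L626747 q4001, e3 q5033 L64072 q5033, e3 q5034 L92664 q6335, e3 q5035 L64091 q5035, e3 q5036 (flp_e L64094) q3909, e3 q5037 L622736 q6333, e3 q5038 (flp_e L92717) q6338, e3 q5039 (flp_e L625347) q6310, e3 q5040 (flp_e L64139) q3912, e3 q5041 (flp_e L92761) q6341, e3 q5042 (flp_e L92769) q6342, e3 q5043 L92805 q6346, e3 q5044 L64182 q3915, e3 q5045 L64188 q3916, e3 q5046 (flp_e L623104) q3999, e3 q5047 (flp_e L624880) q3998, e3 q5048 (flp_e L92853) q6347, e3 q5049 L64254 q3923, e3 q5050 (flp_e L623066) q3985, e3 q5051 (flp_e L64590) q3924, e3 q5052 (flp_e L93431) q6350, e3 q5053 L64637 q3926, e3 q5054 (flp_e L93506) q6353, e3 q5055 L624813 q4036, trivial⟩ (by decide +kernel)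

theorem ce_e_79 : ∀ r, r < 64 → sm ge (Qf (5056 + r)) = Qf (tab Gen.e (5056 + r)) :=
  edges_tab (sm ge) Qf (tab Gen.e) 5056 [(5056, 3929), (5057, 6354), (5058, 3931), (5059, 6357), (5060, 6358), (5061, 3934), (5062, 3935), (5063, 6352), (5064, 6361), (5065, 5858), (5066, 3938), (5067, 3939), (5068, 6367), (5069, 6368), (5070, 6372), (5071, 3940), (5072, 4034), (5073, 3943), (5074, 3944), (5075, 5075), (5076, 3945), (5077, 4031), (5078, 6374), (5079, 3952), (5080, 5080), (5081, 4013), (5082, 5082), (5083, 6379), (5084, 5084), (5085, 6382), (5086, 5086), (5087, 3956), (5088, 6329), (5089, 6380), (5090, 5090), (5091, 3961), (5092, 4178), (5093, 4184), (5094, 6385), (5095, 3965), (5096, 6324), (5097, 5097), (5098, 3967), (5099, 6327), (5100, 6326), (5101, 6389), (5102, 6390), (5103, 3975), (5104, 6392), (5105, 5105), (5106, 3977), (5107, 6395), (5108, 6396), (5109, 3980), (5110, 3981), (5111, 6348), (5112, 6393), (5113, 3986), (5114, 5114), (5115, 3987), (5116, 4187), (5117, 4192), (5118, 3988), (5119, 6400)]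
    ⟨e3 q5056 L64690 q3929, e3 q5057 L93629 q6354, e3 q5058 (flp_e L64762) q3931, e3 q5059 (flp_e L93688) q6357, e3 q5060 (flp_e L93696) q6358, e3 q5061 L64806 q3934, e3 q5062 L64814 q3935, e3 q5063 L625023 q6352, e3 q5064 (flp_e L93771) q6361, e3 q5065 (flp_e L85422) q5858, e3 q5066 L64859 q3938, e3 q5067 L64867 q3939, e3 q5068 (flp_e L93841) q6367, e3 q5069 (flp_e L93850) q6368, e3 q5070 L93894 q6372, e3 q5071 (flp_e L64903) q3940, e3 q5072 L604361 q4034, e3 q5073 L64929 q3943, e3 q5074 L64936 q3944, e3 q5075 L64946 q5075, e3 q5076 L64952 q3945, e3 q5077 (flp_e L624783) q4031, e3 q5078 (flp_e L93967) q6374, e3 q5079 L65015 q3952, e3 q5080 L65026 q5080, e3 q5081 L626529 q4013, e3 q5082 L65043 q5082, e3 q5083 L94102 q6379, e3 q5084 L65078 q5084, e3 q5085 L94162 q6382, e3 q5086 L65095 q5086, e3 q5087 (flp_e L65099) q3956, e3 q5088 (flp_e L622441) q6329, e3 q5089 (flp_e L623399) q6380, e3 q5090 L65142 q5090, e3 q5091 L65162 q3961, e3 q5092 (flp_e L626274) q4178, e3 q5093 (flp_e L626106) q4184, e3 q5094 L94336 q6385, e3 q5095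 (flp_e L65223) q3965, e3 q5096 (flp_e L623281) q6324, e3 q5097 L65272 q5097, e3 q5098 (flp_e L65278) q3967, e3 q5099 L622566 q6327, e3 q5100 L622491 q6326, e3 q5101 L94486 q6389, e3 q5102 L94658 q6390, e3 q5103 (flp_e L65446) q3975, e3 q5104 (flp_e L94710) q6392, e3 q5105 L65495 q5105, e3 q5106 (flp_e L65501) q3977, e3 q5107 (flp_e L94767) q6395, e3 q5108 (flp_e L94775) q6396, e3 q5109 L65541 q3980, e3 q5110 L65549 q3981, e3 q5111 (flp_e L623074) q6348, e3 q5112 L624929 q6393, e3 q5113 L65603 q3986, e3 q5114 L65612 q5114, e3 q5115 L65618 q3987, e3 q5116 L623032 q4187, e3 q5117 L625943 q4192, e3 q5118 (flp_e L65658) q3988, e3 q5119 (flp_e L95005) q6400, trivial⟩ (by decide +kernel)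

theorem ce_e_80 : ∀ r, r < 64 → sm ge (Qf (5120 + r)) = Qf (tab Gen.e (5120 + r)) :=
  edges_tab (sm ge) Qf (tab Gen.e) 5120 [(5120, 3990), (5121, 6339), (5122, 5958), (5123, 3993), (5124, 3994), (5125, 6344), (5126, 6343), (5127, 6406), (5128, 3995), (5129, 4002), (5130, 6409), (5131, 4004), (5132, 6412), (5133, 5992), (5134, 4007), (5135, 4008), (5136, 6416), (5137, 6417), (5138, 6377), (5139, 4011), (5140, 4012), (5141, 5141), (5142, 6411), (5143, 4194), (5144, 4018), (5145, 5145), (5146, 4019), (5147, 5147), (5148, 4198), (5149, 6017), (5150, 4021), (5151, 6425), (5152, 6363), (5153, 4023), (5154, 6030), (5155, 6031), (5156, 6370), (5157, 4027), (5158, 4028), (5159, 6432), (5160, 6366), (5161, 6434), (5162, 4029), (5163, 6435), (5164, 5644), (5165, 4038), (5166, 6440), (5167, 5167), (5168, 4041), (5169, 4042), (5170, 5170), (5171, 6442), (5172, 6065), (5173, 6066), (5174, 5174), (5175, 4046), (5176, 4047), (5177, 5549), (5178, 6452), (5179, 5179), (5180, 5180), (5181, 4052), (5182, 5182), (5183, 5183)]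
    ⟨e3 q5120 L65705 q3990, e3 q5121 (flp_e L622763) q6339, e3 q5122 (flp_e L86283) q5958, e3 q5123 L65756 q3993, e3 q5124 L65762 q3994, e3 q5125 L622267 q6344, e3 q5126 L622330 q6343, e3 q5127 L95205 q6406, e3 q5128 (flp_e L65791) q3995, e3 q5129 (flp_e L65951) q4002, e3 q5130 (flp_e L95458) q6409, e3 q5131 L66002 q4004, e3 q5132 (flp_e L95542) q6412, e3 q5133 (flp_e L86573) q5992, e3 q5134 L66060 q4007, e3 q5135 L66068 q4008, e3 q5136 (flp_e L95626) q6416, e3 q5137 (flp_e L95635) q6417, e3 q5138 L624733 q6377, e3 q5139 L66126 q4011, e3 q5140 L66135 q4012, e3 q5141 L66145 q5141, e3 q5142 L624922 q6411, e3 q5143 (flp_e L626570) q4194, e3 q5144 L66196 q4018, e3 q5145 L66207 q5145, e3 q5146 L66214 q4019, e3 q5147 L66235 q5147, e3 q5148 (flp_e L624775) q4198, e3 q5149 (flp_e L86798) q6017, e3 q5150 L66299 q4021, e3 q5151 (flp_e L95972) q6425, e3 q5152 (flp_e L624756) q6363, e3 q5153 L66378 q4023, e3 q5154 (flp_e L86941) q6030, e3 q5155 (flp_e L86947) q6031, e3 q5156 (flp_e L622853) q6370, e3 q5157 L66445 q4027, e3 q5158 L66452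 q4028, e3 q5159 L96192 q6432, e3 q5160 L624862 q6366, e3 q5161 L96219 q6434, e3 q5162 (flp_e L66488) q4029, e3 q5163 (flp_e L96238) q6435, e3 q5164 (flp_e L562589) q5644, e3 q5165 L66654 q4038, e3 q5166 (flp_e L96438) q6440, e3 q5167 L66715 q5167, e3 q5168 L66723 q4041, e3 q5169 L66734 q4042, e3 q5170 L66748 q5170, e3 q5171 (flp_e L96524) q6442, e3 q5172 (flp_e L87394) q6065, e3 q5173 (flp_e L87401) q6066, e3 q5174 L66780 q5174, e3 q5175 L66787 q4046, e3 q5176 L66797 q4047, e3 q5177 (flp_e L537350) q5549, e3 q5178 (flp_e L96608) q6452, e3 q5179 L66843 q5179, e3 q5180 L66852 q5180, e3 q5181 L66861 q4052, e3 q5182 L66874 q5182, e3 q5183 L66877 q5183, trivial⟩ (by decide +kernel)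

theorem ce_e_81 : ∀ r, r < 64 → sm ge (Qf (5184 + r)) = Qf (tab Gen.e (5184 + r)) :=
  edges_tab (sm ge) Qf (tab Gen.e) 5184 [(5184, 5184), (5185, 4211), (5186, 5186), (5187, 5187), (5188, 5188), (5189, 5652), (5190, 4059), (5191, 6464), (5192, 6085), (5193, 6086), (5194, 5194), (5195, 4062), (5196, 5196), (5197, 6470), (5198, 6095), (5199, 6096), (5200, 6098), (5201, 5201), (5202, 4070), (5203, 6476), (5204, 4072), (5205, 6314), (5206, 6138), (5207, 4075), (5208, 4076), (5209, 6317), (5210, 6305), (5211, 6482), (5212, 4077), (5213, 6162), (5214, 4085), (5215, 6486), (5216, 4087), (5217, 6175), (5218, 6176), (5219, 4091), (5220, 4092), (5221, 6493), (5222, 6316), (5223, 6495), (5224, 4093), (5225, 6496), (5226, 5777), (5227, 4230), (5228, 6498), (5229, 4104), (5230, 4106), (5231, 6500), (5232, 5232), (5233, 4108), (5234, 5234), (5235, 5235), (5236, 5236), (5237, 5237), (5238, 4113), (5239, 6511), (5240, 6512), (5241, 4114), (5242, 6513), (5243, 5243), (5244, 5244), (5245, 5245), (5246, 6517), (5247, 5247)]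
    ⟨e3 q5184 L66896 q5184, e3 q5185 L624505 q4211, e3 q5186 L66918 q5186, e3 q5187 L66923 q5187, e3 q5188 L66931 q5188, e3 q5189 (flp_e L490783) q5652, e3 q5190 L66949 q4059, e3 q5191 (flp_e L96817) q6464, e3 q5192 (flp_e L87716) q6085, e3 q5193 (flp_e L87722) q6086, e3 q5194 L66982 q5194, e3 q5195 L66990 q4062, e3 q5196 L67000 q5196, e3 q5197 L96869 q6470, e3 q5198 (flp_e L87869) q6095, e3 q5199 (flp_e L87875) q6096, e3 q5200 (flp_e L87889) q6098, e3 q5201 L67033 q5201, e3 q5202 (flp_e L67067) q4070, e3 q5203 (flp_e L96979) q6476, e3 q5204 L67122 q4072, e3 q5205 (flp_e L626835) q6314, e3 q5206 (flp_e L88275) q6138, e3 q5207 L67183 q4075, e3 q5208 L67191 q4076, e3 q5209 (flp_e L625305) q6317, e3 q5210 (flp_e L621778) q6305, e3 q5211 L97215 q6482, e3 q5212 (flp_e L67231) q4077, e3 q5213 (flp_e L88532) q6162, e3 q5214 L67453 q4085, e3 q5215 (flp_e L97537) q6486, e3 q5216 L67524 q4087, e3 q5217 (flp_e L88676) q6175, e3 q5218 (flp_e L88683) q6176, e3 q5219 L67599 q4091, e3 q5220 L67608 q4092, e3 q5221 L97756 q6493, e3 q5222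 L625073 q6316, e3 q5223 L97785 q6495, e3 q5224 (flp_e L67654) q4093, e3 q5225 (flp_e L97802) q6496, e3 q5226 (flp_e L619768) q5777, e3 q5227 (flp_e L626829) q4230, e3 q5228 L98130 q6498, e3 q5229 (flp_e L67945) q4104, e3 q5230 L67963 q4106, e3 q5231 (flp_e L98167) q6500, e3 q5232 L68058 q5232, e3 q5233 L68065 q4108, e3 q5234 L68138 q5234, e3 q5235 L68189 q5235, e3 q5236 L68196 q5236, e3 q5237 L68206 q5237, e3 q5238 L68212 q4113, e3 q5239 L98541 q6511, e3 q5240 L98555 q6512, e3 q5241 (flp_e L68251) q4114, e3 q5242 (flp_e L98580) q6513, e3 q5243 L68322 q5243, e3 q5244 L68394 q5244, e3 q5245 L68468 q5245, e3 q5246 L98985 q6517, e3 q5247 L68553 q5247, trivial⟩ (by decide +kernel)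

theorem ce_e_82 : ∀ r, r < 64 → sm ge (Qf (5248 + r)) = Qf (tab Gen.e (5248 + r)) :=
  edges_tab (sm ge) Qf (tab Gen.e) 5248 [(5248, 5747), (5249, 4123), (5250, 4125), (5251, 6520), (5252, 5252), (5253, 5253), (5254, 5254), (5255, 5255), (5256, 6522), (5257, 5257), (5258, 4132), (5259, 6525), (5260, 4135), (5261, 4136), (5262, 4137), (5263, 6527), (5264, 5264), (5265, 6529), (5266, 5266), (5267, 4159), (5268, 4150), (5269, 5269), (5270, 5293), (5271, 5271), (5272, 4201), (5273, 6535), (5274, 5274), (5275, 5275), (5276, 4205), (5277, 4206), (5278, 6457), (5279, 5279), (5280, 4216), (5281, 5281), (5282, 5282), (5283, 5283), (5284, 5284), (5285, 4224), (5286, 4233), (5287, 6539), (5288, 6541), (5289, 4236), (5290, 6544), (5291, 4237), (5292, 5292), (5293, 5270), (5294, 4239), (5295, 5295), (5296, 5296), (5297, 5297), (5298, 6553), (5299, 4242), (5300, 5300), (5301, 6557), (5302, 4244), (5303, 5303), (5304, 4255), (5305, 4256), (5306, 4247), (5307, 5307), (5308, 4259), (5309, 6567), (5310, 5310), (5311, 4262)]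
    ⟨e3 q5248 L643276 q5747, e3 q5249 (flp_e L68561) q4123, e3 q5250 L68578 q4125, e3 q5251 (flp_e L99039) q6520, e3 q5252 L68620 q5252, e3 q5253 L68652 q5253, e3 q5254 L68660 q5254, e3 q5255 L68735 q5255, e3 q5256 L99255 q6522, e3 q5257 L68775 q5257, e3 q5258 (flp_e L68790) q4132, e3 q5259 (flp_e L99319) q6525, e3 q5260 L68883 q4135, e3 q5261 L68892 q4136, e3 q5262 (flp_e L68984) q4137, e3 q5263 (flp_e L99601) q6527, e3 q5264 L69056 q5264, e3 q5265 L99933 q6529, e3 q5266 L69435 q5266, e3 q5267 L69492 q4159, e3 q5268 (flp_e L69722) q4150, e3 q5269 L70019 q5269, e3 q5270 L639482 q5293, e3 q5271 L74983 q5271, e3 q5272 L74989 q4201, e3 q5273 (flp_e L108537) q6535, e3 q5274 L75056 q5274, e3 q5275 L75074 q5275, e3 q5276 L75082 q4205, e3 q5277 L75093 q4206, e3 q5278 L616980 q6457, e3 q5279 L75240 q5279, e3 q5280 L75250 q4216, e3 q5281 L424689 q5281, e3 q5282 L75415 q5282, e3 q5283 L75425 q5283, e3 q5284 L75441 q5284, e3 q5285 L75448 q4224, e3 q5286 (flp_e L78565) q4233, e3 q5287 L114587 q6539, e3 q5288 L114605 q6541, e3 q5289 (flp_e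 L79355) q4236, e3 q5290 L114634 q6544, e3 q5291 (flp_e L79375) q4237, e3 q5292 L79394 q5292, e3 q5293 (flp_e L639482) q5270, e3 q5294 (flp_e L79404) q4239, e3 q5295 L79419 q5295, e3 q5296 L79427 q5296, e3 q5297 L79434 q5297, e3 q5298 L114742 q6553, e3 q5299 (flp_e L79449) q4242, e3 q5300 L79468 q5300, e3 q5301 L114781 q6557, e3 q5302 (flp_e L79481) q4244, e3 q5303 L79497 q5303, e3 q5304 L79508 q4255, e3 q5305 L79514 q4256, e3 q5306 (flp_e L79519) q4247, e3 q5307 L79535 q5307, e3 q5308 L79544 q4259, e3 q5309 L114900 q6567, e3 q5310 L79555 q5310, e3 q5311 L79564 q4262, trivial⟩ (by decide +kernel)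

theorem ce_e_83 : ∀ r, r < 64 → sm ge (Qf (5312 + r)) = Qf (tab Gen.e (5312 + r)) :=
  edges_tab (sm ge) Qf (tab Gen.e) 5312 [(5312, 4263), (5313, 4252), (5314, 5314), (5315, 6559), (5316, 6577), (5317, 5317), (5318, 6562), (5319, 6563), (5320, 5320), (5321, 6564), (5322, 5322), (5323, 6588), (5324, 5324), (5325, 6566), (5326, 4260), (5327, 6593), (5328, 6594), (5329, 5329), (5330, 6570), (5331, 5331), (5332, 6601), (5333, 5333), (5334, 5334), (5335, 6606), (5336, 5336), (5337, 4267), (5338, 6611), (5339, 6612), (5340, 5340), (5341, 5341), (5342, 4271), (5343, 4272), (5344, 6617), (5345, 6618), (5346, 6620), (5347, 6623), (5348, 4275), (5349, 5349), (5350, 6627), (5351, 4277), (5352, 4524), (5353, 5353), (5354, 5354), (5355, 4280), (5356, 4532), (5357, 4301), (5358, 4302), (5359, 4283), (5360, 4536), (5361, 4305), (5362, 6646), (5363, 4539), (5364, 4308), (5365, 4309), (5366, 4547), (5367, 4311), (5368, 6655), (5369, 4550), (5370, 4314), (5371, 4315), (5372, 4553), (5373, 4317), (5374, 4555), (5375, 6663)]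
    ⟨e3 q5312 L79574 q4263, e3 q5313 (flp_e L79580) q4252, e3 q5314 L79600 q5314, e3 q5315 (flp_e L114810) q6559, e3 q5316 L114998 q6577, e3 q5317 L79624 q5317, e3 q5318 (flp_e L114833) q6562, e3 q5319 (flp_e L114842) q6563, e3 q5320 L79658 q5320, e3 q5321 (flp_e L114866) q6564, e3 q5322 L79670 q5322, e3 q5323 L115099 q6588, e3 q5324 L79687 q5324, e3 q5325 (flp_e L114894) q6566, e3 q5326 (flp_e L79702) q4260, e3 q5327 (flp_e L115146) q6593, e3 q5328 (flp_e L115153) q6594, e3 q5329 L79731 q5329, e3 q5330 (flp_e L114934) q6570, e3 q5331 L79749 q5331, e3 q5332 L115209 q6601, e3 q5333 L79767 q5333, e3 q5334 L79777 q5334, e3 q5335 L115257 q6606, e3 q5336 L79794 q5336, e3 q5337 (flp_e L79796) q4267, e3 q5338 (flp_e L115300) q6611, e3 q5339 (flp_e L115307) q6612, e3 q5340 L79826 q5340, e3 q5341 L79834 q5341, e3 q5342 L79844 q4271, e3 q5343 L79851 q4272, e3 q5344 (flp_e L115349) q6617, e3 q5345 (flp_e L115357) q6618, e3 q5346 (flp_e L115373) q6620, e3 q5347 L115409 q6623, e3 q5348 (flp_e L79893) q4275, e3 q5349 L79913 q5349, e3 q5350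 L115452 q6627, e3 q5351 (flp_e L79924) q4277, e3 q5352 L79939 q4524, e3 q5353 L79947 q5353, e3 q5354 L79953 q5354, e3 q5355 (flp_e L79969) q4280, e3 q5356 L79987 q4532, e3 q5357 L79999 q4301, e3 q5358 L80006 q4302, e3 q5359 (flp_e L80011) q4283, e3 q5360 L80025 q4536, e3 q5361 L80034 q4305, e3 q5362 L115634 q6646, e3 q5363 L80048 q4539, e3 q5364 L80057 q4308, e3 q5365 L80064 q4309, e3 q5366 L80085 q4547, e3 q5367 L80095 q4311, e3 q5368 L115732 q6655, e3 q5369 L80109 q4550, e3 q5370 L80118 q4314, e3 q5371 L80129 q4315, e3 q5372 L80141 q4553, e3 q5373 L80149 q4317, e3 q5374 L80153 q4555, e3 q5375 L115825 q6663, trivial⟩ (by decide +kernel)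

theorem ce_e_84 : ∀ r, r < 64 → sm ge (Qf (5376 + r)) = Qf (tab Gen.e (5376 + r)) :=
  edges_tab (sm ge) Qf (tab Gen.e) 5376 [(5376, 4557), (5377, 4321), (5378, 4295), (5379, 6667), (5380, 6668), (5381, 4562), (5382, 4326), (5383, 4567), (5384, 6635), (5385, 6676), (5386, 4570), (5387, 6638), (5388, 6639), (5389, 4573), (5390, 6641), (5391, 4575), (5392, 6687), (5393, 4577), (5394, 6645), (5395, 4306), (5396, 6692), (5397, 6693), (5398, 4582), (5399, 6650), (5400, 4588), (5401, 6699), (5402, 4590), (5403, 6654), (5404, 4312), (5405, 6704), (5406, 6705), (5407, 4595), (5408, 6659), (5409, 4597), (5410, 6712), (5411, 4599), (5412, 6661), (5413, 6717), (5414, 4602), (5415, 4319), (5416, 6722), (5417, 6723), (5418, 4606), (5419, 6666), (5420, 4323), (5421, 4324), (5422, 6728), (5423, 6729), (5424, 6731), (5425, 6734), (5426, 4619), (5427, 4328), (5428, 6739), (5429, 6740), (5430, 4623), (5431, 5431), (5432, 4332), (5433, 4333), (5434, 6745), (5435, 6746), (5436, 6748), (5437, 4630), (5438, 6753), (5439, 4632)]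
    ⟨e3 q5376 L80168 q4557, e3 q5377 L80176 q4321, e3 q5378 (flp_e L80179) q4295, e3 q5379 (flp_e L115867) q6667, e3 q5380 (flp_e L115873) q6668, e3 q5381 L80204 q4562, e3 q5382 L80212 q4326, e3 q5383 L80236 q4567, e3 q5384 (flp_e L115541) q6635, e3 q5385 L115961 q6676, e3 q5386 L80264 q4570, e3 q5387 (flp_e L115567) q6638, e3 q5388 (flp_e L115577) q6639, e3 q5389 L80299 q4573, e3 q5390 (flp_e L115601) q6641, e3 q5391 L80311 q4575, e3 q5392 L116072 q6687, e3 q5393 L80331 q4577, e3 q5394 (flp_e L115632) q6645, e3 q5395 (flp_e L80342) q4306, e3 q5396 (flp_e L116117) q6692, e3 q5397 (flp_e L116124) q6693, e3 q5398 L80373 q4582, e3 q5399 (flp_e L115671) q6650, e3 q5400 L80408 q4588, e3 q5401 L116217 q6699, e3 q5402 L80429 q4590, e3 q5403 (flp_e L115726) q6654, e3 q5404 (flp_e L80444) q4312, e3 q5405 (flp_e L116268) q6704, e3 q5406 (flp_e L116277) q6705, e3 q5407 L80478 q4595, e3 q5408 (flp_e L115773) q6659, e3 q5409 L80498 q4597, e3 q5410 L116339 q6712, e3 q5411 L80515 q4599, e3 q5412 (flp_e L115808) q6661, e3 q5413 L116379 q6717,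 e3 q5414 L80540 q4602, e3 q5415 (flp_e L80544) q4319, e3 q5416 (flp_e L116425) q6722, e3 q5417 (flp_e L116431) q6723, e3 q5418 L80568 q4606, e3 q5419 (flp_e L115858) q6666, e3 q5420 L80584 q4323, e3 q5421 L80591 q4324, e3 q5422 (flp_e L116471) q6728, e3 q5423 (flp_e L116478) q6729, e3 q5424 (flp_e L116492) q6731, e3 q5425 L116595 q6734, e3 q5426 L80675 q4619, e3 q5427 (flp_e L80678) q4328, e3 q5428 (flp_e L116647) q6739, e3 q5429 (flp_e L116655) q6740, e3 q5430 L80709 q4623, e3 q5431 L80719 q5431, e3 q5432 L80730 q4332, e3 q5433 L80739 q4333, e3 q5434 (flp_e L116702) q6745, e3 q5435 (flp_e L116712) q6746, e3 q5436 (flp_e L116729) q6748, e3 q5437 L80776 q4630, e3 q5438 L116774 q6753, e3 q5439 L80796 q4632, trivial⟩ (by decide +kernel)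

theorem ce_e_85 : ∀ r, r < 64 → sm ge (Qf (5440 + r)) = Qf (tab Gen.e (5440 + r)) :=
  edges_tab (sm ge) Qf (tab Gen.e) 5440 [(5440, 4337), (5441, 6758), (5442, 6759), (5443, 4636), (5444, 5444), (5445, 4340), (5446, 6764), (5447, 6765), (5448, 6770), (5449, 4642), (5450, 4343), (5451, 4344), (5452, 6773), (5453, 6774), (5454, 6776), (5455, 6727), (5456, 4349), (5457, 4350), (5458, 6619), (5459, 4351), (5460, 6781), (5461, 6783), (5462, 4352), (5463, 5463), (5464, 5464), (5465, 6793), (5466, 5466), (5467, 5467), (5468, 5468), (5469, 4655), (5470, 5470), (5471, 4657), (5472, 6804), (5473, 4659), (5474, 5474), (5475, 4360), (5476, 6809), (5477, 6810), (5478, 4664), (5479, 5479), (5480, 4666), (5481, 6817), (5482, 4668), (5483, 5483), (5484, 6822), (5485, 4671), (5486, 4367), (5487, 6827), (5488, 6828), (5489, 4675), (5490, 5490), (5491, 4371), (5492, 4372), (5493, 6833), (5494, 6834), (5495, 6836), (5496, 5496), (5497, 5497), (5498, 5498), (5499, 6845), (5500, 5500), (5501, 5501), (5502, 4378), (5503, 6850)]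
    ⟨e3 q5440 (flp_e L80799) q4337, e3 q5441 (flp_e L116820) q6758, e3 q5442 (flp_e L116827) q6759, e3 q5443 L80828 q4636, e3 q5444 L80837 q5444, e3 q5445 (flp_e L80839) q4340, e3 q5446 (flp_e L116870) q6764, e3 q5447 (flp_e L116878) q6765, e3 q5448 L116916 q6770, e3 q5449 L80876 q4642, e3 q5450 L80884 q4343, e3 q5451 L80890 q4344, e3 q5452 (flp_e L116943) q6773, e3 q5453 (flp_e L116950) q6774, e3 q5454 (flp_e L116966) q6776, e3 q5455 (flp_e L116462) q6727, e3 q5456 L80929 q4349, e3 q5457 L80937 q4350, e3 q5458 (flp_e L115366) q6619, e3 q5459 L80953 q4351, e3 q5460 (flp_e L117006) q6781, e3 q5461 (flp_e L117022) q6783, e3 q5462 (flp_e L80973) q4352, e3 q5463 L80993 q5463, e3 q5464 L81004 q5464, e3 q5465 L117111 q6793, e3 q5466 L81018 q5466, e3 q5467 L81029 q5467, e3 q5468 L81039 q5468, e3 q5469 L81056 q4655, e3 q5470 L81068 q5470, e3 q5471 L81071 q4657, e3 q5472 L117222 q6804, e3 q5473 L81093 q4659, e3 q5474 L81103 q5474, e3 q5475 (flp_e L81107) q4360, e3 q5476 (flp_e L117276) q6809, e3 q5477 (flp_e L117283) q6810, e3 q5478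 L81135 q4664, e3 q5479 L81147 q5479, e3 q5480 L81157 q4666, e3 q5481 L117343 q6817, e3 q5482 L81177 q4668, e3 q5483 L81189 q5483, e3 q5484 L117393 q6822, e3 q5485 L81203 q4671, e3 q5486 (flp_e L81208) q4367, e3 q5487 (flp_e L117436) q6827, e3 q5488 (flp_e L117442) q6828, e3 q5489 L81238 q4675, e3 q5490 L81248 q5490, e3 q5491 L81257 q4371, e3 q5492 L81262 q4372, e3 q5493 (flp_e L117485) q6833, e3 q5494 (flp_e L117492) q6834, e3 q5495 (flp_e L117508) q6836, e3 q5496 L81299 q5496, e3 q5497 L81309 q5497, e3 q5498 L81312 q5498, e3 q5499 L117584 q6845, e3 q5500 L81329 q5500, e3 q5501 L81339 q5501, e3 q5502 (flp_e L81345) q4378, e3 q5503 (flp_e L117634) q6850, trivial⟩ (by decide +kernel)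

theorem ce_e_86 : ∀ r, r < 64 → sm ge (Qf (5504 + r)) = Qf (tab Gen.e (5504 + r)) :=
  edges_tab (sm ge) Qf (tab Gen.e) 5504 [(5504, 6851), (5505, 5505), (5506, 5506), (5507, 4682), (5508, 6858), (5509, 4684), (5510, 5510), (5511, 6863), (5512, 4687), (5513, 4385), (5514, 6868), (5515, 6869), (5516, 4691), (5517, 5517), (5518, 4389), (5519, 4390), (5520, 6874), (5521, 6875), (5522, 6877), (5523, 4698), (5524, 6882), (5525, 4700), (5526, 4394), (5527, 6887), (5528, 6888), (5529, 4704), (5530, 5530), (5531, 4397), (5532, 6893), (5533, 6894), (5534, 6899), (5535, 4710), (5536, 4400), (5537, 4401), (5538, 6902), (5539, 6903), (5540, 6905), (5541, 4454), (5542, 4406), (5543, 4407), (5544, 5544), (5545, 4408), (5546, 6910), (5547, 6912), (5548, 5548), (5549, 5177), (5550, 5550), (5551, 4465), (5552, 6923), (5553, 5553), (5554, 4412), (5555, 6928), (5556, 6929), (5557, 5557), (5558, 4468), (5559, 4416), (5560, 4417), (5561, 6934), (5562, 6935), (5563, 6937), (5564, 4723), (5565, 6942), (5566, 4725), (5567, 4421)]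
    ⟨e3 q5504 (flp_e L117641) q6851, e3 q5505 L81375 q5505, e3 q5506 L81384 q5506, e3 q5507 L81394 q4682, e3 q5508 L117701 q6858, e3 q5509 L81415 q4684, e3 q5510 L81425 q5510, e3 q5511 L117751 q6863, e3 q5512 L81441 q4687, e3 q5513 (flp_e L81445) q4385, e3 q5514 (flp_e L117794) q6868, e3 q5515 (flp_e L117802) q6869, e3 q5516 L81474 q4691, e3 q5517 L81485 q5517, e3 q5518 L81494 q4389, e3 q5519 L81501 q4390, e3 q5520 (flp_e L117846) q6874, e3 q5521 (flp_e L117853) q6875, e3 q5522 (flp_e L117866) q6877, e3 q5523 L81531 q4698, e3 q5524 L117903 q6882, e3 q5525 L81549 q4700, e3 q5526 (flp_e L81553) q4394, e3 q5527 (flp_e L117952) q6887, e3 q5528 (flp_e L117959) q6888, e3 q5529 L81584 q4704, e3 q5530 L81594 q5530, e3 q5531 (flp_e L81598) q4397, e3 q5532 (flp_e L118000) q6893, e3 q5533 (flp_e L118006) q6894, e3 q5534 L118037 q6899, e3 q5535 L81627 q4710, e3 q5536 L81636 q4400, e3 q5537 L81642 q4401, e3 q5538 (flp_e L118066) q6902, e3 q5539 (flp_e L118072) q6903, e3 q5540 (flp_e L118088) q6905, e3 q5541 L81674 q4454, e3 q5542 L81682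 q4406, e3 q5543 L81687 q4407, e3 q5544 L81696 q5544, e3 q5545 L81701 q4408, e3 q5546 (flp_e L118130) q6910, e3 q5547 (flp_e L118144) q6912, e3 q5548 L81725 q5548, e3 q5549 L537350 q5177, e3 q5550 L81743 q5550, e3 q5551 L81753 q4465, e3 q5552 L118246 q6923, e3 q5553 L81771 q5553, e3 q5554 (flp_e L81773) q4412, e3 q5555 (flp_e L118290) q6928, e3 q5556 (flp_e L118297) q6929, e3 q5557 L81804 q5557, e3 q5558 L81812 q4468, e3 q5559 L81824 q4416, e3 q5560 L81831 q4417, e3 q5561 (flp_e L118341) q6934, e3 q5562 (flp_e L118349) q6935, e3 q5563 (flp_e L118366) q6937, e3 q5564 L81864 q4723, e3 q5565 L118406 q6942, e3 q5566 L81886 q4725, e3 q5567 (flp_e L81889) q4421, trivial⟩ (by decide +kernel)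

theorem ce_e_87 : ∀ r, r < 64 → sm ge (Qf (5568 + r)) = Qf (tab Gen.e (5568 + r)) :=
  edges_tab (sm ge) Qf (tab Gen.e) 5568 [(5568, 6947), (5569, 6948), (5570, 4729), (5571, 4475), (5572, 4424), (5573, 6953), (5574, 6954), (5575, 6959), (5576, 4735), (5577, 4427), (5578, 4428), (5579, 6962), (5580, 6963), (5581, 6965), (5582, 6873), (5583, 4433), (5584, 4434), (5585, 6936), (5586, 4435), (5587, 6970), (5588, 6972), (5589, 6976), (5590, 4734), (5591, 4437), (5592, 6981), (5593, 6982), (5594, 6737), (5595, 4752), (5596, 4440), (5597, 4441), (5598, 6989), (5599, 6990), (5600, 6992), (5601, 5601), (5602, 4445), (5603, 4446), (5604, 6998), (5605, 6999), (5606, 7005), (5607, 7001), (5608, 4447), (5609, 7008), (5610, 6901), (5611, 4451), (5612, 4452), (5613, 5613), (5614, 4453), (5615, 7012), (5616, 7014), (5617, 6908), (5618, 6909), (5619, 4459), (5620, 5620), (5621, 4460), (5622, 5622), (5623, 5623), (5624, 7023), (5625, 5625), (5626, 4463), (5627, 7030), (5628, 6922), (5629, 4467), (5630, 7032), (5631, 5631)]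
    ⟨e3 q5568 (flp_e L118459) q6947, e3 q5569 (flp_e L118468) q6948, e3 q5570 L81923 q4729, e3 q5571 L81934 q4475, e3 q5572 (flp_e L81939) q4424, e3 q5573 (flp_e L118514) q6953, e3 q5574 (flp_e L118522) q6954, e3 q5575 L118556 q6959, e3 q5576 L81970 q4735, e3 q5577 L81981 q4427, e3 q5578 L81989 q4428, e3 q5579 (flp_e L118583) q6962, e3 q5580 (flp_e L118592) q6963, e3 q5581 (flp_e L118609) q6965, e3 q5582 (flp_e L117838) q6873, e3 q5583 L82032 q4433, e3 q5584 L82040 q4434, e3 q5585 (flp_e L118358) q6936, e3 q5586 L82055 q4435, e3 q5587 (flp_e L118650) q6970, e3 q5588 (flp_e L118665) q6972, e3 q5589 L118695 q6976, e3 q5590 (flp_e L553611) q4734, e3 q5591 (flp_e L82090) q4437, e3 q5592 (flp_e L118747) q6981, e3 q5593 (flp_e L118755) q6982, e3 q5594 (flp_e L575541) q6737, e3 q5595 L82128 q4752, e3 q5596 L82138 q4440, e3 q5597 L82145 q4441, e3 q5598 (flp_e L118827) q6989, e3 q5599 (flp_e L118835) q6990, e3 q5600 (flp_e L118855) q6992, e3 q5601 L82182 q5601, e3 q5602 L82187 q4445, e3 q5603 L82193 q4446, e3 q5604 (flp_e L118902)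 q6998, e3 q5605 (flp_e L118909) q6999, e3 q5606 L118946 q7005, e3 q5607 (flp_e L118922) q7001, e3 q5608 (flp_e L82224) q4447, e3 q5609 (flp_e L118971) q7008, e3 q5610 (flp_e L118057) q6901, e3 q5611 L82251 q4451, e3 q5612 L82258 q4452, e3 q5613 L82269 q5613, e3 q5614 L82276 q4453, e3 q5615 (flp_e L118999) q7012, e3 q5616 (flp_e L119017) q7014, e3 q5617 (flp_e L118114) q6908, e3 q5618 (flp_e L118121) q6909, e3 q5619 L82313 q4459, e3 q5620 L82323 q5620, e3 q5621 L82329 q4460, e3 q5622 L82336 q5622, e3 q5623 L82347 q5623, e3 q5624 (flp_e L119090) q7023, e3 q5625 L82451 q5625, e3 q5626 L82462 q4463, e3 q5627 (flp_e L119315) q7030, e3 q5628 (flp_e L118240) q6922, e3 q5629 L82618 q4467, e3 q5630 (flp_e L119554) q7032, e3 q5631 L82661 q5631, trivial⟩ (by decide +kernel)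

theorem ce_e_88 : ∀ r, r < 64 → sm ge (Qf (5632 + r)) = Qf (tab Gen.e (5632 + r)) :=
  edges_tab (sm ge) Qf (tab Gen.e) 5632 [(5632, 4471), (5633, 4472), (5634, 4485), (5635, 7035), (5636, 4474), (5637, 7039), (5638, 5638), (5639, 4477), (5640, 7043), (5641, 5641), (5642, 4480), (5643, 4481), (5644, 5164), (5645, 7046), (5646, 5646), (5647, 5647), (5648, 4487), (5649, 7036), (5650, 4488), (5651, 7037), (5652, 5189), (5653, 7054), (5654, 5654), (5655, 4490), (5656, 7063), (5657, 5657), (5658, 4493), (5659, 4494), (5660, 5660), (5661, 7066), (5662, 5662), (5663, 5663), (5664, 5664), (5665, 4498), (5666, 4499), (5667, 4940), (5668, 7076), (5669, 5669), (5670, 5670), (5671, 4505), (5672, 5672), (5673, 4506), (5674, 5674), (5675, 5675), (5676, 7084), (5677, 5677), (5678, 5678), (5679, 7094), (5680, 5680), (5681, 5681), (5682, 4514), (5683, 5683), (5684, 5684), (5685, 5685), (5686, 5686), (5687, 5687), (5688, 6538), (5689, 6542), (5690, 4516), (5691, 4517), (5692, 5692), (5693, 4519), (5694, 6624), (5695, 5695)]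
    ⟨e3 q5632 L82666 q4471, e3 q5633 L82673 q4472, e3 q5634 L82682 q4485, e3 q5635 (flp_e L119620) q7035, e3 q5636 L82784 q4474, e3 q5637 (flp_e L119818) q7039, e3 q5638 L82835 q5638, e3 q5639 L82841 q4477, e3 q5640 (flp_e L119901) q7043, e3 q5641 L82911 q5641, e3 q5642 L82918 q4480, e3 q5643 L82927 q4481, e3 q5644 L562589 q5164, e3 q5645 (flp_e L120018) q7046, e3 q5646 L82970 q5646, e3 q5647 L82979 q5647, e3 q5648 L82988 q4487, e3 q5649 (flp_e L119630) q7036, e3 q5650 L83002 q4488, e3 q5651 (flp_e L119643) q7037, e3 q5652 L490783 q5189, e3 q5653 (flp_e L120110) q7054, e3 q5654 L83085 q5654, e3 q5655 L83092 q4490, e3 q5656 (flp_e L120266) q7063, e3 q5657 L83156 q5657, e3 q5658 L83164 q4493, e3 q5659 L83172 q4494, e3 q5660 L83184 q5660, e3 q5661 (flp_e L120375) q7066, e3 q5662 L83219 q5662, e3 q5663 L83223 q5663, e3 q5664 L83232 q5664, e3 q5665 L83240 q4498, e3 q5666 L83248 q4499, e3 q5667 (flp_e L546640) q4940, e3 q5668 (flp_e L120484) q7076, e3 q5669 L83321 q5669, e3 q5670 L83328 q5670, e3 q5671 L83337 q4505, e3 q5672 L83348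 q5672, e3 q5673 L83353 q4506, e3 q5674 L83359 q5674, e3 q5675 L83369 q5675, e3 q5676 (flp_e L120621) q7084, e3 q5677 L83386 q5677, e3 q5678 L83394 q5678, e3 q5679 L120698 q7094, e3 q5680 L83410 q5680, e3 q5681 L83421 q5681, e3 q5682 L83426 q4514, e3 q5683 L83434 q5683, e3 q5684 L83443 q5684, e3 q5685 L83449 q5685, e3 q5686 L83459 q5686, e3 q5687 L83466 q5687, e3 q5688 (flp_e L639210) q6538, e3 q5689 (flp_e L639100) q6542, e3 q5690 (flp_e L83490) q4516, e3 q5691 (flp_e L83514) q4517, e3 q5692 L83534 q5692, e3 q5693 (flp_e L83546) q4519, e3 q5694 (flp_e L115429) q6624, e3 q5695 L83574 q5695, trivial⟩ (by decide +kernel)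

theorem ce_e_89 : ∀ r, r < 64 → sm ge (Qf (5696 + r)) = Qf (tab Gen.e (5696 + r)) :=
  edges_tab (sm ge) Qf (tab Gen.e) 5696 [(5696, 5696), (5697, 4522), (5698, 6628), (5699, 5699), (5700, 7111), (5701, 6631), (5702, 5702), (5703, 4527), (5704, 5704), (5705, 5705), (5706, 4565), (5707, 4566), (5708, 6634), (5709, 4568), (5710, 7117), (5711, 6637), (5712, 4571), (5713, 4572), (5714, 6640), (5715, 4574), (5716, 6642), (5717, 7122), (5718, 6644), (5719, 4578), (5720, 4538), (5721, 7126), (5722, 7127), (5723, 6649), (5724, 4583), (5725, 5725), (5726, 5726), (5727, 5727), (5728, 6581), (5729, 5729), (5730, 4586), (5731, 4587), (5732, 6651), (5733, 7133), (5734, 6653), (5735, 4591), (5736, 4549), (5737, 7138), (5738, 7139), (5739, 6658), (5740, 4596), (5741, 7141), (5742, 4600), (5743, 7144), (5744, 4556), (5745, 7146), (5746, 7147), (5747, 5248), (5748, 4607), (5749, 4560), (5750, 4561), (5751, 7152), (5752, 7153), (5753, 7155), (5754, 6578), (5755, 5755), (5756, 6560), (5757, 6549), (5758, 6672), (5759, 7162)]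
    ⟨e3 q5696 L83581 q5696, e3 q5697 (flp_e L83586) q4522, e3 q5698 (flp_e L115468) q6628, e3 q5699 L83612 q5699, e3 q5700 L121002 q7111, e3 q5701 (flp_e L115488) q6631, e3 q5702 L83633 q5702, e3 q5703 (flp_e L83658) q4527, e3 q5704 L83678 q5704, e3 q5705 L83709 q5705, e3 q5706 L83720 q4565, e3 q5707 L83727 q4566, e3 q5708 (flp_e L115529) q6634, e3 q5709 L83761 q4568, e3 q5710 L121220 q7117, e3 q5711 (flp_e L115557) q6637, e3 q5712 L83784 q4571, e3 q5713 L83794 q4572, e3 q5714 (flp_e L115591) q6640, e3 q5715 L83817 q4574, e3 q5716 (flp_e L115605) q6642, e3 q5717 L121316 q7122, e3 q5718 (flp_e L115623) q6644, e3 q5719 L83847 q4578, e3 q5720 (flp_e L83850) q4538, e3 q5721 (flp_e L121363) q7126, e3 q5722 (flp_e L121369) q7127, e3 q5723 (flp_e L115662) q6649, e3 q5724 L83885 q4583, e3 q5725 L83916 q5725, e3 q5726 L83924 q5726, e3 q5727 L83932 q5727, e3 q5728 L643908 q6581, e3 q5729 L83974 q5729, e3 q5730 L83983 q4586, e3 q5731 L83994 q4587, e3 q5732 (flp_e L115698) q6651, e3 q5733 L121604 q7133, e3 q5734 (flp_e L115717) q6653,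 e3 q5735 L84046 q4591, e3 q5736 (flp_e L84051) q4549, e3 q5737 (flp_e L121651) q7138, e3 q5738 (flp_e L121659) q7139, e3 q5739 (flp_e L115763) q6658, e3 q5740 L84086 q4596, e3 q5741 L121707 q7141, e3 q5742 L84119 q4600, e3 q5743 L121748 q7144, e3 q5744 (flp_e L84136) q4556, e3 q5745 (flp_e L121787) q7146, e3 q5746 (flp_e L121793) q7147, e3 q5747 (flp_e L643276) q5248, e3 q5748 L84168 q4607, e3 q5749 L84178 q4560, e3 q5750 L84184 q4561, e3 q5751 (flp_e L121830) q7152, e3 q5752 (flp_e L121836) q7153, e3 q5753 (flp_e L121850) q7155, e3 q5754 (flp_e L643962) q6578, e3 q5755 L84254 q5755, e3 q5756 L643130 q6560, e3 q5757 (flp_e L639678) q6549, e3 q5758 (flp_e L115922) q6672, e3 q5759 L122038 q7162, trivial⟩ (by decide +kernel)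

theorem ce_e_90 : ∀ r, r < 64 → sm ge (Qf (5760 + r)) = Qf (tab Gen.e (5760 + r)) :=
  edges_tab (sm ge) Qf (tab Gen.e) 5760 [(5760, 6674), (5761, 7116), (5762, 4569), (5763, 7167), (5764, 7168), (5765, 6679), (5766, 6569), (5767, 6681), (5768, 7175), (5769, 6683), (5770, 7120), (5771, 7180), (5772, 6686), (5773, 4576), (5774, 7185), (5775, 7186), (5776, 6690), (5777, 5226), (5778, 4580), (5779, 4581), (5780, 7191), (5781, 7192), (5782, 7194), (5783, 4584), (5784, 6595), (5785, 7197), (5786, 5786), (5787, 6568), (5788, 7200), (5789, 6698), (5790, 4589), (5791, 7204), (5792, 7205), (5793, 6702), (5794, 7137), (5795, 4593), (5796, 4594), (5797, 7210), (5798, 7211), (5799, 7213), (5800, 6709), (5801, 7218), (5802, 6711), (5803, 4598), (5804, 7223), (5805, 7224), (5806, 6715), (5807, 7143), (5808, 4601), (5809, 7229), (5810, 7230), (5811, 7235), (5812, 6721), (5813, 4604), (5814, 4605), (5815, 7238), (5816, 7239), (5817, 7241), (5818, 4648), (5819, 4610), (5820, 4611), (5821, 5821), (5822, 4612), (5823, 7246)]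
    ⟨e3 q5760 (flp_e L115946) q6674, e3 q5761 (flp_e L121216) q7116, e3 q5762 (flp_e L84339) q4569, e3 q5763 (flp_e L122088) q7167, e3 q5764 (flp_e L122097) q7168, e3 q5765 (flp_e L115998) q6679, e3 q5766 L643227 q6569, e3 q5767 (flp_e L116020) q6681, e3 q5768 L122161 q7175, e3 q5769 (flp_e L116040) q6683, e3 q5770 (flp_e L121297) q7120, e3 q5771 L122206 q7180, e3 q5772 (flp_e L116067) q6686, e3 q5773 (flp_e L84442) q4576, e3 q5774 (flp_e L122256) q7185, e3 q5775 (flp_e L122262) q7186, e3 q5776 (flp_e L116099) q6690, e3 q5777 L619768 q5226, e3 q5778 L84487 q4580, e3 q5779 L84494 q4581, e3 q5780 (flp_e L122303) q7191, e3 q5781 (flp_e L122312) q7192, e3 q5782 (flp_e L122327) q7194, e3 q5783 (flp_e L84582) q4584, e3 q5784 (flp_e L643885) q6595, e3 q5785 (flp_e L122462) q7197, e3 q5786 L84611 q5786, e3 q5787 (flp_e L643617) q6568, e3 q5788 L122567 q7200, e3 q5789 (flp_e L116213) q6698, e3 q5790 (flp_e L84680) q4589, e3 q5791 (flp_e L122617) q7204, e3 q5792 (flp_e L122625) q7205, e3 q5793 (flp_e L116247) q6702, e3 q5794 (flp_e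 L121640) q7137, e3 q5795 L84725 q4593, e3 q5796 L84734 q4594, e3 q5797 (flp_e L122667) q7210, e3 q5798 (flp_e L122676) q7211, e3 q5799 (flp_e L122688) q7213, e3 q5800 (flp_e L116315) q6709, e3 q5801 L122730 q7218, e3 q5802 (flp_e L116335) q6711, e3 q5803 (flp_e L84790) q4598, e3 q5804 (flp_e L122776) q7223, e3 q5805 (flp_e L122783) q7224, e3 q5806 (flp_e L116367) q6715, e3 q5807 (flp_e L121744) q7143, e3 q5808 (flp_e L84830) q4601, e3 q5809 (flp_e L122824) q7229, e3 q5810 (flp_e L122832) q7230, e3 q5811 L122871 q7235, e3 q5812 (flp_e L116417) q6721, e3 q5813 L84875 q4604, e3 q5814 L84881 q4605, e3 q5815 (flp_e L122899) q7238, e3 q5816 (flp_e L122905) q7239, e3 q5817 (flp_e L122918) q7241, e3 q5818 L84912 q4648, e3 q5819 L84919 q4610, e3 q5820 L84926 q4611, e3 q5821 L84933 q5821, e3 q5822 L84939 q4612, e3 q5823 (flp_e L122961) q7246, trivial⟩ (by decide +kernel)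

theorem ce_e_91 : ∀ r, r < 64 → sm ge (Qf (5824 + r)) = Qf (tab Gen.e (5824 + r)) :=
  edges_tab (sm ge) Qf (tab Gen.e) 5824 [(5824, 7248), (5825, 4614), (5826, 4615), (5827, 6616), (5828, 7252), (5829, 7254), (5830, 4618), (5831, 7258), (5832, 7259), (5833, 6738), (5834, 4621), (5835, 4622), (5836, 7264), (5837, 7265), (5838, 7267), (5839, 7209), (5840, 4627), (5841, 4628), (5842, 7253), (5843, 4629), (5844, 7272), (5845, 7274), (5846, 7278), (5847, 6752), (5848, 4631), (5849, 7283), (5850, 7284), (5851, 6941), (5852, 6757), (5853, 4634), (5854, 4635), (5855, 7291), (5856, 7292), (5857, 7294), (5858, 5065), (5859, 4639), (5860, 4640), (5861, 7300), (5862, 7301), (5863, 7307), (5864, 7303), (5865, 4641), (5866, 7310), (5867, 7237), (5868, 4645), (5869, 4646), (5870, 5870), (5871, 4647), (5872, 7313), (5873, 7315), (5874, 7244), (5875, 7245), (5876, 4653), (5877, 5877), (5878, 4654), (5879, 5879), (5880, 5880), (5881, 7324), (5882, 6798), (5883, 7333), (5884, 6800), (5885, 5885), (5886, 7338), (5887, 6803)]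
    ⟨e3 q5824 (flp_e L122976) q7248, e3 q5825 L85064 q4614, e3 q5826 L85071 q4615, e3 q5827 (flp_e L643027) q6616, e3 q5828 (flp_e L123180) q7252, e3 q5829 (flp_e L123196) q7254, e3 q5830 (flp_e L85174) q4618, e3 q5831 (flp_e L123344) q7258, e3 q5832 (flp_e L123354) q7259, e3 q5833 (flp_e L116637) q6738, e3 q5834 L85223 q4621, e3 q5835 L85231 q4622, e3 q5836 (flp_e L123422) q7264, e3 q5837 (flp_e L123431) q7265, e3 q5838 (flp_e L123445) q7267, e3 q5839 (flp_e L122660) q7209, e3 q5840 L85272 q4627, e3 q5841 L85282 q4628, e3 q5842 (flp_e L123189) q7253, e3 q5843 L85296 q4629, e3 q5844 (flp_e L123487) q7272, e3 q5845 (flp_e L123503) q7274, e3 q5846 L123532 q7278, e3 q5847 (flp_e L116771) q6752, e3 q5848 (flp_e L85336) q4631, e3 q5849 (flp_e L123590) q7283, e3 q5850 (flp_e L123598) q7284, e3 q5851 L576242 q6941, e3 q5852 (flp_e L116811) q6757, e3 q5853 L85381 q4634, e3 q5854 L85388 q4635, e3 q5855 (flp_e L123665) q7291, e3 q5856 (flp_e L123673) q7292, e3 q5857 (flp_e L123690) q7294, e3 q5858 L85422 q5065, e3 q5859 L85430 q4639,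 e3 q5860 L85438 q4640, e3 q5861 (flp_e L123739) q7300, e3 q5862 (flp_e L123748) q7301, e3 q5863 L123792 q7307, e3 q5864 (flp_e L123763) q7303, e3 q5865 (flp_e L85477) q4641, e3 q5866 (flp_e L123823) q7310, e3 q5867 (flp_e L122893) q7237, e3 q5868 L85503 q4645, e3 q5869 L85510 q4646, e3 q5870 L85519 q5870, e3 q5871 L85525 q4647, e3 q5872 (flp_e L123851) q7313, e3 q5873 (flp_e L123868) q7315, e3 q5874 (flp_e L122943) q7244, e3 q5875 (flp_e L122952) q7245, e3 q5876 L85563 q4653, e3 q5877 L85573 q5877, e3 q5878 L85580 q4654, e3 q5879 L85587 q5879, e3 q5880 L85597 q5880, e3 q5881 (flp_e L123935) q7324, e3 q5882 (flp_e L117165) q6798, e3 q5883 L124010 q7333, e3 q5884 (flp_e L117189) q6800, e3 q5885 L85646 q5885, e3 q5886 L124065 q7338, e3 q5887 (flp_e L117217) q6803, trivial⟩ (by decide +kernel)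

theorem ce_e_92 : ∀ r, r < 64 → sm ge (Qf (5888 + r)) = Qf (tab Gen.e (5888 + r)) :=
  edges_tab (sm ge) Qf (tab Gen.e) 5888 [(5888, 4658), (5889, 7343), (5890, 7344), (5891, 6807), (5892, 5892), (5893, 4662), (5894, 4663), (5895, 7349), (5896, 7350), (5897, 7352), (5898, 6814), (5899, 7356), (5900, 6816), (5901, 4667), (5902, 7360), (5903, 7361), (5904, 6820), (5905, 5905), (5906, 4670), (5907, 7366), (5908, 7367), (5909, 7372), (5910, 6826), (5911, 4673), (5912, 4674), (5913, 7375), (5914, 7376), (5915, 7378), (5916, 5916), (5917, 4679), (5918, 4680), (5919, 4854), (5920, 4681), (5921, 7383), (5922, 7385), (5923, 6855), (5924, 7390), (5925, 6857), (5926, 4683), (5927, 7394), (5928, 7395), (5929, 6861), (5930, 5930), (5931, 4686), (5932, 7400), (5933, 7401), (5934, 6881), (5935, 6867), (5936, 4689), (5937, 4690), (5938, 7408), (5939, 7409), (5940, 7411), (5941, 4741), (5942, 4695), (5943, 4696), (5944, 5944), (5945, 4697), (5946, 7416), (5947, 7418), (5948, 7422), (5949, 4699), (5950, 7425), (5951, 7426)]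
    ⟨e3 q5888 (flp_e L85668) q4658, e3 q5889 (flp_e L124112) q7343, e3 q5890 (flp_e L124120) q7344, e3 q5891 (flp_e L117254) q6807, e3 q5892 L85711 q5892, e3 q5893 L85722 q4662, e3 q5894 L85729 q4663, e3 q5895 (flp_e L124165) q7349, e3 q5896 (flp_e L124174) q7350, e3 q5897 (flp_e L124188) q7352, e3 q5898 (flp_e L117317) q6814, e3 q5899 L124229 q7356, e3 q5900 (flp_e L117338) q6816, e3 q5901 (flp_e L85787) q4667, e3 q5902 (flp_e L124282) q7360, e3 q5903 (flp_e L124289) q7361, e3 q5904 (flp_e L117377) q6820, e3 q5905 L85831 q5905, e3 q5906 (flp_e L85837) q4670, e3 q5907 (flp_e L124335) q7366, e3 q5908 (flp_e L124341) q7367, e3 q5909 L124379 q7372, e3 q5910 (flp_e L117426) q6826, e3 q5911 L85879 q4673, e3 q5912 L85885 q4674, e3 q5913 (flp_e L124408) q7375, e3 q5914 (flp_e L124416) q7376, e3 q5915 (flp_e L124433) q7378, e3 q5916 L85921 q5916, e3 q5917 L85926 q4679, e3 q5918 L85933 q4680, e3 q5919 L85942 q4854, e3 q5920 L85948 q4681, e3 q5921 (flp_e L124473) q7383, e3 q5922 (flp_e L124490) q7385, e3 q5923 (flp_e L117675) q6855,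 e3 q5924 L124537 q7390, e3 q5925 (flp_e L117697) q6857, e3 q5926 (flp_e L85997) q4683, e3 q5927 (flp_e L124590) q7394, e3 q5928 (flp_e L124599) q7395, e3 q5929 (flp_e L117734) q6861, e3 q5930 L86041 q5930, e3 q5931 (flp_e L86047) q4686, e3 q5932 (flp_e L124643) q7400, e3 q5933 (flp_e L124651) q7401, e3 q5934 L576567 q6881, e3 q5935 (flp_e L117783) q6867, e3 q5936 L86089 q4689, e3 q5937 L86097 q4690, e3 q5938 (flp_e L124714) q7408, e3 q5939 (flp_e L124722) q7409, e3 q5940 (flp_e L124736) q7411, e3 q5941 L86133 q4741, e3 q5942 L86139 q4695, e3 q5943 L86146 q4696, e3 q5944 L86153 q5944, e3 q5945 L86158 q4697, e3 q5946 (flp_e L124780) q7416, e3 q5947 (flp_e L124794) q7418, e3 q5948 L124821 q7422, e3 q5949 (flp_e L86194) q4699, e3 q5950 (flp_e L124870) q7425, e3 q5951 (flp_e L124878) q7426, trivial⟩ (by decide +kernel)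

theorem ce_e_93 : ∀ r, r < 64 → sm ge (Qf (5952 + r)) = Qf (tab Gen.e (5952 + r)) :=
  edges_tab (sm ge) Qf (tab Gen.e) 5952 [(5952, 6886), (5953, 4702), (5954, 4703), (5955, 7431), (5956, 7432), (5957, 7434), (5958, 5122), (5959, 4707), (5960, 4708), (5961, 7440), (5962, 7441), (5963, 7447), (5964, 7443), (5965, 4709), (5966, 7450), (5967, 4767), (5968, 4713), (5969, 4714), (5970, 4879), (5971, 4715), (5972, 7453), (5973, 7455), (5974, 4774), (5975, 4775), (5976, 4721), (5977, 4886), (5978, 4722), (5979, 4888), (5980, 4889), (5981, 7464), (5982, 7470), (5983, 4724), (5984, 7472), (5985, 7473), (5986, 6946), (5987, 4727), (5988, 4728), (5989, 7478), (5990, 7479), (5991, 7480), (5992, 5133), (5993, 4732), (5994, 4733), (5995, 7486), (5996, 7487), (5997, 7493), (5998, 7489), (5999, 6979), (6000, 7407), (6001, 4738), (6002, 4739), (6003, 6003), (6004, 4740), (6005, 7497), (6006, 7499), (6007, 7414), (6008, 7415), (6009, 4746), (6010, 6010), (6011, 4747), (6012, 6012), (6013, 6013), (6014, 7508), (6015, 4748)]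
    ⟨e3 q5952 (flp_e L117942) q6886, e3 q5953 L86242 q4702, e3 q5954 L86249 q4703, e3 q5955 (flp_e L124952) q7431, e3 q5956 (flp_e L124959) q7432, e3 q5957 (flp_e L124976) q7434, e3 q5958 L86283 q5122, e3 q5959 L86289 q4707, e3 q5960 L86295 q4708, e3 q5961 (flp_e L125022) q7440, e3 q5962 (flp_e L125028) q7441, e3 q5963 L125066 q7447, e3 q5964 (flp_e L125038) q7443, e3 q5965 (flp_e L86327) q4709, e3 q5966 (flp_e L125090) q7450, e3 q5967 L86348 q4767, e3 q5968 L86355 q4713, e3 q5969 L86361 q4714, e3 q5970 L86369 q4879, e3 q5971 L86376 q4715, e3 q5972 (flp_e L125123) q7453, e3 q5973 (flp_e L125140) q7455, e3 q5974 L86402 q4774, e3 q5975 L86409 q4775, e3 q5976 L86416 q4721, e3 q5977 L86425 q4886, e3 q5978 L86431 q4722, e3 q5979 L86438 q4888, e3 q5980 L86446 q4889, e3 q5981 (flp_e L125206) q7464, e3 q5982 L125245 q7470, e3 q5983 (flp_e L86473) q4724, e3 q5984 (flp_e L125302) q7472, e3 q5985 (flp_e L125312) q7473, e3 q5986 (flp_e L118447) q6946, e3 q5987 L86525 q4727, e3 q5988 L86534 q4728, e3 q5989 (flp_e L125387) q7478, e3 q5990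 (flp_e L125397) q7479, e3 q5991 (flp_e L125415) q7480, e3 q5992 L86573 q5133, e3 q5993 L86579 q4732, e3 q5994 L86587 q4733, e3 q5995 (flp_e L125466) q7486, e3 q5996 (flp_e L125475) q7487, e3 q5997 L125513 q7493, e3 q5998 (flp_e L125486) q7489, e3 q5999 (flp_e L553687) q6979, e3 q6000 (flp_e L124707) q7407, e3 q6001 L86648 q4738, e3 q6002 L86657 q4739, e3 q6003 L86666 q6003, e3 q6004 L86673 q4740, e3 q6005 (flp_e L125567) q7497, e3 q6006 (flp_e L125585) q7499, e3 q6007 (flp_e L124764) q7414, e3 q6008 (flp_e L124773) q7415, e3 q6009 L86712 q4746, e3 q6010 L86722 q6010, e3 q6011 L86728 q4747, e3 q6012 L86737 q6012, e3 q6013 L86746 q6013, e3 q6014 (flp_e L125656) q7508, e3 q6015 (flp_e L86757) q4748, trivial⟩ (by decide +kernel)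

theorem ce_e_94 : ∀ r, r < 64 → sm ge (Qf (6016 + r)) = Qf (tab Gen.e (6016 + r)) :=
  edges_tab (sm ge) Qf (tab Gen.e) 6016 [(6016, 7515), (6017, 5149), (6018, 4750), (6019, 4751), (6020, 7520), (6021, 7521), (6022, 7523), (6023, 7430), (6024, 4755), (6025, 4756), (6026, 4899), (6027, 4757), (6028, 7528), (6029, 7530), (6030, 5154), (6031, 5155), (6032, 7439), (6033, 4761), (6034, 4762), (6035, 7545), (6036, 4764), (6037, 7541), (6038, 7549), (6039, 7543), (6040, 4763), (6041, 7552), (6042, 7551), (6043, 4766), (6044, 7451), (6045, 7452), (6046, 4772), (6047, 4918), (6048, 4773), (6049, 4920), (6050, 4921), (6051, 7560), (6052, 7459), (6053, 7460), (6054, 7570), (6055, 7462), (6056, 4927), (6057, 4781), (6058, 4929), (6059, 4930), (6060, 4931), (6061, 4932), (6062, 4933), (6063, 6063), (6064, 4783), (6065, 5172), (6066, 5173), (6067, 6067), (6068, 4786), (6069, 6069), (6070, 6070), (6071, 4791), (6072, 6072), (6073, 6073), (6074, 6074), (6075, 6075), (6076, 7596), (6077, 6077), (6078, 6078), (6079, 4799)]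
    ⟨e3 q6016 (flp_e L125713) q7515, e3 q6017 L86798 q5149, e3 q6018 L86806 q4750, e3 q6019 L86814 q4751, e3 q6020 (flp_e L125808) q7520, e3 q6021 (flp_e L125817) q7521, e3 q6022 (flp_e L125832) q7523, e3 q6023 (flp_e L124944) q7430, e3 q6024 L86886 q4755, e3 q6025 L86894 q4756, e3 q6026 L86904 q4899, e3 q6027 L86913 q4757, e3 q6028 (flp_e L125930) q7528, e3 q6029 (flp_e L125951) q7530, e3 q6030 L86941 q5154, e3 q6031 L86947 q5155, e3 q6032 (flp_e L125016) q7439, e3 q6033 L86958 q4761, e3 q6034 L86965 q4762, e3 q6035 L126057 q7545, e3 q6036 L86976 q4764, e3 q6037 (flp_e L126035) q7541, e3 q6038 L126083 q7549, e3 q6039 (flp_e L126048) q7543, e3 q6040 (flp_e L87000) q4763, e3 q6041 (flp_e L126112) q7552, e3 q6042 (flp_e L126106) q7551, e3 q6043 L87027 q4766, e3 q6044 (flp_e L125107) q7451, e3 q6045 (flp_e L125115) q7452, e3 q6046 L87055 q4772, e3 q6047 L87066 q4918, e3 q6048 L87074 q4773, e3 q6049 L87080 q4920, e3 q6050 L87091 q4921, e3 q6051 (flp_e L126190) q7560, e3 q6052 (flp_e L125171) q7459, e3 q6053 (flp_e L125176) q7460,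 e3 q6054 L126267 q7570, e3 q6055 (flp_e L125191) q7462, e3 q6056 L87134 q4927, e3 q6057 L87141 q4781, e3 q6058 L87149 q4929, e3 q6059 L87160 q4930, e3 q6060 L87166 q4931, e3 q6061 L87176 q4932, e3 q6062 L87182 q4933, e3 q6063 L87331 q6063, e3 q6064 L87337 q4783, e3 q6065 L87394 q5172, e3 q6066 L87401 q5173, e3 q6067 L87411 q6067, e3 q6068 L87417 q4786, e3 q6069 L87510 q6069, e3 q6070 L87519 q6070, e3 q6071 L87526 q4791, e3 q6072 L87537 q6072, e3 q6073 L87550 q6073, e3 q6074 L87575 q6074, e3 q6075 L87583 q6075, e3 q6076 L126943 q7596, e3 q6077 L87597 q6077, e3 q6078 L87608 q6078, e3 q6079 L87613 q4799, trivial⟩ (by decide +kernel)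

theorem ce_e_95 : ∀ r, r < 64 → sm ge (Qf (6080 + r)) = Qf (tab Gen.e (6080 + r)) :=
  edges_tab (sm ge) Qf (tab Gen.e) 6080 [(6080, 6080), (6081, 6081), (6082, 6082), (6083, 6083), (6084, 6084), (6085, 5192), (6086, 5193), (6087, 6087), (6088, 4802), (6089, 6089), (6090, 6090), (6091, 4807), (6092, 4937), (6093, 4939), (6094, 7617), (6095, 5198), (6096, 5199), (6097, 6097), (6098, 5200), (6099, 6099), (6100, 6100), (6101, 4814), (6102, 6102), (6103, 6103), (6104, 6104), (6105, 6105), (6106, 7635), (6107, 6107), (6108, 4946), (6109, 4822), (6110, 4948), (6111, 4949), (6112, 4950), (6113, 4951), (6114, 4952), (6115, 6115), (6116, 7648), (6117, 6117), (6118, 7649), (6119, 4825), (6120, 7647), (6121, 4956), (6122, 4954), (6123, 4957), (6124, 4953), (6125, 4958), (6126, 4959), (6127, 4960), (6128, 4961), (6129, 4834), (6130, 6574), (6131, 7660), (6132, 6132), (6133, 4837), (6134, 4838), (6135, 6586), (6136, 7663), (6137, 7665), (6138, 5206), (6139, 4842), (6140, 4843), (6141, 6583), (6142, 7668), (6143, 7674)]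
    ⟨e3 q6080 L87623 q6080, e3 q6081 L87632 q6081, e3 q6082 L87638 q6082, e3 q6083 L87646 q6083, e3 q6084 L87651 q6084, e3 q6085 L87716 q5192, e3 q6086 L87722 q5193, e3 q6087 L87731 q6087, e3 q6088 L87738 q4802, e3 q6089 L87792 q6089, e3 q6090 L87800 q6090, e3 q6091 L87808 q4807, e3 q6092 L87820 q4937, e3 q6093 L87835 q4939, e3 q6094 L127307 q7617, e3 q6095 L87869 q5198, e3 q6096 L87875 q5199, e3 q6097 L87883 q6097, e3 q6098 L87889 q5200, e3 q6099 L87897 q6099, e3 q6100 L87905 q6100, e3 q6101 L87913 q4814, e3 q6102 L87923 q6102, e3 q6103 L87935 q6103, e3 q6104 L87960 q6104, e3 q6105 L87966 q6105, e3 q6106 L127472 q7635, e3 q6107 L87981 q6107, e3 q6108 L87991 q4946, e3 q6109 L87997 q4822, e3 q6110 L88004 q4948, e3 q6111 L88014 q4949, e3 q6112 L88020 q4950, e3 q6113 L88029 q4951, e3 q6114 L88036 q4952, e3 q6115 L88043 q6115, e3 q6116 L127574 q7648, e3 q6117 L88058 q6117, e3 q6118 (flp_e L647064) q7649, e3 q6119 (flp_e L88069) q4825, e3 q6120 (flp_e L647048) q7647, e3 q6121 L647409 q4956, e3 q6122 (flp_e L645575) q4954, e3 q6123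 L88104 q4957, e3 q6124 L647223 q4953, e3 q6125 L88121 q4958, e3 q6126 L88128 q4959, e3 q6127 L88137 q4960, e3 q6128 L88145 q4961, e3 q6129 (flp_e L88169) q4834, e3 q6130 (flp_e L645295) q6574, e3 q6131 (flp_e L127775) q7660, e3 q6132 L88214 q6132, e3 q6133 L88225 q4837, e3 q6134 L88233 q4838, e3 q6135 L640617 q6586, e3 q6136 (flp_e L127866) q7663, e3 q6137 (flp_e L127884) q7665, e3 q6138 L88275 q5206, e3 q6139 L88282 q4842, e3 q6140 L88290 q4843, e3 q6141 L630802 q6583, e3 q6142 (flp_e L127950) q7668, e3 q6143 L127998 q7674, trivial⟩ (by decide +kernel)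

theorem ce_e_96 : ∀ r, r < 64 → sm ge (Qf (6144 + r)) = Qf (tab Gen.e (6144 + r)) :=
  edges_tab (sm ge) Qf (tab Gen.e) 6144 [(6144, 7670), (6145, 4844), (6146, 7677), (6147, 6147), (6148, 4848), (6149, 4849), (6150, 7377), (6151, 4850), (6152, 7679), (6153, 7681), (6154, 6154), (6155, 6155), (6156, 4856), (6157, 7384), (6158, 4857), (6159, 7386), (6160, 7387), (6161, 7689), (6162, 5213), (6163, 4859), (6164, 4860), (6165, 6589), (6166, 7695), (6167, 7697), (6168, 4896), (6169, 4864), (6170, 4865), (6171, 7433), (6172, 4866), (6173, 7701), (6174, 7703), (6175, 5217), (6176, 5218), (6177, 4903), (6178, 4870), (6179, 4871), (6180, 7714), (6181, 4873), (6182, 7710), (6183, 7718), (6184, 7712), (6185, 4872), (6186, 7721), (6187, 7720), (6188, 4875), (6189, 4915), (6190, 4916), (6191, 4881), (6192, 7454), (6193, 4882), (6194, 7456), (6195, 7457), (6196, 7728), (6197, 4923), (6198, 4924), (6199, 7738), (6200, 4926), (6201, 7463), (6202, 4890), (6203, 7465), (6204, 7466), (6205, 7467), (6206, 7468), (6207, 7469)]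
    ⟨e3 q6144 (flp_e L127965) q7670, e3 q6145 (flp_e L88333) q4844, e3 q6146 (flp_e L128026) q7677, e3 q6147 L88356 q6147, e3 q6148 L88363 q4848, e3 q6149 L88372 q4849, e3 q6150 (flp_e L124426) q7377, e3 q6151 L88388 q4850, e3 q6152 (flp_e L128061) q7679, e3 q6153 (flp_e L128078) q7681, e3 q6154 L88416 q6154, e3 q6155 L88424 q6155, e3 q6156 L88432 q4856, e3 q6157 (flp_e L124484) q7384, e3 q6158 L88448 q4857, e3 q6159 (flp_e L124497) q7386, e3 q6160 (flp_e L124507) q7387, e3 q6161 (flp_e L128155) q7689, e3 q6162 L88532 q5213, e3 q6163 L88540 q4859, e3 q6164 L88549 q4860, e3 q6165 (flp_e L640605) q6589, e3 q6166 (flp_e L128336) q7695, e3 q6167 (flp_e L128351) q7697, e3 q6168 L88614 q4896, e3 q6169 L88623 q4864, e3 q6170 L88631 q4865, e3 q6171 (flp_e L124968) q7433, e3 q6172 L88647 q4866, e3 q6173 (flp_e L128451) q7701, e3 q6174 (flp_e L128468) q7703, e3 q6175 L88676 q5217, e3 q6176 L88683 q5218, e3 q6177 L88692 q4903, e3 q6178 L88700 q4870, e3 q6179 L88708 q4871, e3 q6180 L128586 q7714, e3 q6181 L88721 q4873, e3 q6182 (flp_e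 L128562) q7710, e3 q6183 L128616 q7718, e3 q6184 (flp_e L128576) q7712, e3 q6185 (flp_e L88753) q4872, e3 q6186 (flp_e L128642) q7721, e3 q6187 (flp_e L128637) q7720, e3 q6188 L88775 q4875, e3 q6189 L88792 q4915, e3 q6190 L88801 q4916, e3 q6191 L88810 q4881, e3 q6192 (flp_e L125133) q7454, e3 q6193 L88825 q4882, e3 q6194 (flp_e L125146) q7456, e3 q6195 (flp_e L125155) q7457, e3 q6196 (flp_e L128723) q7728, e3 q6197 L88855 q4923, e3 q6198 L88863 q4924, e3 q6199 L128795 q7738, e3 q6200 L88880 q4926, e3 q6201 (flp_e L125200) q7463, e3 q6202 L88896 q4890, e3 q6203 (flp_e L125213) q7465, e3 q6204 (flp_e L125223) q7466, e3 q6205 (flp_e L125229) q7467, e3 q6206 (flp_e L125237) q7468, e3 q6207 (flp_e L125242) q7469, trivial⟩ (by decide +kernel)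

theorem ce_e_97 : ∀ r, r < 64 → sm ge (Qf (6208 + r)) = Qf (tab Gen.e (6208 + r)) :=
  edges_tab (sm ge) Qf (tab Gen.e) 6208 [(6208, 6613), (6209, 4893), (6210, 4894), (6211, 7266), (6212, 4895), (6213, 7749), (6214, 7751), (6215, 6607), (6216, 7700), (6217, 4901), (6218, 7529), (6219, 4902), (6220, 7531), (6221, 7532), (6222, 7759), (6223, 6602), (6224, 7709), (6225, 4908), (6226, 7771), (6227, 4910), (6228, 7774), (6229, 4906), (6230, 7777), (6231, 7779), (6232, 7769), (6233, 4909), (6234, 7782), (6235, 4913), (6236, 4912), (6237, 7783), (6238, 7784), (6239, 6599), (6240, 7724), (6241, 7791), (6242, 7726), (6243, 7559), (6244, 4922), (6245, 7561), (6246, 7562), (6247, 7563), (6248, 7564), (6249, 7565), (6250, 7734), (6251, 7656), (6252, 7736), (6253, 7653), (6254, 4925), (6255, 7805), (6256, 7572), (6257, 7573), (6258, 7574), (6259, 7575), (6260, 7576), (6261, 7577), (6262, 7578), (6263, 7579), (6264, 6264), (6265, 6265), (6266, 7814), (6267, 6267), (6268, 7614), (6269, 4941), (6270, 7615), (6271, 7077)]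
    ⟨e3 q6208 L640841 q6613, e3 q6209 L89031 q4893, e3 q6210 L89041 q4894, e3 q6211 L549269 q7266, e3 q6212 L89058 q4895, e3 q6213 (flp_e L129034) q7749, e3 q6214 (flp_e L129052) q7751, e3 q6215 L647727 q6607, e3 q6216 (flp_e L128441) q7700, e3 q6217 L89152 q4901, e3 q6218 (flp_e L125942) q7529, e3 q6219 L89171 q4902, e3 q6220 (flp_e L125959) q7531, e3 q6221 (flp_e L125971) q7532, e3 q6222 (flp_e L129220) q7759, e3 q6223 L647714 q6602, e3 q6224 (flp_e L128552) q7709, e3 q6225 L89224 q4908, e3 q6226 L129327 q7771, e3 q6227 L89240 q4910, e3 q6228 L129350 q7774, e3 q6229 (flp_e L89252) q4906, e3 q6230 (flp_e L129377) q7777, e3 q6231 L129387 q7779, e3 q6232 (flp_e L129314) q7769, e3 q6233 (flp_e L89283) q4909, e3 q6234 (flp_e L129411) q7782, e3 q6235 L89303 q4913, e3 q6236 L89308 q4912, e3 q6237 (flp_e L129426) q7783, e3 q6238 (flp_e L129433) q7784, e3 q6239 (flp_e L647859) q6599, e3 q6240 (flp_e L128688) q7724, e3 q6241 L129509 q7791, e3 q6242 (flp_e L128706) q7726, e3 q6243 (flp_e L126182) q7559, e3 q6244 L89388 q4922, e3 q6245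 (flp_e L126197) q7561, e3 q6246 (flp_e L126209) q7562, e3 q6247 (flp_e L126215) q7563, e3 q6248 (flp_e L126226) q7564, e3 q6249 (flp_e L126233) q7565, e3 q6250 (flp_e L128763) q7734, e3 q6251 (flp_e L647250) q7656, e3 q6252 (flp_e L128780) q7736, e3 q6253 L647276 q7653, e3 q6254 (flp_e L89466) q4925, e3 q6255 (flp_e L129660) q7805, e3 q6256 (flp_e L126284) q7572, e3 q6257 (flp_e L126296) q7573, e3 q6258 (flp_e L126303) q7574, e3 q6259 (flp_e L126314) q7575, e3 q6260 (flp_e L126321) q7576, e3 q6261 (flp_e L126329) q7577, e3 q6262 (flp_e L126339) q7578, e3 q6263 (flp_e L126347) q7579, e3 q6264 L89550 q6264, e3 q6265 L89560 q6265, e3 q6266 L129787 q7814, e3 q6267 L89579 q6267, e3 q6268 (flp_e L127253) q7614, e3 q6269 L89598 q4941, e3 q6270 (flp_e L127269) q7615, e3 q6271 (flp_e L546625) q7077, trivial⟩ (by decide +kernel)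

theorem ce_e_98 : ∀ r, r < 64 → sm ge (Qf (6272 + r)) = Qf (tab Gen.e (6272 + r)) :=
  edges_tab (sm ge) Qf (tab Gen.e) 6272 [(6272, 7616), (6273, 7078), (6274, 7072), (6275, 7655), (6276, 7826), (6277, 4944), (6278, 7652), (6279, 7637), (6280, 7638), (6281, 7639), (6282, 7640), (6283, 7641), (6284, 7642), (6285, 7643), (6286, 7644), (6287, 7654), (6288, 7657), (6289, 7658), (6290, 4965), (6291, 4966), (6292, 4967), (6293, 6540), (6294, 6294), (6295, 6295), (6296, 6296), (6297, 6297), (6298, 6298), (6299, 5008), (6300, 6300), (6301, 5018), (6302, 5011), (6303, 6303), (6304, 6304), (6305, 5210), (6306, 6306), (6307, 6307), (6308, 7179), (6309, 4993), (6310, 5039), (6311, 5030), (6312, 7166), (6313, 4999), (6314, 5205), (6315, 5002), (6316, 5222), (6317, 5209), (6318, 7836), (6319, 5010), (6320, 5016), (6321, 6321), (6322, 7837), (6323, 6323), (6324, 5096), (6325, 5019), (6326, 5100), (6327, 5099), (6328, 7842), (6329, 5088), (6330, 5027), (6331, 7844), (6332, 5029), (6333, 5037), (6334, 7846), (6335, 5034)]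
    ⟨e3 q6272 (flp_e L127286) q7616, e3 q6273 (flp_e L546647) q7078, e3 q6274 L546655 q7072, e3 q6275 L647511 q7655, e3 q6276 L129920 q7826, e3 q6277 (flp_e L89678) q4944, e3 q6278 L647421 q7652, e3 q6279 (flp_e L127489) q7637, e3 q6280 (flp_e L127500) q7638, e3 q6281 (flp_e L127507) q7639, e3 q6282 (flp_e L127517) q7640, e3 q6283 (flp_e L127525) q7641, e3 q6284 (flp_e L127533) q7642, e3 q6285 (flp_e L127542) q7643, e3 q6286 (flp_e L127549) q7644, e3 q6287 (flp_e L127654) q7654, e3 q6288 (flp_e L127683) q7657, e3 q6289 (flp_e L127690) q7658, e3 q6290 L90112 q4965, e3 q6291 L90124 q4966, e3 q6292 (flp_e L90244) q4967, e3 q6293 (flp_e L638945) q6540, e3 q6294 L90324 q6294, e3 q6295 L90350 q6295, e3 q6296 L90358 q6296, e3 q6297 L90421 q6297, e3 q6298 L90652 q6298, e3 q6299 L90716 q5008, e3 q6300 L90748 q6300, e3 q6301 L625414 q5018, e3 q6302 L90775 q5011, e3 q6303 L90835 q6303, e3 q6304 L90854 q6304, e3 q6305 L621778 q5210, e3 q6306 L90879 q6306, e3 q6307 L91178 q6307, e3 q6308 L625369 q7179, e3 q6309 (flp_e L91323) q4993, e3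 q6310 L625347 q5039, e3 q6311 L91359 q5030, e3 q6312 L619794 q7166, e3 q6313 (flp_e L91431) q4999, e3 q6314 L626835 q5205, e3 q6315 (flp_e L91477) q5002, e3 q6316 (flp_e L625073) q5222, e3 q6317 L625305 q5209, e3 q6318 L133088 q7836, e3 q6319 (flp_e L91844) q5010, e3 q6320 (flp_e L623297) q5016, e3 q6321 L91946 q6321, e3 q6322 L622513 q7837, e3 q6323 L91968 q6323, e3 q6324 L623281 q5096, e3 q6325 (flp_e L92022) q5019, e3 q6326 (flp_e L622491) q5100, e3 q6327 (flp_e L622566) q5099, e3 q6328 L133436 q7842, e3 q6329 L622441 q5088, e3 q6330 (flp_e L92491) q5027, e3 q6331 (flp_e L134078) q7844, e3 q6332 L92539 q5029, e3 q6333 (flp_e L622736) q5037, e3 q6334 L134276 q7846, e3 q6335 (flp_e L92664) q5034, trivial⟩ (by decide +kernel)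

theorem ce_e_99 : ∀ r, r < 64 → sm ge (Qf (6336 + r)) = Qf (tab Gen.e (6336 + r)) :=
  edges_tab (sm ge) Qf (tab Gen.e) 6336 [(6336, 7845), (6337, 7849), (6338, 5038), (6339, 5121), (6340, 7228), (6341, 5041), (6342, 5042), (6343, 5126), (6344, 5125), (6345, 7854), (6346, 5043), (6347, 5048), (6348, 5111), (6349, 7257), (6350, 5052), (6351, 7859), (6352, 5063), (6353, 5054), (6354, 5057), (6355, 7861), (6356, 7282), (6357, 5059), (6358, 5060), (6359, 7858), (6360, 7865), (6361, 5064), (6362, 6362), (6363, 5152), (6364, 7297), (6365, 7298), (6366, 5160), (6367, 5068), (6368, 5069), (6369, 7876), (6370, 5156), (6371, 7878), (6372, 5070), (6373, 7879), (6374, 5078), (6375, 6375), (6376, 6376), (6377, 5138), (6378, 7882), (6379, 5083), (6380, 5089), (6381, 6381), (6382, 5085), (6383, 7838), (6384, 7883), (6385, 5094), (6386, 7839), (6387, 7365), (6388, 7887), (6389, 5101), (6390, 5102), (6391, 7890), (6392, 5104), (6393, 5112), (6394, 7399), (6395, 5107), (6396, 5108), (6397, 7847), (6398, 7891), (6399, 7424)]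
    ⟨e3 q6336 (flp_e L622745) q7845, e3 q6337 (flp_e L134343) q7849, e3 q6338 L92717 q5038, e3 q6339 L622763 q5121, e3 q6340 (flp_e L122816) q7228, e3 q6341 L92761 q5041, e3 q6342 L92769 q5042, e3 q6343 (flp_e L622330) q5126, e3 q6344 (flp_e L622267) q5125, e3 q6345 L134543 q7854, e3 q6346 (flp_e L92805) q5043, e3 q6347 L92853 q5048, e3 q6348 L623074 q5111, e3 q6349 (flp_e L123336) q7257, e3 q6350 L93431 q5052, e3 q6351 (flp_e L135500) q7859, e3 q6352 (flp_e L625023) q5063, e3 q6353 L93506 q5054, e3 q6354 (flp_e L93629) q5057, e3 q6355 (flp_e L135777) q7861, e3 q6356 (flp_e L123582) q7282, e3 q6357 L93688 q5059, e3 q6358 L93696 q5060, e3 q6359 (flp_e L624806) q7858, e3 q6360 (flp_e L135891) q7865, e3 q6361 L93771 q5064, e3 q6362 L93783 q6362, e3 q6363 L624756 q5152, e3 q6364 (flp_e L123717) q7297, e3 q6365 (flp_e L123724) q7298, e3 q6366 (flp_e L624862) q5160, e3 q6367 L93841 q5068, e3 q6368 L93850 q5069, e3 q6369 L136140 q7876, e3 q6370 L622853 q5156, e3 q6371 L136172 q7878, e3 q6372 (flp_e L93894) q5070, e3 q6373 (flp_e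 L136194) q7879, e3 q6374 L93967 q5078, e3 q6375 L93973 q6375, e3 q6376 L93984 q6376, e3 q6377 (flp_e L624733) q5138, e3 q6378 L136403 q7882, e3 q6379 (flp_e L94102) q5083, e3 q6380 L623399 q5089, e3 q6381 L94155 q6381, e3 q6382 (flp_e L94162) q5085, e3 q6383 L622524 q7838, e3 q6384 (flp_e L622594) q7883, e3 q6385 (flp_e L94336) q5094, e3 q6386 (flp_e L622540) q7839, e3 q6387 (flp_e L124329) q7365, e3 q6388 L137005 q7887, e3 q6389 (flp_e L94486) q5101, e3 q6390 (flp_e L94658) q5102, e3 q6391 (flp_e L137279) q7890, e3 q6392 L94710 q5104, e3 q6393 (flp_e L624929) q5112, e3 q6394 (flp_e L124637) q7399, e3 q6395 L94767 q5107, e3 q6396 L94775 q5108, e3 q6397 (flp_e L622386) q7847, e3 q6398 (flp_e L622806) q7891, e3 q6399 (flp_e L124862) q7424, trivial⟩ (by decide +kernel)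

theorem ce_e_100 : ∀ r, r < 64 → sm ge (Qf (6400 + r)) = Qf (tab Gen.e (6400 + r)) :=
  edges_tab (sm ge) Qf (tab Gen.e) 6400 [(6400, 5119), (6401, 7850), (6402, 7437), (6403, 7438), (6404, 7900), (6405, 7901), (6406, 5127), (6407, 7902), (6408, 7048), (6409, 5130), (6410, 7907), (6411, 5142), (6412, 5132), (6413, 7483), (6414, 7484), (6415, 7862), (6416, 5136), (6417, 5137), (6418, 7514), (6419, 7906), (6420, 6420), (6421, 6421), (6422, 7517), (6423, 7518), (6424, 7867), (6425, 5151), (6426, 7920), (6427, 7535), (6428, 7536), (6429, 7925), (6430, 7538), (6431, 7927), (6432, 5159), (6433, 7929), (6434, 5161), (6435, 5163), (6436, 7931), (6437, 7047), (6438, 6964), (6439, 6439), (6440, 5166), (6441, 6441), (6442, 5171), (6443, 6443), (6444, 6444), (6445, 7938), (6446, 7582), (6447, 7583), (6448, 6920), (6449, 7584), (6450, 6450), (6451, 6451), (6452, 5178), (6453, 6919), (6454, 6917), (6455, 6455), (6456, 6456), (6457, 5278), (6458, 6458), (6459, 6459), (6460, 7058), (6461, 7056), (6462, 7059), (6463, 6463)]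
    ⟨e3 q6400 L95005 q5119, e3 q6401 L622785 q7850, e3 q6402 (flp_e L125005) q7437, e3 q6403 (flp_e L125010) q7438, e3 q6404 L138045 q7900, e3 q6405 L138070 q7901, e3 q6406 (flp_e L95205) q5127, e3 q6407 (flp_e L138090) q7902, e3 q6408 L590617 q7048, e3 q6409 L95458 q5130, e3 q6410 (flp_e L138452) q7907, e3 q6411 (flp_e L624922) q5142, e3 q6412 L95542 q5132, e3 q6413 (flp_e L125445) q7483, e3 q6414 (flp_e L125453) q7484, e3 q6415 (flp_e L622837) q7862, e3 q6416 L95626 q5136, e3 q6417 L95635 q5137, e3 q6418 L551409 q7514, e3 q6419 (flp_e L624714) q7906, e3 q6420 L95735 q6420, e3 q6421 L95750 q6421, e3 q6422 (flp_e L125785) q7517, e3 q6423 (flp_e L125793) q7518, e3 q6424 L624769 q7867, e3 q6425 L95972 q5151, e3 q6426 L139377 q7920, e3 q6427 (flp_e L125996) q7535, e3 q6428 (flp_e L126003) q7536, e3 q6429 L139417 q7925, e3 q6430 (flp_e L126016) q7538, e3 q6431 L139472 q7927, e3 q6432 (flp_e L96192) q5159, e3 q6433 L139506 q7929, e3 q6434 (flp_e L96219) q5161, e3 q6435 L96238 q5163, e3 q6436 (flp_e L139544) q7931, e3 q6437 (flp_e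 L561884) q7047, e3 q6438 (flp_e L561935) q6964, e3 q6439 L96430 q6439, e3 q6440 L96438 q5166, e3 q6441 L96513 q6441, e3 q6442 L96524 q5171, e3 q6443 L96539 q6443, e3 q6444 L96544 q6444, e3 q6445 L139929 q7938, e3 q6446 (flp_e L126668) q7582, e3 q6447 (flp_e L126676) q7583, e3 q6448 (flp_e L537190) q6920, e3 q6449 (flp_e L126689) q7584, e3 q6450 L96588 q6450, e3 q6451 L96598 q6451, e3 q6452 L96608 q5178, e3 q6453 (flp_e L537334) q6919, e3 q6454 L537093 q6917, e3 q6455 L96703 q6455, e3 q6456 L96709 q6456, e3 q6457 (flp_e L616980) q5278, e3 q6458 L96756 q6458, e3 q6459 L96765 q6459, e3 q6460 L561568 q7058, e3 q6461 L561676 q7056, e3 q6462 L561647 q7059, e3 q6463 L96808 q6463, trivial⟩ (by decide +kernel)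

theorem ce_e_101 : ∀ r, r < 64 → sm ge (Qf (6464 + r)) = Qf (tab Gen.e (6464 + r)) :=
  edges_tab (sm ge) Qf (tab Gen.e) 6464 [(6464, 5191), (6465, 7957), (6466, 7607), (6467, 7608), (6468, 7609), (6469, 6469), (6470, 5197), (6471, 7962), (6472, 7963), (6473, 7620), (6474, 7622), (6475, 6576), (6476, 5203), (6477, 6565), (6478, 6572), (6479, 6684), (6480, 7969), (6481, 7970), (6482, 5211), (6483, 7971), (6484, 6592), (6485, 6691), (6486, 5215), (6487, 6585), (6488, 6716), (6489, 7977), (6490, 7708), (6491, 7979), (6492, 7980), (6493, 5221), (6494, 7982), (6495, 5223), (6496, 5225), (6497, 7984), (6498, 5228), (6499, 7983), (6500, 5231), (6501, 7988), (6502, 6502), (6503, 6503), (6504, 6504), (6505, 6552), (6506, 6506), (6507, 7993), (6508, 6508), (6509, 7995), (6510, 7125), (6511, 5239), (6512, 5240), (6513, 5242), (6514, 7968), (6515, 6515), (6516, 7136), (6517, 5246), (6518, 7132), (6519, 7981), (6520, 5251), (6521, 7975), (6522, 5256), (6523, 8000), (6524, 8002), (6525, 5259), (6526, 6526), (6527, 5263)]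
    ⟨e3 q6464 L96817 q5191, e3 q6465 L140267 q7957, e3 q6466 (flp_e L127114) q7607, e3 q6467 (flp_e L127121) q7608, e3 q6468 (flp_e L127137) q7609, e3 q6469 L96855 q6469, e3 q6470 (flp_e L96869) q5197, e3 q6471 (flp_e L140318) q7962, e3 q6472 (flp_e L140323) q7963, e3 q6473 (flp_e L127328) q7620, e3 q6474 (flp_e L127344) q7622, e3 q6475 (flp_e L643979) q6576, e3 q6476 L96979 q5203, e3 q6477 (flp_e L639814) q6565, e3 q6478 (flp_e L645286) q6572, e3 q6479 L644846 q6684, e3 q6480 L140782 q7969, e3 q6481 L140817 q7970, e3 q6482 (flp_e L97215) q5211, e3 q6483 (flp_e L140835) q7971, e3 q6484 (flp_e L643900) q6592, e3 q6485 L642202 q6691, e3 q6486 L97537 q5215, e3 q6487 (flp_e L642284) q6585, e3 q6488 (flp_e L642611) q6716, e3 q6489 L141508 q7977, e3 q6490 (flp_e L128533) q7708, e3 q6491 L141544 q7979, e3 q6492 L141566 q7980, e3 q6493 (flp_e L97756) q5221, e3 q6494 L141598 q7982, e3 q6495 (flp_e L97785) q5223, e3 q6496 L97802 q5225, e3 q6497 (flp_e L141635) q7984, e3 q6498 (flp_e L98130) q5228, e3 q6499 (flp_e L141615) q7983, e3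 q6500 L98167 q5231, e3 q6501 (flp_e L142094) q7988, e3 q6502 L98310 q6502, e3 q6503 L98318 q6503, e3 q6504 L98329 q6504, e3 q6505 (flp_e L642103) q6552, e3 q6506 L98490 q6506, e3 q6507 L142590 q7993, e3 q6508 L98505 q6508, e3 q6509 L142628 q7995, e3 q6510 L644797 q7125, e3 q6511 (flp_e L98541) q5239, e3 q6512 (flp_e L98555) q5240, e3 q6513 L98580 q5242, e3 q6514 (flp_e L644866) q7968, e3 q6515 L98879 q6515, e3 q6516 L641785 q7136, e3 q6517 (flp_e L98985) q5246, e3 q6518 L641815 q7132, e3 q6519 (flp_e L141583) q7981, e3 q6520 L99039 q5251, e3 q6521 L642559 q7975, e3 q6522 (flp_e L99255) q5256, e3 q6523 (flp_e L143639) q8000, e3 q6524 L143687 q8002, e3 q6525 L99319 q5259, e3 q6526 L99439 q6526, e3 q6527 L99601 q5263, trivial⟩ (by decide +kernel)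

theorem ce_e_102 : ∀ r, r < 64 → sm ge (Qf (6528 + r)) = Qf (tab Gen.e (6528 + r)) :=
  edges_tab (sm ge) Qf (tab Gen.e) 6528 [(6528, 6543), (6529, 5265), (6530, 6530), (6531, 6531), (6532, 6532), (6533, 6533), (6534, 6534), (6535, 5273), (6536, 6536), (6537, 6537), (6538, 5688), (6539, 5287), (6540, 6293), (6541, 5288), (6542, 5689), (6543, 6528), (6544, 5290), (6545, 6545), (6546, 6546), (6547, 6547), (6548, 6548), (6549, 5757), (6550, 6550), (6551, 6551), (6552, 6505), (6553, 5298), (6554, 6554), (6555, 6555), (6556, 6556), (6557, 5301), (6558, 6558), (6559, 5315), (6560, 5756), (6561, 6561), (6562, 5318), (6563, 5319), (6564, 5321), (6565, 6477), (6566, 5325), (6567, 5309), (6568, 5787), (6569, 5766), (6570, 5330), (6571, 6571), (6572, 6478), (6573, 6573), (6574, 6130), (6575, 6575), (6576, 6475), (6577, 5316), (6578, 5754), (6579, 8012), (6580, 6580), (6581, 5728), (6582, 6582), (6583, 6141), (6584, 6584), (6585, 6487), (6586, 6135), (6587, 6587), (6588, 5323), (6589, 6165), (6590, 8021), (6591, 6591)]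
    ⟨e3 q6528 L639258 q6543, e3 q6529 (flp_e L99933) q5265, e3 q6530 L100268 q6530, e3 q6531 L100709 q6531, e3 q6532 L108500 q6532, e3 q6533 L108512 q6533, e3 q6534 L108530 q6534, e3 q6535 L108537 q5273, e3 q6536 L109090 q6536, e3 q6537 L113552 q6537, e3 q6538 L639210 q5688, e3 q6539 (flp_e L114587) q5287, e3 q6540 L638945 q6293, e3 q6541 (flp_e L114605) q5288, e3 q6542 L639100 q5689, e3 q6543 (flp_e L639258) q6528, e3 q6544 (flp_e L114634) q5290, e3 q6545 L114651 q6545, e3 q6546 L114661 q6546, e3 q6547 L114668 q6547, e3 q6548 L114694 q6548, e3 q6549 L639678 q5757, e3 q6550 L114716 q6550, e3 q6551 L114726 q6551, e3 q6552 L642103 q6505, e3 q6553 (flp_e L114742) q5298, e3 q6554 L114760 q6554, e3 q6555 L114770 q6555, e3 q6556 L114775 q6556, e3 q6557 (flp_e L114781) q5301, e3 q6558 L114799 q6558, e3 q6559 L114810 q5315, e3 q6560 (flp_e L643130) q5756, e3 q6561 L114823 q6561, e3 q6562 L114833 q5318, e3 q6563 L114842 q5319, e3 q6564 L114866 q5321, e3 q6565 L639814 q6477, e3 q6566 L114894 q5325, e3 q6567 (flp_e L114900) q5309, e3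 q6568 L643617 q5787, e3 q6569 (flp_e L643227) q5766, e3 q6570 L114934 q5330, e3 q6571 L114949 q6571, e3 q6572 L645286 q6478, e3 q6573 L114963 q6573, e3 q6574 L645295 q6130, e3 q6575 L114983 q6575, e3 q6576 L643979 q6475, e3 q6577 (flp_e L114998) q5316, e3 q6578 L643962 q5754, e3 q6579 (flp_e L166593) q8012, e3 q6580 L115030 q6580, e3 q6581 (flp_e L643908) q5728, e3 q6582 L115050 q6582, e3 q6583 (flp_e L630802) q6141, e3 q6584 L115068 q6584, e3 q6585 L642284 q6487, e3 q6586 (flp_e L640617) q6135, e3 q6587 L115096 q6587, e3 q6588 (flp_e L115099) q5323, e3 q6589 L640605 q6165, e3 q6590 (flp_e L166753) q8021, e3 q6591 L115128 q6591, trivial⟩ (by decide +kernel)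

theorem ce_e_103 : ∀ r, r < 64 → sm ge (Qf (6592 + r)) = Qf (tab Gen.e (6592 + r)) :=
  edges_tab (sm ge) Qf (tab Gen.e) 6592 [(6592, 6484), (6593, 5327), (6594, 5328), (6595, 5784), (6596, 8024), (6597, 8026), (6598, 6598), (6599, 6239), (6600, 6600), (6601, 5332), (6602, 6223), (6603, 8033), (6604, 6604), (6605, 6605), (6606, 5335), (6607, 6215), (6608, 8036), (6609, 8040), (6610, 6610), (6611, 5338), (6612, 5339), (6613, 6208), (6614, 8042), (6615, 8044), (6616, 5827), (6617, 5344), (6618, 5345), (6619, 5458), (6620, 5346), (6621, 8048), (6622, 8050), (6623, 5347), (6624, 5694), (6625, 6625), (6626, 6626), (6627, 5350), (6628, 5698), (6629, 6629), (6630, 8057), (6631, 5701), (6632, 6632), (6633, 6633), (6634, 5708), (6635, 5384), (6636, 8068), (6637, 5711), (6638, 5387), (6639, 5388), (6640, 5714), (6641, 5390), (6642, 5716), (6643, 8075), (6644, 5718), (6645, 5394), (6646, 5362), (6647, 8078), (6648, 8079), (6649, 5723), (6650, 5399), (6651, 5732), (6652, 8081), (6653, 5734), (6654, 5403), (6655, 5368)]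
    ⟨e3 q6592 L643900 q6484, e3 q6593 L115146 q5327, e3 q6594 L115153 q5328, e3 q6595 L643885 q5784, e3 q6596 (flp_e L166803) q8024, e3 q6597 (flp_e L166817) q8026, e3 q6598 L115187 q6598, e3 q6599 L647859 q6239, e3 q6600 L115207 q6600, e3 q6601 (flp_e L115209) q5332, e3 q6602 (flp_e L647714) q6223, e3 q6603 (flp_e L166916) q8033, e3 q6604 L115243 q6604, e3 q6605 L115252 q6605, e3 q6606 (flp_e L115257) q5335, e3 q6607 (flp_e L647727) q6215, e3 q6608 (flp_e L166970) q8036, e3 q6609 L167007 q8040, e3 q6610 L115292 q6610, e3 q6611 L115300 q5338, e3 q6612 L115307 q5339, e3 q6613 (flp_e L640841) q6208, e3 q6614 (flp_e L167043) q8042, e3 q6615 (flp_e L167060) q8044, e3 q6616 L643027 q5827, e3 q6617 L115349 q5344, e3 q6618 L115357 q5345, e3 q6619 L115366 q5458, e3 q6620 L115373 q5346, e3 q6621 (flp_e L167102) q8048, e3 q6622 (flp_e L167119) q8050, e3 q6623 (flp_e L115409) q5347, e3 q6624 L115429 q5694, e3 q6625 L115440 q6625, e3 q6626 L115446 q6626, e3 q6627 (flp_e L115452) q5350, e3 q6628 L115468 q5698, e3 q6629 L115476 q6629,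 e3 q6630 L643456 q8057, e3 q6631 L115488 q5701, e3 q6632 L115498 q6632, e3 q6633 L115506 q6633, e3 q6634 L115529 q5708, e3 q6635 L115541 q5384, e3 q6636 L167382 q8068, e3 q6637 L115557 q5711, e3 q6638 L115567 q5387, e3 q6639 L115577 q5388, e3 q6640 L115591 q5714, e3 q6641 L115601 q5390, e3 q6642 L115605 q5716, e3 q6643 L167486 q8075, e3 q6644 L115623 q5718, e3 q6645 L115632 q5394, e3 q6646 (flp_e L115634) q5362, e3 q6647 (flp_e L167533) q8078, e3 q6648 (flp_e L167539) q8079, e3 q6649 L115662 q5723, e3 q6650 L115671 q5399, e3 q6651 L115698 q5732, e3 q6652 L167623 q8081, e3 q6653 L115717 q5734, e3 q6654 L115726 q5403, e3 q6655 (flp_e L115732) q5368, trivial⟩ (by decide +kernel)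

theorem ce_e_104 : ∀ r, r < 64 → sm ge (Qf (6656 + r)) = Qf (tab Gen.e (6656 + r)) :=
  edges_tab (sm ge) Qf (tab Gen.e) 6656 [(6656, 8085), (6657, 8086), (6658, 5739), (6659, 5408), (6660, 8090), (6661, 5412), (6662, 8092), (6663, 5375), (6664, 8094), (6665, 8095), (6666, 5419), (6667, 5379), (6668, 5380), (6669, 8099), (6670, 8100), (6671, 8102), (6672, 5758), (6673, 8105), (6674, 5760), (6675, 8067), (6676, 5385), (6677, 8110), (6678, 8111), (6679, 5765), (6680, 8072), (6681, 5767), (6682, 8118), (6683, 5769), (6684, 6479), (6685, 8122), (6686, 5772), (6687, 5392), (6688, 8127), (6689, 8128), (6690, 5776), (6691, 6485), (6692, 5396), (6693, 5397), (6694, 8133), (6695, 8134), (6696, 8136), (6697, 8139), (6698, 5789), (6699, 5401), (6700, 8144), (6701, 8145), (6702, 5793), (6703, 8084), (6704, 5405), (6705, 5406), (6706, 8150), (6707, 8151), (6708, 8153), (6709, 5800), (6710, 8158), (6711, 5802), (6712, 5410), (6713, 8163), (6714, 8164), (6715, 5806), (6716, 6488), (6717, 5413), (6718, 8169), (6719, 8170)]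
    ⟨e3 q6656 (flp_e L167676) q8085, e3 q6657 (flp_e L167684) q8086, e3 q6658 L115763 q5739, e3 q6659 L115773 q5408, e3 q6660 L167738 q8090, e3 q6661 L115808 q5412, e3 q6662 L167779 q8092, e3 q6663 (flp_e L115825) q5375, e3 q6664 (flp_e L167819) q8094, e3 q6665 (flp_e L167825) q8095, e3 q6666 L115858 q5419, e3 q6667 L115867 q5379, e3 q6668 L115873 q5380, e3 q6669 (flp_e L167864) q8099, e3 q6670 (flp_e L167870) q8100, e3 q6671 (flp_e L167885) q8102, e3 q6672 L115922 q5758, e3 q6673 L167969 q8105, e3 q6674 L115946 q5760, e3 q6675 (flp_e L167377) q8067, e3 q6676 (flp_e L115961) q5385, e3 q6677 (flp_e L168025) q8110, e3 q6678 (flp_e L168034) q8111, e3 q6679 L115998 q5765, e3 q6680 (flp_e L167427) q8072, e3 q6681 L116020 q5767, e3 q6682 L168104 q8118, e3 q6683 L116040 q5769, e3 q6684 (flp_e L644846) q6479, e3 q6685 L168149 q8122, e3 q6686 L116067 q5772, e3 q6687 (flp_e L116072) q5392, e3 q6688 (flp_e L168200) q8127, e3 q6689 (flp_e L168206) q8128, e3 q6690 L116099 q5776, e3 q6691 (flp_e L642202) q6485, e3 q6692 L116117 q5396,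 e3 q6693 L116124 q5397, e3 q6694 (flp_e L168249) q8133, e3 q6695 (flp_e L168258) q8134, e3 q6696 (flp_e L168274) q8136, e3 q6697 L168380 q8139, e3 q6698 L116213 q5789, e3 q6699 (flp_e L116217) q5401, e3 q6700 (flp_e L168433) q8144, e3 q6701 (flp_e L168441) q8145, e3 q6702 L116247 q5793, e3 q6703 (flp_e L167664) q8084, e3 q6704 L116268 q5405, e3 q6705 L116277 q5406, e3 q6706 (flp_e L168489) q8150, e3 q6707 (flp_e L168498) q8151, e3 q6708 (flp_e L168513) q8153, e3 q6709 L116315 q5800, e3 q6710 L168560 q8158, e3 q6711 L116335 q5802, e3 q6712 (flp_e L116339) q5410, e3 q6713 (flp_e L168607) q8163, e3 q6714 (flp_e L168614) q8164, e3 q6715 L116367 q5806, e3 q6716 L642611 q6488, e3 q6717 (flp_e L116379) q5413, e3 q6718 (flp_e L168656) q8169, e3 q6719 (flp_e L168664) q8170, trivial⟩ (by decide +kernel)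

theorem ce_e_105 : ∀ r, r < 64 → sm ge (Qf (6720 + r)) = Qf (tab Gen.e (6720 + r)) :=
  edges_tab (sm ge) Qf (tab Gen.e) 6720 [(6720, 8175), (6721, 5812), (6722, 5416), (6723, 5417), (6724, 8178), (6725, 8179), (6726, 8181), (6727, 5455), (6728, 5422), (6729, 5423), (6730, 8025), (6731, 5424), (6732, 8186), (6733, 8188), (6734, 5425), (6735, 8193), (6736, 8194), (6737, 5594), (6738, 5833), (6739, 5428), (6740, 5429), (6741, 8201), (6742, 8202), (6743, 8204), (6744, 8149), (6745, 5434), (6746, 5435), (6747, 6747), (6748, 5436), (6749, 8209), (6750, 8211), (6751, 8215), (6752, 5847), (6753, 5438), (6754, 8221), (6755, 8222), (6756, 8227), (6757, 5852), (6758, 5441), (6759, 5442), (6760, 8230), (6761, 8231), (6762, 8233), (6763, 6763), (6764, 5446), (6765, 5447), (6766, 8239), (6767, 8240), (6768, 8246), (6769, 8242), (6770, 5448), (6771, 8249), (6772, 8177), (6773, 5452), (6774, 5453), (6775, 8043), (6776, 5454), (6777, 8253), (6778, 8255), (6779, 8184), (6780, 8185), (6781, 5460), (6782, 8049), (6783, 5461)]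
    ⟨e3 q6720 L168702 q8175, e3 q6721 L116417 q5812, e3 q6722 L116425 q5416, e3 q6723 L116431 q5417, e3 q6724 (flp_e L168731) q8178, e3 q6725 (flp_e L168737) q8179, e3 q6726 (flp_e L168751) q8181, e3 q6727 L116462 q5455, e3 q6728 L116471 q5422, e3 q6729 L116478 q5423, e3 q6730 (flp_e L166811) q8025, e3 q6731 L116492 q5424, e3 q6732 (flp_e L168796) q8186, e3 q6733 (flp_e L168810) q8188, e3 q6734 (flp_e L116595) q5425, e3 q6735 (flp_e L168971) q8193, e3 q6736 (flp_e L168981) q8194, e3 q6737 L575541 q5594, e3 q6738 L116637 q5833, e3 q6739 L116647 q5428, e3 q6740 L116655 q5429, e3 q6741 (flp_e L169055) q8201, e3 q6742 (flp_e L169064) q8202, e3 q6743 (flp_e L169081) q8204, e3 q6744 (flp_e L168480) q8149, e3 q6745 L116702 q5434, e3 q6746 L116712 q5435, e3 q6747 L116722 q6747, e3 q6748 L116729 q5436, e3 q6749 (flp_e L169129) q8209, e3 q6750 (flp_e L169146) q8211, e3 q6751 L169182 q8215, e3 q6752 L116771 q5847, e3 q6753 (flp_e L116774) q5438, e3 q6754 (flp_e L169243) q8221, e3 q6755 (flp_e L169251) q8222, e3 q6756 L169289 q8227,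 e3 q6757 L116811 q5852, e3 q6758 L116820 q5441, e3 q6759 L116827 q5442, e3 q6760 (flp_e L169318) q8230, e3 q6761 (flp_e L169326) q8231, e3 q6762 (flp_e L169344) q8233, e3 q6763 L116863 q6763, e3 q6764 L116870 q5446, e3 q6765 L116878 q5447, e3 q6766 (flp_e L169395) q8239, e3 q6767 (flp_e L169404) q8240, e3 q6768 L169450 q8246, e3 q6769 (flp_e L169421) q8242, e3 q6770 (flp_e L116916) q5448, e3 q6771 (flp_e L169479) q8249, e3 q6772 (flp_e L168723) q8177, e3 q6773 L116943 q5452, e3 q6774 L116950 q5453, e3 q6775 (flp_e L167053) q8043, e3 q6776 L116966 q5454, e3 q6777 (flp_e L169507) q8253, e3 q6778 (flp_e L169523) q8255, e3 q6779 (flp_e L168776) q8184, e3 q6780 (flp_e L168785) q8185, e3 q6781 L117006 q5460, e3 q6782 (flp_e L167112) q8049, e3 q6783 L117022 q5461, trivial⟩ (by decide +kernel)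

theorem ce_e_106 : ∀ r, r < 64 → sm ge (Qf (6784 + r)) = Qf (tab Gen.e (6784 + r)) :=
  edges_tab (sm ge) Qf (tab Gen.e) 6784 [(6784, 8051), (6785, 8052), (6786, 8264), (6787, 6787), (6788, 6788), (6789, 6789), (6790, 8276), (6791, 6791), (6792, 6792), (6793, 5465), (6794, 8281), (6795, 8282), (6796, 6796), (6797, 6797), (6798, 5882), (6799, 8289), (6800, 5884), (6801, 6801), (6802, 8294), (6803, 5887), (6804, 5472), (6805, 8299), (6806, 8300), (6807, 5891), (6808, 6808), (6809, 5476), (6810, 5477), (6811, 8305), (6812, 8306), (6813, 8308), (6814, 5898), (6815, 8313), (6816, 5900), (6817, 5481), (6818, 8318), (6819, 8319), (6820, 5904), (6821, 6821), (6822, 5484), (6823, 8324), (6824, 8325), (6825, 8330), (6826, 5910), (6827, 5487), (6828, 5488), (6829, 8333), (6830, 8334), (6831, 8336), (6832, 6832), (6833, 5493), (6834, 5494), (6835, 6835), (6836, 5495), (6837, 8341), (6838, 8343), (6839, 6839), (6840, 8350), (6841, 6841), (6842, 6842), (6843, 8355), (6844, 6844), (6845, 5499), (6846, 8360), (6847, 8361)]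
    ⟨e3 q6784 (flp_e L167127) q8051, e3 q6785 (flp_e L167138) q8052, e3 q6786 (flp_e L169596) q8264, e3 q6787 L117060 q6787, e3 q6788 L117072 q6788, e3 q6789 L117075 q6789, e3 q6790 L169701 q8276, e3 q6791 L117095 q6791, e3 q6792 L117106 q6792, e3 q6793 (flp_e L117111) q5465, e3 q6794 (flp_e L169756) q8281, e3 q6795 (flp_e L169763) q8282, e3 q6796 L117144 q6796, e3 q6797 L117154 q6797, e3 q6798 L117165 q5882, e3 q6799 L169831 q8289, e3 q6800 L117189 q5884, e3 q6801 L117200 q6801, e3 q6802 L169886 q8294, e3 q6803 L117217 q5887, e3 q6804 (flp_e L117222) q5472, e3 q6805 (flp_e L169934) q8299, e3 q6806 (flp_e L169942) q8300, e3 q6807 L117254 q5891, e3 q6808 L117266 q6808, e3 q6809 L117276 q5476, e3 q6810 L117283 q5477, e3 q6811 (flp_e L169989) q8305, e3 q6812 (flp_e L169998) q8306, e3 q6813 (flp_e L170013) q8308, e3 q6814 L117317 q5898, e3 q6815 L170055 q8313, e3 q6816 L117338 q5900, e3 q6817 (flp_e L117343) q5481, e3 q6818 (flp_e L170109) q8318, e3 q6819 (flp_e L170116) q8319, e3 q6820 L117377 q5904, e3 q6821 L117388 q6821,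 e3 q6822 (flp_e L117393) q5484, e3 q6823 (flp_e L170163) q8324, e3 q6824 (flp_e L170169) q8325, e3 q6825 L170206 q8330, e3 q6826 L117426 q5910, e3 q6827 L117436 q5487, e3 q6828 L117442 q5488, e3 q6829 (flp_e L170236) q8333, e3 q6830 (flp_e L170244) q8334, e3 q6831 (flp_e L170262) q8336, e3 q6832 L117478 q6832, e3 q6833 L117485 q5493, e3 q6834 L117492 q5494, e3 q6835 L117503 q6835, e3 q6836 L117508 q5495, e3 q6837 (flp_e L170304) q8341, e3 q6838 (flp_e L170320) q8343, e3 q6839 L117534 q6839, e3 q6840 L170378 q8350, e3 q6841 L117552 q6841, e3 q6842 L117563 q6842, e3 q6843 L170428 q8355, e3 q6844 L117581 q6844, e3 q6845 (flp_e L117584) q5499, e3 q6846 (flp_e L170473) q8360, e3 q6847 (flp_e L170480) q8361, trivial⟩ (by decide +kernel)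

theorem ce_e_107 : ∀ r, r < 64 → sm ge (Qf (6848 + r)) = Qf (tab Gen.e (6848 + r)) :=
  edges_tab (sm ge) Qf (tab Gen.e) 6848 [(6848, 6848), (6849, 6849), (6850, 5503), (6851, 5504), (6852, 8366), (6853, 8367), (6854, 8369), (6855, 5923), (6856, 8374), (6857, 5925), (6858, 5508), (6859, 8379), (6860, 8380), (6861, 5929), (6862, 6862), (6863, 5511), (6864, 8385), (6865, 8386), (6866, 8391), (6867, 5935), (6868, 5514), (6869, 5515), (6870, 8394), (6871, 8395), (6872, 8397), (6873, 5582), (6874, 5520), (6875, 5521), (6876, 8368), (6877, 5522), (6878, 8402), (6879, 8404), (6880, 8408), (6881, 5934), (6882, 5524), (6883, 8413), (6884, 8414), (6885, 8142), (6886, 5952), (6887, 5527), (6888, 5528), (6889, 8421), (6890, 8422), (6891, 8424), (6892, 6892), (6893, 5532), (6894, 5533), (6895, 8430), (6896, 8431), (6897, 8437), (6898, 8433), (6899, 5534), (6900, 8440), (6901, 5610), (6902, 5538), (6903, 5539), (6904, 6904), (6905, 5540), (6906, 8444), (6907, 8446), (6908, 5617), (6909, 5618), (6910, 5546), (6911, 6911)]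
    ⟨e3 q6848 L117614 q6848, e3 q6849 L117623 q6849, e3 q6850 L117634 q5503, e3 q6851 L117641 q5504, e3 q6852 (flp_e L170525) q8366, e3 q6853 (flp_e L170532) q8367, e3 q6854 (flp_e L170547) q8369, e3 q6855 L117675 q5923, e3 q6856 L170589 q8374, e3 q6857 L117697 q5925, e3 q6858 (flp_e L117701) q5508, e3 q6859 (flp_e L170643) q8379, e3 q6860 (flp_e L170652) q8380, e3 q6861 L117734 q5929, e3 q6862 L117746 q6862, e3 q6863 (flp_e L117751) q5511, e3 q6864 (flp_e L170697) q8385, e3 q6865 (flp_e L170705) q8386, e3 q6866 L170739 q8391, e3 q6867 L117783 q5935, e3 q6868 L117794 q5514, e3 q6869 L117802 q5515, e3 q6870 (flp_e L170768) q8394, e3 q6871 (flp_e L170776) q8395, e3 q6872 (flp_e L170791) q8397, e3 q6873 L117838 q5582, e3 q6874 L117846 q5520, e3 q6875 L117853 q5521, e3 q6876 (flp_e L170540) q8368, e3 q6877 L117866 q5522, e3 q6878 (flp_e L170837) q8402, e3 q6879 (flp_e L170850) q8404, e3 q6880 L170878 q8408, e3 q6881 (flp_e L576567) q5934, e3 q6882 (flp_e L117903) q5524, e3 q6883 (flp_e L170930) q8413, e3 q6884 (flp_e L170938)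 q8414, e3 q6885 (flp_e L550543) q8142, e3 q6886 L117942 q5952, e3 q6887 L117952 q5527, e3 q6888 L117959 q5528, e3 q6889 (flp_e L171012) q8421, e3 q6890 (flp_e L171019) q8422, e3 q6891 (flp_e L171037) q8424, e3 q6892 L117995 q6892, e3 q6893 L118000 q5532, e3 q6894 L118006 q5533, e3 q6895 (flp_e L171085) q8430, e3 q6896 (flp_e L171091) q8431, e3 q6897 L171131 q8437, e3 q6898 (flp_e L171103) q8433, e3 q6899 (flp_e L118037) q5534, e3 q6900 (flp_e L171153) q8440, e3 q6901 L118057 q5610, e3 q6902 L118066 q5538, e3 q6903 L118072 q5539, e3 q6904 L118082 q6904, e3 q6905 L118088 q5540, e3 q6906 (flp_e L171186) q8444, e3 q6907 (flp_e L171202) q8446, e3 q6908 L118114 q5617, e3 q6909 L118121 q5618, e3 q6910 L118130 q5546, e3 q6911 L118139 q6911, trivial⟩ (by decide +kernel)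

theorem ce_e_108 : ∀ r, r < 64 → sm ge (Qf (6912 + r)) = Qf (tab Gen.e (6912 + r)) :=
  edges_tab (sm ge) Qf (tab Gen.e) 6912 [(6912, 5547), (6913, 6913), (6914, 6914), (6915, 8455), (6916, 6916), (6917, 6454), (6918, 6918), (6919, 6453), (6920, 6448), (6921, 6921), (6922, 5628), (6923, 5552), (6924, 8470), (6925, 8471), (6926, 8476), (6927, 6927), (6928, 5555), (6929, 5556), (6930, 8479), (6931, 8480), (6932, 8481), (6933, 8365), (6934, 5561), (6935, 5562), (6936, 5585), (6937, 5563), (6938, 8486), (6939, 8488), (6940, 8492), (6941, 5851), (6942, 5565), (6943, 8496), (6944, 8497), (6945, 8218), (6946, 5986), (6947, 5568), (6948, 5569), (6949, 8504), (6950, 8505), (6951, 8506), (6952, 6952), (6953, 5573), (6954, 5574), (6955, 8512), (6956, 8513), (6957, 8519), (6958, 8515), (6959, 5575), (6960, 8522), (6961, 8393), (6962, 5579), (6963, 5580), (6964, 6438), (6965, 5581), (6966, 8526), (6967, 8528), (6968, 8400), (6969, 8401), (6970, 5587), (6971, 8487), (6972, 5588), (6973, 8489), (6974, 8490), (6975, 8537)]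
    ⟨e3 q6912 L118144 q5547, e3 q6913 L118151 q6913, e3 q6914 L118160 q6914, e3 q6915 (flp_e L171274) q8455, e3 q6916 L118174 q6916, e3 q6917 (flp_e L537093) q6454, e3 q6918 L118194 q6918, e3 q6919 L537334 q6453, e3 q6920 L537190 q6448, e3 q6921 L118231 q6921, e3 q6922 L118240 q5628, e3 q6923 (flp_e L118246) q5552, e3 q6924 (flp_e L171436) q8470, e3 q6925 (flp_e L171444) q8471, e3 q6926 L171481 q8476, e3 q6927 L118281 q6927, e3 q6928 L118290 q5555, e3 q6929 L118297 q5556, e3 q6930 (flp_e L171511) q8479, e3 q6931 (flp_e L171519) q8480, e3 q6932 (flp_e L171537) q8481, e3 q6933 (flp_e L170517) q8365, e3 q6934 L118341 q5561, e3 q6935 L118349 q5562, e3 q6936 L118358 q5585, e3 q6937 L118366 q5563, e3 q6938 (flp_e L171580) q8486, e3 q6939 (flp_e L171598) q8488, e3 q6940 L171632 q8492, e3 q6941 (flp_e L576242) q5851, e3 q6942 (flp_e L118406) q5565, e3 q6943 (flp_e L171692) q8496, e3 q6944 (flp_e L171702) q8497, e3 q6945 (flp_e L550777) q8218, e3 q6946 L118447 q5986, e3 q6947 L118459 q5568, e3 q6948 L118468 q5569, e3 q6949 (flp_e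 L171777) q8504, e3 q6950 (flp_e L171787) q8505, e3 q6951 (flp_e L171806) q8506, e3 q6952 L118509 q6952, e3 q6953 L118514 q5573, e3 q6954 L118522 q5574, e3 q6955 (flp_e L171859) q8512, e3 q6956 (flp_e L171868) q8513, e3 q6957 L171908 q8519, e3 q6958 (flp_e L171881) q8515, e3 q6959 (flp_e L118556) q5575, e3 q6960 (flp_e L171929) q8522, e3 q6961 (flp_e L170759) q8393, e3 q6962 L118583 q5579, e3 q6963 L118592 q5580, e3 q6964 L561935 q6438, e3 q6965 L118609 q5581, e3 q6966 (flp_e L171960) q8526, e3 q6967 (flp_e L171977) q8528, e3 q6968 (flp_e L170819) q8400, e3 q6969 (flp_e L170828) q8401, e3 q6970 L118650 q5587, e3 q6971 (flp_e L171590) q8487, e3 q6972 L118665 q5588, e3 q6973 (flp_e L171606) q8489, e3 q6974 (flp_e L171618) q8490, e3 q6975 (flp_e L172054) q8537, trivial⟩ (by decide +kernel)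

theorem ce_e_109 : ∀ r, r < 64 → sm ge (Qf (6976 + r)) = Qf (tab Gen.e (6976 + r)) :=
  edges_tab (sm ge) Qf (tab Gen.e) 6976 [(6976, 5589), (6977, 8544), (6978, 8545), (6979, 5999), (6980, 6980), (6981, 5592), (6982, 5593), (6983, 8552), (6984, 8553), (6985, 8559), (6986, 8555), (6987, 8199), (6988, 8420), (6989, 5598), (6990, 5599), (6991, 6991), (6992, 5600), (6993, 8564), (6994, 8566), (6995, 6995), (6996, 6996), (6997, 8429), (6998, 5604), (6999, 5605), (7000, 8581), (7001, 5607), (7002, 8577), (7003, 8585), (7004, 8579), (7005, 5606), (7006, 8588), (7007, 8587), (7008, 5609), (7009, 8592), (7010, 8442), (7011, 8443), (7012, 5615), (7013, 7013), (7014, 5616), (7015, 7015), (7016, 7016), (7017, 8598), (7018, 8450), (7019, 8451), (7020, 8608), (7021, 8453), (7022, 7022), (7023, 5624), (7024, 7024), (7025, 7025), (7026, 7026), (7027, 7027), (7028, 7028), (7029, 7029), (7030, 5627), (7031, 7031), (7032, 5630), (7033, 7033), (7034, 7034), (7035, 5635), (7036, 5649), (7037, 5651), (7038, 7038), (7039, 5637)]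
    ⟨e3 q6976 (flp_e L118695) q5589, e3 q6977 (flp_e L172113) q8544, e3 q6978 (flp_e L172120) q8545, e3 q6979 L553687 q5999, e3 q6980 L118740 q6980, e3 q6981 L118747 q5592, e3 q6982 L118755 q5593, e3 q6983 (flp_e L172209) q8552, e3 q6984 (flp_e L172218) q8553, e3 q6985 L172265 q8559, e3 q6986 (flp_e L172235) q8555, e3 q6987 (flp_e L575577) q8199, e3 q6988 (flp_e L171002) q8420, e3 q6989 L118827 q5598, e3 q6990 L118835 q5599, e3 q6991 L118847 q6991, e3 q6992 L118855 q5600, e3 q6993 (flp_e L172331) q8564, e3 q6994 (flp_e L172351) q8566, e3 q6995 L118883 q6995, e3 q6996 L118888 q6996, e3 q6997 (flp_e L171077) q8429, e3 q6998 L118902 q5604, e3 q6999 L118909 q5605, e3 q7000 L172465 q8581, e3 q7001 L118922 q5607, e3 q7002 (flp_e L172441) q8577, e3 q7003 L172491 q8585, e3 q7004 (flp_e L172454) q8579, e3 q7005 (flp_e L118946) q5606, e3 q7006 (flp_e L172514) q8588, e3 q7007 (flp_e L172509) q8587, e3 q7008 L118971 q5609, e3 q7009 (flp_e L172541) q8592, e3 q7010 (flp_e L171168) q8442, e3 q7011 (flp_e L171176) q8443, e3 q7012 L118999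 q5615, e3 q7013 L119010 q7013, e3 q7014 L119017 q5616, e3 q7015 L119023 q7015, e3 q7016 L119035 q7016, e3 q7017 (flp_e L172594) q8598, e3 q7018 (flp_e L171234) q8450, e3 q7019 (flp_e L171241) q8451, e3 q7020 L172676 q8608, e3 q7021 (flp_e L171258) q8453, e3 q7022 L119084 q7022, e3 q7023 L119090 q5624, e3 q7024 L119098 q7024, e3 q7025 L119108 q7025, e3 q7026 L119113 q7026, e3 q7027 L119124 q7027, e3 q7028 L119131 q7028, e3 q7029 L119307 q7029, e3 q7030 L119315 q5627, e3 q7031 L119548 q7031, e3 q7032 L119554 q5630, e3 q7033 L119606 q7033, e3 q7034 L119613 q7034, e3 q7035 L119620 q5635, e3 q7036 L119630 q5649, e3 q7037 L119643 q5651, e3 q7038 L119810 q7038, e3 q7039 L119818 q5637, trivial⟩ (by decide +kernel)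

theorem ce_e_110 : ∀ r, r < 64 → sm ge (Qf (7040 + r)) = Qf (tab Gen.e (7040 + r)) :=
  edges_tab (sm ge) Qf (tab Gen.e) 7040 [(7040, 7040), (7041, 7041), (7042, 7042), (7043, 5640), (7044, 7044), (7045, 7045), (7046, 5645), (7047, 6437), (7048, 6408), (7049, 7049), (7050, 7050), (7051, 8638), (7052, 7052), (7053, 8619), (7054, 5653), (7055, 8620), (7056, 6461), (7057, 8621), (7058, 6460), (7059, 6462), (7060, 7060), (7061, 7061), (7062, 7062), (7063, 5656), (7064, 7064), (7065, 7065), (7066, 5661), (7067, 7067), (7068, 7068), (7069, 8659), (7070, 7070), (7071, 7071), (7072, 6274), (7073, 7073), (7074, 7074), (7075, 7075), (7076, 5668), (7077, 6271), (7078, 6273), (7079, 7079), (7080, 7080), (7081, 8677), (7082, 7082), (7083, 7083), (7084, 5676), (7085, 7085), (7086, 7086), (7087, 7087), (7088, 7088), (7089, 7089), (7090, 7090), (7091, 8690), (7092, 7092), (7093, 8693), (7094, 5679), (7095, 8695), (7096, 7096), (7097, 7097), (7098, 7098), (7099, 7099), (7100, 7100), (7101, 7101), (7102, 7102), (7103, 7103)]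
    ⟨e3 q7040 L119876 q7040, e3 q7041 L119882 q7041, e3 q7042 L119893 q7042, e3 q7043 L119901 q5640, e3 q7044 L120000 q7044, e3 q7045 L120009 q7045, e3 q7046 L120018 q5645, e3 q7047 L561884 q6437, e3 q7048 (flp_e L590617) q6408, e3 q7049 L120067 q7049, e3 q7050 L120077 q7050, e3 q7051 L174177 q8638, e3 q7052 L120093 q7052, e3 q7053 (flp_e L173499) q8619, e3 q7054 L120110 q5653, e3 q7055 (flp_e L173513) q8620, e3 q7056 (flp_e L561676) q6461, e3 q7057 (flp_e L173528) q8621, e3 q7058 (flp_e L561568) q6460, e3 q7059 (flp_e L561647) q6462, e3 q7060 L120242 q7060, e3 q7061 L120247 q7061, e3 q7062 L120257 q7062, e3 q7063 L120266 q5656, e3 q7064 L120357 q7064, e3 q7065 L120365 q7065, e3 q7066 L120375 q5661, e3 q7067 L120387 q7067, e3 q7068 L120401 q7068, e3 q7069 L174665 q8659, e3 q7070 L120438 q7070, e3 q7071 L120443 q7071, e3 q7072 (flp_e L546655) q6274, e3 q7073 L120457 q7073, e3 q7074 L120466 q7074, e3 q7075 L120474 q7075, e3 q7076 L120484 q5668, e3 q7077 L546625 q6271, e3 q7078 L546647 q6273, e3 q7079 L120579 q7079, e3 q7080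 L120587 q7080, e3 q7081 L174923 q8677, e3 q7082 L120604 q7082, e3 q7083 L120616 q7083, e3 q7084 L120621 q5676, e3 q7085 L120628 q7085, e3 q7086 L120637 q7086, e3 q7087 L120642 q7087, e3 q7088 L120652 q7088, e3 q7089 L120660 q7089, e3 q7090 L120668 q7090, e3 q7091 L175030 q8690, e3 q7092 L120685 q7092, e3 q7093 L175053 q8693, e3 q7094 (flp_e L120698) q5679, e3 q7095 (flp_e L175075) q8695, e3 q7096 L120717 q7096, e3 q7097 L120727 q7097, e3 q7098 L120734 q7098, e3 q7099 L120743 q7099, e3 q7100 L120749 q7100, e3 q7101 L120755 q7101, e3 q7102 L120765 q7102, e3 q7103 L120774 q7103, trivial⟩ (by decide +kernel)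

theorem ce_e_111 : ∀ r, r < 64 → sm ge (Qf (7104 + r)) = Qf (tab Gen.e (7104 + r)) :=
  edges_tab (sm ge) Qf (tab Gen.e) 7104 [(7104, 8054), (7105, 7105), (7106, 8060), (7107, 7107), (7108, 8061), (7109, 8707), (7110, 8063), (7111, 5700), (7112, 8056), (7113, 8064), (7114, 8711), (7115, 8066), (7116, 5761), (7117, 5710), (7118, 8071), (7119, 8713), (7120, 5770), (7121, 8714), (7122, 5717), (7123, 8715), (7124, 8716), (7125, 6510), (7126, 5721), (7127, 5722), (7128, 8720), (7129, 8719), (7130, 7130), (7131, 8722), (7132, 6518), (7133, 5733), (7134, 8725), (7135, 8726), (7136, 6516), (7137, 5794), (7138, 5737), (7139, 5738), (7140, 8729), (7141, 5741), (7142, 8730), (7143, 5807), (7144, 5743), (7145, 8732), (7146, 5745), (7147, 5746), (7148, 8734), (7149, 8735), (7150, 8737), (7151, 7151), (7152, 5751), (7153, 5752), (7154, 7154), (7155, 5753), (7156, 8742), (7157, 8744), (7158, 8013), (7159, 7159), (7160, 8748), (7161, 8104), (7162, 5759), (7163, 8752), (7164, 8753), (7165, 8108), (7166, 6312), (7167, 5763)]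
    ⟨e3 q7104 (flp_e L167173) q8054, e3 q7105 L120912 q7105, e3 q7106 (flp_e L167235) q8060, e3 q7107 L120968 q7107, e3 q7108 (flp_e L167247) q8061, e3 q7109 L175469 q8707, e3 q7110 (flp_e L167265) q8063, e3 q7111 (flp_e L121002) q5700, e3 q7112 (flp_e L643330) q8056, e3 q7113 (flp_e L167345) q8064, e3 q7114 L175781 q8711, e3 q7115 (flp_e L167367) q8066, e3 q7116 L121216 q5761, e3 q7117 (flp_e L121220) q5710, e3 q7118 (flp_e L167416) q8071, e3 q7119 L175897 q8713, e3 q7120 L121297 q5770, e3 q7121 L175943 q8714, e3 q7122 (flp_e L121316) q5717, e3 q7123 (flp_e L175987) q8715, e3 q7124 (flp_e L175993) q8716, e3 q7125 (flp_e L644797) q6510, e3 q7126 L121363 q5721, e3 q7127 L121369 q5722, e3 q7128 (flp_e L176041) q8720, e3 q7129 (flp_e L644319) q8719, e3 q7130 L121539 q7130, e3 q7131 L176377 q8722, e3 q7132 (flp_e L641815) q6518, e3 q7133 (flp_e L121604) q5733, e3 q7134 (flp_e L176421) q8725, e3 q7135 (flp_e L176429) q8726, e3 q7136 (flp_e L641785) q6516, e3 q7137 L121640 q5794, e3 q7138 L121651 q5737, e3 q7139 L121659 q5738,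 e3 q7140 (flp_e L176491) q8729, e3 q7141 (flp_e L121707) q5741, e3 q7142 (flp_e L176571) q8730, e3 q7143 L121744 q5807, e3 q7144 (flp_e L121748) q5743, e3 q7145 (flp_e L176617) q8732, e3 q7146 L121787 q5745, e3 q7147 L121793 q5746, e3 q7148 (flp_e L176684) q8734, e3 q7149 (flp_e L176690) q8735, e3 q7150 (flp_e L176705) q8737, e3 q7151 L121823 q7151, e3 q7152 L121830 q5751, e3 q7153 L121836 q5752, e3 q7154 L121843 q7154, e3 q7155 L121850 q5753, e3 q7156 (flp_e L176743) q8742, e3 q7157 (flp_e L176759) q8744, e3 q7158 L642910 q8013, e3 q7159 L121961 q7159, e3 q7160 L177024 q8748, e3 q7161 (flp_e L167964) q8104, e3 q7162 (flp_e L122038) q5759, e3 q7163 (flp_e L177079) q8752, e3 q7164 (flp_e L177087) q8753, e3 q7165 (flp_e L168002) q8108, e3 q7166 (flp_e L619794) q6312, e3 q7167 L122088 q5763, trivial⟩ (by decide +kernel)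

theorem ce_e_112 : ∀ r, r < 64 → sm ge (Qf (7168 + r)) = Qf (tab Gen.e (7168 + r)) :=
  edges_tab (sm ge) Qf (tab Gen.e) 7168 [(7168, 5764), (7169, 8101), (7170, 8135), (7171, 8757), (7172, 8115), (7173, 8761), (7174, 8117), (7175, 5768), (7176, 8766), (7177, 8767), (7178, 8121), (7179, 6308), (7180, 5771), (7181, 8772), (7182, 8773), (7183, 8777), (7184, 8126), (7185, 5774), (7186, 5775), (7187, 8780), (7188, 8781), (7189, 8783), (7190, 7190), (7191, 5780), (7192, 5781), (7193, 7193), (7194, 5782), (7195, 8787), (7196, 8789), (7197, 5785), (7198, 8027), (7199, 8793), (7200, 5788), (7201, 8796), (7202, 8797), (7203, 8143), (7204, 5791), (7205, 5792), (7206, 8802), (7207, 8803), (7208, 8805), (7209, 5839), (7210, 5797), (7211, 5798), (7212, 8137), (7213, 5799), (7214, 8187), (7215, 8810), (7216, 8813), (7217, 8157), (7218, 5801), (7219, 8818), (7220, 8819), (7221, 8373), (7222, 8162), (7223, 5804), (7224, 5805), (7225, 8826), (7226, 8827), (7227, 8829), (7228, 6340), (7229, 5809), (7230, 5810), (7231, 8835)]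
    ⟨e3 q7168 L122097 q5764, e3 q7169 (flp_e L644414) q8101, e3 q7170 (flp_e L644190) q8135, e3 q7171 (flp_e L177157) q8757, e3 q7172 (flp_e L168076) q8115, e3 q7173 L177204 q8761, e3 q7174 (flp_e L168099) q8117, e3 q7175 (flp_e L122161) q5768, e3 q7176 (flp_e L177255) q8766, e3 q7177 (flp_e L177262) q8767, e3 q7178 (flp_e L168135) q8121, e3 q7179 (flp_e L625369) q6308, e3 q7180 (flp_e L122206) q5771, e3 q7181 (flp_e L177309) q8772, e3 q7182 (flp_e L177317) q8773, e3 q7183 L177362 q8777, e3 q7184 (flp_e L168191) q8126, e3 q7185 L122256 q5774, e3 q7186 L122262 q5775, e3 q7187 (flp_e L177391) q8780, e3 q7188 (flp_e L177399) q8781, e3 q7189 (flp_e L177414) q8783, e3 q7190 L122297 q7190, e3 q7191 L122303 q5780, e3 q7192 L122312 q5781, e3 q7193 L122321 q7193, e3 q7194 L122327 q5782, e3 q7195 (flp_e L177457) q8787, e3 q7196 (flp_e L177474) q8789, e3 q7197 L122462 q5785, e3 q7198 (flp_e L642928) q8027, e3 q7199 (flp_e L177699) q8793, e3 q7200 (flp_e L122567) q5788, e3 q7201 (flp_e L177849) q8796, e3 q7202 (flp_e L177859) q8797,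 e3 q7203 (flp_e L168423) q8143, e3 q7204 L122617 q5791, e3 q7205 L122625 q5792, e3 q7206 (flp_e L177929) q8802, e3 q7207 (flp_e L177937) q8803, e3 q7208 (flp_e L177949) q8805, e3 q7209 L122660 q5839, e3 q7210 L122667 q5797, e3 q7211 L122676 q5798, e3 q7212 (flp_e L644038) q8137, e3 q7213 L122688 q5799, e3 q7214 (flp_e L644206) q8187, e3 q7215 (flp_e L178010) q8810, e3 q7216 L178037 q8813, e3 q7217 (flp_e L168556) q8157, e3 q7218 (flp_e L122730) q5801, e3 q7219 (flp_e L178095) q8818, e3 q7220 (flp_e L178103) q8819, e3 q7221 (flp_e L576252) q8373, e3 q7222 (flp_e L168598) q8162, e3 q7223 L122776 q5804, e3 q7224 L122783 q5805, e3 q7225 (flp_e L178172) q8826, e3 q7226 (flp_e L178179) q8827, e3 q7227 (flp_e L178194) q8829, e3 q7228 L122816 q6340, e3 q7229 L122824 q5809, e3 q7230 L122832 q5810, e3 q7231 (flp_e L178244) q8835, trivial⟩ (by decide +kernel)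

theorem ce_e_113 : ∀ r, r < 64 → sm ge (Qf (7232 + r)) = Qf (tab Gen.e (7232 + r)) :=
  edges_tab (sm ge) Qf (tab Gen.e) 7232 [(7232, 8836), (7233, 8842), (7234, 8838), (7235, 5811), (7236, 8845), (7237, 5867), (7238, 5815), (7239, 5816), (7240, 7240), (7241, 5817), (7242, 8848), (7243, 8850), (7244, 5874), (7245, 5875), (7246, 5823), (7247, 7247), (7248, 5824), (7249, 7249), (7250, 7250), (7251, 8859), (7252, 5828), (7253, 5842), (7254, 5829), (7255, 8047), (7256, 8866), (7257, 6349), (7258, 5831), (7259, 5832), (7260, 8873), (7261, 8874), (7262, 8876), (7263, 8801), (7264, 5836), (7265, 5837), (7266, 6211), (7267, 5838), (7268, 8881), (7269, 8883), (7270, 8808), (7271, 8809), (7272, 5844), (7273, 8865), (7274, 5845), (7275, 8867), (7276, 8868), (7277, 8892), (7278, 5846), (7279, 8899), (7280, 8900), (7281, 8219), (7282, 6356), (7283, 5849), (7284, 5850), (7285, 8907), (7286, 8908), (7287, 8914), (7288, 8910), (7289, 8495), (7290, 8825), (7291, 5855), (7292, 5856), (7293, 7293), (7294, 5857), (7295, 8918)]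
    ⟨e3 q7232 (flp_e L178252) q8836, e3 q7233 L178299 q8842, e3 q7234 (flp_e L178266) q8838, e3 q7235 (flp_e L122871) q5811, e3 q7236 (flp_e L178327) q8845, e3 q7237 L122893 q5867, e3 q7238 L122899 q5815, e3 q7239 L122905 q5816, e3 q7240 L122913 q7240, e3 q7241 L122918 q5817, e3 q7242 (flp_e L178360) q8848, e3 q7243 (flp_e L178375) q8850, e3 q7244 L122943 q5874, e3 q7245 L122952 q5875, e3 q7246 L122961 q5823, e3 q7247 L122970 q7247, e3 q7248 L122976 q5824, e3 q7249 L122983 q7249, e3 q7250 L122991 q7250, e3 q7251 (flp_e L178441) q8859, e3 q7252 L123180 q5828, e3 q7253 L123189 q5842, e3 q7254 L123196 q5829, e3 q7255 (flp_e L642996) q8047, e3 q7256 (flp_e L178762) q8866, e3 q7257 L123336 q6349, e3 q7258 L123344 q5831, e3 q7259 L123354 q5832, e3 q7260 (flp_e L179022) q8873, e3 q7261 (flp_e L179033) q8874, e3 q7262 (flp_e L179048) q8876, e3 q7263 (flp_e L177923) q8801, e3 q7264 L123422 q5836, e3 q7265 L123431 q5837, e3 q7266 (flp_e L549269) q6211, e3 q7267 L123445 q5838, e3 q7268 (flp_e L179138) q8881, e3 q7269 (flp_e L179154)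 q8883, e3 q7270 (flp_e L177976) q8808, e3 q7271 (flp_e L177987) q8809, e3 q7272 L123487 q5844, e3 q7273 (flp_e L178755) q8865, e3 q7274 L123503 q5845, e3 q7275 (flp_e L178770) q8867, e3 q7276 (flp_e L178781) q8868, e3 q7277 (flp_e L179225) q8892, e3 q7278 (flp_e L123532) q5846, e3 q7279 (flp_e L179284) q8899, e3 q7280 (flp_e L179293) q8900, e3 q7281 (flp_e L169225) q8219, e3 q7282 L123582 q6356, e3 q7283 L123590 q5849, e3 q7284 L123598 q5850, e3 q7285 (flp_e L179392) q8907, e3 q7286 (flp_e L179401) q8908, e3 q7287 L179445 q8914, e3 q7288 (flp_e L179416) q8910, e3 q7289 (flp_e L554632) q8495, e3 q7290 (flp_e L178165) q8825, e3 q7291 L123665 q5855, e3 q7292 L123673 q5856, e3 q7293 L123683 q7293, e3 q7294 L123690 q5857, e3 q7295 (flp_e L179507) q8918, trivial⟩ (by decide +kernel)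

theorem ce_e_114 : ∀ r, r < 64 → sm ge (Qf (7296 + r)) = Qf (tab Gen.e (7296 + r)) :=
  edges_tab (sm ge) Qf (tab Gen.e) 7296 [(7296, 8920), (7297, 6364), (7298, 6365), (7299, 8834), (7300, 5861), (7301, 5862), (7302, 8935), (7303, 5864), (7304, 8931), (7305, 8939), (7306, 8933), (7307, 5863), (7308, 8942), (7309, 8941), (7310, 5866), (7311, 8846), (7312, 8847), (7313, 5872), (7314, 7314), (7315, 5873), (7316, 7316), (7317, 7317), (7318, 8950), (7319, 8854), (7320, 8855), (7321, 8960), (7322, 8857), (7323, 7323), (7324, 5881), (7325, 7325), (7326, 7326), (7327, 7327), (7328, 7328), (7329, 7329), (7330, 8286), (7331, 8971), (7332, 8288), (7333, 5883), (7334, 8975), (7335, 8976), (7336, 8292), (7337, 7337), (7338, 5886), (7339, 8981), (7340, 8982), (7341, 8312), (7342, 8298), (7343, 5889), (7344, 5890), (7345, 8989), (7346, 8990), (7347, 8992), (7348, 7348), (7349, 5895), (7350, 5896), (7351, 7351), (7352, 5897), (7353, 8189), (7354, 8995), (7355, 8998), (7356, 5899), (7357, 9001), (7358, 9002), (7359, 8317)]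
    ⟨e3 q7296 (flp_e L179526) q8920, e3 q7297 L123717 q6364, e3 q7298 L123724 q6365, e3 q7299 (flp_e L178236) q8834, e3 q7300 L123739 q5861, e3 q7301 L123748 q5862, e3 q7302 L179644 q8935, e3 q7303 L123763 q5864, e3 q7304 (flp_e L179618) q8931, e3 q7305 L179677 q8939, e3 q7306 (flp_e L179635) q8933, e3 q7307 (flp_e L123792) q5863, e3 q7308 (flp_e L179710) q8942, e3 q7309 (flp_e L179703) q8941, e3 q7310 L123823 q5866, e3 q7311 (flp_e L178344) q8846, e3 q7312 (flp_e L178352) q8847, e3 q7313 L123851 q5872, e3 q7314 L123862 q7314, e3 q7315 L123868 q5873, e3 q7316 L123874 q7316, e3 q7317 L123883 q7317, e3 q7318 (flp_e L179788) q8950, e3 q7319 (flp_e L178403) q8854, e3 q7320 (flp_e L178410) q8855, e3 q7321 L179861 q8960, e3 q7322 (flp_e L178426) q8857, e3 q7323 L123928 q7323, e3 q7324 L123935 q5881, e3 q7325 L123943 q7325, e3 q7326 L123954 q7326, e3 q7327 L123961 q7327, e3 q7328 L123971 q7328, e3 q7329 L123976 q7329, e3 q7330 (flp_e L169801) q8286, e3 q7331 L179960 q8971, e3 q7332 (flp_e L169826) q8288, e3 q7333 (flp_e L124010)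 q5883, e3 q7334 (flp_e L180018) q8975, e3 q7335 (flp_e L180027) q8976, e3 q7336 (flp_e L169867) q8292, e3 q7337 L124058 q7337, e3 q7338 (flp_e L124065) q5886, e3 q7339 (flp_e L180077) q8981, e3 q7340 (flp_e L180085) q8982, e3 q7341 (flp_e L553583) q8312, e3 q7342 (flp_e L169922) q8298, e3 q7343 L124112 q5889, e3 q7344 L124120 q5890, e3 q7345 (flp_e L180155) q8989, e3 q7346 (flp_e L180165) q8990, e3 q7347 (flp_e L180181) q8992, e3 q7348 L124160 q7348, e3 q7349 L124165 q5895, e3 q7350 L124174 q5896, e3 q7351 L124183 q7351, e3 q7352 L124188 q5897, e3 q7353 (flp_e L641300) q8189, e3 q7354 (flp_e L180241) q8995, e3 q7355 L180273 q8998, e3 q7356 (flp_e L124229) q5899, e3 q7357 (flp_e L180329) q9001, e3 q7358 (flp_e L180337) q9002, e3 q7359 (flp_e L170098) q8317, trivial⟩ (by decide +kernel)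

theorem ce_e_115 : ∀ r, r < 64 → sm ge (Qf (7360 + r)) = Qf (tab Gen.e (7360 + r)) :=
  edges_tab (sm ge) Qf (tab Gen.e) 7360 [(7360, 5902), (7361, 5903), (7362, 9007), (7363, 9008), (7364, 9010), (7365, 6387), (7366, 5907), (7367, 5908), (7368, 9016), (7369, 9017), (7370, 9023), (7371, 9019), (7372, 5909), (7373, 9026), (7374, 7374), (7375, 5913), (7376, 5914), (7377, 6150), (7378, 5915), (7379, 9029), (7380, 9031), (7381, 7381), (7382, 7382), (7383, 5921), (7384, 6157), (7385, 5922), (7386, 6159), (7387, 6160), (7388, 9040), (7389, 9046), (7390, 5924), (7391, 9049), (7392, 9050), (7393, 8378), (7394, 5927), (7395, 5928), (7396, 9055), (7397, 9056), (7398, 9058), (7399, 6394), (7400, 5932), (7401, 5933), (7402, 9064), (7403, 9065), (7404, 9071), (7405, 9067), (7406, 8411), (7407, 6000), (7408, 5938), (7409, 5939), (7410, 7410), (7411, 5940), (7412, 9075), (7413, 9077), (7414, 6007), (7415, 6008), (7416, 5946), (7417, 7417), (7418, 5947), (7419, 7419), (7420, 7420), (7421, 9085), (7422, 5948), (7423, 9091)]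
    ⟨e3 q7360 L124282 q5902, e3 q7361 L124289 q5903, e3 q7362 (flp_e L180418) q9007, e3 q7363 (flp_e L180427) q9008, e3 q7364 (flp_e L180446) q9010, e3 q7365 L124329 q6387, e3 q7366 L124335 q5907, e3 q7367 L124341 q5908, e3 q7368 (flp_e L180495) q9016, e3 q7369 (flp_e L180503) q9017, e3 q7370 L180544 q9023, e3 q7371 (flp_e L180515) q9019, e3 q7372 (flp_e L124379) q5909, e3 q7373 (flp_e L180574) q9026, e3 q7374 L124402 q7374, e3 q7375 L124408 q5913, e3 q7376 L124416 q5914, e3 q7377 L124426 q6150, e3 q7378 L124433 q5915, e3 q7379 (flp_e L180607) q9029, e3 q7380 (flp_e L180626) q9031, e3 q7381 L124461 q7381, e3 q7382 L124467 q7382, e3 q7383 L124473 q5921, e3 q7384 L124484 q6157, e3 q7385 L124490 q5922, e3 q7386 L124497 q6159, e3 q7387 L124507 q6160, e3 q7388 (flp_e L180698) q9040, e3 q7389 L180745 q9046, e3 q7390 (flp_e L124537) q5924, e3 q7391 (flp_e L180802) q9049, e3 q7392 (flp_e L180812) q9050, e3 q7393 (flp_e L170631) q8378, e3 q7394 L124590 q5927, e3 q7395 L124599 q5928, e3 q7396 (flp_e L180889) q9055, e3 q7397 (flp_e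 L180898) q9056, e3 q7398 (flp_e L180914) q9058, e3 q7399 L124637 q6394, e3 q7400 L124643 q5932, e3 q7401 L124651 q5933, e3 q7402 (flp_e L180966) q9064, e3 q7403 (flp_e L180974) q9065, e3 q7404 L181015 q9071, e3 q7405 (flp_e L180984) q9067, e3 q7406 L576554 q8411, e3 q7407 L124707 q6000, e3 q7408 L124714 q5938, e3 q7409 L124722 q5939, e3 q7410 L124730 q7410, e3 q7411 L124736 q5940, e3 q7412 (flp_e L181071) q9075, e3 q7413 (flp_e L181087) q9077, e3 q7414 L124764 q6007, e3 q7415 L124773 q6008, e3 q7416 L124780 q5946, e3 q7417 L124789 q7417, e3 q7418 L124794 q5947, e3 q7419 L124803 q7419, e3 q7420 L124810 q7420, e3 q7421 (flp_e L181157) q9085, e3 q7422 (flp_e L124821) q5948, e3 q7423 (flp_e L181206) q9091, trivial⟩ (by decide +kernel)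

theorem ce_e_116 : ∀ r, r < 64 → sm ge (Qf (7424 + r)) = Qf (tab Gen.e (7424 + r)) :=
  edges_tab (sm ge) Qf (tab Gen.e) 7424 [(7424, 6399), (7425, 5950), (7426, 5951), (7427, 9096), (7428, 9097), (7429, 9099), (7430, 6023), (7431, 5955), (7432, 5956), (7433, 6171), (7434, 5957), (7435, 9104), (7436, 9106), (7437, 6402), (7438, 6403), (7439, 6032), (7440, 5961), (7441, 5962), (7442, 9121), (7443, 5964), (7444, 9117), (7445, 9125), (7446, 9119), (7447, 5963), (7448, 9128), (7449, 9127), (7450, 5966), (7451, 6044), (7452, 6045), (7453, 5972), (7454, 6192), (7455, 5973), (7456, 6194), (7457, 6195), (7458, 9136), (7459, 6052), (7460, 6053), (7461, 9146), (7462, 6055), (7463, 6201), (7464, 5981), (7465, 6203), (7466, 6204), (7467, 6205), (7468, 6206), (7469, 6207), (7470, 5982), (7471, 9156), (7472, 5984), (7473, 5985), (7474, 9159), (7475, 9160), (7476, 9162), (7477, 9054), (7478, 5989), (7479, 5990), (7480, 5991), (7481, 9167), (7482, 9168), (7483, 6413), (7484, 6414), (7485, 9063), (7486, 5995), (7487, 5996)]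
    ⟨e3 q7424 L124862 q6399, e3 q7425 L124870 q5950, e3 q7426 L124878 q5951, e3 q7427 (flp_e L181303) q9096, e3 q7428 (flp_e L181311) q9097, e3 q7429 (flp_e L181325) q9099, e3 q7430 L124944 q6023, e3 q7431 L124952 q5955, e3 q7432 L124959 q5956, e3 q7433 L124968 q6171, e3 q7434 L124976 q5957, e3 q7435 (flp_e L181429) q9104, e3 q7436 (flp_e L181448) q9106, e3 q7437 L125005 q6402, e3 q7438 L125010 q6403, e3 q7439 L125016 q6032, e3 q7440 L125022 q5961, e3 q7441 L125028 q5962, e3 q7442 L181547 q9121, e3 q7443 L125038 q5964, e3 q7444 (flp_e L181527) q9117, e3 q7445 L181573 q9125, e3 q7446 (flp_e L181539) q9119, e3 q7447 (flp_e L125066) q5963, e3 q7448 (flp_e L181603) q9128, e3 q7449 (flp_e L181597) q9127, e3 q7450 L125090 q5966, e3 q7451 L125107 q6044, e3 q7452 L125115 q6045, e3 q7453 L125123 q5972, e3 q7454 L125133 q6192, e3 q7455 L125140 q5973, e3 q7456 L125146 q6194, e3 q7457 L125155 q6195, e3 q7458 (flp_e L181682) q9136, e3 q7459 L125171 q6052, e3 q7460 L125176 q6053, e3 q7461 L181753 q9146, e3 q7462 L125191 q6055, e3 q7463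 L125200 q6201, e3 q7464 L125206 q5981, e3 q7465 L125213 q6203, e3 q7466 L125223 q6204, e3 q7467 L125229 q6205, e3 q7468 L125237 q6206, e3 q7469 L125242 q6207, e3 q7470 (flp_e L125245) q5982, e3 q7471 (flp_e L181843) q9156, e3 q7472 L125302 q5984, e3 q7473 L125312 q5985, e3 q7474 (flp_e L181947) q9159, e3 q7475 (flp_e L181958) q9160, e3 q7476 (flp_e L181973) q9162, e3 q7477 (flp_e L180881) q9054, e3 q7478 L125387 q5989, e3 q7479 L125397 q5990, e3 q7480 L125415 q5991, e3 q7481 (flp_e L182073) q9167, e3 q7482 (flp_e L182093) q9168, e3 q7483 L125445 q6413, e3 q7484 L125453 q6414, e3 q7485 (flp_e L180960) q9063, e3 q7486 L125466 q5995, e3 q7487 L125475 q5996, trivial⟩ (by decide +kernel)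

theorem ce_e_117 : ∀ r, r < 64 → sm ge (Qf (7488 + r)) = Qf (tab Gen.e (7488 + r)) :=
  edges_tab (sm ge) Qf (tab Gen.e) 7488 [(7488, 9181), (7489, 5998), (7490, 9177), (7491, 9185), (7492, 9179), (7493, 5997), (7494, 9187), (7495, 9073), (7496, 9074), (7497, 6005), (7498, 7498), (7499, 6006), (7500, 7500), (7501, 7501), (7502, 9193), (7503, 9081), (7504, 9082), (7505, 9202), (7506, 9084), (7507, 7507), (7508, 6014), (7509, 7509), (7510, 7510), (7511, 7511), (7512, 7512), (7513, 7513), (7514, 6418), (7515, 6016), (7516, 9215), (7517, 6422), (7518, 6423), (7519, 9095), (7520, 6020), (7521, 6021), (7522, 8875), (7523, 6022), (7524, 9223), (7525, 9225), (7526, 9102), (7527, 9103), (7528, 6028), (7529, 6218), (7530, 6029), (7531, 6220), (7532, 6221), (7533, 9234), (7534, 9239), (7535, 6427), (7536, 6428), (7537, 9246), (7538, 6430), (7539, 9115), (7540, 9116), (7541, 6037), (7542, 9255), (7543, 6039), (7544, 9258), (7545, 6035), (7546, 9261), (7547, 9263), (7548, 9253), (7549, 6038), (7550, 9266), (7551, 6042)]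
    ⟨e3 q7488 L182210 q9181, e3 q7489 L125486 q5998, e3 q7490 (flp_e L182186) q9177, e3 q7491 L182237 q9185, e3 q7492 (flp_e L182199) q9179, e3 q7493 (flp_e L125513) q5997, e3 q7494 (flp_e L182262) q9187, e3 q7495 (flp_e L181053) q9073, e3 q7496 (flp_e L181063) q9074, e3 q7497 L125567 q6005, e3 q7498 L125578 q7498, e3 q7499 L125585 q6006, e3 q7500 L125593 q7500, e3 q7501 L125603 q7501, e3 q7502 (flp_e L182341) q9193, e3 q7503 (flp_e L181119) q9081, e3 q7504 (flp_e L181126) q9082, e3 q7505 L182419 q9202, e3 q7506 (flp_e L181141) q9084, e3 q7507 L125650 q7507, e3 q7508 L125656 q6014, e3 q7509 L125666 q7509, e3 q7510 L125676 q7510, e3 q7511 L125681 q7511, e3 q7512 L125690 q7512, e3 q7513 L125695 q7513, e3 q7514 (flp_e L551409) q6418, e3 q7515 L125713 q6016, e3 q7516 (flp_e L182530) q9215, e3 q7517 L125785 q6422, e3 q7518 L125793 q6423, e3 q7519 (flp_e L181295) q9095, e3 q7520 L125808 q6020, e3 q7521 L125817 q6021, e3 q7522 (flp_e L575796) q8875, e3 q7523 L125832 q6022, e3 q7524 (flp_e L182709) q9223, e3 q7525 (flp_e L182726)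 q9225, e3 q7526 (flp_e L181411) q9102, e3 q7527 (flp_e L181420) q9103, e3 q7528 L125930 q6028, e3 q7529 L125942 q6218, e3 q7530 L125951 q6029, e3 q7531 L125959 q6220, e3 q7532 L125971 q6221, e3 q7533 (flp_e L182900) q9234, e3 q7534 L182953 q9239, e3 q7535 L125996 q6427, e3 q7536 L126003 q6428, e3 q7537 L183003 q9246, e3 q7538 L126016 q6430, e3 q7539 (flp_e L181511) q9115, e3 q7540 (flp_e L181519) q9116, e3 q7541 L126035 q6037, e3 q7542 L183058 q9255, e3 q7543 L126048 q6039, e3 q7544 L183075 q9258, e3 q7545 (flp_e L126057) q6035, e3 q7546 (flp_e L183098) q9261, e3 q7547 L183104 q9263, e3 q7548 (flp_e L183047) q9253, e3 q7549 (flp_e L126083) q6038, e3 q7550 (flp_e L183132) q9266, e3 q7551 L126106 q6042, trivial⟩ (by decide +kernel)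

theorem ce_e_118 : ∀ r, r < 64 → sm ge (Qf (7552 + r)) = Qf (tab Gen.e (7552 + r)) :=
  edges_tab (sm ge) Qf (tab Gen.e) 7552 [(7552, 6041), (7553, 9267), (7554, 9268), (7555, 9131), (7556, 9132), (7557, 9275), (7558, 9134), (7559, 6243), (7560, 6051), (7561, 6245), (7562, 6246), (7563, 6247), (7564, 6248), (7565, 6249), (7566, 9142), (7567, 9288), (7568, 9144), (7569, 9291), (7570, 6054), (7571, 9293), (7572, 6256), (7573, 6257), (7574, 6258), (7575, 6259), (7576, 6260), (7577, 6261), (7578, 6262), (7579, 6263), (7580, 7580), (7581, 9305), (7582, 6446), (7583, 6447), (7584, 6449), (7585, 7585), (7586, 7586), (7587, 7587), (7588, 9314), (7589, 7589), (7590, 7590), (7591, 7591), (7592, 7592), (7593, 9321), (7594, 7594), (7595, 9324), (7596, 6076), (7597, 9326), (7598, 7598), (7599, 7599), (7600, 7600), (7601, 7601), (7602, 7602), (7603, 7603), (7604, 7604), (7605, 7605), (7606, 9337), (7607, 6466), (7608, 6467), (7609, 6468), (7610, 7610), (7611, 7611), (7612, 7612), (7613, 9346), (7614, 6268), (7615, 6270)]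
    ⟨e3 q7552 L126112 q6041, e3 q7553 (flp_e L183148) q9267, e3 q7554 (flp_e L183156) q9268, e3 q7555 (flp_e L181642) q9131, e3 q7556 (flp_e L181648) q9132, e3 q7557 L183228 q9275, e3 q7558 (flp_e L181665) q9134, e3 q7559 L126182 q6243, e3 q7560 L126190 q6051, e3 q7561 L126197 q6245, e3 q7562 L126209 q6246, e3 q7563 L126215 q6247, e3 q7564 L126226 q6248, e3 q7565 L126233 q6249, e3 q7566 (flp_e L181726) q9142, e3 q7567 L183342 q9288, e3 q7568 (flp_e L181741) q9144, e3 q7569 L183366 q9291, e3 q7570 (flp_e L126267) q6054, e3 q7571 (flp_e L183385) q9293, e3 q7572 L126284 q6256, e3 q7573 L126296 q6257, e3 q7574 L126303 q6258, e3 q7575 L126314 q6259, e3 q7576 L126321 q6260, e3 q7577 L126329 q6261, e3 q7578 L126339 q6262, e3 q7579 L126347 q6263, e3 q7580 L126587 q7580, e3 q7581 L183937 q9305, e3 q7582 L126668 q6446, e3 q7583 L126676 q6447, e3 q7584 L126689 q6449, e3 q7585 L126699 q7585, e3 q7586 L126830 q7586, e3 q7587 L126838 q7587, e3 q7588 L184214 q9314, e3 q7589 L126865 q7589, e3 q7590 L126879 q7590, e3 q7591 L126893 q7591,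 e3 q7592 L126915 q7592, e3 q7593 L184311 q9321, e3 q7594 L126930 q7594, e3 q7595 L184332 q9324, e3 q7596 (flp_e L126943) q6076, e3 q7597 (flp_e L184350) q9326, e3 q7598 L126958 q7598, e3 q7599 L126968 q7599, e3 q7600 L126975 q7600, e3 q7601 L126984 q7601, e3 q7602 L126990 q7602, e3 q7603 L126998 q7603, e3 q7604 L127006 q7604, e3 q7605 L127013 q7605, e3 q7606 L184562 q9337, e3 q7607 L127114 q6466, e3 q7608 L127121 q6467, e3 q7609 L127137 q6468, e3 q7610 L127146 q7610, e3 q7611 L127218 q7611, e3 q7612 L127225 q7612, e3 q7613 L184752 q9346, e3 q7614 L127253 q6268, e3 q7615 L127269 q6270, trivial⟩ (by decide +kernel)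

theorem ce_e_119 : ∀ r, r < 64 → sm ge (Qf (7616 + r)) = Qf (tab Gen.e (7616 + r)) :=
  edges_tab (sm ge) Qf (tab Gen.e) 7616 [(7616, 6272), (7617, 6094), (7618, 9350), (7619, 9351), (7620, 6473), (7621, 7621), (7622, 6474), (7623, 7623), (7624, 7624), (7625, 7625), (7626, 7626), (7627, 9365), (7628, 7628), (7629, 7629), (7630, 7630), (7631, 7631), (7632, 9372), (7633, 7633), (7634, 9375), (7635, 6106), (7636, 9377), (7637, 6279), (7638, 6280), (7639, 6281), (7640, 6282), (7641, 6283), (7642, 6284), (7643, 6285), (7644, 6286), (7645, 8694), (7646, 7646), (7647, 6120), (7648, 6116), (7649, 6118), (7650, 9373), (7651, 9287), (7652, 6278), (7653, 6253), (7654, 6287), (7655, 6275), (7656, 6251), (7657, 6288), (7658, 6289), (7659, 9395), (7660, 6131), (7661, 8010), (7662, 9396), (7663, 6136), (7664, 9009), (7665, 6137), (7666, 8018), (7667, 9399), (7668, 6142), (7669, 9405), (7670, 6144), (7671, 8016), (7672, 9409), (7673, 9403), (7674, 6143), (7675, 9412), (7676, 9411), (7677, 6146), (7678, 7678), (7679, 6152)]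
    ⟨e3 q7616 L127286 q6272, e3 q7617 (flp_e L127307) q6094, e3 q7618 (flp_e L184845) q9350, e3 q7619 (flp_e L184852) q9351, e3 q7620 L127328 q6473, e3 q7621 L127338 q7621, e3 q7622 L127344 q6474, e3 q7623 L127350 q7623, e3 q7624 L127359 q7624, e3 q7625 L127366 q7625, e3 q7626 L127373 q7626, e3 q7627 L184965 q9365, e3 q7628 L127397 q7628, e3 q7629 L127410 q7629, e3 q7630 L127427 q7630, e3 q7631 L127447 q7631, e3 q7632 L185060 q9372, e3 q7633 L127463 q7633, e3 q7634 L185085 q9375, e3 q7635 (flp_e L127472) q6106, e3 q7636 (flp_e L185102) q9377, e3 q7637 L127489 q6279, e3 q7638 L127500 q6280, e3 q7639 L127507 q6281, e3 q7640 L127517 q6282, e3 q7641 L127525 q6283, e3 q7642 L127533 q6284, e3 q7643 L127542 q6285, e3 q7644 L127549 q6286, e3 q7645 (flp_e L647144) q8694, e3 q7646 L127562 q7646, e3 q7647 L647048 q6120, e3 q7648 (flp_e L127574) q6116, e3 q7649 L647064 q6118, e3 q7650 L647072 q9373, e3 q7651 L647008 q9287, e3 q7652 (flp_e L647421) q6278, e3 q7653 (flp_e L647276) q6253, e3 q7654 L127654 q6287, e3 q7655 (flp_e L647511)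 q6275, e3 q7656 L647250 q6251, e3 q7657 L127683 q6288, e3 q7658 L127690 q6289, e3 q7659 L185366 q9395, e3 q7660 L127775 q6131, e3 q7661 (flp_e L645327) q8010, e3 q7662 (flp_e L185540) q9396, e3 q7663 L127866 q6136, e3 q7664 (flp_e L180438) q9009, e3 q7665 L127884 q6137, e3 q7666 (flp_e L648129) q8018, e3 q7667 (flp_e L185666) q9399, e3 q7668 L127950 q6142, e3 q7669 L185796 q9405, e3 q7670 L127965 q6144, e3 q7671 (flp_e L645402) q8016, e3 q7672 L185832 q9409, e3 q7673 (flp_e L185784) q9403, e3 q7674 (flp_e L127998) q6143, e3 q7675 (flp_e L185859) q9412, e3 q7676 (flp_e L185854) q9411, e3 q7677 L128026 q6146, e3 q7678 L128053 q7678, e3 q7679 L128061 q6152, trivial⟩ (by decide +kernel)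

theorem ce_e_120 : ∀ r, r < 64 → sm ge (Qf (7680 + r)) = Qf (tab Gen.e (7680 + r)) :=
  edges_tab (sm ge) Qf (tab Gen.e) 7680 [(7680, 9030), (7681, 6153), (7682, 9032), (7683, 9033), (7684, 9418), (7685, 7685), (7686, 9427), (7687, 7687), (7688, 9039), (7689, 6161), (7690, 9041), (7691, 9042), (7692, 9043), (7693, 9044), (7694, 9045), (7695, 6166), (7696, 8804), (7697, 6167), (7698, 8022), (7699, 9437), (7700, 6216), (7701, 6173), (7702, 9105), (7703, 6174), (7704, 9107), (7705, 9108), (7706, 9444), (7707, 9451), (7708, 6490), (7709, 6224), (7710, 6182), (7711, 9456), (7712, 6184), (7713, 9459), (7714, 6180), (7715, 9462), (7716, 9464), (7717, 9454), (7718, 6183), (7719, 9467), (7720, 6187), (7721, 6186), (7722, 9468), (7723, 9469), (7724, 6240), (7725, 9475), (7726, 6242), (7727, 9135), (7728, 6196), (7729, 9137), (7730, 9138), (7731, 9139), (7732, 9140), (7733, 9141), (7734, 6250), (7735, 9392), (7736, 6252), (7737, 9489), (7738, 6199), (7739, 9491), (7740, 9148), (7741, 9149), (7742, 9150), (7743, 9151)]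
    ⟨e3 q7680 (flp_e L180619) q9030, e3 q7681 L128078 q6153, e3 q7682 (flp_e L180632) q9032, e3 q7683 (flp_e L180643) q9033, e3 q7684 (flp_e L185947) q9418, e3 q7685 L128122 q7685, e3 q7686 L186027 q9427, e3 q7687 L128138 q7687, e3 q7688 (flp_e L180692) q9039, e3 q7689 L128155 q6161, e3 q7690 (flp_e L180707) q9041, e3 q7691 (flp_e L180717) q9042, e3 q7692 (flp_e L180723) q9043, e3 q7693 (flp_e L180733) q9044, e3 q7694 (flp_e L180740) q9045, e3 q7695 L128336 q6166, e3 q7696 L521754 q8804, e3 q7697 L128351 q6167, e3 q7698 (flp_e L645393) q8022, e3 q7699 (flp_e L186367) q9437, e3 q7700 L128441 q6216, e3 q7701 L128451 q6173, e3 q7702 (flp_e L181440) q9105, e3 q7703 L128468 q6174, e3 q7704 (flp_e L181456) q9107, e3 q7705 (flp_e L181466) q9108, e3 q7706 (flp_e L186534) q9444, e3 q7707 L186623 q9451, e3 q7708 L128533 q6490, e3 q7709 L128552 q6224, e3 q7710 L128562 q6182, e3 q7711 L186694 q9456, e3 q7712 L128576 q6184, e3 q7713 L186714 q9459, e3 q7714 (flp_e L128586) q6180, e3 q7715 (flp_e L186736) q9462, e3 q7716 L186743 q9464,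 e3 q7717 (flp_e L186683) q9454, e3 q7718 (flp_e L128616) q6183, e3 q7719 (flp_e L186769) q9467, e3 q7720 L128637 q6187, e3 q7721 L128642 q6186, e3 q7722 (flp_e L186786) q9468, e3 q7723 (flp_e L186793) q9469, e3 q7724 L128688 q6240, e3 q7725 L186871 q9475, e3 q7726 L128706 q6242, e3 q7727 (flp_e L181675) q9135, e3 q7728 L128723 q6196, e3 q7729 (flp_e L181688) q9137, e3 q7730 (flp_e L181699) q9138, e3 q7731 (flp_e L181705) q9139, e3 q7732 (flp_e L181714) q9140, e3 q7733 (flp_e L181720) q9141, e3 q7734 L128763 q6250, e3 q7735 L645728 q9392, e3 q7736 L128780 q6252, e3 q7737 L186991 q9489, e3 q7738 (flp_e L128795) q6199, e3 q7739 (flp_e L187012) q9491, e3 q7740 (flp_e L181771) q9148, e3 q7741 (flp_e L181781) q9149, e3 q7742 (flp_e L181787) q9150, e3 q7743 (flp_e L181797) q9151, trivial⟩ (by decide +kernel)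

theorem ce_e_121 : ∀ r, r < 64 → sm ge (Qf (7744 + r)) = Qf (tab Gen.e (7744 + r)) :=
  edges_tab (sm ge) Qf (tab Gen.e) 7744 [(7744, 9152), (7745, 9153), (7746, 9154), (7747, 9155), (7748, 8045), (7749, 6213), (7750, 8882), (7751, 6214), (7752, 8884), (7753, 8885), (7754, 9505), (7755, 8037), (7756, 9514), (7757, 9442), (7758, 9233), (7759, 6222), (7760, 9235), (7761, 9236), (7762, 9237), (7763, 9238), (7764, 8666), (7765, 8034), (7766, 9527), (7767, 9453), (7768, 9530), (7769, 6232), (7770, 9533), (7771, 6226), (7772, 9536), (7773, 9539), (7774, 6228), (7775, 9542), (7776, 7776), (7777, 6230), (7778, 9546), (7779, 6231), (7780, 9548), (7781, 9466), (7782, 6234), (7783, 6237), (7784, 6238), (7785, 9551), (7786, 9552), (7787, 8030), (7788, 9391), (7789, 9473), (7790, 9558), (7791, 6241), (7792, 9560), (7793, 9277), (7794, 9278), (7795, 9279), (7796, 9280), (7797, 9281), (7798, 9282), (7799, 9283), (7800, 9284), (7801, 9485), (7802, 9300), (7803, 9381), (7804, 9297), (7805, 6255), (7806, 9296), (7807, 9295)]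
    ⟨e3 q7744 (flp_e L181804) q9152, e3 q7745 (flp_e L181811) q9153, e3 q7746 (flp_e L181819) q9154, e3 q7747 (flp_e L181826) q9155, e3 q7748 (flp_e L648062) q8045, e3 q7749 L129034 q6213, e3 q7750 (flp_e L521035) q8882, e3 q7751 L129052 q6214, e3 q7752 L547395 q8884, e3 q7753 (flp_e L549234) q8885, e3 q7754 (flp_e L187361) q9505, e3 q7755 (flp_e L648079) q8037, e3 q7756 L187583 q9514, e3 q7757 (flp_e L186515) q9442, e3 q7758 (flp_e L182891) q9233, e3 q7759 L129220 q6222, e3 q7760 (flp_e L182909) q9235, e3 q7761 (flp_e L182922) q9236, e3 q7762 (flp_e L182928) q9237, e3 q7763 (flp_e L182940) q9238, e3 q7764 L546676 q8666, e3 q7765 L647743 q8034, e3 q7766 L187706 q9527, e3 q7767 (flp_e L186667) q9453, e3 q7768 L187727 q9530, e3 q7769 L129314 q6232, e3 q7770 L187752 q9533, e3 q7771 (flp_e L129327) q6226, e3 q7772 (flp_e L187778) q9536, e3 q7773 L187797 q9539, e3 q7774 (flp_e L129350) q6228, e3 q7775 (flp_e L187824) q9542, e3 q7776 L129371 q7776, e3 q7777 L129377 q6230, e3 q7778 (flp_e L187853) q9546, e3 q7779 (flp_e L129387)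 q6231, e3 q7780 (flp_e L187867) q9548, e3 q7781 (flp_e L186764) q9466, e3 q7782 L129411 q6234, e3 q7783 L129426 q6237, e3 q7784 L129433 q6238, e3 q7785 (flp_e L187905) q9551, e3 q7786 (flp_e L187913) q9552, e3 q7787 L647825 q8030, e3 q7788 L647735 q9391, e3 q7789 (flp_e L186858) q9473, e3 q7790 L188018 q9558, e3 q7791 (flp_e L129509) q6241, e3 q7792 (flp_e L188036) q9560, e3 q7793 (flp_e L183246) q9277, e3 q7794 (flp_e L183259) q9278, e3 q7795 (flp_e L183266) q9279, e3 q7796 (flp_e L183278) q9280, e3 q7797 (flp_e L183286) q9281, e3 q7798 (flp_e L183296) q9282, e3 q7799 (flp_e L183307) q9283, e3 q7800 (flp_e L183314) q9284, e3 q7801 (flp_e L186952) q9485, e3 q7802 L647292 q9300, e3 q7803 (flp_e L646624) q9381, e3 q7804 L647320 q9297, e3 q7805 L129660 q6255, e3 q7806 (flp_e L647346) q9296, e3 q7807 (flp_e L183398) q9295, trivial⟩ (by decide +kernel)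

theorem ce_e_122 : ∀ r, r < 64 → sm ge (Qf (7808 + r)) = Qf (tab Gen.e (7808 + r)) :=
  edges_tab (sm ge) Qf (tab Gen.e) 7808 [(7808, 9298), (7809, 9299), (7810, 9301), (7811, 9302), (7812, 9390), (7813, 9577), (7814, 6266), (7815, 9389), (7816, 9347), (7817, 8670), (7818, 9348), (7819, 8671), (7820, 8663), (7821, 9349), (7822, 8672), (7823, 8665), (7824, 9383), (7825, 9380), (7826, 6276), (7827, 9379), (7828, 9382), (7829, 9384), (7830, 9385), (7831, 9386), (7832, 9591), (7833, 9393), (7834, 7834), (7835, 8731), (7836, 6318), (7837, 6322), (7838, 6383), (7839, 6386), (7840, 8771), (7841, 9013), (7842, 6328), (7843, 8795), (7844, 6331), (7845, 6336), (7846, 6334), (7847, 6397), (7848, 8817), (7849, 6337), (7850, 6401), (7851, 8832), (7852, 8833), (7853, 9111), (7854, 6345), (7855, 9597), (7856, 8870), (7857, 8871), (7858, 6359), (7859, 6351), (7860, 8898), (7861, 6355), (7862, 6415), (7863, 8904), (7864, 8905), (7865, 6360), (7866, 8633), (7867, 6424), (7868, 7868), (7869, 9610), (7870, 8925), (7871, 8926)]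
    ⟨e3 q7808 (flp_e L183427) q9298, e3 q7809 (flp_e L183438) q9299, e3 q7810 (flp_e L183458) q9301, e3 q7811 (flp_e L183465) q9302, e3 q7812 L646117 q9390, e3 q7813 L188385 q9577, e3 q7814 (flp_e L129787) q6266, e3 q7815 L646087 q9389, e3 q7816 (flp_e L184773) q9347, e3 q7817 (flp_e L546156) q8670, e3 q7818 (flp_e L184792) q9348, e3 q7819 L543356 q8671, e3 q7820 (flp_e L562166) q8663, e3 q7821 (flp_e L184819) q9349, e3 q7822 (flp_e L543420) q8672, e3 q7823 (flp_e L546662) q8665, e3 q7824 (flp_e L646431) q9383, e3 q7825 (flp_e L646467) q9380, e3 q7826 (flp_e L129920) q6276, e3 q7827 L646290 q9379, e3 q7828 (flp_e L185143) q9382, e3 q7829 (flp_e L185161) q9384, e3 q7830 (flp_e L185171) q9385, e3 q7831 (flp_e L185180) q9386, e3 q7832 L188676 q9591, e3 q7833 (flp_e L185357) q9393, e3 q7834 L130500 q7834, e3 q7835 (flp_e L176610) q8731, e3 q7836 (flp_e L133088) q6318, e3 q7837 (flp_e L622513) q6322, e3 q7838 (flp_e L622524) q6383, e3 q7839 L622540 q6386, e3 q7840 (flp_e L177301) q8771, e3 q7841 L622458 q9013, e3 q7842 (flp_e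 L133436) q6328, e3 q7843 (flp_e L177841) q8795, e3 q7844 L134078 q6331, e3 q7845 L622745 q6336, e3 q7846 (flp_e L134276) q6334, e3 q7847 L622386 q6397, e3 q7848 (flp_e L178087) q8817, e3 q7849 L134343 q6337, e3 q7850 (flp_e L622785) q6401, e3 q7851 (flp_e L178222) q8832, e3 q7852 (flp_e L178228) q8833, e3 q7853 L622276 q9111, e3 q7854 (flp_e L134543) q6345, e3 q7855 (flp_e L195385) q9597, e3 q7856 (flp_e L178996) q8870, e3 q7857 (flp_e L179005) q8871, e3 q7858 L624806 q6359, e3 q7859 L135500 q6351, e3 q7860 (flp_e L179275) q8898, e3 q7861 L135777 q6355, e3 q7862 L622837 q6415, e3 q7863 (flp_e L179370) q8904, e3 q7864 (flp_e L179377) q8905, e3 q7865 L135891 q6360, e3 q7866 (flp_e L551335) q8633, e3 q7867 (flp_e L624769) q6424, e3 q7868 L136026 q7868, e3 q7869 L197596 q9610, e3 q7870 (flp_e L179569) q8925, e3 q7871 (flp_e L179577) q8926, trivial⟩ (by decide +kernel)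

theorem ce_e_123 : ∀ r, r < 64 → sm ge (Qf (7872 + r)) = Qf (tab Gen.e (7872 + r)) :=
  edges_tab (sm ge) Qf (tab Gen.e) 7872 [(7872, 9616), (7873, 8928), (7874, 9618), (7875, 8645), (7876, 6369), (7877, 9619), (7878, 6371), (7879, 6373), (7880, 9621), (7881, 7881), (7882, 6378), (7883, 6384), (7884, 8980), (7885, 9000), (7886, 9014), (7887, 6388), (7888, 9626), (7889, 9048), (7890, 6391), (7891, 6398), (7892, 9061), (7893, 9062), (7894, 9090), (7895, 9093), (7896, 9094), (7897, 9112), (7898, 9635), (7899, 9114), (7900, 6404), (7901, 6405), (7902, 6407), (7903, 9639), (7904, 8632), (7905, 8529), (7906, 6419), (7907, 6410), (7908, 9645), (7909, 9171), (7910, 9172), (7911, 9213), (7912, 9174), (7913, 9212), (7914, 8646), (7915, 7915), (7916, 9653), (7917, 9217), (7918, 9218), (7919, 9220), (7920, 6426), (7921, 9657), (7922, 9242), (7923, 9660), (7924, 9244), (7925, 6429), (7926, 9663), (7927, 6431), (7928, 7928), (7929, 6433), (7930, 9638), (7931, 6436), (7932, 9668), (7933, 9669), (7934, 8631), (7935, 8527)]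
    ⟨e3 q7872 L197650 q9616, e3 q7873 (flp_e L179593) q8928, e3 q7874 L197724 q9618, e3 q7875 L542391 q8645, e3 q7876 (flp_e L136140) q6369, e3 q7877 L197779 q9619, e3 q7878 (flp_e L136172) q6371, e3 q7879 L136194 q6373, e3 q7880 (flp_e L197823) q9621, e3 q7881 L136304 q7881, e3 q7882 (flp_e L136403) q6378, e3 q7883 L622594 q6384, e3 q7884 (flp_e L180071) q8980, e3 q7885 (flp_e L180321) q9000, e3 q7886 (flp_e L180482) q9014, e3 q7887 (flp_e L137005) q6388, e3 q7888 (flp_e L198993) q9626, e3 q7889 (flp_e L180794) q9048, e3 q7890 L137279 q6391, e3 q7891 L622806 q6398, e3 q7892 (flp_e L180945) q9061, e3 q7893 (flp_e L180952) q9062, e3 q7894 (flp_e L552340) q9090, e3 q7895 (flp_e L181280) q9093, e3 q7896 (flp_e L181287) q9094, e3 q7897 (flp_e L181494) q9112, e3 q7898 L200431 q9635, e3 q7899 (flp_e L181505) q9114, e3 q7900 (flp_e L138045) q6404, e3 q7901 (flp_e L138070) q6405, e3 q7902 L138090 q6407, e3 q7903 (flp_e L200575) q9639, e3 q7904 L561719 q8632, e3 q7905 (flp_e L547051) q8529, e3 q7906 L624714 q6419, e3 q7907 L138452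 q6410, e3 q7908 L201340 q9645, e3 q7909 (flp_e L182141) q9171, e3 q7910 (flp_e L182150) q9172, e3 q7911 (flp_e L547311) q9213, e3 q7912 (flp_e L182163) q9174, e3 q7913 (flp_e L547214) q9212, e3 q7914 (flp_e L420436) q8646, e3 q7915 L138855 q7915, e3 q7916 L202064 q9653, e3 q7917 (flp_e L182658) q9217, e3 q7918 (flp_e L182667) q9218, e3 q7919 (flp_e L182684) q9220, e3 q7920 (flp_e L139377) q6426, e3 q7921 (flp_e L202367) q9657, e3 q7922 (flp_e L182977) q9242, e3 q7923 L202416 q9660, e3 q7924 (flp_e L182992) q9244, e3 q7925 (flp_e L139417) q6429, e3 q7926 (flp_e L202440) q9663, e3 q7927 (flp_e L139472) q6431, e3 q7928 L139492 q7928, e3 q7929 (flp_e L139506) q6433, e3 q7930 (flp_e L200553) q9638, e3 q7931 L139544 q6436, e3 q7932 (flp_e L202587) q9668, e3 q7933 L202839 q9669, e3 q7934 (flp_e L561858) q8631, e3 q7935 (flp_e L561913) q8527, trivial⟩ (by decide +kernel)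

theorem ce_e_124 : ∀ r, r < 64 → sm ge (Qf (7936 + r)) = Qf (tab Gen.e (7936 + r)) :=
  edges_tab (sm ge) Qf (tab Gen.e) 7936 [(7936, 8530), (7937, 7937), (7938, 6445), (7939, 9673), (7940, 9674), (7941, 9308), (7942, 8468), (7943, 9309), (7944, 8464), (7945, 8469), (7946, 8472), (7947, 8467), (7948, 8463), (7949, 8461), (7950, 8643), (7951, 8647), (7952, 8640), (7953, 8641), (7954, 8644), (7955, 8542), (7956, 7956), (7957, 6465), (7958, 8642), (7959, 9689), (7960, 9340), (7961, 9341), (7962, 6471), (7963, 6472), (7964, 9693), (7965, 9695), (7966, 9357), (7967, 9697), (7968, 6514), (7969, 6480), (7970, 6481), (7971, 6483), (7972, 9701), (7973, 8109), (7974, 9702), (7975, 6521), (7976, 9704), (7977, 6489), (7978, 9706), (7979, 6491), (7980, 6492), (7981, 6519), (7982, 6494), (7983, 6499), (7984, 6497), (7985, 9711), (7986, 9709), (7987, 9710), (7988, 6501), (7989, 7989), (7990, 9714), (7991, 7991), (7992, 8712), (7993, 6507), (7994, 8710), (7995, 6509), (7996, 9699), (7997, 9705), (7998, 9708), (7999, 7999)]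
    ⟨e3 q7936 (flp_e L561957) q8530, e3 q7937 L139917 q7937, e3 q7938 (flp_e L139929) q6445, e3 q7939 (flp_e L203098) q9673, e3 q7940 (flp_e L203105) q9674, e3 q7941 (flp_e L183962) q9308, e3 q7942 L537198 q8468, e3 q7943 (flp_e L183977) q9309, e3 q7944 L523379 q8464, e3 q7945 L537161 q8469, e3 q7946 (flp_e L616359) q8472, e3 q7947 (flp_e L537312) q8467, e3 q7948 (flp_e L537086) q8463, e3 q7949 (flp_e L537101) q8461, e3 q7950 L561423 q8643, e3 q7951 (flp_e L561537) q8647, e3 q7952 (flp_e L616071) q8640, e3 q7953 (flp_e L561840) q8641, e3 q7954 L561654 q8644, e3 q7955 (flp_e L561635) q8542, e3 q7956 L140263 q7956, e3 q7957 (flp_e L140267) q6465, e3 q7958 (flp_e L616211) q8642, e3 q7959 (flp_e L203570) q9689, e3 q7960 (flp_e L184587) q9340, e3 q7961 (flp_e L184605) q9341, e3 q7962 L140318 q6471, e3 q7963 L140323 q6472, e3 q7964 (flp_e L203616) q9693, e3 q7965 (flp_e L203629) q9695, e3 q7966 (flp_e L184893) q9357, e3 q7967 L204216 q9697, e3 q7968 L644866 q6514, e3 q7969 (flp_e L140782) q6480, e3 q7970 (flp_e L140817) q6481,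 e3 q7971 L140835 q6483, e3 q7972 (flp_e L204389) q9701, e3 q7973 (flp_e L644012) q8109, e3 q7974 L205290 q9702, e3 q7975 (flp_e L642559) q6521, e3 q7976 L205313 q9704, e3 q7977 (flp_e L141508) q6489, e3 q7978 (flp_e L205336) q9706, e3 q7979 (flp_e L141544) q6491, e3 q7980 (flp_e L141566) q6492, e3 q7981 L141583 q6519, e3 q7982 (flp_e L141598) q6494, e3 q7983 L141615 q6499, e3 q7984 L141635 q6497, e3 q7985 (flp_e L205519) q9711, e3 q7986 (flp_e L205478) q9709, e3 q7987 (flp_e L205498) q9710, e3 q7988 L142094 q6501, e3 q7989 L142347 q7989, e3 q7990 L206787 q9714, e3 q7991 L142578 q7991, e3 q7992 L644776 q8712, e3 q7993 (flp_e L142590) q6507, e3 q7994 (flp_e L641824) q8710, e3 q7995 (flp_e L142628) q6509, e3 q7996 (flp_e L204332) q9699, e3 q7997 (flp_e L205331) q9705, e3 q7998 (flp_e L205457) q9708, e3 q7999 L143631 q7999, trivial⟩ (by decide +kernel)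

theorem ce_e_125 : ∀ r, r < 64 → sm ge (Qf (8000 + r)) = Qf (tab Gen.e (8000 + r)) :=
  edges_tab (sm ge) Qf (tab Gen.e) 8000 [(8000, 6523), (8001, 8001), (8002, 6524), (8003, 8003), (8004, 8004), (8005, 8005), (8006, 8006), (8007, 8007), (8008, 8008), (8009, 8009), (8010, 7661), (8011, 8011), (8012, 6579), (8013, 7158), (8014, 9722), (8015, 8015), (8016, 7671), (8017, 8017), (8018, 7666), (8019, 9729), (8020, 8020), (8021, 6590), (8022, 7698), (8023, 9732), (8024, 6596), (8025, 6730), (8026, 6597), (8027, 7198), (8028, 9734), (8029, 8029), (8030, 7787), (8031, 9741), (8032, 8032), (8033, 6603), (8034, 7765), (8035, 9744), (8036, 6608), (8037, 7755), (8038, 9749), (8039, 9746), (8040, 6609), (8041, 9752), (8042, 6614), (8043, 6775), (8044, 6615), (8045, 7748), (8046, 9755), (8047, 7255), (8048, 6621), (8049, 6782), (8050, 6622), (8051, 6784), (8052, 6785), (8053, 9762), (8054, 7104), (8055, 8055), (8056, 7112), (8057, 6630), (8058, 8058), (8059, 8059), (8060, 7106), (8061, 7108), (8062, 9770), (8063, 7110)]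
    ⟨e3 q8000 L143639 q6523, e3 q8001 L143665 q8001, e3 q8002 (flp_e L143687) q6524, e3 q8003 L143737 q8003, e3 q8004 L143908 q8004, e3 q8005 L144669 q8005, e3 q8006 L145831 q8006, e3 q8007 L164521 q8007, e3 q8008 L166500 q8008, e3 q8009 L166530 q8009, e3 q8010 L645327 q7661, e3 q8011 L166566 q8011, e3 q8012 L166593 q6579, e3 q8013 (flp_e L642910) q7158, e3 q8014 (flp_e L241607) q9722, e3 q8015 L166651 q8015, e3 q8016 L645402 q7671, e3 q8017 L166687 q8017, e3 q8018 L648129 q7666, e3 q8019 L241799 q9729, e3 q8020 L166738 q8020, e3 q8021 L166753 q6590, e3 q8022 L645393 q7698, e3 q8023 (flp_e L241851) q9732, e3 q8024 L166803 q6596, e3 q8025 L166811 q6730, e3 q8026 L166817 q6597, e3 q8027 L642928 q7198, e3 q8028 (flp_e L241913) q9734, e3 q8029 L166857 q8029, e3 q8030 (flp_e L647825) q7787, e3 q8031 L242051 q9741, e3 q8032 L166899 q8032, e3 q8033 L166916 q6603, e3 q8034 (flp_e L647743) q7765, e3 q8035 (flp_e L242111) q9744, e3 q8036 L166970 q6608, e3 q8037 L648079 q7755, e3 q8038 L242215 q9749, e3 q8039 (flp_e L242186) q9746,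 e3 q8040 (flp_e L167007) q6609, e3 q8041 (flp_e L242246) q9752, e3 q8042 L167043 q6614, e3 q8043 L167053 q6775, e3 q8044 L167060 q6615, e3 q8045 L648062 q7748, e3 q8046 (flp_e L242294) q9755, e3 q8047 L642996 q7255, e3 q8048 L167102 q6621, e3 q8049 L167112 q6782, e3 q8050 L167119 q6622, e3 q8051 L167127 q6784, e3 q8052 L167138 q6785, e3 q8053 (flp_e L242370) q9762, e3 q8054 L167173 q7104, e3 q8055 L167184 q8055, e3 q8056 L643330 q7112, e3 q8057 (flp_e L643456) q6630, e3 q8058 L167209 q8058, e3 q8059 L167220 q8059, e3 q8060 L167235 q7106, e3 q8061 L167247 q7108, e3 q8062 L641532 q9770, e3 q8063 L167265 q7110, trivial⟩ (by decide +kernel)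

theorem ce_e_126 : ∀ r, r < 64 → sm ge (Qf (8064 + r)) = Qf (tab Gen.e (8064 + r)) :=
  edges_tab (sm ge) Qf (tab Gen.e) 8064 [(8064, 7113), (8065, 9773), (8066, 7115), (8067, 6675), (8068, 6636), (8069, 9776), (8070, 9777), (8071, 7118), (8072, 6680), (8073, 9778), (8074, 9779), (8075, 6643), (8076, 9781), (8077, 9782), (8078, 6647), (8079, 6648), (8080, 9783), (8081, 6652), (8082, 9785), (8083, 9786), (8084, 6703), (8085, 6656), (8086, 6657), (8087, 9790), (8088, 9791), (8089, 9793), (8090, 6660), (8091, 9794), (8092, 6662), (8093, 9796), (8094, 6664), (8095, 6665), (8096, 9799), (8097, 9800), (8098, 8098), (8099, 6669), (8100, 6670), (8101, 7169), (8102, 6671), (8103, 9804), (8104, 7161), (8105, 6673), (8106, 9809), (8107, 9810), (8108, 7165), (8109, 7973), (8110, 6677), (8111, 6678), (8112, 9815), (8113, 9816), (8114, 9818), (8115, 7172), (8116, 9823), (8117, 7174), (8118, 6682), (8119, 9828), (8120, 9829), (8121, 7178), (8122, 6685), (8123, 9832), (8124, 9833), (8125, 9838), (8126, 7184), (8127, 6688)]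
    ⟨e3 q8064 L167345 q7113, e3 q8065 L242734 q9773, e3 q8066 L167367 q7115, e3 q8067 L167377 q6675, e3 q8068 (flp_e L167382) q6636, e3 q8069 (flp_e L242792) q9776, e3 q8070 (flp_e L242800) q9777, e3 q8071 L167416 q7118, e3 q8072 L167427 q6680, e3 q8073 L242862 q9778, e3 q8074 L242908 q9779, e3 q8075 (flp_e L167486) q6643, e3 q8076 (flp_e L242953) q9781, e3 q8077 (flp_e L242959) q9782, e3 q8078 L167533 q6647, e3 q8079 L167539 q6648, e3 q8080 L243126 q9783, e3 q8081 (flp_e L167623) q6652, e3 q8082 (flp_e L243173) q9785, e3 q8083 (flp_e L243181) q9786, e3 q8084 L167664 q6703, e3 q8085 L167676 q6656, e3 q8086 L167684 q6657, e3 q8087 (flp_e L243228) q9790, e3 q8088 (flp_e L243236) q9791, e3 q8089 (flp_e L243252) q9793, e3 q8090 (flp_e L167738) q6660, e3 q8091 (flp_e L243338) q9794, e3 q8092 (flp_e L167779) q6662, e3 q8093 (flp_e L243385) q9796, e3 q8094 L167819 q6664, e3 q8095 L167825 q6665, e3 q8096 (flp_e L243452) q9799, e3 q8097 (flp_e L243458) q9800, e3 q8098 L167855 q8098, e3 q8099 L167864 q6669, e3 q8100 L167870 q6670,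 e3 q8101 L644414 q7169, e3 q8102 L167885 q6671, e3 q8103 L243646 q9804, e3 q8104 L167964 q7161, e3 q8105 (flp_e L167969) q6673, e3 q8106 (flp_e L243704) q9809, e3 q8107 (flp_e L243712) q9810, e3 q8108 L168002 q7165, e3 q8109 L644012 q7973, e3 q8110 L168025 q6677, e3 q8111 L168034 q6678, e3 q8112 (flp_e L243763) q9815, e3 q8113 (flp_e L243774) q9816, e3 q8114 (flp_e L243791) q9818, e3 q8115 L168076 q7172, e3 q8116 L243843 q9823, e3 q8117 L168099 q7174, e3 q8118 (flp_e L168104) q6682, e3 q8119 (flp_e L243895) q9828, e3 q8120 (flp_e L243902) q9829, e3 q8121 L168135 q7178, e3 q8122 (flp_e L168149) q6685, e3 q8123 (flp_e L243950) q9832, e3 q8124 (flp_e L243958) q9833, e3 q8125 L244002 q9838, e3 q8126 L168191 q7184, e3 q8127 L168200 q6688, trivial⟩ (by decide +kernel)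

theorem ce_e_127 : ∀ r, r < 64 → sm ge (Qf (8128 + r)) = Qf (tab Gen.e (8128 + r)) :=
  edges_tab (sm ge) Qf (tab Gen.e) 8128 [(8128, 6689), (8129, 9841), (8130, 9842), (8131, 9844), (8132, 8132), (8133, 6694), (8134, 6695), (8135, 7170), (8136, 6696), (8137, 7212), (8138, 9846), (8139, 6697), (8140, 9850), (8141, 9851), (8142, 6885), (8143, 7203), (8144, 6700), (8145, 6701), (8146, 9858), (8147, 9859), (8148, 9861), (8149, 6744), (8150, 6706), (8151, 6707), (8152, 8152), (8153, 6708), (8154, 9866), (8155, 9868), (8156, 9872), (8157, 7217), (8158, 6710), (8159, 9878), (8160, 9879), (8161, 9884), (8162, 7222), (8163, 6713), (8164, 6714), (8165, 9887), (8166, 9888), (8167, 9890), (8168, 8168), (8169, 6718), (8170, 6719), (8171, 9895), (8172, 9896), (8173, 9902), (8174, 9898), (8175, 6720), (8176, 9905), (8177, 6772), (8178, 6724), (8179, 6725), (8180, 9731), (8181, 6726), (8182, 9909), (8183, 9911), (8184, 6779), (8185, 6780), (8186, 6732), (8187, 7214), (8188, 6733), (8189, 7353), (8190, 9735), (8191, 9919)]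
    ⟨e3 q8128 L168206 q6689, e3 q8129 (flp_e L244032) q9841, e3 q8130 (flp_e L244040) q9842, e3 q8131 (flp_e L244056) q9844, e3 q8132 L168241 q8132, e3 q8133 L168249 q6694, e3 q8134 L168258 q6695, e3 q8135 L644190 q7170, e3 q8136 L168274 q6696, e3 q8137 L644038 q7212, e3 q8138 (flp_e L244117) q9846, e3 q8139 (flp_e L168380) q6697, e3 q8140 (flp_e L244283) q9850, e3 q8141 (flp_e L244293) q9851, e3 q8142 L550543 q6885, e3 q8143 L168423 q7203, e3 q8144 L168433 q6700, e3 q8145 L168441 q6701, e3 q8146 (flp_e L244369) q9858, e3 q8147 (flp_e L244377) q9859, e3 q8148 (flp_e L244392) q9861, e3 q8149 L168480 q6744, e3 q8150 L168489 q6706, e3 q8151 L168498 q6707, e3 q8152 L168507 q8152, e3 q8153 L168513 q6708, e3 q8154 (flp_e L244445) q9866, e3 q8155 (flp_e L244460) q9868, e3 q8156 L244494 q9872, e3 q8157 L168556 q7217, e3 q8158 (flp_e L168560) q6710, e3 q8159 (flp_e L244555) q9878, e3 q8160 (flp_e L244563) q9879, e3 q8161 L244601 q9884, e3 q8162 L168598 q7222, e3 q8163 L168607 q6713, e3 q8164 L168614 q6714, e3 q8165 (flp_e L244632)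 q9887, e3 q8166 (flp_e L244639) q9888, e3 q8167 (flp_e L244655) q9890, e3 q8168 L168649 q8168, e3 q8169 L168656 q6718, e3 q8170 L168664 q6719, e3 q8171 (flp_e L244707) q9895, e3 q8172 (flp_e L244715) q9896, e3 q8173 L244764 q9902, e3 q8174 (flp_e L244731) q9898, e3 q8175 (flp_e L168702) q6720, e3 q8176 (flp_e L244790) q9905, e3 q8177 L168723 q6772, e3 q8178 L168731 q6724, e3 q8179 L168737 q6725, e3 q8180 (flp_e L241845) q9731, e3 q8181 L168751 q6726, e3 q8182 (flp_e L244823) q9909, e3 q8183 (flp_e L244837) q9911, e3 q8184 L168776 q6779, e3 q8185 L168785 q6780, e3 q8186 L168796 q6732, e3 q8187 L644206 q7214, e3 q8188 L168810 q6733, e3 q8189 L641300 q7353, e3 q8190 (flp_e L241930) q9735, e3 q8191 (flp_e L244909) q9919, trivial⟩ (by decide +kernel)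

theorem ce_e_128 : ∀ r, r < 64 → sm ge (Qf (8192 + r)) = Qf (tab Gen.e (8192 + r)) :=
  edges_tab (sm ge) Qf (tab Gen.e) 8192 [(8192, 8192), (8193, 6735), (8194, 6736), (8195, 9927), (8196, 9928), (8197, 9934), (8198, 9930), (8199, 6987), (8200, 9857), (8201, 6741), (8202, 6742), (8203, 8203), (8204, 6743), (8205, 9939), (8206, 9941), (8207, 9864), (8208, 9865), (8209, 6749), (8210, 8210), (8211, 6750), (8212, 8212), (8213, 8213), (8214, 9950), (8215, 6751), (8216, 9957), (8217, 9958), (8218, 6945), (8219, 7281), (8220, 8220), (8221, 6754), (8222, 6755), (8223, 9968), (8224, 9969), (8225, 9975), (8226, 9971), (8227, 6756), (8228, 9978), (8229, 9886), (8230, 6760), (8231, 6761), (8232, 9743), (8233, 6762), (8234, 9982), (8235, 9984), (8236, 8236), (8237, 8237), (8238, 9894), (8239, 6766), (8240, 6767), (8241, 9999), (8242, 6769), (8243, 9995), (8244, 10003), (8245, 9997), (8246, 6768), (8247, 10006), (8248, 10005), (8249, 6771), (8250, 10010), (8251, 9907), (8252, 9908), (8253, 6777), (8254, 9754), (8255, 6778)]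
    ⟨e3 q8192 L168964 q8192, e3 q8193 L168971 q6735, e3 q8194 L168981 q6736, e3 q8195 (flp_e L245192) q9927, e3 q8196 (flp_e L245203) q9928, e3 q8197 L245254 q9934, e3 q8198 (flp_e L245220) q9930, e3 q8199 L575577 q6987, e3 q8200 (flp_e L244361) q9857, e3 q8201 L169055 q6741, e3 q8202 L169064 q6742, e3 q8203 L169075 q8203, e3 q8204 L169081 q6743, e3 q8205 (flp_e L245320) q9939, e3 q8206 (flp_e L245337) q9941, e3 q8207 (flp_e L244423) q9864, e3 q8208 (flp_e L244434) q9865, e3 q8209 L169129 q6749, e3 q8210 L169139 q8210, e3 q8211 L169146 q6750, e3 q8212 L169155 q8212, e3 q8213 L169167 q8213, e3 q8214 (flp_e L245422) q9950, e3 q8215 (flp_e L169182) q6751, e3 q8216 (flp_e L245493) q9957, e3 q8217 (flp_e L245502) q9958, e3 q8218 L550777 q6945, e3 q8219 L169225 q7281, e3 q8220 L169236 q8220, e3 q8221 L169243 q6754, e3 q8222 L169251 q6755, e3 q8223 (flp_e L245602) q9968, e3 q8224 (flp_e L245611) q9969, e3 q8225 L245657 q9975, e3 q8226 (flp_e L245628) q9971, e3 q8227 (flp_e L169289) q6756, e3 q8228 (flp_e L245686) q9978, e3 q8229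 (flp_e L244623) q9886, e3 q8230 L169318 q6760, e3 q8231 L169326 q6761, e3 q8232 (flp_e L242103) q9743, e3 q8233 L169344 q6762, e3 q8234 (flp_e L245717) q9982, e3 q8235 (flp_e L245735) q9984, e3 q8236 L169371 q8236, e3 q8237 L169377 q8237, e3 q8238 (flp_e L244697) q9894, e3 q8239 L169395 q6766, e3 q8240 L169404 q6767, e3 q8241 L245861 q9999, e3 q8242 L169421 q6769, e3 q8243 (flp_e L245833) q9995, e3 q8244 L245894 q10003, e3 q8245 (flp_e L245850) q9997, e3 q8246 (flp_e L169450) q6768, e3 q8247 (flp_e L245921) q10006, e3 q8248 (flp_e L245915) q10005, e3 q8249 L169479 q6771, e3 q8250 (flp_e L245952) q10010, e3 q8251 (flp_e L244805) q9907, e3 q8252 (flp_e L244813) q9908, e3 q8253 L169507 q6777, e3 q8254 (flp_e L242287) q9754, e3 q8255 L169523 q6778, trivial⟩ (by decide +kernel)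

theorem ce_e_129 : ∀ r, r < 64 → sm ge (Qf (8256 + r)) = Qf (tab Gen.e (8256 + r)) :=
  edges_tab (sm ge) Qf (tab Gen.e) 8256 [(8256, 9756), (8257, 9757), (8258, 10016), (8259, 9915), (8260, 9916), (8261, 10026), (8262, 9918), (8263, 9761), (8264, 6786), (8265, 9763), (8266, 9764), (8267, 9765), (8268, 9766), (8269, 9767), (8270, 8270), (8271, 10039), (8272, 8272), (8273, 8273), (8274, 10040), (8275, 8275), (8276, 6790), (8277, 10037), (8278, 10047), (8279, 8279), (8280, 8280), (8281, 6794), (8282, 6795), (8283, 10051), (8284, 10052), (8285, 10054), (8286, 7330), (8287, 10059), (8288, 7332), (8289, 6799), (8290, 10064), (8291, 10065), (8292, 7336), (8293, 8293), (8294, 6802), (8295, 10070), (8296, 10071), (8297, 10076), (8298, 7342), (8299, 6805), (8300, 6806), (8301, 10079), (8302, 10080), (8303, 10082), (8304, 8304), (8305, 6811), (8306, 6812), (8307, 10053), (8308, 6813), (8309, 10087), (8310, 10089), (8311, 10093), (8312, 7341), (8313, 6815), (8314, 10098), (8315, 10099), (8316, 9807), (8317, 7359), (8318, 6818), (8319,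 6819)]
    ⟨e3 q8256 (flp_e L242301) q9756, e3 q8257 (flp_e L242312) q9757, e3 q8258 (flp_e L246001) q10016, e3 q8259 (flp_e L244866) q9915, e3 q8260 (flp_e L244875) q9916, e3 q8261 L246079 q10026, e3 q8262 (flp_e L244893) q9918, e3 q8263 (flp_e L242363) q9761, e3 q8264 L169596 q6786, e3 q8265 (flp_e L242379) q9763, e3 q8266 (flp_e L242390) q9764, e3 q8267 (flp_e L242397) q9765, e3 q8268 (flp_e L242408) q9766, e3 q8269 (flp_e L242415) q9767, e3 q8270 L169645 q8270, e3 q8271 L246190 q10039, e3 q8272 L169666 q8272, e3 q8273 L169678 q8273, e3 q8274 L614218 q10040, e3 q8275 L169697 q8275, e3 q8276 (flp_e L169701) q6790, e3 q8277 L614238 q10037, e3 q8278 (flp_e L246302) q10047, e3 q8279 L169734 q8279, e3 q8280 L169744 q8280, e3 q8281 L169756 q6794, e3 q8282 L169763 q6795, e3 q8283 (flp_e L246350) q10051, e3 q8284 (flp_e L246359) q10052, e3 q8285 (flp_e L246376) q10054, e3 q8286 L169801 q7330, e3 q8287 L246423 q10059, e3 q8288 L169826 q7332, e3 q8289 (flp_e L169831) q6799, e3 q8290 (flp_e L246482) q10064, e3 q8291 (flp_e L246491)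 q10065, e3 q8292 L169867 q7336, e3 q8293 L169880 q8293, e3 q8294 (flp_e L169886) q6802, e3 q8295 (flp_e L246542) q10070, e3 q8296 (flp_e L246550) q10071, e3 q8297 L246590 q10076, e3 q8298 L169922 q7342, e3 q8299 L169934 q6805, e3 q8300 L169942 q6806, e3 q8301 (flp_e L246620) q10079, e3 q8302 (flp_e L246630) q10080, e3 q8303 (flp_e L246647) q10082, e3 q8304 L169982 q8304, e3 q8305 L169989 q6811, e3 q8306 L169998 q6812, e3 q8307 (flp_e L246369) q10053, e3 q8308 L170013 q6813, e3 q8309 (flp_e L246693) q10087, e3 q8310 (flp_e L246708) q10089, e3 q8311 L246741 q10093, e3 q8312 L553583 q7341, e3 q8313 (flp_e L170055) q6815, e3 q8314 (flp_e L246800) q10098, e3 q8315 (flp_e L246808) q10099, e3 q8316 (flp_e L575408) q9807, e3 q8317 L170098 q7359, e3 q8318 L170109 q6818, e3 q8319 L170116 q6819, trivial⟩ (by decide +kernel)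

theorem ce_e_130 : ∀ r, r < 64 → sm ge (Qf (8320 + r)) = Qf (tab Gen.e (8320 + r)) :=
  edges_tab (sm ge) Qf (tab Gen.e) 8320 [(8320, 10106), (8321, 10107), (8322, 10109), (8323, 8323), (8324, 6823), (8325, 6824), (8326, 10115), (8327, 10116), (8328, 10122), (8329, 10118), (8330, 6825), (8331, 10125), (8332, 8332), (8333, 6829), (8334, 6830), (8335, 8335), (8336, 6831), (8337, 10129), (8338, 10131), (8339, 8339), (8340, 8340), (8341, 6837), (8342, 8342), (8343, 6838), (8344, 8344), (8345, 8345), (8346, 10137), (8347, 8347), (8348, 10048), (8349, 8349), (8350, 6840), (8351, 10147), (8352, 10148), (8353, 8353), (8354, 8354), (8355, 6843), (8356, 10149), (8357, 10152), (8358, 10156), (8359, 8359), (8360, 6846), (8361, 6847), (8362, 10143), (8363, 10159), (8364, 10161), (8365, 6933), (8366, 6852), (8367, 6853), (8368, 6876), (8369, 6854), (8370, 10166), (8371, 10168), (8372, 10172), (8373, 7221), (8374, 6856), (8375, 10177), (8376, 10178), (8377, 9875), (8378, 7393), (8379, 6859), (8380, 6860), (8381, 10185), (8382, 10186),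 (8383, 10188)]
    ⟨e3 q8320 (flp_e L246889) q10106, e3 q8321 (flp_e L246898) q10107, e3 q8322 (flp_e L246918) q10109, e3 q8323 L170158 q8323, e3 q8324 L170163 q6823, e3 q8325 L170169 q6824, e3 q8326 (flp_e L246969) q10115, e3 q8327 (flp_e L246977) q10116, e3 q8328 L247020 q10122, e3 q8329 (flp_e L246991) q10118, e3 q8330 (flp_e L170206) q6825, e3 q8331 (flp_e L247048) q10125, e3 q8332 L170228 q8332, e3 q8333 L170236 q6829, e3 q8334 L170244 q6830, e3 q8335 L170256 q8335, e3 q8336 L170262 q6831, e3 q8337 (flp_e L247081) q10129, e3 q8338 (flp_e L247099) q10131, e3 q8339 L170290 q8339, e3 q8340 L170296 q8340, e3 q8341 L170304 q6837, e3 q8342 L170315 q8342, e3 q8343 L170320 q6838, e3 q8344 L170327 q8344, e3 q8345 L170338 q8345, e3 q8346 (flp_e L247177) q10137, e3 q8347 L170355 q8347, e3 q8348 (flp_e L614270) q10048, e3 q8349 L170375 q8349, e3 q8350 (flp_e L170378) q6840, e3 q8351 (flp_e L247293) q10147, e3 q8352 (flp_e L247301) q10148, e3 q8353 L170412 q8353, e3 q8354 L170422 q8354, e3 q8355 (flp_e L170428) q6843, e3 q8356 L614288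 q10149, e3 q8357 (flp_e L247355) q10152, e3 q8358 L247392 q10156, e3 q8359 L170464 q8359, e3 q8360 L170473 q6846, e3 q8361 L170480 q6847, e3 q8362 (flp_e L614336) q10143, e3 q8363 (flp_e L247431) q10159, e3 q8364 (flp_e L247447) q10161, e3 q8365 L170517 q6933, e3 q8366 L170525 q6852, e3 q8367 L170532 q6853, e3 q8368 L170540 q6876, e3 q8369 L170547 q6854, e3 q8370 (flp_e L247495) q10166, e3 q8371 (flp_e L247511) q10168, e3 q8372 L247543 q10172, e3 q8373 L576252 q7221, e3 q8374 (flp_e L170589) q6856, e3 q8375 (flp_e L247603) q10177, e3 q8376 (flp_e L247613) q10178, e3 q8377 L550783 q9875, e3 q8378 L170631 q7393, e3 q8379 L170643 q6859, e3 q8380 L170652 q6860, e3 q8381 (flp_e L247690) q10185, e3 q8382 (flp_e L247699) q10186, e3 q8383 (flp_e L247716) q10188, trivial⟩ (by decide +kernel)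

theorem ce_e_131 : ∀ r, r < 64 → sm ge (Qf (8384 + r)) = Qf (tab Gen.e (8384 + r)) :=
  edges_tab (sm ge) Qf (tab Gen.e) 8384 [(8384, 8384), (8385, 6864), (8386, 6865), (8387, 10194), (8388, 10195), (8389, 10201), (8390, 10197), (8391, 6866), (8392, 10204), (8393, 6961), (8394, 6870), (8395, 6871), (8396, 10160), (8397, 6872), (8398, 10208), (8399, 10210), (8400, 6968), (8401, 6969), (8402, 6878), (8403, 10167), (8404, 6879), (8405, 10169), (8406, 10170), (8407, 10219), (8408, 6880), (8409, 10226), (8410, 10227), (8411, 7406), (8412, 8412), (8413, 6883), (8414, 6884), (8415, 10234), (8416, 10235), (8417, 10241), (8418, 10237), (8419, 9856), (8420, 6988), (8421, 6889), (8422, 6890), (8423, 8423), (8424, 6891), (8425, 10246), (8426, 10248), (8427, 8427), (8428, 8428), (8429, 6997), (8430, 6895), (8431, 6896), (8432, 10263), (8433, 6898), (8434, 10259), (8435, 10267), (8436, 10261), (8437, 6897), (8438, 10270), (8439, 10269), (8440, 6900), (8441, 10274), (8442, 7010), (8443, 7011), (8444, 6906), (8445, 8445), (8446, 6907),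 (8447, 8447)]
    ⟨e3 q8384 L170692 q8384, e3 q8385 L170697 q6864, e3 q8386 L170705 q6865, e3 q8387 (flp_e L247770) q10194, e3 q8388 (flp_e L247778) q10195, e3 q8389 L247821 q10201, e3 q8390 (flp_e L247790) q10197, e3 q8391 (flp_e L170739) q6866, e3 q8392 (flp_e L247839) q10204, e3 q8393 L170759 q6961, e3 q8394 L170768 q6870, e3 q8395 L170776 q6871, e3 q8396 (flp_e L247440) q10160, e3 q8397 L170791 q6872, e3 q8398 (flp_e L247875) q10208, e3 q8399 (flp_e L247890) q10210, e3 q8400 L170819 q6968, e3 q8401 L170828 q6969, e3 q8402 L170837 q6878, e3 q8403 (flp_e L247504) q10167, e3 q8404 L170850 q6879, e3 q8405 (flp_e L247519) q10169, e3 q8406 (flp_e L247529) q10170, e3 q8407 (flp_e L247966) q10219, e3 q8408 (flp_e L170878) q6880, e3 q8409 (flp_e L248017) q10226, e3 q8410 (flp_e L248024) q10227, e3 q8411 (flp_e L576554) q7406, e3 q8412 L170923 q8412, e3 q8413 L170930 q6883, e3 q8414 L170938 q6884, e3 q8415 (flp_e L248115) q10234, e3 q8416 (flp_e L248123) q10235, e3 q8417 L248173 q10241, e3 q8418 (flp_e L248139) q10237, e3 q8419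 (flp_e L550559) q9856, e3 q8420 L171002 q6988, e3 q8421 L171012 q6889, e3 q8422 L171019 q6890, e3 q8423 L171030 q8423, e3 q8424 L171037 q6891, e3 q8425 (flp_e L248241) q10246, e3 q8426 (flp_e L248259) q10248, e3 q8427 L171066 q8427, e3 q8428 L171070 q8428, e3 q8429 L171077 q6997, e3 q8430 L171085 q6895, e3 q8431 L171091 q6896, e3 q8432 L248366 q10263, e3 q8433 L171103 q6898, e3 q8434 (flp_e L248344) q10259, e3 q8435 L248392 q10267, e3 q8436 (flp_e L248356) q10261, e3 q8437 (flp_e L171131) q6897, e3 q8438 (flp_e L248416) q10270, e3 q8439 (flp_e L248411) q10269, e3 q8440 L171153 q6900, e3 q8441 (flp_e L248442) q10274, e3 q8442 L171168 q7010, e3 q8443 L171176 q7011, e3 q8444 L171186 q6906, e3 q8445 L171196 q8445, e3 q8446 L171202 q6907, e3 q8447 L171208 q8447, trivial⟩ (by decide +kernel)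

theorem ce_e_132 : ∀ r, r < 64 → sm ge (Qf (8448 + r)) = Qf (tab Gen.e (8448 + r)) :=
  edges_tab (sm ge) Qf (tab Gen.e) 8448 [(8448, 8448), (8449, 10280), (8450, 7018), (8451, 7019), (8452, 10290), (8453, 7021), (8454, 8454), (8455, 6915), (8456, 8456), (8457, 8457), (8458, 8458), (8459, 8459), (8460, 8460), (8461, 7949), (8462, 8462), (8463, 7948), (8464, 7944), (8465, 9963), (8466, 8466), (8467, 7947), (8468, 7942), (8469, 7945), (8470, 6924), (8471, 6925), (8472, 7946), (8473, 10308), (8474, 10314), (8475, 10310), (8476, 6926), (8477, 10317), (8478, 10158), (8479, 6930), (8480, 6931), (8481, 6932), (8482, 10320), (8483, 10321), (8484, 10164), (8485, 10165), (8486, 6938), (8487, 6971), (8488, 6939), (8489, 6973), (8490, 6974), (8491, 10327), (8492, 6940), (8493, 10332), (8494, 10333), (8495, 7289), (8496, 6943), (8497, 6944), (8498, 10338), (8499, 10339), (8500, 10345), (8501, 10341), (8502, 9964), (8503, 10184), (8504, 6949), (8505, 6950), (8506, 6951), (8507, 10350), (8508, 10351), (8509, 8509), (8510, 8510), (8511,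 10193)]
    ⟨e3 q8448 L171218 q8448, e3 q8449 (flp_e L248497) q10280, e3 q8450 L171234 q7018, e3 q8451 L171241 q7019, e3 q8452 L248573 q10290, e3 q8453 L171258 q7021, e3 q8454 L171269 q8454, e3 q8455 L171274 q6915, e3 q8456 L171281 q8456, e3 q8457 L171290 q8457, e3 q8458 L171295 q8458, e3 q8459 L171304 q8459, e3 q8460 L171310 q8460, e3 q8461 L537101 q7949, e3 q8462 L171329 q8462, e3 q8463 L537086 q7948, e3 q8464 (flp_e L523379) q7944, e3 q8465 (flp_e L550456) q9963, e3 q8466 L171371 q8466, e3 q8467 L537312 q7947, e3 q8468 (flp_e L537198) q7942, e3 q8469 (flp_e L537161) q7945, e3 q8470 L171436 q6924, e3 q8471 L171444 q6925, e3 q8472 L616359 q7946, e3 q8473 (flp_e L248884) q10308, e3 q8474 L248927 q10314, e3 q8475 (flp_e L248898) q10310, e3 q8476 (flp_e L171481) q6926, e3 q8477 (flp_e L248958) q10317, e3 q8478 (flp_e L247416) q10158, e3 q8479 L171511 q6930, e3 q8480 L171519 q6931, e3 q8481 L171537 q6932, e3 q8482 (flp_e L248989) q10320, e3 q8483 (flp_e L249008) q10321, e3 q8484 (flp_e L247477) q10164, e3 q8485 (flp_e L247486)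 q10165, e3 q8486 L171580 q6938, e3 q8487 L171590 q6971, e3 q8488 L171598 q6939, e3 q8489 L171606 q6973, e3 q8490 L171618 q6974, e3 q8491 (flp_e L249088) q10327, e3 q8492 (flp_e L171632) q6940, e3 q8493 (flp_e L249157) q10332, e3 q8494 (flp_e L249166) q10333, e3 q8495 L554632 q7289, e3 q8496 L171692 q6943, e3 q8497 L171702 q6944, e3 q8498 (flp_e L249262) q10338, e3 q8499 (flp_e L249273) q10339, e3 q8500 L249323 q10345, e3 q8501 (flp_e L249290) q10341, e3 q8502 L550748 q9964, e3 q8503 (flp_e L247680) q10184, e3 q8504 L171777 q6949, e3 q8505 L171787 q6950, e3 q8506 L171806 q6951, e3 q8507 (flp_e L249388) q10350, e3 q8508 (flp_e L249407) q10351, e3 q8509 L171836 q8509, e3 q8510 L171843 q8510, e3 q8511 (flp_e L247762) q10193, trivial⟩ (by decide +kernel)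

theorem ce_e_133 : ∀ r, r < 64 → sm ge (Qf (8512 + r)) = Qf (tab Gen.e (8512 + r)) :=
  edges_tab (sm ge) Qf (tab Gen.e) 8512 [(8512, 6955), (8513, 6956), (8514, 10364), (8515, 6958), (8516, 10360), (8517, 10368), (8518, 10362), (8519, 6957), (8520, 10371), (8521, 10370), (8522, 6960), (8523, 10375), (8524, 10206), (8525, 10207), (8526, 6966), (8527, 7935), (8528, 6967), (8529, 7905), (8530, 7936), (8531, 10381), (8532, 10214), (8533, 10215), (8534, 10390), (8535, 10217), (8536, 10326), (8537, 6975), (8538, 10328), (8539, 10329), (8540, 10330), (8541, 10331), (8542, 7955), (8543, 8543), (8544, 6977), (8545, 6978), (8546, 10403), (8547, 10404), (8548, 10406), (8549, 8549), (8550, 8550), (8551, 10233), (8552, 6983), (8553, 6984), (8554, 10420), (8555, 6986), (8556, 10416), (8557, 10424), (8558, 10418), (8559, 6985), (8560, 10426), (8561, 9936), (8562, 10244), (8563, 10245), (8564, 6993), (8565, 8565), (8566, 6994), (8567, 8567), (8568, 8568), (8569, 10433), (8570, 10438), (8571, 8571), (8572, 8572), (8573, 10445), (8574, 8574),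 (8575, 10257)]
    ⟨e3 q8512 L171859 q6955, e3 q8513 L171868 q6956, e3 q8514 L249532 q10364, e3 q8515 L171881 q6958, e3 q8516 (flp_e L249506) q10360, e3 q8517 L249559 q10368, e3 q8518 (flp_e L249519) q10362, e3 q8519 (flp_e L171908) q6957, e3 q8520 (flp_e L249578) q10371, e3 q8521 (flp_e L249574) q10370, e3 q8522 L171929 q6960, e3 q8523 (flp_e L249603) q10375, e3 q8524 (flp_e L247855) q10206, e3 q8525 (flp_e L247865) q10207, e3 q8526 L171960 q6966, e3 q8527 L561913 q7935, e3 q8528 L171977 q6967, e3 q8529 L547051 q7905, e3 q8530 L561957 q7936, e3 q8531 (flp_e L249659) q10381, e3 q8532 (flp_e L247923) q10214, e3 q8533 (flp_e L247932) q10215, e3 q8534 L249742 q10390, e3 q8535 (flp_e L247949) q10217, e3 q8536 (flp_e L249080) q10326, e3 q8537 L172054 q6975, e3 q8538 (flp_e L249097) q10328, e3 q8539 (flp_e L249109) q10329, e3 q8540 (flp_e L249116) q10330, e3 q8541 (flp_e L249128) q10331, e3 q8542 L561635 q7955, e3 q8543 L172107 q8543, e3 q8544 L172113 q6977, e3 q8545 L172120 q6978, e3 q8546 (flp_e L249857) q10403, e3 q8547 (flp_e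 L249865) q10404, e3 q8548 (flp_e L249881) q10406, e3 q8549 L172184 q8549, e3 q8550 L172191 q8550, e3 q8551 (flp_e L248105) q10233, e3 q8552 L172209 q6983, e3 q8553 L172218 q6984, e3 q8554 L250070 q10420, e3 q8555 L172235 q6986, e3 q8556 (flp_e L250040) q10416, e3 q8557 L250104 q10424, e3 q8558 (flp_e L250057) q10418, e3 q8559 (flp_e L172265) q6985, e3 q8560 (flp_e L250135) q10426, e3 q8561 L550741 q9936, e3 q8562 (flp_e L248221) q10244, e3 q8563 (flp_e L248230) q10245, e3 q8564 L172331 q6993, e3 q8565 L172343 q8565, e3 q8566 L172351 q6994, e3 q8567 L172359 q8567, e3 q8568 L172372 q8568, e3 q8569 (flp_e L250229) q10433, e3 q8570 L250283 q10438, e3 q8571 L172399 q8571, e3 q8572 L172405 q8572, e3 q8573 L250336 q10445, e3 q8574 L172419 q8574, e3 q8575 (flp_e L248326) q10257, trivial⟩ (by decide +kernel)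

theorem ce_e_134 : ∀ r, r < 64 → sm ge (Qf (8576 + r)) = Qf (tab Gen.e (8576 + r)) :=
  edges_tab (sm ge) Qf (tab Gen.e) 8576 [(8576, 10258), (8577, 7002), (8578, 10454), (8579, 7004), (8580, 10457), (8581, 7000), (8582, 10460), (8583, 10462), (8584, 10452), (8585, 7003), (8586, 10465), (8587, 7007), (8588, 7006), (8589, 10469), (8590, 10467), (8591, 10468), (8592, 7009), (8593, 10275), (8594, 10276), (8595, 10477), (8596, 10278), (8597, 8597), (8598, 7017), (8599, 8599), (8600, 8600), (8601, 8601), (8602, 8602), (8603, 8603), (8604, 10286), (8605, 10490), (8606, 10288), (8607, 10493), (8608, 7020), (8609, 10495), (8610, 8610), (8611, 8611), (8612, 8612), (8613, 8613), (8614, 8614), (8615, 8615), (8616, 8616), (8617, 8617), (8618, 10506), (8619, 7053), (8620, 7055), (8621, 7057), (8622, 8622), (8623, 10508), (8624, 8624), (8625, 8625), (8626, 8626), (8627, 8627), (8628, 8628), (8629, 8629), (8630, 10517), (8631, 7934), (8632, 7904), (8633, 7866), (8634, 8634), (8635, 10523), (8636, 8636), (8637, 10524), (8638, 7051), (8639,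 10522)]
    ⟨e3 q8576 (flp_e L248334) q10258, e3 q8577 L172441 q7002, e3 q8578 L250398 q10454, e3 q8579 L172454 q7004, e3 q8580 L250417 q10457, e3 q8581 (flp_e L172465) q7000, e3 q8582 (flp_e L250443) q10460, e3 q8583 L250451 q10462, e3 q8584 (flp_e L250387) q10452, e3 q8585 (flp_e L172491) q7003, e3 q8586 (flp_e L250473) q10465, e3 q8587 L172509 q7007, e3 q8588 L172514 q7006, e3 q8589 (flp_e L250500) q10469, e3 q8590 (flp_e L250486) q10467, e3 q8591 (flp_e L250492) q10468, e3 q8592 L172541 q7009, e3 q8593 (flp_e L248452) q10275, e3 q8594 (flp_e L248460) q10276, e3 q8595 L250566 q10477, e3 q8596 (flp_e L248479) q10278, e3 q8597 L172587 q8597, e3 q8598 L172594 q7017, e3 q8599 L172601 q8599, e3 q8600 L172612 q8600, e3 q8601 L172617 q8601, e3 q8602 L172629 q8602, e3 q8603 L172637 q8603, e3 q8604 (flp_e L248542) q10286, e3 q8605 L250685 q10490, e3 q8606 (flp_e L248559) q10288, e3 q8607 L250710 q10493, e3 q8608 (flp_e L172676) q7020, e3 q8609 (flp_e L250732) q10495, e3 q8610 L172696 q8610, e3 q8611 L172707 q8611, e3 q8612 L172713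 q8612, e3 q8613 L172723 q8613, e3 q8614 L172729 q8614, e3 q8615 L172736 q8615, e3 q8616 L172747 q8616, e3 q8617 L172756 q8617, e3 q8618 L251919 q10506, e3 q8619 L173499 q7053, e3 q8620 L173513 q7055, e3 q8621 L173528 q7057, e3 q8622 L173792 q8622, e3 q8623 L252495 q10508, e3 q8624 L173877 q8624, e3 q8625 L173884 q8625, e3 q8626 L173898 q8626, e3 q8627 L173909 q8627, e3 q8628 L174054 q8628, e3 q8629 L174064 q8629, e3 q8630 L252805 q10517, e3 q8631 L561858 q7934, e3 q8632 (flp_e L561719) q7904, e3 q8633 L551335 q7866, e3 q8634 L174145 q8634, e3 q8635 L252907 q10523, e3 q8636 L174162 q8636, e3 q8637 (flp_e L615908) q10524, e3 q8638 (flp_e L174177) q7051, e3 q8639 L615978 q10522, trivial⟩ (by decide +kernel)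

theorem ce_e_135 : ∀ r, r < 64 → sm ge (Qf (8640 + r)) = Qf (tab Gen.e (8640 + r)) :=
  edges_tab (sm ge) Qf (tab Gen.e) 8640 [(8640, 7952), (8641, 7953), (8642, 7958), (8643, 7950), (8644, 7954), (8645, 7875), (8646, 7914), (8647, 7951), (8648, 10533), (8649, 8649), (8650, 8650), (8651, 8651), (8652, 8652), (8653, 8653), (8654, 8654), (8655, 10542), (8656, 8656), (8657, 8657), (8658, 8658), (8659, 7069), (8660, 10546), (8661, 10547), (8662, 8662), (8663, 7820), (8664, 8664), (8665, 7823), (8666, 7764), (8667, 8667), (8668, 8668), (8669, 10561), (8670, 7817), (8671, 7819), (8672, 7822), (8673, 8673), (8674, 10568), (8675, 8675), (8676, 10571), (8677, 7081), (8678, 10573), (8679, 8679), (8680, 8680), (8681, 8681), (8682, 8682), (8683, 8683), (8684, 8684), (8685, 8685), (8686, 8686), (8687, 10585), (8688, 8688), (8689, 10586), (8690, 7091), (8691, 10584), (8692, 10590), (8693, 7093), (8694, 7645), (8695, 7095), (8696, 10593), (8697, 8697), (8698, 8698), (8699, 8699), (8700, 8700), (8701, 8701), (8702, 8702), (8703, 8703)]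
    ⟨e3 q8640 L616071 q7952, e3 q8641 L561840 q7953, e3 q8642 L616211 q7958, e3 q8643 (flp_e L561423) q7950, e3 q8644 (flp_e L561654) q7954, e3 q8645 (flp_e L542391) q7875, e3 q8646 L420436 q7914, e3 q8647 L561537 q7951, e3 q8648 L253260 q10533, e3 q8649 L174410 q8649, e3 q8650 L174416 q8650, e3 q8651 L174432 q8651, e3 q8652 L174442 q8652, e3 q8653 L174570 q8653, e3 q8654 L174579 q8654, e3 q8655 L253554 q10542, e3 q8656 L174611 q8656, e3 q8657 L174626 q8657, e3 q8658 L174641 q8658, e3 q8659 (flp_e L174665) q7069, e3 q8660 (flp_e L253648) q10546, e3 q8661 (flp_e L253654) q10547, e3 q8662 L174689 q8662, e3 q8663 L562166 q7820, e3 q8664 L174703 q8664, e3 q8665 L546662 q7823, e3 q8666 (flp_e L546676) q7764, e3 q8667 L174734 q8667, e3 q8668 L174743 q8668, e3 q8669 L253801 q10561, e3 q8670 L546156 q7817, e3 q8671 (flp_e L543356) q7819, e3 q8672 L543420 q7822, e3 q8673 L174894 q8673, e3 q8674 L254004 q10568, e3 q8675 L174912 q8675, e3 q8676 L254030 q10571, e3 q8677 (flp_e L174923) q7081, e3 q8678 (flp_e L254050) q10573, e3 q8679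 L174943 q8679, e3 q8680 L174953 q8680, e3 q8681 L174959 q8681, e3 q8682 L174968 q8682, e3 q8683 L174975 q8683, e3 q8684 L174982 q8684, e3 q8685 L174992 q8685, e3 q8686 L175000 q8686, e3 q8687 L254144 q10585, e3 q8688 L175016 q8688, e3 q8689 (flp_e L647105) q10586, e3 q8690 (flp_e L175030) q7091, e3 q8691 L647133 q10584, e3 q8692 L254211 q10590, e3 q8693 (flp_e L175053) q7093, e3 q8694 L647144 q7645, e3 q8695 L175075 q7095, e3 q8696 (flp_e L254257) q10593, e3 q8697 L175090 q8697, e3 q8698 L175100 q8698, e3 q8699 L175107 q8699, e3 q8700 L175114 q8700, e3 q8701 L175123 q8701, e3 q8702 L175131 q8702, e3 q8703 L175140 q8703, trivial⟩ (by decide +kernel)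

theorem ce_e_136 : ∀ r, r < 64 → sm ge (Qf (8704 + r)) = Qf (tab Gen.e (8704 + r)) :=
  edges_tab (sm ge) Qf (tab Gen.e) 8704 [(8704, 8704), (8705, 10602), (8706, 9768), (8707, 7109), (8708, 9769), (8709, 10603), (8710, 7994), (8711, 7114), (8712, 7992), (8713, 7119), (8714, 7121), (8715, 7123), (8716, 7124), (8717, 10605), (8718, 10604), (8719, 7129), (8720, 7128), (8721, 8721), (8722, 7131), (8723, 10608), (8724, 10609), (8725, 7134), (8726, 7135), (8727, 10611), (8728, 8728), (8729, 7140), (8730, 7142), (8731, 7835), (8732, 7145), (8733, 8733), (8734, 7148), (8735, 7149), (8736, 8736), (8737, 7150), (8738, 10616), (8739, 10618), (8740, 8740), (8741, 8741), (8742, 7156), (8743, 8743), (8744, 7157), (8745, 8745), (8746, 8746), (8747, 9723), (8748, 7160), (8749, 10629), (8750, 10630), (8751, 9808), (8752, 7163), (8753, 7164), (8754, 9801), (8755, 9843), (8756, 10633), (8757, 7171), (8758, 9847), (8759, 10635), (8760, 9822), (8761, 7173), (8762, 10628), (8763, 10638), (8764, 10058), (8765, 9827), (8766, 7176), (8767, 7177)]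
    ⟨e3 q8704 L175148 q8704, e3 q8705 L254327 q10602, e3 q8706 (flp_e L242446) q9768, e3 q8707 (flp_e L175469) q7109, e3 q8708 (flp_e L641862) q9769, e3 q8709 L255252 q10603, e3 q8710 L641824 q7994, e3 q8711 (flp_e L175781) q7114, e3 q8712 (flp_e L644776) q7992, e3 q8713 (flp_e L175897) q7119, e3 q8714 (flp_e L175943) q7121, e3 q8715 L175987 q7123, e3 q8716 L175993 q7124, e3 q8717 (flp_e L255602) q10605, e3 q8718 L644887 q10604, e3 q8719 L644319 q7129, e3 q8720 L176041 q7128, e3 q8721 L176050 q8721, e3 q8722 (flp_e L176377) q7131, e3 q8723 (flp_e L256167) q10608, e3 q8724 (flp_e L256176) q10609, e3 q8725 L176421 q7134, e3 q8726 L176429 q7135, e3 q8727 (flp_e L256261) q10611, e3 q8728 L176463 q8728, e3 q8729 L176491 q7140, e3 q8730 L176571 q7142, e3 q8731 L176610 q7835, e3 q8732 L176617 q7145, e3 q8733 L176677 q8733, e3 q8734 L176684 q7148, e3 q8735 L176690 q7149, e3 q8736 L176698 q8736, e3 q8737 L176705 q7150, e3 q8738 (flp_e L256643) q10616, e3 q8739 (flp_e L256660) q10618, e3 q8740 L176729 q8740, e3 q8741 L176736 q8741,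 e3 q8742 L176743 q7156, e3 q8743 L176752 q8743, e3 q8744 L176759 q7157, e3 q8745 L176766 q8745, e3 q8746 L176775 q8746, e3 q8747 (flp_e L633405) q9723, e3 q8748 (flp_e L177024) q7160, e3 q8749 (flp_e L257147) q10629, e3 q8750 (flp_e L257157) q10630, e3 q8751 (flp_e L243693) q9808, e3 q8752 L177079 q7163, e3 q8753 L177087 q7164, e3 q8754 (flp_e L645169) q9801, e3 q8755 L640359 q9843, e3 q8756 (flp_e L257258) q10633, e3 q8757 L177157 q7171, e3 q8758 (flp_e L644171) q9847, e3 q8759 L257353 q10635, e3 q8760 (flp_e L243838) q9822, e3 q8761 (flp_e L177204) q7173, e3 q8762 (flp_e L621588) q10628, e3 q8763 (flp_e L257426) q10638, e3 q8764 (flp_e L576221) q10058, e3 q8765 (flp_e L243885) q9827, e3 q8766 L177255 q7176, e3 q8767 L177262 q7177, trivial⟩ (by decide +kernel)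

theorem ce_e_137 : ∀ r, r < 64 → sm ge (Qf (8768 + r)) = Qf (tab Gen.e (8768 + r)) :=
  edges_tab (sm ge) Qf (tab Gen.e) 8768 [(8768, 10607), (8769, 10644), (8770, 10646), (8771, 7840), (8772, 7181), (8773, 7182), (8774, 10651), (8775, 10655), (8776, 10653), (8777, 7183), (8778, 10658), (8779, 8779), (8780, 7187), (8781, 7188), (8782, 8782), (8783, 7189), (8784, 10660), (8785, 10662), (8786, 8786), (8787, 7195), (8788, 8788), (8789, 7196), (8790, 8790), (8791, 8791), (8792, 9923), (8793, 7199), (8794, 9736), (8795, 7843), (8796, 7201), (8797, 7202), (8798, 10674), (8799, 10675), (8800, 10677), (8801, 7263), (8802, 7206), (8803, 7207), (8804, 7696), (8805, 7208), (8806, 9910), (8807, 10682), (8808, 7270), (8809, 7271), (8810, 7215), (8811, 9848), (8812, 9920), (8813, 7216), (8814, 10689), (8815, 10690), (8816, 9876), (8817, 7848), (8818, 7219), (8819, 7220), (8820, 10671), (8821, 10694), (8822, 10700), (8823, 10696), (8824, 10175), (8825, 7290), (8826, 7225), (8827, 7226), (8828, 8828), (8829, 7227), (8830, 10704), (8831,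 10706)]
    ⟨e3 q8768 (flp_e L621459) q10607, e3 q8769 (flp_e L257511) q10644, e3 q8770 (flp_e L257528) q10646, e3 q8771 L177301 q7840, e3 q8772 L177309 q7181, e3 q8773 L177317 q7182, e3 q8774 (flp_e L257591) q10651, e3 q8775 L257641 q10655, e3 q8776 (flp_e L257607) q10653, e3 q8777 (flp_e L177362) q7183, e3 q8778 (flp_e L257675) q10658, e3 q8779 L177386 q8779, e3 q8780 L177391 q7187, e3 q8781 L177399 q7188, e3 q8782 L177409 q8782, e3 q8783 L177414 q7189, e3 q8784 (flp_e L257708) q10660, e3 q8785 (flp_e L257725) q10662, e3 q8786 L177449 q8786, e3 q8787 L177457 q7195, e3 q8788 L177468 q8788, e3 q8789 L177474 q7196, e3 q8790 L177481 q8790, e3 q8791 L177491 q8791, e3 q8792 (flp_e L641207) q9923, e3 q8793 L177699 q7199, e3 q8794 (flp_e L642940) q9736, e3 q8795 L177841 q7843, e3 q8796 L177849 q7201, e3 q8797 L177859 q7202, e3 q8798 (flp_e L258386) q10674, e3 q8799 (flp_e L258396) q10675, e3 q8800 (flp_e L258410) q10677, e3 q8801 L177923 q7263, e3 q8802 L177929 q7206, e3 q8803 L177937 q7207, e3 q8804 (flp_e L521754) q7696, e3 q8805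 L177949 q7208, e3 q8806 (flp_e L635975) q9910, e3 q8807 (flp_e L258520) q10682, e3 q8808 L177976 q7270, e3 q8809 L177987 q7271, e3 q8810 L178010 q7215, e3 q8811 L644226 q9848, e3 q8812 (flp_e L644217) q9920, e3 q8813 (flp_e L178037) q7216, e3 q8814 (flp_e L258641) q10689, e3 q8815 (flp_e L258650) q10690, e3 q8816 (flp_e L244538) q9876, e3 q8817 L178087 q7848, e3 q8818 L178095 q7219, e3 q8819 L178103 q7220, e3 q8820 L622201 q10671, e3 q8821 (flp_e L258759) q10694, e3 q8822 L258806 q10700, e3 q8823 (flp_e L258773) q10696, e3 q8824 L576432 q10175, e3 q8825 L178165 q7290, e3 q8826 L178172 q7225, e3 q8827 L178179 q7226, e3 q8828 L178188 q8828, e3 q8829 L178194 q7227, e3 q8830 (flp_e L258870) q10704, e3 q8831 (flp_e L258887) q10706, trivial⟩ (by decide +kernel)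

theorem ce_e_138 : ∀ r, r < 64 → sm ge (Qf (8832 + r)) = Qf (tab Gen.e (8832 + r)) :=
  edges_tab (sm ge) Qf (tab Gen.e) 8832 [(8832, 7851), (8833, 7852), (8834, 7299), (8835, 7231), (8836, 7232), (8837, 10719), (8838, 7234), (8839, 10715), (8840, 10722), (8841, 10717), (8842, 7233), (8843, 10725), (8844, 10724), (8845, 7236), (8846, 7311), (8847, 7312), (8848, 7242), (8849, 8849), (8850, 7243), (8851, 8851), (8852, 8852), (8853, 10733), (8854, 7319), (8855, 7320), (8856, 10743), (8857, 7322), (8858, 8858), (8859, 7251), (8860, 8860), (8861, 8861), (8862, 8862), (8863, 8863), (8864, 8864), (8865, 7273), (8866, 7256), (8867, 7275), (8868, 7276), (8869, 9760), (8870, 7856), (8871, 7857), (8872, 10673), (8873, 7260), (8874, 7261), (8875, 7522), (8876, 7262), (8877, 10765), (8878, 10767), (8879, 10680), (8880, 10681), (8881, 7268), (8882, 7750), (8883, 7269), (8884, 7752), (8885, 7753), (8886, 10776), (8887, 10622), (8888, 9917), (8889, 10023), (8890, 10686), (8891, 9759), (8892, 7277), (8893, 10753), (8894, 10754), (8895, 10755)]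
    ⟨e3 q8832 L178222 q7851, e3 q8833 L178228 q7852, e3 q8834 L178236 q7299, e3 q8835 L178244 q7231, e3 q8836 L178252 q7232, e3 q8837 L258998 q10719, e3 q8838 L178266 q7234, e3 q8839 (flp_e L258974) q10715, e3 q8840 L259031 q10722, e3 q8841 (flp_e L258990) q10717, e3 q8842 (flp_e L178299) q7233, e3 q8843 (flp_e L259065) q10725, e3 q8844 (flp_e L259058) q10724, e3 q8845 L178327 q7236, e3 q8846 L178344 q7311, e3 q8847 L178352 q7312, e3 q8848 L178360 q7242, e3 q8849 L178370 q8849, e3 q8850 L178375 q7243, e3 q8851 L178381 q8851, e3 q8852 L178388 q8852, e3 q8853 (flp_e L259144) q10733, e3 q8854 L178403 q7319, e3 q8855 L178410 q7320, e3 q8856 L259211 q10743, e3 q8857 L178426 q7322, e3 q8858 L178435 q8858, e3 q8859 L178441 q7251, e3 q8860 L178448 q8860, e3 q8861 L178458 q8861, e3 q8862 L178465 q8862, e3 q8863 L178473 q8863, e3 q8864 L178477 q8864, e3 q8865 L178755 q7273, e3 q8866 L178762 q7256, e3 q8867 L178770 q7275, e3 q8868 L178781 q7276, e3 q8869 (flp_e L642971) q9760, e3 q8870 L178996 q7856, e3 q8871 L179005 q7857, e3 q8872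 (flp_e L258378) q10673, e3 q8873 L179022 q7260, e3 q8874 L179033 q7261, e3 q8875 L575796 q7522, e3 q8876 L179048 q7262, e3 q8877 (flp_e L260144) q10765, e3 q8878 (flp_e L260161) q10767, e3 q8879 (flp_e L258488) q10680, e3 q8880 (flp_e L258498) q10681, e3 q8881 L179138 q7268, e3 q8882 L521035 q7750, e3 q8883 L179154 q7269, e3 q8884 (flp_e L547395) q7752, e3 q8885 L549234 q7753, e3 q8886 (flp_e L260314) q10776, e3 q8887 L640991 q10622, e3 q8888 L635115 q9917, e3 q8889 (flp_e L635210) q10023, e3 q8890 (flp_e L258574) q10686, e3 q8891 L640956 q9759, e3 q8892 L179225 q7277, e3 q8893 (flp_e L259729) q10753, e3 q8894 (flp_e L259740) q10754, e3 q8895 (flp_e L259747) q10755, trivial⟩ (by decide +kernel)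

theorem ce_e_139 : ∀ r, r < 64 → sm ge (Qf (8896 + r)) = Qf (tab Gen.e (8896 + r)) :=
  edges_tab (sm ge) Qf (tab Gen.e) 8896 [(8896, 10756), (8897, 10757), (8898, 7860), (8899, 7279), (8900, 7280), (8901, 10796), (8902, 10797), (8903, 10799), (8904, 7863), (8905, 7864), (8906, 10693), (8907, 7285), (8908, 7286), (8909, 10813), (8910, 7288), (8911, 10809), (8912, 10817), (8913, 10811), (8914, 7287), (8915, 10819), (8916, 10702), (8917, 10703), (8918, 7295), (8919, 8919), (8920, 7296), (8921, 8921), (8922, 8922), (8923, 10825), (8924, 10831), (8925, 7870), (8926, 7871), (8927, 10838), (8928, 7873), (8929, 10713), (8930, 10714), (8931, 7304), (8932, 10847), (8933, 7306), (8934, 10850), (8935, 7302), (8936, 10853), (8937, 10855), (8938, 10845), (8939, 7305), (8940, 10858), (8941, 7309), (8942, 7308), (8943, 10859), (8944, 10860), (8945, 10728), (8946, 10729), (8947, 10867), (8948, 10731), (8949, 8949), (8950, 7318), (8951, 8951), (8952, 8952), (8953, 8953), (8954, 8954), (8955, 8955), (8956, 10739), (8957, 10880), (8958, 10741),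 (8959, 10883)]
    ⟨e3 q8896 (flp_e L259758) q10756, e3 q8897 (flp_e L259765) q10757, e3 q8898 L179275 q7860, e3 q8899 L179284 q7279, e3 q8900 L179293 q7280, e3 q8901 (flp_e L260503) q10796, e3 q8902 (flp_e L260513) q10797, e3 q8903 (flp_e L260531) q10799, e3 q8904 L179370 q7863, e3 q8905 L179377 q7864, e3 q8906 (flp_e L258743) q10693, e3 q8907 L179392 q7285, e3 q8908 L179401 q7286, e3 q8909 L260731 q10813, e3 q8910 L179416 q7288, e3 q8911 (flp_e L260703) q10809, e3 q8912 L260764 q10817, e3 q8913 (flp_e L260720) q10811, e3 q8914 (flp_e L179445) q7287, e3 q8915 (flp_e L260797) q10819, e3 q8916 (flp_e L258852) q10702, e3 q8917 (flp_e L258861) q10703, e3 q8918 L179507 q7295, e3 q8919 L179519 q8919, e3 q8920 L179526 q7296, e3 q8921 L179534 q8921, e3 q8922 L179544 q8922, e3 q8923 (flp_e L260881) q10825, e3 q8924 L260926 q10831, e3 q8925 L179569 q7870, e3 q8926 L179577 q7871, e3 q8927 L260982 q10838, e3 q8928 L179593 q7873, e3 q8929 (flp_e L258954) q10713, e3 q8930 (flp_e L258964) q10714, e3 q8931 L179618 q7304, e3 q8932 L261053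 q10847, e3 q8933 L179635 q7306, e3 q8934 L261076 q10850, e3 q8935 (flp_e L179644) q7302, e3 q8936 (flp_e L261102) q10853, e3 q8937 L261110 q10855, e3 q8938 (flp_e L261042) q10845, e3 q8939 (flp_e L179677) q7305, e3 q8940 (flp_e L261142) q10858, e3 q8941 L179703 q7309, e3 q8942 L179710 q7308, e3 q8943 (flp_e L261160) q10859, e3 q8944 (flp_e L261169) q10860, e3 q8945 (flp_e L259107) q10728, e3 q8946 (flp_e L259113) q10729, e3 q8947 L261245 q10867, e3 q8948 (flp_e L259129) q10731, e3 q8949 L179782 q8949, e3 q8950 L179788 q7318, e3 q8951 L179795 q8951, e3 q8952 L179805 q8952, e3 q8953 L179810 q8953, e3 q8954 L179819 q8954, e3 q8955 L179825 q8955, e3 q8956 (flp_e L259182) q10739, e3 q8957 L261346 q10880, e3 q8958 (flp_e L259198) q10741, e3 q8959 L261369 q10883, trivial⟩ (by decide +kernel)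

theorem ce_e_140 : ∀ r, r < 64 → sm ge (Qf (8960 + r)) = Qf (tab Gen.e (8960 + r)) :=
  edges_tab (sm ge) Qf (tab Gen.e) 8960 [(8960, 7321), (8961, 10885), (8962, 8962), (8963, 8963), (8964, 8964), (8965, 8965), (8966, 8966), (8967, 8967), (8968, 8968), (8969, 8969), (8970, 10896), (8971, 7331), (8972, 10898), (8973, 10899), (8974, 10063), (8975, 7334), (8976, 7335), (8977, 10903), (8978, 10904), (8979, 10906), (8980, 7884), (8981, 7339), (8982, 7340), (8983, 10688), (8984, 10911), (8985, 10917), (8986, 10913), (8987, 10096), (8988, 8988), (8989, 7345), (8990, 7346), (8991, 8991), (8992, 7347), (8993, 9921), (8994, 10919), (8995, 7354), (8996, 8996), (8997, 9922), (8998, 7355), (8999, 10897), (9000, 7885), (9001, 7357), (9002, 7358), (9003, 10926), (9004, 10927), (9005, 10929), (9006, 9006), (9007, 7362), (9008, 7363), (9009, 7664), (9010, 7364), (9011, 10934), (9012, 10936), (9013, 7841), (9014, 7886), (9015, 9015), (9016, 7368), (9017, 7369), (9018, 10949), (9019, 7371), (9020, 10945), (9021, 10649), (9022, 10947), (9023,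 7370)]
    ⟨e3 q8960 (flp_e L179861) q7321, e3 q8961 (flp_e L261388) q10885, e3 q8962 L179876 q8962, e3 q8963 L179888 q8963, e3 q8964 L179896 q8964, e3 q8965 L179907 q8965, e3 q8966 L179913 q8966, e3 q8967 L179921 q8967, e3 q8968 L179931 q8968, e3 q8969 L179938 q8969, e3 q8970 L261475 q10896, e3 q8971 (flp_e L179960) q7331, e3 q8972 (flp_e L261539) q10898, e3 q8973 (flp_e L261549) q10899, e3 q8974 (flp_e L246469) q10063, e3 q8975 L180018 q7334, e3 q8976 L180027 q7335, e3 q8977 (flp_e L261633) q10903, e3 q8978 (flp_e L261644) q10904, e3 q8979 (flp_e L261662) q10906, e3 q8980 L180071 q7884, e3 q8981 L180077 q7339, e3 q8982 L180085 q7340, e3 q8983 L617652 q10688, e3 q8984 (flp_e L261727) q10911, e3 q8985 L261771 q10917, e3 q8986 (flp_e L261739) q10913, e3 q8987 L553548 q10096, e3 q8988 L180149 q8988, e3 q8989 L180155 q7345, e3 q8990 L180165 q7346, e3 q8991 L180175 q8991, e3 q8992 L180181 q7347, e3 q8993 L637681 q9921, e3 q8994 (flp_e L261851) q10919, e3 q8995 L180241 q7354, e3 q8996 L180259 q8996, e3 q8997 L641252 q9922, e3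 q8998 (flp_e L180273) q7355, e3 q8999 L612453 q10897, e3 q9000 L180321 q7885, e3 q9001 L180329 q7357, e3 q9002 L180337 q7358, e3 q9003 (flp_e L262093) q10926, e3 q9004 (flp_e L262103) q10927, e3 q9005 (flp_e L262119) q10929, e3 q9006 L180411 q9006, e3 q9007 L180418 q7362, e3 q9008 L180427 q7363, e3 q9009 L180438 q7664, e3 q9010 L180446 q7364, e3 q9011 (flp_e L262230) q10934, e3 q9012 (flp_e L262251) q10936, e3 q9013 (flp_e L622458) q7841, e3 q9014 L180482 q7886, e3 q9015 L180490 q9015, e3 q9016 L180495 q7368, e3 q9017 L180503 q7369, e3 q9018 L262363 q10949, e3 q9019 L180515 q7371, e3 q9020 (flp_e L262339) q10945, e3 q9021 (flp_e L621648) q10649, e3 q9022 (flp_e L262353) q10947, e3 q9023 (flp_e L180544) q7370, trivial⟩ (by decide +kernel)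

theorem ce_e_141 : ∀ r, r < 64 → sm ge (Qf (9024 + r)) = Qf (tab Gen.e (9024 + r)) :=
  edges_tab (sm ge) Qf (tab Gen.e) 9024 [(9024, 10954), (9025, 10953), (9026, 7373), (9027, 9027), (9028, 9028), (9029, 7379), (9030, 7680), (9031, 7380), (9032, 7682), (9033, 7683), (9034, 10962), (9035, 9035), (9036, 9036), (9037, 10970), (9038, 9038), (9039, 7688), (9040, 7388), (9041, 7690), (9042, 7691), (9043, 7692), (9044, 7693), (9045, 7694), (9046, 7389), (9047, 10980), (9048, 7889), (9049, 7391), (9050, 7392), (9051, 10984), (9052, 10985), (9053, 10987), (9054, 7477), (9055, 7396), (9056, 7397), (9057, 9057), (9058, 7398), (9059, 10992), (9060, 10994), (9061, 7892), (9062, 7893), (9063, 7485), (9064, 7402), (9065, 7403), (9066, 11008), (9067, 7405), (9068, 11004), (9069, 11012), (9070, 11006), (9071, 7404), (9072, 11014), (9073, 7495), (9074, 7496), (9075, 7412), (9076, 9076), (9077, 7413), (9078, 9078), (9079, 9079), (9080, 11019), (9081, 7503), (9082, 7504), (9083, 11026), (9084, 7506), (9085, 7421), (9086, 9086), (9087, 9087)]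
    ⟨e3 q9024 (flp_e L262426) q10954, e3 q9025 (flp_e L262420) q10953, e3 q9026 L180574 q7373, e3 q9027 L180593 q9027, e3 q9028 L180600 q9028, e3 q9029 L180607 q7379, e3 q9030 L180619 q7680, e3 q9031 L180626 q7380, e3 q9032 L180632 q7682, e3 q9033 L180643 q7683, e3 q9034 (flp_e L262512) q10962, e3 q9035 L180662 q9035, e3 q9036 L180668 q9036, e3 q9037 L262591 q10970, e3 q9038 L180682 q9038, e3 q9039 L180692 q7688, e3 q9040 L180698 q7388, e3 q9041 L180707 q7690, e3 q9042 L180717 q7691, e3 q9043 L180723 q7692, e3 q9044 L180733 q7693, e3 q9045 L180740 q7694, e3 q9046 (flp_e L180745) q7389, e3 q9047 (flp_e L262689) q10980, e3 q9048 L180794 q7889, e3 q9049 L180802 q7391, e3 q9050 L180812 q7392, e3 q9051 (flp_e L262795) q10984, e3 q9052 (flp_e L262805) q10985, e3 q9053 (flp_e L262819) q10987, e3 q9054 L180881 q7477, e3 q9055 L180889 q7396, e3 q9056 L180898 q7397, e3 q9057 L180907 q9057, e3 q9058 L180914 q7398, e3 q9059 (flp_e L262925) q10992, e3 q9060 (flp_e L262943) q10994, e3 q9061 L180945 q7892, e3 q9062 L180952 q7893, e3 q9063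 L180960 q7485, e3 q9064 L180966 q7402, e3 q9065 L180974 q7403, e3 q9066 L263053 q11008, e3 q9067 L180984 q7405, e3 q9068 (flp_e L263031) q11004, e3 q9069 L263080 q11012, e3 q9070 (flp_e L263043) q11006, e3 q9071 (flp_e L181015) q7404, e3 q9072 (flp_e L263106) q11014, e3 q9073 L181053 q7495, e3 q9074 L181063 q7496, e3 q9075 L181071 q7412, e3 q9076 L181081 q9076, e3 q9077 L181087 q7413, e3 q9078 L181095 q9078, e3 q9079 L181103 q9079, e3 q9080 (flp_e L263186) q11019, e3 q9081 L181119 q7503, e3 q9082 L181126 q7504, e3 q9083 L263258 q11026, e3 q9084 L181141 q7506, e3 q9085 L181157 q7421, e3 q9086 L181175 q9086, e3 q9087 L181180 q9087, trivial⟩ (by decide +kernel)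

theorem ce_e_142 : ∀ r, r < 64 → sm ge (Qf (9088 + r)) = Qf (tab Gen.e (9088 + r)) :=
  edges_tab (sm ge) Qf (tab Gen.e) 9088 [(9088, 9088), (9089, 9089), (9090, 7894), (9091, 7423), (9092, 10981), (9093, 7895), (9094, 7896), (9095, 7519), (9096, 7427), (9097, 7428), (9098, 10676), (9099, 7429), (9100, 11040), (9101, 11042), (9102, 7526), (9103, 7527), (9104, 7435), (9105, 7702), (9106, 7436), (9107, 7704), (9108, 7705), (9109, 11051), (9110, 11057), (9111, 7853), (9112, 7897), (9113, 11063), (9114, 7899), (9115, 7539), (9116, 7540), (9117, 7444), (9118, 11072), (9119, 7446), (9120, 11075), (9121, 7442), (9122, 11078), (9123, 10710), (9124, 11070), (9125, 7445), (9126, 11082), (9127, 7449), (9128, 7448), (9129, 11083), (9130, 11084), (9131, 7555), (9132, 7556), (9133, 11091), (9134, 7558), (9135, 7727), (9136, 7458), (9137, 7729), (9138, 7730), (9139, 7731), (9140, 7732), (9141, 7733), (9142, 7566), (9143, 11104), (9144, 7568), (9145, 11107), (9146, 7461), (9147, 11109), (9148, 7740), (9149, 7741), (9150, 7742), (9151, 7743)]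
    ⟨e3 q9088 L181187 q9088, e3 q9089 L181191 q9089, e3 q9090 L552340 q7894, e3 q9091 L181206 q7423, e3 q9092 L622212 q10981, e3 q9093 L181280 q7895, e3 q9094 L181287 q7896, e3 q9095 L181295 q7519, e3 q9096 L181303 q7427, e3 q9097 L181311 q7428, e3 q9098 L552235 q10676, e3 q9099 L181325 q7429, e3 q9100 (flp_e L263537) q11040, e3 q9101 (flp_e L263553) q11042, e3 q9102 L181411 q7526, e3 q9103 L181420 q7527, e3 q9104 L181429 q7435, e3 q9105 L181440 q7702, e3 q9106 L181448 q7436, e3 q9107 L181456 q7704, e3 q9108 L181466 q7705, e3 q9109 (flp_e L263728) q11051, e3 q9110 L263774 q11057, e3 q9111 (flp_e L622276) q7853, e3 q9112 L181494 q7897, e3 q9113 L263818 q11063, e3 q9114 L181505 q7899, e3 q9115 L181511 q7539, e3 q9116 L181519 q7540, e3 q9117 L181527 q7444, e3 q9118 L263874 q11072, e3 q9119 L181539 q7446, e3 q9120 L263890 q11075, e3 q9121 (flp_e L181547) q7442, e3 q9122 (flp_e L263910) q11078, e3 q9123 L617487 q10710, e3 q9124 (flp_e L263864) q11070, e3 q9125 (flp_e L181573) q7445, e3 q9126 (flp_e L263944) q11082, e3 q9127 L181597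 q7449, e3 q9128 L181603 q7448, e3 q9129 (flp_e L263962) q11083, e3 q9130 (flp_e L263970) q11084, e3 q9131 L181642 q7555, e3 q9132 L181648 q7556, e3 q9133 L264044 q11091, e3 q9134 L181665 q7558, e3 q9135 L181675 q7727, e3 q9136 L181682 q7458, e3 q9137 L181688 q7729, e3 q9138 L181699 q7730, e3 q9139 L181705 q7731, e3 q9140 L181714 q7732, e3 q9141 L181720 q7733, e3 q9142 L181726 q7566, e3 q9143 L264147 q11104, e3 q9144 L181741 q7568, e3 q9145 L264171 q11107, e3 q9146 (flp_e L181753) q7461, e3 q9147 (flp_e L264191) q11109, e3 q9148 L181771 q7740, e3 q9149 L181781 q7741, e3 q9150 L181787 q7742, e3 q9151 L181797 q7743, trivial⟩ (by decide +kernel)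

theorem ce_e_143 : ∀ r, r < 64 → sm ge (Qf (9152 + r)) = Qf (tab Gen.e (9152 + r)) :=
  edges_tab (sm ge) Qf (tab Gen.e) 9152 [(9152, 7744), (9153, 7745), (9154, 7746), (9155, 7747), (9156, 7471), (9157, 11121), (9158, 10983), (9159, 7474), (9160, 7475), (9161, 10798), (9162, 7476), (9163, 11124), (9164, 11126), (9165, 10990), (9166, 10991), (9167, 7481), (9168, 7482), (9169, 11132), (9170, 11133), (9171, 7909), (9172, 7910), (9173, 11139), (9174, 7912), (9175, 11002), (9176, 11003), (9177, 7490), (9178, 11148), (9179, 7492), (9180, 11151), (9181, 7488), (9182, 11153), (9183, 11155), (9184, 11146), (9185, 7491), (9186, 11158), (9187, 7494), (9188, 11015), (9189, 11016), (9190, 11163), (9191, 11018), (9192, 9192), (9193, 7502), (9194, 9194), (9195, 9195), (9196, 9196), (9197, 9197), (9198, 10742), (9199, 11174), (9200, 11025), (9201, 11177), (9202, 7505), (9203, 11179), (9204, 9204), (9205, 9205), (9206, 9206), (9207, 9207), (9208, 9208), (9209, 9209), (9210, 9210), (9211, 9211), (9212, 7913), (9213, 7911), (9214, 11033),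 (9215, 7516)]
    ⟨e3 q9152 L181804 q7744, e3 q9153 L181811 q7745, e3 q9154 L181819 q7746, e3 q9155 L181826 q7747, e3 q9156 L181843 q7471, e3 q9157 (flp_e L264308) q11121, e3 q9158 (flp_e L262787) q10983, e3 q9159 L181947 q7474, e3 q9160 L181958 q7475, e3 q9161 L547351 q10798, e3 q9162 L181973 q7476, e3 q9163 (flp_e L264500) q11124, e3 q9164 (flp_e L264517) q11126, e3 q9165 (flp_e L262905) q10990, e3 q9166 (flp_e L262916) q10991, e3 q9167 L182073 q7481, e3 q9168 L182093 q7482, e3 q9169 (flp_e L264691) q11132, e3 q9170 L264743 q11133, e3 q9171 L182141 q7909, e3 q9172 L182150 q7910, e3 q9173 L264799 q11139, e3 q9174 L182163 q7912, e3 q9175 (flp_e L263013) q11002, e3 q9176 (flp_e L263023) q11003, e3 q9177 L182186 q7490, e3 q9178 L264860 q11148, e3 q9179 L182199 q7492, e3 q9180 L264877 q11151, e3 q9181 (flp_e L182210) q7488, e3 q9182 (flp_e L264899) q11153, e3 q9183 L264907 q11155, e3 q9184 (flp_e L264847) q11146, e3 q9185 (flp_e L182237) q7491, e3 q9186 (flp_e L264931) q11158, e3 q9187 L182262 q7494, e3 q9188 (flp_e L263143)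 q11015, e3 q9189 (flp_e L263151) q11016, e3 q9190 L265026 q11163, e3 q9191 (flp_e L263168) q11018, e3 q9192 L182334 q9192, e3 q9193 L182341 q7502, e3 q9194 L182350 q9194, e3 q9195 L182361 q9195, e3 q9196 L182366 q9196, e3 q9197 L182376 q9197, e3 q9198 L641027 q10742, e3 q9199 L265135 q11174, e3 q9200 (flp_e L263244) q11025, e3 q9201 L265158 q11177, e3 q9202 (flp_e L182419) q7505, e3 q9203 (flp_e L265176) q11179, e3 q9204 L182435 q9204, e3 q9205 L182446 q9205, e3 q9206 L182452 q9206, e3 q9207 L182462 q9207, e3 q9208 L182468 q9208, e3 q9209 L182477 q9209, e3 q9210 L182486 q9210, e3 q9211 L182493 q9211, e3 q9212 L547214 q7913, e3 q9213 L547311 q7911, e3 q9214 (flp_e L263352) q11033, e3 q9215 L182530 q7516, trivial⟩ (by decide +kernel)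

theorem ce_e_144 : ∀ r, r < 64 → sm ge (Qf (9216 + r)) = Qf (tab Gen.e (9216 + r)) :=
  edges_tab (sm ge) Qf (tab Gen.e) 9216 [(9216, 11195), (9217, 7917), (9218, 7918), (9219, 10761), (9220, 7919), (9221, 11038), (9222, 11039), (9223, 7524), (9224, 10766), (9225, 7525), (9226, 10768), (9227, 10769), (9228, 11207), (9229, 11046), (9230, 11047), (9231, 11217), (9232, 11049), (9233, 7758), (9234, 7533), (9235, 7760), (9236, 7761), (9237, 7762), (9238, 7763), (9239, 7534), (9240, 11225), (9241, 11226), (9242, 7922), (9243, 11234), (9244, 7924), (9245, 11237), (9246, 7537), (9247, 11240), (9248, 11065), (9249, 11066), (9250, 11246), (9251, 11068), (9252, 11249), (9253, 7548), (9254, 11252), (9255, 7542), (9256, 11255), (9257, 11258), (9258, 7544), (9259, 11261), (9260, 10459), (9261, 7546), (9262, 11265), (9263, 7547), (9264, 11267), (9265, 11081), (9266, 7550), (9267, 7553), (9268, 7554), (9269, 11270), (9270, 11271), (9271, 11087), (9272, 11276), (9273, 11089), (9274, 11279), (9275, 7557), (9276, 11281), (9277, 7793), (9278,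 7794), (9279, 7795)]
    ⟨e3 q9216 L265517 q11195, e3 q9217 L182658 q7917, e3 q9218 L182667 q7918, e3 q9219 (flp_e L547333) q10761, e3 q9220 L182684 q7919, e3 q9221 (flp_e L263517) q11038, e3 q9222 (flp_e L263527) q11039, e3 q9223 L182709 q7524, e3 q9224 L534210 q10766, e3 q9225 L182726 q7525, e3 q9226 L547418 q10768, e3 q9227 L553229 q10769, e3 q9228 (flp_e L265641) q11207, e3 q9229 (flp_e L263683) q11046, e3 q9230 (flp_e L263690) q11047, e3 q9231 L265867 q11217, e3 q9232 (flp_e L263709) q11049, e3 q9233 L182891 q7758, e3 q9234 L182900 q7533, e3 q9235 L182909 q7760, e3 q9236 L182922 q7761, e3 q9237 L182928 q7762, e3 q9238 L182940 q7763, e3 q9239 (flp_e L182953) q7534, e3 q9240 (flp_e L265971) q11225, e3 q9241 (flp_e L265979) q11226, e3 q9242 L182977 q7922, e3 q9243 L266034 q11234, e3 q9244 L182992 q7924, e3 q9245 L266055 q11237, e3 q9246 (flp_e L183003) q7537, e3 q9247 (flp_e L266081) q11240, e3 q9248 (flp_e L263832) q11065, e3 q9249 (flp_e L263838) q11066, e3 q9250 L266116 q11246, e3 q9251 (flp_e L263852) q11068, e3 q9252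 L266131 q11249, e3 q9253 L183047 q7548, e3 q9254 L266151 q11252, e3 q9255 (flp_e L183058) q7542, e3 q9256 (flp_e L266175) q11255, e3 q9257 L266188 q11258, e3 q9258 (flp_e L183075) q7544, e3 q9259 (flp_e L266215) q11261, e3 q9260 (flp_e L250437) q10459, e3 q9261 L183098 q7546, e3 q9262 (flp_e L266236) q11265, e3 q9263 (flp_e L183104) q7547, e3 q9264 (flp_e L266251) q11267, e3 q9265 (flp_e L263938) q11081, e3 q9266 L183132 q7550, e3 q9267 L183148 q7553, e3 q9268 L183156 q7554, e3 q9269 (flp_e L266293) q11270, e3 q9270 (flp_e L266302) q11271, e3 q9271 (flp_e L264016) q11087, e3 q9272 L266375 q11276, e3 q9273 (flp_e L264033) q11089, e3 q9274 L266403 q11279, e3 q9275 (flp_e L183228) q7557, e3 q9276 (flp_e L266421) q11281, e3 q9277 L183246 q7793, e3 q9278 L183259 q7794, e3 q9279 L183266 q7795, trivial⟩ (by decide +kernel)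

theorem ce_e_145 : ∀ r, r < 64 → sm ge (Qf (9280 + r)) = Qf (tab Gen.e (9280 + r)) :=
  edges_tab (sm ge) Qf (tab Gen.e) 9280 [(9280, 7796), (9281, 7797), (9282, 7798), (9283, 7799), (9284, 7800), (9285, 10592), (9286, 11102), (9287, 7651), (9288, 7567), (9289, 11295), (9290, 11298), (9291, 7569), (9292, 11296), (9293, 7571), (9294, 11294), (9295, 7807), (9296, 7806), (9297, 7804), (9298, 7808), (9299, 7809), (9300, 7802), (9301, 7810), (9302, 7811), (9303, 11308), (9304, 9304), (9305, 7581), (9306, 11309), (9307, 11310), (9308, 7941), (9309, 7943), (9310, 9310), (9311, 9311), (9312, 11317), (9313, 11319), (9314, 7588), (9315, 9315), (9316, 9316), (9317, 9317), (9318, 11323), (9319, 9319), (9320, 11324), (9321, 7593), (9322, 11322), (9323, 11327), (9324, 7595), (9325, 10520), (9326, 7597), (9327, 11330), (9328, 9328), (9329, 9329), (9330, 9330), (9331, 9331), (9332, 9332), (9333, 9333), (9334, 9334), (9335, 9335), (9336, 11339), (9337, 7606), (9338, 10525), (9339, 11340), (9340, 7960), (9341, 7961), (9342, 9342), (9343,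 9343)]
    ⟨e3 q9280 L183278 q7796, e3 q9281 L183286 q7797, e3 q9282 L183296 q7798, e3 q9283 L183307 q7799, e3 q9284 L183314 q7800, e3 q9285 (flp_e L646983) q10592, e3 q9286 (flp_e L264135) q11102, e3 q9287 (flp_e L647008) q7651, e3 q9288 (flp_e L183342) q7567, e3 q9289 (flp_e L266573) q11295, e3 q9290 L266595 q11298, e3 q9291 (flp_e L183366) q7569, e3 q9292 (flp_e L646938) q11296, e3 q9293 L183385 q7571, e3 q9294 L646968 q11294, e3 q9295 L183398 q7807, e3 q9296 L647346 q7806, e3 q9297 (flp_e L647320) q7804, e3 q9298 L183427 q7808, e3 q9299 L183438 q7809, e3 q9300 (flp_e L647292) q7802, e3 q9301 L183458 q7810, e3 q9302 L183465 q7811, e3 q9303 L266715 q11308, e3 q9304 L183846 q9304, e3 q9305 (flp_e L183937) q7581, e3 q9306 (flp_e L267398) q11309, e3 q9307 (flp_e L267407) q11310, e3 q9308 L183962 q7941, e3 q9309 L183977 q7943, e3 q9310 L184007 q9310, e3 q9311 L184187 q9311, e3 q9312 L267779 q11317, e3 q9313 L267803 q11319, e3 q9314 (flp_e L184214) q7588, e3 q9315 L184230 q9315, e3 q9316 L184246 q9316, e3 q9317 L184271 q9317,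 e3 q9318 L267907 q11323, e3 q9319 L184297 q9319, e3 q9320 (flp_e L615644) q11324, e3 q9321 (flp_e L184311) q7593, e3 q9322 L615864 q11322, e3 q9323 L267970 q11327, e3 q9324 (flp_e L184332) q7595, e3 q9325 (flp_e L615876) q10520, e3 q9326 L184350 q7597, e3 q9327 (flp_e L268006) q11330, e3 q9328 L184363 q9328, e3 q9329 L184373 q9329, e3 q9330 L184380 q9330, e3 q9331 L184389 q9331, e3 q9332 L184398 q9332, e3 q9333 L184406 q9333, e3 q9334 L184415 q9334, e3 q9335 L184421 q9335, e3 q9336 L268072 q11339, e3 q9337 (flp_e L184562) q7606, e3 q9338 (flp_e L615935) q10525, e3 q9339 (flp_e L268293) q11340, e3 q9340 L184587 q7960, e3 q9341 L184605 q7961, e3 q9342 L184631 q9342, e3 q9343 L184723 q9343, trivial⟩ (by decide +kernel)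

theorem ce_e_146 : ∀ r, r < 64 → sm ge (Qf (9344 + r)) = Qf (tab Gen.e (9344 + r)) :=
  edges_tab (sm ge) Qf (tab Gen.e) 9344 [(9344, 11346), (9345, 11348), (9346, 7613), (9347, 7816), (9348, 7818), (9349, 7821), (9350, 7618), (9351, 7619), (9352, 11326), (9353, 11351), (9354, 11358), (9355, 11353), (9356, 9356), (9357, 7966), (9358, 9358), (9359, 9359), (9360, 9360), (9361, 9361), (9362, 9362), (9363, 11368), (9364, 11370), (9365, 7627), (9366, 9366), (9367, 9367), (9368, 9368), (9369, 10591), (9370, 9370), (9371, 11375), (9372, 7632), (9373, 7650), (9374, 11376), (9375, 7634), (9376, 11374), (9377, 7636), (9378, 11293), (9379, 7827), (9380, 7825), (9381, 7803), (9382, 7828), (9383, 7824), (9384, 7829), (9385, 7830), (9386, 7831), (9387, 11387), (9388, 10559), (9389, 7815), (9390, 7812), (9391, 7788), (9392, 7735), (9393, 7833), (9394, 9739), (9395, 7659), (9396, 7662), (9397, 9721), (9398, 10935), (9399, 7667), (9400, 10937), (9401, 10938), (9402, 9728), (9403, 7673), (9404, 11394), (9405, 7669), (9406, 11397), (9407,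 9889)]
    ⟨e3 q9344 L268530 q11346, e3 q9345 L268556 q11348, e3 q9346 (flp_e L184752) q7613, e3 q9347 L184773 q7816, e3 q9348 L184792 q7818, e3 q9349 L184819 q7821, e3 q9350 L184845 q7618, e3 q9351 L184852 q7619, e3 q9352 L615826 q11326, e3 q9353 (flp_e L268678) q11351, e3 q9354 L268725 q11358, e3 q9355 (flp_e L268693) q11353, e3 q9356 L184887 q9356, e3 q9357 L184893 q7966, e3 q9358 L184900 q9358, e3 q9359 L184910 q9359, e3 q9360 L184915 q9360, e3 q9361 L184924 q9361, e3 q9362 L184938 q9362, e3 q9363 L268823 q11368, e3 q9364 L268846 q11370, e3 q9365 (flp_e L184965) q7627, e3 q9366 L184979 q9366, e3 q9367 L184998 q9367, e3 q9368 L185022 q9368, e3 q9369 L646849 q10591, e3 q9370 L185050 q9370, e3 q9371 L268972 q11375, e3 q9372 (flp_e L185060) q7632, e3 q9373 (flp_e L647072) q7650, e3 q9374 L646473 q11376, e3 q9375 (flp_e L185085) q7634, e3 q9376 L646566 q11374, e3 q9377 L185102 q7636, e3 q9378 (flp_e L646908) q11293, e3 q9379 (flp_e L646290) q7827, e3 q9380 L646467 q7825, e3 q9381 L646624 q7803, e3 q9382 L185143 q7828, e3 q9383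 L646431 q7824, e3 q9384 L185161 q7829, e3 q9385 L185171 q7830, e3 q9386 L185180 q7831, e3 q9387 L269123 q11387, e3 q9388 (flp_e L629673) q10559, e3 q9389 (flp_e L646087) q7815, e3 q9390 (flp_e L646117) q7812, e3 q9391 (flp_e L647735) q7788, e3 q9392 (flp_e L645728) q7735, e3 q9393 L185357 q7833, e3 q9394 (flp_e L553798) q9739, e3 q9395 (flp_e L185366) q7659, e3 q9396 L185540 q7662, e3 q9397 (flp_e L647992) q9721, e3 q9398 (flp_e L262243) q10935, e3 q9399 L185666 q7667, e3 q9400 (flp_e L262259) q10937, e3 q9401 (flp_e L262271) q10938, e3 q9402 L648000 q9728, e3 q9403 L185784 q7673, e3 q9404 L270062 q11394, e3 q9405 (flp_e L185796) q7669, e3 q9406 (flp_e L270090) q11397, e3 q9407 (flp_e L630845) q9889, trivial⟩ (by decide +kernel)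

theorem ce_e_147 : ∀ r, r < 64 → sm ge (Qf (9408 + r)) = Qf (tab Gen.e (9408 + r)) :=
  edges_tab (sm ge) Qf (tab Gen.e) 9408 [(9408, 9726), (9409, 7672), (9410, 11400), (9411, 7676), (9412, 7675), (9413, 11401), (9414, 11402), (9415, 11404), (9416, 9416), (9417, 10961), (9418, 7684), (9419, 10963), (9420, 10964), (9421, 10965), (9422, 10966), (9423, 10967), (9424, 11414), (9425, 9425), (9426, 11417), (9427, 7686), (9428, 11419), (9429, 10972), (9430, 10973), (9431, 10974), (9432, 10975), (9433, 10976), (9434, 10977), (9435, 10978), (9436, 10979), (9437, 7699), (9438, 10683), (9439, 10684), (9440, 9733), (9441, 11432), (9442, 7757), (9443, 11050), (9444, 7706), (9445, 11052), (9446, 11053), (9447, 11054), (9448, 11055), (9449, 11056), (9450, 11441), (9451, 7707), (9452, 11444), (9453, 7767), (9454, 7717), (9455, 11446), (9456, 7711), (9457, 11449), (9458, 11452), (9459, 7713), (9460, 11455), (9461, 9461), (9462, 7715), (9463, 11459), (9464, 7716), (9465, 11461), (9466, 7781), (9467, 7719), (9468, 7722), (9469, 7723), (9470,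 11464), (9471, 11465)]
    ⟨e3 q9408 L645340 q9726, e3 q9409 (flp_e L185832) q7672, e3 q9410 (flp_e L270129) q11400, e3 q9411 L185854 q7676, e3 q9412 L185859 q7675, e3 q9413 (flp_e L270145) q11401, e3 q9414 (flp_e L270152) q11402, e3 q9415 L270237 q11404, e3 q9416 L185929 q9416, e3 q9417 (flp_e L262505) q10961, e3 q9418 L185947 q7684, e3 q9419 (flp_e L262520) q10963, e3 q9420 (flp_e L262531) q10964, e3 q9421 (flp_e L262537) q10965, e3 q9422 (flp_e L262548) q10966, e3 q9423 (flp_e L262556) q10967, e3 q9424 L270345 q11414, e3 q9425 L186013 q9425, e3 q9426 L270368 q11417, e3 q9427 (flp_e L186027) q7686, e3 q9428 (flp_e L270388) q11419, e3 q9429 (flp_e L262608) q10972, e3 q9430 (flp_e L262620) q10973, e3 q9431 (flp_e L262628) q10974, e3 q9432 (flp_e L262638) q10975, e3 q9433 (flp_e L262645) q10976, e3 q9434 (flp_e L262652) q10977, e3 q9435 (flp_e L262662) q10978, e3 q9436 (flp_e L262671) q10979, e3 q9437 L186367 q7699, e3 q9438 L521679 q10683, e3 q9439 (flp_e L592017) q10684, e3 q9440 (flp_e L648015) q9733, e3 q9441 L271101 q11432,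 e3 q9442 L186515 q7757, e3 q9443 (flp_e L263720) q11050, e3 q9444 L186534 q7706, e3 q9445 (flp_e L263736) q11052, e3 q9446 (flp_e L263748) q11053, e3 q9447 (flp_e L263754) q11054, e3 q9448 (flp_e L263764) q11055, e3 q9449 (flp_e L263771) q11056, e3 q9450 L271261 q11441, e3 q9451 (flp_e L186623) q7707, e3 q9452 (flp_e L271286) q11444, e3 q9453 L186667 q7767, e3 q9454 L186683 q7717, e3 q9455 L271372 q11446, e3 q9456 (flp_e L186694) q7711, e3 q9457 (flp_e L271396) q11449, e3 q9458 L271412 q11452, e3 q9459 (flp_e L186714) q7713, e3 q9460 (flp_e L271434) q11455, e3 q9461 L186730 q9461, e3 q9462 L186736 q7715, e3 q9463 (flp_e L271458) q11459, e3 q9464 (flp_e L186743) q7716, e3 q9465 (flp_e L271472) q11461, e3 q9466 L186764 q7781, e3 q9467 L186769 q7719, e3 q9468 L186786 q7722, e3 q9469 L186793 q7723, e3 q9470 (flp_e L271514) q11464, e3 q9471 (flp_e L271521) q11465, trivial⟩ (by decide +kernel)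

theorem ce_e_148 : ∀ r, r < 64 → sm ge (Qf (9472 + r)) = Qf (tab Gen.e (9472 + r)) :=
  edges_tab (sm ge) Qf (tab Gen.e) 9472 [(9472, 11389), (9473, 7789), (9474, 11468), (9475, 7725), (9476, 11470), (9477, 11093), (9478, 11094), (9479, 11095), (9480, 11096), (9481, 11097), (9482, 11098), (9483, 11099), (9484, 11100), (9485, 7801), (9486, 11336), (9487, 11305), (9488, 11485), (9489, 7737), (9490, 11487), (9491, 7739), (9492, 11489), (9493, 11111), (9494, 11112), (9495, 11113), (9496, 11114), (9497, 11115), (9498, 11116), (9499, 11117), (9500, 11118), (9501, 11498), (9502, 10015), (9503, 9758), (9504, 10775), (9505, 7754), (9506, 10777), (9507, 10778), (9508, 10779), (9509, 10780), (9510, 10781), (9511, 11388), (9512, 9748), (9513, 11512), (9514, 7756), (9515, 11514), (9516, 11219), (9517, 11220), (9518, 11221), (9519, 11222), (9520, 10555), (9521, 11223), (9522, 11224), (9523, 10557), (9524, 9983), (9525, 9745), (9526, 11528), (9527, 7766), (9528, 11531), (9529, 11534), (9530, 7768), (9531, 11537), (9532, 11540), (9533,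 7770), (9534, 11543), (9535, 11530)]
    ⟨e3 q9472 (flp_e L645696) q11389, e3 q9473 L186858 q7789, e3 q9474 L271625 q11468, e3 q9475 (flp_e L186871) q7725, e3 q9476 (flp_e L271644) q11470, e3 q9477 (flp_e L264063) q11093, e3 q9478 (flp_e L264074) q11094, e3 q9479 (flp_e L264080) q11095, e3 q9480 (flp_e L264091) q11096, e3 q9481 (flp_e L264099) q11097, e3 q9482 (flp_e L264108) q11098, e3 q9483 (flp_e L264117) q11099, e3 q9484 (flp_e L264123) q11100, e3 q9485 L186952 q7801, e3 q9486 (flp_e L645444) q11336, e3 q9487 (flp_e L645705) q11305, e3 q9488 L271796 q11485, e3 q9489 (flp_e L186991) q7737, e3 q9490 (flp_e L271822) q11487, e3 q9491 L187012 q7739, e3 q9492 (flp_e L271837) q11489, e3 q9493 (flp_e L264203) q11111, e3 q9494 (flp_e L264213) q11112, e3 q9495 (flp_e L264220) q11113, e3 q9496 (flp_e L264227) q11114, e3 q9497 (flp_e L264237) q11115, e3 q9498 (flp_e L264246) q11116, e3 q9499 (flp_e L264256) q11117, e3 q9500 (flp_e L264262) q11118, e3 q9501 L271900 q11498, e3 q9502 L640942 q10015, e3 q9503 (flp_e L648039) q9758, e3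 q9504 L549353 q10775, e3 q9505 L187361 q7754, e3 q9506 (flp_e L547383) q10777, e3 q9507 L549229 q10778, e3 q9508 (flp_e L547425) q10779, e3 q9509 L549237 q10780, e3 q9510 (flp_e L507732) q10781, e3 q9511 L646133 q11388, e3 q9512 L648023 q9748, e3 q9513 L272663 q11512, e3 q9514 (flp_e L187583) q7756, e3 q9515 (flp_e L272686) q11514, e3 q9516 (flp_e L265889) q11219, e3 q9517 (flp_e L265903) q11220, e3 q9518 (flp_e L265910) q11221, e3 q9519 (flp_e L265923) q11222, e3 q9520 (flp_e L562124) q10555, e3 q9521 (flp_e L265941) q11223, e3 q9522 (flp_e L265953) q11224, e3 q9523 (flp_e L546683) q10557, e3 q9524 (flp_e L640725) q9983, e3 q9525 (flp_e L645347) q9745, e3 q9526 L272832 q11528, e3 q9527 (flp_e L187706) q7766, e3 q9528 (flp_e L272856) q11531, e3 q9529 L272876 q11534, e3 q9530 (flp_e L187727) q7768, e3 q9531 (flp_e L272906) q11537, e3 q9532 L272927 q11540, e3 q9533 (flp_e L187752) q7770, e3 q9534 (flp_e L272953) q11543, e3 q9535 (flp_e L272851) q11530, trivial⟩ (by decide +kernel)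

theorem ce_e_149 : ∀ r, r < 64 → sm ge (Qf (9536 + r)) = Qf (tab Gen.e (9536 + r)) :=
  edges_tab (sm ge) Qf (tab Gen.e) 9536 [(9536, 7772), (9537, 11547), (9538, 11548), (9539, 7773), (9540, 11551), (9541, 9541), (9542, 7775), (9543, 11555), (9544, 9544), (9545, 9545), (9546, 7778), (9547, 11460), (9548, 7780), (9549, 11462), (9550, 11463), (9551, 7785), (9552, 7786), (9553, 11564), (9554, 9740), (9555, 11383), (9556, 11304), (9557, 11381), (9558, 7790), (9559, 11569), (9560, 7792), (9561, 11302), (9562, 11283), (9563, 11284), (9564, 11285), (9565, 11286), (9566, 11287), (9567, 11288), (9568, 11289), (9569, 11290), (9570, 11576), (9571, 10552), (9572, 11301), (9573, 11303), (9574, 11306), (9575, 11382), (9576, 11579), (9577, 7813), (9578, 11380), (9579, 11349), (9580, 10562), (9581, 11350), (9582, 10563), (9583, 10554), (9584, 10564), (9585, 10556), (9586, 11586), (9587, 9587), (9588, 11588), (9589, 11385), (9590, 9985), (9591, 7832), (9592, 9592), (9593, 10940), (9594, 10672), (9595, 9912), (9596, 10712), (9597, 7855),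 (9598, 11593), (9599, 10803)]
    ⟨e3 q9536 L187778 q7772, e3 q9537 (flp_e L272982) q11547, e3 q9538 L272987 q11548, e3 q9539 (flp_e L187797) q7773, e3 q9540 (flp_e L273016) q11551, e3 q9541 L187819 q9541, e3 q9542 L187824 q7775, e3 q9543 (flp_e L273045) q11555, e3 q9544 L187839 q9544, e3 q9545 L187846 q9545, e3 q9546 L187853 q7778, e3 q9547 (flp_e L271467) q11460, e3 q9548 L187867 q7780, e3 q9549 (flp_e L271489) q11462, e3 q9550 (flp_e L271498) q11463, e3 q9551 L187905 q7785, e3 q9552 L187913 q7786, e3 q9553 (flp_e L273144) q11564, e3 q9554 L627827 q9740, e3 q9555 L646396 q11383, e3 q9556 L647759 q11304, e3 q9557 L646634 q11381, e3 q9558 (flp_e L188018) q7790, e3 q9559 (flp_e L273318) q11569, e3 q9560 L188036 q7792, e3 q9561 L647360 q11302, e3 q9562 (flp_e L266435) q11283, e3 q9563 (flp_e L266448) q11284, e3 q9564 (flp_e L266457) q11285, e3 q9565 (flp_e L266468) q11286, e3 q9566 (flp_e L266480) q11287, e3 q9567 (flp_e L266488) q11288, e3 q9568 (flp_e L266500) q11289, e3 q9569 (flp_e L266509) q11290, e3 q9570 L273409 q11576,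 e3 q9571 L646647 q10552, e3 q9572 (flp_e L266643) q11301, e3 q9573 (flp_e L266677) q11303, e3 q9574 (flp_e L266703) q11306, e3 q9575 L646196 q11382, e3 q9576 L273786 q11579, e3 q9577 (flp_e L188385) q7813, e3 q9578 (flp_e L646319) q11380, e3 q9579 (flp_e L268591) q11349, e3 q9580 L546126 q10562, e3 q9581 (flp_e L268621) q11350, e3 q9582 (flp_e L543406) q10563, e3 q9583 L546089 q10554, e3 q9584 L543319 q10564, e3 q9585 L543100 q10556, e3 q9586 L273902 q11586, e3 q9587 L188591 q9587, e3 q9588 L274133 q11588, e3 q9589 (flp_e L269115) q11385, e3 q9590 (flp_e L549085) q9985, e3 q9591 (flp_e L188676) q7832, e3 q9592 L189320 q9592, e3 q9593 (flp_e L612181) q10940, e3 q9594 (flp_e L258368) q10672, e3 q9595 L640471 q9912, e3 q9596 (flp_e L258946) q10712, e3 q9597 L195385 q7855, e3 q9598 (flp_e L284054) q11593, e3 q9599 (flp_e L615152) q10803, trivial⟩ (by decide +kernel)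

theorem ce_e_150 : ∀ r, r < 64 → sm ge (Qf (9600 + r)) = Qf (tab Gen.e (9600 + r)) :=
  edges_tab (sm ge) Qf (tab Gen.e) 9600 [(9600, 10759), (9601, 10760), (9602, 10762), (9603, 10530), (9604, 10793), (9605, 10794), (9606, 10804), (9607, 10384), (9608, 10806), (9609, 10519), (9610, 7869), (9611, 11603), (9612, 10834), (9613, 11606), (9614, 10836), (9615, 10397), (9616, 7872), (9617, 11609), (9618, 7874), (9619, 7877), (9620, 11058), (9621, 7880), (9622, 11611), (9623, 10909), (9624, 10924), (9625, 10942), (9626, 7888), (9627, 11614), (9628, 10982), (9629, 10999), (9630, 11032), (9631, 11001), (9632, 11035), (9633, 11037), (9634, 11061), (9635, 7898), (9636, 11620), (9637, 9637), (9638, 7930), (9639, 7903), (9640, 11623), (9641, 11191), (9642, 10518), (9643, 10382), (9644, 10385), (9645, 7908), (9646, 11627), (9647, 11136), (9648, 11192), (9649, 11138), (9650, 10531), (9651, 11193), (9652, 10528), (9653, 7916), (9654, 11633), (9655, 11198), (9656, 11200), (9657, 7921), (9658, 11637), (9659, 11232), (9660, 7923), (9661, 11639),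 (9662, 9662), (9663, 7926)]
    ⟨e3 q9600 (flp_e L260089) q10759, e3 q9601 (flp_e L260099) q10760, e3 q9602 (flp_e L260115) q10762, e3 q9603 L551388 q10530, e3 q9604 (flp_e L260478) q10793, e3 q9605 (flp_e L260486) q10794, e3 q9606 (flp_e L260662) q10804, e3 q9607 L590513 q10384, e3 q9608 (flp_e L260678) q10806, e3 q9609 (flp_e L554259) q10519, e3 q9610 (flp_e L197596) q7869, e3 q9611 (flp_e L287323) q11603, e3 q9612 (flp_e L260954) q10834, e3 q9613 L287386 q11606, e3 q9614 (flp_e L260972) q10836, e3 q9615 L513589 q10397, e3 q9616 (flp_e L197650) q7872, e3 q9617 (flp_e L287430) q11609, e3 q9618 (flp_e L197724) q7874, e3 q9619 (flp_e L197779) q7877, e3 q9620 (flp_e L622105) q11058, e3 q9621 L197823 q7880, e3 q9622 (flp_e L287657) q11611, e3 q9623 (flp_e L261702) q10909, e3 q9624 (flp_e L262076) q10924, e3 q9625 (flp_e L262317) q10942, e3 q9626 L198993 q7888, e3 q9627 (flp_e L289317) q11614, e3 q9628 (flp_e L262777) q10982, e3 q9629 (flp_e L262994) q10999, e3 q9630 (flp_e L504826) q11032, e3 q9631 (flp_e L263005) q11001, e3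 q9632 (flp_e L263494) q11035, e3 q9633 (flp_e L263509) q11037, e3 q9634 (flp_e L263809) q11061, e3 q9635 (flp_e L200431) q7898, e3 q9636 (flp_e L291431) q11620, e3 q9637 L200523 q9637, e3 q9638 L200553 q7930, e3 q9639 L200575 q7903, e3 q9640 (flp_e L291644) q11623, e3 q9641 L614655 q11191, e3 q9642 L546949 q10518, e3 q9643 L561756 q10382, e3 q9644 L546999 q10385, e3 q9645 (flp_e L201340) q7908, e3 q9646 (flp_e L292688) q11627, e3 q9647 (flp_e L264771) q11136, e3 q9648 (flp_e L547237) q11192, e3 q9649 (flp_e L264786) q11138, e3 q9650 (flp_e L420205) q10531, e3 q9651 L507976 q11193, e3 q9652 L420426 q10528, e3 q9653 (flp_e L202064) q7916, e3 q9654 (flp_e L293756) q11633, e3 q9655 (flp_e L265549) q11198, e3 q9656 (flp_e L265568) q11200, e3 q9657 L202367 q7921, e3 q9658 (flp_e L294134) q11637, e3 q9659 (flp_e L266021) q11232, e3 q9660 (flp_e L202416) q7923, e3 q9661 (flp_e L294200) q11639, e3 q9662 L202436 q9662, e3 q9663 L202440 q7926, trivial⟩ (by decide +kernel)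

theorem ce_e_151 : ∀ r, r < 64 → sm ge (Qf (9664 + r)) = Qf (tab Gen.e (9664 + r)) :=
  edges_tab (sm ge) Qf (tab Gen.e) 9664 [(9664, 10832), (9665, 9665), (9666, 10709), (9667, 11622), (9668, 7932), (9669, 7933), (9670, 11646), (9671, 10380), (9672, 10383), (9673, 7939), (9674, 7940), (9675, 11649), (9676, 10311), (9677, 11651), (9678, 10306), (9679, 11314), (9680, 10302), (9681, 10307), (9682, 10299), (9683, 10304), (9684, 10529), (9685, 10399), (9686, 10392), (9687, 10527), (9688, 10396), (9689, 7959), (9690, 10394), (9691, 11661), (9692, 11343), (9693, 7964), (9694, 9694), (9695, 7965), (9696, 11664), (9697, 7967), (9698, 11668), (9699, 7996), (9700, 9700), (9701, 7972), (9702, 7974), (9703, 11671), (9704, 7976), (9705, 7997), (9706, 7978), (9707, 9707), (9708, 7998), (9709, 7986), (9710, 7987), (9711, 7985), (9712, 11675), (9713, 11676), (9714, 7990), (9715, 9771), (9716, 11667), (9717, 11673), (9718, 9718), (9719, 11678), (9720, 9720), (9721, 9397), (9722, 8014), (9723, 8747), (9724, 11680), (9725, 9725), (9726, 9408),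 (9727, 11682)]
    ⟨e3 q9664 L615102 q10832, e3 q9665 L202525 q9665, e3 q9666 (flp_e L611438) q10709, e3 q9667 (flp_e L291620) q11622, e3 q9668 L202587 q7932, e3 q9669 (flp_e L202839) q7933, e3 q9670 (flp_e L294771) q11646, e3 q9671 (flp_e L561801) q10380, e3 q9672 L490578 q10383, e3 q9673 L203098 q7939, e3 q9674 L203105 q7940, e3 q9675 (flp_e L295115) q11649, e3 q9676 (flp_e L616318) q10311, e3 q9677 (flp_e L295127) q11651, e3 q9678 (flp_e L537183) q10306, e3 q9679 (flp_e L267451) q11314, e3 q9680 (flp_e L537200) q10302, e3 q9681 L537177 q10307, e3 q9682 (flp_e L537077) q10299, e3 q9683 (flp_e L537167) q10304, e3 q9684 (flp_e L561522) q10529, e3 q9685 L561639 q10399, e3 q9686 (flp_e L615486) q10392, e3 q9687 (flp_e L561498) q10527, e3 q9688 L561627 q10396, e3 q9689 L203570 q7959, e3 q9690 (flp_e L616184) q10394, e3 q9691 (flp_e L295731) q11661, e3 q9692 (flp_e L268340) q11343, e3 q9693 L203616 q7964, e3 q9694 L203624 q9694, e3 q9695 L203629 q7965, e3 q9696 (flp_e L295776) q11664, e3 q9697 (flp_e L204216) q7967, e3 q9698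 (flp_e L296683) q11668, e3 q9699 L204332 q7996, e3 q9700 L204371 q9700, e3 q9701 L204389 q7972, e3 q9702 (flp_e L205290) q7974, e3 q9703 (flp_e L298224) q11671, e3 q9704 (flp_e L205313) q7976, e3 q9705 L205331 q7997, e3 q9706 L205336 q7978, e3 q9707 L205396 q9707, e3 q9708 L205457 q7998, e3 q9709 L205478 q7986, e3 q9710 L205498 q7987, e3 q9711 L205519 q7985, e3 q9712 (flp_e L298515) q11675, e3 q9713 (flp_e L298536) q11676, e3 q9714 (flp_e L206787) q7990, e3 q9715 (flp_e L641843) q9771, e3 q9716 (flp_e L296678) q11667, e3 q9717 (flp_e L298288) q11673, e3 q9718 L241463 q9718, e3 q9719 L350804 q11678, e3 q9720 L241520 q9720, e3 q9721 L647992 q9397, e3 q9722 L241607 q8014, e3 q9723 L633405 q8747, e3 q9724 L351068 q11680, e3 q9725 L241692 q9725, e3 q9726 (flp_e L645340) q9408, e3 q9727 L351234 q11682, trivial⟩ (by decide +kernel)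

theorem ce_e_152 : ∀ r, r < 64 → sm ge (Qf (9728 + r)) = Qf (tab Gen.e (9728 + r)) :=
  edges_tab (sm ge) Qf (tab Gen.e) 9728 [(9728, 9402), (9729, 8019), (9730, 11685), (9731, 8180), (9732, 8023), (9733, 9440), (9734, 8028), (9735, 8190), (9736, 8794), (9737, 11689), (9738, 9738), (9739, 9394), (9740, 9554), (9741, 8031), (9742, 11693), (9743, 8232), (9744, 8035), (9745, 9525), (9746, 8039), (9747, 11696), (9748, 9512), (9749, 8038), (9750, 11699), (9751, 11698), (9752, 8041), (9753, 11703), (9754, 8254), (9755, 8046), (9756, 8256), (9757, 8257), (9758, 9503), (9759, 8891), (9760, 8869), (9761, 8263), (9762, 8053), (9763, 8265), (9764, 8266), (9765, 8267), (9766, 8268), (9767, 8269), (9768, 8706), (9769, 8708), (9770, 8062), (9771, 9715), (9772, 11719), (9773, 8065), (9774, 11720), (9775, 11721), (9776, 8069), (9777, 8070), (9778, 8073), (9779, 8074), (9780, 11722), (9781, 8076), (9782, 8077), (9783, 8080), (9784, 11724), (9785, 8082), (9786, 8083), (9787, 11726), (9788, 11727), (9789, 9789), (9790, 8087), (9791, 8088)]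
    ⟨e3 q9728 (flp_e L648000) q9402, e3 q9729 (flp_e L241799) q8019, e3 q9730 (flp_e L351262) q11685, e3 q9731 L241845 q8180, e3 q9732 L241851 q8023, e3 q9733 L648015 q9440, e3 q9734 L241913 q8028, e3 q9735 L241930 q8190, e3 q9736 L642940 q8794, e3 q9737 L351504 q11689, e3 q9738 L241983 q9738, e3 q9739 L553798 q9394, e3 q9740 (flp_e L627827) q9554, e3 q9741 (flp_e L242051) q8031, e3 q9742 (flp_e L351644) q11693, e3 q9743 L242103 q8232, e3 q9744 L242111 q8035, e3 q9745 L645347 q9525, e3 q9746 L242186 q8039, e3 q9747 L351851 q11696, e3 q9748 (flp_e L648023) q9512, e3 q9749 (flp_e L242215) q8038, e3 q9750 (flp_e L351882) q11699, e3 q9751 (flp_e L351875) q11698, e3 q9752 L242246 q8041, e3 q9753 (flp_e L351916) q11703, e3 q9754 L242287 q8254, e3 q9755 L242294 q8046, e3 q9756 L242301 q8256, e3 q9757 L242312 q8257, e3 q9758 L648039 q9503, e3 q9759 (flp_e L640956) q8891, e3 q9760 L642971 q8869, e3 q9761 L242363 q8263, e3 q9762 L242370 q8053, e3 q9763 L242379 q8265, e3 q9764 L242390 q8266, e3 q9765 L242397 q8267, e3 q9766 L242408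 q8268, e3 q9767 L242415 q8269, e3 q9768 L242446 q8706, e3 q9769 L641862 q8708, e3 q9770 (flp_e L641532) q8062, e3 q9771 L641843 q9715, e3 q9772 L352606 q11719, e3 q9773 (flp_e L242734) q8065, e3 q9774 (flp_e L352658) q11720, e3 q9775 (flp_e L352666) q11721, e3 q9776 L242792 q8069, e3 q9777 L242800 q8070, e3 q9778 (flp_e L242862) q8073, e3 q9779 (flp_e L242908) q8074, e3 q9780 (flp_e L352893) q11722, e3 q9781 L242953 q8076, e3 q9782 L242959 q8077, e3 q9783 (flp_e L243126) q8080, e3 q9784 (flp_e L353209) q11724, e3 q9785 L243173 q8082, e3 q9786 L243181 q8083, e3 q9787 (flp_e L353287) q11726, e3 q9788 (flp_e L353295) q11727, e3 q9789 L243219 q9789, e3 q9790 L243228 q8087, e3 q9791 L243236 q8088, trivial⟩ (by decide +kernel)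

theorem ce_e_153 : ∀ r, r < 64 → sm ge (Qf (9792 + r)) = Qf (tab Gen.e (9792 + r)) :=
  edges_tab (sm ge) Qf (tab Gen.e) 9792 [(9792, 9792), (9793, 8089), (9794, 8091), (9795, 9795), (9796, 8093), (9797, 11736), (9798, 9798), (9799, 8096), (9800, 8097), (9801, 8754), (9802, 9802), (9803, 9803), (9804, 8103), (9805, 11740), (9806, 11741), (9807, 8316), (9808, 8751), (9809, 8106), (9810, 8107), (9811, 11748), (9812, 11749), (9813, 11751), (9814, 9814), (9815, 8112), (9816, 8113), (9817, 9817), (9818, 8114), (9819, 11754), (9820, 11755), (9821, 11758), (9822, 8760), (9823, 8116), (9824, 11764), (9825, 11765), (9826, 11767), (9827, 8765), (9828, 8119), (9829, 8120), (9830, 11770), (9831, 9831), (9832, 8123), (9833, 8124), (9834, 11774), (9835, 11775), (9836, 11779), (9837, 11777), (9838, 8125), (9839, 11782), (9840, 9840), (9841, 8129), (9842, 8130), (9843, 8755), (9844, 8131), (9845, 11784), (9846, 8138), (9847, 8758), (9848, 8811), (9849, 9849), (9850, 8140), (9851, 8141), (9852, 11790), (9853, 11791), (9854, 11797), (9855,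 11793)]
    ⟨e3 q9792 L243245 q9792, e3 q9793 L243252 q8089, e3 q9794 L243338 q8091, e3 q9795 L243379 q9795, e3 q9796 L243385 q8093, e3 q9797 (flp_e L353614) q11736, e3 q9798 L243443 q9798, e3 q9799 L243452 q8096, e3 q9800 L243458 q8097, e3 q9801 L645169 q8754, e3 q9802 L243498 q9802, e3 q9803 L243505 q9803, e3 q9804 (flp_e L243646) q8103, e3 q9805 (flp_e L353991) q11740, e3 q9806 (flp_e L354001) q11741, e3 q9807 L575408 q8316, e3 q9808 L243693 q8751, e3 q9809 L243704 q8106, e3 q9810 L243712 q8107, e3 q9811 (flp_e L354084) q11748, e3 q9812 (flp_e L354094) q11749, e3 q9813 (flp_e L354111) q11751, e3 q9814 L243755 q9814, e3 q9815 L243763 q8112, e3 q9816 L243774 q8113, e3 q9817 L243785 q9817, e3 q9818 L243791 q8114, e3 q9819 (flp_e L354164) q11754, e3 q9820 (flp_e L354181) q11755, e3 q9821 L354220 q11758, e3 q9822 L243838 q8760, e3 q9823 (flp_e L243843) q8116, e3 q9824 (flp_e L354288) q11764, e3 q9825 (flp_e L354296) q11765, e3 q9826 L354340 q11767, e3 q9827 L243885 q8765, e3 q9828 L243895 q8119, e3 q9829 L243902 q8120, e3 q9830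 (flp_e L354399) q11770, e3 q9831 L243943 q9831, e3 q9832 L243950 q8123, e3 q9833 L243958 q8124, e3 q9834 (flp_e L354454) q11774, e3 q9835 (flp_e L354464) q11775, e3 q9836 L354516 q11779, e3 q9837 (flp_e L354482) q11777, e3 q9838 (flp_e L244002) q8125, e3 q9839 (flp_e L354548) q11782, e3 q9840 L244025 q9840, e3 q9841 L244032 q8129, e3 q9842 L244040 q8130, e3 q9843 (flp_e L640359) q8755, e3 q9844 L244056 q8131, e3 q9845 (flp_e L354597) q11784, e3 q9846 L244117 q8138, e3 q9847 L644171 q8758, e3 q9848 (flp_e L644226) q8811, e3 q9849 L244276 q9849, e3 q9850 L244283 q8140, e3 q9851 L244293 q8141, e3 q9852 (flp_e L354966) q11790, e3 q9853 (flp_e L354976) q11791, e3 q9854 L355030 q11797, e3 q9855 (flp_e L354992) q11793, trivial⟩ (by decide +kernel)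

theorem ce_e_154 : ∀ r, r < 64 → sm ge (Qf (9856 + r)) = Qf (tab Gen.e (9856 + r)) :=
  edges_tab (sm ge) Qf (tab Gen.e) 9856 [(9856, 8419), (9857, 8200), (9858, 8146), (9859, 8147), (9860, 9860), (9861, 8148), (9862, 11802), (9863, 11804), (9864, 8207), (9865, 8208), (9866, 8154), (9867, 9867), (9868, 8155), (9869, 9869), (9870, 9870), (9871, 11813), (9872, 8156), (9873, 11820), (9874, 11821), (9875, 8377), (9876, 8816), (9877, 9877), (9878, 8159), (9879, 8160), (9880, 11830), (9881, 11831), (9882, 11835), (9883, 11833), (9884, 8161), (9885, 11838), (9886, 8229), (9887, 8165), (9888, 8166), (9889, 9407), (9890, 8167), (9891, 11842), (9892, 9892), (9893, 9893), (9894, 8238), (9895, 8171), (9896, 8172), (9897, 11855), (9898, 8174), (9899, 11851), (9900, 11858), (9901, 11853), (9902, 8173), (9903, 11861), (9904, 11860), (9905, 8176), (9906, 11865), (9907, 8251), (9908, 8252), (9909, 8182), (9910, 8806), (9911, 8183), (9912, 9595), (9913, 11687), (9914, 11870), (9915, 8259), (9916, 8260), (9917, 8888), (9918, 8262), (9919,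 8191)]
    ⟨e3 q9856 L550559 q8419, e3 q9857 L244361 q8200, e3 q9858 L244369 q8146, e3 q9859 L244377 q8147, e3 q9860 L244387 q9860, e3 q9861 L244392 q8148, e3 q9862 (flp_e L355098) q11802, e3 q9863 (flp_e L355113) q11804, e3 q9864 L244423 q8207, e3 q9865 L244434 q8208, e3 q9866 L244445 q8154, e3 q9867 L244454 q9867, e3 q9868 L244460 q8155, e3 q9869 L244469 q9869, e3 q9870 L244479 q9870, e3 q9871 (flp_e L355197) q11813, e3 q9872 (flp_e L244494) q8156, e3 q9873 (flp_e L355260) q11820, e3 q9874 (flp_e L355269) q11821, e3 q9875 (flp_e L550783) q8377, e3 q9876 L244538 q8816, e3 q9877 L244548 q9877, e3 q9878 L244555 q8159, e3 q9879 L244563 q8160, e3 q9880 (flp_e L355371) q11830, e3 q9881 (flp_e L355379) q11831, e3 q9882 L355428 q11835, e3 q9883 (flp_e L355395) q11833, e3 q9884 (flp_e L244601) q8161, e3 q9885 (flp_e L355454) q11838, e3 q9886 L244623 q8229, e3 q9887 L244632 q8165, e3 q9888 L244639 q8166, e3 q9889 L630845 q9407, e3 q9890 L244655 q8167, e3 q9891 (flp_e L355506) q11842, e3 q9892 L244683 q9892, e3 q9893 L244688 q9893,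 e3 q9894 L244697 q8238, e3 q9895 L244707 q8171, e3 q9896 L244715 q8172, e3 q9897 L355625 q11855, e3 q9898 L244731 q8174, e3 q9899 (flp_e L355599) q11851, e3 q9900 L355658 q11858, e3 q9901 (flp_e L355615) q11853, e3 q9902 (flp_e L244764) q8173, e3 q9903 (flp_e L355686) q11861, e3 q9904 (flp_e L355680) q11860, e3 q9905 L244790 q8176, e3 q9906 (flp_e L355716) q11865, e3 q9907 L244805 q8251, e3 q9908 L244813 q8252, e3 q9909 L244823 q8182, e3 q9910 L635975 q8806, e3 q9911 L244837 q8183, e3 q9912 (flp_e L640471) q9595, e3 q9913 (flp_e L351329) q11687, e3 q9914 (flp_e L355767) q11870, e3 q9915 L244866 q8259, e3 q9916 L244875 q8260, e3 q9917 (flp_e L635115) q8888, e3 q9918 L244893 q8262, e3 q9919 L244909 q8191, trivial⟩ (by decide +kernel)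

theorem ce_e_155 : ∀ r, r < 64 → sm ge (Qf (9920 + r)) = Qf (tab Gen.e (9920 + r)) :=
  edges_tab (sm ge) Qf (tab Gen.e) 9920 [(9920, 8812), (9921, 8993), (9922, 8997), (9923, 8792), (9924, 9924), (9925, 9925), (9926, 11789), (9927, 8195), (9928, 8196), (9929, 11891), (9930, 8198), (9931, 11887), (9932, 11895), (9933, 11889), (9934, 8197), (9935, 11897), (9936, 8561), (9937, 11800), (9938, 11801), (9939, 8205), (9940, 9940), (9941, 8206), (9942, 9942), (9943, 9943), (9944, 11904), (9945, 11808), (9946, 11809), (9947, 11914), (9948, 11811), (9949, 9949), (9950, 8214), (9951, 9951), (9952, 9952), (9953, 9953), (9954, 9954), (9955, 9955), (9956, 9956), (9957, 8216), (9958, 8217), (9959, 11927), (9960, 11928), (9961, 11935), (9962, 11930), (9963, 8465), (9964, 8502), (9965, 9965), (9966, 9966), (9967, 11829), (9968, 8223), (9969, 8224), (9970, 11950), (9971, 8226), (9972, 11946), (9973, 11953), (9974, 11948), (9975, 8225), (9976, 11956), (9977, 11955), (9978, 8228), (9979, 11960), (9980, 11840), (9981, 11841), (9982, 8234),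 (9983, 9524)]
    ⟨e3 q9920 L644217 q8812, e3 q9921 (flp_e L637681) q8993, e3 q9922 (flp_e L641252) q8997, e3 q9923 L641207 q8792, e3 q9924 L245164 q9924, e3 q9925 L245172 q9925, e3 q9926 (flp_e L354956) q11789, e3 q9927 L245192 q8195, e3 q9928 L245203 q8196, e3 q9929 L356343 q11891, e3 q9930 L245220 q8198, e3 q9931 (flp_e L356313) q11887, e3 q9932 L356379 q11895, e3 q9933 (flp_e L356330) q11889, e3 q9934 (flp_e L245254) q8197, e3 q9935 (flp_e L356410) q11897, e3 q9936 (flp_e L550741) q8561, e3 q9937 (flp_e L355078) q11800, e3 q9938 (flp_e L355088) q11801, e3 q9939 L245320 q8205, e3 q9940 L245331 q9940, e3 q9941 L245337 q8206, e3 q9942 L245345 q9942, e3 q9943 L245356 q9943, e3 q9944 (flp_e L356501) q11904, e3 q9945 (flp_e L355149) q11808, e3 q9946 (flp_e L355160) q11809, e3 q9947 L356590 q11914, e3 q9948 (flp_e L355178) q11811, e3 q9949 L245415 q9949, e3 q9950 L245422 q8214, e3 q9951 L245432 q9951, e3 q9952 L245443 q9952, e3 q9953 L245450 q9953, e3 q9954 L245462 q9954, e3 q9955 L245469 q9955, e3 q9956 L245485 q9956, e3 q9957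 L245493 q8216, e3 q9958 L245502 q8217, e3 q9959 (flp_e L356727) q11927, e3 q9960 (flp_e L356737) q11928, e3 q9961 L356799 q11935, e3 q9962 (flp_e L356757) q11930, e3 q9963 L550456 q8465, e3 q9964 (flp_e L550748) q8502, e3 q9965 L245578 q9965, e3 q9966 L245584 q9966, e3 q9967 (flp_e L355361) q11829, e3 q9968 L245602 q8223, e3 q9969 L245611 q8224, e3 q9970 L356961 q11950, e3 q9971 L245628 q8226, e3 q9972 (flp_e L356931) q11946, e3 q9973 L356994 q11953, e3 q9974 (flp_e L356948) q11948, e3 q9975 (flp_e L245657) q8225, e3 q9976 (flp_e L357021) q11956, e3 q9977 (flp_e L357015) q11955, e3 q9978 L245686 q8228, e3 q9979 (flp_e L357052) q11960, e3 q9980 (flp_e L355470) q11840, e3 q9981 (flp_e L355479) q11841, e3 q9982 L245717 q8234, e3 q9983 L640725 q9524, trivial⟩ (by decide +kernel)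

theorem ce_e_156 : ∀ r, r < 64 → sm ge (Qf (9984 + r)) = Qf (tab Gen.e (9984 + r)) :=
  edges_tab (sm ge) Qf (tab Gen.e) 9984 [(9984, 8235), (9985, 9590), (9986, 11695), (9987, 11965), (9988, 11970), (9989, 9989), (9990, 9990), (9991, 11977), (9992, 9992), (9993, 11849), (9994, 11850), (9995, 8243), (9996, 11986), (9997, 8245), (9998, 11989), (9999, 8241), (10000, 11992), (10001, 11994), (10002, 11984), (10003, 8244), (10004, 11997), (10005, 8248), (10006, 8247), (10007, 12001), (10008, 11999), (10009, 12000), (10010, 8250), (10011, 11866), (10012, 11867), (10013, 12009), (10014, 11869), (10015, 9502), (10016, 8258), (10017, 11704), (10018, 11705), (10019, 11706), (10020, 11707), (10021, 11708), (10022, 11810), (10023, 8889), (10024, 11876), (10025, 12023), (10026, 8261), (10027, 12025), (10028, 11711), (10029, 11712), (10030, 11713), (10031, 11714), (10032, 11715), (10033, 11716), (10034, 11717), (10035, 11718), (10036, 10036), (10037, 8277), (10038, 10038), (10039, 8271), (10040, 8274), (10041, 12040), (10042, 10042),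 (10043, 10043), (10044, 12041), (10045, 12045), (10046, 10046), (10047, 8278)]
    ⟨e3 q9984 L245735 q8235, e3 q9985 L549085 q9590, e3 q9986 (flp_e L351719) q11695, e3 q9987 (flp_e L357107) q11965, e3 q9988 L357153 q11970, e3 q9989 L245781 q9989, e3 q9990 L245788 q9990, e3 q9991 L357212 q11977, e3 q9992 L245805 q9992, e3 q9993 (flp_e L355577) q11849, e3 q9994 (flp_e L355587) q11850, e3 q9995 L245833 q8243, e3 q9996 L357290 q11986, e3 q9997 L245850 q8245, e3 q9998 L357315 q11989, e3 q9999 (flp_e L245861) q8241, e3 q10000 (flp_e L357344) q11992, e3 q10001 L357354 q11994, e3 q10002 (flp_e L357279) q11984, e3 q10003 (flp_e L245894) q8244, e3 q10004 (flp_e L357380) q11997, e3 q10005 L245915 q8248, e3 q10006 L245921 q8247, e3 q10007 (flp_e L357411) q12001, e3 q10008 (flp_e L357395) q11999, e3 q10009 (flp_e L357402) q12000, e3 q10010 L245952 q8250, e3 q10011 (flp_e L355725) q11866, e3 q10012 (flp_e L355733) q11867, e3 q10013 L357480 q12009, e3 q10014 (flp_e L355751) q11869, e3 q10015 (flp_e L640942) q9502, e3 q10016 L246001 q8258,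 e3 q10017 (flp_e L351974) q11704, e3 q10018 (flp_e L351985) q11705, e3 q10019 (flp_e L351991) q11706, e3 q10020 (flp_e L352002) q11707, e3 q10021 (flp_e L352010) q11708, e3 q10022 (flp_e L644247) q11810, e3 q10023 L635210 q8889, e3 q10024 (flp_e L355824) q11876, e3 q10025 L357610 q12023, e3 q10026 (flp_e L246079) q8261, e3 q10027 (flp_e L357632) q12025, e3 q10028 (flp_e L352067) q11711, e3 q10029 (flp_e L352079) q11712, e3 q10030 (flp_e L352087) q11713, e3 q10031 (flp_e L352098) q11714, e3 q10032 (flp_e L352105) q11715, e3 q10033 (flp_e L352114) q11716, e3 q10034 (flp_e L352125) q11717, e3 q10035 (flp_e L352134) q11718, e3 q10036 L246163 q10036, e3 q10037 (flp_e L614238) q8277, e3 q10038 L246186 q10038, e3 q10039 (flp_e L246190) q8271, e3 q10040 (flp_e L614218) q8274, e3 q10041 (flp_e L357804) q12040, e3 q10042 L246227 q10042, e3 q10043 L246238 q10043, e3 q10044 (flp_e L614065) q12041, e3 q10045 L357907 q12045, e3 q10046 L246285 q10046, e3 q10047 L246302 q8278, trivial⟩ (by decide +kernel)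

theorem ce_e_157 : ∀ r, r < 64 → sm ge (Qf (10048 + r)) = Qf (tab Gen.e (10048 + r)) :=
  edges_tab (sm ge) Qf (tab Gen.e) 10048 [(10048, 8348), (10049, 12037), (10050, 12048), (10051, 8283), (10052, 8284), (10053, 8307), (10054, 8285), (10055, 12051), (10056, 12053), (10057, 12057), (10058, 8764), (10059, 8287), (10060, 12062), (10061, 12063), (10062, 11761), (10063, 8974), (10064, 8290), (10065, 8291), (10066, 12070), (10067, 12071), (10068, 12073), (10069, 10069), (10070, 8295), (10071, 8296), (10072, 12079), (10073, 12080), (10074, 12086), (10075, 12082), (10076, 8297), (10077, 12089), (10078, 10078), (10079, 8301), (10080, 8302), (10081, 12047), (10082, 8303), (10083, 12093), (10084, 12095), (10085, 10085), (10086, 10086), (10087, 8309), (10088, 12052), (10089, 8310), (10090, 12054), (10091, 12055), (10092, 12103), (10093, 8311), (10094, 12109), (10095, 12110), (10096, 8987), (10097, 10097), (10098, 8314), (10099, 8315), (10100, 12117), (10101, 12118), (10102, 12124), (10103, 12120), (10104, 11746), (10105, 10105),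 (10106, 8320), (10107, 8321), (10108, 10108), (10109, 8322), (10110, 12129), (10111, 12131)]
    ⟨e3 q10048 L614270 q8348, e3 q10049 (flp_e L614127) q12037, e3 q10050 (flp_e L357967) q12048, e3 q10051 L246350 q8283, e3 q10052 L246359 q8284, e3 q10053 L246369 q8307, e3 q10054 L246376 q8285, e3 q10055 (flp_e L358015) q12051, e3 q10056 (flp_e L358033) q12053, e3 q10057 L358070 q12057, e3 q10058 L576221 q8764, e3 q10059 (flp_e L246423) q8287, e3 q10060 (flp_e L358137) q12062, e3 q10061 (flp_e L358147) q12063, e3 q10062 (flp_e L550769) q11761, e3 q10063 L246469 q8974, e3 q10064 L246482 q8290, e3 q10065 L246491 q8291, e3 q10066 (flp_e L358231) q12070, e3 q10067 (flp_e L358242) q12071, e3 q10068 (flp_e L358261) q12073, e3 q10069 L246537 q10069, e3 q10070 L246542 q8295, e3 q10071 L246550 q8296, e3 q10072 (flp_e L358318) q12079, e3 q10073 (flp_e L358328) q12080, e3 q10074 L358374 q12086, e3 q10075 (flp_e L358342) q12082, e3 q10076 (flp_e L246590) q8297, e3 q10077 (flp_e L358398) q12089, e3 q10078 L246612 q10078, e3 q10079 L246620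 q8301, e3 q10080 L246630 q8302, e3 q10081 (flp_e L357960) q12047, e3 q10082 L246647 q8303, e3 q10083 (flp_e L358434) q12093, e3 q10084 (flp_e L358451) q12095, e3 q10085 L246677 q10085, e3 q10086 L246685 q10086, e3 q10087 L246693 q8309, e3 q10088 (flp_e L358026) q12052, e3 q10089 L246708 q8310, e3 q10090 (flp_e L358041) q12054, e3 q10091 (flp_e L358053) q12055, e3 q10092 (flp_e L358533) q12103, e3 q10093 (flp_e L246741) q8311, e3 q10094 (flp_e L358594) q12109, e3 q10095 (flp_e L358601) q12110, e3 q10096 (flp_e L553548) q8987, e3 q10097 L246793 q10097, e3 q10098 L246800 q8314, e3 q10099 L246808 q8315, e3 q10100 (flp_e L358702) q12117, e3 q10101 (flp_e L358712) q12118, e3 q10102 L358765 q12124, e3 q10103 (flp_e L358730) q12120, e3 q10104 (flp_e L575441) q11746, e3 q10105 L246880 q10105, e3 q10106 L246889 q8320, e3 q10107 L246898 q8321, e3 q10108 L246911 q10108, e3 q10109 L246918 q8322, e3 q10110 (flp_e L358839) q12129, e3 q10111 (flp_e L358859) q12131, trivial⟩ (by decide +kernel)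

theorem ce_e_158 : ∀ r, r < 64 → sm ge (Qf (10112 + r)) = Qf (tab Gen.e (10112 + r)) :=
  edges_tab (sm ge) Qf (tab Gen.e) 10112 [(10112, 10112), (10113, 10113), (10114, 10114), (10115, 8326), (10116, 8327), (10117, 12146), (10118, 8329), (10119, 12142), (10120, 12149), (10121, 12144), (10122, 8328), (10123, 12152), (10124, 12151), (10125, 8331), (10126, 12156), (10127, 10127), (10128, 10128), (10129, 8337), (10130, 10130), (10131, 8338), (10132, 10132), (10133, 10133), (10134, 12159), (10135, 10135), (10136, 10136), (10137, 8346), (10138, 10138), (10139, 10139), (10140, 10140), (10141, 10141), (10142, 10142), (10143, 8362), (10144, 12049), (10145, 11826), (10146, 10146), (10147, 8351), (10148, 8352), (10149, 8356), (10150, 12175), (10151, 12177), (10152, 8357), (10153, 12178), (10154, 12183), (10155, 12180), (10156, 8358), (10157, 12186), (10158, 8478), (10159, 8363), (10160, 8396), (10161, 8364), (10162, 12171), (10163, 12190), (10164, 8484), (10165, 8485), (10166, 8370), (10167, 8403), (10168, 8371), (10169, 8405), (10170,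 8406), (10171, 12198), (10172, 8372), (10173, 12205), (10174, 12206), (10175, 8824)]
    ⟨e3 q10112 L246949 q10112, e3 q10113 L246953 q10113, e3 q10114 L246962 q10114, e3 q10115 L246969 q8326, e3 q10116 L246977 q8327, e3 q10117 L358979 q12146, e3 q10118 L246991 q8329, e3 q10119 (flp_e L358953) q12142, e3 q10120 L359011 q12149, e3 q10121 (flp_e L358967) q12144, e3 q10122 (flp_e L247020) q8328, e3 q10123 (flp_e L359036) q12152, e3 q10124 (flp_e L359031) q12151, e3 q10125 L247048 q8331, e3 q10126 (flp_e L359067) q12156, e3 q10127 L247065 q10127, e3 q10128 L247072 q10128, e3 q10129 L247081 q8337, e3 q10130 L247093 q10130, e3 q10131 L247099 q8338, e3 q10132 L247105 q10132, e3 q10133 L247117 q10133, e3 q10134 (flp_e L359124) q12159, e3 q10135 L247136 q10135, e3 q10136 L247160 q10136, e3 q10137 L247177 q8346, e3 q10138 L247195 q10138, e3 q10139 L247200 q10139, e3 q10140 L247211 q10140, e3 q10141 L247219 q10141, e3 q10142 L247239 q10142, e3 q10143 L614336 q8362, e3 q10144 (flp_e L614282) q12049, e3 q10145 (flp_e L550789) q11826,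 e3 q10146 L247283 q10146, e3 q10147 L247293 q8351, e3 q10148 L247301 q8352, e3 q10149 (flp_e L614288) q8356, e3 q10150 (flp_e L359446) q12175, e3 q10151 (flp_e L359464) q12177, e3 q10152 L247355 q8357, e3 q10153 (flp_e L614017) q12178, e3 q10154 L359573 q12183, e3 q10155 (flp_e L359540) q12180, e3 q10156 (flp_e L247392) q8358, e3 q10157 (flp_e L359601) q12186, e3 q10158 L247416 q8478, e3 q10159 L247431 q8363, e3 q10160 L247440 q8396, e3 q10161 L247447 q8364, e3 q10162 (flp_e L614346) q12171, e3 q10163 (flp_e L359654) q12190, e3 q10164 L247477 q8484, e3 q10165 L247486 q8485, e3 q10166 L247495 q8370, e3 q10167 L247504 q8403, e3 q10168 L247511 q8371, e3 q10169 L247519 q8405, e3 q10170 L247529 q8406, e3 q10171 (flp_e L359733) q12198, e3 q10172 (flp_e L247543) q8372, e3 q10173 (flp_e L359794) q12205, e3 q10174 (flp_e L359803) q12206, e3 q10175 (flp_e L576432) q8824, trivial⟩ (by decide +kernel)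

theorem ce_e_159 : ∀ r, r < 64 → sm ge (Qf (10176 + r)) = Qf (tab Gen.e (10176 + r)) :=
  edges_tab (sm ge) Qf (tab Gen.e) 10176 [(10176, 10176), (10177, 8375), (10178, 8376), (10179, 12213), (10180, 12214), (10181, 12220), (10182, 12216), (10183, 11827), (10184, 8503), (10185, 8381), (10186, 8382), (10187, 12176), (10188, 8383), (10189, 12225), (10190, 12227), (10191, 10191), (10192, 10192), (10193, 8511), (10194, 8387), (10195, 8388), (10196, 12242), (10197, 8390), (10198, 12238), (10199, 12246), (10200, 12240), (10201, 8389), (10202, 12249), (10203, 12248), (10204, 8392), (10205, 12253), (10206, 8524), (10207, 8525), (10208, 8398), (10209, 12189), (10210, 8399), (10211, 12191), (10212, 12192), (10213, 12259), (10214, 8532), (10215, 8533), (10216, 12269), (10217, 8535), (10218, 12197), (10219, 8407), (10220, 12199), (10221, 12200), (10222, 12201), (10223, 12202), (10224, 12203), (10225, 10225), (10226, 8409), (10227, 8410), (10228, 12283), (10229, 12284), (10230, 12286), (10231, 10231), (10232, 10232), (10233, 8551), (10234,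 8415), (10235, 8416), (10236, 12300), (10237, 8418), (10238, 12296), (10239, 12304)]
    ⟨e3 q10176 L247596 q10176, e3 q10177 L247603 q8375, e3 q10178 L247613 q8376, e3 q10179 (flp_e L359901) q12213, e3 q10180 (flp_e L359911) q12214, e3 q10181 L359964 q12220, e3 q10182 (flp_e L359927) q12216, e3 q10183 (flp_e L506425) q11827, e3 q10184 L247680 q8503, e3 q10185 L247690 q8381, e3 q10186 L247699 q8382, e3 q10187 (flp_e L359456) q12176, e3 q10188 L247716 q8383, e3 q10189 (flp_e L360031) q12225, e3 q10190 (flp_e L360048) q12227, e3 q10191 L247747 q10191, e3 q10192 L247753 q10192, e3 q10193 L247762 q8511, e3 q10194 L247770 q8387, e3 q10195 L247778 q8388, e3 q10196 L360166 q12242, e3 q10197 L247790 q8390, e3 q10198 (flp_e L360142) q12238, e3 q10199 L360193 q12246, e3 q10200 (flp_e L360154) q12240, e3 q10201 (flp_e L247821) q8389, e3 q10202 (flp_e L360213) q12249, e3 q10203 (flp_e L360209) q12248, e3 q10204 L247839 q8392, e3 q10205 (flp_e L360237) q12253, e3 q10206 L247855 q8524, e3 q10207 L247865 q8525, e3 q10208 L247875 q8398,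 e3 q10209 (flp_e L359647) q12189, e3 q10210 L247890 q8399, e3 q10211 (flp_e L359661) q12191, e3 q10212 (flp_e L359671) q12192, e3 q10213 (flp_e L360295) q12259, e3 q10214 L247923 q8532, e3 q10215 L247932 q8533, e3 q10216 L360372 q12269, e3 q10217 L247949 q8535, e3 q10218 (flp_e L359726) q12197, e3 q10219 L247966 q8407, e3 q10220 (flp_e L359741) q12199, e3 q10221 (flp_e L359752) q12200, e3 q10222 (flp_e L359759) q12201, e3 q10223 (flp_e L359769) q12202, e3 q10224 (flp_e L359775) q12203, e3 q10225 L248011 q10225, e3 q10226 L248017 q8409, e3 q10227 L248024 q8410, e3 q10228 (flp_e L360477) q12283, e3 q10229 (flp_e L360484) q12284, e3 q10230 (flp_e L360499) q12286, e3 q10231 L248090 q10231, e3 q10232 L248096 q10232, e3 q10233 L248105 q8551, e3 q10234 L248115 q8415, e3 q10235 L248123 q8416, e3 q10236 L360687 q12300, e3 q10237 L248139 q8418, e3 q10238 (flp_e L360659) q12296, e3 q10239 L360721 q12304, trivial⟩ (by decide +kernel)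

theorem ce_e_160 : ∀ r, r < 64 → sm ge (Qf (10240 + r)) = Qf (tab Gen.e (10240 + r)) :=
  edges_tab (sm ge) Qf (tab Gen.e) 10240 [(10240, 12298), (10241, 8417), (10242, 12306), (10243, 11799), (10244, 8562), (10245, 8563), (10246, 8425), (10247, 10247), (10248, 8426), (10249, 10249), (10250, 10250), (10251, 12313), (10252, 12319), (10253, 10253), (10254, 10254), (10255, 12326), (10256, 10256), (10257, 8575), (10258, 8576), (10259, 8434), (10260, 12335), (10261, 8436), (10262, 12338), (10263, 8432), (10264, 12341), (10265, 12343), (10266, 12333), (10267, 8435), (10268, 12346), (10269, 8439), (10270, 8438), (10271, 12350), (10272, 12348), (10273, 12349), (10274, 8441), (10275, 8593), (10276, 8594), (10277, 12358), (10278, 8596), (10279, 10279), (10280, 8449), (10281, 10281), (10282, 10282), (10283, 10283), (10284, 10284), (10285, 10285), (10286, 8604), (10287, 12369), (10288, 8606), (10289, 12372), (10290, 8452), (10291, 12374), (10292, 10292), (10293, 10293), (10294, 10294), (10295, 10295), (10296, 10296), (10297, 10297),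 (10298, 10298), (10299, 9682), (10300, 11688), (10301, 10301), (10302, 9680), (10303, 12388)]
    ⟨e3 q10240 (flp_e L360675) q12298, e3 q10241 (flp_e L248173) q8417, e3 q10242 (flp_e L360753) q12306, e3 q10243 (flp_e L550569) q11799, e3 q10244 L248221 q8562, e3 q10245 L248230 q8563, e3 q10246 L248241 q8425, e3 q10247 L248252 q10247, e3 q10248 L248259 q8426, e3 q10249 L248267 q10249, e3 q10250 L248278 q10250, e3 q10251 (flp_e L360848) q12313, e3 q10252 L360895 q12319, e3 q10253 L248303 q10253, e3 q10254 L248307 q10254, e3 q10255 L360942 q12326, e3 q10256 L248319 q10256, e3 q10257 L248326 q8575, e3 q10258 L248334 q8576, e3 q10259 L248344 q8434, e3 q10260 L361005 q12335, e3 q10261 L248356 q8436, e3 q10262 L361023 q12338, e3 q10263 (flp_e L248366) q8432, e3 q10264 (flp_e L361046) q12341, e3 q10265 L361052 q12343, e3 q10266 (flp_e L360995) q12333, e3 q10267 (flp_e L248392) q8435, e3 q10268 (flp_e L361076) q12346, e3 q10269 L248411 q8439, e3 q10270 L248416 q8438, e3 q10271 (flp_e L361104) q12350, e3 q10272 (flp_e L361091) q12348,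 e3 q10273 (flp_e L361097) q12349, e3 q10274 L248442 q8441, e3 q10275 L248452 q8593, e3 q10276 L248460 q8594, e3 q10277 L361173 q12358, e3 q10278 L248479 q8596, e3 q10279 L248491 q10279, e3 q10280 L248497 q8449, e3 q10281 L248503 q10281, e3 q10282 L248513 q10282, e3 q10283 L248518 q10283, e3 q10284 L248528 q10284, e3 q10285 L248535 q10285, e3 q10286 L248542 q8604, e3 q10287 L361281 q12369, e3 q10288 L248559 q8606, e3 q10289 L361306 q12372, e3 q10290 (flp_e L248573) q8452, e3 q10291 (flp_e L361329) q12374, e3 q10292 L248603 q10292, e3 q10293 L248608 q10293, e3 q10294 L248617 q10294, e3 q10295 L248623 q10295, e3 q10296 L248629 q10296, e3 q10297 L248638 q10297, e3 q10298 L248646 q10298, e3 q10299 L537077 q9682, e3 q10300 (flp_e L550473) q11688, e3 q10301 L248689 q10301, e3 q10302 L537200 q9680, e3 q10303 L361587 q12388, trivial⟩ (by decide +kernel)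

theorem ce_e_161 : ∀ r, r < 64 → sm ge (Qf (10304 + r)) = Qf (tab Gen.e (10304 + r)) :=
  edges_tab (sm ge) Qf (tab Gen.e) 10304 [(10304, 9683), (10305, 11937), (10306, 9678), (10307, 9681), (10308, 8473), (10309, 12393), (10310, 8475), (10311, 9676), (10312, 12397), (10313, 12392), (10314, 8474), (10315, 12400), (10316, 12399), (10317, 8477), (10318, 12404), (10319, 12188), (10320, 8482), (10321, 8483), (10322, 12406), (10323, 12194), (10324, 12408), (10325, 12196), (10326, 8536), (10327, 8491), (10328, 8538), (10329, 8539), (10330, 8540), (10331, 8541), (10332, 8493), (10333, 8494), (10334, 12414), (10335, 12415), (10336, 12417), (10337, 12212), (10338, 8498), (10339, 8499), (10340, 12425), (10341, 8501), (10342, 12422), (10343, 12429), (10344, 12424), (10345, 8500), (10346, 12431), (10347, 11938), (10348, 12223), (10349, 12224), (10350, 8507), (10351, 8508), (10352, 12436), (10353, 12437), (10354, 10354), (10355, 10355), (10356, 12443), (10357, 10357), (10358, 12236), (10359, 12237), (10360, 8516), (10361, 12452), (10362,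 8518), (10363, 12455), (10364, 8514), (10365, 12458), (10366, 12460), (10367, 12450)]
    ⟨e3 q10304 L537167 q9683, e3 q10305 (flp_e L550754) q11937, e3 q10306 L537183 q9678, e3 q10307 (flp_e L537177) q9681, e3 q10308 L248884 q8473, e3 q10309 L361805 q12393, e3 q10310 L248898 q8475, e3 q10311 L616318 q9676, e3 q10312 L361836 q12397, e3 q10313 (flp_e L361794) q12392, e3 q10314 (flp_e L248927) q8474, e3 q10315 (flp_e L361867) q12400, e3 q10316 (flp_e L361860) q12399, e3 q10317 L248958 q8477, e3 q10318 (flp_e L361901) q12404, e3 q10319 (flp_e L359628) q12188, e3 q10320 L248989 q8482, e3 q10321 L249008 q8483, e3 q10322 (flp_e L361954) q12406, e3 q10323 (flp_e L359698) q12194, e3 q10324 L362042 q12408, e3 q10325 (flp_e L359715) q12196, e3 q10326 L249080 q8536, e3 q10327 L249088 q8491, e3 q10328 L249097 q8538, e3 q10329 L249109 q8539, e3 q10330 L249116 q8540, e3 q10331 L249128 q8541, e3 q10332 L249157 q8493, e3 q10333 L249166 q8494, e3 q10334 (flp_e L362180) q12414, e3 q10335 (flp_e L362190) q12415, e3 q10336 (flp_e L362206) q12417,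 e3 q10337 (flp_e L359891) q12212, e3 q10338 L249262 q8498, e3 q10339 L249273 q8499, e3 q10340 L362408 q12425, e3 q10341 L249290 q8501, e3 q10342 (flp_e L362376) q12422, e3 q10343 L362443 q12429, e3 q10344 (flp_e L362393) q12424, e3 q10345 (flp_e L249323) q8500, e3 q10346 (flp_e L362470) q12431, e3 q10347 (flp_e L506450) q11938, e3 q10348 (flp_e L360009) q12223, e3 q10349 (flp_e L360020) q12224, e3 q10350 L249388 q8507, e3 q10351 L249407 q8508, e3 q10352 (flp_e L362565) q12436, e3 q10353 L362618 q12437, e3 q10354 L249458 q10354, e3 q10355 L249466 q10355, e3 q10356 L362677 q12443, e3 q10357 L249480 q10357, e3 q10358 (flp_e L360122) q12236, e3 q10359 (flp_e L360132) q12237, e3 q10360 L249506 q8516, e3 q10361 L362745 q12452, e3 q10362 L249519 q8518, e3 q10363 L362764 q12455, e3 q10364 (flp_e L249532) q8514, e3 q10365 (flp_e L362789) q12458, e3 q10366 L362799 q12460, e3 q10367 (flp_e L362732) q12450, trivial⟩ (by decide +kernel)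

theorem ce_e_162 : ∀ r, r < 64 → sm ge (Qf (10368 + r)) = Qf (tab Gen.e (10368 + r)) :=
  edges_tab (sm ge) Qf (tab Gen.e) 10368 [(10368, 8517), (10369, 12463), (10370, 8521), (10371, 8520), (10372, 12467), (10373, 12465), (10374, 12466), (10375, 8523), (10376, 12254), (10377, 12255), (10378, 12475), (10379, 12257), (10380, 9671), (10381, 8531), (10382, 9643), (10383, 9672), (10384, 9607), (10385, 9644), (10386, 12265), (10387, 12485), (10388, 12267), (10389, 12488), (10390, 8534), (10391, 12490), (10392, 9686), (10393, 12410), (10394, 9690), (10395, 12411), (10396, 9688), (10397, 9615), (10398, 12412), (10399, 9685), (10400, 10400), (10401, 10401), (10402, 12282), (10403, 8546), (10404, 8547), (10405, 12457), (10406, 8548), (10407, 12506), (10408, 12508), (10409, 12512), (10410, 10410), (10411, 10411), (10412, 12518), (10413, 10413), (10414, 12294), (10415, 12295), (10416, 8556), (10417, 12527), (10418, 8558), (10419, 12530), (10420, 8554), (10421, 12532), (10422, 12534), (10423, 12525), (10424, 8557), (10425, 12537), (10426,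 8560), (10427, 12539), (10428, 12308), (10429, 12309), (10430, 12544), (10431, 12311)]
    ⟨e3 q10368 (flp_e L249559) q8517, e3 q10369 (flp_e L362817) q12463, e3 q10370 L249574 q8521, e3 q10371 L249578 q8520, e3 q10372 (flp_e L362842) q12467, e3 q10373 (flp_e L362830) q12465, e3 q10374 (flp_e L362835) q12466, e3 q10375 L249603 q8523, e3 q10376 (flp_e L360247) q12254, e3 q10377 (flp_e L360257) q12255, e3 q10378 L362909 q12475, e3 q10379 (flp_e L360276) q12257, e3 q10380 L561801 q9671, e3 q10381 L249659 q8531, e3 q10382 (flp_e L561756) q9643, e3 q10383 (flp_e L490578) q9672, e3 q10384 (flp_e L590513) q9607, e3 q10385 (flp_e L546999) q9644, e3 q10386 (flp_e L360339) q12265, e3 q10387 L363023 q12485, e3 q10388 (flp_e L360356) q12267, e3 q10389 L363047 q12488, e3 q10390 (flp_e L249742) q8534, e3 q10391 (flp_e L363068) q12490, e3 q10392 L615486 q9686, e3 q10393 (flp_e L362074) q12410, e3 q10394 L616184 q9690, e3 q10395 (flp_e L362094) q12411, e3 q10396 (flp_e L561627) q9688, e3 q10397 (flp_e L513589) q9615, e3 q10398 (flp_e L362123)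 q12412, e3 q10399 (flp_e L561639) q9685, e3 q10400 L249836 q10400, e3 q10401 L249841 q10401, e3 q10402 (flp_e L360468) q12282, e3 q10403 L249857 q8546, e3 q10404 L249865 q8547, e3 q10405 (flp_e L550673) q12457, e3 q10406 L249881 q8548, e3 q10407 (flp_e L363236) q12506, e3 q10408 (flp_e L363252) q12508, e3 q10409 L363408 q12512, e3 q10410 L249986 q10410, e3 q10411 L249994 q10411, e3 q10412 L363475 q12518, e3 q10413 L250012 q10413, e3 q10414 (flp_e L360637) q12294, e3 q10415 (flp_e L360647) q12295, e3 q10416 L250040 q8556, e3 q10417 L363555 q12527, e3 q10418 L250057 q8558, e3 q10419 L363578 q12530, e3 q10420 (flp_e L250070) q8554, e3 q10421 (flp_e L363612) q12532, e3 q10422 L363622 q12534, e3 q10423 (flp_e L363542) q12525, e3 q10424 (flp_e L250104) q8557, e3 q10425 (flp_e L363652) q12537, e3 q10426 L250135 q8560, e3 q10427 (flp_e L363687) q12539, e3 q10428 (flp_e L360798) q12308, e3 q10429 (flp_e L360807) q12309, e3 q10430 L363766 q12544, e3 q10431 (flp_e L360828) q12311, trivial⟩ (by decide +kernel)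

theorem ce_e_163 : ∀ r, r < 64 → sm ge (Qf (10432 + r)) = Qf (tab Gen.e (10432 + r)) :=
  edges_tab (sm ge) Qf (tab Gen.e) 10432 [(10432, 10432), (10433, 8569), (10434, 10434), (10435, 10435), (10436, 10436), (10437, 10437), (10438, 8570), (10439, 12552), (10440, 12553), (10441, 10441), (10442, 12561), (10443, 10443), (10444, 12564), (10445, 8573), (10446, 12567), (10447, 12328), (10448, 12329), (10449, 12573), (10450, 12331), (10451, 12576), (10452, 8584), (10453, 12579), (10454, 8578), (10455, 12582), (10456, 12585), (10457, 8580), (10458, 12588), (10459, 9260), (10460, 8582), (10461, 12592), (10462, 8583), (10463, 12594), (10464, 12345), (10465, 8586), (10466, 12598), (10467, 8590), (10468, 8591), (10469, 8589), (10470, 12599), (10471, 12600), (10472, 12601), (10473, 12354), (10474, 12608), (10475, 12356), (10476, 12611), (10477, 8595), (10478, 12613), (10479, 10479), (10480, 10480), (10481, 10481), (10482, 10482), (10483, 10483), (10484, 10484), (10485, 10485), (10486, 10486), (10487, 12625), (10488, 12368), (10489,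 12628), (10490, 8605), (10491, 12630), (10492, 12633), (10493, 8607), (10494, 12636), (10495, 8609)]
    ⟨e3 q10432 L250221 q10432, e3 q10433 L250229 q8569, e3 q10434 L250238 q10434, e3 q10435 L250250 q10435, e3 q10436 L250255 q10436, e3 q10437 L250268 q10437, e3 q10438 (flp_e L250283) q8570, e3 q10439 (flp_e L363871) q12552, e3 q10440 (flp_e L363878) q12553, e3 q10441 L250310 q10441, e3 q10442 L363939 q12561, e3 q10443 L250324 q10443, e3 q10444 L363961 q12564, e3 q10445 (flp_e L250336) q8573, e3 q10446 (flp_e L363988) q12567, e3 q10447 (flp_e L360957) q12328, e3 q10448 (flp_e L360965) q12329, e3 q10449 L364029 q12573, e3 q10450 (flp_e L360981) q12331, e3 q10451 L364048 q12576, e3 q10452 L250387 q8584, e3 q10453 L364068 q12579, e3 q10454 (flp_e L250398) q8578, e3 q10455 (flp_e L364091) q12582, e3 q10456 L364106 q12585, e3 q10457 (flp_e L250417) q8580, e3 q10458 (flp_e L364134) q12588, e3 q10459 L250437 q9260, e3 q10460 L250443 q8582, e3 q10461 (flp_e L364161) q12592, e3 q10462 (flp_e L250451) q8583, e3 q10463 (flp_e L364173)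 q12594, e3 q10464 (flp_e L361071) q12345, e3 q10465 L250473 q8586, e3 q10466 (flp_e L364199) q12598, e3 q10467 L250486 q8590, e3 q10468 L250492 q8591, e3 q10469 L250500 q8589, e3 q10470 (flp_e L364207) q12599, e3 q10471 (flp_e L364214) q12600, e3 q10472 (flp_e L364221) q12601, e3 q10473 (flp_e L361141) q12354, e3 q10474 L364288 q12608, e3 q10475 (flp_e L361160) q12356, e3 q10476 L364317 q12611, e3 q10477 (flp_e L250566) q8595, e3 q10478 (flp_e L364338) q12613, e3 q10479 L250587 q10479, e3 q10480 L250599 q10480, e3 q10481 L250605 q10481, e3 q10482 L250616 q10482, e3 q10483 L250623 q10483, e3 q10484 L250632 q10484, e3 q10485 L250644 q10485, e3 q10486 L250652 q10486, e3 q10487 L364447 q12625, e3 q10488 (flp_e L361267) q12368, e3 q10489 L364474 q12628, e3 q10490 (flp_e L250685) q8605, e3 q10491 (flp_e L364496) q12630, e3 q10492 L364519 q12633, e3 q10493 (flp_e L250710) q8607, e3 q10494 (flp_e L364547) q12636, e3 q10495 L250732 q8609, trivial⟩ (by decide +kernel)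

theorem ce_e_164 : ∀ r, r < 64 → sm ge (Qf (10496 + r)) = Qf (tab Gen.e (10496 + r)) :=
  edges_tab (sm ge) Qf (tab Gen.e) 10496 [(10496, 12638), (10497, 10497), (10498, 10498), (10499, 10499), (10500, 10500), (10501, 10501), (10502, 10502), (10503, 10503), (10504, 10504), (10505, 12647), (10506, 8618), (10507, 10507), (10508, 8623), (10509, 12648), (10510, 12649), (10511, 10511), (10512, 10512), (10513, 10513), (10514, 10514), (10515, 12656), (10516, 12658), (10517, 8630), (10518, 9642), (10519, 9609), (10520, 9325), (10521, 10521), (10522, 8639), (10523, 8635), (10524, 8637), (10525, 9338), (10526, 12484), (10527, 9687), (10528, 9652), (10529, 9684), (10530, 9603), (10531, 9650), (10532, 12383), (10533, 8648), (10534, 12661), (10535, 12662), (10536, 10536), (10537, 10537), (10538, 10538), (10539, 10539), (10540, 12669), (10541, 12671), (10542, 8655), (10543, 10543), (10544, 10544), (10545, 10545), (10546, 8660), (10547, 8661), (10548, 12673), (10549, 12674), (10550, 12681), (10551, 12676), (10552, 9571), (10553, 10553),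 (10554, 9583), (10555, 9520), (10556, 9585), (10557, 9523), (10558, 10558), (10559, 9388)]
    ⟨e3 q10496 (flp_e L364566) q12638, e3 q10497 L250748 q10497, e3 q10498 L250759 q10498, e3 q10499 L250766 q10499, e3 q10500 L250774 q10500, e3 q10501 L250784 q10501, e3 q10502 L250792 q10502, e3 q10503 L250802 q10503, e3 q10504 L250810 q10504, e3 q10505 L364645 q12647, e3 q10506 (flp_e L251919) q8618, e3 q10507 L252398 q10507, e3 q10508 (flp_e L252495) q8623, e3 q10509 (flp_e L367125) q12648, e3 q10510 (flp_e L367133) q12649, e3 q10511 L252523 q10511, e3 q10512 L252537 q10512, e3 q10513 L252569 q10513, e3 q10514 L252774 q10514, e3 q10515 L367565 q12656, e3 q10516 L367590 q12658, e3 q10517 (flp_e L252805) q8630, e3 q10518 (flp_e L546949) q9642, e3 q10519 L554259 q9609, e3 q10520 L615876 q9325, e3 q10521 L252891 q10521, e3 q10522 (flp_e L615978) q8639, e3 q10523 (flp_e L252907) q8635, e3 q10524 L615908 q8637, e3 q10525 L615935 q9338, e3 q10526 (flp_e L615496) q12484, e3 q10527 L561498 q9687, e3 q10528 (flp_e L420426) q9652, e3 q10529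 L561522 q9684, e3 q10530 (flp_e L551388) q9603, e3 q10531 L420205 q9650, e3 q10532 (flp_e L542455) q12383, e3 q10533 (flp_e L253260) q8648, e3 q10534 (flp_e L368255) q12661, e3 q10535 (flp_e L368262) q12662, e3 q10536 L253288 q10536, e3 q10537 L253304 q10537, e3 q10538 L253340 q10538, e3 q10539 L253521 q10539, e3 q10540 L368658 q12669, e3 q10541 L368685 q12671, e3 q10542 (flp_e L253554) q8655, e3 q10543 L253578 q10543, e3 q10544 L253595 q10544, e3 q10545 L253619 q10545, e3 q10546 L253648 q8660, e3 q10547 L253654 q8661, e3 q10548 (flp_e L368806) q12673, e3 q10549 (flp_e L368813) q12674, e3 q10550 L368865 q12681, e3 q10551 (flp_e L368828) q12676, e3 q10552 (flp_e L646647) q9571, e3 q10553 L253701 q10553, e3 q10554 (flp_e L546089) q9583, e3 q10555 L562124 q9520, e3 q10556 (flp_e L543100) q9585, e3 q10557 L546683 q9523, e3 q10558 L253770 q10558, e3 q10559 L629673 q9388, trivial⟩ (by decide +kernel)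

theorem ce_e_165 : ∀ r, r < 64 → sm ge (Qf (10560 + r)) = Qf (tab Gen.e (10560 + r)) :=
  edges_tab (sm ge) Qf (tab Gen.e) 10560 [(10560, 12692), (10561, 8669), (10562, 9580), (10563, 9582), (10564, 9584), (10565, 12696), (10566, 10566), (10567, 12699), (10568, 8674), (10569, 12701), (10570, 12704), (10571, 8676), (10572, 12707), (10573, 8678), (10574, 12709), (10575, 10575), (10576, 10576), (10577, 10577), (10578, 10578), (10579, 10579), (10580, 10580), (10581, 10581), (10582, 10582), (10583, 12718), (10584, 8691), (10585, 8687), (10586, 8689), (10587, 12697), (10588, 12624), (10589, 12689), (10590, 8692), (10591, 9369), (10592, 9285), (10593, 8696), (10594, 10594), (10595, 10595), (10596, 10596), (10597, 10597), (10598, 10598), (10599, 12729), (10600, 10600), (10601, 11692), (10602, 8705), (10603, 8709), (10604, 8718), (10605, 8717), (10606, 10606), (10607, 8768), (10608, 8723), (10609, 8724), (10610, 10610), (10611, 8727), (10612, 10612), (10613, 10613), (10614, 10614), (10615, 10615), (10616, 8738), (10617, 10617), (10618,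 8739), (10619, 10619), (10620, 10620), (10621, 10621), (10622, 8887), (10623, 10623)]
    ⟨e3 q10560 L369056 q12692, e3 q10561 (flp_e L253801) q8669, e3 q10562 (flp_e L546126) q9580, e3 q10563 L543406 q9582, e3 q10564 (flp_e L543319) q9584, e3 q10565 L369315 q12696, e3 q10566 L253992 q10566, e3 q10567 L369343 q12699, e3 q10568 (flp_e L254004) q8674, e3 q10569 (flp_e L369363) q12701, e3 q10570 L369384 q12704, e3 q10571 (flp_e L254030) q8676, e3 q10572 (flp_e L369413) q12707, e3 q10573 L254050 q8678, e3 q10574 (flp_e L369430) q12709, e3 q10575 L254065 q10575, e3 q10576 L254075 q10576, e3 q10577 L254083 q10577, e3 q10578 L254091 q10578, e3 q10579 L254100 q10579, e3 q10580 L254107 q10580, e3 q10581 L254116 q10581, e3 q10582 L254126 q10582, e3 q10583 L369500 q12718, e3 q10584 (flp_e L647133) q8691, e3 q10585 (flp_e L254144) q8687, e3 q10586 L647105 q8689, e3 q10587 (flp_e L629230) q12697, e3 q10588 (flp_e L646867) q12624, e3 q10589 (flp_e L646488) q12689, e3 q10590 (flp_e L254211) q8692, e3 q10591 (flp_e L646849) q9369, e3 q10592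 L646983 q9285, e3 q10593 L254257 q8696, e3 q10594 L254265 q10594, e3 q10595 L254275 q10595, e3 q10596 L254284 q10596, e3 q10597 L254294 q10597, e3 q10598 L254301 q10598, e3 q10599 L369743 q12729, e3 q10600 L254315 q10600, e3 q10601 (flp_e L553728) q11692, e3 q10602 (flp_e L254327) q8705, e3 q10603 (flp_e L255252) q8709, e3 q10604 (flp_e L644887) q8718, e3 q10605 L255602 q8717, e3 q10606 L255612 q10606, e3 q10607 L621459 q8768, e3 q10608 L256167 q8723, e3 q10609 L256176 q8724, e3 q10610 L256232 q10610, e3 q10611 L256261 q8727, e3 q10612 L256464 q10612, e3 q10613 L256537 q10613, e3 q10614 L256629 q10614, e3 q10615 L256636 q10615, e3 q10616 L256643 q8738, e3 q10617 L256653 q10617, e3 q10618 L256660 q8739, e3 q10619 L256675 q10619, e3 q10620 L256690 q10620, e3 q10621 L256695 q10621, e3 q10622 (flp_e L640991) q8887, e3 q10623 L256719 q10623, trivial⟩ (by decide +kernel)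

theorem ce_e_166 : ∀ r, r < 64 → sm ge (Qf (10624 + r)) = Qf (tab Gen.e (10624 + r)) :=
  edges_tab (sm ge) Qf (tab Gen.e) 10624 [(10624, 10624), (10625, 10625), (10626, 10626), (10627, 10627), (10628, 8762), (10629, 8749), (10630, 8750), (10631, 11785), (10632, 12742), (10633, 8756), (10634, 11786), (10635, 8759), (10636, 12744), (10637, 11762), (10638, 8763), (10639, 12740), (10640, 12749), (10641, 12747), (10642, 12060), (10643, 10643), (10644, 8769), (10645, 10645), (10646, 8770), (10647, 12730), (10648, 12753), (10649, 9021), (10650, 10650), (10651, 8774), (10652, 12762), (10653, 8776), (10654, 12760), (10655, 8775), (10656, 12765), (10657, 12764), (10658, 8778), (10659, 10659), (10660, 8784), (10661, 10661), (10662, 8785), (10663, 10663), (10664, 10664), (10665, 11875), (10666, 10666), (10667, 10667), (10668, 10668), (10669, 10669), (10670, 10670), (10671, 8820), (10672, 9594), (10673, 8872), (10674, 8798), (10675, 8799), (10676, 9098), (10677, 8800), (10678, 11871), (10679, 12783), (10680, 8879), (10681, 8880), (10682,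 8807), (10683, 9438), (10684, 9439), (10685, 11872), (10686, 8890), (10687, 11757)]
    ⟨e3 q10624 L256733 q10624, e3 q10625 L256744 q10625, e3 q10626 L256750 q10626, e3 q10627 L256763 q10627, e3 q10628 L621588 q8762, e3 q10629 L257147 q8749, e3 q10630 L257157 q8750, e3 q10631 (flp_e L640405) q11785, e3 q10632 (flp_e L374043) q12742, e3 q10633 L257258 q8756, e3 q10634 (flp_e L640351) q11786, e3 q10635 (flp_e L257353) q8759, e3 q10636 (flp_e L374308) q12744, e3 q10637 (flp_e L354268) q11762, e3 q10638 L257426 q8763, e3 q10639 (flp_e L621539) q12740, e3 q10640 L374479 q12749, e3 q10641 (flp_e L374445) q12747, e3 q10642 (flp_e L576189) q12060, e3 q10643 L257496 q10643, e3 q10644 L257511 q8769, e3 q10645 L257522 q10645, e3 q10646 L257528 q8770, e3 q10647 (flp_e L621482) q12730, e3 q10648 (flp_e L374568) q12753, e3 q10649 L621648 q9021, e3 q10650 L257574 q10650, e3 q10651 L257591 q8774, e3 q10652 L374692 q12762, e3 q10653 L257607 q8776, e3 q10654 (flp_e L374682) q12760, e3 q10655 (flp_e L257641) q8775, e3 q10656 (flp_e L374766)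 q12765, e3 q10657 (flp_e L374759) q12764, e3 q10658 L257675 q8778, e3 q10659 L257701 q10659, e3 q10660 L257708 q8784, e3 q10661 L257720 q10661, e3 q10662 L257725 q8785, e3 q10663 L257731 q10663, e3 q10664 L257740 q10664, e3 q10665 (flp_e L641230) q11875, e3 q10666 L257781 q10666, e3 q10667 L257791 q10667, e3 q10668 L257816 q10668, e3 q10669 L257823 q10669, e3 q10670 L257833 q10670, e3 q10671 (flp_e L622201) q8820, e3 q10672 L258368 q9594, e3 q10673 L258378 q8872, e3 q10674 L258386 q8798, e3 q10675 L258396 q8799, e3 q10676 (flp_e L552235) q9098, e3 q10677 L258410 q8800, e3 q10678 (flp_e L636011) q11871, e3 q10679 (flp_e L375877) q12783, e3 q10680 L258488 q8879, e3 q10681 L258498 q8880, e3 q10682 L258520 q8807, e3 q10683 (flp_e L521679) q9438, e3 q10684 L592017 q9439, e3 q10685 (flp_e L635989) q11872, e3 q10686 L258574 q8890, e3 q10687 (flp_e L644059) q11757, trivial⟩ (by decide +kernel)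

theorem ce_e_167 : ∀ r, r < 64 → sm ge (Qf (10688 + r)) = Qf (tab Gen.e (10688 + r)) :=
  edges_tab (sm ge) Qf (tab Gen.e) 10688 [(10688, 8983), (10689, 8814), (10690, 8815), (10691, 12791), (10692, 12793), (10693, 8906), (10694, 8821), (10695, 12798), (10696, 8823), (10697, 12777), (10698, 12801), (10699, 12797), (10700, 8822), (10701, 12803), (10702, 8916), (10703, 8917), (10704, 8830), (10705, 10705), (10706, 8831), (10707, 10707), (10708, 12809), (10709, 9666), (10710, 9123), (10711, 12815), (10712, 9596), (10713, 8929), (10714, 8930), (10715, 8839), (10716, 12824), (10717, 8841), (10718, 12827), (10719, 8837), (10720, 12830), (10721, 12822), (10722, 8840), (10723, 12833), (10724, 8844), (10725, 8843), (10726, 12834), (10727, 12835), (10728, 8945), (10729, 8946), (10730, 12842), (10731, 8948), (10732, 10732), (10733, 8853), (10734, 10734), (10735, 10735), (10736, 10736), (10737, 10737), (10738, 10738), (10739, 8956), (10740, 11910), (10741, 8958), (10742, 9198), (10743, 8856), (10744, 12855), (10745, 10745), (10746,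 10746), (10747, 10747), (10748, 10748), (10749, 10749), (10750, 10750), (10751, 10751)]
    ⟨e3 q10688 (flp_e L617652) q8983, e3 q10689 L258641 q8814, e3 q10690 L258650 q8815, e3 q10691 (flp_e L376213) q12791, e3 q10692 (flp_e L376230) q12793, e3 q10693 L258743 q8906, e3 q10694 L258759 q8821, e3 q10695 L376429 q12798, e3 q10696 L258773 q8823, e3 q10697 L622170 q12777, e3 q10698 L376462 q12801, e3 q10699 (flp_e L376419) q12797, e3 q10700 (flp_e L258806) q8822, e3 q10701 (flp_e L376496) q12803, e3 q10702 L258852 q8916, e3 q10703 L258861 q8917, e3 q10704 L258870 q8830, e3 q10705 L258881 q10705, e3 q10706 L258887 q8831, e3 q10707 L258903 q10707, e3 q10708 (flp_e L376581) q12809, e3 q10709 L611438 q9666, e3 q10710 (flp_e L617487) q9123, e3 q10711 L376669 q12815, e3 q10712 L258946 q9596, e3 q10713 L258954 q8929, e3 q10714 L258964 q8930, e3 q10715 L258974 q8839, e3 q10716 L376741 q12824, e3 q10717 L258990 q8841, e3 q10718 L376763 q12827, e3 q10719 (flp_e L258998) q8837, e3 q10720 (flp_e L376786) q12830, e3 q10721 (flp_e L376731)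 q12822, e3 q10722 (flp_e L259031) q8840, e3 q10723 (flp_e L376826) q12833, e3 q10724 L259058 q8844, e3 q10725 L259065 q8843, e3 q10726 (flp_e L376846) q12834, e3 q10727 (flp_e L376855) q12835, e3 q10728 L259107 q8945, e3 q10729 L259113 q8946, e3 q10730 L376933 q12842, e3 q10731 L259129 q8948, e3 q10732 L259139 q10732, e3 q10733 L259144 q8853, e3 q10734 L259150 q10734, e3 q10735 L259159 q10735, e3 q10736 L259164 q10736, e3 q10737 L259171 q10737, e3 q10738 L259176 q10738, e3 q10739 L259182 q8956, e3 q10740 (flp_e L635152) q11910, e3 q10741 L259198 q8958, e3 q10742 (flp_e L641027) q9198, e3 q10743 (flp_e L259211) q8856, e3 q10744 (flp_e L377066) q12855, e3 q10745 L259227 q10745, e3 q10746 L259237 q10746, e3 q10747 L259244 q10747, e3 q10748 L259254 q10748, e3 q10749 L259260 q10749, e3 q10750 L259267 q10750, e3 q10751 L259275 q10751, trivial⟩ (by decide +kernel)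

theorem ce_e_168 : ∀ r, r < 64 → sm ge (Qf (10752 + r)) = Qf (tab Gen.e (10752 + r)) :=
  edges_tab (sm ge) Qf (tab Gen.e) 10752 [(10752, 10752), (10753, 8893), (10754, 8894), (10755, 8895), (10756, 8896), (10757, 8897), (10758, 12870), (10759, 9600), (10760, 9601), (10761, 9219), (10762, 9602), (10763, 12780), (10764, 12781), (10765, 8877), (10766, 9224), (10767, 8878), (10768, 9226), (10769, 9227), (10770, 12882), (10771, 12735), (10772, 11868), (10773, 12006), (10774, 12787), (10775, 9504), (10776, 8886), (10777, 9506), (10778, 9507), (10779, 9508), (10780, 9509), (10781, 9510), (10782, 11877), (10783, 12020), (10784, 12021), (10785, 11709), (10786, 11710), (10787, 12864), (10788, 12865), (10789, 12866), (10790, 12867), (10791, 12868), (10792, 12869), (10793, 9604), (10794, 9605), (10795, 12790), (10796, 8901), (10797, 8902), (10798, 9161), (10799, 8903), (10800, 12916), (10801, 12918), (10802, 12871), (10803, 9599), (10804, 9606), (10805, 12454), (10806, 9608), (10807, 12776), (10808, 12795), (10809, 8911), (10810, 12934),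 (10811, 8913), (10812, 12937), (10813, 8909), (10814, 12939), (10815, 12941)]
    ⟨e3 q10752 L259281 q10752, e3 q10753 L259729 q8893, e3 q10754 L259740 q8894, e3 q10755 L259747 q8895, e3 q10756 L259758 q8896, e3 q10757 L259765 q8897, e3 q10758 L378350 q12870, e3 q10759 L260089 q9600, e3 q10760 L260099 q9601, e3 q10761 L547333 q9219, e3 q10762 L260115 q9602, e3 q10763 (flp_e L375839) q12780, e3 q10764 (flp_e L375851) q12781, e3 q10765 L260144 q8877, e3 q10766 (flp_e L534210) q9224, e3 q10767 L260161 q8878, e3 q10768 (flp_e L547418) q9226, e3 q10769 (flp_e L553229) q9227, e3 q10770 (flp_e L378476) q12882, e3 q10771 (flp_e L641002) q12735, e3 q10772 (flp_e L640979) q11868, e3 q10773 (flp_e L640952) q12006, e3 q10774 (flp_e L376015) q12787, e3 q10775 (flp_e L549353) q9504, e3 q10776 L260314 q8886, e3 q10777 L547383 q9506, e3 q10778 (flp_e L549229) q9507, e3 q10779 L547425 q9508, e3 q10780 (flp_e L549237) q9509, e3 q10781 L507732 q9510, e3 q10782 (flp_e L635104) q11877, e3 q10783 (flp_e L640949) q12020, e3 q10784 (flp_e L635224)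 q12021, e3 q10785 (flp_e L640756) q11709, e3 q10786 (flp_e L640749) q11710, e3 q10787 (flp_e L377815) q12864, e3 q10788 (flp_e L377826) q12865, e3 q10789 (flp_e L377833) q12866, e3 q10790 (flp_e L377842) q12867, e3 q10791 (flp_e L377853) q12868, e3 q10792 (flp_e L377862) q12869, e3 q10793 L260478 q9604, e3 q10794 L260486 q9605, e3 q10795 (flp_e L376195) q12790, e3 q10796 L260503 q8901, e3 q10797 L260513 q8902, e3 q10798 (flp_e L547351) q9161, e3 q10799 L260531 q8903, e3 q10800 (flp_e L378989) q12916, e3 q10801 (flp_e L379009) q12918, e3 q10802 (flp_e L615090) q12871, e3 q10803 L615152 q9599, e3 q10804 L260662 q9606, e3 q10805 (flp_e L547037) q12454, e3 q10806 L260678 q9608, e3 q10807 (flp_e L611664) q12776, e3 q10808 (flp_e L376393) q12795, e3 q10809 L260703 q8911, e3 q10810 L379336 q12934, e3 q10811 L260720 q8913, e3 q10812 L379357 q12937, e3 q10813 (flp_e L260731) q8909, e3 q10814 (flp_e L379387) q12939, e3 q10815 L379395 q12941, trivial⟩ (by decide +kernel)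

theorem ce_e_169 : ∀ r, r < 64 → sm ge (Qf (10816 + r)) = Qf (tab Gen.e (10816 + r)) :=
  edges_tab (sm ge) Qf (tab Gen.e) 10816 [(10816, 12932), (10817, 8912), (10818, 12944), (10819, 8915), (10820, 12804), (10821, 12805), (10822, 12949), (10823, 12807), (10824, 10824), (10825, 8923), (10826, 10826), (10827, 10827), (10828, 10828), (10829, 10829), (10830, 10830), (10831, 8924), (10832, 9664), (10833, 12959), (10834, 9612), (10835, 12967), (10836, 9614), (10837, 12970), (10838, 8927), (10839, 12973), (10840, 12817), (10841, 12818), (10842, 12979), (10843, 12820), (10844, 12982), (10845, 8938), (10846, 12985), (10847, 8932), (10848, 12988), (10849, 12991), (10850, 8934), (10851, 12994), (10852, 11991), (10853, 8936), (10854, 12998), (10855, 8937), (10856, 13000), (10857, 12832), (10858, 8940), (10859, 8943), (10860, 8944), (10861, 13003), (10862, 13004), (10863, 12838), (10864, 13009), (10865, 12840), (10866, 13012), (10867, 8947), (10868, 13014), (10869, 10869), (10870, 10870), (10871, 10871), (10872, 10872), (10873, 10873),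 (10874, 10874), (10875, 10875), (10876, 10876), (10877, 11911), (10878, 12851), (10879, 13027)]
    ⟨e3 q10816 (flp_e L379323) q12932, e3 q10817 (flp_e L260764) q8912, e3 q10818 (flp_e L379427) q12944, e3 q10819 L260797 q8915, e3 q10820 (flp_e L376539) q12804, e3 q10821 (flp_e L376546) q12805, e3 q10822 L379535 q12949, e3 q10823 (flp_e L376564) q12807, e3 q10824 L260874 q10824, e3 q10825 L260881 q8923, e3 q10826 L260890 q10826, e3 q10827 L260901 q10827, e3 q10828 L260906 q10828, e3 q10829 L260916 q10829, e3 q10830 L260923 q10830, e3 q10831 (flp_e L260926) q8924, e3 q10832 (flp_e L615102) q9664, e3 q10833 (flp_e L379634) q12959, e3 q10834 L260954 q9612, e3 q10835 L379696 q12967, e3 q10836 L260972 q9614, e3 q10837 L379722 q12970, e3 q10838 (flp_e L260982) q8927, e3 q10839 (flp_e L379750) q12973, e3 q10840 (flp_e L376689) q12817, e3 q10841 (flp_e L376697) q12818, e3 q10842 L379793 q12979, e3 q10843 (flp_e L376715) q12820, e3 q10844 L379812 q12982, e3 q10845 L261042 q8938, e3 q10846 L379838 q12985, e3 q10847 (flp_e L261053) q8932,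 e3 q10848 (flp_e L379865) q12988, e3 q10849 L379882 q12991, e3 q10850 (flp_e L261076) q8934, e3 q10851 (flp_e L379910) q12994, e3 q10852 (flp_e L357336) q11991, e3 q10853 L261102 q8936, e3 q10854 (flp_e L379937) q12998, e3 q10855 (flp_e L261110) q8937, e3 q10856 (flp_e L379954) q13000, e3 q10857 (flp_e L376819) q12832, e3 q10858 L261142 q8940, e3 q10859 L261160 q8943, e3 q10860 L261169 q8944, e3 q10861 (flp_e L380001) q13003, e3 q10862 (flp_e L380011) q13004, e3 q10863 (flp_e L376907) q12838, e3 q10864 L380088 q13009, e3 q10865 (flp_e L376923) q12840, e3 q10866 L380113 q13012, e3 q10867 (flp_e L261245) q8947, e3 q10868 (flp_e L380129) q13014, e3 q10869 L261261 q10869, e3 q10870 L261272 q10870, e3 q10871 L261278 q10871, e3 q10872 L261288 q10872, e3 q10873 L261295 q10873, e3 q10874 L261303 q10874, e3 q10875 L261312 q10875, e3 q10876 L261318 q10876, e3 q10877 (flp_e L649086) q11911, e3 q10878 (flp_e L377010) q12851, e3 q10879 L380243 q13027, trivial⟩ (by decide +kernel)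

theorem ce_e_170 : ∀ r, r < 64 → sm ge (Qf (10880 + r)) = Qf (tab Gen.e (10880 + r)) :=
  edges_tab (sm ge) Qf (tab Gen.e) 10880 [(10880, 8957), (10881, 13029), (10882, 13032), (10883, 8959), (10884, 13035), (10885, 8961), (10886, 13037), (10887, 10887), (10888, 10888), (10889, 10889), (10890, 10890), (10891, 10891), (10892, 10892), (10893, 10893), (10894, 10894), (10895, 13046), (10896, 8970), (10897, 8999), (10898, 8972), (10899, 8973), (10900, 13048), (10901, 13050), (10902, 10902), (10903, 8977), (10904, 8978), (10905, 10905), (10906, 8979), (10907, 11878), (10908, 13052), (10909, 9623), (10910, 10910), (10911, 8984), (10912, 13061), (10913, 8986), (10914, 11873), (10915, 13047), (10916, 13059), (10917, 8985), (10918, 13065), (10919, 8994), (10920, 10920), (10921, 10921), (10922, 11879), (10923, 10923), (10924, 9624), (10925, 10925), (10926, 9003), (10927, 9004), (10928, 12741), (10929, 9005), (10930, 13071), (10931, 13073), (10932, 10932), (10933, 10933), (10934, 9011), (10935, 9398), (10936, 9012), (10937, 9400), (10938,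 9401), (10939, 13081), (10940, 9593), (10941, 12759), (10942, 9625), (10943, 10943)]
    ⟨e3 q10880 (flp_e L261346) q8957, e3 q10881 (flp_e L380266) q13029, e3 q10882 L380287 q13032, e3 q10883 (flp_e L261369) q8959, e3 q10884 (flp_e L380312) q13035, e3 q10885 L261388 q8961, e3 q10886 (flp_e L380326) q13037, e3 q10887 L261401 q10887, e3 q10888 L261413 q10888, e3 q10889 L261420 q10889, e3 q10890 L261429 q10890, e3 q10891 L261440 q10891, e3 q10892 L261448 q10892, e3 q10893 L261459 q10893, e3 q10894 L261465 q10894, e3 q10895 L380402 q13046, e3 q10896 (flp_e L261475) q8970, e3 q10897 (flp_e L612453) q8999, e3 q10898 L261539 q8972, e3 q10899 L261549 q8973, e3 q10900 (flp_e L380553) q13048, e3 q10901 (flp_e L380569) q13050, e3 q10902 L261626 q10902, e3 q10903 L261633 q8977, e3 q10904 L261644 q8978, e3 q10905 L261655 q10905, e3 q10906 L261662 q8979, e3 q10907 (flp_e L637473) q11878, e3 q10908 (flp_e L380702) q13052, e3 q10909 L261702 q9623, e3 q10910 L261712 q10910, e3 q10911 L261727 q8984, e3 q10912 L380825 q13061, e3 q10913 L261739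 q8986, e3 q10914 (flp_e L640480) q11873, e3 q10915 L617191 q13047, e3 q10916 (flp_e L380813) q13059, e3 q10917 (flp_e L261771) q8985, e3 q10918 (flp_e L380885) q13065, e3 q10919 L261851 q8994, e3 q10920 L261859 q10920, e3 q10921 L261869 q10921, e3 q10922 (flp_e L641262) q11879, e3 q10923 L261967 q10923, e3 q10924 L262076 q9624, e3 q10925 L262086 q10925, e3 q10926 L262093 q9003, e3 q10927 L262103 q9004, e3 q10928 (flp_e L521716) q12741, e3 q10929 L262119 q9005, e3 q10930 (flp_e L381364) q13071, e3 q10931 (flp_e L381382) q13073, e3 q10932 L262214 q10932, e3 q10933 L262222 q10933, e3 q10934 L262230 q9011, e3 q10935 L262243 q9398, e3 q10936 L262251 q9012, e3 q10937 L262259 q9400, e3 q10938 L262271 q9401, e3 q10939 (flp_e L381573) q13081, e3 q10940 L612181 q9593, e3 q10941 (flp_e L612246) q12759, e3 q10942 L262317 q9625, e3 q10943 L262325 q10943, trivial⟩ (by decide +kernel)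

theorem ce_e_171 : ∀ r, r < 64 → sm ge (Qf (10944 + r)) = Qf (tab Gen.e (10944 + r)) :=
  edges_tab (sm ge) Qf (tab Gen.e) 10944 [(10944, 10944), (10945, 9020), (10946, 12756), (10947, 9022), (10948, 13095), (10949, 9018), (10950, 13098), (10951, 13091), (10952, 12757), (10953, 9025), (10954, 9024), (10955, 13100), (10956, 13101), (10957, 10957), (10958, 10958), (10959, 13107), (10960, 10960), (10961, 9417), (10962, 9034), (10963, 9419), (10964, 9420), (10965, 9421), (10966, 9422), (10967, 9423), (10968, 10968), (10969, 13116), (10970, 9037), (10971, 13117), (10972, 9429), (10973, 9430), (10974, 9431), (10975, 9432), (10976, 9433), (10977, 9434), (10978, 9435), (10979, 9436), (10980, 9047), (10981, 9092), (10982, 9628), (10983, 9158), (10984, 9051), (10985, 9052), (10986, 12792), (10987, 9053), (10988, 13133), (10989, 13135), (10990, 9165), (10991, 9166), (10992, 9059), (10993, 10993), (10994, 9060), (10995, 10995), (10996, 10996), (10997, 13143), (10998, 12914), (10999, 9629), (11000, 13153), (11001, 9631), (11002, 9175),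 (11003, 9176), (11004, 9068), (11005, 13162), (11006, 9070), (11007, 13165)]
    ⟨e3 q10944 L262332 q10944, e3 q10945 L262339 q9020, e3 q10946 (flp_e L621653) q12756, e3 q10947 L262353 q9022, e3 q10948 L381755 q13095, e3 q10949 (flp_e L262363) q9018, e3 q10950 (flp_e L381781) q13098, e3 q10951 (flp_e L381725) q13091, e3 q10952 (flp_e L621674) q12757, e3 q10953 L262420 q9025, e3 q10954 L262426 q9024, e3 q10955 (flp_e L381838) q13100, e3 q10956 (flp_e L381846) q13101, e3 q10957 L262471 q10957, e3 q10958 L262478 q10958, e3 q10959 L381927 q13107, e3 q10960 L262494 q10960, e3 q10961 L262505 q9417, e3 q10962 L262512 q9034, e3 q10963 L262520 q9419, e3 q10964 L262531 q9420, e3 q10965 L262537 q9421, e3 q10966 L262548 q9422, e3 q10967 L262556 q9423, e3 q10968 L262564 q10968, e3 q10969 L382042 q13116, e3 q10970 (flp_e L262591) q9037, e3 q10971 (flp_e L382084) q13117, e3 q10972 L262608 q9429, e3 q10973 L262620 q9430, e3 q10974 L262628 q9431, e3 q10975 L262638 q9432, e3 q10976 L262645 q9433, e3 q10977 L262652 q9434, e3 q10978 L262662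 q9435, e3 q10979 L262671 q9436, e3 q10980 L262689 q9047, e3 q10981 (flp_e L622212) q9092, e3 q10982 L262777 q9628, e3 q10983 L262787 q9158, e3 q10984 L262795 q9051, e3 q10985 L262805 q9052, e3 q10986 (flp_e L552239) q12792, e3 q10987 L262819 q9053, e3 q10988 (flp_e L382403) q13133, e3 q10989 (flp_e L382419) q13135, e3 q10990 L262905 q9165, e3 q10991 L262916 q9166, e3 q10992 L262925 q9059, e3 q10993 L262936 q10993, e3 q10994 L262943 q9060, e3 q10995 L262953 q10995, e3 q10996 L262962 q10996, e3 q10997 (flp_e L382594) q13143, e3 q10998 (flp_e L615394) q12914, e3 q10999 L262994 q9629, e3 q11000 L382689 q13153, e3 q11001 L263005 q9631, e3 q11002 L263013 q9175, e3 q11003 L263023 q9176, e3 q11004 L263031 q9068, e3 q11005 L382751 q13162, e3 q11006 L263043 q9070, e3 q11007 L382767 q13165, trivial⟩ (by decide +kernel)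

theorem ce_e_172 : ∀ r, r < 64 → sm ge (Qf (11008 + r)) = Qf (tab Gen.e (11008 + r)) :=
  edges_tab (sm ge) Qf (tab Gen.e) 11008 [(11008, 9066), (11009, 13167), (11010, 13128), (11011, 13160), (11012, 9069), (11013, 13171), (11014, 9072), (11015, 9188), (11016, 9189), (11017, 13174), (11018, 9191), (11019, 9080), (11020, 11020), (11021, 11021), (11022, 11022), (11023, 11023), (11024, 11024), (11025, 9200), (11026, 9083), (11027, 13181), (11028, 11028), (11029, 11029), (11030, 11030), (11031, 11031), (11032, 9630), (11033, 9214), (11034, 13187), (11035, 9632), (11036, 12778), (11037, 9633), (11038, 9221), (11039, 9222), (11040, 9100), (11041, 12782), (11042, 9101), (11043, 12784), (11044, 12785), (11045, 13198), (11046, 9229), (11047, 9230), (11048, 13208), (11049, 9232), (11050, 9443), (11051, 9109), (11052, 9445), (11053, 9446), (11054, 9447), (11055, 9448), (11056, 9449), (11057, 9110), (11058, 9620), (11059, 12999), (11060, 12821), (11061, 9634), (11062, 13222), (11063, 9113), (11064, 13225), (11065, 9248), (11066, 9249),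 (11067, 13231), (11068, 9251), (11069, 12813), (11070, 9124), (11071, 13236)]
    ⟨e3 q11008 (flp_e L263053) q9066, e3 q11009 (flp_e L382786) q13167, e3 q11010 L622178 q13128, e3 q11011 (flp_e L382739) q13160, e3 q11012 (flp_e L263080) q9069, e3 q11013 (flp_e L382818) q13171, e3 q11014 L263106 q9072, e3 q11015 L263143 q9188, e3 q11016 L263151 q9189, e3 q11017 L382917 q13174, e3 q11018 L263168 q9191, e3 q11019 L263186 q9080, e3 q11020 L263194 q11020, e3 q11021 L263204 q11021, e3 q11022 L263209 q11022, e3 q11023 L263217 q11023, e3 q11024 L263222 q11024, e3 q11025 L263244 q9200, e3 q11026 (flp_e L263258) q9083, e3 q11027 (flp_e L383057) q13181, e3 q11028 L263304 q11028, e3 q11029 L263312 q11029, e3 q11030 L263319 q11030, e3 q11031 L263325 q11031, e3 q11032 L504826 q9630, e3 q11033 L263352 q9214, e3 q11034 L383384 q13187, e3 q11035 L263494 q9632, e3 q11036 (flp_e L576776) q12778, e3 q11037 L263509 q9633, e3 q11038 L263517 q9221, e3 q11039 L263527 q9222, e3 q11040 L263537 q9100, e3 q11041 (flp_e L521721) q12782, e3 q11042 L263553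 q9101, e3 q11043 (flp_e L521687) q12784, e3 q11044 (flp_e L521711) q12785, e3 q11045 (flp_e L383504) q13198, e3 q11046 L263683 q9229, e3 q11047 L263690 q9230, e3 q11048 L383729 q13208, e3 q11049 L263709 q9232, e3 q11050 L263720 q9443, e3 q11051 L263728 q9109, e3 q11052 L263736 q9445, e3 q11053 L263748 q9446, e3 q11054 L263754 q9447, e3 q11055 L263764 q9448, e3 q11056 L263771 q9449, e3 q11057 (flp_e L263774) q9110, e3 q11058 L622105 q9620, e3 q11059 (flp_e L617266) q12999, e3 q11060 (flp_e L611615) q12821, e3 q11061 L263809 q9634, e3 q11062 L383898 q13222, e3 q11063 (flp_e L263818) q9113, e3 q11064 (flp_e L383919) q13225, e3 q11065 L263832 q9248, e3 q11066 L263838 q9249, e3 q11067 L383955 q13231, e3 q11068 L263852 q9251, e3 q11069 (flp_e L611547) q12813, e3 q11070 L263864 q9124, e3 q11071 L383989 q13236, trivial⟩ (by decide +kernel)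

theorem ce_e_173 : ∀ r, r < 64 → sm ge (Qf (11072 + r)) = Qf (tab Gen.e (11072 + r)) :=
  edges_tab (sm ge) Qf (tab Gen.e) 11072 [(11072, 9118), (11073, 13239), (11074, 13242), (11075, 9120), (11076, 13245), (11077, 12340), (11078, 9122), (11079, 13249), (11080, 12814), (11081, 9265), (11082, 9126), (11083, 9129), (11084, 9130), (11085, 13252), (11086, 13253), (11087, 9271), (11088, 13258), (11089, 9273), (11090, 13261), (11091, 9133), (11092, 13263), (11093, 9477), (11094, 9478), (11095, 9479), (11096, 9480), (11097, 9481), (11098, 9482), (11099, 9483), (11100, 9484), (11101, 12722), (11102, 9286), (11103, 13276), (11104, 9143), (11105, 13278), (11106, 13281), (11107, 9145), (11108, 13284), (11109, 9147), (11110, 13286), (11111, 9493), (11112, 9494), (11113, 9495), (11114, 9496), (11115, 9497), (11116, 9498), (11117, 9499), (11118, 9500), (11119, 13295), (11120, 13126), (11121, 9157), (11122, 13131), (11123, 13132), (11124, 9163), (11125, 12917), (11126, 9164), (11127, 12919), (11128, 13301), (11129, 13139), (11130, 13140),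 (11131, 13142), (11132, 9169), (11133, 9170), (11134, 12911), (11135, 13306)]
    ⟨e3 q11072 (flp_e L263874) q9118, e3 q11073 (flp_e L384013) q13239, e3 q11074 L384025 q13242, e3 q11075 (flp_e L263890) q9120, e3 q11076 (flp_e L384049) q13245, e3 q11077 (flp_e L361040) q12340, e3 q11078 L263910 q9122, e3 q11079 (flp_e L384067) q13249, e3 q11080 L622063 q12814, e3 q11081 L263938 q9265, e3 q11082 L263944 q9126, e3 q11083 L263962 q9129, e3 q11084 L263970 q9130, e3 q11085 (flp_e L384129) q13252, e3 q11086 (flp_e L384137) q13253, e3 q11087 L264016 q9271, e3 q11088 L384209 q13258, e3 q11089 L264033 q9273, e3 q11090 L384237 q13261, e3 q11091 (flp_e L264044) q9133, e3 q11092 (flp_e L384256) q13263, e3 q11093 L264063 q9477, e3 q11094 L264074 q9478, e3 q11095 L264080 q9479, e3 q11096 L264091 q9480, e3 q11097 L264099 q9481, e3 q11098 L264108 q9482, e3 q11099 L264117 q9483, e3 q11100 L264123 q9484, e3 q11101 (flp_e L646992) q12722, e3 q11102 L264135 q9286, e3 q11103 L384369 q13276, e3 q11104 (flp_e L264147) q9143, e3 q11105 (flp_e L384393)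 q13278, e3 q11106 L384413 q13281, e3 q11107 (flp_e L264171) q9145, e3 q11108 (flp_e L384438) q13284, e3 q11109 L264191 q9147, e3 q11110 (flp_e L384453) q13286, e3 q11111 L264203 q9493, e3 q11112 L264213 q9494, e3 q11113 L264220 q9495, e3 q11114 L264227 q9496, e3 q11115 L264237 q9497, e3 q11116 L264246 q9498, e3 q11117 L264256 q9499, e3 q11118 L264262 q9500, e3 q11119 L384521 q13295, e3 q11120 (flp_e L382205) q13126, e3 q11121 L264308 q9157, e3 q11122 (flp_e L382381) q13131, e3 q11123 (flp_e L382393) q13132, e3 q11124 L264500 q9163, e3 q11125 (flp_e L534703) q12917, e3 q11126 L264517 q9164, e3 q11127 (flp_e L534658) q12919, e3 q11128 (flp_e L384923) q13301, e3 q11129 (flp_e L382546) q13139, e3 q11130 (flp_e L382555) q13140, e3 q11131 (flp_e L382574) q13142, e3 q11132 L264691 q9169, e3 q11133 (flp_e L264743) q9170, e3 q11134 (flp_e L616105) q12911, e3 q11135 (flp_e L385254) q13306, trivial⟩ (by decide +kernel)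

theorem ce_e_174 : ∀ r, r < 64 → sm ge (Qf (11136 + r)) = Qf (tab Gen.e (11136 + r)) :=
  edges_tab (sm ge) Qf (tab Gen.e) 11136 [(11136, 9647), (11137, 13313), (11138, 9649), (11139, 9173), (11140, 13315), (11141, 13155), (11142, 13156), (11143, 13321), (11144, 13158), (11145, 13324), (11146, 9184), (11147, 13327), (11148, 9178), (11149, 13330), (11150, 13332), (11151, 9180), (11152, 13334), (11153, 9182), (11154, 13336), (11155, 9183), (11156, 13338), (11157, 13170), (11158, 9186), (11159, 12853), (11160, 13343), (11161, 13172), (11162, 13346), (11163, 9190), (11164, 13348), (11165, 11165), (11166, 11166), (11167, 11167), (11168, 11168), (11169, 11169), (11170, 11170), (11171, 13283), (11172, 12854), (11173, 12635), (11174, 9199), (11175, 13357), (11176, 13360), (11177, 9201), (11178, 13362), (11179, 9203), (11180, 13364), (11181, 11181), (11182, 11182), (11183, 11183), (11184, 11184), (11185, 11185), (11186, 11186), (11187, 11187), (11188, 11188), (11189, 13373), (11190, 12655), (11191, 9641), (11192, 9648), (11193, 9651),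 (11194, 13127), (11195, 9216), (11196, 12657), (11197, 13378), (11198, 9655), (11199, 12874)]
    ⟨e3 q11136 L264771 q9647, e3 q11137 L385315 q13313, e3 q11138 L264786 q9649, e3 q11139 (flp_e L264799) q9173, e3 q11140 (flp_e L385361) q13315, e3 q11141 (flp_e L382703) q13155, e3 q11142 (flp_e L382711) q13156, e3 q11143 L385400 q13321, e3 q11144 (flp_e L382725) q13158, e3 q11145 L385415 q13324, e3 q11146 L264847 q9184, e3 q11147 L385435 q13327, e3 q11148 (flp_e L264860) q9178, e3 q11149 (flp_e L385458) q13330, e3 q11150 L385473 q13332, e3 q11151 (flp_e L264877) q9180, e3 q11152 (flp_e L385497) q13334, e3 q11153 L264899 q9182, e3 q11154 (flp_e L385518) q13336, e3 q11155 (flp_e L264907) q9183, e3 q11156 (flp_e L385531) q13338, e3 q11157 (flp_e L382813) q13170, e3 q11158 L264931 q9186, e3 q11159 (flp_e L641033) q12853, e3 q11160 L385653 q13343, e3 q11161 (flp_e L382904) q13172, e3 q11162 L385680 q13346, e3 q11163 (flp_e L265026) q9190, e3 q11164 (flp_e L385697) q13348, e3 q11165 L265043 q11165, e3 q11166 L265055 q11166, e3 q11167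 L265061 q11167, e3 q11168 L265072 q11168, e3 q11169 L265090 q11169, e3 q11170 L265100 q11170, e3 q11171 (flp_e L645479) q13283, e3 q11172 (flp_e L634918) q12854, e3 q11173 (flp_e L645630) q12635, e3 q11174 (flp_e L265135) q9199, e3 q11175 (flp_e L385845) q13357, e3 q11176 L385868 q13360, e3 q11177 (flp_e L265158) q9201, e3 q11178 (flp_e L385890) q13362, e3 q11179 L265176 q9203, e3 q11180 (flp_e L385905) q13364, e3 q11181 L265190 q11181, e3 q11182 L265201 q11182, e3 q11183 L265208 q11183, e3 q11184 L265218 q11184, e3 q11185 L265228 q11185, e3 q11186 L265236 q11186, e3 q11187 L265246 q11187, e3 q11188 L265252 q11188, e3 q11189 L385980 q13373, e3 q11190 (flp_e L614715) q12655, e3 q11191 (flp_e L614655) q9641, e3 q11192 L547237 q9648, e3 q11193 (flp_e L507976) q9651, e3 q11194 (flp_e L617176) q13127, e3 q11195 (flp_e L265517) q9216, e3 q11196 (flp_e L615954) q12657, e3 q11197 (flp_e L386437) q13378, e3 q11198 L265549 q9655, e3 q11199 (flp_e L534180) q12874, trivial⟩ (by decide +kernel)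

theorem ce_e_175 : ∀ r, r < 64 → sm ge (Qf (11200 + r)) = Qf (tab Gen.e (11200 + r)) :=
  edges_tab (sm ge) Qf (tab Gen.e) 11200 [(11200, 9656), (11201, 12876), (11202, 13193), (11203, 13194), (11204, 13391), (11205, 13196), (11206, 12881), (11207, 9228), (11208, 12883), (11209, 12884), (11210, 12885), (11211, 12886), (11212, 12887), (11213, 13204), (11214, 13404), (11215, 13206), (11216, 13407), (11217, 9231), (11218, 13409), (11219, 9516), (11220, 9517), (11221, 9518), (11222, 9519), (11223, 9521), (11224, 9522), (11225, 9240), (11226, 9241), (11227, 13415), (11228, 13416), (11229, 13423), (11230, 13418), (11231, 13426), (11232, 9659), (11233, 13429), (11234, 9243), (11235, 13432), (11236, 13435), (11237, 9245), (11238, 13438), (11239, 12566), (11240, 9247), (11241, 13442), (11242, 13227), (11243, 13446), (11244, 13229), (11245, 13449), (11246, 9250), (11247, 13452), (11248, 13455), (11249, 9252), (11250, 13458), (11251, 13461), (11252, 9254), (11253, 13464), (11254, 13451), (11255, 9256), (11256, 13468), (11257, 13469),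 (11258, 9257), (11259, 13472), (11260, 12587), (11261, 9259), (11262, 13476), (11263, 12590)]
    ⟨e3 q11200 L265568 q9656, e3 q11201 (flp_e L534109) q12876, e3 q11202 (flp_e L383462) q13193, e3 q11203 (flp_e L383470) q13194, e3 q11204 L386610 q13391, e3 q11205 (flp_e L383488) q13196, e3 q11206 (flp_e L575940) q12881, e3 q11207 L265641 q9228, e3 q11208 (flp_e L534708) q12883, e3 q11209 (flp_e L575896) q12884, e3 q11210 (flp_e L547422) q12885, e3 q11211 (flp_e L507862) q12886, e3 q11212 (flp_e L507884) q12887, e3 q11213 (flp_e L383697) q13204, e3 q11214 L386935 q13404, e3 q11215 (flp_e L383716) q13206, e3 q11216 L386964 q13407, e3 q11217 (flp_e L265867) q9231, e3 q11218 (flp_e L386987) q13409, e3 q11219 L265889 q9516, e3 q11220 L265903 q9517, e3 q11221 L265910 q9518, e3 q11222 L265923 q9519, e3 q11223 L265941 q9521, e3 q11224 L265953 q9522, e3 q11225 L265971 q9240, e3 q11226 L265979 q9241, e3 q11227 (flp_e L387096) q13415, e3 q11228 (flp_e L387102) q13416, e3 q11229 L387151 q13423, e3 q11230 (flp_e L387116) q13418, e3 q11231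 L387170 q13426, e3 q11232 L266021 q9659, e3 q11233 L387194 q13429, e3 q11234 (flp_e L266034) q9243, e3 q11235 (flp_e L387221) q13432, e3 q11236 L387238 q13435, e3 q11237 (flp_e L266055) q9245, e3 q11238 (flp_e L387266) q13438, e3 q11239 (flp_e L363983) q12566, e3 q11240 L266081 q9247, e3 q11241 (flp_e L387291) q13442, e3 q11242 (flp_e L383929) q13227, e3 q11243 L387316 q13446, e3 q11244 (flp_e L383943) q13229, e3 q11245 L387334 q13449, e3 q11246 (flp_e L266116) q9250, e3 q11247 (flp_e L387352) q13452, e3 q11248 L387365 q13455, e3 q11249 (flp_e L266131) q9252, e3 q11250 (flp_e L387393) q13458, e3 q11251 L387409 q13461, e3 q11252 (flp_e L266151) q9254, e3 q11253 (flp_e L387437) q13464, e3 q11254 (flp_e L387348) q13451, e3 q11255 L266175 q9256, e3 q11256 (flp_e L387461) q13468, e3 q11257 L387465 q13469, e3 q11258 (flp_e L266188) q9257, e3 q11259 (flp_e L387492) q13472, e3 q11260 (flp_e L364127) q12587, e3 q11261 L266215 q9259, e3 q11262 (flp_e L387519) q13476, e3 q11263 (flp_e L364148) q12590, trivial⟩ (by decide +kernel)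

theorem ce_e_176 : ∀ r, r < 64 → sm ge (Qf (11264 + r)) = Qf (tab Gen.e (11264 + r)) :=
  edges_tab (sm ge) Qf (tab Gen.e) 11264 [(11264, 12591), (11265, 9262), (11266, 12812), (11267, 9264), (11268, 13250), (11269, 13251), (11270, 9269), (11271, 9270), (11272, 13485), (11273, 12721), (11274, 13256), (11275, 13489), (11276, 9272), (11277, 13491), (11278, 13494), (11279, 9274), (11280, 13497), (11281, 9276), (11282, 13499), (11283, 9562), (11284, 9563), (11285, 9564), (11286, 9565), (11287, 9566), (11288, 9567), (11289, 9568), (11290, 9569), (11291, 13508), (11292, 12637), (11293, 9378), (11294, 9294), (11295, 9289), (11296, 9292), (11297, 12678), (11298, 9290), (11299, 13492), (11300, 13034), (11301, 9572), (11302, 9561), (11303, 9573), (11304, 9556), (11305, 9487), (11306, 9574), (11307, 11691), (11308, 9303), (11309, 9306), (11310, 9307), (11311, 13513), (11312, 13514), (11313, 13516), (11314, 9679), (11315, 13520), (11316, 13522), (11317, 9312), (11318, 13379), (11319, 9313), (11320, 11320), (11321, 11321), (11322, 9322),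 (11323, 9318), (11324, 9320), (11325, 12663), (11326, 9352), (11327, 9323)]
    ⟨e3 q11264 (flp_e L364154) q12591, e3 q11265 L266236 q9262, e3 q11266 (flp_e L611451) q12812, e3 q11267 L266251 q9264, e3 q11268 (flp_e L384101) q13250, e3 q11269 (flp_e L384111) q13251, e3 q11270 L266293 q9269, e3 q11271 L266302 q9270, e3 q11272 (flp_e L387608) q13485, e3 q11273 (flp_e L645886) q12721, e3 q11274 (flp_e L384198) q13256, e3 q11275 L387707 q13489, e3 q11276 (flp_e L266375) q9272, e3 q11277 (flp_e L387729) q13491, e3 q11278 L387753 q13494, e3 q11279 (flp_e L266403) q9274, e3 q11280 (flp_e L387779) q13497, e3 q11281 L266421 q9276, e3 q11282 (flp_e L387795) q13499, e3 q11283 L266435 q9562, e3 q11284 L266448 q9563, e3 q11285 L266457 q9564, e3 q11286 L266468 q9565, e3 q11287 L266480 q9566, e3 q11288 L266488 q9567, e3 q11289 L266500 q9568, e3 q11290 L266509 q9569, e3 q11291 L387880 q13508, e3 q11292 (flp_e L646954) q12637, e3 q11293 L646908 q9378, e3 q11294 (flp_e L646968) q9294, e3 q11295 L266573 q9289, e3 q11296 L646938 q9292, e3 q11297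 (flp_e L646540) q12678, e3 q11298 (flp_e L266595) q9290, e3 q11299 (flp_e L629199) q13492, e3 q11300 (flp_e L380305) q13034, e3 q11301 L266643 q9572, e3 q11302 (flp_e L647360) q9561, e3 q11303 L266677 q9573, e3 q11304 (flp_e L647759) q9556, e3 q11305 L645705 q9487, e3 q11306 L266703 q9574, e3 q11307 (flp_e L553767) q11691, e3 q11308 (flp_e L266715) q9303, e3 q11309 L267398 q9306, e3 q11310 L267407 q9307, e3 q11311 (flp_e L389177) q13513, e3 q11312 (flp_e L389184) q13514, e3 q11313 (flp_e L389199) q13516, e3 q11314 L267451 q9679, e3 q11315 L389719 q13520, e3 q11316 L389743 q13522, e3 q11317 (flp_e L267779) q9312, e3 q11318 (flp_e L615820) q13379, e3 q11319 (flp_e L267803) q9313, e3 q11320 L267832 q11320, e3 q11321 L267860 q11321, e3 q11322 (flp_e L615864) q9322, e3 q11323 (flp_e L267907) q9318, e3 q11324 L615644 q9320, e3 q11325 (flp_e L615833) q12663, e3 q11326 (flp_e L615826) q9352, e3 q11327 (flp_e L267970) q9323, trivial⟩ (by decide +kernel)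

theorem ce_e_177 : ∀ r, r < 64 → sm ge (Qf (11328 + r)) = Qf (tab Gen.e (11328 + r)) :=
  edges_tab (sm ge) Qf (tab Gen.e) 11328 [(11328, 12654), (11329, 12482), (11330, 9327), (11331, 11331), (11332, 11332), (11333, 11333), (11334, 11334), (11335, 11335), (11336, 9486), (11337, 11337), (11338, 11934), (11339, 9336), (11340, 9339), (11341, 12487), (11342, 13530), (11343, 9692), (11344, 12720), (11345, 13534), (11346, 9344), (11347, 13536), (11348, 9345), (11349, 9579), (11350, 9581), (11351, 9353), (11352, 13542), (11353, 9355), (11354, 13359), (11355, 13547), (11356, 13540), (11357, 13550), (11358, 9354), (11359, 13552), (11360, 11360), (11361, 11361), (11362, 11362), (11363, 11363), (11364, 11364), (11365, 11365), (11366, 12719), (11367, 13560), (11368, 9363), (11369, 13562), (11370, 9364), (11371, 11371), (11372, 11372), (11373, 12705), (11374, 9376), (11375, 9371), (11376, 9374), (11377, 12690), (11378, 13563), (11379, 13488), (11380, 9578), (11381, 9557), (11382, 9575), (11383, 9555), (11384, 13570), (11385, 9589),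 (11386, 11949), (11387, 9387), (11388, 9511), (11389, 9472), (11390, 13082), (11391, 13083)]
    ⟨e3 q11328 (flp_e L615737) q12654, e3 q11329 (flp_e L615888) q12482, e3 q11330 L268006 q9327, e3 q11331 L268012 q11331, e3 q11332 L268022 q11332, e3 q11333 L268031 q11333, e3 q11334 L268041 q11334, e3 q11335 L268048 q11335, e3 q11336 L645444 q9486, e3 q11337 L268064 q11337, e3 q11338 (flp_e L554432) q11934, e3 q11339 (flp_e L268072) q9336, e3 q11340 L268293 q9339, e3 q11341 (flp_e L615947) q12487, e3 q11342 (flp_e L390474) q13530, e3 q11343 L268340 q9692, e3 q11344 (flp_e L645867) q12720, e3 q11345 L390787 q13534, e3 q11346 (flp_e L268530) q9344, e3 q11347 L390835 q13536, e3 q11348 (flp_e L268556) q9345, e3 q11349 L268591 q9579, e3 q11350 L268621 q9581, e3 q11351 L268678 q9353, e3 q11352 L390998 q13542, e3 q11353 L268693 q9355, e3 q11354 (flp_e L615787) q13359, e3 q11355 L391034 q13547, e3 q11356 (flp_e L390987) q13540, e3 q11357 L391058 q13550, e3 q11358 (flp_e L268725) q9354, e3 q11359 (flp_e L391074) q13552, e3 q11360 L268740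 q11360, e3 q11361 L268751 q11361, e3 q11362 L268757 q11362, e3 q11363 L268767 q11363, e3 q11364 L268781 q11364, e3 q11365 L268790 q11365, e3 q11366 (flp_e L648698) q12719, e3 q11367 L391186 q13560, e3 q11368 (flp_e L268823) q9363, e3 q11369 L391226 q13562, e3 q11370 (flp_e L268846) q9364, e3 q11371 L268875 q11371, e3 q11372 L268902 q11372, e3 q11373 (flp_e L646426) q12705, e3 q11374 (flp_e L646566) q9376, e3 q11375 (flp_e L268972) q9371, e3 q11376 (flp_e L646473) q9374, e3 q11377 (flp_e L646483) q12690, e3 q11378 (flp_e L391245) q13563, e3 q11379 (flp_e L629382) q13488, e3 q11380 L646319 q9578, e3 q11381 (flp_e L646634) q9557, e3 q11382 (flp_e L646196) q9575, e3 q11383 (flp_e L646396) q9555, e3 q11384 L391559 q13570, e3 q11385 L269115 q9589, e3 q11386 L648394 q11949, e3 q11387 (flp_e L269123) q9387, e3 q11388 (flp_e L646133) q9511, e3 q11389 L645696 q9472, e3 q11390 (flp_e L381595) q13082, e3 q11391 (flp_e L381613) q13083, trivial⟩ (by decide +kernel)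

theorem ce_e_178 : ∀ r, r < 64 → sm ge (Qf (11392 + r)) = Qf (tab Gen.e (11392 + r)) :=
  edges_tab (sm ge) Qf (tab Gen.e) 11392 [(11392, 13084), (11393, 13573), (11394, 9404), (11395, 13576), (11396, 11396), (11397, 9406), (11398, 13578), (11399, 11843), (11400, 9410), (11401, 9413), (11402, 9414), (11403, 13579), (11404, 9415), (11405, 13580), (11406, 13109), (11407, 13110), (11408, 13111), (11409, 13112), (11410, 13113), (11411, 13114), (11412, 13115), (11413, 12169), (11414, 9424), (11415, 13589), (11416, 12038), (11417, 9426), (11418, 13592), (11419, 9428), (11420, 13594), (11421, 13119), (11422, 13120), (11423, 12382), (11424, 13121), (11425, 13122), (11426, 13123), (11427, 13124), (11428, 13125), (11429, 13602), (11430, 12788), (11431, 12789), (11432, 9441), (11433, 13604), (11434, 13210), (11435, 13211), (11436, 13212), (11437, 13213), (11438, 13214), (11439, 13215), (11440, 13611), (11441, 9450), (11442, 13615), (11443, 11443), (11444, 9452), (11445, 13617), (11446, 9455), (11447, 13620), (11448, 11962), (11449,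 9457), (11450, 13623), (11451, 13624), (11452, 9458), (11453, 13627), (11454, 11454), (11455, 9460)]
    ⟨e3 q11392 (flp_e L381622) q13084, e3 q11393 L649426 q13573, e3 q11394 (flp_e L270062) q9404, e3 q11395 (flp_e L649454) q13576, e3 q11396 L270084 q11396, e3 q11397 L270090 q9406, e3 q11398 (flp_e L649471) q13578, e3 q11399 (flp_e L630865) q11843, e3 q11400 L270129 q9410, e3 q11401 L270145 q9413, e3 q11402 L270152 q9414, e3 q11403 (flp_e L649482) q13579, e3 q11404 (flp_e L270237) q9415, e3 q11405 (flp_e L649495) q13580, e3 q11406 (flp_e L381958) q13109, e3 q11407 (flp_e L381966) q13110, e3 q11408 (flp_e L381977) q13111, e3 q11409 (flp_e L381985) q13112, e3 q11410 (flp_e L381994) q13113, e3 q11411 (flp_e L382005) q13114, e3 q11412 (flp_e L382013) q13115, e3 q11413 (flp_e L648602) q12169, e3 q11414 (flp_e L270345) q9424, e3 q11415 (flp_e L649572) q13589, e3 q11416 L649367 q12038, e3 q11417 (flp_e L270368) q9426, e3 q11418 (flp_e L649598) q13592, e3 q11419 L270388 q9428, e3 q11420 (flp_e L649613) q13594, e3 q11421 (flp_e L382096)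 q13119, e3 q11422 (flp_e L382108) q13120, e3 q11423 (flp_e L649065) q12382, e3 q11424 (flp_e L382126) q13121, e3 q11425 (flp_e L382136) q13122, e3 q11426 (flp_e L382145) q13123, e3 q11427 (flp_e L382155) q13124, e3 q11428 (flp_e L382163) q13125, e3 q11429 L649677 q13602, e3 q11430 (flp_e L648426) q12788, e3 q11431 L648791 q12789, e3 q11432 (flp_e L271101) q9441, e3 q11433 (flp_e L649699) q13604, e3 q11434 (flp_e L383764) q13210, e3 q11435 (flp_e L383782) q13211, e3 q11436 (flp_e L383791) q13212, e3 q11437 (flp_e L383799) q13213, e3 q11438 (flp_e L383809) q13214, e3 q11439 (flp_e L383817) q13215, e3 q11440 L649752 q13611, e3 q11441 (flp_e L271261) q9450, e3 q11442 (flp_e L649786) q13615, e3 q11443 L271280 q11443, e3 q11444 L271286 q9452, e3 q11445 L649800 q13617, e3 q11446 (flp_e L271372) q9455, e3 q11447 (flp_e L649824) q13620, e3 q11448 (flp_e L649257) q11962, e3 q11449 L271396 q9457, e3 q11450 (flp_e L649845) q13623, e3 q11451 L649853 q13624, e3 q11452 (flp_e L271412) q9458, e3 q11453 (flp_e L649877) q13627, e3 q11454 L271429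 q11454, e3 q11455 L271434 q9460, trivial⟩ (by decide +kernel)

theorem ce_e_179 : ∀ r, r < 64 → sm ge (Qf (11456 + r)) = Qf (tab Gen.e (11456 + r)) :=
  edges_tab (sm ge) Qf (tab Gen.e) 11456 [(11456, 13631), (11457, 11457), (11458, 11458), (11459, 9463), (11460, 9547), (11461, 9465), (11462, 9549), (11463, 9550), (11464, 9470), (11465, 9471), (11466, 13512), (11467, 13640), (11468, 9474), (11469, 13643), (11470, 9476), (11471, 13645), (11472, 13265), (11473, 13266), (11474, 13267), (11475, 13268), (11476, 13269), (11477, 13270), (11478, 13271), (11479, 13272), (11480, 13653), (11481, 13528), (11482, 13370), (11483, 13043), (11484, 13656), (11485, 9488), (11486, 13658), (11487, 9490), (11488, 13660), (11489, 9492), (11490, 13287), (11491, 13288), (11492, 13289), (11493, 13290), (11494, 13291), (11495, 13667), (11496, 13293), (11497, 13670), (11498, 9501), (11499, 12011), (11500, 12012), (11501, 12891), (11502, 12892), (11503, 12893), (11504, 12894), (11505, 12895), (11506, 12896), (11507, 12897), (11508, 12898), (11509, 13568),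 (11510, 13511), (11511, 13687), (11512, 9513), (11513, 13690), (11514, 9515), (11515, 13510), (11516, 13410), (11517, 13411), (11518, 12684), (11519, 13412)]
    ⟨e3 q11456 (flp_e L649901) q13631, e3 q11457 L271446 q11457, e3 q11458 L271452 q11458, e3 q11459 L271458 q9463, e3 q11460 L271467 q9547, e3 q11461 L271472 q9465, e3 q11462 L271489 q9549, e3 q11463 L271498 q9550, e3 q11464 L271514 q9470, e3 q11465 L271521 q9471, e3 q11466 (flp_e L648634) q13512, e3 q11467 L649966 q13640, e3 q11468 (flp_e L271625) q9474, e3 q11469 (flp_e L649992) q13643, e3 q11470 L271644 q9476, e3 q11471 (flp_e L650007) q13645, e3 q11472 (flp_e L384269) q13265, e3 q11473 (flp_e L384280) q13266, e3 q11474 (flp_e L384288) q13267, e3 q11475 (flp_e L384297) q13268, e3 q11476 (flp_e L384308) q13269, e3 q11477 (flp_e L384316) q13270, e3 q11478 (flp_e L384327) q13271, e3 q11479 (flp_e L384335) q13272, e3 q11480 L650063 q13653, e3 q11481 (flp_e L648650) q13528, e3 q11482 L649281 q13370, e3 q11483 L649293 q13043, e3 q11484 L650086 q13656, e3 q11485 (flp_e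 L271796) q9488, e3 q11486 (flp_e L650106) q13658, e3 q11487 L271822 q9490, e3 q11488 (flp_e L650122) q13660, e3 q11489 L271837 q9492, e3 q11490 (flp_e L384460) q13287, e3 q11491 (flp_e L384470) q13288, e3 q11492 (flp_e L384479) q13289, e3 q11493 (flp_e L384489) q13290, e3 q11494 (flp_e L384497) q13291, e3 q11495 L650174 q13667, e3 q11496 (flp_e L384513) q13293, e3 q11497 L650196 q13670, e3 q11498 (flp_e L271900) q9501, e3 q11499 (flp_e L649179) q12011, e3 q11500 (flp_e L649181) q12012, e3 q11501 L648521 q12891, e3 q11502 (flp_e L648580) q12892, e3 q11503 L648519 q12893, e3 q11504 L648523 q12894, e3 q11505 L648368 q12895, e3 q11506 L648529 q12896, e3 q11507 L648531 q12897, e3 q11508 L648366 q12898, e3 q11509 L646150 q13568, e3 q11510 L646143 q13511, e3 q11511 L650357 q13687, e3 q11512 (flp_e L272663) q9513, e3 q11513 (flp_e L650384) q13690, e3 q11514 L272686 q9515, e3 q11515 L629576 q13510, e3 q11516 (flp_e L387002) q13410, e3 q11517 (flp_e L387016) q13411, e3 q11518 (flp_e L546108) q12684, e3 q11519 (flp_e L387036) q13412,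 trivial⟩ (by decide +kernel)

theorem ce_e_180 : ∀ r, r < 64 → sm ge (Qf (11520 + r)) = Qf (tab Gen.e (11520 + r)) :=
  edges_tab (sm ge) Qf (tab Gen.e) 11520 [(11520, 13413), (11521, 12686), (11522, 13414), (11523, 12688), (11524, 13700), (11525, 11966), (11526, 11967), (11527, 13704), (11528, 9526), (11529, 13708), (11530, 9535), (11531, 9528), (11532, 13712), (11533, 13714), (11534, 9529), (11535, 13717), (11536, 11963), (11537, 9531), (11538, 13720), (11539, 13721), (11540, 9532), (11541, 13724), (11542, 13707), (11543, 9534), (11544, 13728), (11545, 13710), (11546, 13711), (11547, 9537), (11548, 9538), (11549, 13734), (11550, 11550), (11551, 9540), (11552, 13738), (11553, 11553), (11554, 11554), (11555, 9543), (11556, 13744), (11557, 11557), (11558, 11558), (11559, 11559), (11560, 12806), (11561, 13636), (11562, 13637), (11563, 13638), (11564, 9553), (11565, 13504), (11566, 12683), (11567, 13502), (11568, 13706), (11569, 9559), (11570, 13501), (11571, 13500), (11572, 13503), (11573, 13752), (11574, 13506), (11575, 11968),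 (11576, 9570), (11577, 12694), (11578, 12693), (11579, 9576), (11580, 13538), (11581, 11581), (11582, 12685), (11583, 13755)]
    ⟨e3 q11520 (flp_e L387049) q13413, e3 q11521 (flp_e L512912) q12686, e3 q11522 (flp_e L387072) q13414, e3 q11523 (flp_e L543093) q12688, e3 q11524 L650479 q13700, e3 q11525 L648562 q11966, e3 q11526 L649167 q11967, e3 q11527 L650521 q13704, e3 q11528 (flp_e L272832) q9526, e3 q11529 (flp_e L650558) q13708, e3 q11530 L272851 q9535, e3 q11531 L272856 q9528, e3 q11532 (flp_e L650586) q13712, e3 q11533 L650601 q13714, e3 q11534 (flp_e L272876) q9529, e3 q11535 (flp_e L650633) q13717, e3 q11536 L649169 q11963, e3 q11537 L272906 q9531, e3 q11538 (flp_e L650658) q13720, e3 q11539 L650664 q13721, e3 q11540 (flp_e L272927) q9532, e3 q11541 (flp_e L650692) q13724, e3 q11542 (flp_e L650552) q13707, e3 q11543 L272953 q9534, e3 q11544 (flp_e L650721) q13728, e3 q11545 (flp_e L650572) q13710, e3 q11546 (flp_e L650579) q13711, e3 q11547 L272982 q9537, e3 q11548 (flp_e L272987) q9538, e3 q11549 (flp_e L650770)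 q13734, e3 q11550 L273010 q11550, e3 q11551 L273016 q9540, e3 q11552 (flp_e L650802) q13738, e3 q11553 L273031 q11553, e3 q11554 L273037 q11554, e3 q11555 L273045 q9543, e3 q11556 L650842 q13744, e3 q11557 L273062 q11557, e3 q11558 L273070 q11558, e3 q11559 L273076 q11559, e3 q11560 (flp_e L649353) q12806, e3 q11561 (flp_e L649932) q13636, e3 q11562 (flp_e L649941) q13637, e3 q11563 (flp_e L649950) q13638, e3 q11564 L273144 q9553, e3 q11565 L646407 q13504, e3 q11566 L645808 q12683, e3 q11567 L646670 q13502, e3 q11568 (flp_e L650545) q13706, e3 q11569 L273318 q9559, e3 q11570 L629407 q13501, e3 q11571 (flp_e L387805) q13500, e3 q11572 (flp_e L387840) q13503, e3 q11573 L650896 q13752, e3 q11574 (flp_e L387868) q13506, e3 q11575 L648564 q11968, e3 q11576 (flp_e L273409) q9570, e3 q11577 L646206 q12694, e3 q11578 L645855 q12693, e3 q11579 (flp_e L273786) q9576, e3 q11580 L645846 q13538, e3 q11581 L273807 q11581, e3 q11582 (flp_e L543330) q12685, e3 q11583 L650917 q13755, trivial⟩ (by decide +kernel)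

theorem ce_e_181 : ∀ r, r < 64 → sm ge (Qf (11584 + r)) = Qf (tab Gen.e (11584 + r)) :=
  edges_tab (sm ge) Qf (tab Gen.e) 11584 [(11584, 12687), (11585, 12016), (11586, 9586), (11587, 11587), (11588, 9588), (11589, 11589), (11590, 12135), (11591, 12779), (11592, 11874), (11593, 9598), (11594, 13758), (11595, 12922), (11596, 12873), (11597, 12875), (11598, 12912), (11599, 12913), (11600, 12479), (11601, 12924), (11602, 12481), (11603, 9611), (11604, 13763), (11605, 12965), (11606, 9613), (11607, 13764), (11608, 12496), (11609, 9617), (11610, 13216), (11611, 9622), (11612, 13057), (11613, 13069), (11614, 9627), (11615, 13130), (11616, 13151), (11617, 13186), (11618, 13190), (11619, 11619), (11620, 9636), (11621, 11621), (11622, 9667), (11623, 9640), (11624, 13375), (11625, 12477), (11626, 12480), (11627, 9646), (11628, 13772), (11629, 13312), (11630, 12659), (11631, 13376), (11632, 12497), (11633, 9654), (11634, 13775), (11635, 13384), (11636, 12964), (11637, 9658), (11638, 12961), (11639, 9661), (11640, 11640), (11641, 11641),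 (11642, 12960), (11643, 11643), (11644, 11844), (11645, 13768), (11646, 9670), (11647, 13785)]
    ⟨e3 q11584 (flp_e L543326) q12687, e3 q11585 (flp_e L648513) q12016, e3 q11586 (flp_e L273902) q9586, e3 q11587 L274062 q11587, e3 q11588 (flp_e L274133) q9588, e3 q11589 L275029 q11589, e3 q11590 L648805 q12135, e3 q11591 (flp_e L375829) q12779, e3 q11592 (flp_e L636046) q11874, e3 q11593 L284054 q9598, e3 q11594 (flp_e L650939) q13758, e3 q11595 L614939 q12922, e3 q11596 (flp_e L378382) q12873, e3 q11597 (flp_e L378400) q12875, e3 q11598 (flp_e L378942) q12912, e3 q11599 (flp_e L378961) q12913, e3 q11600 (flp_e L547021) q12479, e3 q11601 (flp_e L379251) q12924, e3 q11602 (flp_e L508205) q12481, e3 q11603 L287323 q9611, e3 q11604 (flp_e L651014) q13763, e3 q11605 (flp_e L379684) q12965, e3 q11606 (flp_e L287386) q9613, e3 q11607 (flp_e L651025) q13764, e3 q11608 (flp_e L648400) q12496, e3 q11609 L287430 q9617, e3 q11610 L648971 q13216, e3 q11611 L287657 q9622, e3 q11612 (flp_e L380773) q13057, e3 q11613 (flp_e L381336) q13069,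 e3 q11614 L289317 q9627, e3 q11615 (flp_e L382371) q13130, e3 q11616 (flp_e L382678) q13151, e3 q11617 L504809 q13186, e3 q11618 (flp_e L383431) q13190, e3 q11619 L291428 q11619, e3 q11620 L291431 q9636, e3 q11621 L291580 q11621, e3 q11622 L291620 q9667, e3 q11623 L291644 q9640, e3 q11624 L615357 q13375, e3 q11625 (flp_e L508308) q12477, e3 q11626 (flp_e L561784) q12480, e3 q11627 L292688 q9646, e3 q11628 (flp_e L651097) q13772, e3 q11629 (flp_e L385300) q13312, e3 q11630 (flp_e L542426) q12659, e3 q11631 L547272 q13376, e3 q11632 L547279 q12497, e3 q11633 L293756 q9654, e3 q11634 (flp_e L651131) q13775, e3 q11635 (flp_e L386491) q13384, e3 q11636 (flp_e L648855) q12964, e3 q11637 L294134 q9658, e3 q11638 (flp_e L648853) q12961, e3 q11639 L294200 q9661, e3 q11640 L294214 q11640, e3 q11641 L294220 q11641, e3 q11642 (flp_e L648851) q12960, e3 q11643 L294327 q11643, e3 q11644 L648801 q11844, e3 q11645 (flp_e L651052) q13768, e3 q11646 L294771 q9670, e3 q11647 (flp_e L651193) q13785, trivial⟩ (by decide +kernel)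

theorem ce_e_182 : ∀ r, r < 64 → sm ge (Qf (11648 + r)) = Qf (tab Gen.e (11648 + r)) :=
  edges_tab (sm ge) Qf (tab Gen.e) 11648 [(11648, 12478), (11649, 9675), (11650, 12395), (11651, 9677), (11652, 13786), (11653, 12396), (11654, 12391), (11655, 12387), (11656, 12384), (11657, 12495), (11658, 12492), (11659, 12493), (11660, 11660), (11661, 9691), (11662, 12494), (11663, 11663), (11664, 9696), (11665, 11665), (11666, 11666), (11667, 9716), (11668, 9698), (11669, 11669), (11670, 11670), (11671, 9703), (11672, 11672), (11673, 9717), (11674, 11674), (11675, 9712), (11676, 9713), (11677, 13797), (11678, 9719), (11679, 13799), (11680, 9724), (11681, 13802), (11682, 9727), (11683, 13805), (11684, 13804), (11685, 9730), (11686, 13809), (11687, 9913), (11688, 10300), (11689, 9737), (11690, 13811), (11691, 11307), (11692, 10601), (11693, 9742), (11694, 13816), (11695, 9986), (11696, 9747), (11697, 13819), (11698, 9751), (11699, 9750), (11700, 13823), (11701, 13821), (11702, 13822), (11703, 9753), (11704, 10017), (11705, 10018),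 (11706, 10019), (11707, 10020), (11708, 10021), (11709, 10785), (11710, 10786), (11711, 10028)]
    ⟨e3 q11648 (flp_e L490566) q12478, e3 q11649 L295115 q9675, e3 q11650 L648905 q12395, e3 q11651 L295127 q9677, e3 q11652 (flp_e L651201) q13786, e3 q11653 L648903 q12396, e3 q11654 (flp_e L648475) q12391, e3 q11655 L648473 q12387, e3 q11656 L648471 q12384, e3 q11657 (flp_e L490863) q12495, e3 q11658 L648867 q12492, e3 q11659 (flp_e L490854) q12493, e3 q11660 L295725 q11660, e3 q11661 L295731 q9691, e3 q11662 L648881 q12494, e3 q11663 L295771 q11663, e3 q11664 L295776 q9696, e3 q11665 L295782 q11665, e3 q11666 L295790 q11666, e3 q11667 L296678 q9716, e3 q11668 L296683 q9698, e3 q11669 L296910 q11669, e3 q11670 L298220 q11670, e3 q11671 L298224 q9703, e3 q11672 L298262 q11672, e3 q11673 L298288 q9717, e3 q11674 L298403 q11674, e3 q11675 L298515 q9712, e3 q11676 L298536 q9713, e3 q11677 (flp_e L651281) q13797, e3 q11678 (flp_e L350804) q9719, e3 q11679 (flp_e L651306) q13799, e3 q11680 (flp_e L351068) q9724, e3 q11681 (flp_e L651348)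 q13802, e3 q11682 (flp_e L351234) q9727, e3 q11683 (flp_e L651393) q13805, e3 q11684 (flp_e L651382) q13804, e3 q11685 L351262 q9730, e3 q11686 (flp_e L651436) q13809, e3 q11687 L351329 q9913, e3 q11688 L550473 q10300, e3 q11689 (flp_e L351504) q9737, e3 q11690 (flp_e L651464) q13811, e3 q11691 L553767 q11307, e3 q11692 L553728 q10601, e3 q11693 L351644 q9742, e3 q11694 (flp_e L651532) q13816, e3 q11695 L351719 q9986, e3 q11696 (flp_e L351851) q9747, e3 q11697 (flp_e L651574) q13819, e3 q11698 L351875 q9751, e3 q11699 L351882 q9750, e3 q11700 (flp_e L651628) q13823, e3 q11701 (flp_e L651604) q13821, e3 q11702 (flp_e L651616) q13822, e3 q11703 L351916 q9753, e3 q11704 L351974 q10017, e3 q11705 L351985 q10018, e3 q11706 L351991 q10019, e3 q11707 L352002 q10020, e3 q11708 L352010 q10021, e3 q11709 L640756 q10785, e3 q11710 L640749 q10786, e3 q11711 L352067 q10028, trivial⟩ (by decide +kernel)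

theorem ce_e_183 : ∀ r, r < 64 → sm ge (Qf (11712 + r)) = Qf (tab Gen.e (11712 + r)) :=
  edges_tab (sm ge) Qf (tab Gen.e) 11712 [(11712, 10029), (11713, 10030), (11714, 10031), (11715, 10032), (11716, 10033), (11717, 10034), (11718, 10035), (11719, 9772), (11720, 9774), (11721, 9775), (11722, 9780), (11723, 11723), (11724, 9784), (11725, 11725), (11726, 9787), (11727, 9788), (11728, 11728), (11729, 11729), (11730, 11730), (11731, 11731), (11732, 11732), (11733, 11733), (11734, 11734), (11735, 11735), (11736, 9797), (11737, 11737), (11738, 11738), (11739, 11739), (11740, 9805), (11741, 9806), (11742, 13857), (11743, 13858), (11744, 13864), (11745, 13860), (11746, 10104), (11747, 11747), (11748, 9811), (11749, 9812), (11750, 11750), (11751, 9813), (11752, 13867), (11753, 13868), (11754, 9819), (11755, 9820), (11756, 11756), (11757, 10687), (11758, 9821), (11759, 13871), (11760, 13872), (11761, 10062), (11762, 10637), (11763, 11763), (11764, 9824), (11765, 9825), (11766, 13876), (11767, 9826), (11768, 13878), (11769, 11769),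 (11770, 9830), (11771, 11771), (11772, 11772), (11773, 11773), (11774, 9834), (11775, 9835)]
    ⟨e3 q11712 L352079 q10029, e3 q11713 L352087 q10030, e3 q11714 L352098 q10031, e3 q11715 L352105 q10032, e3 q11716 L352114 q10033, e3 q11717 L352125 q10034, e3 q11718 L352134 q10035, e3 q11719 (flp_e L352606) q9772, e3 q11720 L352658 q9774, e3 q11721 L352666 q9775, e3 q11722 L352893 q9780, e3 q11723 L353203 q11723, e3 q11724 L353209 q9784, e3 q11725 L353278 q11725, e3 q11726 L353287 q9787, e3 q11727 L353295 q9788, e3 q11728 L353305 q11728, e3 q11729 L353342 q11729, e3 q11730 L353351 q11730, e3 q11731 L353369 q11731, e3 q11732 L353396 q11732, e3 q11733 L353530 q11733, e3 q11734 L353592 q11734, e3 q11735 L353606 q11735, e3 q11736 L353614 q9797, e3 q11737 L353698 q11737, e3 q11738 L353705 q11738, e3 q11739 L353984 q11739, e3 q11740 L353991 q9805, e3 q11741 L354001 q9806, e3 q11742 (flp_e L652110) q13857, e3 q11743 (flp_e L652126) q13858, e3 q11744 L652199 q13864, e3 q11745 (flp_e L652150) q13860, e3 q11746 L575441 q10104, e3 q11747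 L354077 q11747, e3 q11748 L354084 q9811, e3 q11749 L354094 q9812, e3 q11750 L354106 q11750, e3 q11751 L354111 q9813, e3 q11752 (flp_e L652245) q13867, e3 q11753 (flp_e L652265) q13868, e3 q11754 L354164 q9819, e3 q11755 L354181 q9820, e3 q11756 L354202 q11756, e3 q11757 L644059 q10687, e3 q11758 (flp_e L354220) q9821, e3 q11759 (flp_e L652316) q13871, e3 q11760 (flp_e L652333) q13872, e3 q11761 L550769 q10062, e3 q11762 L354268 q10637, e3 q11763 L354281 q11763, e3 q11764 L354288 q9824, e3 q11765 L354296 q9825, e3 q11766 (flp_e L652397) q13876, e3 q11767 (flp_e L354340) q9826, e3 q11768 (flp_e L652432) q13878, e3 q11769 L354364 q11769, e3 q11770 L354399 q9830, e3 q11771 L354429 q11771, e3 q11772 L354434 q11772, e3 q11773 L354445 q11773, e3 q11774 L354454 q9834, e3 q11775 L354464 q9835, trivial⟩ (by decide +kernel)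

theorem ce_e_184 : ∀ r, r < 64 → sm ge (Qf (11776 + r)) = Qf (tab Gen.e (11776 + r)) :=
  edges_tab (sm ge) Qf (tab Gen.e) 11776 [(11776, 13887), (11777, 9837), (11778, 13885), (11779, 9836), (11780, 13890), (11781, 13889), (11782, 9839), (11783, 13894), (11784, 9845), (11785, 10631), (11786, 10634), (11787, 11787), (11788, 11788), (11789, 9926), (11790, 9852), (11791, 9853), (11792, 13907), (11793, 9855), (11794, 13903), (11795, 13911), (11796, 13905), (11797, 9854), (11798, 13913), (11799, 10243), (11800, 9937), (11801, 9938), (11802, 9862), (11803, 11803), (11804, 9863), (11805, 11805), (11806, 11806), (11807, 13920), (11808, 9945), (11809, 9946), (11810, 10022), (11811, 9948), (11812, 11812), (11813, 9871), (11814, 11814), (11815, 11815), (11816, 11816), (11817, 11817), (11818, 11818), (11819, 11819), (11820, 9873), (11821, 9874), (11822, 13935), (11823, 13936), (11824, 13940), (11825, 13938), (11826, 10145), (11827, 10183), (11828, 11828), (11829, 9967), (11830, 9880), (11831, 9881), (11832, 13950), (11833, 9883), (11834,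 13949), (11835, 9882), (11836, 13953), (11837, 13952), (11838, 9885), (11839, 13957)]
    ⟨e3 q11776 L652554 q13887, e3 q11777 L354482 q9837, e3 q11778 (flp_e L652530) q13885, e3 q11779 (flp_e L354516) q9836, e3 q11780 (flp_e L652599) q13890, e3 q11781 (flp_e L652589) q13889, e3 q11782 L354548 q9839, e3 q11783 (flp_e L652642) q13894, e3 q11784 L354597 q9845, e3 q11785 L640405 q10631, e3 q11786 L640351 q10634, e3 q11787 L354938 q11787, e3 q11788 L354945 q11788, e3 q11789 L354956 q9926, e3 q11790 L354966 q9852, e3 q11791 L354976 q9853, e3 q11792 L652805 q13907, e3 q11793 L354992 q9855, e3 q11794 (flp_e L652771) q13903, e3 q11795 L652853 q13911, e3 q11796 (flp_e L652791) q13905, e3 q11797 (flp_e L355030) q9854, e3 q11798 (flp_e L652883) q13913, e3 q11799 L550569 q10243, e3 q11800 L355078 q9937, e3 q11801 L355088 q9938, e3 q11802 L355098 q9862, e3 q11803 L355108 q11803, e3 q11804 L355113 q9863, e3 q11805 L355121 q11805, e3 q11806 L355130 q11806, e3 q11807 (flp_e L652990) q13920, e3 q11808 L355149 q9945, e3 q11809 L355160 q9946,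 e3 q11810 L644247 q10022, e3 q11811 L355178 q9948, e3 q11812 L355191 q11812, e3 q11813 L355197 q9871, e3 q11814 L355206 q11814, e3 q11815 L355216 q11815, e3 q11816 L355223 q11816, e3 q11817 L355233 q11817, e3 q11818 L355239 q11818, e3 q11819 L355252 q11819, e3 q11820 L355260 q9873, e3 q11821 L355269 q9874, e3 q11822 (flp_e L653202) q13935, e3 q11823 (flp_e L653217) q13936, e3 q11824 L653265 q13940, e3 q11825 (flp_e L653242) q13938, e3 q11826 L550789 q10145, e3 q11827 L506425 q10183, e3 q11828 L355347 q11828, e3 q11829 L355361 q9967, e3 q11830 L355371 q9880, e3 q11831 L355379 q9881, e3 q11832 L653415 q13950, e3 q11833 L355395 q9883, e3 q11834 (flp_e L653407) q13949, e3 q11835 (flp_e L355428) q9882, e3 q11836 (flp_e L653458) q13953, e3 q11837 (flp_e L653450) q13952, e3 q11838 L355454 q9885, e3 q11839 (flp_e L653506) q13957, trivial⟩ (by decide +kernel)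

theorem ce_e_185 : ∀ r, r < 64 → sm ge (Qf (11840 + r)) = Qf (tab Gen.e (11840 + r)) :=
  edges_tab (sm ge) Qf (tab Gen.e) 11840 [(11840, 9980), (11841, 9981), (11842, 9891), (11843, 11399), (11844, 11644), (11845, 11845), (11846, 11846), (11847, 13966), (11848, 11848), (11849, 9993), (11850, 9994), (11851, 9899), (11852, 13975), (11853, 9901), (11854, 13978), (11855, 9897), (11856, 13981), (11857, 13973), (11858, 9900), (11859, 13984), (11860, 9904), (11861, 9903), (11862, 13988), (11863, 13986), (11864, 13987), (11865, 9906), (11866, 10011), (11867, 10012), (11868, 10772), (11869, 10014), (11870, 9914), (11871, 10678), (11872, 10685), (11873, 10914), (11874, 11592), (11875, 10665), (11876, 10024), (11877, 10782), (11878, 10907), (11879, 10922), (11880, 13998), (11881, 11881), (11882, 11882), (11883, 14005), (11884, 11884), (11885, 13901), (11886, 13902), (11887, 9931), (11888, 14014), (11889, 9933), (11890, 14017), (11891, 9929), (11892, 14019), (11893, 14021), (11894, 14012), (11895, 9932), (11896, 14024), (11897, 9935),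 (11898, 14026), (11899, 13915), (11900, 13916), (11901, 14031), (11902, 13918), (11903, 11903)]
    ⟨e3 q11840 L355470 q9980, e3 q11841 L355479 q9981, e3 q11842 L355506 q9891, e3 q11843 L630865 q11399, e3 q11844 (flp_e L648801) q11644, e3 q11845 L355548 q11845, e3 q11846 L355553 q11846, e3 q11847 L653628 q13966, e3 q11848 L355568 q11848, e3 q11849 L355577 q9993, e3 q11850 L355587 q9994, e3 q11851 L355599 q9899, e3 q11852 L653743 q13975, e3 q11853 L355615 q9901, e3 q11854 L653783 q13978, e3 q11855 (flp_e L355625) q9897, e3 q11856 (flp_e L653823) q13981, e3 q11857 (flp_e L653721) q13973, e3 q11858 (flp_e L355658) q9900, e3 q11859 (flp_e L653852) q13984, e3 q11860 L355680 q9904, e3 q11861 L355686 q9903, e3 q11862 (flp_e L653892) q13988, e3 q11863 (flp_e L653877) q13986, e3 q11864 (flp_e L653884) q13987, e3 q11865 L355716 q9906, e3 q11866 L355725 q10011, e3 q11867 L355733 q10012, e3 q11868 L640979 q10772, e3 q11869 L355751 q10014, e3 q11870 L355767 q9914, e3 q11871 L636011 q10678, e3 q11872 L635989 q10685, e3 q11873 L640480 q10914,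 e3 q11874 L636046 q11592, e3 q11875 L641230 q10665, e3 q11876 L355824 q10024, e3 q11877 L635104 q10782, e3 q11878 L637473 q10907, e3 q11879 L641262 q10922, e3 q11880 L654022 q13998, e3 q11881 L356255 q11881, e3 q11882 L356264 q11882, e3 q11883 L654107 q14005, e3 q11884 L356281 q11884, e3 q11885 (flp_e L652743) q13901, e3 q11886 (flp_e L652757) q13902, e3 q11887 L356313 q9931, e3 q11888 L654213 q14014, e3 q11889 L356330 q9933, e3 q11890 L654248 q14017, e3 q11891 (flp_e L356343) q9929, e3 q11892 (flp_e L654281) q14019, e3 q11893 L654297 q14021, e3 q11894 (flp_e L654198) q14012, e3 q11895 (flp_e L356379) q9932, e3 q11896 (flp_e L654337) q14024, e3 q11897 L356410 q9935, e3 q11898 (flp_e L654360) q14026, e3 q11899 (flp_e L652907) q13915, e3 q11900 (flp_e L652923) q13916, e3 q11901 L654417 q14031, e3 q11902 (flp_e L652955) q13918, e3 q11903 L356495 q11903, trivial⟩ (by decide +kernel)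

theorem ce_e_186 : ∀ r, r < 64 → sm ge (Qf (11904 + r)) = Qf (tab Gen.e (11904 + r)) :=
  edges_tab (sm ge) Qf (tab Gen.e) 11904 [(11904, 9944), (11905, 11905), (11906, 11906), (11907, 11907), (11908, 11908), (11909, 11909), (11910, 10740), (11911, 10877), (11912, 13926), (11913, 14045), (11914, 9947), (11915, 14047), (11916, 11916), (11917, 11917), (11918, 11918), (11919, 11919), (11920, 11920), (11921, 11921), (11922, 11922), (11923, 11923), (11924, 11924), (11925, 11925), (11926, 13934), (11927, 9959), (11928, 9960), (11929, 14067), (11930, 9962), (11931, 14063), (11932, 14070), (11933, 14065), (11934, 11338), (11935, 9961), (11936, 14073), (11937, 10305), (11938, 10347), (11939, 14076), (11940, 11940), (11941, 11941), (11942, 14083), (11943, 11943), (11944, 13946), (11945, 13947), (11946, 9972), (11947, 14092), (11948, 9974), (11949, 11386), (11950, 9970), (11951, 14096), (11952, 14090), (11953, 9973), (11954, 14099), (11955, 9977), (11956, 9976), (11957, 14103), (11958, 14101), (11959, 14102), (11960, 9979), (11961,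 13958), (11962, 11448), (11963, 11536), (11964, 13959), (11965, 9987), (11966, 11525), (11967, 11526)]
    ⟨e3 q11904 L356501 q9944, e3 q11905 L356510 q11905, e3 q11906 L356520 q11906, e3 q11907 L356525 q11907, e3 q11908 L356536 q11908, e3 q11909 L356544 q11909, e3 q11910 L635152 q10740, e3 q11911 L649086 q10877, e3 q11912 (flp_e L653068) q13926, e3 q11913 L654593 q14045, e3 q11914 (flp_e L356590) q9947, e3 q11915 (flp_e L654622) q14047, e3 q11916 L356609 q11916, e3 q11917 L356621 q11917, e3 q11918 L356629 q11918, e3 q11919 L356640 q11919, e3 q11920 L356646 q11920, e3 q11921 L356656 q11921, e3 q11922 L356668 q11922, e3 q11923 L356677 q11923, e3 q11924 L356700 q11924, e3 q11925 L356707 q11925, e3 q11926 (flp_e L653191) q13934, e3 q11927 L356727 q9959, e3 q11928 L356737 q9960, e3 q11929 L654856 q14067, e3 q11930 L356757 q9962, e3 q11931 (flp_e L654816) q14063, e3 q11932 L654898 q14070, e3 q11933 (flp_e L654836) q14065, e3 q11934 L554432 q11338, e3 q11935 (flp_e L356799) q9961, e3 q11936 (flp_e L654951) q14073, e3 q11937 L550754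 q10305, e3 q11938 L506450 q10347, e3 q11939 L654978 q14076, e3 q11940 L356879 q11940, e3 q11941 L356886 q11941, e3 q11942 L655053 q14083, e3 q11943 L356903 q11943, e3 q11944 (flp_e L653365) q13946, e3 q11945 (flp_e L653379) q13947, e3 q11946 L356931 q9972, e3 q11947 L655157 q14092, e3 q11948 L356948 q9974, e3 q11949 (flp_e L648394) q11386, e3 q11950 (flp_e L356961) q9970, e3 q11951 (flp_e L655215) q14096, e3 q11952 (flp_e L655136) q14090, e3 q11953 (flp_e L356994) q9973, e3 q11954 (flp_e L655244) q14099, e3 q11955 L357015 q9977, e3 q11956 L357021 q9976, e3 q11957 (flp_e L655295) q14103, e3 q11958 (flp_e L655273) q14101, e3 q11959 (flp_e L655284) q14102, e3 q11960 L357052 q9979, e3 q11961 (flp_e L653520) q13958, e3 q11962 L649257 q11448, e3 q11963 (flp_e L649169) q11536, e3 q11964 (flp_e L653537) q13959, e3 q11965 L357107 q9987, e3 q11966 (flp_e L648562) q11525, e3 q11967 (flp_e L649167) q11526, trivial⟩ (by decide +kernel)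

theorem ce_e_187 : ∀ r, r < 64 → sm ge (Qf (11968 + r)) = Qf (tab Gen.e (11968 + r)) :=
  edges_tab (sm ge) Qf (tab Gen.e) 11968 [(11968, 11575), (11969, 13817), (11970, 9988), (11971, 14114), (11972, 14115), (11973, 11973), (11974, 14123), (11975, 11975), (11976, 14126), (11977, 9991), (11978, 14129), (11979, 13968), (11980, 13969), (11981, 14135), (11982, 13971), (11983, 14138), (11984, 10002), (11985, 14141), (11986, 9996), (11987, 14144), (11988, 14147), (11989, 9998), (11990, 14150), (11991, 10852), (11992, 10000), (11993, 14154), (11994, 10001), (11995, 14156), (11996, 13983), (11997, 10004), (11998, 14160), (11999, 10008), (12000, 10009), (12001, 10007), (12002, 14161), (12003, 14162), (12004, 14163), (12005, 13917), (12006, 10773), (12007, 13992), (12008, 14171), (12009, 10013), (12010, 14173), (12011, 11499), (12012, 11500), (12013, 13828), (12014, 13829), (12015, 13830), (12016, 11585), (12017, 13831), (12018, 13832), (12019, 13927), (12020, 10783), (12021, 10784), (12022, 14188), (12023, 10025), (12024, 14190),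 (12025, 10027), (12026, 14192), (12027, 13836), (12028, 13837), (12029, 13838), (12030, 13839), (12031, 13840)]
    ⟨e3 q11968 (flp_e L648564) q11575, e3 q11969 (flp_e L651543) q13817, e3 q11970 (flp_e L357153) q9988, e3 q11971 (flp_e L655439) q14114, e3 q11972 (flp_e L655449) q14115, e3 q11973 L357184 q11973, e3 q11974 L655519 q14123, e3 q11975 L357201 q11975, e3 q11976 L655550 q14126, e3 q11977 (flp_e L357212) q9991, e3 q11978 (flp_e L655592) q14129, e3 q11979 (flp_e L653659) q13968, e3 q11980 (flp_e L653673) q13969, e3 q11981 L655641 q14135, e3 q11982 (flp_e L653693) q13971, e3 q11983 L655668 q14138, e3 q11984 L357279 q10002, e3 q11985 L655698 q14141, e3 q11986 (flp_e L357290) q9996, e3 q11987 (flp_e L655730) q14144, e3 q11988 L655755 q14147, e3 q11989 (flp_e L357315) q9998, e3 q11990 (flp_e L655804) q14150, e3 q11991 L357336 q10852, e3 q11992 L357344 q10000, e3 q11993 (flp_e L655837) q14154, e3 q11994 (flp_e L357354) q10001, e3 q11995 (flp_e L655861) q14156, e3 q11996 (flp_e L653842) q13983, e3 q11997 L357380 q10004,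 e3 q11998 (flp_e L655897) q14160, e3 q11999 L357395 q10008, e3 q12000 L357402 q10009, e3 q12001 L357411 q10007, e3 q12002 (flp_e L655906) q14161, e3 q12003 (flp_e L655914) q14162, e3 q12004 (flp_e L655922) q14163, e3 q12005 L652947 q13917, e3 q12006 L640952 q10773, e3 q12007 (flp_e L653929) q13992, e3 q12008 L655993 q14171, e3 q12009 (flp_e L357480) q10013, e3 q12010 (flp_e L656022) q14173, e3 q12011 L649179 q11499, e3 q12012 L649181 q11500, e3 q12013 (flp_e L651670) q13828, e3 q12014 (flp_e L651691) q13829, e3 q12015 (flp_e L651705) q13830, e3 q12016 L648513 q11585, e3 q12017 (flp_e L651725) q13831, e3 q12018 (flp_e L651735) q13832, e3 q12019 (flp_e L653085) q13927, e3 q12020 L640949 q10783, e3 q12021 L635224 q10784, e3 q12022 L656171 q14188, e3 q12023 (flp_e L357610) q10025, e3 q12024 (flp_e L656201) q14190, e3 q12025 L357632 q10027, e3 q12026 (flp_e L656222) q14192, e3 q12027 (flp_e L651785) q13836, e3 q12028 (flp_e L651801) q13837, e3 q12029 (flp_e L651813) q13838, e3 q12030 (flp_e L651827) q13839, e3 q12031 (flp_e L651838)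 q13840, trivial⟩ (by decide +kernel)

theorem ce_e_188 : ∀ r, r < 64 → sm ge (Qf (12032 + r)) = Qf (tab Gen.e (12032 + r)) :=
  edges_tab (sm ge) Qf (tab Gen.e) 12032 [(12032, 13841), (12033, 13842), (12034, 13843), (12035, 14201), (12036, 12036), (12037, 10049), (12038, 11416), (12039, 12039), (12040, 10041), (12041, 10044), (12042, 14207), (12043, 14209), (12044, 14208), (12045, 10045), (12046, 14211), (12047, 10081), (12048, 10050), (12049, 10144), (12050, 14204), (12051, 10055), (12052, 10088), (12053, 10056), (12054, 10090), (12055, 10091), (12056, 14217), (12057, 10057), (12058, 14222), (12059, 14223), (12060, 10642), (12061, 12061), (12062, 10060), (12063, 10061), (12064, 14230), (12065, 14231), (12066, 14236), (12067, 14233), (12068, 13874), (12069, 12069), (12070, 10066), (12071, 10067), (12072, 14206), (12073, 10068), (12074, 14241), (12075, 14242), (12076, 12076), (12077, 12077), (12078, 12078), (12079, 10072), (12080, 10073), (12081, 14256), (12082, 10075), (12083, 14252), (12084, 14243), (12085, 14254), (12086,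 10074), (12087, 14262), (12088, 14261), (12089, 10077), (12090, 14265), (12091, 12091), (12092, 12092), (12093, 10083), (12094, 14203), (12095, 10084)]
    ⟨e3 q12032 (flp_e L651847) q13841, e3 q12033 (flp_e L651860) q13842, e3 q12034 (flp_e L651868) q13843, e3 q12035 L656303 q14201, e3 q12036 L357736 q12036, e3 q12037 L614127 q10049, e3 q12038 (flp_e L649367) q11416, e3 q12039 L357785 q12039, e3 q12040 L357804 q10041, e3 q12041 L614065 q10044, e3 q12042 (flp_e L656396) q14207, e3 q12043 L656421 q14209, e3 q12044 (flp_e L656413) q14208, e3 q12045 (flp_e L357907) q10045, e3 q12046 (flp_e L656456) q14211, e3 q12047 L357960 q10081, e3 q12048 L357967 q10050, e3 q12049 L614282 q10144, e3 q12050 (flp_e L656350) q14204, e3 q12051 L358015 q10055, e3 q12052 L358026 q10088, e3 q12053 L358033 q10056, e3 q12054 L358041 q10090, e3 q12055 L358053 q10091, e3 q12056 (flp_e L656538) q14217, e3 q12057 (flp_e L358070) q10057, e3 q12058 (flp_e L656603) q14222, e3 q12059 (flp_e L656616) q14223, e3 q12060 L576189 q10642, e3 q12061 L358130 q12061,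 e3 q12062 L358137 q10060, e3 q12063 L358147 q10061, e3 q12064 (flp_e L656705) q14230, e3 q12065 (flp_e L656717) q14231, e3 q12066 L656767 q14236, e3 q12067 (flp_e L656735) q14233, e3 q12068 (flp_e L652368) q13874, e3 q12069 L358222 q12069, e3 q12070 L358231 q10066, e3 q12071 L358242 q10067, e3 q12072 (flp_e L656386) q14206, e3 q12073 L358261 q10068, e3 q12074 (flp_e L656830) q14241, e3 q12075 (flp_e L656843) q14242, e3 q12076 L358294 q12076, e3 q12077 L358300 q12077, e3 q12078 L358311 q12078, e3 q12079 L358318 q10072, e3 q12080 L358328 q10073, e3 q12081 L656989 q14256, e3 q12082 L358342 q10075, e3 q12083 (flp_e L656961) q14252, e3 q12084 (flp_e L656853) q14243, e3 q12085 (flp_e L656975) q14254, e3 q12086 (flp_e L358374) q10074, e3 q12087 (flp_e L657054) q14262, e3 q12088 (flp_e L657048) q14261, e3 q12089 L358398 q10077, e3 q12090 (flp_e L657087) q14265, e3 q12091 L358416 q12091, e3 q12092 L358425 q12092, e3 q12093 L358434 q10083, e3 q12094 (flp_e L656339) q14203, e3 q12095 L358451 q10084, trivial⟩ (by decide +kernel)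

theorem ce_e_189 : ∀ r, r < 64 → sm ge (Qf (12096 + r)) = Qf (tab Gen.e (12096 + r)) :=
  edges_tab (sm ge) Qf (tab Gen.e) 12096 [(12096, 14213), (12097, 14214), (12098, 14270), (12099, 12099), (12100, 12100), (12101, 12101), (12102, 14216), (12103, 10092), (12104, 14218), (12105, 14219), (12106, 14220), (12107, 14221), (12108, 12108), (12109, 10094), (12110, 10095), (12111, 14281), (12112, 14282), (12113, 14284), (12114, 12114), (12115, 12115), (12116, 12116), (12117, 10100), (12118, 10101), (12119, 14296), (12120, 10103), (12121, 14292), (12122, 14299), (12123, 14294), (12124, 10102), (12125, 14301), (12126, 13866), (12127, 12127), (12128, 12128), (12129, 10110), (12130, 12130), (12131, 10111), (12132, 12132), (12133, 12133), (12134, 14305), (12135, 11590), (12136, 12136), (12137, 12137), (12138, 14317), (12139, 12139), (12140, 12140), (12141, 12141), (12142, 10119), (12143, 14325), (12144, 10121), (12145, 14328), (12146, 10117), (12147, 14331), (12148, 14323), (12149, 10120), (12150, 14333), (12151, 10124), (12152, 10123),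 (12153, 14337), (12154, 14335), (12155, 14336), (12156, 10126), (12157, 12157), (12158, 12158), (12159, 10134)]
    ⟨e3 q12096 (flp_e L656477) q14213, e3 q12097 (flp_e L656493) q14214, e3 q12098 (flp_e L657154) q14270, e3 q12099 L358489 q12099, e3 q12100 L358499 q12100, e3 q12101 L358515 q12101, e3 q12102 (flp_e L656527) q14216, e3 q12103 L358533 q10092, e3 q12104 (flp_e L656554) q14218, e3 q12105 (flp_e L656563) q14219, e3 q12106 (flp_e L656577) q14220, e3 q12107 (flp_e L656587) q14221, e3 q12108 L358588 q12108, e3 q12109 L358594 q10094, e3 q12110 L358601 q10095, e3 q12111 (flp_e L657289) q14281, e3 q12112 (flp_e L657302) q14282, e3 q12113 (flp_e L657321) q14284, e3 q12114 L358676 q12114, e3 q12115 L358682 q12115, e3 q12116 L358693 q12116, e3 q12117 L358702 q10100, e3 q12118 L358712 q10101, e3 q12119 L657439 q14296, e3 q12120 L358730 q10103, e3 q12121 (flp_e L657407) q14292, e3 q12122 L657472 q14299, e3 q12123 (flp_e L657425) q14294, e3 q12124 (flp_e L358765) q10102, e3 q12125 (flp_e L657503) q14301, e3 q12126 (flp_e L652231)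 q13866, e3 q12127 L358821 q12127, e3 q12128 L358829 q12128, e3 q12129 L358839 q10110, e3 q12130 L358852 q12130, e3 q12131 L358859 q10111, e3 q12132 L358867 q12132, e3 q12133 L358880 q12133, e3 q12134 (flp_e L657545) q14305, e3 q12135 (flp_e L648805) q11590, e3 q12136 L358908 q12136, e3 q12137 L358914 q12137, e3 q12138 L657659 q14317, e3 q12139 L358928 q12139, e3 q12140 L358937 q12140, e3 q12141 L358944 q12141, e3 q12142 L358953 q10119, e3 q12143 L657736 q14325, e3 q12144 L358967 q10121, e3 q12145 L657764 q14328, e3 q12146 (flp_e L358979) q10117, e3 q12147 (flp_e L657793) q14331, e3 q12148 (flp_e L657720) q14323, e3 q12149 (flp_e L359011) q10120, e3 q12150 (flp_e L657808) q14333, e3 q12151 L359031 q10124, e3 q12152 L359036 q10123, e3 q12153 (flp_e L657843) q14337, e3 q12154 (flp_e L657828) q14335, e3 q12155 (flp_e L657834) q14336, e3 q12156 L359067 q10126, e3 q12157 L359078 q12157, e3 q12158 L359105 q12158, e3 q12159 L359124 q10134, trivial⟩ (by decide +kernel)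

theorem ce_e_190 : ∀ r, r < 64 → sm ge (Qf (12160 + r)) = Qf (tab Gen.e (12160 + r)) :=
  edges_tab (sm ge) Qf (tab Gen.e) 12160 [(12160, 12160), (12161, 12161), (12162, 12162), (12163, 12163), (12164, 12164), (12165, 12165), (12166, 12166), (12167, 12167), (12168, 12168), (12169, 11413), (12170, 12170), (12171, 10162), (12172, 14269), (12173, 14215), (12174, 13942), (12175, 10150), (12176, 10187), (12177, 10151), (12178, 10153), (12179, 14354), (12180, 10155), (12181, 14357), (12182, 14356), (12183, 10154), (12184, 14360), (12185, 14359), (12186, 10157), (12187, 14363), (12188, 10319), (12189, 10209), (12190, 10163), (12191, 10211), (12192, 10212), (12193, 14350), (12194, 10323), (12195, 14374), (12196, 10325), (12197, 10218), (12198, 10171), (12199, 10220), (12200, 10221), (12201, 10222), (12202, 10223), (12203, 10224), (12204, 12204), (12205, 10173), (12206, 10174), (12207, 14387), (12208, 14388), (12209, 14390), (12210, 12210), (12211, 12211), (12212, 10337), (12213, 10179), (12214, 10180), (12215, 14404), (12216, 10182),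 (12217, 14400), (12218, 14407), (12219, 14402), (12220, 10181), (12221, 14409), (12222, 13943), (12223, 10348)]
    ⟨e3 q12160 L359132 q12160, e3 q12161 L359142 q12161, e3 q12162 L359147 q12162, e3 q12163 L359159 q12163, e3 q12164 L359168 q12164, e3 q12165 L359261 q12165, e3 q12166 L359267 q12166, e3 q12167 L359278 q12167, e3 q12168 L359288 q12168, e3 q12169 L648602 q11413, e3 q12170 L359334 q12170, e3 q12171 L614346 q10162, e3 q12172 (flp_e L657145) q14269, e3 q12173 (flp_e L656508) q14215, e3 q12174 (flp_e L653305) q13942, e3 q12175 L359446 q10150, e3 q12176 L359456 q10187, e3 q12177 L359464 q10151, e3 q12178 L614017 q10153, e3 q12179 (flp_e L658059) q14354, e3 q12180 L359540 q10155, e3 q12181 L658096 q14357, e3 q12182 (flp_e L658087) q14356, e3 q12183 (flp_e L359573) q10154, e3 q12184 (flp_e L658140) q14360, e3 q12185 (flp_e L658131) q14359, e3 q12186 L359601 q10157, e3 q12187 (flp_e L658170) q14363, e3 q12188 L359628 q10319, e3 q12189 L359647 q10209, e3 q12190 L359654 q10163, e3 q12191 L359661 q10211, e3 q12192 L359671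 q10212, e3 q12193 (flp_e L658007) q14350, e3 q12194 L359698 q10323, e3 q12195 L658299 q14374, e3 q12196 L359715 q10325, e3 q12197 L359726 q10218, e3 q12198 L359733 q10171, e3 q12199 L359741 q10220, e3 q12200 L359752 q10221, e3 q12201 L359759 q10222, e3 q12202 L359769 q10223, e3 q12203 L359775 q10224, e3 q12204 L359788 q12204, e3 q12205 L359794 q10173, e3 q12206 L359803 q10174, e3 q12207 (flp_e L658446) q14387, e3 q12208 (flp_e L658457) q14388, e3 q12209 (flp_e L658476) q14390, e3 q12210 L359872 q12210, e3 q12211 L359880 q12211, e3 q12212 L359891 q10337, e3 q12213 L359901 q10179, e3 q12214 L359911 q10180, e3 q12215 L658617 q14404, e3 q12216 L359927 q10182, e3 q12217 (flp_e L658587) q14400, e3 q12218 L658643 q14407, e3 q12219 (flp_e L658603) q14402, e3 q12220 (flp_e L359964) q10181, e3 q12221 (flp_e L658668) q14409, e3 q12222 (flp_e L653319) q13943, e3 q12223 L360009 q10348, trivial⟩ (by decide +kernel)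

theorem ce_e_191 : ∀ r, r < 64 → sm ge (Qf (12224 + r)) = Qf (tab Gen.e (12224 + r)) :=
  edges_tab (sm ge) Qf (tab Gen.e) 12224 [(12224, 10349), (12225, 10189), (12226, 14353), (12227, 10190), (12228, 14258), (12229, 14355), (12230, 14415), (12231, 14421), (12232, 12232), (12233, 12233), (12234, 14428), (12235, 12235), (12236, 10358), (12237, 10359), (12238, 10198), (12239, 14437), (12240, 10200), (12241, 14440), (12242, 10196), (12243, 14443), (12244, 14416), (12245, 14435), (12246, 10199), (12247, 14447), (12248, 10203), (12249, 10202), (12250, 14451), (12251, 14449), (12252, 14450), (12253, 10205), (12254, 10376), (12255, 10377), (12256, 14458), (12257, 10379), (12258, 14349), (12259, 10213), (12260, 14366), (12261, 14367), (12262, 14368), (12263, 14369), (12264, 14370), (12265, 10386), (12266, 14468), (12267, 10388), (12268, 14471), (12269, 10216), (12270, 14473), (12271, 14376), (12272, 14377), (12273, 14378), (12274, 14379), (12275, 14380), (12276, 14381), (12277, 14382), (12278, 14383), (12279, 12279), (12280, 12280),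 (12281, 12281), (12282, 10402), (12283, 10228), (12284, 10229), (12285, 14442), (12286, 10230), (12287, 14492)]
    ⟨e3 q12224 L360020 q10349, e3 q12225 L360031 q10189, e3 q12226 (flp_e L658049) q14353, e3 q12227 L360048 q10190, e3 q12228 L657015 q14258, e3 q12229 (flp_e L658075) q14355, e3 q12230 (flp_e L658732) q14415, e3 q12231 L658782 q14421, e3 q12232 L360095 q12232, e3 q12233 L360101 q12233, e3 q12234 L658843 q14428, e3 q12235 L360113 q12235, e3 q12236 L360122 q10358, e3 q12237 L360132 q10359, e3 q12238 L360142 q10198, e3 q12239 L658912 q14437, e3 q12240 L360154 q10200, e3 q12241 L658930 q14440, e3 q12242 (flp_e L360166) q10196, e3 q12243 (flp_e L658954) q14443, e3 q12244 (flp_e L658742) q14416, e3 q12245 (flp_e L658900) q14435, e3 q12246 (flp_e L360193) q10199, e3 q12247 (flp_e L658977) q14447, e3 q12248 L360209 q10203, e3 q12249 L360213 q10202, e3 q12250 (flp_e L659013) q14451, e3 q12251 (flp_e L658998) q14449, e3 q12252 (flp_e L659007) q14450, e3 q12253 L360237 q10205, e3 q12254 L360247 q10376, e3 q12255 L360257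 q10377, e3 q12256 L659083 q14458, e3 q12257 L360276 q10379, e3 q12258 (flp_e L657996) q14349, e3 q12259 L360295 q10213, e3 q12260 (flp_e L658211) q14366, e3 q12261 (flp_e L658228) q14367, e3 q12262 (flp_e L658234) q14368, e3 q12263 (flp_e L658244) q14369, e3 q12264 (flp_e L658251) q14370, e3 q12265 L360339 q10386, e3 q12266 L659175 q14468, e3 q12267 L360356 q10388, e3 q12268 L659213 q14471, e3 q12269 (flp_e L360372) q10216, e3 q12270 (flp_e L659245) q14473, e3 q12271 (flp_e L658325) q14376, e3 q12272 (flp_e L658340) q14377, e3 q12273 (flp_e L658347) q14378, e3 q12274 (flp_e L658358) q14379, e3 q12275 (flp_e L658365) q14380, e3 q12276 (flp_e L658374) q14381, e3 q12277 (flp_e L658384) q14382, e3 q12278 (flp_e L658392) q14383, e3 q12279 L360444 q12279, e3 q12280 L360455 q12280, e3 q12281 L360460 q12281, e3 q12282 L360468 q10402, e3 q12283 L360477 q10228, e3 q12284 L360484 q10229, e3 q12285 (flp_e L658948) q14442, e3 q12286 L360499 q10230, e3 q12287 (flp_e L659450) q14492, trivial⟩ (by decide +kernel)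

theorem ce_e_192 : ∀ r, r < 64 → sm ge (Qf (12288 + r)) = Qf (tab Gen.e (12288 + r)) :=
  edges_tab (sm ge) Qf (tab Gen.e) 12288 [(12288, 14494), (12289, 14498), (12290, 12290), (12291, 12291), (12292, 14505), (12293, 12293), (12294, 10414), (12295, 10415), (12296, 10238), (12297, 14514), (12298, 10240), (12299, 14517), (12300, 10236), (12301, 14519), (12302, 14521), (12303, 14512), (12304, 10239), (12305, 14524), (12306, 10242), (12307, 14526), (12308, 10428), (12309, 10429), (12310, 14531), (12311, 10431), (12312, 12312), (12313, 10251), (12314, 12314), (12315, 12315), (12316, 12316), (12317, 12317), (12318, 12318), (12319, 10252), (12320, 14541), (12321, 14542), (12322, 12322), (12323, 14550), (12324, 12324), (12325, 14553), (12326, 10255), (12327, 14556), (12328, 10447), (12329, 10448), (12330, 14562), (12331, 10450), (12332, 14565), (12333, 10266), (12334, 14568), (12335, 10260), (12336, 14571), (12337, 14574), (12338, 10262), (12339, 14577), (12340, 11077), (12341, 10264), (12342, 14581), (12343, 10265), (12344, 14583),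 (12345, 10464), (12346, 10268), (12347, 14587), (12348, 10272), (12349, 10273), (12350, 10271), (12351, 14588)]
    ⟨e3 q12288 (flp_e L659467) q14494, e3 q12289 L659503 q14498, e3 q12290 L360606 q12290, e3 q12291 L360612 q12291, e3 q12292 L659568 q14505, e3 q12293 L360628 q12293, e3 q12294 L360637 q10414, e3 q12295 L360647 q10415, e3 q12296 L360659 q10238, e3 q12297 L659649 q14514, e3 q12298 L360675 q10240, e3 q12299 L659671 q14517, e3 q12300 (flp_e L360687) q10236, e3 q12301 (flp_e L659694) q14519, e3 q12302 L659702 q14521, e3 q12303 (flp_e L659637) q14512, e3 q12304 (flp_e L360721) q10239, e3 q12305 (flp_e L659742) q14524, e3 q12306 L360753 q10242, e3 q12307 (flp_e L659761) q14526, e3 q12308 L360798 q10428, e3 q12309 L360807 q10429, e3 q12310 L659805 q14531, e3 q12311 L360828 q10431, e3 q12312 L360841 q12312, e3 q12313 L360848 q10251, e3 q12314 L360856 q12314, e3 q12315 L360867 q12315, e3 q12316 L360872 q12316, e3 q12317 L360883 q12317, e3 q12318 L360891 q12318, e3 q12319 (flp_e L360895) q10252, e3 q12320 (flp_e L659908)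 q14541, e3 q12321 (flp_e L659918) q14542, e3 q12322 L360920 q12322, e3 q12323 L659977 q14550, e3 q12324 L360932 q12324, e3 q12325 L660003 q14553, e3 q12326 (flp_e L360942) q10255, e3 q12327 (flp_e L660030) q14556, e3 q12328 L360957 q10447, e3 q12329 L360965 q10448, e3 q12330 L660072 q14562, e3 q12331 L360981 q10450, e3 q12332 L660096 q14565, e3 q12333 L360995 q10266, e3 q12334 L660122 q14568, e3 q12335 (flp_e L361005) q10260, e3 q12336 (flp_e L660145) q14571, e3 q12337 L660165 q14574, e3 q12338 (flp_e L361023) q10262, e3 q12339 (flp_e L660196) q14577, e3 q12340 L361040 q11077, e3 q12341 L361046 q10264, e3 q12342 (flp_e L660220) q14581, e3 q12343 (flp_e L361052) q10265, e3 q12344 (flp_e L660237) q14583, e3 q12345 L361071 q10464, e3 q12346 L361076 q10268, e3 q12347 (flp_e L660273) q14587, e3 q12348 L361091 q10272, e3 q12349 L361097 q10273, e3 q12350 L361104 q10271, e3 q12351 (flp_e L660281) q14588, trivial⟩ (by decide +kernel)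

theorem ce_e_193 : ∀ r, r < 64 → sm ge (Qf (12352 + r)) = Qf (tab Gen.e (12352 + r)) :=
  edges_tab (sm ge) Qf (tab Gen.e) 12352 [(12352, 14589), (12353, 14590), (12354, 10473), (12355, 14596), (12356, 10475), (12357, 14599), (12358, 10277), (12359, 14601), (12360, 12360), (12361, 12361), (12362, 12362), (12363, 12363), (12364, 12364), (12365, 12365), (12366, 12366), (12367, 12367), (12368, 10488), (12369, 10287), (12370, 14611), (12371, 14614), (12372, 10289), (12373, 14616), (12374, 10291), (12375, 14618), (12376, 12376), (12377, 12377), (12378, 12378), (12379, 12379), (12380, 12380), (12381, 12381), (12382, 11423), (12383, 10532), (12384, 11656), (12385, 13810), (12386, 14625), (12387, 11655), (12388, 10303), (12389, 14627), (12390, 14075), (12391, 11654), (12392, 10313), (12393, 10309), (12394, 14629), (12395, 11650), (12396, 11653), (12397, 10312), (12398, 14632), (12399, 10316), (12400, 10315), (12401, 14636), (12402, 14634), (12403, 14635), (12404, 10318), (12405, 14365), (12406, 10322), (12407, 14372), (12408, 10324),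 (12409, 14640), (12410, 10393), (12411, 10395), (12412, 10398), (12413, 14386), (12414, 10334), (12415, 10335)]
    ⟨e3 q12352 (flp_e L660287) q14589, e3 q12353 (flp_e L660294) q14590, e3 q12354 L361141 q10473, e3 q12355 L660346 q14596, e3 q12356 L361160 q10475, e3 q12357 L660377 q14599, e3 q12358 (flp_e L361173) q10277, e3 q12359 (flp_e L660399) q14601, e3 q12360 L361195 q12360, e3 q12361 L361205 q12361, e3 q12362 L361210 q12362, e3 q12363 L361220 q12363, e3 q12364 L361227 q12364, e3 q12365 L361235 q12365, e3 q12366 L361245 q12366, e3 q12367 L361252 q12367, e3 q12368 L361267 q10488, e3 q12369 (flp_e L361281) q10287, e3 q12370 (flp_e L660494) q14611, e3 q12371 L660521 q14614, e3 q12372 (flp_e L361306) q10289, e3 q12373 (flp_e L660552) q14616, e3 q12374 L361329 q10291, e3 q12375 (flp_e L660576) q14618, e3 q12376 L361359 q12376, e3 q12377 L361365 q12377, e3 q12378 L361374 q12378, e3 q12379 L361382 q12379, e3 q12380 L361391 q12380, e3 q12381 L361398 q12381, e3 q12382 L649065 q11423, e3 q12383 L542455 q10532, e3 q12384 (flp_e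 L648471) q11656, e3 q12385 (flp_e L651449) q13810, e3 q12386 L660652 q14625, e3 q12387 (flp_e L648473) q11655, e3 q12388 (flp_e L361587) q10303, e3 q12389 (flp_e L660687) q14627, e3 q12390 (flp_e L654974) q14075, e3 q12391 L648475 q11654, e3 q12392 L361794 q10313, e3 q12393 (flp_e L361805) q10309, e3 q12394 (flp_e L660712) q14629, e3 q12395 (flp_e L648905) q11650, e3 q12396 (flp_e L648903) q11653, e3 q12397 (flp_e L361836) q10312, e3 q12398 (flp_e L660750) q14632, e3 q12399 L361860 q10316, e3 q12400 L361867 q10315, e3 q12401 (flp_e L660798) q14636, e3 q12402 (flp_e L660774) q14634, e3 q12403 (flp_e L660788) q14635, e3 q12404 L361901 q10318, e3 q12405 (flp_e L658199) q14365, e3 q12406 L361954 q10322, e3 q12407 (flp_e L658278) q14372, e3 q12408 (flp_e L362042) q10324, e3 q12409 (flp_e L660839) q14640, e3 q12410 L362074 q10393, e3 q12411 L362094 q10395, e3 q12412 L362123 q10398, e3 q12413 (flp_e L658435) q14386, e3 q12414 L362180 q10334, e3 q12415 L362190 q10335, trivial⟩ (by decide +kernel)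

theorem ce_e_194 : ∀ r, r < 64 → sm ge (Qf (12416 + r)) = Qf (tab Gen.e (12416 + r)) :=
  edges_tab (sm ge) Qf (tab Gen.e) 12416 [(12416, 14095), (12417, 10336), (12418, 14643), (12419, 14645), (12420, 14398), (12421, 14399), (12422, 10342), (12423, 14655), (12424, 10344), (12425, 10340), (12426, 14657), (12427, 14659), (12428, 14654), (12429, 10343), (12430, 14662), (12431, 10346), (12432, 14664), (12433, 14411), (12434, 14412), (12435, 14414), (12436, 10352), (12437, 10353), (12438, 14667), (12439, 14668), (12440, 12440), (12441, 14675), (12442, 12442), (12443, 10356), (12444, 14677), (12445, 14430), (12446, 14431), (12447, 14683), (12448, 14433), (12449, 14686), (12450, 10367), (12451, 14689), (12452, 10361), (12453, 14692), (12454, 10805), (12455, 10363), (12456, 14695), (12457, 10405), (12458, 10365), (12459, 14699), (12460, 10366), (12461, 14701), (12462, 14446), (12463, 10369), (12464, 14705), (12465, 10373), (12466, 10374), (12467, 10372), (12468, 14706), (12469, 14707), (12470, 14708), (12471, 14454), (12472, 14715),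 (12473, 14456), (12474, 14718), (12475, 10378), (12476, 14720), (12477, 11625), (12478, 11648), (12479, 11600)]
    ⟨e3 q12416 (flp_e L655205) q14095, e3 q12417 L362206 q10336, e3 q12418 (flp_e L660879) q14643, e3 q12419 (flp_e L660901) q14645, e3 q12420 (flp_e L658563) q14398, e3 q12421 (flp_e L658575) q14399, e3 q12422 L362376 q10342, e3 q12423 L661015 q14655, e3 q12424 L362393 q10344, e3 q12425 (flp_e L362408) q10340, e3 q12426 (flp_e L661045) q14657, e3 q12427 L661061 q14659, e3 q12428 (flp_e L661008) q14654, e3 q12429 (flp_e L362443) q10343, e3 q12430 (flp_e L661089) q14662, e3 q12431 L362470 q10346, e3 q12432 (flp_e L661106) q14664, e3 q12433 (flp_e L658685) q14411, e3 q12434 (flp_e L658696) q14412, e3 q12435 (flp_e L658719) q14414, e3 q12436 L362565 q10352, e3 q12437 (flp_e L362618) q10353, e3 q12438 (flp_e L661141) q14667, e3 q12439 (flp_e L661152) q14668, e3 q12440 L362649 q12440, e3 q12441 L661227 q14675, e3 q12442 L362663 q12442, e3 q12443 (flp_e L362677) q10356, e3 q12444 (flp_e L661255) q14677, e3 q12445 (flp_e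 L658858) q14430, e3 q12446 (flp_e L658868) q14431, e3 q12447 L661308 q14683, e3 q12448 (flp_e L658884) q14433, e3 q12449 L661335 q14686, e3 q12450 L362732 q10367, e3 q12451 L661365 q14689, e3 q12452 (flp_e L362745) q10361, e3 q12453 (flp_e L661399) q14692, e3 q12454 L547037 q10805, e3 q12455 (flp_e L362764) q10363, e3 q12456 (flp_e L661432) q14695, e3 q12457 L550673 q10405, e3 q12458 L362789 q10365, e3 q12459 (flp_e L661469) q14699, e3 q12460 (flp_e L362799) q10366, e3 q12461 (flp_e L661483) q14701, e3 q12462 (flp_e L658973) q14446, e3 q12463 L362817 q10369, e3 q12464 (flp_e L661509) q14705, e3 q12465 L362830 q10373, e3 q12466 L362835 q10374, e3 q12467 L362842 q10372, e3 q12468 (flp_e L661522) q14706, e3 q12469 (flp_e L661530) q14707, e3 q12470 (flp_e L661538) q14708, e3 q12471 (flp_e L659043) q14454, e3 q12472 L661612 q14715, e3 q12473 (flp_e L659068) q14456, e3 q12474 L661658 q14718, e3 q12475 (flp_e L362909) q10378, e3 q12476 (flp_e L661692) q14720, e3 q12477 L508308 q11625, e3 q12478 L490566 q11648, e3 q12479 L547021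 q11600, trivial⟩ (by decide +kernel)

theorem ce_e_195 : ∀ r, r < 64 → sm ge (Qf (12480 + r)) = Qf (tab Gen.e (12480 + r)) :=
  edges_tab (sm ge) Qf (tab Gen.e) 12480 [(12480, 11626), (12481, 11602), (12482, 11329), (12483, 14467), (12484, 10526), (12485, 10387), (12486, 14725), (12487, 11341), (12488, 10389), (12489, 14726), (12490, 10391), (12491, 14724), (12492, 11658), (12493, 11659), (12494, 11662), (12495, 11657), (12496, 11608), (12497, 11632), (12498, 14623), (12499, 14730), (12500, 12500), (12501, 12501), (12502, 14066), (12503, 12503), (12504, 14490), (12505, 14491), (12506, 10407), (12507, 14697), (12508, 10408), (12509, 14059), (12510, 14698), (12511, 14742), (12512, 10409), (12513, 14747), (12514, 14748), (12515, 12515), (12516, 14755), (12517, 12517), (12518, 10412), (12519, 14757), (12520, 14507), (12521, 14508), (12522, 14763), (12523, 14510), (12524, 14766), (12525, 10423), (12526, 14769), (12527, 10417), (12528, 14772), (12529, 14082), (12530, 10419), (12531, 14775), (12532, 10421), (12533, 14777), (12534,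 10422), (12535, 14779), (12536, 14523), (12537, 10425), (12538, 14782), (12539, 10427), (12540, 14527), (12541, 14787), (12542, 14529), (12543, 14790)]
    ⟨e3 q12480 L561784 q11626, e3 q12481 L508205 q11602, e3 q12482 L615888 q11329, e3 q12483 (flp_e L659165) q14467, e3 q12484 L615496 q10526, e3 q12485 (flp_e L363023) q10387, e3 q12486 (flp_e L661769) q14725, e3 q12487 L615947 q11341, e3 q12488 (flp_e L363047) q10389, e3 q12489 (flp_e L661786) q14726, e3 q12490 L363068 q10391, e3 q12491 (flp_e L661754) q14724, e3 q12492 (flp_e L648867) q11658, e3 q12493 L490854 q11659, e3 q12494 (flp_e L648881) q11662, e3 q12495 L490863 q11657, e3 q12496 L648400 q11608, e3 q12497 (flp_e L547279) q11632, e3 q12498 (flp_e L660639) q14623, e3 q12499 L661837 q14730, e3 q12500 L363189 q12500, e3 q12501 L363195 q12501, e3 q12502 L654854 q14066, e3 q12503 L363211 q12503, e3 q12504 (flp_e L659428) q14490, e3 q12505 (flp_e L659437) q14491, e3 q12506 L363236 q10407, e3 q12507 (flp_e L661454) q14697, e3 q12508 L363252 q10408, e3 q12509 L654771 q14059,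 e3 q12510 (flp_e L661462) q14698, e3 q12511 (flp_e L661966) q14742, e3 q12512 (flp_e L363408) q10409, e3 q12513 (flp_e L662007) q14747, e3 q12514 (flp_e L662020) q14748, e3 q12515 L363443 q12515, e3 q12516 L662099 q14755, e3 q12517 L363461 q12517, e3 q12518 (flp_e L363475) q10412, e3 q12519 (flp_e L662127) q14757, e3 q12520 (flp_e L659589) q14507, e3 q12521 (flp_e L659599) q14508, e3 q12522 L662184 q14763, e3 q12523 (flp_e L659619) q14510, e3 q12524 L662213 q14766, e3 q12525 L363542 q10423, e3 q12526 L662241 q14769, e3 q12527 (flp_e L363555) q10417, e3 q12528 (flp_e L662274) q14772, e3 q12529 L655051 q14082, e3 q12530 (flp_e L363578) q10419, e3 q12531 (flp_e L662300) q14775, e3 q12532 L363612 q10421, e3 q12533 (flp_e L662320) q14777, e3 q12534 (flp_e L363622) q10422, e3 q12535 (flp_e L662336) q14779, e3 q12536 (flp_e L659735) q14523, e3 q12537 L363652 q10425, e3 q12538 (flp_e L662362) q14782, e3 q12539 L363687 q10427, e3 q12540 (flp_e L659769) q14527, e3 q12541 L662407 q14787, e3 q12542 (flp_e L659790) q14529, e3 q12543 L662441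 q14790, trivial⟩ (by decide +kernel)

theorem ce_e_196 : ∀ r, r < 64 → sm ge (Qf (12544 + r)) = Qf (tab Gen.e (12544 + r)) :=
  edges_tab (sm ge) Qf (tab Gen.e) 12544 [(12544, 10430), (12545, 14792), (12546, 12546), (12547, 12547), (12548, 12548), (12549, 12549), (12550, 12550), (12551, 12551), (12552, 10439), (12553, 10440), (12554, 14797), (12555, 14798), (12556, 14805), (12557, 14800), (12558, 14808), (12559, 12559), (12560, 14811), (12561, 10442), (12562, 14814), (12563, 14146), (12564, 10444), (12565, 14818), (12566, 11239), (12567, 10446), (12568, 14822), (12569, 14558), (12570, 14826), (12571, 14560), (12572, 14829), (12573, 10449), (12574, 14832), (12575, 14835), (12576, 10451), (12577, 14838), (12578, 14841), (12579, 10453), (12580, 14844), (12581, 14831), (12582, 10455), (12583, 14848), (12584, 14125), (12585, 10456), (12586, 14851), (12587, 11260), (12588, 10458), (12589, 14855), (12590, 11263), (12591, 11264), (12592, 10461), (12593, 14582), (12594, 10463), (12595, 14863), (12596, 14585), (12597, 14586), (12598,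 10466), (12599, 10470), (12600, 10471), (12601, 10472), (12602, 14709), (12603, 14868), (12604, 14869), (12605, 14874), (12606, 14594), (12607, 14877)]
    ⟨e3 q12544 (flp_e L363766) q10430, e3 q12545 (flp_e L662469) q14792, e3 q12546 L363791 q12546, e3 q12547 L363804 q12547, e3 q12548 L363810 q12548, e3 q12549 L363822 q12549, e3 q12550 L363838 q12550, e3 q12551 L363851 q12551, e3 q12552 L363871 q10439, e3 q12553 L363878 q10440, e3 q12554 (flp_e L662537) q14797, e3 q12555 (flp_e L662547) q14798, e3 q12556 L662603 q14805, e3 q12557 (flp_e L662561) q14800, e3 q12558 L662628 q14808, e3 q12559 L363927 q12559, e3 q12560 L662651 q14811, e3 q12561 (flp_e L363939) q10442, e3 q12562 (flp_e L662681) q14814, e3 q12563 L655753 q14146, e3 q12564 (flp_e L363961) q10444, e3 q12565 (flp_e L662723) q14818, e3 q12566 L363983 q11239, e3 q12567 L363988 q10446, e3 q12568 (flp_e L662756) q14822, e3 q12569 (flp_e L660042) q14558, e3 q12570 L662785 q14826, e3 q12571 (flp_e L660058) q14560, e3 q12572 L662805 q14829, e3 q12573 (flp_e L364029) q10449,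 e3 q12574 (flp_e L662827) q14832, e3 q12575 L662844 q14835, e3 q12576 (flp_e L364048) q10451, e3 q12577 (flp_e L662871) q14838, e3 q12578 L662887 q14841, e3 q12579 (flp_e L364068) q10453, e3 q12580 (flp_e L662912) q14844, e3 q12581 (flp_e L662823) q14831, e3 q12582 L364091 q10455, e3 q12583 (flp_e L662936) q14848, e3 q12584 L655548 q14125, e3 q12585 (flp_e L364106) q10456, e3 q12586 (flp_e L662968) q14851, e3 q12587 L364127 q11260, e3 q12588 L364134 q10458, e3 q12589 (flp_e L662999) q14855, e3 q12590 L364148 q11263, e3 q12591 L364154 q11264, e3 q12592 L364161 q10461, e3 q12593 (flp_e L660230) q14582, e3 q12594 L364173 q10463, e3 q12595 (flp_e L663057) q14863, e3 q12596 (flp_e L660258) q14585, e3 q12597 (flp_e L660266) q14586, e3 q12598 L364199 q10466, e3 q12599 L364207 q10470, e3 q12600 L364214 q10471, e3 q12601 L364221 q10472, e3 q12602 (flp_e L661548) q14709, e3 q12603 (flp_e L663090) q14868, e3 q12604 (flp_e L663098) q14869, e3 q12605 L663134 q14874, e3 q12606 (flp_e L660331) q14594, e3 q12607 L663167 q14877, trivial⟩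 (by decide +kernel)

theorem ce_e_197 : ∀ r, r < 64 → sm ge (Qf (12608 + r)) = Qf (tab Gen.e (12608 + r)) :=
  edges_tab (sm ge) Qf (tab Gen.e) 12608 [(12608, 10474), (12609, 14879), (12610, 14882), (12611, 10476), (12612, 14885), (12613, 10478), (12614, 14887), (12615, 12615), (12616, 12616), (12617, 12617), (12618, 12618), (12619, 12619), (12620, 12620), (12621, 12621), (12622, 12622), (12623, 14896), (12624, 10588), (12625, 10487), (12626, 14899), (12627, 14902), (12628, 10489), (12629, 14900), (12630, 10491), (12631, 14898), (12632, 14904), (12633, 10492), (12634, 14907), (12635, 11173), (12636, 10494), (12637, 11292), (12638, 10496), (12639, 12639), (12640, 12640), (12641, 12641), (12642, 12642), (12643, 12643), (12644, 14917), (12645, 12645), (12646, 13815), (12647, 10505), (12648, 10509), (12649, 10510), (12650, 14918), (12651, 14919), (12652, 14921), (12653, 12653), (12654, 11328), (12655, 11190), (12656, 10515), (12657, 11196), (12658, 10516), (12659, 11630), (12660, 14371), (12661, 10534), (12662, 10535), (12663,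 11325), (12664, 14924), (12665, 14926), (12666, 12666), (12667, 14929), (12668, 14930), (12669, 10540), (12670, 14932), (12671, 10541)]
    ⟨e3 q12608 (flp_e L364288) q10474, e3 q12609 (flp_e L663188) q14879, e3 q12610 L663217 q14882, e3 q12611 (flp_e L364317) q10476, e3 q12612 (flp_e L663247) q14885, e3 q12613 L364338 q10478, e3 q12614 (flp_e L663270) q14887, e3 q12615 L364355 q12615, e3 q12616 L364367 q12616, e3 q12617 L364375 q12617, e3 q12618 L364385 q12618, e3 q12619 L364396 q12619, e3 q12620 L364403 q12620, e3 q12621 L364414 q12621, e3 q12622 L364424 q12622, e3 q12623 L663364 q14896, e3 q12624 L646867 q10588, e3 q12625 (flp_e L364447) q10487, e3 q12626 (flp_e L663406) q14899, e3 q12627 L663445 q14902, e3 q12628 (flp_e L364474) q10489, e3 q12629 (flp_e L663421) q14900, e3 q12630 L364496 q10491, e3 q12631 (flp_e L663392) q14898, e3 q12632 L663468 q14904, e3 q12633 (flp_e L364519) q10492, e3 q12634 (flp_e L663510) q14907, e3 q12635 L645630 q11173, e3 q12636 L364547 q10494, e3 q12637 L646954 q11292, e3 q12638 L364566 q10496,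 e3 q12639 L364575 q12639, e3 q12640 L364586 q12640, e3 q12641 L364595 q12641, e3 q12642 L364606 q12642, e3 q12643 L364613 q12643, e3 q12644 L663611 q14917, e3 q12645 L364630 q12645, e3 q12646 (flp_e L651521) q13815, e3 q12647 (flp_e L364645) q10505, e3 q12648 L367125 q10509, e3 q12649 L367133 q10510, e3 q12650 (flp_e L663625) q14918, e3 q12651 (flp_e L663638) q14919, e3 q12652 (flp_e L663659) q14921, e3 q12653 L367184 q12653, e3 q12654 L615737 q11328, e3 q12655 L614715 q11190, e3 q12656 (flp_e L367565) q10515, e3 q12657 L615954 q11196, e3 q12658 (flp_e L367590) q10516, e3 q12659 L542426 q11630, e3 q12660 (flp_e L658267) q14371, e3 q12661 L368255 q10534, e3 q12662 L368262 q10535, e3 q12663 L615833 q11325, e3 q12664 (flp_e L663697) q14924, e3 q12665 (flp_e L663726) q14926, e3 q12666 L368315 q12666, e3 q12667 L663762 q14929, e3 q12668 L663776 q14930, e3 q12669 (flp_e L368658) q10540, e3 q12670 L663806 q14932, e3 q12671 (flp_e L368685) q10541, trivial⟩ (by decide +kernel)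

theorem ce_e_198 : ∀ r, r < 64 → sm ge (Qf (12672 + r)) = Qf (tab Gen.e (12672 + r)) :=
  edges_tab (sm ge) Qf (tab Gen.e) 12672 [(12672, 12672), (12673, 10548), (12674, 10549), (12675, 14938), (12676, 10551), (12677, 14934), (12678, 11297), (12679, 14936), (12680, 14944), (12681, 10550), (12682, 14946), (12683, 11566), (12684, 11518), (12685, 11582), (12686, 11521), (12687, 11584), (12688, 11523), (12689, 10589), (12690, 11377), (12691, 14955), (12692, 10560), (12693, 11578), (12694, 11577), (12695, 14958), (12696, 10565), (12697, 10587), (12698, 14959), (12699, 10567), (12700, 14957), (12701, 10569), (12702, 14897), (12703, 14952), (12704, 10570), (12705, 11373), (12706, 14956), (12707, 10572), (12708, 14967), (12709, 10574), (12710, 12710), (12711, 12711), (12712, 12712), (12713, 12713), (12714, 12714), (12715, 14975), (12716, 12716), (12717, 14646), (12718, 10583), (12719, 11366), (12720, 11344), (12721, 11273), (12722, 11101), (12723, 14042), (12724, 12724), (12725, 12725), (12726, 14373), (12727, 12727), (12728, 13814),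 (12729, 10599), (12730, 10647), (12731, 12731), (12732, 12732), (12733, 12733), (12734, 12734), (12735, 10771)]
    ⟨e3 q12672 L368753 q12672, e3 q12673 L368806 q10548, e3 q12674 L368813 q10549, e3 q12675 L663874 q14938, e3 q12676 L368828 q10551, e3 q12677 (flp_e L663841) q14934, e3 q12678 L646540 q11297, e3 q12679 (flp_e L663863) q14936, e3 q12680 L663940 q14944, e3 q12681 (flp_e L368865) q10550, e3 q12682 (flp_e L663971) q14946, e3 q12683 (flp_e L645808) q11566, e3 q12684 L546108 q11518, e3 q12685 L543330 q11582, e3 q12686 L512912 q11521, e3 q12687 L543326 q11584, e3 q12688 L543093 q11523, e3 q12689 L646488 q10589, e3 q12690 L646483 q11377, e3 q12691 L664091 q14955, e3 q12692 (flp_e L369056) q10560, e3 q12693 (flp_e L645855) q11578, e3 q12694 (flp_e L646206) q11577, e3 q12695 L664136 q14958, e3 q12696 (flp_e L369315) q10565, e3 q12697 L629230 q10587, e3 q12698 (flp_e L664162) q14959, e3 q12699 (flp_e L369343) q10567, e3 q12700 L664132 q14957, e3 q12701 L369363 q10569, e3 q12702 (flp_e L663376) q14897, e3 q12703 (flp_e L664048)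 q14952, e3 q12704 (flp_e L369384) q10570, e3 q12705 L646426 q11373, e3 q12706 (flp_e L664119) q14956, e3 q12707 L369413 q10572, e3 q12708 (flp_e L664265) q14967, e3 q12709 L369430 q10574, e3 q12710 L369439 q12710, e3 q12711 L369449 q12711, e3 q12712 L369457 q12712, e3 q12713 L369467 q12713, e3 q12714 L369476 q12714, e3 q12715 L664348 q14975, e3 q12716 L369489 q12716, e3 q12717 (flp_e L660911) q14646, e3 q12718 (flp_e L369500) q10583, e3 q12719 L648698 q11366, e3 q12720 L645867 q11344, e3 q12721 L645886 q11273, e3 q12722 L646992 q11101, e3 q12723 (flp_e L654554) q14042, e3 q12724 L369709 q12724, e3 q12725 L369717 q12725, e3 q12726 L658297 q14373, e3 q12727 L369733 q12727, e3 q12728 (flp_e L651509) q13814, e3 q12729 (flp_e L369743) q10599, e3 q12730 L621482 q10647, e3 q12731 L372548 q12731, e3 q12732 L648181 q12732, e3 q12733 L373231 q12733, e3 q12734 L373236 q12734, e3 q12735 L641002 q10771, trivial⟩ (by decide +kernel)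

theorem ce_e_199 : ∀ r, r < 64 → sm ge (Qf (12736 + r)) = Qf (tab Gen.e (12736 + r)) :=
  edges_tab (sm ge) Qf (tab Gen.e) 12736 [(12736, 12736), (12737, 12737), (12738, 12738), (12739, 12739), (12740, 10639), (12741, 10928), (12742, 10632), (12743, 13895), (12744, 10636), (12745, 14985), (12746, 14986), (12747, 10641), (12748, 14982), (12749, 10640), (12750, 14988), (12751, 12751), (12752, 12752), (12753, 10648), (12754, 12754), (12755, 13960), (12756, 10946), (12757, 10952), (12758, 12758), (12759, 10941), (12760, 10654), (12761, 14997), (12762, 10652), (12763, 15000), (12764, 10657), (12765, 10656), (12766, 14312), (12767, 15002), (12768, 12768), (12769, 12769), (12770, 12770), (12771, 12771), (12772, 12772), (12773, 12773), (12774, 12774), (12775, 12775), (12776, 10807), (12777, 10697), (12778, 11036), (12779, 11591), (12780, 10763), (12781, 10764), (12782, 11041), (12783, 10679), (12784, 11043), (12785, 11044), (12786, 13995), (12787, 10774), (12788, 11430), (12789, 11431), (12790, 10795), (12791, 10691), (12792, 10986),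 (12793, 10692), (12794, 15022), (12795, 10808), (12796, 15026), (12797, 10699), (12798, 10695), (12799, 15028)]
    ⟨e3 q12736 L373262 q12736, e3 q12737 L373286 q12737, e3 q12738 L373305 q12738, e3 q12739 L373375 q12739, e3 q12740 L621539 q10639, e3 q12741 L521716 q10928, e3 q12742 L374043 q10632, e3 q12743 (flp_e L652656) q13895, e3 q12744 L374308 q10636, e3 q12745 (flp_e L664477) q14985, e3 q12746 L664485 q14986, e3 q12747 L374445 q10641, e3 q12748 (flp_e L664436) q14982, e3 q12749 (flp_e L374479) q10640, e3 q12750 (flp_e L664514) q14988, e3 q12751 L374541 q12751, e3 q12752 L374562 q12752, e3 q12753 L374568 q10648, e3 q12754 L374586 q12754, e3 q12755 (flp_e L653554) q13960, e3 q12756 L621653 q10946, e3 q12757 L621674 q10952, e3 q12758 L374655 q12758, e3 q12759 L612246 q10941, e3 q12760 L374682 q10654, e3 q12761 L664623 q14997, e3 q12762 (flp_e L374692) q10652, e3 q12763 (flp_e L664658) q15000, e3 q12764 L374759 q10657, e3 q12765 L374766 q10656, e3 q12766 (flp_e L657624) q14312, e3 q12767 (flp_e L664675) q15002, e3 q12768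 L374836 q12768, e3 q12769 L374847 q12769, e3 q12770 L374860 q12770, e3 q12771 L374869 q12771, e3 q12772 L374874 q12772, e3 q12773 L374883 q12773, e3 q12774 L374986 q12774, e3 q12775 L374996 q12775, e3 q12776 L611664 q10807, e3 q12777 (flp_e L622170) q10697, e3 q12778 L576776 q11036, e3 q12779 L375829 q11591, e3 q12780 L375839 q10763, e3 q12781 L375851 q10764, e3 q12782 L521721 q11041, e3 q12783 L375877 q10679, e3 q12784 L521687 q11043, e3 q12785 L521711 q11044, e3 q12786 (flp_e L653977) q13995, e3 q12787 L376015 q10774, e3 q12788 L648426 q11430, e3 q12789 (flp_e L648791) q11431, e3 q12790 L376195 q10795, e3 q12791 L376213 q10691, e3 q12792 L552239 q10986, e3 q12793 L376230 q10692, e3 q12794 (flp_e L664908) q15022, e3 q12795 L376393 q10808, e3 q12796 L664944 q15026, e3 q12797 L376419 q10699, e3 q12798 (flp_e L376429) q10695, e3 q12799 (flp_e L664974) q15028, trivial⟩ (by decide +kernel)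

theorem ce_e_200 : ∀ r, r < 64 → sm ge (Qf (12800 + r)) = Qf (tab Gen.e (12800 + r)) :=
  edges_tab (sm ge) Qf (tab Gen.e) 12800 [(12800, 15011), (12801, 10698), (12802, 15031), (12803, 10701), (12804, 10820), (12805, 10821), (12806, 11560), (12807, 10823), (12808, 12808), (12809, 10708), (12810, 12810), (12811, 12811), (12812, 11266), (12813, 11069), (12814, 11080), (12815, 10711), (12816, 15042), (12817, 10840), (12818, 10841), (12819, 15048), (12820, 10843), (12821, 11060), (12822, 10721), (12823, 15053), (12824, 10716), (12825, 15056), (12826, 15058), (12827, 10718), (12828, 15061), (12829, 13980), (12830, 10720), (12831, 15065), (12832, 10857), (12833, 10723), (12834, 10726), (12835, 10727), (12836, 15068), (12837, 15069), (12838, 10863), (12839, 14027), (12840, 10865), (12841, 15075), (12842, 10730), (12843, 15077), (12844, 12844), (12845, 12845), (12846, 12846), (12847, 12847), (12848, 12848), (12849, 12849), (12850, 12850), (12851, 10878), (12852, 14041), (12853, 11159), (12854, 11172), (12855, 10744), (12856, 12856),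 (12857, 12857), (12858, 12858), (12859, 12859), (12860, 12860), (12861, 12861), (12862, 12862), (12863, 15092)]
    ⟨e3 q12800 (flp_e L664786) q15011, e3 q12801 (flp_e L376462) q10698, e3 q12802 (flp_e L665002) q15031, e3 q12803 L376496 q10701, e3 q12804 L376539 q10820, e3 q12805 L376546 q10821, e3 q12806 L649353 q11560, e3 q12807 L376564 q10823, e3 q12808 L376575 q12808, e3 q12809 L376581 q10708, e3 q12810 L376599 q12810, e3 q12811 L376618 q12811, e3 q12812 L611451 q11266, e3 q12813 L611547 q11069, e3 q12814 (flp_e L622063) q11080, e3 q12815 (flp_e L376669) q10711, e3 q12816 (flp_e L665144) q15042, e3 q12817 L376689 q10840, e3 q12818 L376697 q10841, e3 q12819 L665196 q15048, e3 q12820 L376715 q10843, e3 q12821 L611615 q11060, e3 q12822 L376731 q10721, e3 q12823 L665242 q15053, e3 q12824 (flp_e L376741) q10716, e3 q12825 (flp_e L665277) q15056, e3 q12826 L665289 q15058, e3 q12827 (flp_e L376763) q10718, e3 q12828 (flp_e L665314) q15061, e3 q12829 (flp_e L653815) q13980, e3 q12830 L376786 q10720, e3 q12831 (flp_e L665338)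 q15065, e3 q12832 L376819 q10857, e3 q12833 L376826 q10723, e3 q12834 L376846 q10726, e3 q12835 L376855 q10727, e3 q12836 (flp_e L665367) q15068, e3 q12837 (flp_e L665376) q15069, e3 q12838 L376907 q10863, e3 q12839 (flp_e L654372) q14027, e3 q12840 L376923 q10865, e3 q12841 L665433 q15075, e3 q12842 (flp_e L376933) q10730, e3 q12843 (flp_e L665460) q15077, e3 q12844 L376950 q12844, e3 q12845 L376959 q12845, e3 q12846 L376964 q12846, e3 q12847 L376973 q12847, e3 q12848 L376980 q12848, e3 q12849 L376994 q12849, e3 q12850 L376999 q12850, e3 q12851 L377010 q10878, e3 q12852 (flp_e L654542) q14041, e3 q12853 L641033 q11159, e3 q12854 L634918 q11172, e3 q12855 L377066 q10744, e3 q12856 L377078 q12856, e3 q12857 L377088 q12857, e3 q12858 L377101 q12858, e3 q12859 L377111 q12859, e3 q12860 L377119 q12860, e3 q12861 L377129 q12861, e3 q12862 L377134 q12862, e3 q12863 L665607 q15092, trivial⟩ (by decide +kernel)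

theorem ce_e_201 : ∀ r, r < 64 → sm ge (Qf (12864 + r)) = Qf (tab Gen.e (12864 + r)) :=
  edges_tab (sm ge) Qf (tab Gen.e) 12864 [(12864, 10787), (12865, 10788), (12866, 10789), (12867, 10790), (12868, 10791), (12869, 10792), (12870, 10758), (12871, 10802), (12872, 15099), (12873, 11596), (12874, 11199), (12875, 11597), (12876, 11201), (12877, 13944), (12878, 13993), (12879, 15110), (12880, 15015), (12881, 11206), (12882, 10770), (12883, 11208), (12884, 11209), (12885, 11210), (12886, 11211), (12887, 11212), (12888, 13994), (12889, 14168), (12890, 14169), (12891, 11501), (12892, 11502), (12893, 11503), (12894, 11504), (12895, 11505), (12896, 11506), (12897, 11507), (12898, 11508), (12899, 14184), (12900, 14185), (12901, 14186), (12902, 13833), (12903, 13834), (12904, 13835), (12905, 15093), (12906, 15094), (12907, 15095), (12908, 15096), (12909, 15097), (12910, 15143), (12911, 11134), (12912, 11598), (12913, 11599), (12914, 10998), (12915, 15020), (12916, 10800), (12917, 11125), (12918, 10801), (12919, 11127), (12920, 15150),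 (12921, 15100), (12922, 11595), (12923, 14688), (12924, 11601), (12925, 14016), (12926, 14694), (12927, 13896)]
    ⟨e3 q12864 L377815 q10787, e3 q12865 L377826 q10788, e3 q12866 L377833 q10789, e3 q12867 L377842 q10790, e3 q12868 L377853 q10791, e3 q12869 L377862 q10792, e3 q12870 (flp_e L378350) q10758, e3 q12871 L615090 q10802, e3 q12872 (flp_e L665689) q15099, e3 q12873 L378382 q11596, e3 q12874 L534180 q11199, e3 q12875 L378400 q11597, e3 q12876 L534109 q11201, e3 q12877 L653342 q13944, e3 q12878 (flp_e L653939) q13993, e3 q12879 L665813 q15110, e3 q12880 (flp_e L664828) q15015, e3 q12881 L575940 q11206, e3 q12882 L378476 q10770, e3 q12883 L534708 q11208, e3 q12884 L575896 q11209, e3 q12885 L547422 q11210, e3 q12886 L507862 q11211, e3 q12887 L507884 q11212, e3 q12888 (flp_e L653959) q13994, e3 q12889 (flp_e L655963) q14168, e3 q12890 (flp_e L655978) q14169, e3 q12891 (flp_e L648521) q11501, e3 q12892 L648580 q11502, e3 q12893 (flp_e L648519) q11503, e3 q12894 (flp_e L648523) q11504, e3 q12895 (flp_e L648368) q11505,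 e3 q12896 (flp_e L648529) q11506, e3 q12897 (flp_e L648531) q11507, e3 q12898 (flp_e L648366) q11508, e3 q12899 (flp_e L656131) q14184, e3 q12900 (flp_e L656145) q14185, e3 q12901 (flp_e L656154) q14186, e3 q12902 (flp_e L651745) q13833, e3 q12903 (flp_e L651761) q13834, e3 q12904 (flp_e L651773) q13835, e3 q12905 (flp_e L665624) q15093, e3 q12906 (flp_e L665637) q15094, e3 q12907 (flp_e L665646) q15095, e3 q12908 (flp_e L665659) q15096, e3 q12909 (flp_e L665669) q15097, e3 q12910 L666146 q15143, e3 q12911 L616105 q11134, e3 q12912 L378942 q11598, e3 q12913 L378961 q11599, e3 q12914 L615394 q10998, e3 q12915 (flp_e L664881) q15020, e3 q12916 L378989 q10800, e3 q12917 L534703 q11125, e3 q12918 L379009 q10801, e3 q12919 L534658 q11127, e3 q12920 (flp_e L666239) q15150, e3 q12921 (flp_e L665702) q15100, e3 q12922 (flp_e L614939) q11595, e3 q12923 L661363 q14688, e3 q12924 L379251 q11601, e3 q12925 L654246 q14016, e3 q12926 (flp_e L661417) q14694, e3 q12927 L652680 q13896, trivial⟩ (by decide +kernel)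

theorem ce_e_202 : ∀ r, r < 64 → sm ge (Qf (12928 + r)) = Qf (tab Gen.e (12928 + r)) :=
  edges_tab (sm ge) Qf (tab Gen.e) 12928 [(12928, 15009), (12929, 15165), (12930, 15025), (12931, 15168), (12932, 10816), (12933, 15171), (12934, 10810), (12935, 15174), (12936, 14004), (12937, 10812), (12938, 15177), (12939, 10814), (12940, 15179), (12941, 10815), (12942, 15181), (12943, 15030), (12944, 10818), (12945, 15032), (12946, 15186), (12947, 15034), (12948, 15189), (12949, 10822), (12950, 15191), (12951, 12951), (12952, 12952), (12953, 12953), (12954, 12954), (12955, 12955), (12956, 12956), (12957, 12957), (12958, 12958), (12959, 10833), (12960, 11642), (12961, 11638), (12962, 15208), (12963, 15203), (12964, 11636), (12965, 11605), (12966, 15213), (12967, 10835), (12968, 15216), (12969, 15218), (12970, 10837), (12971, 15220), (12972, 14128), (12973, 10839), (12974, 15224), (12975, 15044), (12976, 15228), (12977, 15046), (12978, 15231), (12979, 10842), (12980, 15234), (12981, 15237), (12982, 10844), (12983, 15240), (12984, 15243),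 (12985, 10846), (12986, 15246), (12987, 15233), (12988, 10848), (12989, 15250), (12990, 15251), (12991, 10849)]
    ⟨e3 q12928 (flp_e L664758) q15009, e3 q12929 L666384 q15165, e3 q12930 (flp_e L664938) q15025, e3 q12931 L666405 q15168, e3 q12932 L379323 q10816, e3 q12933 L666433 q15171, e3 q12934 (flp_e L379336) q10810, e3 q12935 (flp_e L666468) q15174, e3 q12936 L654105 q14004, e3 q12937 (flp_e L379357) q10812, e3 q12938 (flp_e L666496) q15177, e3 q12939 L379387 q10814, e3 q12940 (flp_e L666512) q15179, e3 q12941 (flp_e L379395) q10815, e3 q12942 (flp_e L666537) q15181, e3 q12943 (flp_e L664993) q15030, e3 q12944 L379427 q10818, e3 q12945 (flp_e L665015) q15032, e3 q12946 L666587 q15186, e3 q12947 (flp_e L665045) q15034, e3 q12948 L666619 q15189, e3 q12949 (flp_e L379535) q10822, e3 q12950 (flp_e L666644) q15191, e3 q12951 L379555 q12951, e3 q12952 L379567 q12952, e3 q12953 L379573 q12953, e3 q12954 L379584 q12954, e3 q12955 L379592 q12955, e3 q12956 L379599 q12956, e3 q12957 L379609 q12957, e3 q12958 L379617 q12958, e3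 q12959 L379634 q10833, e3 q12960 L648851 q11642, e3 q12961 L648853 q11638, e3 q12962 L666804 q15208, e3 q12963 (flp_e L666760) q15203, e3 q12964 L648855 q11636, e3 q12965 L379684 q11605, e3 q12966 L666848 q15213, e3 q12967 (flp_e L379696) q10835, e3 q12968 (flp_e L666883) q15216, e3 q12969 L666897 q15218, e3 q12970 (flp_e L379722) q10837, e3 q12971 (flp_e L666924) q15220, e3 q12972 (flp_e L655585) q14128, e3 q12973 L379750 q10839, e3 q12974 (flp_e L666959) q15224, e3 q12975 (flp_e L665162) q15044, e3 q12976 L666988 q15228, e3 q12977 (flp_e L665184) q15046, e3 q12978 L667012 q15231, e3 q12979 (flp_e L379793) q10842, e3 q12980 (flp_e L667034) q15234, e3 q12981 L667051 q15237, e3 q12982 (flp_e L379812) q10844, e3 q12983 (flp_e L667086) q15240, e3 q12984 L667106 q15243, e3 q12985 (flp_e L379838) q10846, e3 q12986 (flp_e L667135) q15246, e3 q12987 (flp_e L667028) q15233, e3 q12988 L379865 q10848, e3 q12989 (flp_e L667165) q15250, e3 q12990 L667169 q15251, e3 q12991 (flp_e L379882) q10849, trivial⟩ (by decide +kernel)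

theorem ce_e_203 : ∀ r, r < 64 → sm ge (Qf (12992 + r)) = Qf (tab Gen.e (12992 + r)) :=
  edges_tab (sm ge) Qf (tab Gen.e) 12992 [(12992, 15254), (12993, 14149), (12994, 10851), (12995, 15258), (12996, 14152), (12997, 14153), (12998, 10854), (12999, 11059), (13000, 10856), (13001, 15066), (13002, 15067), (13003, 10861), (13004, 10862), (13005, 15266), (13006, 14028), (13007, 15071), (13008, 15270), (13009, 10864), (13010, 15272), (13011, 15275), (13012, 10866), (13013, 15278), (13014, 10868), (13015, 15280), (13016, 13016), (13017, 13017), (13018, 13018), (13019, 13019), (13020, 13020), (13021, 13021), (13022, 13022), (13023, 13023), (13024, 15289), (13025, 14043), (13026, 14925), (13027, 10879), (13028, 15292), (13029, 10881), (13030, 15294), (13031, 14935), (13032, 10882), (13033, 15296), (13034, 11300), (13035, 10884), (13036, 15299), (13037, 10886), (13038, 13038), (13039, 13039), (13040, 13040), (13041, 13041), (13042, 13042), (13043, 11483), (13044, 13044), (13045, 13813), (13046, 10895), (13047, 10915), (13048, 10900),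 (13049, 14984), (13050, 10901), (13051, 15308), (13052, 10908), (13053, 13053), (13054, 13054), (13055, 13997)]
    ⟨e3 q12992 (flp_e L667213) q15254, e3 q12993 (flp_e L655794) q14149, e3 q12994 L379910 q10851, e3 q12995 (flp_e L667240) q15258, e3 q12996 (flp_e L655820) q14152, e3 q12997 (flp_e L655828) q14153, e3 q12998 L379937 q10854, e3 q12999 L617266 q11059, e3 q13000 L379954 q10856, e3 q13001 (flp_e L665345) q15066, e3 q13002 (flp_e L665356) q15067, e3 q13003 L380001 q10861, e3 q13004 L380011 q10862, e3 q13005 (flp_e L667304) q15266, e3 q13006 (flp_e L654393) q14028, e3 q13007 (flp_e L665397) q15071, e3 q13008 L667333 q15270, e3 q13009 (flp_e L380088) q10864, e3 q13010 (flp_e L667353) q15272, e3 q13011 L667374 q15275, e3 q13012 (flp_e L380113) q10866, e3 q13013 (flp_e L667397) q15278, e3 q13014 L380129 q10868, e3 q13015 (flp_e L667411) q15280, e3 q13016 L380141 q13016, e3 q13017 L380152 q13017, e3 q13018 L380160 q13018, e3 q13019 L380169 q13019, e3 q13020 L380179 q13020, e3 q13021 L380186 q13021, e3 q13022 L380196 q13022,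 e3 q13023 L380204 q13023, e3 q13024 L667482 q15289, e3 q13025 (flp_e L654572) q14043, e3 q13026 (flp_e L663717) q14925, e3 q13027 (flp_e L380243) q10879, e3 q13028 (flp_e L667513) q15292, e3 q13029 L380266 q10881, e3 q13030 (flp_e L667533) q15294, e3 q13031 (flp_e L663857) q14935, e3 q13032 (flp_e L380287) q10882, e3 q13033 (flp_e L667552) q15296, e3 q13034 L380305 q11300, e3 q13035 L380312 q10884, e3 q13036 (flp_e L667583) q15299, e3 q13037 L380326 q10886, e3 q13038 L380334 q13038, e3 q13039 L380346 q13039, e3 q13040 L380355 q13040, e3 q13041 L380367 q13041, e3 q13042 L380374 q13042, e3 q13043 (flp_e L649293) q11483, e3 q13044 L380391 q13044, e3 q13045 (flp_e L651491) q13813, e3 q13046 (flp_e L380402) q10895, e3 q13047 (flp_e L617191) q10915, e3 q13048 L380553 q10900, e3 q13049 (flp_e L664466) q14984, e3 q13050 L380569 q10901, e3 q13051 (flp_e L667694) q15308, e3 q13052 L380702 q10908, e3 q13053 L380712 q13053, e3 q13054 L380723 q13054, e3 q13055 (flp_e L654012) q13997, trivial⟩ (by decide +kernel)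

theorem ce_e_204 : ∀ r, r < 64 → sm ge (Qf (13056 + r)) = Qf (tab Gen.e (13056 + r)) :=
  edges_tab (sm ge) Qf (tab Gen.e) 13056 [(13056, 15307), (13057, 11612), (13058, 15305), (13059, 10916), (13060, 15317), (13061, 10912), (13062, 15319), (13063, 13996), (13064, 15306), (13065, 10918), (13066, 13066), (13067, 13067), (13068, 14981), (13069, 11613), (13070, 13070), (13071, 10930), (13072, 13886), (13073, 10931), (13074, 13884), (13075, 14983), (13076, 15326), (13077, 13077), (13078, 13078), (13079, 13798), (13080, 13080), (13081, 10939), (13082, 11390), (13083, 11391), (13084, 11392), (13085, 14994), (13086, 14995), (13087, 13087), (13088, 13088), (13089, 15339), (13090, 13090), (13091, 10951), (13092, 13875), (13093, 14991), (13094, 15345), (13095, 10948), (13096, 15348), (13097, 14330), (13098, 10950), (13099, 15352), (13100, 10955), (13101, 10956), (13102, 15353), (13103, 15354), (13104, 13104), (13105, 13801), (13106, 13877), (13107, 10959), (13108, 15356), (13109, 11406), (13110, 11407), (13111, 11408), (13112, 11409),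 (13113, 11410), (13114, 11411), (13115, 11412), (13116, 10969), (13117, 10971), (13118, 15363), (13119, 11421)]
    ⟨e3 q13056 (flp_e L667682) q15307, e3 q13057 L380773 q11612, e3 q13058 (flp_e L667653) q15305, e3 q13059 L380813 q10916, e3 q13060 L667764 q15317, e3 q13061 (flp_e L380825) q10912, e3 q13062 (flp_e L667785) q15319, e3 q13063 (flp_e L653993) q13996, e3 q13064 (flp_e L667664) q15306, e3 q13065 L380885 q10918, e3 q13066 L381007 q13066, e3 q13067 L381014 q13067, e3 q13068 (flp_e L664424) q14981, e3 q13069 L381336 q11613, e3 q13070 L381355 q13070, e3 q13071 L381364 q10930, e3 q13072 L652550 q13886, e3 q13073 L381382 q10931, e3 q13074 (flp_e L652520) q13884, e3 q13075 (flp_e L664452) q14983, e3 q13076 (flp_e L667843) q15326, e3 q13077 L381527 q13077, e3 q13078 L381535 q13078, e3 q13079 (flp_e L651296) q13798, e3 q13080 L381553 q13080, e3 q13081 L381573 q10939, e3 q13082 L381595 q11390, e3 q13083 L381613 q11391, e3 q13084 L381622 q11392, e3 q13085 (flp_e L664591) q14994, e3 q13086 (flp_e L664607) q14995, e3 q13087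 L381692 q13087, e3 q13088 L381699 q13088, e3 q13089 L667952 q15339, e3 q13090 L381712 q13090, e3 q13091 L381725 q10951, e3 q13092 (flp_e L652387) q13875, e3 q13093 (flp_e L664560) q14991, e3 q13094 L667985 q15345, e3 q13095 (flp_e L381755) q10948, e3 q13096 (flp_e L668015) q15348, e3 q13097 (flp_e L657787) q14330, e3 q13098 L381781 q10950, e3 q13099 (flp_e L668039) q15352, e3 q13100 L381838 q10955, e3 q13101 L381846 q10956, e3 q13102 (flp_e L668047) q15353, e3 q13103 (flp_e L668059) q15354, e3 q13104 L381899 q13104, e3 q13105 (flp_e L651337) q13801, e3 q13106 (flp_e L652420) q13877, e3 q13107 (flp_e L381927) q10959, e3 q13108 (flp_e L668078) q15356, e3 q13109 L381958 q11406, e3 q13110 L381966 q11407, e3 q13111 L381977 q11408, e3 q13112 L381985 q11409, e3 q13113 L381994 q11410, e3 q13114 L382005 q11411, e3 q13115 L382013 q11412, e3 q13116 (flp_e L382042) q10969, e3 q13117 L382084 q10971, e3 q13118 (flp_e L668141) q15363, e3 q13119 L382096 q11421, trivial⟩ (by decide +kernel)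

theorem ce_e_205 : ∀ r, r < 64 → sm ge (Qf (13120 + r)) = Qf (tab Gen.e (13120 + r)) :=
  edges_tab (sm ge) Qf (tab Gen.e) 13120 [(13120, 11422), (13121, 11424), (13122, 11425), (13123, 11426), (13124, 11427), (13125, 11428), (13126, 11120), (13127, 11194), (13128, 11010), (13129, 13977), (13130, 11615), (13131, 11122), (13132, 11123), (13133, 10988), (13134, 15021), (13135, 10989), (13136, 14552), (13137, 15023), (13138, 15376), (13139, 11129), (13140, 11130), (13141, 14920), (13142, 11131), (13143, 10997), (13144, 13144), (13145, 13145), (13146, 13146), (13147, 13147), (13148, 13148), (13149, 15146), (13150, 15375), (13151, 11616), (13152, 14573), (13153, 11000), (13154, 15396), (13155, 11141), (13156, 11142), (13157, 15401), (13158, 11144), (13159, 15369), (13160, 11011), (13161, 15404), (13162, 11005), (13163, 15407), (13164, 15410), (13165, 11007), (13166, 15412), (13167, 11009), (13168, 15414), (13169, 15370), (13170, 11157), (13171, 11013), (13172, 11161), (13173, 15416), (13174, 11017), (13175, 15418), (13176, 13176),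 (13177, 13177), (13178, 13178), (13179, 13179), (13180, 13180), (13181, 11027), (13182, 15424), (13183, 13183)]
    ⟨e3 q13120 L382108 q11422, e3 q13121 L382126 q11424, e3 q13122 L382136 q11425, e3 q13123 L382145 q11426, e3 q13124 L382155 q11427, e3 q13125 L382163 q11428, e3 q13126 L382205 q11120, e3 q13127 L617176 q11194, e3 q13128 (flp_e L622178) q11010, e3 q13129 L653781 q13977, e3 q13130 L382371 q11615, e3 q13131 L382381 q11122, e3 q13132 L382393 q11123, e3 q13133 L382403 q10988, e3 q13134 (flp_e L664897) q15021, e3 q13135 L382419 q10989, e3 q13136 L660001 q14552, e3 q13137 (flp_e L664924) q15023, e3 q13138 (flp_e L668290) q15376, e3 q13139 L382546 q11129, e3 q13140 L382555 q11130, e3 q13141 (flp_e L663651) q14920, e3 q13142 L382574 q11131, e3 q13143 L382594 q10997, e3 q13144 L382604 q13144, e3 q13145 L382615 q13145, e3 q13146 L382620 q13146, e3 q13147 L382629 q13147, e3 q13148 L382635 q13148, e3 q13149 (flp_e L666194) q15146, e3 q13150 (flp_e L668278) q15375, e3 q13151 L382678 q11616, e3 q13152 L660163 q14573, e3 q13153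 (flp_e L382689) q11000, e3 q13154 (flp_e L668447) q15396, e3 q13155 L382703 q11141, e3 q13156 L382711 q11142, e3 q13157 L668479 q15401, e3 q13158 L382725 q11144, e3 q13159 (flp_e L668211) q15369, e3 q13160 L382739 q11011, e3 q13161 L668495 q15404, e3 q13162 (flp_e L382751) q11005, e3 q13163 (flp_e L668522) q15407, e3 q13164 L668536 q15410, e3 q13165 (flp_e L382767) q11007, e3 q13166 (flp_e L668554) q15412, e3 q13167 L382786 q11009, e3 q13168 (flp_e L668564) q15414, e3 q13169 (flp_e L668222) q15370, e3 q13170 L382813 q11157, e3 q13171 L382818 q11013, e3 q13172 L382904 q11161, e3 q13173 L668575 q15416, e3 q13174 (flp_e L382917) q11017, e3 q13175 (flp_e L668593) q15418, e3 q13176 L382960 q13176, e3 q13177 L382967 q13177, e3 q13178 L382977 q13178, e3 q13179 L382985 q13179, e3 q13180 L382990 q13180, e3 q13181 L383057 q11027, e3 q13182 (flp_e L668636) q15424, e3 q13183 L383119 q13183, trivial⟩ (by decide +kernel)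

theorem ce_e_206 : ∀ r, r < 64 → sm ge (Qf (13184 + r)) = Qf (tab Gen.e (13184 + r)) :=
  edges_tab (sm ge) Qf (tab Gen.e) 13184 [(13184, 13184), (13185, 15427), (13186, 11617), (13187, 11034), (13188, 15180), (13189, 15010), (13190, 11618), (13191, 15012), (13192, 15013), (13193, 11202), (13194, 11203), (13195, 15439), (13196, 11205), (13197, 13974), (13198, 11045), (13199, 13972), (13200, 15016), (13201, 14322), (13202, 15017), (13203, 15018), (13204, 11213), (13205, 13818), (13206, 11215), (13207, 14155), (13208, 11048), (13209, 15451), (13210, 11434), (13211, 11435), (13212, 11436), (13213, 11437), (13214, 11438), (13215, 11439), (13216, 11610), (13217, 15459), (13218, 15263), (13219, 15050), (13220, 15051), (13221, 15464), (13222, 11062), (13223, 15467), (13224, 14555), (13225, 11064), (13226, 15470), (13227, 11242), (13228, 15474), (13229, 11244), (13230, 15477), (13231, 11067), (13232, 15480), (13233, 13948), (13234, 15040), (13235, 15486), (13236, 11071), (13237, 15489), (13238, 15479), (13239, 11073), (13240, 15493),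 (13241, 15494), (13242, 11074), (13243, 15497), (13244, 14576), (13245, 11076), (13246, 15501), (13247, 14579)]
    ⟨e3 q13184 L383124 q13184, e3 q13185 L668652 q15427, e3 q13186 (flp_e L504809) q11617, e3 q13187 (flp_e L383384) q11034, e3 q13188 (flp_e L666528) q15180, e3 q13189 (flp_e L664774) q15010, e3 q13190 L383431 q11618, e3 q13191 (flp_e L664798) q15012, e3 q13192 (flp_e L664810) q15013, e3 q13193 L383462 q11202, e3 q13194 L383470 q11203, e3 q13195 L668747 q15439, e3 q13196 L383488 q11205, e3 q13197 L653739 q13974, e3 q13198 L383504 q11045, e3 q13199 (flp_e L653711) q13972, e3 q13200 (flp_e L664842) q15016, e3 q13201 (flp_e L657712) q14322, e3 q13202 (flp_e L664854) q15017, e3 q13203 (flp_e L664862) q15018, e3 q13204 L383697 q11213, e3 q13205 (flp_e L651563) q13818, e3 q13206 L383716 q11215, e3 q13207 (flp_e L655851) q14155, e3 q13208 (flp_e L383729) q11048, e3 q13209 (flp_e L668846) q15451, e3 q13210 L383764 q11434, e3 q13211 L383782 q11435, e3 q13212 L383791 q11436, e3 q13213 L383799 q11437, e3 q13214 L383809 q11438,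 e3 q13215 L383817 q11439, e3 q13216 (flp_e L648971) q11610, e3 q13217 L668908 q15459, e3 q13218 (flp_e L667275) q15263, e3 q13219 (flp_e L665212) q15050, e3 q13220 (flp_e L665228) q15051, e3 q13221 L668938 q15464, e3 q13222 (flp_e L383898) q11062, e3 q13223 (flp_e L668959) q15467, e3 q13224 (flp_e L660025) q14555, e3 q13225 L383919 q11064, e3 q13226 (flp_e L668975) q15470, e3 q13227 L383929 q11242, e3 q13228 L668999 q15474, e3 q13229 L383943 q11244, e3 q13230 L669019 q15477, e3 q13231 (flp_e L383955) q11067, e3 q13232 (flp_e L669041) q15480, e3 q13233 (flp_e L653397) q13948, e3 q13234 (flp_e L665122) q15040, e3 q13235 L669071 q15486, e3 q13236 (flp_e L383989) q11071, e3 q13237 (flp_e L669099) q15489, e3 q13238 (flp_e L669035) q15479, e3 q13239 L384013 q11073, e3 q13240 (flp_e L669123) q15493, e3 q13241 L669127 q15494, e3 q13242 (flp_e L384025) q11074, e3 q13243 (flp_e L669151) q15497, e3 q13244 (flp_e L660189) q14576, e3 q13245 L384049 q11076, e3 q13246 (flp_e L669175) q15501, e3 q13247 (flp_e L660208) q14579, trivial⟩ (by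 decide +kernel)

theorem ce_e_207 : ∀ r, r < 64 → sm ge (Qf (13248 + r)) = Qf (tab Gen.e (13248 + r)) :=
  edges_tab (sm ge) Qf (tab Gen.e) 13248 [(13248, 14580), (13249, 11079), (13250, 11268), (13251, 11269), (13252, 11085), (13253, 11086), (13254, 15508), (13255, 14977), (13256, 11274), (13257, 14098), (13258, 11088), (13259, 15513), (13260, 15516), (13261, 11090), (13262, 15519), (13263, 11092), (13264, 15521), (13265, 11472), (13266, 11473), (13267, 11474), (13268, 11475), (13269, 11476), (13270, 11477), (13271, 11478), (13272, 11479), (13273, 15529), (13274, 14910), (13275, 15532), (13276, 11103), (13277, 15534), (13278, 11105), (13279, 15300), (13280, 15536), (13281, 11106), (13282, 15539), (13283, 11171), (13284, 11108), (13285, 15542), (13286, 11110), (13287, 11490), (13288, 11491), (13289, 11492), (13290, 11493), (13291, 11494), (13292, 15547), (13293, 11496), (13294, 15550), (13295, 11119), (13296, 14485), (13297, 15372), (13298, 15555), (13299, 15374), (13300, 15149), (13301, 11128), (13302, 15151), (13303, 15152),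 (13304, 15084), (13305, 15381), (13306, 11135), (13307, 14056), (13308, 15144), (13309, 15565), (13310, 15561), (13311, 15567)]
    ⟨e3 q13248 (flp_e L660214) q14580, e3 q13249 L384067 q11079, e3 q13250 L384101 q11268, e3 q13251 L384111 q11269, e3 q13252 L384129 q11085, e3 q13253 L384137 q11086, e3 q13254 (flp_e L669219) q15508, e3 q13255 (flp_e L664378) q14977, e3 q13256 L384198 q11274, e3 q13257 (flp_e L655236) q14098, e3 q13258 (flp_e L384209) q11088, e3 q13259 (flp_e L669263) q15513, e3 q13260 L669285 q15516, e3 q13261 (flp_e L384237) q11090, e3 q13262 (flp_e L669312) q15519, e3 q13263 L384256 q11092, e3 q13264 (flp_e L669327) q15521, e3 q13265 L384269 q11472, e3 q13266 L384280 q11473, e3 q13267 L384288 q11474, e3 q13268 L384297 q11475, e3 q13269 L384308 q11476, e3 q13270 L384316 q11477, e3 q13271 L384327 q11478, e3 q13272 L384335 q11479, e3 q13273 L669391 q15529, e3 q13274 (flp_e L663554) q14910, e3 q13275 L669414 q15532, e3 q13276 (flp_e L384369) q11103, e3 q13277 (flp_e L669440) q15534, e3 q13278 L384393 q11105, e3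 q13279 L667597 q15300, e3 q13280 L669456 q15536, e3 q13281 (flp_e L384413) q11106, e3 q13282 (flp_e L669489) q15539, e3 q13283 L645479 q11171, e3 q13284 L384438 q11108, e3 q13285 (flp_e L669522) q15542, e3 q13286 L384453 q11110, e3 q13287 L384460 q11490, e3 q13288 L384470 q11491, e3 q13289 L384479 q11492, e3 q13290 L384489 q11493, e3 q13291 L384497 q11494, e3 q13292 L669562 q15547, e3 q13293 L384513 q11496, e3 q13294 L669579 q15550, e3 q13295 (flp_e L384521) q11119, e3 q13296 L659380 q14485, e3 q13297 (flp_e L668244) q15372, e3 q13298 L669627 q15555, e3 q13299 (flp_e L668262) q15374, e3 q13300 (flp_e L666228) q15149, e3 q13301 L384923 q11128, e3 q13302 (flp_e L666254) q15151, e3 q13303 (flp_e L666264) q15152, e3 q13304 (flp_e L665522) q15084, e3 q13305 (flp_e L668333) q15381, e3 q13306 L385254 q11135, e3 q13307 L654731 q14056, e3 q13308 (flp_e L666165) q15144, e3 q13309 L669705 q15565, e3 q13310 (flp_e L669674) q15561, e3 q13311 L669715 q15567, trivial⟩ (by decide +kernel)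

theorem ce_e_208 : ∀ r, r < 64 → sm ge (Qf (13312 + r)) = Qf (tab Gen.e (13312 + r)) :=
  edges_tab (sm ge) Qf (tab Gen.e) 13312 [(13312, 11629), (13313, 11137), (13314, 15570), (13315, 11140), (13316, 15572), (13317, 15074), (13318, 15576), (13319, 15399), (13320, 15579), (13321, 11143), (13322, 15582), (13323, 15585), (13324, 11145), (13325, 15588), (13326, 15590), (13327, 11147), (13328, 15593), (13329, 15581), (13330, 11149), (13331, 15596), (13332, 11150), (13333, 15597), (13334, 11152), (13335, 15599), (13336, 11154), (13337, 15368), (13338, 11156), (13339, 15415), (13340, 15538), (13341, 15085), (13342, 15605), (13343, 11160), (13344, 15607), (13345, 15609), (13346, 11162), (13347, 15612), (13348, 11164), (13349, 13349), (13350, 13350), (13351, 13351), (13352, 13352), (13353, 13353), (13354, 15541), (13355, 14906), (13356, 14909), (13357, 11175), (13358, 15298), (13359, 11354), (13360, 11176), (13361, 15618), (13362, 11178), (13363, 14723), (13364, 11180), (13365, 13365), (13366, 13366), (13367, 13367), (13368, 13368),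 (13369, 13369), (13370, 11482), (13371, 13371), (13372, 14072), (13373, 11189), (13374, 14714), (13375, 11624)]
    ⟨e3 q13312 L385300 q11629, e3 q13313 (flp_e L385315) q11137, e3 q13314 (flp_e L669749) q15570, e3 q13315 L385361 q11140, e3 q13316 (flp_e L669765) q15572, e3 q13317 L665431 q15074, e3 q13318 L669792 q15576, e3 q13319 (flp_e L668465) q15399, e3 q13320 L669810 q15579, e3 q13321 (flp_e L385400) q11143, e3 q13322 (flp_e L669830) q15582, e3 q13323 L669845 q15585, e3 q13324 (flp_e L385415) q11145, e3 q13325 (flp_e L669876) q15588, e3 q13326 L669888 q15590, e3 q13327 (flp_e L385435) q11147, e3 q13328 (flp_e L669915) q15593, e3 q13329 (flp_e L669826) q15581, e3 q13330 L385458 q11149, e3 q13331 (flp_e L669937) q15596, e3 q13332 (flp_e L385473) q11150, e3 q13333 (flp_e L669948) q15597, e3 q13334 L385497 q11152, e3 q13335 (flp_e L669960) q15599, e3 q13336 L385518 q11154, e3 q13337 (flp_e L668195) q15368, e3 q13338 L385531 q11156, e3 q13339 (flp_e L668571) q15415, e3 q13340 (flp_e L669481) q15538, e3 q13341 (flp_e L665537)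 q15085, e3 q13342 L670006 q15605, e3 q13343 (flp_e L385653) q11160, e3 q13344 (flp_e L670027) q15607, e3 q13345 L670046 q15609, e3 q13346 (flp_e L385680) q11162, e3 q13347 (flp_e L670074) q15612, e3 q13348 L385697 q11164, e3 q13349 L385712 q13349, e3 q13350 L385724 q13350, e3 q13351 L385744 q13351, e3 q13352 L385755 q13352, e3 q13353 L385773 q13353, e3 q13354 (flp_e L669507) q15541, e3 q13355 (flp_e L663502) q14906, e3 q13356 (flp_e L663536) q14909, e3 q13357 L385845 q11175, e3 q13358 (flp_e L667569) q15298, e3 q13359 L615787 q11354, e3 q13360 (flp_e L385868) q11176, e3 q13361 (flp_e L670135) q15618, e3 q13362 L385890 q11178, e3 q13363 (flp_e L661738) q14723, e3 q13364 L385905 q11180, e3 q13365 L385912 q13365, e3 q13366 L385923 q13366, e3 q13367 L385932 q13367, e3 q13368 L385943 q13368, e3 q13369 L385950 q13369, e3 q13370 (flp_e L649281) q11482, e3 q13371 L385969 q13371, e3 q13372 (flp_e L654936) q14072, e3 q13373 (flp_e L385980) q11189, e3 q13374 L661610 q14714, e3 q13375 (flp_e L615357) q11624, trivial⟩ (by decide +kernel)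

theorem ce_e_209 : ∀ r, r < 64 → sm ge (Qf (13376 + r)) = Qf (tab Gen.e (13376 + r)) :=
  edges_tab (sm ge) Qf (tab Gen.e) 13376 [(13376, 11631), (13377, 14393), (13378, 11197), (13379, 11318), (13380, 14717), (13381, 15630), (13382, 15627), (13383, 15103), (13384, 11635), (13385, 15105), (13386, 15106), (13387, 15435), (13388, 15637), (13389, 15437), (13390, 15640), (13391, 11204), (13392, 15642), (13393, 15112), (13394, 15113), (13395, 15114), (13396, 15115), (13397, 15116), (13398, 15117), (13399, 15118), (13400, 15119), (13401, 14976), (13402, 15448), (13403, 15655), (13404, 11214), (13405, 15657), (13406, 15659), (13407, 11216), (13408, 15662), (13409, 11218), (13410, 11516), (13411, 11517), (13412, 11519), (13413, 11520), (13414, 11522), (13415, 11227), (13416, 11228), (13417, 15668), (13418, 11230), (13419, 15608), (13420, 15673), (13421, 15666), (13422, 15676), (13423, 11229), (13424, 15679), (13425, 15682), (13426, 11231), (13427, 15684), (13428, 15687), (13429, 11233), (13430, 15690), (13431, 15678), (13432, 11235),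 (13433, 15694), (13434, 15253), (13435, 11236), (13436, 15696), (13437, 14817), (13438, 11238), (13439, 15700)]
    ⟨e3 q13376 (flp_e L547272) q11631, e3 q13377 L658519 q14393, e3 q13378 L386437 q11197, e3 q13379 L615820 q11318, e3 q13380 L661656 q14717, e3 q13381 L670248 q15630, e3 q13382 (flp_e L670224) q15627, e3 q13383 (flp_e L665738) q15103, e3 q13384 L386491 q11635, e3 q13385 (flp_e L665764) q15105, e3 q13386 (flp_e L665774) q15106, e3 q13387 (flp_e L668715) q15435, e3 q13388 L670305 q15637, e3 q13389 (flp_e L668733) q15437, e3 q13390 L670327 q15640, e3 q13391 (flp_e L386610) q11204, e3 q13392 (flp_e L670347) q15642, e3 q13393 (flp_e L665835) q15112, e3 q13394 (flp_e L665850) q15113, e3 q13395 (flp_e L665859) q15114, e3 q13396 (flp_e L665873) q15115, e3 q13397 (flp_e L665883) q15116, e3 q13398 (flp_e L665895) q15117, e3 q13399 (flp_e L665912) q15118, e3 q13400 (flp_e L665921) q15119, e3 q13401 (flp_e L664364) q14976, e3 q13402 (flp_e L668816) q15448, e3 q13403 L670446 q15655, e3 q13404 (flp_e L386935) q11214, e3 q13405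 (flp_e L670473) q15657, e3 q13406 L670490 q15659, e3 q13407 (flp_e L386964) q11216, e3 q13408 (flp_e L670518) q15662, e3 q13409 L386987 q11218, e3 q13410 L387002 q11516, e3 q13411 L387016 q11517, e3 q13412 L387036 q11519, e3 q13413 L387049 q11520, e3 q13414 L387072 q11522, e3 q13415 L387096 q11227, e3 q13416 L387102 q11228, e3 q13417 L670573 q15668, e3 q13418 L387116 q11230, e3 q13419 L670044 q15608, e3 q13420 L670607 q15673, e3 q13421 (flp_e L670561) q15666, e3 q13422 L670629 q15676, e3 q13423 (flp_e L387151) q11229, e3 q13424 (flp_e L670651) q15679, e3 q13425 L670668 q15682, e3 q13426 (flp_e L387170) q11231, e3 q13427 (flp_e L670693) q15684, e3 q13428 L670713 q15687, e3 q13429 (flp_e L387194) q11233, e3 q13430 (flp_e L670742) q15690, e3 q13431 (flp_e L670647) q15678, e3 q13432 L387221 q11235, e3 q13433 (flp_e L670770) q15694, e3 q13434 (flp_e L667204) q15253, e3 q13435 (flp_e L387238) q11236, e3 q13436 (flp_e L670788) q15696, e3 q13437 (flp_e L662713) q14817, e3 q13438 L387266 q11238, e3 q13439 (flp_e L670817) q15700, trivial⟩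 (by decide +kernel)

theorem ce_e_210 : ∀ r, r < 64 → sm ge (Qf (13440 + r)) = Qf (tab Gen.e (13440 + r)) :=
  edges_tab (sm ge) Qf (tab Gen.e) 13440 [(13440, 14820), (13441, 14821), (13442, 11241), (13443, 15705), (13444, 15472), (13445, 15708), (13446, 11243), (13447, 15711), (13448, 15714), (13449, 11245), (13450, 15718), (13451, 11254), (13452, 11247), (13453, 15722), (13454, 15724), (13455, 11248), (13456, 15727), (13457, 15710), (13458, 11250), (13459, 15731), (13460, 15732), (13461, 11251), (13462, 15735), (13463, 15717), (13464, 11253), (13465, 15739), (13466, 15720), (13467, 15721), (13468, 11256), (13469, 11257), (13470, 15744), (13471, 14850), (13472, 11259), (13473, 15748), (13474, 14853), (13475, 14854), (13476, 11262), (13477, 15754), (13478, 14857), (13479, 14858), (13480, 14859), (13481, 13962), (13482, 15039), (13483, 15506), (13484, 15507), (13485, 11272), (13486, 14964), (13487, 14908), (13488, 11379), (13489, 11275), (13490, 15763), (13491, 11277), (13492, 11299), (13493, 14941), (13494, 11278), (13495,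 15764), (13496, 15716), (13497, 11280), (13498, 15761), (13499, 11282), (13500, 11571), (13501, 11570), (13502, 11567), (13503, 11572)]
    ⟨e3 q13440 (flp_e L662742) q14820, e3 q13441 (flp_e L662749) q14821, e3 q13442 L387291 q11241, e3 q13443 L670849 q15705, e3 q13444 (flp_e L668987) q15472, e3 q13445 L670868 q15708, e3 q13446 (flp_e L387316) q11243, e3 q13447 (flp_e L670892) q15711, e3 q13448 L670908 q15714, e3 q13449 (flp_e L387334) q11245, e3 q13450 (flp_e L670934) q15718, e3 q13451 L387348 q11254, e3 q13452 L387352 q11247, e3 q13453 (flp_e L670954) q15722, e3 q13454 L670963 q15724, e3 q13455 (flp_e L387365) q11248, e3 q13456 (flp_e L670995) q15727, e3 q13457 (flp_e L670888) q15710, e3 q13458 L387393 q11250, e3 q13459 (flp_e L671022) q15731, e3 q13460 L671027 q15732, e3 q13461 (flp_e L387409) q11251, e3 q13462 (flp_e L671055) q15735, e3 q13463 (flp_e L670928) q15717, e3 q13464 L387437 q11253, e3 q13465 (flp_e L671085) q15739, e3 q13466 (flp_e L670944) q15720, e3 q13467 (flp_e L670948) q15721, e3 q13468 L387461 q11256,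 e3 q13469 (flp_e L387465) q11257, e3 q13470 (flp_e L671119) q15744, e3 q13471 (flp_e L662961) q14850, e3 q13472 L387492 q11259, e3 q13473 (flp_e L671146) q15748, e3 q13474 (flp_e L662983) q14853, e3 q13475 (flp_e L662990) q14854, e3 q13476 L387519 q11262, e3 q13477 L671183 q15754, e3 q13478 (flp_e L663019) q14857, e3 q13479 (flp_e L663026) q14858, e3 q13480 (flp_e L663032) q14859, e3 q13481 (flp_e L653588) q13962, e3 q13482 (flp_e L665110) q15039, e3 q13483 (flp_e L669199) q15506, e3 q13484 (flp_e L669209) q15507, e3 q13485 L387608 q11272, e3 q13486 (flp_e L664231) q14964, e3 q13487 (flp_e L663521) q14908, e3 q13488 L629382 q11379, e3 q13489 (flp_e L387707) q11275, e3 q13490 (flp_e L671258) q15763, e3 q13491 L387729 q11277, e3 q13492 L629199 q11299, e3 q13493 (flp_e L663908) q14941, e3 q13494 (flp_e L387753) q11278, e3 q13495 (flp_e L671272) q15764, e3 q13496 (flp_e L670922) q15716, e3 q13497 L387779 q11280, e3 q13498 (flp_e L671236) q15761, e3 q13499 L387795 q11282, e3 q13500 L387805 q11571, e3 q13501 (flp_e L629407) q11570,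 e3 q13502 (flp_e L646670) q11567, e3 q13503 L387840 q11572, trivial⟩ (by decide +kernel)

theorem ce_e_211 : ∀ r, r < 64 → sm ge (Qf (13504 + r)) = Qf (tab Gen.e (13504 + r)) :=
  edges_tab (sm ge) Qf (tab Gen.e) 13504 [(13504, 11565), (13505, 15774), (13506, 11574), (13507, 14094), (13508, 11291), (13509, 14942), (13510, 11515), (13511, 11510), (13512, 11466), (13513, 11311), (13514, 11312), (13515, 14413), (13516, 11313), (13517, 15775), (13518, 15776), (13519, 14731), (13520, 11315), (13521, 14749), (13522, 11316), (13523, 13523), (13524, 14712), (13525, 13525), (13526, 13526), (13527, 13527), (13528, 11481), (13529, 14969), (13530, 11342), (13531, 14727), (13532, 14963), (13533, 14954), (13534, 11345), (13535, 14953), (13536, 11347), (13537, 14966), (13538, 11580), (13539, 15784), (13540, 11356), (13541, 15787), (13542, 11352), (13543, 15789), (13544, 14901), (13545, 15617), (13546, 15794), (13547, 11355), (13548, 15796), (13549, 15798), (13550, 11357), (13551, 15801), (13552, 11359), (13553, 13553), (13554, 13554), (13555,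 13555), (13556, 13556), (13557, 13557), (13558, 14960), (13559, 14933), (13560, 11367), (13561, 14961), (13562, 11369), (13563, 11378), (13564, 13564), (13565, 15805), (13566, 15807), (13567, 15808)]
    ⟨e3 q13504 (flp_e L646407) q11565, e3 q13505 L671360 q15774, e3 q13506 L387868 q11574, e3 q13507 (flp_e L655187) q14094, e3 q13508 (flp_e L387880) q11291, e3 q13509 (flp_e L663923) q14942, e3 q13510 (flp_e L629576) q11515, e3 q13511 (flp_e L646143) q11510, e3 q13512 L648634 q11466, e3 q13513 L389177 q11311, e3 q13514 L389184 q11312, e3 q13515 (flp_e L658711) q14413, e3 q13516 L389199 q11313, e3 q13517 (flp_e L671373) q15775, e3 q13518 (flp_e L671382) q15776, e3 q13519 (flp_e L661862) q14731, e3 q13520 (flp_e L389719) q11315, e3 q13521 (flp_e L662035) q14749, e3 q13522 (flp_e L389743) q11316, e3 q13523 L389827 q13523, e3 q13524 L661585 q14712, e3 q13525 L390071 q13525, e3 q13526 L390079 q13526, e3 q13527 L390097 q13527, e3 q13528 L648650 q11481, e3 q13529 (flp_e L664291) q14969, e3 q13530 L390474 q11342, e3 q13531 (flp_e L661804)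 q14727, e3 q13532 (flp_e L664219) q14963, e3 q13533 L664089 q14954, e3 q13534 (flp_e L390787) q11345, e3 q13535 (flp_e L664063) q14953, e3 q13536 (flp_e L390835) q11347, e3 q13537 (flp_e L664252) q14966, e3 q13538 (flp_e L645846) q11580, e3 q13539 L671445 q15784, e3 q13540 L390987 q11356, e3 q13541 L671469 q15787, e3 q13542 (flp_e L390998) q11352, e3 q13543 (flp_e L671486) q15789, e3 q13544 L663443 q14901, e3 q13545 (flp_e L670123) q15617, e3 q13546 L671519 q15794, e3 q13547 (flp_e L391034) q11355, e3 q13548 (flp_e L671539) q15796, e3 q13549 L671551 q15798, e3 q13550 (flp_e L391058) q11357, e3 q13551 (flp_e L671573) q15801, e3 q13552 L391074 q11359, e3 q13553 L391086 q13553, e3 q13554 L391097 q13554, e3 q13555 L391113 q13555, e3 q13556 L391123 q13556, e3 q13557 L391140 q13557, e3 q13558 (flp_e L664175) q14960, e3 q13559 (flp_e L663834) q14933, e3 q13560 (flp_e L391186) q11367, e3 q13561 (flp_e L664197) q14961, e3 q13562 (flp_e L391226) q11369, e3 q13563 L391245 q11378, e3 q13564 L391271 q13564, e3 q13565 (flp_e L671607) q15805,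 e3 q13566 L671615 q15807, e3 q13567 L671617 q15808, trivial⟩ (by decide +kernel)

theorem ce_e_212 : ∀ r, r < 64 → sm ge (Qf (13568 + r)) = Qf (tab Gen.e (13568 + r)) :=
  edges_tab (sm ge) Qf (tab Gen.e) 13568 [(13568, 11509), (13569, 14091), (13570, 11384), (13571, 15332), (13572, 15333), (13573, 11393), (13574, 15811), (13575, 13575), (13576, 11395), (13577, 13577), (13578, 11398), (13579, 11403), (13580, 11405), (13581, 15813), (13582, 14622), (13583, 15358), (13584, 15359), (13585, 15360), (13586, 15361), (13587, 15817), (13588, 14348), (13589, 11415), (13590, 15551), (13591, 14205), (13592, 11418), (13593, 15820), (13594, 11420), (13595, 15364), (13596, 14483), (13597, 15365), (13598, 15366), (13599, 15827), (13600, 15367), (13601, 15830), (13602, 11429), (13603, 15019), (13604, 11433), (13605, 15832), (13606, 15453), (13607, 15454), (13608, 15455), (13609, 15456), (13610, 15836), (13611, 11440), (13612, 14311), (13613, 13613), (13614, 13614), (13615, 11442), (13616, 13616), (13617, 11445), (13618, 15838), (13619, 14086),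 (13620, 11447), (13621, 14107), (13622, 14108), (13623, 11450), (13624, 11451), (13625, 15844), (13626, 13626), (13627, 11453), (13628, 15847), (13629, 13629), (13630, 13630), (13631, 11456)]
    ⟨e3 q13568 (flp_e L646150) q11509, e3 q13569 L655155 q14091, e3 q13570 (flp_e L391559) q11384, e3 q13571 (flp_e L667899) q15332, e3 q13572 (flp_e L667910) q15333, e3 q13573 (flp_e L649426) q11393, e3 q13574 (flp_e L671644) q15811, e3 q13575 L649449 q13575, e3 q13576 L649454 q11395, e3 q13577 L649463 q13577, e3 q13578 L649471 q11398, e3 q13579 L649482 q11403, e3 q13580 L649495 q11405, e3 q13581 (flp_e L671661) q15813, e3 q13582 L660628 q14622, e3 q13583 (flp_e L668099) q15358, e3 q13584 (flp_e L668107) q15359, e3 q13585 (flp_e L668118) q15360, e3 q13586 (flp_e L668128) q15361, e3 q13587 L671692 q15817, e3 q13588 (flp_e L657976) q14348, e3 q13589 L649572 q11415, e3 q13590 (flp_e L669596) q15551, e3 q13591 (flp_e L656369) q14205, e3 q13592 L649598 q11418, e3 q13593 (flp_e L671721) q15820, e3 q13594 L649613 q11420, e3 q13595 (flp_e L668154)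 q15364, e3 q13596 L659349 q14483, e3 q13597 (flp_e L668165) q15365, e3 q13598 (flp_e L668173) q15366, e3 q13599 L671783 q15827, e3 q13600 (flp_e L668183) q15367, e3 q13601 L671810 q15830, e3 q13602 (flp_e L649677) q11429, e3 q13603 (flp_e L664872) q15019, e3 q13604 L649699 q11433, e3 q13605 (flp_e L671831) q15832, e3 q13606 (flp_e L668863) q15453, e3 q13607 (flp_e L668874) q15454, e3 q13608 (flp_e L668886) q15455, e3 q13609 (flp_e L668893) q15456, e3 q13610 L671858 q15836, e3 q13611 (flp_e L649752) q11440, e3 q13612 (flp_e L657611) q14311, e3 q13613 L649774 q13613, e3 q13614 L649781 q13614, e3 q13615 L649786 q11442, e3 q13616 L649797 q13616, e3 q13617 (flp_e L649800) q11445, e3 q13618 (flp_e L671874) q15838, e3 q13619 (flp_e L655093) q14086, e3 q13620 L649824 q11447, e3 q13621 (flp_e L655336) q14107, e3 q13622 (flp_e L655352) q14108, e3 q13623 L649845 q11450, e3 q13624 (flp_e L649853) q11451, e3 q13625 (flp_e L671921) q15844, e3 q13626 L649871 q13626, e3 q13627 L649877 q11453, e3 q13628 (flp_e L671942) q15847, e3 q13629 L649889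 q13629, e3 q13630 L649894 q13630, e3 q13631 L649901 q11456, trivial⟩ (by decide +kernel)

theorem ce_e_213 : ∀ r, r < 64 → sm ge (Qf (13632 + r)) = Qf (tab Gen.e (13632 + r)) :=
  edges_tab (sm ge) Qf (tab Gen.e) 13632 [(13632, 15852), (13633, 13633), (13634, 13634), (13635, 13635), (13636, 11561), (13637, 11562), (13638, 11563), (13639, 15304), (13640, 11467), (13641, 15854), (13642, 14089), (13643, 11469), (13644, 15858), (13645, 11471), (13646, 15522), (13647, 15523), (13648, 15524), (13649, 15525), (13650, 15862), (13651, 15527), (13652, 15865), (13653, 11480), (13654, 15623), (13655, 15140), (13656, 11484), (13657, 15869), (13658, 11486), (13659, 15871), (13660, 11488), (13661, 15873), (13662, 15543), (13663, 15544), (13664, 15876), (13665, 15545), (13666, 15879), (13667, 11495), (13668, 15882), (13669, 15883), (13670, 11497), (13671, 13671), (13672, 14175), (13673, 14176), (13674, 14177), (13675, 15123), (13676, 15124), (13677, 15125), (13678, 15126), (13679, 15127), (13680, 15128), (13681, 15129), (13682, 15130), (13683,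 15897), (13684, 14949), (13685, 15772), (13686, 14947), (13687, 11511), (13688, 15901), (13689, 14137), (13690, 11513), (13691, 15770), (13692, 15663), (13693, 15664), (13694, 14948), (13695, 15665)]
    ⟨e3 q13632 L671967 q15852, e3 q13633 L649914 q13633, e3 q13634 L649920 q13634, e3 q13635 L649926 q13635, e3 q13636 L649932 q11561, e3 q13637 L649941 q11562, e3 q13638 L649950 q11563, e3 q13639 L667641 q15304, e3 q13640 (flp_e L649966) q11467, e3 q13641 (flp_e L671983) q15854, e3 q13642 (flp_e L655128) q14089, e3 q13643 L649992 q11469, e3 q13644 (flp_e L672013) q15858, e3 q13645 L650007 q11471, e3 q13646 (flp_e L669338) q15522, e3 q13647 (flp_e L669346) q15523, e3 q13648 (flp_e L669357) q15524, e3 q13649 (flp_e L669367) q15525, e3 q13650 L672042 q15862, e3 q13651 (flp_e L669383) q15527, e3 q13652 L672061 q15865, e3 q13653 (flp_e L650063) q11480, e3 q13654 L670189 q15623, e3 q13655 L666129 q15140, e3 q13656 (flp_e L650086) q11484, e3 q13657 (flp_e L672095) q15869, e3 q13658 L650106 q11486, e3 q13659 (flp_e L672111) q15871,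 e3 q13660 L650122 q11488, e3 q13661 L672124 q15873, e3 q13662 (flp_e L669532) q15543, e3 q13663 (flp_e L669540) q15544, e3 q13664 L672147 q15876, e3 q13665 (flp_e L669550) q15545, e3 q13666 L672171 q15879, e3 q13667 (flp_e L650174) q11495, e3 q13668 L672192 q15882, e3 q13669 L672199 q15883, e3 q13670 (flp_e L650196) q11497, e3 q13671 L650208 q13671, e3 q13672 (flp_e L656041) q14175, e3 q13673 (flp_e L656055) q14176, e3 q13674 (flp_e L656066) q14177, e3 q13675 (flp_e L665952) q15123, e3 q13676 (flp_e L665966) q15124, e3 q13677 (flp_e L665977) q15125, e3 q13678 (flp_e L665989) q15126, e3 q13679 (flp_e L666002) q15127, e3 q13680 (flp_e L666012) q15128, e3 q13681 (flp_e L666025) q15129, e3 q13682 (flp_e L666034) q15130, e3 q13683 L672328 q15897, e3 q13684 (flp_e L664009) q14949, e3 q13685 (flp_e L671342) q15772, e3 q13686 (flp_e L663983) q14947, e3 q13687 (flp_e L650357) q11511, e3 q13688 (flp_e L672376) q15901, e3 q13689 L655666 q14137, e3 q13690 L650384 q11513, e3 q13691 (flp_e L671320) q15770, e3 q13692 (flp_e L670525) q15663,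 e3 q13693 (flp_e L670539) q15664, e3 q13694 (flp_e L663999) q14948, e3 q13695 (flp_e L670551) q15665, trivial⟩ (by decide +kernel)

theorem ce_e_214 : ∀ r, r < 64 → sm ge (Qf (13696 + r)) = Qf (tab Gen.e (13696 + r)) :=
  edges_tab (sm ge) Qf (tab Gen.e) 13696 [(13696, 14950), (13697, 15908), (13698, 14951), (13699, 14181), (13700, 11524), (13701, 14111), (13702, 14112), (13703, 15910), (13704, 11527), (13705, 15912), (13706, 11568), (13707, 11542), (13708, 11529), (13709, 15919), (13710, 11545), (13711, 11546), (13712, 11532), (13713, 15924), (13714, 11533), (13715, 15926), (13716, 14109), (13717, 11535), (13718, 15928), (13719, 14110), (13720, 11538), (13721, 11539), (13722, 15931), (13723, 15911), (13724, 11541), (13725, 15935), (13726, 15917), (13727, 15918), (13728, 11544), (13729, 15940), (13730, 15183), (13731, 15921), (13732, 15922), (13733, 13733), (13734, 11549), (13735, 15945), (13736, 13736), (13737, 13737), (13738, 11552), (13739, 14113), (13740, 13740), (13741, 13741), (13742, 13742), (13743, 15953), (13744,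 11556), (13745, 13745), (13746, 13746), (13747, 15033), (13748, 15035), (13749, 15842), (13750, 15915), (13751, 15916), (13752, 11573), (13753, 13753), (13754, 14178), (13755, 11583), (13756, 13756), (13757, 15925), (13758, 11594), (13759, 15156)]
    ⟨e3 q13696 (flp_e L664024) q14950, e3 q13697 L672439 q15908, e3 q13698 (flp_e L664037) q14951, e3 q13699 (flp_e L656106) q14181, e3 q13700 (flp_e L650479) q11524, e3 q13701 (flp_e L655398) q14111, e3 q13702 (flp_e L655409) q14112, e3 q13703 L672463 q15910, e3 q13704 (flp_e L650521) q11527, e3 q13705 (flp_e L672487) q15912, e3 q13706 L650545 q11568, e3 q13707 L650552 q11542, e3 q13708 L650558 q11529, e3 q13709 (flp_e L672542) q15919, e3 q13710 L650572 q11545, e3 q13711 L650579 q11546, e3 q13712 L650586 q11532, e3 q13713 L672585 q15924, e3 q13714 (flp_e L650601) q11533, e3 q13715 (flp_e L672609) q15926, e3 q13716 (flp_e L655364) q14109, e3 q13717 L650633 q11535, e3 q13718 (flp_e L672626) q15928, e3 q13719 (flp_e L655382) q14110, e3 q13720 L650658 q11538, e3 q13721 (flp_e L650664)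 q11539, e3 q13722 (flp_e L672651) q15931, e3 q13723 (flp_e L672480) q15911, e3 q13724 L650692 q11541, e3 q13725 (flp_e L672683) q15935, e3 q13726 (flp_e L672526) q15917, e3 q13727 (flp_e L672534) q15918, e3 q13728 L650721 q11544, e3 q13729 L672715 q15940, e3 q13730 (flp_e L666565) q15183, e3 q13731 (flp_e L672562) q15921, e3 q13732 (flp_e L672570) q15922, e3 q13733 L650764 q13733, e3 q13734 L650770 q11549, e3 q13735 (flp_e L672765) q15945, e3 q13736 L650786 q13736, e3 q13737 L650793 q13737, e3 q13738 L650802 q11552, e3 q13739 (flp_e L655426) q14113, e3 q13740 L650819 q13740, e3 q13741 L650826 q13741, e3 q13742 L650833 q13742, e3 q13743 L672825 q15953, e3 q13744 (flp_e L650842) q11556, e3 q13745 L650854 q13745, e3 q13746 L650861 q13746, e3 q13747 L665038 q15033, e3 q13748 (flp_e L665060) q15035, e3 q13749 (flp_e L671902) q15842, e3 q13750 (flp_e L672511) q15915, e3 q13751 (flp_e L672519) q15916, e3 q13752 (flp_e L650896) q11573, e3 q13753 L650908 q13753, e3 q13754 (flp_e L656076) q14178, e3 q13755 (flp_e L650917) q11583, e3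 q13756 L650928 q13756, e3 q13757 (flp_e L672602) q15925, e3 q13758 L650939 q11594, e3 q13759 (flp_e L666306) q15156, trivial⟩ (by decide +kernel)

theorem ce_e_215 : ∀ r, r < 64 → sm ge (Qf (13760 + r)) = Qf (tab Gen.e (13760 + r)) :=
  edges_tab (sm ge) Qf (tab Gen.e) 13760 [(13760, 15104), (13761, 15145), (13762, 14722), (13763, 11604), (13764, 11607), (13765, 14543), (13766, 13766), (13767, 13767), (13768, 11645), (13769, 15625), (13770, 14721), (13771, 14685), (13772, 11628), (13773, 14728), (13774, 15155), (13775, 11634), (13776, 15210), (13777, 15211), (13778, 15204), (13779, 15206), (13780, 13780), (13781, 13781), (13782, 14116), (13783, 13961), (13784, 14364), (13785, 11647), (13786, 11652), (13787, 14630), (13788, 13788), (13789, 13789), (13790, 13790), (13791, 13791), (13792, 13792), (13793, 13793), (13794, 13794), (13795, 13795), (13796, 13796), (13797, 11677), (13798, 13079), (13799, 11679), (13800, 15979), (13801, 13105), (13802, 11681), (13803, 15982), (13804, 11684), (13805, 11683), (13806, 15985), (13807,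 15983), (13808, 15984), (13809, 11686), (13810, 12385), (13811, 11690), (13812, 15991), (13813, 13045), (13814, 12728), (13815, 12646), (13816, 11694), (13817, 11969), (13818, 13205), (13819, 11697), (13820, 15998), (13821, 11701), (13822, 11702), (13823, 11700)]
    ⟨e3 q13760 (flp_e L665749) q15104, e3 q13761 (flp_e L666179) q15145, e3 q13762 (flp_e L661723) q14722, e3 q13763 L651014 q11604, e3 q13764 L651025 q11607, e3 q13765 (flp_e L659930) q14543, e3 q13766 L651040 q13766, e3 q13767 L651047 q13767, e3 q13768 L651052 q11645, e3 q13769 (flp_e L670205) q15625, e3 q13770 (flp_e L661708) q14721, e3 q13771 L661333 q14685, e3 q13772 L651097 q11628, e3 q13773 (flp_e L661820) q14728, e3 q13774 (flp_e L666295) q15155, e3 q13775 L651131 q11634, e3 q13776 (flp_e L666820) q15210, e3 q13777 (flp_e L666834) q15211, e3 q13778 (flp_e L666771) q15204, e3 q13779 (flp_e L666791) q15206, e3 q13780 L651159 q13780, e3 q13781 L651166 q13781, e3 q13782 (flp_e L655461) q14116, e3 q13783 (flp_e L653574) q13961, e3 q13784 (flp_e L658188) q14364,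 e3 q13785 L651193 q11647, e3 q13786 L651201 q11652, e3 q13787 (flp_e L660728) q14630, e3 q13788 L651217 q13788, e3 q13789 L651226 q13789, e3 q13790 L651230 q13790, e3 q13791 L651239 q13791, e3 q13792 L651244 q13792, e3 q13793 L651252 q13793, e3 q13794 L651257 q13794, e3 q13795 L651263 q13795, e3 q13796 L651273 q13796, e3 q13797 L651281 q11677, e3 q13798 L651296 q13079, e3 q13799 L651306 q11679, e3 q13800 (flp_e L673012) q15979, e3 q13801 L651337 q13105, e3 q13802 L651348 q11681, e3 q13803 (flp_e L673059) q15982, e3 q13804 L651382 q11684, e3 q13805 L651393 q11683, e3 q13806 (flp_e L673110) q15985, e3 q13807 (flp_e L673079) q15983, e3 q13808 (flp_e L673095) q15984, e3 q13809 L651436 q11686, e3 q13810 L651449 q12385, e3 q13811 L651464 q11690, e3 q13812 (flp_e L673194) q15991, e3 q13813 L651491 q13045, e3 q13814 L651509 q12728, e3 q13815 L651521 q12646, e3 q13816 L651532 q11694, e3 q13817 L651543 q11969, e3 q13818 L651563 q13205, e3 q13819 L651574 q11697, e3 q13820 (flp_e L673296) q15998, e3 q13821 L651604 q11701, e3 q13822 L651616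 q11702, e3 q13823 L651628 q11700, trivial⟩ (by decide +kernel)

theorem ce_e_216 : ∀ r, r < 64 → sm ge (Qf (13824 + r)) = Qf (tab Gen.e (13824 + r)) :=
  edges_tab (sm ge) Qf (tab Gen.e) 13824 [(13824, 15999), (13825, 16000), (13826, 16001), (13827, 13827), (13828, 12013), (13829, 12014), (13830, 12015), (13831, 12017), (13832, 12018), (13833, 12902), (13834, 12903), (13835, 12904), (13836, 12027), (13837, 12028), (13838, 12029), (13839, 12030), (13840, 12031), (13841, 12032), (13842, 12033), (13843, 12034), (13844, 16020), (13845, 13845), (13846, 13846), (13847, 13847), (13848, 13848), (13849, 13849), (13850, 13850), (13851, 13851), (13852, 13852), (13853, 13853), (13854, 13854), (13855, 13855), (13856, 13856), (13857, 11742), (13858, 11743), (13859, 16027), (13860, 11745), (13861, 16023), (13862, 16030), (13863, 16025), (13864, 11744), (13865, 16032), (13866, 12126), (13867, 11752), (13868, 11753), (13869, 13869), (13870, 13870), (13871, 11759), (13872, 11760), (13873, 16036), (13874, 12068), (13875, 13092), (13876, 11766),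 (13877, 13106), (13878, 11768), (13879, 16041), (13880, 13880), (13881, 13881), (13882, 16045), (13883, 13883), (13884, 13074), (13885, 11778), (13886, 13072), (13887, 11776)]
    ⟨e3 q13824 (flp_e L673314) q15999, e3 q13825 (flp_e L673327) q16000, e3 q13826 (flp_e L673338) q16001, e3 q13827 L651664 q13827, e3 q13828 L651670 q12013, e3 q13829 L651691 q12014, e3 q13830 L651705 q12015, e3 q13831 L651725 q12017, e3 q13832 L651735 q12018, e3 q13833 L651745 q12902, e3 q13834 L651761 q12903, e3 q13835 L651773 q12904, e3 q13836 L651785 q12027, e3 q13837 L651801 q12028, e3 q13838 L651813 q12029, e3 q13839 L651827 q12030, e3 q13840 L651838 q12031, e3 q13841 L651847 q12032, e3 q13842 L651860 q12033, e3 q13843 L651868 q12034, e3 q13844 L673568 q16020, e3 q13845 L651890 q13845, e3 q13846 L651906 q13846, e3 q13847 L651932 q13847, e3 q13848 L651945 q13848, e3 q13849 L651962 q13849, e3 q13850 L651989 q13850, e3 q13851 L651996 q13851, e3 q13852 L652020 q13852, e3 q13853 L652038 q13853, e3 q13854 L652057 q13854, e3 q13855 L652074 q13855,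 e3 q13856 L652093 q13856, e3 q13857 L652110 q11742, e3 q13858 L652126 q11743, e3 q13859 L673684 q16027, e3 q13860 L652150 q11745, e3 q13861 (flp_e L673622) q16023, e3 q13862 L673725 q16030, e3 q13863 (flp_e L673658) q16025, e3 q13864 (flp_e L652199) q11744, e3 q13865 (flp_e L673762) q16032, e3 q13866 L652231 q12126, e3 q13867 L652245 q11752, e3 q13868 L652265 q11753, e3 q13869 L652279 q13869, e3 q13870 L652298 q13870, e3 q13871 L652316 q11759, e3 q13872 L652333 q11760, e3 q13873 (flp_e L673826) q16036, e3 q13874 L652368 q12068, e3 q13875 L652387 q13092, e3 q13876 L652397 q11766, e3 q13877 L652420 q13106, e3 q13878 L652432 q11768, e3 q13879 (flp_e L673910) q16041, e3 q13880 L652461 q13880, e3 q13881 L652476 q13881, e3 q13882 L673972 q16045, e3 q13883 L652503 q13883, e3 q13884 L652520 q13074, e3 q13885 L652530 q11778, e3 q13886 (flp_e L652550) q13072, e3 q13887 (flp_e L652554) q11776, trivial⟩ (by decide +kernel)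

theorem ce_e_217 : ∀ r, r < 64 → sm ge (Qf (13888 + r)) = Qf (tab Gen.e (13888 + r)) :=
  edges_tab (sm ge) Qf (tab Gen.e) 13888 [(13888, 16050), (13889, 11781), (13890, 11780), (13891, 16054), (13892, 16052), (13893, 16053), (13894, 11783), (13895, 12743), (13896, 12927), (13897, 13897), (13898, 13898), (13899, 16063), (13900, 13900), (13901, 11885), (13902, 11886), (13903, 11794), (13904, 16072), (13905, 11796), (13906, 16075), (13907, 11792), (13908, 16077), (13909, 16079), (13910, 16070), (13911, 11795), (13912, 16082), (13913, 11798), (13914, 16084), (13915, 11899), (13916, 11900), (13917, 12005), (13918, 11902), (13919, 13919), (13920, 11807), (13921, 13921), (13922, 13922), (13923, 13923), (13924, 13924), (13925, 13925), (13926, 11912), (13927, 12019), (13928, 13928), (13929, 13929), (13930, 13930), (13931, 13931), (13932, 13932), (13933, 13933), (13934, 11926), (13935, 11822), (13936, 11823), (13937, 16102), (13938, 11825), (13939, 16101), (13940, 11824), (13941, 16104), (13942, 12174), (13943, 12222), (13944, 12877),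 (13945, 13945), (13946, 11944), (13947, 11945), (13948, 13233), (13949, 11834), (13950, 11832), (13951, 16111)]
    ⟨e3 q13888 (flp_e L674063) q16050, e3 q13889 L652589 q11781, e3 q13890 L652599 q11780, e3 q13891 (flp_e L674114) q16054, e3 q13892 (flp_e L674085) q16052, e3 q13893 (flp_e L674100) q16053, e3 q13894 L652642 q11783, e3 q13895 L652656 q12743, e3 q13896 (flp_e L652680) q12927, e3 q13897 L652692 q13897, e3 q13898 L652707 q13898, e3 q13899 L674246 q16063, e3 q13900 L652730 q13900, e3 q13901 L652743 q11885, e3 q13902 L652757 q11886, e3 q13903 L652771 q11794, e3 q13904 L674373 q16072, e3 q13905 L652791 q11796, e3 q13906 L674403 q16075, e3 q13907 (flp_e L652805) q11792, e3 q13908 (flp_e L674430) q16077, e3 q13909 L674444 q16079, e3 q13910 (flp_e L674353) q16070, e3 q13911 (flp_e L652853) q11795, e3 q13912 (flp_e L674492) q16082, e3 q13913 L652883 q11798, e3 q13914 (flp_e L674519) q16084, e3 q13915 L652907 q11899, e3 q13916 L652923 q11900, e3 q13917 (flp_e L652947) q12005, e3 q13918 L652955 q11902, e3 q13919 L652975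 q13919, e3 q13920 L652990 q11807, e3 q13921 L653002 q13921, e3 q13922 L653017 q13922, e3 q13923 L653026 q13923, e3 q13924 L653041 q13924, e3 q13925 L653050 q13925, e3 q13926 L653068 q11912, e3 q13927 L653085 q12019, e3 q13928 L653099 q13928, e3 q13929 L653115 q13929, e3 q13930 L653128 q13930, e3 q13931 L653142 q13931, e3 q13932 L653152 q13932, e3 q13933 L653173 q13933, e3 q13934 L653191 q11926, e3 q13935 L653202 q11822, e3 q13936 L653217 q11823, e3 q13937 L674783 q16102, e3 q13938 L653242 q11825, e3 q13939 (flp_e L674775) q16101, e3 q13940 (flp_e L653265) q11824, e3 q13941 (flp_e L674821) q16104, e3 q13942 L653305 q12174, e3 q13943 L653319 q12222, e3 q13944 (flp_e L653342) q12877, e3 q13945 L653352 q13945, e3 q13946 L653365 q11944, e3 q13947 L653379 q11945, e3 q13948 L653397 q13233, e3 q13949 L653407 q11834, e3 q13950 (flp_e L653415) q11832, e3 q13951 (flp_e L674931) q16111, trivial⟩ (by decide +kernel)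

theorem ce_e_218 : ∀ r, r < 64 → sm ge (Qf (13952 + r)) = Qf (tab Gen.e (13952 + r)) :=
  edges_tab (sm ge) Qf (tab Gen.e) 13952 [(13952, 11837), (13953, 11836), (13954, 16115), (13955, 16113), (13956, 16114), (13957, 11839), (13958, 11961), (13959, 11964), (13960, 12755), (13961, 13783), (13962, 13481), (13963, 13963), (13964, 16124), (13965, 13965), (13966, 11847), (13967, 16127), (13968, 11979), (13969, 11980), (13970, 16132), (13971, 11982), (13972, 13199), (13973, 11857), (13974, 13197), (13975, 11852), (13976, 16137), (13977, 13129), (13978, 11854), (13979, 16141), (13980, 12829), (13981, 11856), (13982, 16145), (13983, 11996), (13984, 11859), (13985, 16148), (13986, 11863), (13987, 11864), (13988, 11862), (13989, 16149), (13990, 16150), (13991, 16151), (13992, 12007), (13993, 12878), (13994, 12888), (13995, 12786), (13996, 13063), (13997, 13055), (13998, 11880), (13999, 16156), (14000, 16157), (14001, 14001), (14002, 16165), (14003, 14003), (14004, 12936), (14005, 11883), (14006, 16168), (14007, 16065), (14008, 16066),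 (14009, 16174), (14010, 16068), (14011, 16177), (14012, 11894), (14013, 16180), (14014, 11888), (14015, 16183)]
    ⟨e3 q13952 L653450 q11837, e3 q13953 L653458 q11836, e3 q13954 (flp_e L674986) q16115, e3 q13955 (flp_e L674957) q16113, e3 q13956 (flp_e L674972) q16114, e3 q13957 L653506 q11839, e3 q13958 L653520 q11961, e3 q13959 L653537 q11964, e3 q13960 L653554 q12755, e3 q13961 L653574 q13783, e3 q13962 L653588 q13481, e3 q13963 L653602 q13963, e3 q13964 L675114 q16124, e3 q13965 L653625 q13965, e3 q13966 (flp_e L653628) q11847, e3 q13967 (flp_e L675165) q16127, e3 q13968 L653659 q11979, e3 q13969 L653673 q11980, e3 q13970 L675221 q16132, e3 q13971 L653693 q11982, e3 q13972 L653711 q13199, e3 q13973 L653721 q11857, e3 q13974 (flp_e L653739) q13197, e3 q13975 (flp_e L653743) q11852, e3 q13976 (flp_e L675293) q16137, e3 q13977 (flp_e L653781) q13129, e3 q13978 (flp_e L653783) q11854, e3 q13979 (flp_e L675349) q16141, e3 q13980 L653815 q12829, e3 q13981 L653823 q11856, e3 q13982 (flp_e L675389) q16145, e3 q13983 L653842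 q11996, e3 q13984 L653852 q11859, e3 q13985 (flp_e L675426) q16148, e3 q13986 L653877 q11863, e3 q13987 L653884 q11864, e3 q13988 L653892 q11862, e3 q13989 (flp_e L675441) q16149, e3 q13990 (flp_e L675450) q16150, e3 q13991 (flp_e L675462) q16151, e3 q13992 L653929 q12007, e3 q13993 L653939 q12878, e3 q13994 L653959 q12888, e3 q13995 L653977 q12786, e3 q13996 L653993 q13063, e3 q13997 L654012 q13055, e3 q13998 (flp_e L654022) q11880, e3 q13999 (flp_e L675526) q16156, e3 q14000 (flp_e L675540) q16157, e3 q14001 L654067 q14001, e3 q14002 L675634 q16165, e3 q14003 L654088 q14003, e3 q14004 (flp_e L654105) q12936, e3 q14005 (flp_e L654107) q11883, e3 q14006 (flp_e L675680) q16168, e3 q14007 (flp_e L674279) q16065, e3 q14008 (flp_e L674297) q16066, e3 q14009 L675747 q16174, e3 q14010 (flp_e L674323) q16068, e3 q14011 L675778 q16177, e3 q14012 L654198 q11894, e3 q14013 L675816 q16180, e3 q14014 (flp_e L654213) q11888, e3 q14015 (flp_e L675857) q16183, trivial⟩ (by decide +kernel)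

theorem ce_e_219 : ∀ r, r < 64 → sm ge (Qf (14016 + r)) = Qf (tab Gen.e (14016 + r)) :=
  edges_tab (sm ge) Qf (tab Gen.e) 14016 [(14016, 12925), (14017, 11890), (14018, 16186), (14019, 11892), (14020, 16188), (14021, 11893), (14022, 16190), (14023, 16081), (14024, 11896), (14025, 16193), (14026, 11898), (14027, 12839), (14028, 13006), (14029, 16085), (14030, 16199), (14031, 11901), (14032, 16201), (14033, 14033), (14034, 14034), (14035, 14035), (14036, 14036), (14037, 14037), (14038, 14038), (14039, 14039), (14040, 14040), (14041, 12852), (14042, 12723), (14043, 13025), (14044, 16212), (14045, 11913), (14046, 16214), (14047, 11915), (14048, 16216), (14049, 14049), (14050, 14050), (14051, 14051), (14052, 14052), (14053, 14053), (14054, 14054), (14055, 16222), (14056, 13307), (14057, 14057), (14058, 14058), (14059, 12509), (14060, 14060), (14061, 16098), (14062, 16099), (14063, 11931), (14064, 16236), (14065, 11933), (14066, 12502), (14067, 11929), (14068, 16239), (14069, 16234), (14070, 11932), (14071, 16242), (14072, 13372),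 (14073, 11936), (14074, 16245), (14075, 12390), (14076, 11939), (14077, 16158), (14078, 16246), (14079, 14079)]
    ⟨e3 q14016 (flp_e L654246) q12925, e3 q14017 (flp_e L654248) q11890, e3 q14018 (flp_e L675895) q16186, e3 q14019 L654281 q11892, e3 q14020 (flp_e L675915) q16188, e3 q14021 (flp_e L654297) q11893, e3 q14022 (flp_e L675937) q16190, e3 q14023 (flp_e L674481) q16081, e3 q14024 L654337 q11896, e3 q14025 (flp_e L675975) q16193, e3 q14026 L654360 q11898, e3 q14027 L654372 q12839, e3 q14028 L654393 q13006, e3 q14029 (flp_e L674532) q16085, e3 q14030 L676053 q16199, e3 q14031 (flp_e L654417) q11901, e3 q14032 (flp_e L676083) q16201, e3 q14033 L654447 q14033, e3 q14034 L654462 q14034, e3 q14035 L654468 q14035, e3 q14036 L654484 q14036, e3 q14037 L654493 q14037, e3 q14038 L654505 q14038, e3 q14039 L654520 q14039, e3 q14040 L654530 q14040, e3 q14041 L654542 q12852, e3 q14042 L654554 q12723, e3 q14043 L654572 q13025, e3 q14044 L676219 q16212, e3 q14045 (flp_e L654593) q11913, e3 q14046 (flp_e L676254) q16214, e3 q14047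 L654622 q11915, e3 q14048 (flp_e L676274) q16216, e3 q14049 L654648 q14049, e3 q14050 L654655 q14050, e3 q14051 L654670 q14051, e3 q14052 L654680 q14052, e3 q14053 L654691 q14053, e3 q14054 L654701 q14054, e3 q14055 L676348 q16222, e3 q14056 (flp_e L654731) q13307, e3 q14057 L654743 q14057, e3 q14058 L654755 q14058, e3 q14059 (flp_e L654771) q12509, e3 q14060 L654781 q14060, e3 q14061 (flp_e L674727) q16098, e3 q14062 (flp_e L674744) q16099, e3 q14063 L654816 q11931, e3 q14064 L676538 q16236, e3 q14065 L654836 q11933, e3 q14066 (flp_e L654854) q12502, e3 q14067 (flp_e L654856) q11929, e3 q14068 (flp_e L676588) q16239, e3 q14069 (flp_e L676518) q16234, e3 q14070 (flp_e L654898) q11932, e3 q14071 (flp_e L676627) q16242, e3 q14072 L654936 q13372, e3 q14073 L654951 q11936, e3 q14074 (flp_e L676674) q16245, e3 q14075 L654974 q12390, e3 q14076 (flp_e L654978) q11939, e3 q14077 (flp_e L675554) q16158, e3 q14078 (flp_e L676687) q16246, e3 q14079 L655017 q14079, trivial⟩ (by decide +kernel)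

theorem ce_e_220 : ∀ r, r < 64 → sm ge (Qf (14080 + r)) = Qf (tab Gen.e (14080 + r)) :=
  edges_tab (sm ge) Qf (tab Gen.e) 14080 [(14080, 16253), (14081, 14081), (14082, 12529), (14083, 11942), (14084, 16256), (14085, 16058), (14086, 13619), (14087, 16262), (14088, 16108), (14089, 13642), (14090, 11952), (14091, 13569), (14092, 11947), (14093, 16267), (14094, 13507), (14095, 12416), (14096, 11951), (14097, 16272), (14098, 13257), (14099, 11954), (14100, 16275), (14101, 11958), (14102, 11959), (14103, 11957), (14104, 16276), (14105, 16277), (14106, 16278), (14107, 13621), (14108, 13622), (14109, 13716), (14110, 13719), (14111, 13701), (14112, 13702), (14113, 13739), (14114, 11971), (14115, 11972), (14116, 13782), (14117, 16287), (14118, 16294), (14119, 16289), (14120, 16297), (14121, 14121), (14122, 16300), (14123, 11974), (14124, 16303), (14125, 12584), (14126, 11976), (14127, 16306), (14128, 12972), (14129, 11978), (14130, 16310), (14131, 16086), (14132, 16314), (14133, 16130), (14134, 16317), (14135, 11981), (14136, 16320),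 (14137, 13689), (14138, 11983), (14139, 16325), (14140, 16328), (14141, 11985), (14142, 16331), (14143, 16319)]
    ⟨e3 q14080 L676761 q16253, e3 q14081 L655034 q14081, e3 q14082 (flp_e L655051) q12529, e3 q14083 (flp_e L655053) q11942, e3 q14084 (flp_e L676807) q16256, e3 q14085 (flp_e L674175) q16058, e3 q14086 L655093 q13619, e3 q14087 L676874 q16262, e3 q14088 (flp_e L674883) q16108, e3 q14089 L655128 q13642, e3 q14090 L655136 q11952, e3 q14091 (flp_e L655155) q13569, e3 q14092 (flp_e L655157) q11947, e3 q14093 (flp_e L676937) q16267, e3 q14094 L655187 q13507, e3 q14095 L655205 q12416, e3 q14096 L655215 q11951, e3 q14097 (flp_e L676999) q16272, e3 q14098 L655236 q13257, e3 q14099 L655244 q11954, e3 q14100 (flp_e L677033) q16275, e3 q14101 L655273 q11958, e3 q14102 L655284 q11959, e3 q14103 L655295 q11957, e3 q14104 (flp_e L677048) q16276, e3 q14105 (flp_e L677060) q16277, e3 q14106 (flp_e L677072) q16278, e3 q14107 L655336 q13621, e3 q14108 L655352 q13622, e3 q14109 L655364 q13716, e3 q14110 L655382 q13719, e3 q14111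 L655398 q13701, e3 q14112 L655409 q13702, e3 q14113 L655426 q13739, e3 q14114 L655439 q11971, e3 q14115 L655449 q11972, e3 q14116 L655461 q13782, e3 q14117 (flp_e L677192) q16287, e3 q14118 L677258 q16294, e3 q14119 (flp_e L677213) q16289, e3 q14120 L677288 q16297, e3 q14121 L655508 q14121, e3 q14122 L677324 q16300, e3 q14123 (flp_e L655519) q11974, e3 q14124 (flp_e L677359) q16303, e3 q14125 (flp_e L655548) q12584, e3 q14126 (flp_e L655550) q11976, e3 q14127 (flp_e L677395) q16306, e3 q14128 L655585 q12972, e3 q14129 L655592 q11978, e3 q14130 (flp_e L677440) q16310, e3 q14131 (flp_e L674546) q16086, e3 q14132 L677475 q16314, e3 q14133 (flp_e L675199) q16130, e3 q14134 L677501 q16317, e3 q14135 (flp_e L655641) q11981, e3 q14136 (flp_e L677527) q16320, e3 q14137 (flp_e L655666) q13689, e3 q14138 (flp_e L655668) q11983, e3 q14139 (flp_e L677585) q16325, e3 q14140 L677611 q16328, e3 q14141 (flp_e L655698) q11985, e3 q14142 (flp_e L677655) q16331, e3 q14143 (flp_e L677521) q16319, trivial⟩ (by decide +kernel)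

theorem ce_e_221 : ∀ r, r < 64 → sm ge (Qf (14144 + r)) = Qf (tab Gen.e (14144 + r)) :=
  edges_tab (sm ge) Qf (tab Gen.e) 14144 [(14144, 11987), (14145, 16335), (14146, 12563), (14147, 11988), (14148, 16337), (14149, 12993), (14150, 11990), (14151, 16341), (14152, 12996), (14153, 12997), (14154, 11993), (14155, 13207), (14156, 11995), (14157, 16349), (14158, 16146), (14159, 16147), (14160, 11998), (14161, 12002), (14162, 12003), (14163, 12004), (14164, 16194), (14165, 16354), (14166, 16355), (14167, 16087), (14168, 12889), (14169, 12890), (14170, 16363), (14171, 12008), (14172, 16366), (14173, 12010), (14174, 16368), (14175, 13672), (14176, 13673), (14177, 13674), (14178, 13754), (14179, 16006), (14180, 16007), (14181, 13699), (14182, 16008), (14183, 16377), (14184, 12899), (14185, 12900), (14186, 12901), (14187, 16381), (14188, 12022), (14189, 16383), (14190, 12024), (14191, 16385), (14192, 12026), (14193, 16012), (14194, 16013), (14195, 16014), (14196, 16015), (14197, 16016), (14198, 16392), (14199, 16018), (14200, 15994),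 (14201, 12035), (14202, 14202), (14203, 12094), (14204, 12050), (14205, 13591), (14206, 12072), (14207, 12042)]
    ⟨e3 q14144 L655730 q11987, e3 q14145 (flp_e L677687) q16335, e3 q14146 (flp_e L655753) q12563, e3 q14147 (flp_e L655755) q11988, e3 q14148 (flp_e L677716) q16337, e3 q14149 L655794 q12993, e3 q14150 L655804 q11990, e3 q14151 (flp_e L677765) q16341, e3 q14152 L655820 q12996, e3 q14153 L655828 q12997, e3 q14154 L655837 q11993, e3 q14155 L655851 q13207, e3 q14156 L655861 q11995, e3 q14157 (flp_e L677846) q16349, e3 q14158 (flp_e L675399) q16146, e3 q14159 (flp_e L675412) q16147, e3 q14160 L655897 q11998, e3 q14161 L655906 q12002, e3 q14162 L655914 q12003, e3 q14163 L655922 q12004, e3 q14164 (flp_e L675990) q16194, e3 q14165 (flp_e L677885) q16354, e3 q14166 (flp_e L677894) q16355, e3 q14167 (flp_e L674566) q16087, e3 q14168 L655963 q12889, e3 q14169 L655978 q12890, e3 q14170 L677974 q16363, e3 q14171 (flp_e L655993) q12008, e3 q14172 (flp_e L678015) q16366, e3 q14173 L656022 q12010, e3 q14174 (flp_e L678038) q16368,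 e3 q14175 L656041 q13672, e3 q14176 L656055 q13673, e3 q14177 L656066 q13674, e3 q14178 L656076 q13754, e3 q14179 (flp_e L673391) q16006, e3 q14180 (flp_e L673405) q16007, e3 q14181 L656106 q13699, e3 q14182 (flp_e L673424) q16008, e3 q14183 L678132 q16377, e3 q14184 L656131 q12899, e3 q14185 L656145 q12900, e3 q14186 L656154 q12901, e3 q14187 L678178 q16381, e3 q14188 (flp_e L656171) q12022, e3 q14189 (flp_e L678209) q16383, e3 q14190 L656201 q12024, e3 q14191 (flp_e L678231) q16385, e3 q14192 L656222 q12026, e3 q14193 (flp_e L673479) q16012, e3 q14194 (flp_e L673495) q16013, e3 q14195 (flp_e L673507) q16014, e3 q14196 (flp_e L673523) q16015, e3 q14197 (flp_e L673531) q16016, e3 q14198 L678298 q16392, e3 q14199 (flp_e L673555) q16018, e3 q14200 (flp_e L673240) q15994, e3 q14201 (flp_e L656303) q12035, e3 q14202 L656318 q14202, e3 q14203 L656339 q12094, e3 q14204 L656350 q12050, e3 q14205 L656369 q13591, e3 q14206 L656386 q12072, e3 q14207 L656396 q12042, trivial⟩ (by decide +kernel)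

theorem ce_e_222 : ∀ r, r < 64 → sm ge (Qf (14208 + r)) = Qf (tab Gen.e (14208 + r)) :=
  edges_tab (sm ge) Qf (tab Gen.e) 14208 [(14208, 12044), (14209, 12043), (14210, 16396), (14211, 12046), (14212, 16398), (14213, 12096), (14214, 12097), (14215, 12173), (14216, 12102), (14217, 12056), (14218, 12104), (14219, 12105), (14220, 12106), (14221, 12107), (14222, 12058), (14223, 12059), (14224, 16405), (14225, 16406), (14226, 16408), (14227, 14227), (14228, 14228), (14229, 14229), (14230, 12064), (14231, 12065), (14232, 16421), (14233, 12067), (14234, 16417), (14235, 16419), (14236, 12066), (14237, 16424), (14238, 16037), (14239, 14239), (14240, 14240), (14241, 12074), (14242, 12075), (14243, 12084), (14244, 16395), (14245, 16429), (14246, 14246), (14247, 14247), (14248, 16435), (14249, 14249), (14250, 14250), (14251, 14251), (14252, 12083), (14253, 16420), (14254, 12085), (14255, 16418), (14256, 12081), (14257, 16446), (14258, 12228), (14259, 16441), (14260, 16430), (14261, 12088), (14262, 12087), (14263, 16451), (14264, 16450),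 (14265, 12090), (14266, 14266), (14267, 14267), (14268, 14268), (14269, 12172), (14270, 12098), (14271, 16393)]
    ⟨e3 q14208 L656413 q12044, e3 q14209 (flp_e L656421) q12043, e3 q14210 (flp_e L678368) q16396, e3 q14211 L656456 q12046, e3 q14212 (flp_e L678394) q16398, e3 q14213 L656477 q12096, e3 q14214 L656493 q12097, e3 q14215 L656508 q12173, e3 q14216 L656527 q12102, e3 q14217 L656538 q12056, e3 q14218 L656554 q12104, e3 q14219 L656563 q12105, e3 q14220 L656577 q12106, e3 q14221 L656587 q12107, e3 q14222 L656603 q12058, e3 q14223 L656616 q12059, e3 q14224 (flp_e L678498) q16405, e3 q14225 (flp_e L678513) q16406, e3 q14226 (flp_e L678542) q16408, e3 q14227 L656667 q14227, e3 q14228 L656679 q14228, e3 q14229 L656696 q14229, e3 q14230 L656705 q12064, e3 q14231 L656717 q12065, e3 q14232 L678720 q16421, e3 q14233 L656735 q12067, e3 q14234 (flp_e L678674) q16417, e3 q14235 (flp_e L678700) q16419, e3 q14236 (flp_e L656767) q12066, e3 q14237 (flp_e L678771) q16424, e3 q14238 (flp_e L673844) q16037, e3 q14239 L656808 q14239,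 e3 q14240 L656818 q14240, e3 q14241 L656830 q12074, e3 q14242 L656843 q12075, e3 q14243 L656853 q12084, e3 q14244 (flp_e L678352) q16395, e3 q14245 (flp_e L678842) q16429, e3 q14246 L656894 q14246, e3 q14247 L656908 q14247, e3 q14248 L678911 q16435, e3 q14249 L656926 q14249, e3 q14250 L656941 q14250, e3 q14251 L656952 q14251, e3 q14252 L656961 q12083, e3 q14253 L678718 q16420, e3 q14254 L656975 q12085, e3 q14255 (flp_e L678692) q16418, e3 q14256 (flp_e L656989) q12081, e3 q14257 (flp_e L679048) q16446, e3 q14258 (flp_e L657015) q12228, e3 q14259 (flp_e L678994) q16441, e3 q14260 (flp_e L678856) q16430, e3 q14261 L657048 q12088, e3 q14262 L657054 q12087, e3 q14263 (flp_e L679109) q16451, e3 q14264 (flp_e L679099) q16450, e3 q14265 L657087 q12090, e3 q14266 L657098 q14266, e3 q14267 L657111 q14267, e3 q14268 L657126 q14268, e3 q14269 L657145 q12172, e3 q14270 L657154 q12098, e3 q14271 (flp_e L678320) q16393, trivial⟩ (by decide +kernel)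

theorem ce_e_223 : ∀ r, r < 64 → sm ge (Qf (14272 + r)) = Qf (tab Gen.e (14272 + r)) :=
  edges_tab (sm ge) Qf (tab Gen.e) 14272 [(14272, 16039), (14273, 16399), (14274, 16400), (14275, 16401), (14276, 16402), (14277, 15977), (14278, 16403), (14279, 16404), (14280, 14280), (14281, 12111), (14282, 12112), (14283, 16445), (14284, 12113), (14285, 16462), (14286, 14286), (14287, 14287), (14288, 16469), (14289, 14289), (14290, 14290), (14291, 14291), (14292, 12121), (14293, 16477), (14294, 12123), (14295, 16480), (14296, 12119), (14297, 16482), (14298, 16475), (14299, 12122), (14300, 16485), (14301, 12125), (14302, 16487), (14303, 14303), (14304, 14304), (14305, 12134), (14306, 14306), (14307, 14307), (14308, 14308), (14309, 14309), (14310, 14310), (14311, 13612), (14312, 12766), (14313, 14313), (14314, 16499), (14315, 14315), (14316, 16502), (14317, 12138), (14318, 16505), (14319, 14319), (14320, 16507), (14321, 14321), (14322, 13201), (14323, 12148), (14324, 16510), (14325, 12143), (14326, 16512), (14327, 16515), (14328, 12145),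 (14329, 16518), (14330, 13097), (14331, 12147), (14332, 16522), (14333, 12150), (14334, 16523), (14335, 12154)]
    ⟨e3 q14272 (flp_e L673880) q16039, e3 q14273 (flp_e L678410) q16399, e3 q14274 (flp_e L678421) q16400, e3 q14275 (flp_e L678437) q16401, e3 q14276 (flp_e L678452) q16402, e3 q14277 (flp_e L672985) q15977, e3 q14278 (flp_e L678467) q16403, e3 q14279 (flp_e L678479) q16404, e3 q14280 L657277 q14280, e3 q14281 L657289 q12111, e3 q14282 L657302 q12112, e3 q14283 (flp_e L679040) q16445, e3 q14284 L657321 q12113, e3 q14285 (flp_e L679257) q16462, e3 q14286 L657348 q14286, e3 q14287 L657356 q14287, e3 q14288 L679321 q16469, e3 q14289 L657374 q14289, e3 q14290 L657385 q14290, e3 q14291 L657394 q14291, e3 q14292 L657407 q12121, e3 q14293 L679414 q16477, e3 q14294 L657425 q12123, e3 q14295 L679442 q16480, e3 q14296 (flp_e L657439) q12119, e3 q14297 (flp_e L679469) q16482, e3 q14298 (flp_e L679398) q16475, e3 q14299 (flp_e L657472) q12122, e3 q14300 (flp_e L679501) q16485, e3 q14301 L657503 q12125, e3 q14302 (flp_e L679525)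 q16487, e3 q14303 L657523 q14303, e3 q14304 L657533 q14304, e3 q14305 L657545 q12134, e3 q14306 L657555 q14306, e3 q14307 L657568 q14307, e3 q14308 L657575 q14308, e3 q14309 L657588 q14309, e3 q14310 L657598 q14310, e3 q14311 L657611 q13612, e3 q14312 L657624 q12766, e3 q14313 L657633 q14313, e3 q14314 L679666 q16499, e3 q14315 L657647 q14315, e3 q14316 L679700 q16502, e3 q14317 (flp_e L657659) q12138, e3 q14318 (flp_e L679735) q16505, e3 q14319 L657682 q14319, e3 q14320 L679747 q16507, e3 q14321 L657697 q14321, e3 q14322 L657712 q13201, e3 q14323 L657720 q12148, e3 q14324 L679774 q16510, e3 q14325 (flp_e L657736) q12143, e3 q14326 (flp_e L679803) q16512, e3 q14327 L679829 q16515, e3 q14328 (flp_e L657764) q12145, e3 q14329 (flp_e L679872) q16518, e3 q14330 L657787 q13097, e3 q14331 L657793 q12147, e3 q14332 (flp_e L679902) q16522, e3 q14333 L657808 q12150, e3 q14334 (flp_e L679911) q16523, e3 q14335 L657828 q12154, trivial⟩ (by decide +kernel)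

theorem ce_e_224 : ∀ r, r < 64 → sm ge (Qf (14336 + r)) = Qf (tab Gen.e (14336 + r)) :=
  edges_tab (sm ge) Qf (tab Gen.e) 14336 [(14336, 12155), (14337, 12153), (14338, 16524), (14339, 16525), (14340, 16526), (14341, 14341), (14342, 14342), (14343, 14343), (14344, 14344), (14345, 14345), (14346, 14346), (14347, 14347), (14348, 13588), (14349, 12258), (14350, 12193), (14351, 16453), (14352, 16106), (14353, 12226), (14354, 12179), (14355, 12229), (14356, 12182), (14357, 12181), (14358, 16539), (14359, 12185), (14360, 12184), (14361, 16542), (14362, 16541), (14363, 12187), (14364, 13784), (14365, 12405), (14366, 12260), (14367, 12261), (14368, 12262), (14369, 12263), (14370, 12264), (14371, 12660), (14372, 12407), (14373, 12726), (14374, 12195), (14375, 16552), (14376, 12271), (14377, 12272), (14378, 12273), (14379, 12274), (14380, 12275), (14381, 12276), (14382, 12277), (14383, 12278), (14384, 14384), (14385, 14385), (14386, 12413), (14387, 12207), (14388, 12208), (14389, 16110), (14390, 12209), (14391, 16565), (14392, 16567),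 (14393, 13377), (14394, 14394), (14395, 14395), (14396, 16576), (14397, 14397), (14398, 12420), (14399, 12421)]
    ⟨e3 q14336 L657834 q12155, e3 q14337 L657843 q12153, e3 q14338 (flp_e L679925) q16524, e3 q14339 (flp_e L679937) q16525, e3 q14340 (flp_e L679948) q16526, e3 q14341 L657889 q14341, e3 q14342 L657898 q14342, e3 q14343 L657908 q14343, e3 q14344 L657922 q14344, e3 q14345 L657933 q14345, e3 q14346 L657946 q14346, e3 q14347 L657957 q14347, e3 q14348 L657976 q13588, e3 q14349 L657996 q12258, e3 q14350 L658007 q12193, e3 q14351 (flp_e L679139) q16453, e3 q14352 (flp_e L674854) q16106, e3 q14353 L658049 q12226, e3 q14354 L658059 q12179, e3 q14355 L658075 q12229, e3 q14356 L658087 q12182, e3 q14357 (flp_e L658096) q12181, e3 q14358 (flp_e L680126) q16539, e3 q14359 L658131 q12185, e3 q14360 L658140 q12184, e3 q14361 (flp_e L680165) q16542, e3 q14362 (flp_e L680150) q16541, e3 q14363 L658170 q12187, e3 q14364 L658188 q13784, e3 q14365 L658199 q12405, e3 q14366 L658211 q12260, e3 q14367 L658228 q12261, e3 q14368 L658234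 q12262, e3 q14369 L658244 q12263, e3 q14370 L658251 q12264, e3 q14371 L658267 q12660, e3 q14372 L658278 q12407, e3 q14373 (flp_e L658297) q12726, e3 q14374 (flp_e L658299) q12195, e3 q14375 (flp_e L680309) q16552, e3 q14376 L658325 q12271, e3 q14377 L658340 q12272, e3 q14378 L658347 q12273, e3 q14379 L658358 q12274, e3 q14380 L658365 q12275, e3 q14381 L658374 q12276, e3 q14382 L658384 q12277, e3 q14383 L658392 q12278, e3 q14384 L658406 q14384, e3 q14385 L658419 q14385, e3 q14386 L658435 q12413, e3 q14387 L658446 q12207, e3 q14388 L658457 q12208, e3 q14389 (flp_e L674921) q16110, e3 q14390 L658476 q12209, e3 q14391 (flp_e L680483) q16565, e3 q14392 (flp_e L680502) q16567, e3 q14393 (flp_e L658519) q13377, e3 q14394 L658528 q14394, e3 q14395 L658536 q14395, e3 q14396 L680604 q16576, e3 q14397 L658552 q14397, e3 q14398 L658563 q12420, e3 q14399 L658575 q12421, trivial⟩ (by decide +kernel)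

theorem ce_e_225 : ∀ r, r < 64 → sm ge (Qf (14400 + r)) = Qf (tab Gen.e (14400 + r)) :=
  edges_tab (sm ge) Qf (tab Gen.e) 14400 [(14400, 12217), (14401, 16585), (14402, 12219), (14403, 16440), (14404, 12215), (14405, 16589), (14406, 16583), (14407, 12218), (14408, 16592), (14409, 12221), (14410, 16594), (14411, 12433), (14412, 12434), (14413, 13515), (14414, 12435), (14415, 12230), (14416, 12244), (14417, 16536), (14418, 16029), (14419, 16448), (14420, 16537), (14421, 12231), (14422, 16229), (14423, 16603), (14424, 14424), (14425, 16610), (14426, 14426), (14427, 16613), (14428, 12234), (14429, 16616), (14430, 12445), (14431, 12446), (14432, 16622), (14433, 12448), (14434, 16584), (14435, 12245), (14436, 16582), (14437, 12239), (14438, 16628), (14439, 16631), (14440, 12241), (14441, 16634), (14442, 12285), (14443, 12243), (14444, 16638), (14445, 16599), (14446, 12462), (14447, 12247), (14448, 16642), (14449, 12251), (14450, 12252), (14451, 12250), (14452, 16643), (14453, 16644), (14454, 12471), (14455, 16648), (14456, 12473),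 (14457, 16651), (14458, 12256), (14459, 16653), (14460, 16534), (14461, 16116), (14462, 16546), (14463, 16547)]
    ⟨e3 q14400 L658587 q12217, e3 q14401 L680713 q16585, e3 q14402 L658603 q12219, e3 q14403 (flp_e L678984) q16440, e3 q14404 (flp_e L658617) q12215, e3 q14405 (flp_e L680761) q16589, e3 q14406 (flp_e L680695) q16583, e3 q14407 (flp_e L658643) q12218, e3 q14408 (flp_e L680792) q16592, e3 q14409 L658668 q12221, e3 q14410 (flp_e L680817) q16594, e3 q14411 L658685 q12433, e3 q14412 L658696 q12434, e3 q14413 L658711 q13515, e3 q14414 L658719 q12435, e3 q14415 L658732 q12230, e3 q14416 L658742 q12244, e3 q14417 (flp_e L680081) q16536, e3 q14418 L673723 q16029, e3 q14419 (flp_e L679070) q16448, e3 q14420 (flp_e L680096) q16537, e3 q14421 (flp_e L658782) q12231, e3 q14422 (flp_e L676457) q16229, e3 q14423 (flp_e L680929) q16603, e3 q14424 L658817 q14424, e3 q14425 L680991 q16610, e3 q14426 L658831 q14426, e3 q14427 L681011 q16613, e3 q14428 (flp_e L658843) q12234, e3 q14429 (flp_e L681046) q16616, e3 q14430 L658858 q12445,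 e3 q14431 L658868 q12446, e3 q14432 L681096 q16622, e3 q14433 L658884 q12448, e3 q14434 L680711 q16584, e3 q14435 L658900 q12245, e3 q14436 (flp_e L680687) q16582, e3 q14437 (flp_e L658912) q12239, e3 q14438 (flp_e L681138) q16628, e3 q14439 L681154 q16631, e3 q14440 (flp_e L658930) q12241, e3 q14441 (flp_e L681180) q16634, e3 q14442 L658948 q12285, e3 q14443 L658954 q12243, e3 q14444 (flp_e L681212) q16638, e3 q14445 (flp_e L680880) q16599, e3 q14446 L658973 q12462, e3 q14447 L658977 q12247, e3 q14448 (flp_e L681250) q16642, e3 q14449 L658998 q12251, e3 q14450 L659007 q12252, e3 q14451 L659013 q12250, e3 q14452 (flp_e L681263) q16643, e3 q14453 (flp_e L681273) q16644, e3 q14454 L659043 q12471, e3 q14455 L681314 q16648, e3 q14456 L659068 q12473, e3 q14457 L681354 q16651, e3 q14458 (flp_e L659083) q12256, e3 q14459 (flp_e L681383) q16653, e3 q14460 (flp_e L680050) q16534, e3 q14461 (flp_e L675005) q16116, e3 q14462 (flp_e L680223) q16546, e3 q14463 (flp_e L680235) q16547, trivial⟩ (by decide +kernel)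

theorem ce_e_226 : ∀ r, r < 64 → sm ge (Qf (14464 + r)) = Qf (tab Gen.e (14464 + r)) :=
  edges_tab (sm ge) Qf (tab Gen.e) 14464 [(14464, 16055), (14465, 16548), (14466, 16549), (14467, 12483), (14468, 12266), (14469, 16661), (14470, 16664), (14471, 12268), (14472, 16666), (14473, 12270), (14474, 16668), (14475, 15980), (14476, 16554), (14477, 16555), (14478, 15986), (14479, 16556), (14480, 16557), (14481, 16558), (14482, 16559), (14483, 13596), (14484, 14484), (14485, 13296), (14486, 14486), (14487, 14487), (14488, 16615), (14489, 14489), (14490, 12504), (14491, 12505), (14492, 12287), (14493, 16636), (14494, 12288), (14495, 16633), (14496, 16637), (14497, 16683), (14498, 12289), (14499, 16689), (14500, 16690), (14501, 14501), (14502, 16697), (14503, 14503), (14504, 16700), (14505, 12292), (14506, 16702), (14507, 12520), (14508, 12521), (14509, 16708), (14510, 12523), (14511, 16711), (14512, 12303), (14513, 16714), (14514, 12297), (14515, 16717), (14516, 16720), (14517, 12299), (14518, 16722), (14519, 12301), (14520, 16724),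 (14521, 12302), (14522, 16726), (14523, 12536), (14524, 12305), (14525, 16729), (14526, 12307), (14527, 12540)]
    ⟨e3 q14464 (flp_e L674131) q16055, e3 q14465 (flp_e L680251) q16548, e3 q14466 (flp_e L680264) q16549, e3 q14467 L659165 q12483, e3 q14468 (flp_e L659175) q12266, e3 q14469 (flp_e L681467) q16661, e3 q14470 L681501 q16664, e3 q14471 (flp_e L659213) q12268, e3 q14472 (flp_e L681533) q16666, e3 q14473 L659245 q12270, e3 q14474 (flp_e L681558) q16668, e3 q14475 (flp_e L673027) q15980, e3 q14476 (flp_e L680330) q16554, e3 q14477 (flp_e L680345) q16555, e3 q14478 (flp_e L673129) q15986, e3 q14479 (flp_e L680358) q16556, e3 q14480 (flp_e L680367) q16557, e3 q14481 (flp_e L680384) q16558, e3 q14482 (flp_e L680397) q16559, e3 q14483 (flp_e L659349) q13596, e3 q14484 L659359 q14484, e3 q14485 (flp_e L659380) q13296, e3 q14486 L659388 q14486, e3 q14487 L659397 q14487, e3 q14488 (flp_e L681041) q16615, e3 q14489 L659420 q14489, e3 q14490 L659428 q12504, e3 q14491 L659437 q12505, e3 q14492 L659450 q12287, e3 q14493 (flp_e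 L681196) q16636, e3 q14494 L659467 q12288, e3 q14495 (flp_e L681174) q16633, e3 q14496 (flp_e L681206) q16637, e3 q14497 (flp_e L681733) q16683, e3 q14498 (flp_e L659503) q12289, e3 q14499 (flp_e L681791) q16689, e3 q14500 (flp_e L681805) q16690, e3 q14501 L659540 q14501, e3 q14502 L681863 q16697, e3 q14503 L659556 q14503, e3 q14504 L681893 q16700, e3 q14505 (flp_e L659568) q12292, e3 q14506 (flp_e L681919) q16702, e3 q14507 L659589 q12520, e3 q14508 L659599 q12521, e3 q14509 L681971 q16708, e3 q14510 L659619 q12523, e3 q14511 L681999 q16711, e3 q14512 L659637 q12303, e3 q14513 L682025 q16714, e3 q14514 (flp_e L659649) q12297, e3 q14515 (flp_e L682056) q16717, e3 q14516 L682080 q16720, e3 q14517 (flp_e L659671) q12299, e3 q14518 (flp_e L682104) q16722, e3 q14519 L659694 q12301, e3 q14520 (flp_e L682118) q16724, e3 q14521 (flp_e L659702) q12302, e3 q14522 (flp_e L682139) q16726, e3 q14523 L659735 q12536, e3 q14524 L659742 q12305, e3 q14525 (flp_e L682173) q16729, e3 q14526 L659761 q12307, e3 q14527 L659769 q12540, trivial⟩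 (by decide +kernel)

theorem ce_e_227 : ∀ r, r < 64 → sm ge (Qf (14528 + r)) = Qf (tab Gen.e (14528 + r)) :=
  edges_tab (sm ge) Qf (tab Gen.e) 14528 [(14528, 16733), (14529, 12542), (14530, 16347), (14531, 12310), (14532, 16737), (14533, 14533), (14534, 14534), (14535, 14535), (14536, 14536), (14537, 14537), (14538, 14538), (14539, 14539), (14540, 14540), (14541, 12320), (14542, 12321), (14543, 13765), (14544, 16748), (14545, 16755), (14546, 16750), (14547, 16758), (14548, 14548), (14549, 16761), (14550, 12323), (14551, 16764), (14552, 13136), (14553, 12325), (14554, 16767), (14555, 13224), (14556, 12327), (14557, 16771), (14558, 12569), (14559, 16775), (14560, 12571), (14561, 16778), (14562, 12330), (14563, 16781), (14564, 16783), (14565, 12332), (14566, 16786), (14567, 16789), (14568, 12334), (14569, 16792), (14570, 16780), (14571, 12336), (14572, 16796), (14573, 13152), (14574, 12337), (14575, 16798), (14576, 13244), (14577, 12339), (14578, 16802), (14579, 13247), (14580, 13248), (14581, 12342), (14582, 12593), (14583,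 12344), (14584, 16809), (14585, 12596), (14586, 12597), (14587, 12347), (14588, 12351), (14589, 12352), (14590, 12353), (14591, 16645)]
    ⟨e3 q14528 L682203 q16733, e3 q14529 L659790 q12542, e3 q14530 (flp_e L677820) q16347, e3 q14531 (flp_e L659805) q12310, e3 q14532 (flp_e L682252) q16737, e3 q14533 L659831 q14533, e3 q14534 L659844 q14534, e3 q14535 L659851 q14535, e3 q14536 L659862 q14536, e3 q14537 L659870 q14537, e3 q14538 L659877 q14538, e3 q14539 L659888 q14539, e3 q14540 L659897 q14540, e3 q14541 L659908 q12320, e3 q14542 L659918 q12321, e3 q14543 L659930 q13765, e3 q14544 (flp_e L682360) q16748, e3 q14545 L682423 q16755, e3 q14546 (flp_e L682381) q16750, e3 q14547 L682448 q16758, e3 q14548 L659967 q14548, e3 q14549 L682480 q16761, e3 q14550 (flp_e L659977) q12323, e3 q14551 (flp_e L682507) q16764, e3 q14552 (flp_e L660001) q13136, e3 q14553 (flp_e L660003) q12325, e3 q14554 (flp_e L682538) q16767, e3 q14555 L660025 q13224, e3 q14556 L660030 q12327, e3 q14557 (flp_e L682564) q16771, e3 q14558 L660042 q12569, e3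 q14559 L682594 q16775, e3 q14560 L660058 q12571, e3 q14561 L682620 q16778, e3 q14562 (flp_e L660072) q12330, e3 q14563 (flp_e L682646) q16781, e3 q14564 L682656 q16783, e3 q14565 (flp_e L660096) q12332, e3 q14566 (flp_e L682693) q16786, e3 q14567 L682717 q16789, e3 q14568 (flp_e L660122) q12334, e3 q14569 (flp_e L682754) q16792, e3 q14570 (flp_e L682640) q16780, e3 q14571 L660145 q12336, e3 q14572 (flp_e L682778) q16796, e3 q14573 (flp_e L660163) q13152, e3 q14574 (flp_e L660165) q12337, e3 q14575 (flp_e L682803) q16798, e3 q14576 L660189 q13244, e3 q14577 L660196 q12339, e3 q14578 (flp_e L682831) q16802, e3 q14579 L660208 q13247, e3 q14580 L660214 q13248, e3 q14581 L660220 q12342, e3 q14582 L660230 q12593, e3 q14583 L660237 q12344, e3 q14584 (flp_e L682879) q16809, e3 q14585 L660258 q12596, e3 q14586 L660266 q12597, e3 q14587 L660273 q12347, e3 q14588 L660281 q12351, e3 q14589 L660287 q12352, e3 q14590 L660294 q12353, e3 q14591 (flp_e L681281) q16645, trivial⟩ (by decide +kernel)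

theorem ce_e_228 : ∀ r, r < 64 → sm ge (Qf (14592 + r)) = Qf (tab Gen.e (14592 + r)) :=
  edges_tab (sm ge) Qf (tab Gen.e) 14592 [(14592, 16814), (14593, 16815), (14594, 12606), (14595, 16818), (14596, 12355), (14597, 16820), (14598, 16823), (14599, 12357), (14600, 16826), (14601, 12359), (14602, 16828), (14603, 14603), (14604, 14604), (14605, 14605), (14606, 14606), (14607, 14607), (14608, 14608), (14609, 14609), (14610, 16835), (14611, 12370), (14612, 16836), (14613, 16837), (14614, 12371), (14615, 16839), (14616, 12373), (14617, 16841), (14618, 12375), (14619, 14619), (14620, 14620), (14621, 14621), (14622, 13582), (14623, 12498), (14624, 15990), (14625, 12386), (14626, 16844), (14627, 12389), (14628, 16221), (14629, 12394), (14630, 13787), (14631, 16538), (14632, 12398), (14633, 16849), (14634, 12402), (14635, 12403), (14636, 12401), (14637, 16850), (14638, 16851), (14639, 14639), (14640, 12409), (14641, 16563), (14642, 16564), (14643, 12418), (14644, 16270), (14645, 12419), (14646, 12717), (14647, 16271), (14648, 16858),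 (14649, 16578), (14650, 16579), (14651, 16866), (14652, 16581), (14653, 16868), (14654, 12428), (14655, 12423)]
    ⟨e3 q14592 (flp_e L682919) q16814, e3 q14593 (flp_e L682930) q16815, e3 q14594 L660331 q12606, e3 q14595 L682946 q16818, e3 q14596 (flp_e L660346) q12355, e3 q14597 (flp_e L682972) q16820, e3 q14598 L682997 q16823, e3 q14599 (flp_e L660377) q12357, e3 q14600 (flp_e L683032) q16826, e3 q14601 L660399 q12359, e3 q14602 (flp_e L683050) q16828, e3 q14603 L660419 q14603, e3 q14604 L660428 q14604, e3 q14605 L660438 q14605, e3 q14606 L660450 q14606, e3 q14607 L660459 q14607, e3 q14608 L660469 q14608, e3 q14609 L660478 q14609, e3 q14610 L683113 q16835, e3 q14611 L660494 q12370, e3 q14612 (flp_e L683122) q16836, e3 q14613 L683128 q16837, e3 q14614 (flp_e L660521) q12371, e3 q14615 (flp_e L683160) q16839, e3 q14616 L660552 q12373, e3 q14617 (flp_e L683185) q16841, e3 q14618 L660576 q12375, e3 q14619 L660589 q14619, e3 q14620 L660598 q14620, e3 q14621 L660611 q14621, e3 q14622 (flp_e L660628) q13582, e3 q14623 L660639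 q12498, e3 q14624 (flp_e L673179) q15990, e3 q14625 (flp_e L660652) q12386, e3 q14626 (flp_e L683229) q16844, e3 q14627 L660687 q12389, e3 q14628 L676346 q16221, e3 q14629 L660712 q12394, e3 q14630 L660728 q13787, e3 q14631 (flp_e L680113) q16538, e3 q14632 L660750 q12398, e3 q14633 (flp_e L683289) q16849, e3 q14634 L660774 q12402, e3 q14635 L660788 q12403, e3 q14636 L660798 q12401, e3 q14637 (flp_e L683307) q16850, e3 q14638 (flp_e L683320) q16851, e3 q14639 L660830 q14639, e3 q14640 L660839 q12409, e3 q14641 (flp_e L680455) q16563, e3 q14642 (flp_e L680470) q16564, e3 q14643 L660879 q12418, e3 q14644 (flp_e L676974) q16270, e3 q14645 L660901 q12419, e3 q14646 L660911 q12717, e3 q14647 (flp_e L676988) q16271, e3 q14648 (flp_e L683404) q16858, e3 q14649 (flp_e L680635) q16578, e3 q14650 (flp_e L680649) q16579, e3 q14651 L683496 q16866, e3 q14652 (flp_e L680669) q16581, e3 q14653 L683518 q16868, e3 q14654 L661008 q12428, e3 q14655 (flp_e L661015) q12423, trivial⟩ (by decide +kernel)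

theorem ce_e_229 : ∀ r, r < 64 → sm ge (Qf (14656 + r)) = Qf (tab Gen.e (14656 + r)) :=
  edges_tab (sm ge) Qf (tab Gen.e) 14656 [(14656, 16871), (14657, 12426), (14658, 16873), (14659, 12427), (14660, 16874), (14661, 16591), (14662, 12430), (14663, 16877), (14664, 12432), (14665, 16595), (14666, 16596), (14667, 12438), (14668, 12439), (14669, 16223), (14670, 16880), (14671, 16886), (14672, 16882), (14673, 16888), (14674, 14674), (14675, 12441), (14676, 16891), (14677, 12444), (14678, 16893), (14679, 16618), (14680, 16897), (14681, 16620), (14682, 16900), (14683, 12447), (14684, 16903), (14685, 13771), (14686, 12449), (14687, 16907), (14688, 12923), (14689, 12451), (14690, 16911), (14691, 16902), (14692, 12453), (14693, 16915), (14694, 12926), (14695, 12456), (14696, 16917), (14697, 12507), (14698, 12510), (14699, 12459), (14700, 16597), (14701, 12461), (14702, 16924), (14703, 16640), (14704, 16641), (14705, 12464), (14706, 12468), (14707, 12469), (14708, 12470), (14709, 12602), (14710, 16929), (14711, 16930), (14712, 13524),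 (14713, 16647), (14714, 13374), (14715, 12472), (14716, 16937), (14717, 13380), (14718, 12474), (14719, 16940)]
    ⟨e3 q14656 (flp_e L683560) q16871, e3 q14657 L661045 q12426, e3 q14658 (flp_e L683582) q16873, e3 q14659 (flp_e L661061) q12427, e3 q14660 (flp_e L683593) q16874, e3 q14661 (flp_e L680782) q16591, e3 q14662 L661089 q12430, e3 q14663 (flp_e L683618) q16877, e3 q14664 L661106 q12432, e3 q14665 (flp_e L680825) q16595, e3 q14666 (flp_e L680840) q16596, e3 q14667 L661141 q12438, e3 q14668 L661152 q12439, e3 q14669 (flp_e L676372) q16223, e3 q14670 (flp_e L683651) q16880, e3 q14671 L683711 q16886, e3 q14672 (flp_e L683669) q16882, e3 q14673 L683733 q16888, e3 q14674 L661221 q14674, e3 q14675 (flp_e L661227) q12441, e3 q14676 (flp_e L683772) q16891, e3 q14677 L661255 q12444, e3 q14678 (flp_e L683794) q16893, e3 q14679 (flp_e L681062) q16618, e3 q14680 L683831 q16897, e3 q14681 (flp_e L681080) q16620, e3 q14682 L683857 q16900, e3 q14683 (flp_e L661308) q12447, e3 q14684 (flp_e L683885) q16903, e3 q14685 (flp_e L661333)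 q13771, e3 q14686 (flp_e L661335) q12449, e3 q14687 (flp_e L683926) q16907, e3 q14688 (flp_e L661363) q12923, e3 q14689 (flp_e L661365) q12451, e3 q14690 (flp_e L683976) q16911, e3 q14691 (flp_e L683881) q16902, e3 q14692 L661399 q12453, e3 q14693 (flp_e L684010) q16915, e3 q14694 L661417 q12926, e3 q14695 L661432 q12456, e3 q14696 (flp_e L684037) q16917, e3 q14697 L661454 q12507, e3 q14698 L661462 q12510, e3 q14699 L661469 q12459, e3 q14700 (flp_e L680852) q16597, e3 q14701 L661483 q12461, e3 q14702 (flp_e L684103) q16924, e3 q14703 (flp_e L681235) q16640, e3 q14704 (flp_e L681244) q16641, e3 q14705 L661509 q12464, e3 q14706 L661522 q12468, e3 q14707 L661530 q12469, e3 q14708 L661538 q12470, e3 q14709 L661548 q12602, e3 q14710 (flp_e L684150) q16929, e3 q14711 (flp_e L684159) q16930, e3 q14712 (flp_e L661585) q13524, e3 q14713 (flp_e L681304) q16647, e3 q14714 (flp_e L661610) q13374, e3 q14715 (flp_e L661612) q12472, e3 q14716 (flp_e L684248) q16937, e3 q14717 (flp_e L661656) q13380, e3 q14718 (flp_e L661658) q12474, e3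 q14719 (flp_e L684298) q16940, trivial⟩ (by decide +kernel)

theorem ce_e_230 : ∀ r, r < 64 → sm ge (Qf (14720 + r)) = Qf (tab Gen.e (14720 + r)) :=
  edges_tab (sm ge) Qf (tab Gen.e) 14720 [(14720, 12476), (14721, 13770), (14722, 13762), (14723, 13363), (14724, 12491), (14725, 12486), (14726, 12489), (14727, 13531), (14728, 13773), (14729, 16550), (14730, 12499), (14731, 13519), (14732, 16934), (14733, 14733), (14734, 16235), (14735, 14735), (14736, 16238), (14737, 16570), (14738, 16679), (14739, 16952), (14740, 16681), (14741, 16918), (14742, 12511), (14743, 16226), (14744, 16919), (14745, 16228), (14746, 16920), (14747, 12513), (14748, 12514), (14749, 13521), (14750, 16959), (14751, 16965), (14752, 16961), (14753, 16967), (14754, 14754), (14755, 12516), (14756, 16970), (14757, 12519), (14758, 16972), (14759, 16704), (14760, 16976), (14761, 16706), (14762, 16979), (14763, 12522), (14764, 16982), (14765, 16984), (14766, 12524), (14767, 16987), (14768, 16252), (14769, 12526), (14770, 16991), (14771, 16981), (14772, 12528),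 (14773, 16994), (14774, 16255), (14775, 12531), (14776, 16996), (14777, 12533), (14778, 16725), (14779, 12535), (14780, 17000), (14781, 16728), (14782, 12538), (14783, 16878)]
    ⟨e3 q14720 L661692 q12476, e3 q14721 L661708 q13770, e3 q14722 L661723 q13762, e3 q14723 L661738 q13363, e3 q14724 L661754 q12491, e3 q14725 L661769 q12486, e3 q14726 L661786 q12489, e3 q14727 L661804 q13531, e3 q14728 L661820 q13773, e3 q14729 (flp_e L680279) q16550, e3 q14730 (flp_e L661837) q12499, e3 q14731 L661862 q13519, e3 q14732 (flp_e L684196) q16934, e3 q14733 L661886 q14733, e3 q14734 L676536 q16235, e3 q14735 L661904 q14735, e3 q14736 (flp_e L676573) q16238, e3 q14737 (flp_e L680542) q16570, e3 q14738 (flp_e L681689) q16679, e3 q14739 L684420 q16952, e3 q14740 (flp_e L681708) q16681, e3 q14741 (flp_e L684052) q16918, e3 q14742 L661966 q12511, e3 q14743 L676418 q16226, e3 q14744 (flp_e L684061) q16919, e3 q14745 (flp_e L676443) q16228, e3 q14746 (flp_e L684069) q16920, e3 q14747 L662007 q12513, e3 q14748 L662020 q12514, e3 q14749 L662035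 q13521, e3 q14750 (flp_e L684483) q16959, e3 q14751 L684549 q16965, e3 q14752 (flp_e L684503) q16961, e3 q14753 L684571 q16967, e3 q14754 L662093 q14754, e3 q14755 (flp_e L662099) q12516, e3 q14756 (flp_e L684610) q16970, e3 q14757 L662127 q12519, e3 q14758 (flp_e L684632) q16972, e3 q14759 (flp_e L681935) q16704, e3 q14760 L684671 q16976, e3 q14761 (flp_e L681955) q16706, e3 q14762 L684699 q16979, e3 q14763 (flp_e L662184) q12522, e3 q14764 (flp_e L684731) q16982, e3 q14765 L684743 q16984, e3 q14766 (flp_e L662213) q12524, e3 q14767 (flp_e L684784) q16987, e3 q14768 L676759 q16252, e3 q14769 (flp_e L662241) q12526, e3 q14770 (flp_e L684822) q16991, e3 q14771 (flp_e L684725) q16981, e3 q14772 L662274 q12528, e3 q14773 (flp_e L684850) q16994, e3 q14774 (flp_e L676793) q16255, e3 q14775 L662300 q12531, e3 q14776 (flp_e L684871) q16996, e3 q14777 L662320 q12533, e3 q14778 (flp_e L682130) q16725, e3 q14779 L662336 q12535, e3 q14780 (flp_e L684904) q17000, e3 q14781 (flp_e L682164) q16728, e3 q14782 L662362 q12538, e3 q14783 (flp_e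 L683629) q16878, trivial⟩ (by decide +kernel)

theorem ce_e_231 : ∀ r, r < 64 → sm ge (Qf (14784 + r)) = Qf (tab Gen.e (14784 + r)) :=
  edges_tab (sm ge) Qf (tab Gen.e) 14784 [(14784, 17005), (14785, 16731), (14786, 17007), (14787, 12541), (14788, 17009), (14789, 17011), (14790, 12543), (14791, 17014), (14792, 12545), (14793, 14793), (14794, 14794), (14795, 14795), (14796, 14796), (14797, 12554), (14798, 12555), (14799, 17020), (14800, 12557), (14801, 17016), (14802, 17025), (14803, 17018), (14804, 17028), (14805, 12556), (14806, 17031), (14807, 17034), (14808, 12558), (14809, 17037), (14810, 16327), (14811, 12560), (14812, 17041), (14813, 17030), (14814, 12562), (14815, 17045), (14816, 16336), (14817, 13437), (14818, 12565), (14819, 17049), (14820, 13440), (14821, 13441), (14822, 12568), (14823, 17055), (14824, 16773), (14825, 17058), (14826, 12570), (14827, 17061), (14828, 17064), (14829, 12572), (14830, 17068), (14831, 12581), (14832, 12574), (14833, 17072), (14834, 17074), (14835, 12575), (14836, 17077), (14837, 17060),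 (14838, 12577), (14839, 17081), (14840, 16299), (14841, 12578), (14842, 17084), (14843, 17067), (14844, 12580), (14845, 17088), (14846, 17070), (14847, 17071)]
    ⟨e3 q14784 L684945 q17005, e3 q14785 (flp_e L682188) q16731, e3 q14786 L684972 q17007, e3 q14787 (flp_e L662407) q12541, e3 q14788 (flp_e L685004) q17009, e3 q14789 L685024 q17011, e3 q14790 (flp_e L662441) q12543, e3 q14791 (flp_e L685062) q17014, e3 q14792 L662469 q12545, e3 q14793 L662484 q14793, e3 q14794 L662493 q14794, e3 q14795 L662507 q14795, e3 q14796 L662521 q14796, e3 q14797 L662537 q12554, e3 q14798 L662547 q12555, e3 q14799 L685120 q17020, e3 q14800 L662561 q12557, e3 q14801 (flp_e L685091) q17016, e3 q14802 L685163 q17025, e3 q14803 (flp_e L685108) q17018, e3 q14804 L685187 q17028, e3 q14805 (flp_e L662603) q12556, e3 q14806 (flp_e L685217) q17031, e3 q14807 L685240 q17034, e3 q14808 (flp_e L662628) q12558, e3 q14809 (flp_e L685274) q17037, e3 q14810 L677609 q16327, e3 q14811 (flp_e L662651) q12560, e3 q14812 (flp_e L685312) q17041, e3 q14813 (flp_e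 L685213) q17030, e3 q14814 L662681 q12562, e3 q14815 (flp_e L685342) q17045, e3 q14816 (flp_e L677701) q16336, e3 q14817 L662713 q13437, e3 q14818 L662723 q12565, e3 q14819 (flp_e L685394) q17049, e3 q14820 L662742 q13440, e3 q14821 L662749 q13441, e3 q14822 L662756 q12568, e3 q14823 L685438 q17055, e3 q14824 (flp_e L682578) q16773, e3 q14825 L685461 q17058, e3 q14826 (flp_e L662785) q12570, e3 q14827 (flp_e L685485) q17061, e3 q14828 L685503 q17064, e3 q14829 (flp_e L662805) q12572, e3 q14830 (flp_e L685535) q17068, e3 q14831 L662823 q12581, e3 q14832 L662827 q12574, e3 q14833 (flp_e L685561) q17072, e3 q14834 L685576 q17074, e3 q14835 (flp_e L662844) q12575, e3 q14836 (flp_e L685607) q17077, e3 q14837 (flp_e L685481) q17060, e3 q14838 L662871 q12577, e3 q14839 (flp_e L685634) q17081, e3 q14840 L677322 q16299, e3 q14841 (flp_e L662887) q12578, e3 q14842 (flp_e L685657) q17084, e3 q14843 (flp_e L685529) q17067, e3 q14844 L662912 q12580, e3 q14845 (flp_e L685685) q17088, e3 q14846 (flp_e L685549) q17070, e3 q14847 (flp_e L685555)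 q17071, trivial⟩ (by decide +kernel)

theorem ce_e_232 : ∀ r, r < 64 → sm ge (Qf (14848 + r)) = Qf (tab Gen.e (14848 + r)) :=
  edges_tab (sm ge) Qf (tab Gen.e) 14848 [(14848, 12583), (14849, 16305), (14850, 13471), (14851, 12586), (14852, 17097), (14853, 13474), (14854, 13475), (14855, 12589), (14856, 17103), (14857, 13478), (14858, 13479), (14859, 13480), (14860, 16921), (14861, 16735), (14862, 16808), (14863, 12595), (14864, 16810), (14865, 16811), (14866, 16812), (14867, 16928), (14868, 12603), (14869, 12604), (14870, 16279), (14871, 16932), (14872, 17116), (14873, 17121), (14874, 12605), (14875, 17123), (14876, 17126), (14877, 12607), (14878, 17129), (14879, 12609), (14880, 17131), (14881, 17132), (14882, 12610), (14883, 17135), (14884, 17066), (14885, 12612), (14886, 17139), (14887, 12614), (14888, 14888), (14889, 14889), (14890, 14890), (14891, 14891), (14892, 14892), (14893, 17147), (14894, 14894), (14895, 16861), (14896, 12623), (14897, 12702), (14898, 12631), (14899, 12626), (14900, 12629), (14901, 13544), (14902,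 12627), (14903, 17124), (14904, 12632), (14905, 17149), (14906, 13355), (14907, 12634), (14908, 13487), (14909, 13356), (14910, 13274), (14911, 16210)]
    ⟨e3 q14848 L662936 q12583, e3 q14849 (flp_e L677380) q16305, e3 q14850 L662961 q13471, e3 q14851 L662968 q12586, e3 q14852 (flp_e L685763) q17097, e3 q14853 L662983 q13474, e3 q14854 L662990 q13475, e3 q14855 L662999 q12589, e3 q14856 L685807 q17103, e3 q14857 L663019 q13478, e3 q14858 L663026 q13479, e3 q14859 L663032 q13480, e3 q14860 (flp_e L684077) q16921, e3 q14861 (flp_e L682227) q16735, e3 q14862 (flp_e L682868) q16808, e3 q14863 L663057 q12595, e3 q14864 (flp_e L682889) q16810, e3 q14865 (flp_e L682897) q16811, e3 q14866 (flp_e L682906) q16812, e3 q14867 (flp_e L684140) q16928, e3 q14868 L663090 q12603, e3 q14869 L663098 q12604, e3 q14870 (flp_e L677086) q16279, e3 q14871 (flp_e L684174) q16932, e3 q14872 (flp_e L685901) q17116, e3 q14873 L685945 q17121, e3 q14874 (flp_e L663134) q12605, e3 q14875 (flp_e L685972) q17123, e3 q14876 L686015 q17126, e3 q14877 (flp_e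 L663167) q12607, e3 q14878 (flp_e L686049) q17129, e3 q14879 L663188 q12609, e3 q14880 (flp_e L686072) q17131, e3 q14881 L686081 q17132, e3 q14882 (flp_e L663217) q12610, e3 q14883 (flp_e L686117) q17135, e3 q14884 (flp_e L685523) q17066, e3 q14885 L663247 q12612, e3 q14886 (flp_e L686160) q17139, e3 q14887 L663270 q12614, e3 q14888 L663281 q14888, e3 q14889 L663295 q14889, e3 q14890 L663305 q14890, e3 q14891 L663317 q14891, e3 q14892 L663326 q14892, e3 q14893 L686248 q17147, e3 q14894 L663349 q14894, e3 q14895 (flp_e L683443) q16861, e3 q14896 (flp_e L663364) q12623, e3 q14897 L663376 q12702, e3 q14898 L663392 q12631, e3 q14899 L663406 q12626, e3 q14900 L663421 q12629, e3 q14901 (flp_e L663443) q13544, e3 q14902 (flp_e L663445) q12627, e3 q14903 (flp_e L685988) q17124, e3 q14904 (flp_e L663468) q12632, e3 q14905 (flp_e L686279) q17149, e3 q14906 L663502 q13355, e3 q14907 L663510 q12634, e3 q14908 L663521 q13487, e3 q14909 L663536 q13356, e3 q14910 L663554 q13274, e3 q14911 (flp_e L676197) q16210, trivial⟩ (by decide +kernel)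

theorem ce_e_233 : ∀ r, r < 64 → sm ge (Qf (14912 + r)) = Qf (tab Gen.e (14912 + r)) :=
  edges_tab (sm ge) Qf (tab Gen.e) 14912 [(14912, 14912), (14913, 14913), (14914, 16551), (14915, 14915), (14916, 15993), (14917, 12644), (14918, 12650), (14919, 12651), (14920, 13141), (14921, 12652), (14922, 17155), (14923, 17156), (14924, 12664), (14925, 13026), (14926, 12665), (14927, 17159), (14928, 17162), (14929, 12667), (14930, 12668), (14931, 17163), (14932, 12670), (14933, 13559), (14934, 12677), (14935, 13031), (14936, 12679), (14937, 17169), (14938, 12675), (14939, 17171), (14940, 17165), (14941, 13493), (14942, 13509), (14943, 17176), (14944, 12680), (14945, 17179), (14946, 12682), (14947, 13686), (14948, 13694), (14949, 13684), (14950, 13696), (14951, 13698), (14952, 12703), (14953, 13535), (14954, 13533), (14955, 12691), (14956, 12706), (14957, 12700), (14958, 12695), (14959, 12698), (14960, 13558), (14961, 13561), (14962, 17120), (14963, 13532), (14964, 13486), (14965, 17182), (14966, 13537), (14967, 12708), (14968, 17190),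 (14969, 13529), (14970, 14970), (14971, 14971), (14972, 17194), (14973, 14973), (14974, 16859), (14975, 12715)]
    ⟨e3 q14912 L663571 q14912, e3 q14913 L663579 q14913, e3 q14914 (flp_e L680293) q16551, e3 q14915 L663598 q14915, e3 q14916 (flp_e L673228) q15993, e3 q14917 (flp_e L663611) q12644, e3 q14918 L663625 q12650, e3 q14919 L663638 q12651, e3 q14920 L663651 q13141, e3 q14921 L663659 q12652, e3 q14922 (flp_e L686355) q17155, e3 q14923 (flp_e L686370) q17156, e3 q14924 L663697 q12664, e3 q14925 L663717 q13026, e3 q14926 L663726 q12665, e3 q14927 (flp_e L686411) q17159, e3 q14928 L686449 q17162, e3 q14929 (flp_e L663762) q12667, e3 q14930 (flp_e L663776) q12668, e3 q14931 L686467 q17163, e3 q14932 (flp_e L663806) q12670, e3 q14933 L663834 q13559, e3 q14934 L663841 q12677, e3 q14935 L663857 q13031, e3 q14936 L663863 q12679, e3 q14937 L686539 q17169, e3 q14938 (flp_e L663874) q12675, e3 q14939 (flp_e L686566) q17171, e3 q14940 (flp_e L686502) q17165, e3 q14941 L663908 q13493, e3 q14942 L663923 q13509, e3 q14943 L686623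 q17176, e3 q14944 (flp_e L663940) q12680, e3 q14945 (flp_e L686665) q17179, e3 q14946 L663971 q12682, e3 q14947 L663983 q13686, e3 q14948 L663999 q13694, e3 q14949 L664009 q13684, e3 q14950 L664024 q13696, e3 q14951 L664037 q13698, e3 q14952 L664048 q12703, e3 q14953 L664063 q13535, e3 q14954 (flp_e L664089) q13533, e3 q14955 (flp_e L664091) q12691, e3 q14956 L664119 q12706, e3 q14957 (flp_e L664132) q12700, e3 q14958 (flp_e L664136) q12695, e3 q14959 L664162 q12698, e3 q14960 L664175 q13558, e3 q14961 L664197 q13561, e3 q14962 L685943 q17120, e3 q14963 L664219 q13532, e3 q14964 L664231 q13486, e3 q14965 (flp_e L686709) q17182, e3 q14966 L664252 q13537, e3 q14967 L664265 q12708, e3 q14968 L686794 q17190, e3 q14969 L664291 q13529, e3 q14970 L664304 q14970, e3 q14971 L664314 q14971, e3 q14972 L686837 q17194, e3 q14973 L664337 q14973, e3 q14974 (flp_e L683415) q16859, e3 q14975 (flp_e L664348) q12715, trivial⟩ (by decide +kernel)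

theorem ce_e_234 : ∀ r, r < 64 → sm ge (Qf (14976 + r)) = Qf (tab Gen.e (14976 + r)) :=
  edges_tab (sm ge) Qf (tab Gen.e) 14976 [(14976, 13401), (14977, 13255), (14978, 14978), (14979, 15992), (14980, 14980), (14981, 13068), (14982, 12748), (14983, 13075), (14984, 13049), (14985, 12745), (14986, 12746), (14987, 17199), (14988, 12750), (14989, 14989), (14990, 14990), (14991, 13093), (14992, 16504), (14993, 14993), (14994, 13085), (14995, 13086), (14996, 17205), (14997, 12761), (14998, 17208), (14999, 16049), (15000, 12763), (15001, 17211), (15002, 12767), (15003, 16493), (15004, 16495), (15005, 15005), (15006, 15006), (15007, 15007), (15008, 15008), (15009, 12928), (15010, 13189), (15011, 12800), (15012, 13191), (15013, 13192), (15014, 17217), (15015, 12880), (15016, 13200), (15017, 13202), (15018, 13203), (15019, 13603), (15020, 12915), (15021, 13134), (15022, 12794), (15023, 13137), (15024, 17226), (15025, 12930), (15026, 12796), (15027, 17229), (15028, 12799), (15029, 17231), (15030, 12943), (15031, 12802), (15032, 12945),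 (15033, 13747), (15034, 12947), (15035, 13748), (15036, 15036), (15037, 15037), (15038, 17235), (15039, 13482)]
    ⟨e3 q14976 L664364 q13401, e3 q14977 L664378 q13255, e3 q14978 L664386 q14978, e3 q14979 (flp_e L673213) q15992, e3 q14980 L664411 q14980, e3 q14981 L664424 q13068, e3 q14982 L664436 q12748, e3 q14983 L664452 q13075, e3 q14984 L664466 q13049, e3 q14985 L664477 q12745, e3 q14986 (flp_e L664485) q12746, e3 q14987 (flp_e L686906) q17199, e3 q14988 L664514 q12750, e3 q14989 L664529 q14989, e3 q14990 L664545 q14990, e3 q14991 L664560 q13093, e3 q14992 (flp_e L679730) q16504, e3 q14993 L664582 q14993, e3 q14994 L664591 q13085, e3 q14995 L664607 q13086, e3 q14996 L686966 q17205, e3 q14997 (flp_e L664623) q12761, e3 q14998 (flp_e L687009) q17208, e3 q14999 (flp_e L674051) q16049, e3 q15000 L664658 q12763, e3 q15001 (flp_e L687035) q17211, e3 q15002 L664675 q12767, e3 q15003 (flp_e L679592) q16493, e3 q15004 (flp_e L679617) q16495, e3 q15005 L664707 q15005, e3 q15006 L664720 q15006, e3 q15007 L664729 q15007, e3 q15008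 L664743 q15008, e3 q15009 L664758 q12928, e3 q15010 L664774 q13189, e3 q15011 L664786 q12800, e3 q15012 L664798 q13191, e3 q15013 L664810 q13192, e3 q15014 L687109 q17217, e3 q15015 L664828 q12880, e3 q15016 L664842 q13200, e3 q15017 L664854 q13202, e3 q15018 L664862 q13203, e3 q15019 L664872 q13603, e3 q15020 L664881 q12915, e3 q15021 L664897 q13134, e3 q15022 L664908 q12794, e3 q15023 L664924 q13137, e3 q15024 L687210 q17226, e3 q15025 L664938 q12930, e3 q15026 (flp_e L664944) q12796, e3 q15027 (flp_e L687244) q17229, e3 q15028 L664974 q12799, e3 q15029 (flp_e L687264) q17231, e3 q15030 L664993 q12943, e3 q15031 L665002 q12802, e3 q15032 L665015 q12945, e3 q15033 (flp_e L665038) q13747, e3 q15034 L665045 q12947, e3 q15035 L665060 q13748, e3 q15036 L665073 q15036, e3 q15037 L665085 q15037, e3 q15038 L687317 q17235, e3 q15039 L665110 q13482, trivial⟩ (by decide +kernel)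

theorem ce_e_235 : ∀ r, r < 64 → sm ge (Qf (15040 + r)) = Qf (tab Gen.e (15040 + r)) :=
  edges_tab (sm ge) Qf (tab Gen.e) 15040 [(15040, 13234), (15041, 16126), (15042, 12816), (15043, 17240), (15044, 12975), (15045, 17244), (15046, 12977), (15047, 17247), (15048, 12819), (15049, 17250), (15050, 13219), (15051, 13220), (15052, 17255), (15053, 12823), (15054, 17258), (15055, 17249), (15056, 12825), (15057, 17262), (15058, 12826), (15059, 17263), (15060, 16140), (15061, 12828), (15062, 17267), (15063, 16143), (15064, 16144), (15065, 12831), (15066, 13001), (15067, 13002), (15068, 12836), (15069, 12837), (15070, 17273), (15071, 13007), (15072, 16170), (15073, 16195), (15074, 13317), (15075, 12841), (15076, 17277), (15077, 12843), (15078, 15078), (15079, 15079), (15080, 15080), (15081, 15081), (15082, 15082), (15083, 16770), (15084, 13304), (15085, 13341), (15086, 15086), (15087, 15087), (15088, 15088), (15089, 15089), (15090, 15090), (15091, 15981), (15092, 12863), (15093, 12905), (15094, 12906), (15095, 12907), (15096, 12908),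 (15097, 12909), (15098, 17289), (15099, 12872), (15100, 12921), (15101, 17294), (15102, 17291), (15103, 13383)]
    ⟨e3 q15040 L665122 q13234, e3 q15041 (flp_e L675154) q16126, e3 q15042 L665144 q12816, e3 q15043 (flp_e L687375) q17240, e3 q15044 L665162 q12975, e3 q15045 L687417 q17244, e3 q15046 L665184 q12977, e3 q15047 L687449 q17247, e3 q15048 (flp_e L665196) q12819, e3 q15049 (flp_e L687479) q17250, e3 q15050 L665212 q13219, e3 q15051 L665228 q13220, e3 q15052 L687525 q17255, e3 q15053 (flp_e L665242) q12823, e3 q15054 (flp_e L687562) q17258, e3 q15055 (flp_e L687471) q17249, e3 q15056 L665277 q12825, e3 q15057 (flp_e L687598) q17262, e3 q15058 (flp_e L665289) q12826, e3 q15059 (flp_e L687613) q17263, e3 q15060 (flp_e L675337) q16140, e3 q15061 L665314 q12828, e3 q15062 (flp_e L687637) q17267, e3 q15063 (flp_e L675373) q16143, e3 q15064 (flp_e L675381) q16144, e3 q15065 L665338 q12831, e3 q15066 L665345 q13001, e3 q15067 L665356 q13002, e3 q15068 L665367 q12836, e3 q15069 L665376 q12837, e3 q15070 (flp_e L687683) q17273,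 e3 q15071 L665397 q13007, e3 q15072 (flp_e L675706) q16170, e3 q15073 (flp_e L676000) q16195, e3 q15074 (flp_e L665431) q13317, e3 q15075 (flp_e L665433) q12841, e3 q15076 (flp_e L687732) q17277, e3 q15077 L665460 q12843, e3 q15078 L665469 q15078, e3 q15079 L665478 q15079, e3 q15080 L665487 q15080, e3 q15081 L665494 q15081, e3 q15082 L665505 q15082, e3 q15083 (flp_e L682558) q16770, e3 q15084 L665522 q13304, e3 q15085 L665537 q13341, e3 q15086 L665549 q15086, e3 q15087 L665559 q15087, e3 q15088 L665569 q15088, e3 q15089 L665576 q15089, e3 q15090 L665588 q15090, e3 q15091 (flp_e L673043) q15981, e3 q15092 (flp_e L665607) q12863, e3 q15093 L665624 q12905, e3 q15094 L665637 q12906, e3 q15095 L665646 q12907, e3 q15096 L665659 q12908, e3 q15097 L665669 q12909, e3 q15098 L687859 q17289, e3 q15099 L665689 q12872, e3 q15100 L665702 q12921, e3 q15101 L687924 q17294, e3 q15102 (flp_e L687889) q17291, e3 q15103 L665738 q13383, trivial⟩ (by decide +kernel)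

theorem ce_e_236 : ∀ r, r < 64 → sm ge (Qf (15104 + r)) = Qf (tab Gen.e (15104 + r)) :=
  edges_tab (sm ge) Qf (tab Gen.e) 15104 [(15104, 13760), (15105, 13385), (15106, 13386), (15107, 17298), (15108, 16155), (15109, 17301), (15110, 12879), (15111, 17303), (15112, 13393), (15113, 13394), (15114, 13395), (15115, 13396), (15116, 13397), (15117, 13398), (15118, 13399), (15119, 13400), (15120, 16359), (15121, 16360), (15122, 16361), (15123, 13675), (15124, 13676), (15125, 13677), (15126, 13678), (15127, 13679), (15128, 13680), (15129, 13681), (15130, 13682), (15131, 17325), (15132, 16378), (15133, 16379), (15134, 16380), (15135, 16009), (15136, 16010), (15137, 16011), (15138, 17284), (15139, 17285), (15140, 13655), (15141, 17287), (15142, 16244), (15143, 12910), (15144, 13308), (15145, 13761), (15146, 13149), (15147, 17336), (15148, 17223), (15149, 13300), (15150, 12920), (15151, 13302), (15152, 13303), (15153, 17341), (15154, 17293), (15155, 13774), (15156, 13759), (15157, 16179), (15158, 16909), (15159, 16185), (15160, 16916),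 (15161, 16059), (15162, 17351), (15163, 17213), (15164, 17354), (15165, 12929), (15166, 17357), (15167, 17360)]
    ⟨e3 q15104 L665749 q13760, e3 q15105 L665764 q13385, e3 q15106 L665774 q13386, e3 q15107 L687971 q17298, e3 q15108 (flp_e L675507) q16155, e3 q15109 L688001 q17301, e3 q15110 (flp_e L665813) q12879, e3 q15111 (flp_e L688025) q17303, e3 q15112 L665835 q13393, e3 q15113 L665850 q13394, e3 q15114 L665859 q13395, e3 q15115 L665873 q13396, e3 q15116 L665883 q13397, e3 q15117 L665895 q13398, e3 q15118 L665912 q13399, e3 q15119 L665921 q13400, e3 q15120 (flp_e L677929) q16359, e3 q15121 (flp_e L677944) q16360, e3 q15122 (flp_e L677956) q16361, e3 q15123 L665952 q13675, e3 q15124 L665966 q13676, e3 q15125 L665977 q13677, e3 q15126 L665989 q13678, e3 q15127 L666002 q13679, e3 q15128 L666012 q13680, e3 q15129 L666025 q13681, e3 q15130 L666034 q13682, e3 q15131 L688258 q17325, e3 q15132 (flp_e L678144) q16378, e3 q15133 (flp_e L678160) q16379, e3 q15134 (flp_e L678171) q16380, e3 q15135 (flp_e L673436) q16009, e3 q15136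 (flp_e L673452) q16010, e3 q15137 (flp_e L673464) q16011, e3 q15138 (flp_e L687812) q17284, e3 q15139 (flp_e L687822) q17285, e3 q15140 (flp_e L666129) q13655, e3 q15141 (flp_e L687846) q17287, e3 q15142 (flp_e L676658) q16244, e3 q15143 (flp_e L666146) q12910, e3 q15144 L666165 q13308, e3 q15145 L666179 q13761, e3 q15146 L666194 q13149, e3 q15147 L688384 q17336, e3 q15148 (flp_e L687178) q17223, e3 q15149 L666228 q13300, e3 q15150 L666239 q12920, e3 q15151 L666254 q13302, e3 q15152 L666264 q13303, e3 q15153 L688436 q17341, e3 q15154 (flp_e L687916) q17293, e3 q15155 L666295 q13774, e3 q15156 L666306 q13759, e3 q15157 L675814 q16179, e3 q15158 (flp_e L683946) q16909, e3 q15159 (flp_e L675881) q16185, e3 q15160 (flp_e L684020) q16916, e3 q15161 (flp_e L674193) q16059, e3 q15162 L688531 q17351, e3 q15163 (flp_e L687063) q17213, e3 q15164 L688555 q17354, e3 q15165 (flp_e L666384) q12929, e3 q15166 (flp_e L688583) q17357, e3 q15167 L688600 q17360, trivial⟩ (by decide +kernel)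

theorem ce_e_237 : ∀ r, r < 64 → sm ge (Qf (15168 + r)) = Qf (tab Gen.e (15168 + r)) :=
  edges_tab (sm ge) Qf (tab Gen.e) 15168 [(15168, 12931), (15169, 17363), (15170, 16164), (15171, 12933), (15172, 17367), (15173, 17356), (15174, 12935), (15175, 17370), (15176, 16167), (15177, 12938), (15178, 17372), (15179, 12940), (15180, 13188), (15181, 12942), (15182, 17232), (15183, 13730), (15184, 17233), (15185, 17378), (15186, 12946), (15187, 17380), (15188, 17383), (15189, 12948), (15190, 17386), (15191, 12950), (15192, 17388), (15193, 15193), (15194, 15194), (15195, 15195), (15196, 15196), (15197, 15197), (15198, 15198), (15199, 15199), (15200, 15200), (15201, 17397), (15202, 17399), (15203, 12963), (15204, 13778), (15205, 17404), (15206, 13779), (15207, 17407), (15208, 12962), (15209, 17410), (15210, 13776), (15211, 13777), (15212, 17415), (15213, 12966), (15214, 17418), (15215, 17409), (15216, 12968), (15217, 17422), (15218, 12969), (15219, 17423), (15220, 12971), (15221, 17425), (15222, 16308), (15223, 16309), (15224, 12974),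 (15225, 17431), (15226, 17242), (15227, 17434), (15228, 12976), (15229, 17437), (15230, 17440), (15231, 12978)]
    ⟨e3 q15168 (flp_e L666405) q12931, e3 q15169 (flp_e L688643) q17363, e3 q15170 L675632 q16164, e3 q15171 (flp_e L666433) q12933, e3 q15172 (flp_e L688679) q17367, e3 q15173 (flp_e L688577) q17356, e3 q15174 L666468 q12935, e3 q15175 (flp_e L688707) q17370, e3 q15176 (flp_e L675666) q16167, e3 q15177 L666496 q12938, e3 q15178 (flp_e L688726) q17372, e3 q15179 L666512 q12940, e3 q15180 L666528 q13188, e3 q15181 L666537 q12942, e3 q15182 (flp_e L687275) q17232, e3 q15183 L666565 q13730, e3 q15184 (flp_e L687290) q17233, e3 q15185 L688787 q17378, e3 q15186 (flp_e L666587) q12946, e3 q15187 (flp_e L688816) q17380, e3 q15188 L688845 q17383, e3 q15189 (flp_e L666619) q12948, e3 q15190 (flp_e L688878) q17386, e3 q15191 L666644 q12950, e3 q15192 (flp_e L688897) q17388, e3 q15193 L666661 q15193, e3 q15194 L666673 q15194, e3 q15195 L666682 q15195, e3 q15196 L666692 q15196, e3 q15197 L666703 q15197, e3 q15198 L666712 q15198,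 e3 q15199 L666723 q15199, e3 q15200 L666732 q15200, e3 q15201 L688981 q17397, e3 q15202 L688999 q17399, e3 q15203 L666760 q12963, e3 q15204 L666771 q13778, e3 q15205 L689049 q17404, e3 q15206 L666791 q13779, e3 q15207 L689080 q17407, e3 q15208 (flp_e L666804) q12962, e3 q15209 (flp_e L689109) q17410, e3 q15210 L666820 q13776, e3 q15211 L666834 q13777, e3 q15212 L689152 q17415, e3 q15213 (flp_e L666848) q12966, e3 q15214 (flp_e L689193) q17418, e3 q15215 (flp_e L689103) q17409, e3 q15216 L666883 q12968, e3 q15217 (flp_e L689233) q17422, e3 q15218 (flp_e L666897) q12969, e3 q15219 (flp_e L689251) q17423, e3 q15220 L666924 q12971, e3 q15221 (flp_e L689269) q17425, e3 q15222 (flp_e L677418) q16308, e3 q15223 (flp_e L677431) q16309, e3 q15224 L666959 q12974, e3 q15225 L689319 q17431, e3 q15226 (flp_e L687399) q17242, e3 q15227 L689344 q17434, e3 q15228 (flp_e L666988) q12976, e3 q15229 (flp_e L689376) q17437, e3 q15230 L689396 q17440, e3 q15231 (flp_e L667012) q12978, trivial⟩ (by decide +kernel)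

theorem ce_e_238 : ∀ r, r < 64 → sm ge (Qf (15232 + r)) = Qf (tab Gen.e (15232 + r)) :=
  edges_tab (sm ge) Qf (tab Gen.e) 15232 [(15232, 17444), (15233, 12987), (15234, 12980), (15235, 17448), (15236, 17450), (15237, 12981), (15238, 17453), (15239, 17436), (15240, 12983), (15241, 17456), (15242, 17457), (15243, 12984), (15244, 17460), (15245, 17443), (15246, 12986), (15247, 17464), (15248, 17446), (15249, 17447), (15250, 12989), (15251, 12990), (15252, 17469), (15253, 13434), (15254, 12992), (15255, 17473), (15256, 16339), (15257, 16340), (15258, 12995), (15259, 17479), (15260, 16343), (15261, 16344), (15262, 16345), (15263, 13218), (15264, 16751), (15265, 17272), (15266, 13005), (15267, 16196), (15268, 16197), (15269, 17160), (15270, 13008), (15271, 17487), (15272, 13010), (15273, 17489), (15274, 17166), (15275, 13011), (15276, 17492), (15277, 17442), (15278, 13013), (15279, 17496), (15280, 13015), (15281, 15281), (15282, 15282), (15283, 15283), (15284, 15284), (15285, 15285), (15286, 17503), (15287, 15287), (15288, 17118),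 (15289, 13024), (15290, 16211), (15291, 17161), (15292, 13028), (15293, 17505), (15294, 13030), (15295, 17167)]
    ⟨e3 q15232 (flp_e L689426) q17444, e3 q15233 L667028 q12987, e3 q15234 L667034 q12980, e3 q15235 (flp_e L689452) q17448, e3 q15236 L689463 q17450, e3 q15237 (flp_e L667051) q12981, e3 q15238 (flp_e L689500) q17453, e3 q15239 (flp_e L689370) q17436, e3 q15240 L667086 q12983, e3 q15241 (flp_e L689526) q17456, e3 q15242 L689533 q17457, e3 q15243 (flp_e L667106) q12984, e3 q15244 (flp_e L689570) q17460, e3 q15245 (flp_e L689420) q17443, e3 q15246 L667135 q12986, e3 q15247 (flp_e L689600) q17464, e3 q15248 (flp_e L689438) q17446, e3 q15249 (flp_e L689444) q17447, e3 q15250 L667165 q12989, e3 q15251 (flp_e L667169) q12990, e3 q15252 (flp_e L689643) q17469, e3 q15253 L667204 q13434, e3 q15254 L667213 q12992, e3 q15255 (flp_e L689688) q17473, e3 q15256 (flp_e L677740) q16339, e3 q15257 (flp_e L677754) q16340, e3 q15258 L667240 q12995, e3 q15259 L689722 q17479, e3 q15260 (flp_e L677783) q16343, e3 q15261 (flp_e L677792)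 q16344, e3 q15262 (flp_e L677800) q16345, e3 q15263 L667275 q13218, e3 q15264 (flp_e L682391) q16751, e3 q15265 (flp_e L687672) q17272, e3 q15266 L667304 q13005, e3 q15267 (flp_e L676013) q16196, e3 q15268 (flp_e L676032) q16197, e3 q15269 (flp_e L686424) q17160, e3 q15270 (flp_e L667333) q13008, e3 q15271 (flp_e L689787) q17487, e3 q15272 L667353 q13010, e3 q15273 (flp_e L689805) q17489, e3 q15274 (flp_e L686514) q17166, e3 q15275 (flp_e L667374) q13011, e3 q15276 (flp_e L689830) q17492, e3 q15277 (flp_e L689414) q17442, e3 q15278 L667397 q13013, e3 q15279 (flp_e L689855) q17496, e3 q15280 L667411 q13015, e3 q15281 L667419 q15281, e3 q15282 L667430 q15282, e3 q15283 L667438 q15283, e3 q15284 L667449 q15284, e3 q15285 L667458 q15285, e3 q15286 L689908 q17503, e3 q15287 L667473 q15287, e3 q15288 (flp_e L685914) q17118, e3 q15289 (flp_e L667482) q13024, e3 q15290 (flp_e L676208) q16211, e3 q15291 (flp_e L686442) q17161, e3 q15292 L667513 q13028, e3 q15293 (flp_e L689930) q17505, e3 q15294 L667533 q13030, e3 q15295 (flp_e L686527)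 q17167, trivial⟩ (by decide +kernel)

theorem ce_e_239 : ∀ r, r < 64 → sm ge (Qf (15296 + r)) = Qf (tab Gen.e (15296 + r)) :=
  edges_tab (sm ge) Qf (tab Gen.e) 15296 [(15296, 13033), (15297, 17507), (15298, 13358), (15299, 13036), (15300, 13279), (15301, 15301), (15302, 15302), (15303, 15303), (15304, 13639), (15305, 13058), (15306, 13064), (15307, 13056), (15308, 13051), (15309, 16501), (15310, 17198), (15311, 15311), (15312, 15312), (15313, 15313), (15314, 16514), (15315, 17511), (15316, 17510), (15317, 13060), (15318, 17519), (15319, 13062), (15320, 17521), (15321, 15321), (15322, 16043), (15323, 17196), (15324, 17207), (15325, 15325), (15326, 13076), (15327, 16048), (15328, 16047), (15329, 17197), (15330, 15330), (15331, 15978), (15332, 13571), (15333, 13572), (15334, 16438), (15335, 17203), (15336, 17204), (15337, 15337), (15338, 16407), (15339, 13089), (15340, 17533), (15341, 16035), (15342, 16038), (15343, 17201), (15344, 16461), (15345, 13094), (15346, 17538), (15347, 16517), (15348, 13096), (15349, 17541), (15350,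 16520), (15351, 16521), (15352, 13099), (15353, 13102), (15354, 13103), (15355, 16040), (15356, 13108), (15357, 17546), (15358, 13583), (15359, 13584)]
    ⟨e3 q15296 L667552 q13033, e3 q15297 (flp_e L689950) q17507, e3 q15298 L667569 q13358, e3 q15299 L667583 q13036, e3 q15300 (flp_e L667597) q13279, e3 q15301 L667606 q15301, e3 q15302 L667614 q15302, e3 q15303 L667626 q15303, e3 q15304 (flp_e L667641) q13639, e3 q15305 L667653 q13058, e3 q15306 L667664 q13064, e3 q15307 L667682 q13056, e3 q15308 L667694 q13051, e3 q15309 L679698 q16501, e3 q15310 (flp_e L686892) q17198, e3 q15311 L667720 q15311, e3 q15312 L667731 q15312, e3 q15313 L667739 q15313, e3 q15314 L679827 q16514, e3 q15315 (flp_e L690001) q17511, e3 q15316 (flp_e L689987) q17510, e3 q15317 (flp_e L667764) q13060, e3 q15318 (flp_e L690069) q17519, e3 q15319 L667785 q13062, e3 q15320 (flp_e L690083) q17521, e3 q15321 L667799 q15321, e3 q15322 L673953 q16043, e3 q15323 (flp_e L686866) q17196, e3 q15324 (flp_e L687002) q17207, e3 q15325 L667832 q15325, e3 q15326 L667843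 q13076, e3 q15327 (flp_e L674029) q16048, e3 q15328 (flp_e L674013) q16047, e3 q15329 (flp_e L686878) q17197, e3 q15330 L667880 q15330, e3 q15331 (flp_e L672999) q15978, e3 q15332 L667899 q13571, e3 q15333 L667910 q13572, e3 q15334 L678955 q16438, e3 q15335 (flp_e L686948) q17203, e3 q15336 (flp_e L686958) q17204, e3 q15337 L667941 q15337, e3 q15338 (flp_e L678529) q16407, e3 q15339 (flp_e L667952) q13089, e3 q15340 (flp_e L690178) q17533, e3 q15341 (flp_e L673813) q16035, e3 q15342 (flp_e L673862) q16038, e3 q15343 (flp_e L686924) q17201, e3 q15344 (flp_e L679248) q16461, e3 q15345 (flp_e L667985) q13094, e3 q15346 (flp_e L690212) q17538, e3 q15347 (flp_e L679865) q16517, e3 q15348 L668015 q13096, e3 q15349 (flp_e L690236) q17541, e3 q15350 (flp_e L679888) q16520, e3 q15351 (flp_e L679894) q16521, e3 q15352 L668039 q13099, e3 q15353 L668047 q13102, e3 q15354 L668059 q13103, e3 q15355 (flp_e L673896) q16040, e3 q15356 L668078 q13108, e3 q15357 (flp_e L690273) q17546, e3 q15358 L668099 q13583, e3 q15359 L668107 q13584, trivial⟩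 (by decide +kernel)

theorem ce_e_240 : ∀ r, r < 64 → sm ge (Qf (15360 + r)) = Qf (tab Gen.e (15360 + r)) :=
  edges_tab (sm ge) Qf (tab Gen.e) 15360 [(15360, 13585), (15361, 13586), (15362, 17551), (15363, 13118), (15364, 13595), (15365, 13597), (15366, 13598), (15367, 13600), (15368, 13337), (15369, 13159), (15370, 13169), (15371, 16139), (15372, 13297), (15373, 17560), (15374, 13299), (15375, 13150), (15376, 13138), (15377, 16760), (15378, 17224), (15379, 16766), (15380, 17225), (15381, 13305), (15382, 16922), (15383, 17157), (15384, 15384), (15385, 15385), (15386, 15386), (15387, 15387), (15388, 15388), (15389, 15389), (15390, 17575), (15391, 17335), (15392, 16788), (15393, 17562), (15394, 16719), (15395, 16797), (15396, 13154), (15397, 17581), (15398, 17582), (15399, 13319), (15400, 17584), (15401, 13157), (15402, 17587), (15403, 17555), (15404, 13161), (15405, 17591), (15406, 17586), (15407, 13163), (15408, 17594), (15409, 16699), (15410, 13164), (15411, 17596), (15412, 13166), (15413, 17598), (15414, 13168), (15415,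 13339), (15416, 13173), (15417, 17601), (15418, 13175), (15419, 17603), (15420, 15420), (15421, 15421), (15422, 15422), (15423, 17607)]
    ⟨e3 q15360 L668118 q13585, e3 q15361 L668128 q13586, e3 q15362 L690316 q17551, e3 q15363 L668141 q13118, e3 q15364 L668154 q13595, e3 q15365 L668165 q13597, e3 q15366 L668173 q13598, e3 q15367 L668183 q13600, e3 q15368 L668195 q13337, e3 q15369 L668211 q13159, e3 q15370 L668222 q13169, e3 q15371 (flp_e L675315) q16139, e3 q15372 L668244 q13297, e3 q15373 L690418 q17560, e3 q15374 L668262 q13299, e3 q15375 L668278 q13150, e3 q15376 L668290 q13138, e3 q15377 L682478 q16760, e3 q15378 (flp_e L687194) q17224, e3 q15379 (flp_e L682526) q16766, e3 q15380 (flp_e L687206) q17225, e3 q15381 L668333 q13305, e3 q15382 (flp_e L684087) q16922, e3 q15383 (flp_e L686384) q17157, e3 q15384 L668359 q15384, e3 q15385 L668370 q15385, e3 q15386 L668378 q15386, e3 q15387 L668387 q15387, e3 q15388 L668396 q15388, e3 q15389 L668403 q15389, e3 q15390 L690549 q17575, e3 q15391 (flp_e L688376) q17335, e3 q15392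 L682715 q16788, e3 q15393 (flp_e L690440) q17562, e3 q15394 L682078 q16719, e3 q15395 (flp_e L682790) q16797, e3 q15396 L668447 q13154, e3 q15397 (flp_e L690589) q17581, e3 q15398 L690593 q17582, e3 q15399 L668465 q13319, e3 q15400 L690607 q17584, e3 q15401 (flp_e L668479) q13157, e3 q15402 (flp_e L690631) q17587, e3 q15403 (flp_e L690368) q17555, e3 q15404 (flp_e L668495) q13161, e3 q15405 (flp_e L690655) q17591, e3 q15406 (flp_e L690625) q17586, e3 q15407 L668522 q13163, e3 q15408 (flp_e L690677) q17594, e3 q15409 (flp_e L681891) q16699, e3 q15410 (flp_e L668536) q13164, e3 q15411 (flp_e L690694) q17596, e3 q15412 L668554 q13166, e3 q15413 (flp_e L690704) q17598, e3 q15414 L668564 q13168, e3 q15415 L668571 q13339, e3 q15416 (flp_e L668575) q13173, e3 q15417 (flp_e L690721) q17601, e3 q15418 L668593 q13175, e3 q15419 (flp_e L690735) q17603, e3 q15420 L668609 q15420, e3 q15421 L668619 q15421, e3 q15422 L668626 q15422, e3 q15423 L690763 q17607, trivial⟩ (by decide +kernel)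

theorem ce_e_241 : ∀ r, r < 64 → sm ge (Qf (15424 + r)) = Qf (tab Gen.e (15424 + r)) :=
  edges_tab (sm ge) Qf (tab Gen.e) 15424 [(15424, 13182), (15425, 15425), (15426, 16535), (15427, 13185), (15428, 17609), (15429, 17374), (15430, 16122), (15431, 17214), (15432, 16496), (15433, 17215), (15434, 17216), (15435, 13387), (15436, 17617), (15437, 13389), (15438, 17619), (15439, 13195), (15440, 17621), (15441, 16135), (15442, 16134), (15443, 17219), (15444, 16474), (15445, 16509), (15446, 17220), (15447, 15996), (15448, 13402), (15449, 15997), (15450, 16348), (15451, 13209), (15452, 17631), (15453, 13606), (15454, 13607), (15455, 13608), (15456, 13609), (15457, 17635), (15458, 17637), (15459, 13217), (15460, 17639), (15461, 17252), (15462, 17253), (15463, 17254), (15464, 13221), (15465, 17643), (15466, 16587), (15467, 13223), (15468, 17645), (15469, 16769), (15470, 13226), (15471, 17648), (15472, 13444), (15473, 17651), (15474, 13228), (15475, 17653), (15476, 17656), (15477, 13230), (15478, 17660), (15479, 13238), (15480, 13232),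 (15481, 17664), (15482, 16100), (15483, 16109), (15484, 17237), (15485, 16682), (15486, 13235), (15487, 17669)]
    ⟨e3 q15424 L668636 q13182, e3 q15425 L668645 q15425, e3 q15426 (flp_e L680066) q16535, e3 q15427 (flp_e L668652) q13185, e3 q15428 L690778 q17609, e3 q15429 (flp_e L688745) q17374, e3 q15430 L675097 q16122, e3 q15431 (flp_e L687079) q17214, e3 q15432 L679639 q16496, e3 q15433 (flp_e L687093) q17215, e3 q15434 (flp_e L687103) q17216, e3 q15435 L668715 q13387, e3 q15436 L690838 q17617, e3 q15437 L668733 q13389, e3 q15438 L690856 q17619, e3 q15439 (flp_e L668747) q13195, e3 q15440 (flp_e L690878) q17621, e3 q15441 (flp_e L675265) q16135, e3 q15442 (flp_e L675249) q16134, e3 q15443 (flp_e L687135) q17219, e3 q15444 (flp_e L679388) q16474, e3 q15445 (flp_e L679768) q16509, e3 q15446 (flp_e L687147) q17220, e3 q15447 (flp_e L673269) q15996, e3 q15448 L668816 q13402, e3 q15449 (flp_e L673283) q15997, e3 q15450 (flp_e L677832) q16348, e3 q15451 L668846 q13209, e3 q15452 (flp_e L690951) q17631, e3 q15453 L668863 q13606,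 e3 q15454 L668874 q13607, e3 q15455 L668886 q13608, e3 q15456 L668893 q13609, e3 q15457 L690978 q17635, e3 q15458 L690992 q17637, e3 q15459 (flp_e L668908) q13217, e3 q15460 (flp_e L691007) q17639, e3 q15461 (flp_e L687491) q17252, e3 q15462 (flp_e L687507) q17253, e3 q15463 (flp_e L687517) q17254, e3 q15464 (flp_e L668938) q13221, e3 q15465 (flp_e L691034) q17643, e3 q15466 (flp_e L680737) q16587, e3 q15467 L668959 q13223, e3 q15468 (flp_e L691046) q17645, e3 q15469 (flp_e L682551) q16769, e3 q15470 L668975 q13226, e3 q15471 L691061 q17648, e3 q15472 L668987 q13444, e3 q15473 L691081 q17651, e3 q15474 (flp_e L668999) q13228, e3 q15475 (flp_e L691101) q17653, e3 q15476 L691117 q17656, e3 q15477 (flp_e L669019) q13230, e3 q15478 (flp_e L691145) q17660, e3 q15479 L669035 q13238, e3 q15480 L669041 q13232, e3 q15481 (flp_e L691169) q17664, e3 q15482 (flp_e L674762) q16100, e3 q15483 (flp_e L674901) q16109, e3 q15484 (flp_e L687343) q17237, e3 q15485 (flp_e L681724) q16682, e3 q15486 (flp_e L669071) q13235, e3 q15487 (flp_e L691205)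 q17669, trivial⟩ (by decide +kernel)

theorem ce_e_242 : ∀ r, r < 64 → sm ge (Qf (15488 + r)) = Qf (tab Gen.e (15488 + r)) :=
  edges_tab (sm ge) Qf (tab Gen.e) 15488 [(15488, 17659), (15489, 13237), (15490, 17673), (15491, 17662), (15492, 17663), (15493, 13240), (15494, 13241), (15495, 17678), (15496, 16575), (15497, 13243), (15498, 17681), (15499, 16800), (15500, 16801), (15501, 13246), (15502, 17686), (15503, 16804), (15504, 16805), (15505, 16806), (15506, 13483), (15507, 13484), (15508, 13254), (15509, 16273), (15510, 17152), (15511, 16241), (15512, 16274), (15513, 13259), (15514, 17508), (15515, 16925), (15516, 13260), (15517, 17696), (15518, 17658), (15519, 13262), (15520, 17700), (15521, 13264), (15522, 13646), (15523, 13647), (15524, 13648), (15525, 13649), (15526, 17706), (15527, 13651), (15528, 17709), (15529, 13273), (15530, 16386), (15531, 16847), (15532, 13275), (15533, 17712), (15534, 13277), (15535, 17328), (15536, 13280), (15537, 17714), (15538, 13340), (15539, 13282), (15540, 17717), (15541, 13354), (15542,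 13285), (15543, 13662), (15544, 13663), (15545, 13665), (15546, 17721), (15547, 13292), (15548, 15988), (15549, 16118), (15550, 13294), (15551, 13590)]
    ⟨e3 q15488 (flp_e L691139) q17659, e3 q15489 L669099 q13237, e3 q15490 (flp_e L691235) q17673, e3 q15491 (flp_e L691157) q17662, e3 q15492 (flp_e L691163) q17663, e3 q15493 L669123 q13240, e3 q15494 (flp_e L669127) q13241, e3 q15495 (flp_e L691269) q17678, e3 q15496 L680602 q16575, e3 q15497 L669151 q13243, e3 q15498 (flp_e L691287) q17681, e3 q15499 (flp_e L682816) q16800, e3 q15500 (flp_e L682823) q16801, e3 q15501 L669175 q13246, e3 q15502 L691313 q17686, e3 q15503 (flp_e L682843) q16804, e3 q15504 (flp_e L682849) q16805, e3 q15505 (flp_e L682855) q16806, e3 q15506 L669199 q13483, e3 q15507 L669209 q13484, e3 q15508 L669219 q13254, e3 q15509 (flp_e L677010) q16273, e3 q15510 (flp_e L686328) q17152, e3 q15511 (flp_e L676615) q16241, e3 q15512 (flp_e L677021) q16274, e3 q15513 L669263 q13259, e3 q15514 L689965 q17508, e3 q15515 (flp_e L684117) q16925, e3 q15516 (flp_e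 L669285) q13260, e3 q15517 (flp_e L691397) q17696, e3 q15518 (flp_e L691133) q17658, e3 q15519 L669312 q13262, e3 q15520 (flp_e L691429) q17700, e3 q15521 L669327 q13264, e3 q15522 L669338 q13646, e3 q15523 L669346 q13647, e3 q15524 L669357 q13648, e3 q15525 L669367 q13649, e3 q15526 L691473 q17706, e3 q15527 L669383 q13651, e3 q15528 L691490 q17709, e3 q15529 (flp_e L669391) q13273, e3 q15530 (flp_e L678250) q16386, e3 q15531 (flp_e L683266) q16847, e3 q15532 (flp_e L669414) q13275, e3 q15533 (flp_e L691517) q17712, e3 q15534 L669440 q13277, e3 q15535 L688298 q17328, e3 q15536 (flp_e L669456) q13280, e3 q15537 (flp_e L691537) q17714, e3 q15538 L669481 q13340, e3 q15539 L669489 q13282, e3 q15540 (flp_e L691569) q17717, e3 q15541 L669507 q13354, e3 q15542 L669522 q13285, e3 q15543 L669532 q13662, e3 q15544 L669540 q13663, e3 q15545 L669550 q13665, e3 q15546 L691597 q17721, e3 q15547 (flp_e L669562) q13292, e3 q15548 (flp_e L673153) q15988, e3 q15549 (flp_e L675032) q16118, e3 q15550 (flp_e L669579) q13294, e3 q15551 L669596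 q13590, trivial⟩ (by decide +kernel)

theorem ce_e_243 : ∀ r, r < 64 → sm ge (Qf (15552 + r)) = Qf (tab Gen.e (15552 + r)) :=
  edges_tab (sm ge) Qf (tab Gen.e) 15552 [(15552, 16674), (15553, 17724), (15554, 17558), (15555, 13298), (15556, 17726), (15557, 17338), (15558, 17339), (15559, 17281), (15560, 17729), (15561, 13310), (15562, 16224), (15563, 17733), (15564, 17333), (15565, 13309), (15566, 17736), (15567, 13311), (15568, 17738), (15569, 17735), (15570, 13314), (15571, 17741), (15572, 13316), (15573, 17743), (15574, 17275), (15575, 17746), (15576, 13318), (15577, 17749), (15578, 17751), (15579, 13320), (15580, 17755), (15581, 13329), (15582, 13322), (15583, 17758), (15584, 17759), (15585, 13323), (15586, 17762), (15587, 17748), (15588, 13325), (15589, 17766), (15590, 13326), (15591, 17768), (15592, 17754), (15593, 13328), (15594, 17771), (15595, 17757), (15596, 13331), (15597, 13333), (15598, 17773), (15599, 13335), (15600, 16571), (15601, 17554), (15602, 16941), (15603, 17716), (15604, 16962), (15605, 13342), (15606,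 17779), (15607, 13344), (15608, 13419), (15609, 13345), (15610, 17782), (15611, 17753), (15612, 13347), (15613, 15613), (15614, 15614), (15615, 15615)]
    ⟨e3 q15552 (flp_e L681630) q16674, e3 q15553 L691624 q17724, e3 q15554 (flp_e L690402) q17558, e3 q15555 (flp_e L669627) q13298, e3 q15556 (flp_e L691644) q17726, e3 q15557 (flp_e L688410) q17338, e3 q15558 (flp_e L688421) q17339, e3 q15559 (flp_e L687774) q17281, e3 q15560 L691663 q17729, e3 q15561 L669674 q13310, e3 q15562 (flp_e L676388) q16224, e3 q15563 L691689 q17733, e3 q15564 (flp_e L688349) q17333, e3 q15565 (flp_e L669705) q13309, e3 q15566 (flp_e L691713) q17736, e3 q15567 (flp_e L669715) q13311, e3 q15568 (flp_e L691731) q17738, e3 q15569 (flp_e L691709) q17735, e3 q15570 L669749 q13314, e3 q15571 (flp_e L691757) q17741, e3 q15572 L669765 q13316, e3 q15573 L691770 q17743, e3 q15574 (flp_e L687705) q17275, e3 q15575 L691789 q17746, e3 q15576 (flp_e L669792) q13318, e3 q15577 (flp_e L691815) q17749, e3 q15578 L691827 q17751, e3 q15579 (flp_e L669810) q13320,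 e3 q15580 (flp_e L691853) q17755, e3 q15581 L669826 q13329, e3 q15582 L669830 q13322, e3 q15583 (flp_e L691871) q17758, e3 q15584 L691873 q17759, e3 q15585 (flp_e L669845) q13323, e3 q15586 (flp_e L691904) q17762, e3 q15587 (flp_e L691811) q17748, e3 q15588 L669876 q13325, e3 q15589 (flp_e L691939) q17766, e3 q15590 (flp_e L669888) q13326, e3 q15591 (flp_e L691958) q17768, e3 q15592 (flp_e L691847) q17754, e3 q15593 L669915 q13328, e3 q15594 (flp_e L691979) q17771, e3 q15595 (flp_e L691865) q17757, e3 q15596 L669937 q13331, e3 q15597 L669948 q13333, e3 q15598 (flp_e L691995) q17773, e3 q15599 L669960 q13335, e3 q15600 (flp_e L680557) q16571, e3 q15601 (flp_e L690352) q17554, e3 q15602 (flp_e L684314) q16941, e3 q15603 (flp_e L691555) q17716, e3 q15604 (flp_e L684518) q16962, e3 q15605 (flp_e L670006) q13342, e3 q15606 (flp_e L692036) q17779, e3 q15607 L670027 q13344, e3 q15608 (flp_e L670044) q13419, e3 q15609 (flp_e L670046) q13345, e3 q15610 (flp_e L692074) q17782, e3 q15611 (flp_e L691841) q17753, e3 q15612 L670074 q13347,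 e3 q15613 L670081 q15613, e3 q15614 L670095 q15614, e3 q15615 L670107 q15615, trivial⟩ (by decide +kernel)

theorem ce_e_244 : ∀ r, r < 64 → sm ge (Qf (15616 + r)) = Qf (tab Gen.e (15616 + r)) :=
  edges_tab (sm ge) Qf (tab Gen.e) 15616 [(15616, 17151), (15617, 13545), (15618, 13361), (15619, 16935), (15620, 15620), (15621, 15621), (15622, 15622), (15623, 13654), (15624, 16936), (15625, 13769), (15626, 17788), (15627, 13382), (15628, 17790), (15629, 16938), (15630, 13381), (15631, 17792), (15632, 17296), (15633, 17297), (15634, 17796), (15635, 17616), (15636, 17799), (15637, 13388), (15638, 17801), (15639, 17804), (15640, 13390), (15641, 17807), (15642, 13392), (15643, 17809), (15644, 17305), (15645, 17306), (15646, 17307), (15647, 17308), (15648, 17309), (15649, 17310), (15650, 17311), (15651, 17312), (15652, 17185), (15653, 17150), (15654, 17175), (15655, 13403), (15656, 17818), (15657, 13405), (15658, 17173), (15659, 13406), (15660, 17821), (15661, 17806), (15662, 13408), (15663, 13692), (15664, 13693), (15665, 13695),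 (15666, 13421), (15667, 17826), (15668, 13417), (15669, 17828), (15670, 17831), (15671, 17780), (15672, 17834), (15673, 13420), (15674, 17836), (15675, 17839), (15676, 13422), (15677, 17843), (15678, 13431), (15679, 13424)]
    ⟨e3 q15616 (flp_e L686309) q17151, e3 q15617 L670123 q13545, e3 q15618 L670135 q13361, e3 q15619 (flp_e L684215) q16935, e3 q15620 L670153 q15620, e3 q15621 L670161 q15621, e3 q15622 L670174 q15622, e3 q15623 (flp_e L670189) q13654, e3 q15624 (flp_e L684232) q16936, e3 q15625 L670205 q13769, e3 q15626 L692130 q17788, e3 q15627 L670224 q13382, e3 q15628 L692144 q17790, e3 q15629 (flp_e L684266) q16938, e3 q15630 (flp_e L670248) q13381, e3 q15631 (flp_e L692166) q17792, e3 q15632 (flp_e L687952) q17296, e3 q15633 (flp_e L687963) q17297, e3 q15634 L692194 q17796, e3 q15635 (flp_e L690834) q17616, e3 q15636 L692217 q17799, e3 q15637 (flp_e L670305) q13388, e3 q15638 (flp_e L692241) q17801, e3 q15639 L692261 q17804, e3 q15640 (flp_e L670327) q13390, e3 q15641 (flp_e L692285) q17807, e3 q15642 L670347 q13392,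 e3 q15643 (flp_e L692299) q17809, e3 q15644 (flp_e L688043) q17305, e3 q15645 (flp_e L688058) q17306, e3 q15646 (flp_e L688069) q17307, e3 q15647 (flp_e L688082) q17308, e3 q15648 (flp_e L688098) q17309, e3 q15649 (flp_e L688108) q17310, e3 q15650 (flp_e L688122) q17311, e3 q15651 (flp_e L688133) q17312, e3 q15652 (flp_e L686751) q17185, e3 q15653 (flp_e L686293) q17150, e3 q15654 L686621 q17175, e3 q15655 (flp_e L670446) q13403, e3 q15656 (flp_e L692375) q17818, e3 q15657 L670473 q13405, e3 q15658 (flp_e L686583) q17173, e3 q15659 (flp_e L670490) q13406, e3 q15660 (flp_e L692403) q17821, e3 q15661 (flp_e L692277) q17806, e3 q15662 L670518 q13408, e3 q15663 L670525 q13692, e3 q15664 L670539 q13693, e3 q15665 L670551 q13695, e3 q15666 L670561 q13421, e3 q15667 L692443 q17826, e3 q15668 (flp_e L670573) q13417, e3 q15669 (flp_e L692459) q17828, e3 q15670 L692474 q17831, e3 q15671 (flp_e L692049) q17780, e3 q15672 L692497 q17834, e3 q15673 (flp_e L670607) q13420, e3 q15674 (flp_e L692517) q17836, e3 q15675 L692537 q17839, e3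 q15676 (flp_e L670629) q13422, e3 q15677 (flp_e L692567) q17843, e3 q15678 L670647 q13431, e3 q15679 L670651 q13424, trivial⟩ (by decide +kernel)

theorem ce_e_245 : ∀ r, r < 64 → sm ge (Qf (15680 + r)) = Qf (tab Gen.e (15680 + r)) :=
  edges_tab (sm ge) Qf (tab Gen.e) 15680 [(15680, 17847), (15681, 17849), (15682, 13425), (15683, 17851), (15684, 13427), (15685, 17853), (15686, 17471), (15687, 13428), (15688, 17856), (15689, 17842), (15690, 13430), (15691, 17860), (15692, 17845), (15693, 17846), (15694, 13433), (15695, 17472), (15696, 13436), (15697, 17865), (15698, 17047), (15699, 17048), (15700, 13439), (15701, 17050), (15702, 17051), (15703, 17052), (15704, 17872), (15705, 13443), (15706, 17875), (15707, 17877), (15708, 13445), (15709, 17881), (15710, 13457), (15711, 13447), (15712, 17885), (15713, 17886), (15714, 13448), (15715, 17890), (15716, 13496), (15717, 13463), (15718, 13450), (15719, 17897), (15720, 13466), (15721, 13467), (15722, 13453), (15723, 17903), (15724, 13454), (15725, 17906), (15726, 17880), (15727,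 13456), (15728, 17909), (15729, 17883), (15730, 17884), (15731, 13459), (15732, 13460), (15733, 17915), (15734, 17889), (15735, 13462), (15736, 17919), (15737, 17895), (15738, 17896), (15739, 13465), (15740, 17925), (15741, 17899), (15742, 17900), (15743, 17901)]
    ⟨e3 q15680 (flp_e L692591) q17847, e3 q15681 L692604 q17849, e3 q15682 (flp_e L670668) q13425, e3 q15683 (flp_e L692630) q17851, e3 q15684 L670693 q13427, e3 q15685 (flp_e L692648) q17853, e3 q15686 (flp_e L689664) q17471, e3 q15687 (flp_e L670713) q13428, e3 q15688 (flp_e L692675) q17856, e3 q15689 (flp_e L692561) q17842, e3 q15690 L670742 q13430, e3 q15691 (flp_e L692707) q17860, e3 q15692 (flp_e L692579) q17845, e3 q15693 (flp_e L692585) q17846, e3 q15694 L670770 q13433, e3 q15695 (flp_e L689677) q17472, e3 q15696 L670788 q13436, e3 q15697 (flp_e L692746) q17865, e3 q15698 (flp_e L685369) q17047, e3 q15699 (flp_e L685383) q17048, e3 q15700 L670817 q13439, e3 q15701 (flp_e L685402) q17050, e3 q15702 (flp_e L685410) q17051, e3 q15703 (flp_e L685416) q17052,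 e3 q15704 L692794 q17872, e3 q15705 (flp_e L670849) q13443, e3 q15706 (flp_e L692814) q17875, e3 q15707 L692823 q17877, e3 q15708 (flp_e L670868) q13445, e3 q15709 (flp_e L692861) q17881, e3 q15710 L670888 q13457, e3 q15711 L670892 q13447, e3 q15712 (flp_e L692887) q17885, e3 q15713 L692891 q17886, e3 q15714 (flp_e L670908) q13448, e3 q15715 (flp_e L692921) q17890, e3 q15716 L670922 q13496, e3 q15717 L670928 q13463, e3 q15718 L670934 q13450, e3 q15719 (flp_e L692963) q17897, e3 q15720 L670944 q13466, e3 q15721 L670948 q13467, e3 q15722 L670954 q13453, e3 q15723 L692989 q17903, e3 q15724 (flp_e L670963) q13454, e3 q15725 (flp_e L693021) q17906, e3 q15726 (flp_e L692855) q17880, e3 q15727 L670995 q13456, e3 q15728 (flp_e L693049) q17909, e3 q15729 (flp_e L692875) q17883, e3 q15730 (flp_e L692879) q17884, e3 q15731 L671022 q13459, e3 q15732 (flp_e L671027) q13460, e3 q15733 (flp_e L693095) q17915, e3 q15734 (flp_e L692915) q17889, e3 q15735 L671055 q13462, e3 q15736 (flp_e L693125) q17919, e3 q15737 (flp_e L692949) q17895, e3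 q15738 (flp_e L692955) q17896, e3 q15739 L671085 q13465, e3 q15740 L693169 q17925, e3 q15741 (flp_e L692973) q17899, e3 q15742 (flp_e L692977) q17900, e3 q15743 (flp_e L692983) q17901, trivial⟩ (by decide +kernel)

theorem ce_e_246 : ∀ r, r < 64 → sm ge (Qf (15744 + r)) = Qf (tab Gen.e (15744 + r)) :=
  edges_tab (sm ge) Qf (tab Gen.e) 15744 [(15744, 13470), (15745, 17928), (15746, 17095), (15747, 17096), (15748, 13473), (15749, 16269), (15750, 17099), (15751, 17100), (15752, 17101), (15753, 17936), (15754, 13477), (15755, 17104), (15756, 17105), (15757, 16119), (15758, 16121), (15759, 17689), (15760, 17136), (15761, 13498), (15762, 17879), (15763, 13490), (15764, 13495), (15765, 17174), (15766, 17888), (15767, 17893), (15768, 17894), (15769, 17943), (15770, 13691), (15771, 17944), (15772, 13685), (15773, 16265), (15774, 13505), (15775, 13517), (15776, 13518), (15777, 16598), (15778, 17785), (15779, 15779), (15780, 17191), (15781, 17141), (15782, 17188), (15783, 17951), (15784, 13539), (15785, 17953), (15786, 17956), (15787,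 13541), (15788, 17959), (15789, 13543), (15790, 17961), (15791, 17125), (15792, 17148), (15793, 17164), (15794, 13546), (15795, 17965), (15796, 13548), (15797, 17183), (15798, 13549), (15799, 17968), (15800, 17841), (15801, 13551), (15802, 15802), (15803, 15803), (15804, 15804), (15805, 13565), (15806, 17972), (15807, 13566)]
    ⟨e3 q15744 L671119 q13470, e3 q15745 (flp_e L693193) q17928, e3 q15746 (flp_e L685741) q17095, e3 q15747 (flp_e L685754) q17096, e3 q15748 L671146 q13473, e3 q15749 (flp_e L676959) q16269, e3 q15750 (flp_e L685782) q17099, e3 q15751 (flp_e L685790) q17100, e3 q15752 (flp_e L685798) q17101, e3 q15753 L693249 q17936, e3 q15754 (flp_e L671183) q13477, e3 q15755 (flp_e L685822) q17104, e3 q15756 (flp_e L685829) q17105, e3 q15757 (flp_e L675047) q16119, e3 q15758 (flp_e L675077) q16121, e3 q15759 (flp_e L691333) q17689, e3 q15760 (flp_e L686130) q17136, e3 q15761 L671236 q13498, e3 q15762 (flp_e L692847) q17879, e3 q15763 L671258 q13490, e3 q15764 L671272 q13495, e3 q15765 (flp_e L686600) q17174, e3 q15766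 (flp_e L692909) q17888, e3 q15767 (flp_e L692937) q17893, e3 q15768 (flp_e L692943) q17894, e3 q15769 L693300 q17943, e3 q15770 L671320 q13691, e3 q15771 L693304 q17944, e3 q15772 L671342 q13685, e3 q15773 (flp_e L676913) q16265, e3 q15774 (flp_e L671360) q13505, e3 q15775 L671373 q13517, e3 q15776 L671382 q13518, e3 q15777 (flp_e L680868) q16598, e3 q15778 (flp_e L692101) q17785, e3 q15779 L671410 q15779, e3 q15780 (flp_e L686808) q17191, e3 q15781 (flp_e L686190) q17141, e3 q15782 (flp_e L686780) q17188, e3 q15783 L693363 q17951, e3 q15784 (flp_e L671445) q13539, e3 q15785 (flp_e L693384) q17953, e3 q15786 L693407 q17956, e3 q15787 (flp_e L671469) q13541, e3 q15788 (flp_e L693430) q17959, e3 q15789 L671486 q13543, e3 q15790 (flp_e L693443) q17961, e3 q15791 L686013 q17125, e3 q15792 (flp_e L686264) q17148, e3 q15793 (flp_e L686490) q17164, e3 q15794 (flp_e L671519) q13546, e3 q15795 (flp_e L693474) q17965, e3 q15796 L671539 q13548, e3 q15797 (flp_e L686724) q17183, e3 q15798 (flp_e L671551) q13549, e3 q15799 (flp_e L693496)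 q17968, e3 q15800 (flp_e L692553) q17841, e3 q15801 L671573 q13551, e3 q15802 L671579 q15802, e3 q15803 L671590 q15803, e3 q15804 L671601 q15804, e3 q15805 L671607 q13565, e3 q15806 (flp_e L693523) q17972, e3 q15807 (flp_e L671615) q13566, trivial⟩ (by decide +kernel)

theorem ce_e_247 : ∀ r, r < 64 → sm ge (Qf (15808 + r)) = Qf (tab Gen.e (15808 + r)) :=
  edges_tab (sm ge) Qf (tab Gen.e) 15808 [(15808, 13567), (15809, 17973), (15810, 17975), (15811, 13574), (15812, 15812), (15813, 13581), (15814, 17547), (15815, 17549), (15816, 17979), (15817, 13587), (15818, 16533), (15819, 16394), (15820, 13593), (15821, 15821), (15822, 15822), (15823, 16673), (15824, 16560), (15825, 17552), (15826, 17986), (15827, 13599), (15828, 17985), (15829, 17984), (15830, 13601), (15831, 16601), (15832, 13605), (15833, 17987), (15834, 17633), (15835, 16602), (15836, 13610), (15837, 16230), (15838, 13618), (15839, 16258), (15840, 16260), (15841, 16282), (15842, 13749), (15843, 15843), (15844, 13625), (15845, 17991), (15846, 15846), (15847, 13628),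 (15848, 16658), (15849, 15849), (15850, 15850), (15851, 17993), (15852, 13632), (15853, 16233), (15854, 13641), (15855, 17995), (15856, 16250), (15857, 16264), (15858, 13644), (15859, 17702), (15860, 17704), (15861, 18001), (15862, 13650), (15863, 16659), (15864, 16672), (15865, 13652), (15866, 15866), (15867, 17332), (15868, 17286), (15869, 13657), (15870, 18005), (15871, 13659)]
    ⟨e3 q15808 (flp_e L671617) q13567, e3 q15809 (flp_e L693528) q17973, e3 q15810 L693538 q17975, e3 q15811 L671644 q13574, e3 q15812 L671652 q15812, e3 q15813 L671661 q13581, e3 q15814 (flp_e L690288) q17547, e3 q15815 (flp_e L690304) q17549, e3 q15816 L693575 q17979, e3 q15817 (flp_e L671692) q13587, e3 q15818 (flp_e L680030) q16533, e3 q15819 (flp_e L678336) q16394, e3 q15820 L671721 q13593, e3 q15821 L671734 q15821, e3 q15822 L671746 q15822, e3 q15823 L681620 q16673, e3 q15824 (flp_e L680415) q16560, e3 q15825 (flp_e L690328) q17552, e3 q15826 L693654 q17986, e3 q15827 (flp_e L671783) q13599, e3 q15828 L693652 q17985, e3 q15829 L693639 q17984,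 e3 q15830 (flp_e L671810) q13601, e3 q15831 (flp_e L680903) q16601, e3 q15832 L671831 q13605, e3 q15833 L693669 q17987, e3 q15834 (flp_e L690970) q17633, e3 q15835 (flp_e L680917) q16602, e3 q15836 (flp_e L671858) q13610, e3 q15837 (flp_e L676471) q16230, e3 q15838 L671874 q13618, e3 q15839 (flp_e L676829) q16258, e3 q15840 (flp_e L676852) q16260, e3 q15841 (flp_e L677117) q16282, e3 q15842 L671902 q13749, e3 q15843 L671915 q15843, e3 q15844 L671921 q13625, e3 q15845 (flp_e L693705) q17991, e3 q15846 L671934 q15846, e3 q15847 L671942 q13628, e3 q15848 (flp_e L681434) q16658, e3 q15849 L671955 q15849, e3 q15850 L671962 q15850, e3 q15851 L693711 q17993, e3 q15852 (flp_e L671967) q13632, e3 q15853 (flp_e L676509) q16233, e3 q15854 L671983 q13641, e3 q15855 (flp_e L693728) q17995, e3 q15856 L676733 q16250, e3 q15857 (flp_e L676898) q16264, e3 q15858 L672013 q13644, e3 q15859 (flp_e L691445) q17702, e3 q15860 (flp_e L691461) q17704, e3 q15861 L693762 q18001, e3 q15862 (flp_e L672042) q13650, e3 q15863 (flp_e L681448) q16659, e3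 q15864 (flp_e L681602) q16672, e3 q15865 (flp_e L672061) q13652, e3 q15866 L672070 q15866, e3 q15867 L688339 q17332, e3 q15868 (flp_e L687836) q17286, e3 q15869 L672095 q13657, e3 q15870 (flp_e L693793) q18005, e3 q15871 L672111 q13659, trivial⟩ (by decide +kernel)

theorem ce_e_248 : ∀ r, r < 64 → sm ge (Qf (15872 + r)) = Qf (tab Gen.e (15872 + r)) :=
  edges_tab (sm ge) Qf (tab Gen.e) 15872 [(15872, 18008), (15873, 13661), (15874, 17718), (15875, 18011), (15876, 13664), (15877, 18010), (15878, 18009), (15879, 13666), (15880, 16017), (15881, 17983), (15882, 13668), (15883, 13669), (15884, 15884), (15885, 15885), (15886, 16369), (15887, 16370), (15888, 16371), (15889, 17317), (15890, 17318), (15891, 17319), (15892, 17320), (15893, 17321), (15894, 18022), (15895, 17323), (15896, 16375), (15897, 13683), (15898, 17181), (15899, 17180), (15900, 16322), (15901, 13688), (15902, 17824), (15903, 16296), (15904, 16323), (15905, 18026), (15906, 18027), (15907, 16372), (15908, 13697), (15909, 16285), (15910, 13703), (15911, 13723),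 (15912, 13705), (15913, 18032), (15914, 17892), (15915, 13750), (15916, 13751), (15917, 13726), (15918, 13727), (15919, 13709), (15920, 18041), (15921, 13731), (15922, 13732), (15923, 15923), (15924, 13713), (15925, 13757), (15926, 13715), (15927, 16283), (15928, 13718), (15929, 16284), (15930, 18029), (15931, 13722), (15932, 18050), (15933, 18030), (15934, 18031), (15935, 13725)]
    ⟨e3 q15872 L693815 q18008, e3 q15873 (flp_e L672124) q13661, e3 q15874 (flp_e L691579) q17718, e3 q15875 L693850 q18011, e3 q15876 (flp_e L672147) q13664, e3 q15877 L693848 q18010, e3 q15878 L693835 q18009, e3 q15879 (flp_e L672171) q13666, e3 q15880 L673546 q16017, e3 q15881 (flp_e L693623) q17983, e3 q15882 (flp_e L672192) q13668, e3 q15883 (flp_e L672199) q13669, e3 q15884 L672212 q15884, e3 q15885 L672217 q15885, e3 q15886 (flp_e L678053) q16369, e3 q15887 (flp_e L678067) q16370, e3 q15888 (flp_e L678078) q16371, e3 q15889 (flp_e L688177) q17317, e3 q15890 (flp_e L688191) q17318, e3 q15891 (flp_e L688202) q17319, e3 q15892 (flp_e L688216)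 q17320, e3 q15893 (flp_e L688226) q17321, e3 q15894 L693965 q18022, e3 q15895 (flp_e L688248) q17323, e3 q15896 (flp_e L678118) q16375, e3 q15897 (flp_e L672328) q13683, e3 q15898 (flp_e L686696) q17181, e3 q15899 (flp_e L686682) q17180, e3 q15900 (flp_e L677543) q16322, e3 q15901 L672376 q13688, e3 q15902 (flp_e L692430) q17824, e3 q15903 L677286 q16296, e3 q15904 (flp_e L677558) q16323, e3 q15905 L693994 q18026, e3 q15906 L694004 q18027, e3 q15907 (flp_e L678092) q16372, e3 q15908 (flp_e L672439) q13697, e3 q15909 (flp_e L677166) q16285, e3 q15910 (flp_e L672463) q13703, e3 q15911 L672480 q13723, e3 q15912 L672487 q13705, e3 q15913 (flp_e L694056) q18032, e3 q15914 (flp_e L692933) q17892, e3 q15915 L672511 q13750, e3 q15916 L672519 q13751, e3 q15917 L672526 q13726, e3 q15918 L672534 q13727, e3 q15919 L672542 q13709, e3 q15920 L694111 q18041, e3 q15921 L672562 q13731, e3 q15922 L672570 q13732, e3 q15923 L672582 q15923, e3 q15924 (flp_e L672585) q13713, e3 q15925 L672602 q13757, e3 q15926 L672609 q13715, e3 q15927 (flp_e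 L677134) q16283, e3 q15928 L672626 q13718, e3 q15929 (flp_e L677147) q16284, e3 q15930 (flp_e L694029) q18029, e3 q15931 L672651 q13722, e3 q15932 (flp_e L694198) q18050, e3 q15933 (flp_e L694036) q18030, e3 q15934 (flp_e L694045) q18031, e3 q15935 L672683 q13725, trivial⟩ (by decide +kernel)

theorem ce_e_249 : ∀ r, r < 64 → sm ge (Qf (15936 + r)) = Qf (tab Gen.e (15936 + r)) :=
  edges_tab (sm ge) Qf (tab Gen.e) 15936 [(15936, 17375), (15937, 18038), (15938, 18039), (15939, 18057), (15940, 13729), (15941, 17376), (15942, 18042), (15943, 15943), (15944, 15944), (15945, 13735), (15946, 15946), (15947, 15947), (15948, 15948), (15949, 16286), (15950, 15950), (15951, 15951), (15952, 18064), (15953, 13743), (15954, 17234), (15955, 18036), (15956, 18037), (15957, 18046), (15958, 15958), (15959, 18045), (15960, 16905), (15961, 17343), (15962, 17344), (15963, 17412), (15964, 17413), (15965, 17414), (15966, 16290), (15967, 17402), (15968, 15968), (15969, 16545), (15970, 16846), (15971, 15971), (15972, 15972), (15973, 15973), (15974,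 15974), (15975, 15975), (15976, 15976), (15977, 14277), (15978, 15331), (15979, 13800), (15980, 14475), (15981, 15091), (15982, 13803), (15983, 13807), (15984, 13808), (15985, 13806), (15986, 14478), (15987, 18082), (15988, 15548), (15989, 15989), (15990, 14624), (15991, 13812), (15992, 14979), (15993, 14916), (15994, 14200), (15995, 15995), (15996, 15447), (15997, 15449), (15998, 13820), (15999, 13824)]
    ⟨e3 q15936 (flp_e L688757) q17375, e3 q15937 (flp_e L694093) q18038, e3 q15938 (flp_e L694102) q18039, e3 q15939 L694249 q18057, e3 q15940 (flp_e L672715) q13729, e3 q15941 (flp_e L688772) q17376, e3 q15942 (flp_e L694125) q18042, e3 q15943 L672747 q15943, e3 q15944 L672756 q15944, e3 q15945 L672765 q13735, e3 q15946 L672776 q15946, e3 q15947 L672784 q15947, e3 q15948 L672792 q15948, e3 q15949 (flp_e L677185) q16286, e3 q15950 L672807 q15950, e3 q15951 L672815 q15951, e3 q15952 (flp_e L694314) q18064, e3 q15953 (flp_e L672825) q13743, e3 q15954 (flp_e L687307) q17234, e3 q15955 (flp_e L694081) q18036, e3 q15956 (flp_e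 L694086) q18037, e3 q15957 (flp_e L694165) q18046, e3 q15958 L672857 q15958, e3 q15959 (flp_e L694158) q18045, e3 q15960 (flp_e L683907) q16905, e3 q15961 (flp_e L688454) q17343, e3 q15962 (flp_e L688470) q17344, e3 q15963 (flp_e L689122) q17412, e3 q15964 (flp_e L689136) q17413, e3 q15965 (flp_e L689145) q17414, e3 q15966 (flp_e L677223) q16290, e3 q15967 (flp_e L689035) q17402, e3 q15968 L672916 q15968, e3 q15969 (flp_e L680208) q16545, e3 q15970 (flp_e L683250) q16846, e3 q15971 L672940 q15971, e3 q15972 L672946 q15972, e3 q15973 L672953 q15973, e3 q15974 L672959 q15974, e3 q15975 L672968 q15975, e3 q15976 L672974 q15976, e3 q15977 L672985 q14277, e3 q15978 L672999 q15331, e3 q15979 L673012 q13800, e3 q15980 L673027 q14475, e3 q15981 L673043 q15091, e3 q15982 L673059 q13803, e3 q15983 L673079 q13807, e3 q15984 L673095 q13808, e3 q15985 L673110 q13806, e3 q15986 L673129 q14478, e3 q15987 (flp_e L694482) q18082, e3 q15988 L673153 q15548, e3 q15989 L673170 q15989, e3 q15990 L673179 q14624, e3 q15991 L673194 q13812, e3 q15992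 L673213 q14979, e3 q15993 L673228 q14916, e3 q15994 L673240 q14200, e3 q15995 L673258 q15995, e3 q15996 L673269 q15447, e3 q15997 L673283 q15449, e3 q15998 L673296 q13820, e3 q15999 L673314 q13824, trivial⟩ (by decide +kernel)

theorem ce_e_250 : ∀ r, r < 64 → sm ge (Qf (16000 + r)) = Qf (tab Gen.e (16000 + r)) :=
  edges_tab (sm ge) Qf (tab Gen.e) 16000 [(16000, 13825), (16001, 13826), (16002, 18093), (16003, 18094), (16004, 18098), (16005, 16005), (16006, 14179), (16007, 14180), (16008, 14182), (16009, 15135), (16010, 15136), (16011, 15137), (16012, 14193), (16013, 14194), (16014, 14195), (16015, 14196), (16016, 14197), (16017, 15880), (16018, 14199), (16019, 18089), (16020, 13844), (16021, 18108), (16022, 16022), (16023, 13861), (16024, 18110), (16025, 13863), (16026, 18112), (16027, 13859), (16028, 18114), (16029, 14418), (16030, 13862), (16031, 18116), (16032, 13865), (16033, 18117), (16034, 16034), (16035, 15341), (16036, 13873), (16037, 14238), (16038, 15342), (16039, 14272), (16040, 15355), (16041, 13879), (16042,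 16042), (16043, 15322), (16044, 16044), (16045, 13882), (16046, 18123), (16047, 15328), (16048, 15327), (16049, 14999), (16050, 13888), (16051, 18129), (16052, 13892), (16053, 13893), (16054, 13891), (16055, 14464), (16056, 18130), (16057, 18131), (16058, 14085), (16059, 15161), (16060, 18135), (16061, 16061), (16062, 18138), (16063, 13899)]
    ⟨e3 q16000 L673327 q13825, e3 q16001 L673338 q13826, e3 q16002 (flp_e L694665) q18093, e3 q16003 (flp_e L694677) q18094, e3 q16004 L694729 q18098, e3 q16005 L673375 q16005, e3 q16006 L673391 q14179, e3 q16007 L673405 q14180, e3 q16008 L673424 q14182, e3 q16009 L673436 q15135, e3 q16010 L673452 q15136, e3 q16011 L673464 q15137, e3 q16012 L673479 q14193, e3 q16013 L673495 q14194, e3 q16014 L673507 q14195, e3 q16015 L673523 q14196, e3 q16016 L673531 q14197, e3 q16017 (flp_e L673546) q15880, e3 q16018 L673555 q14199, e3 q16019 (flp_e L694606) q18089, e3 q16020 (flp_e L673568) q13844, e3 q16021 L694871 q18108, e3 q16022 L673605 q16022, e3 q16023 L673622 q13861, e3 q16024 L694904 q18110,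 e3 q16025 L673658 q13863, e3 q16026 L694938 q18112, e3 q16027 (flp_e L673684) q13859, e3 q16028 (flp_e L694979) q18114, e3 q16029 (flp_e L673723) q14418, e3 q16030 (flp_e L673725) q13862, e3 q16031 (flp_e L695004) q18116, e3 q16032 L673762 q13865, e3 q16033 (flp_e L695021) q18117, e3 q16034 L673792 q16034, e3 q16035 L673813 q15341, e3 q16036 L673826 q13873, e3 q16037 L673844 q14238, e3 q16038 L673862 q15342, e3 q16039 L673880 q14272, e3 q16040 L673896 q15355, e3 q16041 L673910 q13879, e3 q16042 L673926 q16042, e3 q16043 (flp_e L673953) q15322, e3 q16044 L673963 q16044, e3 q16045 (flp_e L673972) q13882, e3 q16046 (flp_e L695131) q18123, e3 q16047 L674013 q15328, e3 q16048 L674029 q15327, e3 q16049 L674051 q14999, e3 q16050 L674063 q13888, e3 q16051 (flp_e L695229) q18129, e3 q16052 L674085 q13892, e3 q16053 L674100 q13893, e3 q16054 L674114 q13891, e3 q16055 L674131 q14464, e3 q16056 (flp_e L695243) q18130, e3 q16057 (flp_e L695261) q18131, e3 q16058 L674175 q14085, e3 q16059 L674193 q15161, e3 q16060 L695315 q18135, e3 q16061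 L674223 q16061, e3 q16062 L695364 q18138, e3 q16063 (flp_e L674246) q13899, trivial⟩ (by decide +kernel)

theorem ce_e_251 : ∀ r, r < 64 → sm ge (Qf (16064 + r)) = Qf (tab Gen.e (16064 + r)) :=
  edges_tab (sm ge) Qf (tab Gen.e) 16064 [(16064, 18139), (16065, 14007), (16066, 14008), (16067, 18144), (16068, 14010), (16069, 18146), (16070, 13910), (16071, 18149), (16072, 13904), (16073, 18152), (16074, 18155), (16075, 13906), (16076, 18157), (16077, 13908), (16078, 18159), (16079, 13909), (16080, 18161), (16081, 14023), (16082, 13912), (16083, 18163), (16084, 13914), (16085, 14029), (16086, 14131), (16087, 14167), (16088, 16088), (16089, 16089), (16090, 16090), (16091, 16091), (16092, 16092), (16093, 16093), (16094, 16094), (16095, 16095), (16096, 16096), (16097, 16097), (16098, 14061), (16099, 14062), (16100, 15482), (16101, 13939), (16102, 13937), (16103, 18175), (16104, 13941), (16105, 18177), (16106, 14352), (16107, 18178), (16108, 14088), (16109, 15483), (16110, 14389), (16111, 13951), (16112, 18183), (16113, 13955), (16114,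 13956), (16115, 13954), (16116, 14461), (16117, 18184), (16118, 15549), (16119, 15757), (16120, 18190), (16121, 15758), (16122, 15430), (16123, 16123), (16124, 13964), (16125, 18194), (16126, 15041), (16127, 13967)]
    ⟨e3 q16064 (flp_e L695393) q18139, e3 q16065 L674279 q14007, e3 q16066 L674297 q14008, e3 q16067 L695461 q18144, e3 q16068 L674323 q14010, e3 q16069 L695483 q18146, e3 q16070 L674353 q13910, e3 q16071 L695527 q18149, e3 q16072 (flp_e L674373) q13904, e3 q16073 (flp_e L695570) q18152, e3 q16074 L695600 q18155, e3 q16075 (flp_e L674403) q13906, e3 q16076 (flp_e L695634) q18157, e3 q16077 L674430 q13908, e3 q16078 (flp_e L695656) q18159, e3 q16079 (flp_e L674444) q13909, e3 q16080 (flp_e L695681) q18161, e3 q16081 L674481 q14023, e3 q16082 L674492 q13912, e3 q16083 (flp_e L695709) q18163, e3 q16084 L674519 q13914, e3 q16085 L674532 q14029, e3 q16086 L674546 q14131, e3 q16087 L674566 q14167, e3 q16088 L674578 q16088, e3 q16089 L674595 q16089, e3 q16090 L674606 q16090, e3 q16091 L674621 q16091, e3 q16092 L674632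 q16092, e3 q16093 L674647 q16093, e3 q16094 L674663 q16094, e3 q16095 L674679 q16095, e3 q16096 L674688 q16096, e3 q16097 L674709 q16097, e3 q16098 L674727 q14061, e3 q16099 L674744 q14062, e3 q16100 L674762 q15482, e3 q16101 L674775 q13939, e3 q16102 (flp_e L674783) q13937, e3 q16103 (flp_e L695896) q18175, e3 q16104 L674821 q13941, e3 q16105 (flp_e L695926) q18177, e3 q16106 L674854 q14352, e3 q16107 L695935 q18178, e3 q16108 L674883 q14088, e3 q16109 L674901 q15483, e3 q16110 L674921 q14389, e3 q16111 L674931 q13951, e3 q16112 (flp_e L696021) q18183, e3 q16113 L674957 q13955, e3 q16114 L674972 q13956, e3 q16115 L674986 q13954, e3 q16116 L675005 q14461, e3 q16117 (flp_e L696037) q18184, e3 q16118 L675032 q15549, e3 q16119 L675047 q15757, e3 q16120 L696135 q18190, e3 q16121 L675077 q15758, e3 q16122 (flp_e L675097) q15430, e3 q16123 L675107 q16123, e3 q16124 (flp_e L675114) q13964, e3 q16125 (flp_e L696201) q18194, e3 q16126 L675154 q15041, e3 q16127 L675165 q13967, trivial⟩ (by decide +kernel)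

theorem ce_e_252 : ∀ r, r < 64 → sm ge (Qf (16128 + r)) = Qf (tab Gen.e (16128 + r)) :=
  edges_tab (sm ge) Qf (tab Gen.e) 16128 [(16128, 18198), (16129, 18199), (16130, 14133), (16131, 18201), (16132, 13970), (16133, 18204), (16134, 15442), (16135, 15441), (16136, 18203), (16137, 13976), (16138, 18210), (16139, 15371), (16140, 15060), (16141, 13979), (16142, 18214), (16143, 15063), (16144, 15064), (16145, 13982), (16146, 14158), (16147, 14159), (16148, 13985), (16149, 13989), (16150, 13990), (16151, 13991), (16152, 18164), (16153, 18223), (16154, 18224), (16155, 15108), (16156, 13999), (16157, 14000), (16158, 14077), (16159, 18227), (16160, 18234), (16161, 18229), (16162, 18237), (16163, 16163), (16164, 15170), (16165, 14002), (16166, 18241), (16167, 15176), (16168, 14006), (16169, 18244), (16170, 15072), (16171, 18248), (16172, 18142), (16173, 18251), (16174, 14009), (16175, 18254), (16176, 18256), (16177, 14011), (16178, 18259), (16179, 15157), (16180, 14013), (16181, 18263), (16182, 18253), (16183, 14015), (16184, 18266),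 (16185, 15159), (16186, 14018), (16187, 18268), (16188, 14020), (16189, 18160), (16190, 14022), (16191, 18273)]
    ⟨e3 q16128 (flp_e L696255) q18198, e3 q16129 L696259 q18199, e3 q16130 L675199 q14133, e3 q16131 L696287 q18201, e3 q16132 (flp_e L675221) q13970, e3 q16133 (flp_e L696341) q18204, e3 q16134 L675249 q15442, e3 q16135 L675265 q15441, e3 q16136 (flp_e L696333) q18203, e3 q16137 L675293 q13976, e3 q16138 (flp_e L696419) q18210, e3 q16139 L675315 q15371, e3 q16140 L675337 q15060, e3 q16141 L675349 q13979, e3 q16142 (flp_e L696485) q18214, e3 q16143 L675373 q15063, e3 q16144 L675381 q15064, e3 q16145 L675389 q13982, e3 q16146 L675399 q14158, e3 q16147 L675412 q14159, e3 q16148 L675426 q13985, e3 q16149 L675441 q13989, e3 q16150 L675450 q13990, e3 q16151 L675462 q13991, e3 q16152 (flp_e L695725) q18164, e3 q16153 (flp_e L696594) q18223, e3 q16154 (flp_e L696610) q18224, e3 q16155 L675507 q15108, e3 q16156 L675526 q13999, e3 q16157 L675540 q14000, e3 q16158 L675554 q14077, e3 q16159 (flp_e L696644) q18227, e3 q16160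 L696728 q18234, e3 q16161 (flp_e L696669) q18229, e3 q16162 L696764 q18237, e3 q16163 L675615 q16163, e3 q16164 (flp_e L675632) q15170, e3 q16165 (flp_e L675634) q14002, e3 q16166 (flp_e L696824) q18241, e3 q16167 L675666 q15176, e3 q16168 L675680 q14006, e3 q16169 (flp_e L696863) q18244, e3 q16170 L675706 q15072, e3 q16171 L696914 q18248, e3 q16172 (flp_e L695435) q18142, e3 q16173 L696950 q18251, e3 q16174 (flp_e L675747) q14009, e3 q16175 (flp_e L696986) q18254, e3 q16176 L697002 q18256, e3 q16177 (flp_e L675778) q14011, e3 q16178 (flp_e L697047) q18259, e3 q16179 (flp_e L675814) q15157, e3 q16180 (flp_e L675816) q14013, e3 q16181 (flp_e L697101) q18263, e3 q16182 (flp_e L696976) q18253, e3 q16183 L675857 q14015, e3 q16184 (flp_e L697131) q18266, e3 q16185 L675881 q15159, e3 q16186 L675895 q14018, e3 q16187 (flp_e L697158) q18268, e3 q16188 L675915 q14020, e3 q16189 (flp_e L695670) q18160, e3 q16190 L675937 q14022, e3 q16191 (flp_e L697220) q18273, trivial⟩ (by decide +kernel)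

theorem ce_e_253 : ∀ r, r < 64 → sm ge (Qf (16192 + r)) = Qf (tab Gen.e (16192 + r)) :=
  edges_tab (sm ge) Qf (tab Gen.e) 16192 [(16192, 18162), (16193, 14025), (16194, 14164), (16195, 15073), (16196, 15267), (16197, 15268), (16198, 18279), (16199, 14030), (16200, 18282), (16201, 14032), (16202, 18284), (16203, 16203), (16204, 16204), (16205, 16205), (16206, 16206), (16207, 16207), (16208, 16208), (16209, 18290), (16210, 14911), (16211, 15290), (16212, 14044), (16213, 18292), (16214, 14046), (16215, 18294), (16216, 14048), (16217, 16217), (16218, 16218), (16219, 18298), (16220, 16220), (16221, 14628), (16222, 14055), (16223, 14669), (16224, 15562), (16225, 16225), (16226, 14743), (16227, 16227), (16228, 14745), (16229, 14422), (16230, 15837), (16231, 18310), (16232, 18173), (16233, 15853), (16234, 14069), (16235, 14734), (16236, 14064), (16237, 18316), (16238, 14736), (16239, 14068), (16240, 18319), (16241, 15511), (16242, 14071), (16243, 18321), (16244, 15142), (16245, 14074), (16246, 14078), (16247, 18230), (16248, 18328),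 (16249, 18324), (16250, 15856), (16251, 16251), (16252, 14768), (16253, 14080), (16254, 18333), (16255, 14774)]
    ⟨e3 q16192 (flp_e L695696) q18162, e3 q16193 L675975 q14025, e3 q16194 L675990 q14164, e3 q16195 L676000 q15073, e3 q16196 L676013 q15267, e3 q16197 L676032 q15268, e3 q16198 L697293 q18279, e3 q16199 (flp_e L676053) q14030, e3 q16200 (flp_e L697338) q18282, e3 q16201 L676083 q14032, e3 q16202 (flp_e L697362) q18284, e3 q16203 L676111 q16203, e3 q16204 L676121 q16204, e3 q16205 L676136 q16205, e3 q16206 L676147 q16206, e3 q16207 L676161 q16207, e3 q16208 L676173 q16208, e3 q16209 L697439 q18290, e3 q16210 L676197 q14911, e3 q16211 L676208 q15290, e3 q16212 (flp_e L676219) q14044, e3 q16213 (flp_e L697476) q18292, e3 q16214 L676254 q14046, e3 q16215 (flp_e L697501) q18294, e3 q16216 L676274 q14048, e3 q16217 L676291 q16217, e3 q16218 L676302 q16218, e3 q16219 L697561 q18298, e3 q16220 L676323 q16220, e3 q16221 (flp_e L676346) q14628, e3 q16222 (flp_e L676348) q14055, e3 q16223 L676372 q14669, e3 q16224 L676388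 q15562, e3 q16225 L676402 q16225, e3 q16226 (flp_e L676418) q14743, e3 q16227 L676428 q16227, e3 q16228 L676443 q14745, e3 q16229 L676457 q14422, e3 q16230 L676471 q15837, e3 q16231 L697736 q18310, e3 q16232 (flp_e L695860) q18173, e3 q16233 L676509 q15853, e3 q16234 L676518 q14069, e3 q16235 (flp_e L676536) q14734, e3 q16236 (flp_e L676538) q14064, e3 q16237 (flp_e L697822) q18316, e3 q16238 L676573 q14736, e3 q16239 L676588 q14068, e3 q16240 (flp_e L697861) q18319, e3 q16241 L676615 q15511, e3 q16242 L676627 q14071, e3 q16243 (flp_e L697892) q18321, e3 q16244 L676658 q15142, e3 q16245 L676674 q14074, e3 q16246 L676687 q14078, e3 q16247 (flp_e L696683) q18230, e3 q16248 L697978 q18328, e3 q16249 (flp_e L697933) q18324, e3 q16250 (flp_e L676733) q15856, e3 q16251 L676740 q16251, e3 q16252 (flp_e L676759) q14768, e3 q16253 (flp_e L676761) q14080, e3 q16254 (flp_e L698048) q18333, e3 q16255 L676793 q14774, trivial⟩ (by decide +kernel)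

theorem ce_e_254 : ∀ r, r < 64 → sm ge (Qf (16256 + r)) = Qf (tab Gen.e (16256 + r)) :=
  edges_tab (sm ge) Qf (tab Gen.e) 16256 [(16256, 14084), (16257, 18336), (16258, 15839), (16259, 18339), (16260, 15840), (16261, 18341), (16262, 14087), (16263, 18344), (16264, 15857), (16265, 15773), (16266, 18343), (16267, 14093), (16268, 18350), (16269, 15749), (16270, 14644), (16271, 14647), (16272, 14097), (16273, 15509), (16274, 15512), (16275, 14100), (16276, 14104), (16277, 14105), (16278, 14106), (16279, 14870), (16280, 18360), (16281, 18361), (16282, 15841), (16283, 15927), (16284, 15929), (16285, 15909), (16286, 15949), (16287, 14117), (16288, 18369), (16289, 14119), (16290, 15966), (16291, 18374), (16292, 18367), (16293, 18377), (16294, 14118), (16295, 18380), (16296, 15903), (16297, 14120), (16298, 18385), (16299, 14840), (16300, 14122), (16301, 18389), (16302, 18379), (16303, 14124), (16304, 18393), (16305, 14849), (16306, 14127), (16307, 18395), (16308, 15222), (16309, 15223), (16310, 14130), (16311, 18401), (16312, 18165),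 (16313, 18404), (16314, 14132), (16315, 18407), (16316, 18410), (16317, 14134), (16318, 18414), (16319, 14143)]
    ⟨e3 q16256 L676807 q14084, e3 q16257 (flp_e L698087) q18336, e3 q16258 L676829 q15839, e3 q16259 L698120 q18339, e3 q16260 L676852 q15840, e3 q16261 L698144 q18341, e3 q16262 (flp_e L676874) q14087, e3 q16263 (flp_e L698192) q18344, e3 q16264 L676898 q15857, e3 q16265 L676913 q15773, e3 q16266 (flp_e L698186) q18343, e3 q16267 L676937 q14093, e3 q16268 (flp_e L698265) q18350, e3 q16269 L676959 q15749, e3 q16270 L676974 q14644, e3 q16271 L676988 q14647, e3 q16272 L676999 q14097, e3 q16273 L677010 q15509, e3 q16274 L677021 q15512, e3 q16275 L677033 q14100, e3 q16276 L677048 q14104, e3 q16277 L677060 q14105, e3 q16278 L677072 q14106, e3 q16279 L677086 q14870, e3 q16280 (flp_e L698404) q18360, e3 q16281 (flp_e L698417) q18361, e3 q16282 L677117 q15841, e3 q16283 L677134 q15927, e3 q16284 L677147 q15929, e3 q16285 L677166 q15909, e3 q16286 L677185 q15949, e3 q16287 L677192 q14117, e3 q16288 L698515 q18369, e3 q16289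 L677213 q14119, e3 q16290 L677223 q15966, e3 q16291 L698568 q18374, e3 q16292 (flp_e L698498) q18367, e3 q16293 L698599 q18377, e3 q16294 (flp_e L677258) q14118, e3 q16295 (flp_e L698628) q18380, e3 q16296 (flp_e L677286) q15903, e3 q16297 (flp_e L677288) q14120, e3 q16298 (flp_e L698690) q18385, e3 q16299 (flp_e L677322) q14840, e3 q16300 (flp_e L677324) q14122, e3 q16301 (flp_e L698743) q18389, e3 q16302 (flp_e L698622) q18379, e3 q16303 L677359 q14124, e3 q16304 (flp_e L698781) q18393, e3 q16305 L677380 q14849, e3 q16306 L677395 q14127, e3 q16307 (flp_e L698810) q18395, e3 q16308 L677418 q15222, e3 q16309 L677431 q15223, e3 q16310 L677440 q14130, e3 q16311 L698877 q18401, e3 q16312 (flp_e L695735) q18165, e3 q16313 L698906 q18404, e3 q16314 (flp_e L677475) q14132, e3 q16315 (flp_e L698948) q18407, e3 q16316 L698974 q18410, e3 q16317 (flp_e L677501) q14134, e3 q16318 (flp_e L699024) q18414, e3 q16319 L677521 q14143, trivial⟩ (by decide +kernel)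

theorem ce_e_255 : ∀ r, r < 64 → sm ge (Qf (16320 + r)) = Qf (tab Gen.e (16320 + r)) :=
  edges_tab (sm ge) Qf (tab Gen.e) 16320 [(16320, 14136), (16321, 18418), (16322, 15900), (16323, 15904), (16324, 18406), (16325, 14139), (16326, 18424), (16327, 14810), (16328, 14140), (16329, 18427), (16330, 18413), (16331, 14142), (16332, 18431), (16333, 18416), (16334, 18417), (16335, 14145), (16336, 14816), (16337, 14148), (16338, 18438), (16339, 15256), (16340, 15257), (16341, 14151), (16342, 18443), (16343, 15260), (16344, 15261), (16345, 15262), (16346, 18270), (16347, 14530), (16348, 15450), (16349, 14157), (16350, 18219), (16351, 18220), (16352, 18221), (16353, 18275), (16354, 14165), (16355, 14166), (16356, 18322), (16357, 18276), (16358, 18456), (16359, 15120), (16360, 15121), (16361, 15122), (16362, 18463), (16363, 14170), (16364, 18466), (16365, 18412), (16366, 14172), (16367, 18470), (16368, 14174), (16369, 15886), (16370, 15887), (16371, 15888), (16372, 15907), (16373, 18099), (16374, 18477), (16375, 15896), (16376, 18478),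 (16377, 14183), (16378, 15132), (16379, 15133), (16380, 15134), (16381, 14187), (16382, 18483), (16383, 14189)]
    ⟨e3 q16320 L677527 q14136, e3 q16321 (flp_e L699056) q18418, e3 q16322 L677543 q15900, e3 q16323 L677558 q15904, e3 q16324 (flp_e L698942) q18406, e3 q16325 L677585 q14139, e3 q16326 (flp_e L699132) q18424, e3 q16327 (flp_e L677609) q14810, e3 q16328 (flp_e L677611) q14140, e3 q16329 (flp_e L699177) q18427, e3 q16330 (flp_e L699018) q18413, e3 q16331 L677655 q14142, e3 q16332 (flp_e L699223) q18431, e3 q16333 (flp_e L699040) q18416, e3 q16334 (flp_e L699048) q18417, e3 q16335 L677687 q14145, e3 q16336 L677701 q14816, e3 q16337 L677716 q14148, e3 q16338 (flp_e L699292) q18438, e3 q16339 L677740 q15256, e3 q16340 L677754 q15257, e3 q16341 L677765 q14151, e3 q16342 L699356 q18443, e3 q16343 L677783 q15260, e3 q16344 L677792 q15261, e3 q16345 L677800 q15262, e3 q16346 (flp_e L697185) q18270, e3 q16347 L677820 q14530, e3 q16348 L677832 q15450, e3 q16349 L677846 q14157, e3 q16350 (flp_e L696539) q18219, e3 q16351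 (flp_e L696554) q18220, e3 q16352 (flp_e L696568) q18221, e3 q16353 (flp_e L697247) q18275, e3 q16354 L677885 q14165, e3 q16355 L677894 q14166, e3 q16356 (flp_e L697911) q18322, e3 q16357 (flp_e L697253) q18276, e3 q16358 (flp_e L699491) q18456, e3 q16359 L677929 q15120, e3 q16360 L677944 q15121, e3 q16361 L677956 q15122, e3 q16362 L699570 q18463, e3 q16363 (flp_e L677974) q14170, e3 q16364 (flp_e L699615) q18466, e3 q16365 (flp_e L699004) q18412, e3 q16366 L678015 q14172, e3 q16367 (flp_e L699667) q18470, e3 q16368 L678038 q14174, e3 q16369 L678053 q15886, e3 q16370 L678067 q15887, e3 q16371 L678078 q15888, e3 q16372 L678092 q15907, e3 q16373 (flp_e L694750) q18099, e3 q16374 L699736 q18477, e3 q16375 L678118 q15896, e3 q16376 L699745 q18478, e3 q16377 (flp_e L678132) q14183, e3 q16378 L678144 q15132, e3 q16379 L678160 q15133, e3 q16380 L678171 q15134, e3 q16381 (flp_e L678178) q14187, e3 q16382 (flp_e L699820) q18483, e3 q16383 L678209 q14189, trivial⟩ (by decide +kernel)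

theorem ce_e_256 : ∀ r, r < 64 → sm ge (Qf (16384 + r)) = Qf (tab Gen.e (16384 + r)) :=
  edges_tab (sm ge) Qf (tab Gen.e) 16384 [(16384, 18485), (16385, 14191), (16386, 15530), (16387, 18102), (16388, 18103), (16389, 18489), (16390, 18105), (16391, 18088), (16392, 14198), (16393, 14271), (16394, 15819), (16395, 14244), (16396, 14210), (16397, 18492), (16398, 14212), (16399, 14273), (16400, 14274), (16401, 14275), (16402, 14276), (16403, 14278), (16404, 14279), (16405, 14224), (16406, 14225), (16407, 15338), (16408, 14226), (16409, 18496), (16410, 18498), (16411, 16411), (16412, 16412), (16413, 18503), (16414, 16414), (16415, 16415), (16416, 16416), (16417, 14234), (16418, 14255), (16419, 14235), (16420, 14253), (16421, 14232), (16422, 18511), (16423, 18508), (16424, 14237), (16425, 18513), (16426, 16426), (16427, 16427), (16428, 16428), (16429, 14245), (16430, 14260), (16431, 18491), (16432, 18502), (16433, 16433), (16434, 18500), (16435, 14248), (16436, 18519), (16437, 16437), (16438, 15334), (16439, 16439), (16440, 14403),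 (16441, 14259), (16442, 18510), (16443, 18497), (16444, 18509), (16445, 14283), (16446, 14257), (16447, 18527)]
    ⟨e3 q16384 (flp_e L699842) q18485, e3 q16385 L678231 q14191, e3 q16386 L678250 q15530, e3 q16387 (flp_e L694800) q18102, e3 q16388 (flp_e L694813) q18103, e3 q16389 L699885 q18489, e3 q16390 (flp_e L694841) q18105, e3 q16391 (flp_e L694583) q18088, e3 q16392 (flp_e L678298) q14198, e3 q16393 L678320 q14271, e3 q16394 L678336 q15819, e3 q16395 L678352 q14244, e3 q16396 L678368 q14210, e3 q16397 (flp_e L699941) q18492, e3 q16398 L678394 q14212, e3 q16399 L678410 q14273, e3 q16400 L678421 q14274, e3 q16401 L678437 q14275, e3 q16402 L678452 q14276, e3 q16403 L678467 q14278, e3 q16404 L678479 q14279, e3 q16405 L678498 q14224, e3 q16406 L678513 q14225, e3 q16407 L678529 q15338, e3 q16408 L678542 q14226, e3 q16409 (flp_e L700010) q18496, e3 q16410 (flp_e L700047) q18498, e3 q16411 L678589 q16411, e3 q16412 L678605 q16412, e3 q16413 L700124 q18503, e3 q16414 L678631 q16414, e3 q16415 L678648 q16415, e3 q16416 L678663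 q16416, e3 q16417 L678674 q14234, e3 q16418 L678692 q14255, e3 q16419 L678700 q14235, e3 q16420 (flp_e L678718) q14253, e3 q16421 (flp_e L678720) q14232, e3 q16422 (flp_e L700261) q18511, e3 q16423 (flp_e L700213) q18508, e3 q16424 L678771 q14237, e3 q16425 (flp_e L700287) q18513, e3 q16426 L678798 q16426, e3 q16427 L678812 q16427, e3 q16428 L678828 q16428, e3 q16429 L678842 q14245, e3 q16430 L678856 q14260, e3 q16431 (flp_e L699925) q18491, e3 q16432 L700122 q18502, e3 q16433 L678893 q16433, e3 q16434 L700089 q18500, e3 q16435 (flp_e L678911) q14248, e3 q16436 (flp_e L700371) q18519, e3 q16437 L678932 q16437, e3 q16438 (flp_e L678955) q15334, e3 q16439 L678963 q16439, e3 q16440 L678984 q14403, e3 q16441 L678994 q14259, e3 q16442 (flp_e L700243) q18510, e3 q16443 (flp_e L700034) q18497, e3 q16444 (flp_e L700229) q18509, e3 q16445 L679040 q14283, e3 q16446 L679048 q14257, e3 q16447 (flp_e L700465) q18527, trivial⟩ (by decide +kernel)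

theorem ce_e_257 : ∀ r, r < 64 → sm ge (Qf (16448 + r)) = Qf (tab Gen.e (16448 + r)) :=
  edges_tab (sm ge) Qf (tab Gen.e) 16448 [(16448, 14419), (16449, 18514), (16450, 14264), (16451, 14263), (16452, 18528), (16453, 14351), (16454, 18490), (16455, 18120), (16456, 18494), (16457, 18078), (16458, 18495), (16459, 18518), (16460, 16460), (16461, 15344), (16462, 14285), (16463, 18506), (16464, 18526), (16465, 16465), (16466, 18535), (16467, 16467), (16468, 18543), (16469, 14288), (16470, 18545), (16471, 16471), (16472, 18516), (16473, 16473), (16474, 15444), (16475, 14298), (16476, 18542), (16477, 14293), (16478, 18551), (16479, 18540), (16480, 14295), (16481, 18554), (16482, 14297), (16483, 18556), (16484, 16484), (16485, 14300), (16486, 18558), (16487, 14302), (16488, 16488), (16489, 16489), (16490, 16490), (16491, 16491), (16492, 16492), (16493, 15003), (16494, 18127), (16495, 15004), (16496, 15432), (16497, 16497), (16498, 18550), (16499, 14314), (16500, 18567), (16501, 15309), (16502, 14316), (16503, 18570), (16504, 14992),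 (16505, 14318), (16506, 18573), (16507, 14320), (16508, 18574), (16509, 15445), (16510, 14324), (16511, 18577)]
    ⟨e3 q16448 L679070 q14419, e3 q16449 (flp_e L700304) q18514, e3 q16450 L679099 q14264, e3 q16451 L679109 q14263, e3 q16452 (flp_e L700477) q18528, e3 q16453 L679139 q14351, e3 q16454 (flp_e L699908) q18490, e3 q16455 (flp_e L695076) q18120, e3 q16456 (flp_e L699975) q18494, e3 q16457 (flp_e L694412) q18078, e3 q16458 (flp_e L699993) q18495, e3 q16459 (flp_e L700364) q18518, e3 q16460 L679231 q16460, e3 q16461 L679248 q15344, e3 q16462 L679257 q14285, e3 q16463 L700186 q18506, e3 q16464 (flp_e L700455) q18526, e3 q16465 L679289 q16465, e3 q16466 (flp_e L700568) q18535, e3 q16467 L679307 q16467, e3 q16468 L700675 q18543, e3 q16469 (flp_e L679321) q14288, e3 q16470 (flp_e L700709) q18545, e3 q16471 L679350 q16471, e3 q16472 (flp_e L700328) q18516, e3 q16473 L679371 q16473, e3 q16474 L679388 q15444, e3 q16475 L679398 q14298, e3 q16476 L700673 q18542, e3 q16477 (flp_e L679414) q14293, e3 q16478 (flp_e L700787) q18551,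 e3 q16479 (flp_e L700637) q18540, e3 q16480 (flp_e L679442) q14295, e3 q16481 (flp_e L700816) q18554, e3 q16482 L679469 q14297, e3 q16483 (flp_e L700834) q18556, e3 q16484 L679491 q16484, e3 q16485 L679501 q14300, e3 q16486 (flp_e L700859) q18558, e3 q16487 L679525 q14302, e3 q16488 L679532 q16488, e3 q16489 L679549 q16489, e3 q16490 L679559 q16490, e3 q16491 L679570 q16491, e3 q16492 L679581 q16492, e3 q16493 L679592 q15003, e3 q16494 (flp_e L695197) q18127, e3 q16495 L679617 q15004, e3 q16496 (flp_e L679639) q15432, e3 q16497 L679646 q16497, e3 q16498 (flp_e L700775) q18550, e3 q16499 (flp_e L679666) q14314, e3 q16500 (flp_e L700971) q18567, e3 q16501 (flp_e L679698) q15309, e3 q16502 (flp_e L679700) q14316, e3 q16503 (flp_e L701008) q18570, e3 q16504 L679730 q14992, e3 q16505 L679735 q14318, e3 q16506 (flp_e L701035) q18573, e3 q16507 (flp_e L679747) q14320, e3 q16508 (flp_e L701044) q18574, e3 q16509 L679768 q15445, e3 q16510 (flp_e L679774) q14324, e3 q16511 (flp_e L701073) q18577, trivial⟩ (by decide +kernel)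

theorem ce_e_258 : ∀ r, r < 64 → sm ge (Qf (16512 + r)) = Qf (tab Gen.e (16512 + r)) :=
  edges_tab (sm ge) Qf (tab Gen.e) 16512 [(16512, 14326), (16513, 18579), (16514, 15314), (16515, 14327), (16516, 18581), (16517, 15347), (16518, 14329), (16519, 18584), (16520, 15350), (16521, 15351), (16522, 14332), (16523, 14334), (16524, 14338), (16525, 14339), (16526, 14340), (16527, 18529), (16528, 16528), (16529, 16529), (16530, 16530), (16531, 18595), (16532, 16532), (16533, 15818), (16534, 14460), (16535, 15426), (16536, 14417), (16537, 14420), (16538, 14631), (16539, 14358), (16540, 18599), (16541, 14362), (16542, 14361), (16543, 18600), (16544, 16544), (16545, 15969), (16546, 14462), (16547, 14463), (16548, 14465), (16549, 14466), (16550, 14729), (16551, 14914), (16552, 14375), (16553, 18296), (16554, 14476), (16555, 14477), (16556, 14479), (16557, 14480), (16558, 14481), (16559, 14482), (16560, 15824), (16561, 16561), (16562, 16562), (16563, 14641), (16564, 14642), (16565, 14391), (16566, 18181), (16567, 14392), (16568, 18182),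 (16569, 18609), (16570, 14737), (16571, 15600), (16572, 16572), (16573, 18618), (16574, 16574), (16575, 15496)]
    ⟨e3 q16512 L679803 q14326, e3 q16513 (flp_e L701093) q18579, e3 q16514 (flp_e L679827) q15314, e3 q16515 (flp_e L679829) q14327, e3 q16516 (flp_e L701124) q18581, e3 q16517 L679865 q15347, e3 q16518 L679872 q14329, e3 q16519 (flp_e L701157) q18584, e3 q16520 L679888 q15350, e3 q16521 L679894 q15351, e3 q16522 L679902 q14332, e3 q16523 L679911 q14334, e3 q16524 L679925 q14338, e3 q16525 L679937 q14339, e3 q16526 L679948 q14340, e3 q16527 (flp_e L700491) q18529, e3 q16528 L679968 q16528, e3 q16529 L679980 q16529, e3 q16530 L679993 q16530, e3 q16531 L701255 q18595, e3 q16532 L680013 q16532, e3 q16533 L680030 q15818, e3 q16534 L680050 q14460, e3 q16535 L680066 q15426, e3 q16536 L680081 q14417, e3 q16537 L680096 q14420, e3 q16538 L680113 q14631, e3 q16539 L680126 q14358, e3 q16540 (flp_e L701320) q18599, e3 q16541 L680150 q14362, e3 q16542 L680165 q14361, e3 q16543 (flp_e L701336) q18600, e3 q16544 L680196 q16544,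 e3 q16545 L680208 q15969, e3 q16546 L680223 q14462, e3 q16547 L680235 q14463, e3 q16548 L680251 q14465, e3 q16549 L680264 q14466, e3 q16550 L680279 q14729, e3 q16551 L680293 q14914, e3 q16552 L680309 q14375, e3 q16553 L697542 q18296, e3 q16554 L680330 q14476, e3 q16555 L680345 q14477, e3 q16556 L680358 q14479, e3 q16557 L680367 q14480, e3 q16558 L680384 q14481, e3 q16559 L680397 q14482, e3 q16560 L680415 q15824, e3 q16561 L680426 q16561, e3 q16562 L680439 q16562, e3 q16563 L680455 q14641, e3 q16564 L680470 q14642, e3 q16565 L680483 q14391, e3 q16566 (flp_e L695991) q18181, e3 q16567 L680502 q14392, e3 q16568 (flp_e L696009) q18182, e3 q16569 (flp_e L701476) q18609, e3 q16570 L680542 q14737, e3 q16571 L680557 q15600, e3 q16572 L680568 q16572, e3 q16573 L701587 q18618, e3 q16574 L680586 q16574, e3 q16575 (flp_e L680602) q15496, trivial⟩ (by decide +kernel)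

theorem ce_e_259 : ∀ r, r < 64 → sm ge (Qf (16576 + r)) = Qf (tab Gen.e (16576 + r)) :=
  edges_tab (sm ge) Qf (tab Gen.e) 16576 [(16576, 14396), (16577, 18621), (16578, 14649), (16579, 14650), (16580, 18627), (16581, 14652), (16582, 14436), (16583, 14406), (16584, 14434), (16585, 14401), (16586, 18632), (16587, 15466), (16588, 18522), (16589, 14405), (16590, 18636), (16591, 14661), (16592, 14408), (16593, 18638), (16594, 14410), (16595, 14665), (16596, 14666), (16597, 14700), (16598, 15777), (16599, 14445), (16600, 18597), (16601, 15831), (16602, 15835), (16603, 14423), (16604, 18306), (16605, 18650), (16606, 18646), (16607, 18617), (16608, 16608), (16609, 18615), (16610, 14425), (16611, 18656), (16612, 18154), (16613, 14427), (16614, 18659), (16615, 14488), (16616, 14429), (16617, 18663), (16618, 14679), (16619, 18666), (16620, 14681), (16621, 18669), (16622, 14432), (16623, 18672), (16624, 18630), (16625, 18608), (16626, 18629), (16627, 18671), (16628, 14438), (16629, 18679), (16630, 18137), (16631, 14439), (16632, 18681),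 (16633, 14495), (16634, 14441), (16635, 18685), (16636, 14493), (16637, 14496), (16638, 14444), (16639, 18643)]
    ⟨e3 q16576 (flp_e L680604) q14396, e3 q16577 (flp_e L701632) q18621, e3 q16578 L680635 q14649, e3 q16579 L680649 q14650, e3 q16580 L701698 q18627, e3 q16581 L680669 q14652, e3 q16582 L680687 q14436, e3 q16583 L680695 q14406, e3 q16584 (flp_e L680711) q14434, e3 q16585 (flp_e L680713) q14401, e3 q16586 (flp_e L701766) q18632, e3 q16587 L680737 q15466, e3 q16588 (flp_e L700411) q18522, e3 q16589 L680761 q14405, e3 q16590 (flp_e L701806) q18636, e3 q16591 L680782 q14661, e3 q16592 L680792 q14408, e3 q16593 (flp_e L701832) q18638, e3 q16594 L680817 q14410, e3 q16595 L680825 q14665, e3 q16596 L680840 q14666, e3 q16597 L680852 q14700, e3 q16598 L680868 q15777, e3 q16599 L680880 q14445, e3 q16600 (flp_e L701286) q18597, e3 q16601 L680903 q15831, e3 q16602 L680917 q15835, e3 q16603 L680929 q14423, e3 q16604 (flp_e L697691) q18306, e3 q16605 L701982 q18650, e3 q16606 (flp_e L701941) q18646, e3 q16607 L701585 q18617,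 e3 q16608 L680977 q16608, e3 q16609 L701558 q18615, e3 q16610 (flp_e L680991) q14425, e3 q16611 (flp_e L702032) q18656, e3 q16612 L695598 q18154, e3 q16613 (flp_e L681011) q14427, e3 q16614 (flp_e L702061) q18659, e3 q16615 L681041 q14488, e3 q16616 L681046 q14429, e3 q16617 (flp_e L702103) q18663, e3 q16618 L681062 q14679, e3 q16619 L702137 q18666, e3 q16620 L681080 q14681, e3 q16621 L702163 q18669, e3 q16622 (flp_e L681096) q14432, e3 q16623 (flp_e L702189) q18672, e3 q16624 (flp_e L701738) q18630, e3 q16625 (flp_e L701467) q18608, e3 q16626 (flp_e L701724) q18629, e3 q16627 (flp_e L702183) q18671, e3 q16628 L681138 q14438, e3 q16629 (flp_e L702241) q18679, e3 q16630 L695362 q18137, e3 q16631 (flp_e L681154) q14439, e3 q16632 (flp_e L702265) q18681, e3 q16633 L681174 q14495, e3 q16634 L681180 q14441, e3 q16635 (flp_e L702303) q18685, e3 q16636 L681196 q14493, e3 q16637 L681206 q14496, e3 q16638 L681212 q14444, e3 q16639 (flp_e L701903) q18643, trivial⟩ (by decide +kernel)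

theorem ce_e_260 : ∀ r, r < 64 → sm ge (Qf (16640 + r)) = Qf (tab Gen.e (16640 + r)) :=
  edges_tab (sm ge) Qf (tab Gen.e) 16640 [(16640, 14703), (16641, 14704), (16642, 14448), (16643, 14452), (16644, 14453), (16645, 14591), (16646, 18693), (16647, 14713), (16648, 14455), (16649, 18696), (16650, 18356), (16651, 14457), (16652, 18700), (16653, 14459), (16654, 18702), (16655, 18596), (16656, 18186), (16657, 18602), (16658, 15848), (16659, 15863), (16660, 18706), (16661, 14469), (16662, 18295), (16663, 18090), (16664, 14470), (16665, 18708), (16666, 14472), (16667, 18482), (16668, 14474), (16669, 18081), (16670, 18083), (16671, 18603), (16672, 15864), (16673, 15823), (16674, 15552), (16675, 16675), (16676, 18661), (16677, 16677), (16678, 18662), (16679, 14738), (16680, 18719), (16681, 14740), (16682, 15485), (16683, 14497), (16684, 18683), (16685, 18687), (16686, 18538), (16687, 18684), (16688, 18688), (16689, 14499), (16690, 14500), (16691, 18727), (16692, 18733), (16693, 18729), (16694, 18722), (16695, 16695), (16696, 18738),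 (16697, 14502), (16698, 18741), (16699, 15409), (16700, 14504), (16701, 18744), (16702, 14506), (16703, 18746)]
    ⟨e3 q16640 L681235 q14703, e3 q16641 L681244 q14704, e3 q16642 L681250 q14448, e3 q16643 L681263 q14452, e3 q16644 L681273 q14453, e3 q16645 L681281 q14591, e3 q16646 (flp_e L702379) q18693, e3 q16647 L681304 q14713, e3 q16648 (flp_e L681314) q14455, e3 q16649 (flp_e L702420) q18696, e3 q16650 (flp_e L698349) q18356, e3 q16651 (flp_e L681354) q14457, e3 q16652 (flp_e L702473) q18700, e3 q16653 L681383 q14459, e3 q16654 (flp_e L702496) q18702, e3 q16655 (flp_e L701269) q18596, e3 q16656 (flp_e L696072) q18186, e3 q16657 (flp_e L701372) q18602, e3 q16658 L681434 q15848, e3 q16659 L681448 q15863, e3 q16660 L702538 q18706, e3 q16661 L681467 q14469, e3 q16662 (flp_e L697523) q18295, e3 q16663 (flp_e L694618) q18090, e3 q16664 (flp_e L681501) q14470, e3 q16665 (flp_e L702568) q18708, e3 q16666 L681533 q14472, e3 q16667 (flp_e L699809) q18482, e3 q16668 L681558 q14474, e3 q16669 (flp_e L694463) q18081, e3 q16670 (flp_e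 L694500) q18083, e3 q16671 (flp_e L701391) q18603, e3 q16672 L681602 q15864, e3 q16673 (flp_e L681620) q15823, e3 q16674 L681630 q15552, e3 q16675 L681644 q16675, e3 q16676 (flp_e L702082) q18661, e3 q16677 L681667 q16677, e3 q16678 (flp_e L702097) q18662, e3 q16679 L681689 q14738, e3 q16680 L702704 q18719, e3 q16681 L681708 q14740, e3 q16682 L681724 q15485, e3 q16683 L681733 q14497, e3 q16684 (flp_e L702283) q18683, e3 q16685 (flp_e L702321) q18687, e3 q16686 L700617 q18538, e3 q16687 (flp_e L702295) q18684, e3 q16688 (flp_e L702331) q18688, e3 q16689 L681791 q14499, e3 q16690 L681805 q14500, e3 q16691 (flp_e L702794) q18727, e3 q16692 L702856 q18733, e3 q16693 (flp_e L702819) q18729, e3 q16694 (flp_e L702739) q18722, e3 q16695 L681851 q16695, e3 q16696 L702912 q18738, e3 q16697 (flp_e L681863) q14502, e3 q16698 (flp_e L702949) q18741, e3 q16699 L681891 q15409, e3 q16700 (flp_e L681893) q14504, e3 q16701 (flp_e L702984) q18744, e3 q16702 L681919 q14506, e3 q16703 (flp_e L703002) q18746, trivial⟩ (by decide +kernel)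

theorem ce_e_261 : ∀ r, r < 64 → sm ge (Qf (16704 + r)) = Qf (tab Gen.e (16704 + r)) :=
  edges_tab (sm ge) Qf (tab Gen.e) 16704 [(16704, 14759), (16705, 18750), (16706, 14761), (16707, 18753), (16708, 14509), (16709, 18756), (16710, 18737), (16711, 14511), (16712, 18760), (16713, 18735), (16714, 14513), (16715, 18765), (16716, 18755), (16717, 14515), (16718, 18768), (16719, 15394), (16720, 14516), (16721, 18770), (16722, 14518), (16723, 18772), (16724, 14520), (16725, 14778), (16726, 14522), (16727, 18777), (16728, 14781), (16729, 14525), (16730, 18639), (16731, 14785), (16732, 18448), (16733, 14528), (16734, 18783), (16735, 14861), (16736, 18449), (16737, 14532), (16738, 18787), (16739, 16739), (16740, 16740), (16741, 16741), (16742, 16742), (16743, 16743), (16744, 16744), (16745, 16745), (16746, 16746), (16747, 18795), (16748, 14544), (16749, 18799), (16750, 14546), (16751, 15264), (16752, 18804), (16753, 18797), (16754, 18807), (16755, 14545), (16756, 18810), (16757, 18762), (16758, 14547), (16759, 18814), (16760, 15377),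 (16761, 14549), (16762, 18818), (16763, 18809), (16764, 14551), (16765, 18822), (16766, 15379), (16767, 14554)]
    ⟨e3 q16704 L681935 q14759, e3 q16705 L703036 q18750, e3 q16706 L681955 q14761, e3 q16707 L703062 q18753, e3 q16708 (flp_e L681971) q14509, e3 q16709 (flp_e L703096) q18756, e3 q16710 L702910 q18737, e3 q16711 (flp_e L681999) q14511, e3 q16712 (flp_e L703138) q18760, e3 q16713 (flp_e L702878) q18735, e3 q16714 (flp_e L682025) q14513, e3 q16715 (flp_e L703188) q18765, e3 q16716 (flp_e L703088) q18755, e3 q16717 L682056 q14515, e3 q16718 (flp_e L703212) q18768, e3 q16719 (flp_e L682078) q15394, e3 q16720 (flp_e L682080) q14516, e3 q16721 (flp_e L703237) q18770, e3 q16722 L682104 q14518, e3 q16723 (flp_e L703251) q18772, e3 q16724 L682118 q14520, e3 q16725 L682130 q14778, e3 q16726 L682139 q14522, e3 q16727 (flp_e L703301) q18777, e3 q16728 L682164 q14781, e3 q16729 L682173 q14525, e3 q16730 (flp_e L701848) q18639, e3 q16731 L682188 q14785, e3 q16732 (flp_e L699410) q18448, e3 q16733 (flp_e L682203) q14528, e3 q16734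 (flp_e L703366) q18783, e3 q16735 L682227 q14861, e3 q16736 (flp_e L699424) q18449, e3 q16737 L682252 q14532, e3 q16738 (flp_e L703408) q18787, e3 q16739 L682269 q16739, e3 q16740 L682284 q16740, e3 q16741 L682294 q16741, e3 q16742 L682303 q16742, e3 q16743 L682316 q16743, e3 q16744 L682325 q16744, e3 q16745 L682336 q16745, e3 q16746 L682344 q16746, e3 q16747 L703492 q18795, e3 q16748 L682360 q14544, e3 q16749 L703531 q18799, e3 q16750 L682381 q14546, e3 q16751 L682391 q15264, e3 q16752 L703588 q18804, e3 q16753 (flp_e L703516) q18797, e3 q16754 L703617 q18807, e3 q16755 (flp_e L682423) q14545, e3 q16756 (flp_e L703642) q18810, e3 q16757 (flp_e L703156) q18762, e3 q16758 (flp_e L682448) q14547, e3 q16759 (flp_e L703679) q18814, e3 q16760 (flp_e L682478) q15377, e3 q16761 (flp_e L682480) q14549, e3 q16762 (flp_e L703724) q18818, e3 q16763 (flp_e L703638) q18809, e3 q16764 L682507 q14551, e3 q16765 (flp_e L703750) q18822, e3 q16766 L682526 q15379, e3 q16767 L682538 q14554, trivial⟩ (by decide +kernel)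

theorem ce_e_262 : ∀ r, r < 64 → sm ge (Qf (16768 + r)) = Qf (tab Gen.e (16768 + r)) :=
  edges_tab (sm ge) Qf (tab Gen.e) 16768 [(16768, 18824), (16769, 15469), (16770, 15083), (16771, 14557), (16772, 18829), (16773, 14824), (16774, 18831), (16775, 14559), (16776, 18834), (16777, 18837), (16778, 14561), (16779, 18841), (16780, 14570), (16781, 14563), (16782, 18845), (16783, 14564), (16784, 18847), (16785, 18833), (16786, 14566), (16787, 18850), (16788, 15392), (16789, 14567), (16790, 18853), (16791, 18840), (16792, 14569), (16793, 18857), (16794, 18843), (16795, 18844), (16796, 14572), (16797, 15395), (16798, 14575), (16799, 18864), (16800, 15499), (16801, 15500), (16802, 14578), (16803, 18869), (16804, 15503), (16805, 15504), (16806, 15505), (16807, 18689), (16808, 14862), (16809, 14584), (16810, 14864), (16811, 14865), (16812, 14866), (16813, 18692), (16814, 14592), (16815, 14593), (16816, 18185), (16817, 18695), (16818, 14595), (16819, 18884), (16820, 14597), (16821, 18886), (16822, 18887), (16823, 14598), (16824, 18890),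 (16825, 18839), (16826, 14600), (16827, 18894), (16828, 14602), (16829, 16829), (16830, 16830), (16831, 16831)]
    ⟨e3 q16768 (flp_e L703776) q18824, e3 q16769 L682551 q15469, e3 q16770 L682558 q15083, e3 q16771 L682564 q14557, e3 q16772 L703807 q18829, e3 q16773 L682578 q14824, e3 q16774 L703823 q18831, e3 q16775 (flp_e L682594) q14559, e3 q16776 (flp_e L703857) q18834, e3 q16777 L703881 q18837, e3 q16778 (flp_e L682620) q14561, e3 q16779 (flp_e L703923) q18841, e3 q16780 L682640 q14570, e3 q16781 L682646 q14563, e3 q16782 (flp_e L703953) q18845, e3 q16783 (flp_e L682656) q14564, e3 q16784 (flp_e L703973) q18847, e3 q16785 (flp_e L703851) q18833, e3 q16786 L682693 q14566, e3 q16787 (flp_e L704003) q18850, e3 q16788 (flp_e L682715) q15392, e3 q16789 (flp_e L682717) q14567, e3 q16790 (flp_e L704045) q18853, e3 q16791 (flp_e L703917) q18840, e3 q16792 L682754 q14569, e3 q16793 (flp_e L704079) q18857, e3 q16794 (flp_e L703939) q18843, e3 q16795 (flp_e L703947) q18844, e3 q16796 L682778 q14572, e3 q16797 L682790 q15395, e3 q16798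 L682803 q14575, e3 q16799 (flp_e L704133) q18864, e3 q16800 L682816 q15499, e3 q16801 L682823 q15500, e3 q16802 L682831 q14578, e3 q16803 L704165 q18869, e3 q16804 L682843 q15503, e3 q16805 L682849 q15504, e3 q16806 L682855 q15505, e3 q16807 (flp_e L702337) q18689, e3 q16808 L682868 q14862, e3 q16809 L682879 q14584, e3 q16810 L682889 q14864, e3 q16811 L682897 q14865, e3 q16812 L682906 q14866, e3 q16813 (flp_e L702369) q18692, e3 q16814 L682919 q14592, e3 q16815 L682930 q14593, e3 q16816 (flp_e L696060) q18185, e3 q16817 (flp_e L702401) q18695, e3 q16818 (flp_e L682946) q14595, e3 q16819 (flp_e L704292) q18884, e3 q16820 L682972 q14597, e3 q16821 (flp_e L704312) q18886, e3 q16822 L704318 q18887, e3 q16823 (flp_e L682997) q14598, e3 q16824 (flp_e L704361) q18890, e3 q16825 (flp_e L703911) q18839, e3 q16826 L683032 q14600, e3 q16827 (flp_e L704402) q18894, e3 q16828 L683050 q14602, e3 q16829 L683062 q16829, e3 q16830 L683074 q16830, e3 q16831 L683085 q16831, trivial⟩ (by decide +kernel)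

theorem ce_e_263 : ∀ r, r < 64 → sm ge (Qf (16832 + r)) = Qf (tab Gen.e (16832 + r)) :=
  edges_tab (sm ge) Qf (tab Gen.e) 16832 [(16832, 18900), (16833, 16833), (16834, 18881), (16835, 14610), (16836, 14612), (16837, 14613), (16838, 18901), (16839, 14615), (16840, 18903), (16841, 14617), (16842, 18291), (16843, 16843), (16844, 14626), (16845, 18297), (16846, 15970), (16847, 15531), (16848, 18598), (16849, 14633), (16850, 14637), (16851, 14638), (16852, 18906), (16853, 18107), (16854, 18605), (16855, 18911), (16856, 18607), (16857, 18352), (16858, 14648), (16859, 14974), (16860, 18353), (16861, 14895), (16862, 18354), (16863, 18623), (16864, 18920), (16865, 18625), (16866, 14651), (16867, 18923), (16868, 14653), (16869, 18925), (16870, 18922), (16871, 14656), (16872, 18928), (16873, 14658), (16874, 14660), (16875, 18930), (16876, 18637), (16877, 14663), (16878, 14783), (16879, 18640), (16880, 14670), (16881, 18936), (16882, 14672), (16883, 18299), (16884, 18940), (16885, 18934), (16886, 14671), (16887, 18943), (16888, 14673),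 (16889, 18946), (16890, 18942), (16891, 14676), (16892, 18949), (16893, 14678), (16894, 18952), (16895, 18665)]
    ⟨e3 q16832 L704461 q18900, e3 q16833 L683102 q16833, e3 q16834 (flp_e L704261) q18881, e3 q16835 (flp_e L683113) q14610, e3 q16836 L683122 q14612, e3 q16837 (flp_e L683128) q14613, e3 q16838 (flp_e L704474) q18901, e3 q16839 L683160 q14615, e3 q16840 (flp_e L704499) q18903, e3 q16841 L683185 q14617, e3 q16842 (flp_e L697457) q18291, e3 q16843 L683211 q16843, e3 q16844 L683229 q14626, e3 q16845 L697559 q18297, e3 q16846 L683250 q15970, e3 q16847 L683266 q15531, e3 q16848 (flp_e L701305) q18598, e3 q16849 L683289 q14633, e3 q16850 L683307 q14637, e3 q16851 L683320 q14638, e3 q16852 (flp_e L704545) q18906, e3 q16853 (flp_e L694862) q18107, e3 q16854 (flp_e L701422) q18605, e3 q16855 L704607 q18911, e3 q16856 (flp_e L701449) q18607, e3 q16857 (flp_e L698296) q18352, e3 q16858 L683404 q14648, e3 q16859 L683415 q14974, e3 q16860 (flp_e L698311) q18353, e3 q16861 L683443 q14895, e3 q16862 (flp_e L698323) q18354, e3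 q16863 (flp_e L701654) q18623, e3 q16864 L704720 q18920, e3 q16865 (flp_e L701678) q18625, e3 q16866 (flp_e L683496) q14651, e3 q16867 (flp_e L704758) q18923, e3 q16868 (flp_e L683518) q14653, e3 q16869 (flp_e L704784) q18925, e3 q16870 (flp_e L704750) q18922, e3 q16871 L683560 q14656, e3 q16872 (flp_e L704818) q18928, e3 q16873 L683582 q14658, e3 q16874 L683593 q14660, e3 q16875 (flp_e L704841) q18930, e3 q16876 (flp_e L701816) q18637, e3 q16877 L683618 q14663, e3 q16878 L683629 q14783, e3 q16879 (flp_e L701857) q18640, e3 q16880 L683651 q14670, e3 q16881 L704892 q18936, e3 q16882 L683669 q14672, e3 q16883 (flp_e L697586) q18299, e3 q16884 L704935 q18940, e3 q16885 (flp_e L704876) q18934, e3 q16886 (flp_e L683711) q14671, e3 q16887 (flp_e L704973) q18943, e3 q16888 (flp_e L683733) q14673, e3 q16889 (flp_e L705009) q18946, e3 q16890 (flp_e L704965) q18942, e3 q16891 L683772 q14676, e3 q16892 (flp_e L705042) q18949, e3 q16893 L683794 q14678, e3 q16894 L705075 q18952, e3 q16895 (flp_e L702127) q18665, trivial⟩ (by decide +kernel)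

theorem ce_e_264 : ∀ r, r < 64 → sm ge (Qf (16896 + r)) = Qf (tab Gen.e (16896 + r)) :=
  edges_tab (sm ge) Qf (tab Gen.e) 16896 [(16896, 18954), (16897, 14680), (16898, 18957), (16899, 18959), (16900, 14682), (16901, 18963), (16902, 14691), (16903, 14684), (16904, 18967), (16905, 15960), (16906, 18956), (16907, 14687), (16908, 18970), (16909, 15158), (16910, 18962), (16911, 14690), (16912, 18973), (16913, 18965), (16914, 18966), (16915, 14693), (16916, 15160), (16917, 14696), (16918, 14741), (16919, 14744), (16920, 14746), (16921, 14860), (16922, 15382), (16923, 18641), (16924, 14702), (16925, 15515), (16926, 18690), (16927, 18691), (16928, 14867), (16929, 14710), (16930, 14711), (16931, 18362), (16932, 14871), (16933, 18989), (16934, 14732), (16935, 15619), (16936, 15624), (16937, 14716), (16938, 15629), (16939, 18961), (16940, 14719), (16941, 15602), (16942, 18995), (16943, 18991), (16944, 18312), (16945, 16945), (16946, 18314), (16947, 18318), (16948, 18612), (16949, 19002), (16950, 18717), (16951, 19004), (16952, 14739),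 (16953, 19006), (16954, 18302), (16955, 18978), (16956, 18304), (16957, 18979), (16958, 18305), (16959, 14750)]
    ⟨e3 q16896 L705090 q18954, e3 q16897 (flp_e L683831) q14680, e3 q16898 (flp_e L705130) q18957, e3 q16899 L705142 q18959, e3 q16900 (flp_e L683857) q14682, e3 q16901 (flp_e L705210) q18963, e3 q16902 L683881 q14691, e3 q16903 L683885 q14684, e3 q16904 (flp_e L705244) q18967, e3 q16905 L683907 q15960, e3 q16906 (flp_e L705126) q18956, e3 q16907 L683926 q14687, e3 q16908 (flp_e L705279) q18970, e3 q16909 L683946 q15158, e3 q16910 (flp_e L705202) q18962, e3 q16911 L683976 q14690, e3 q16912 (flp_e L705322) q18973, e3 q16913 (flp_e L705232) q18965, e3 q16914 (flp_e L705238) q18966, e3 q16915 L684010 q14693, e3 q16916 L684020 q15160, e3 q16917 L684037 q14696, e3 q16918 L684052 q14741, e3 q16919 L684061 q14744, e3 q16920 L684069 q14746, e3 q16921 L684077 q14860, e3 q16922 L684087 q15382, e3 q16923 (flp_e L701873) q18641, e3 q16924 L684103 q14702, e3 q16925 L684117 q15515, e3 q16926 (flp_e L702349) q18690, e3 q16927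 (flp_e L702359) q18691, e3 q16928 L684140 q14867, e3 q16929 L684150 q14710, e3 q16930 L684159 q14711, e3 q16931 (flp_e L698434) q18362, e3 q16932 L684174 q14871, e3 q16933 (flp_e L705482) q18989, e3 q16934 L684196 q14732, e3 q16935 L684215 q15619, e3 q16936 L684232 q15624, e3 q16937 L684248 q14716, e3 q16938 L684266 q15629, e3 q16939 (flp_e L705182) q18961, e3 q16940 L684298 q14719, e3 q16941 L684314 q15602, e3 q16942 L705556 q18995, e3 q16943 (flp_e L705503) q18991, e3 q16944 (flp_e L697760) q18312, e3 q16945 L684361 q16945, e3 q16946 (flp_e L697792) q18314, e3 q16947 (flp_e L697846) q18318, e3 q16948 (flp_e L701511) q18612, e3 q16949 L705627 q19002, e3 q16950 (flp_e L702687) q18717, e3 q16951 L705643 q19004, e3 q16952 (flp_e L684420) q14739, e3 q16953 (flp_e L705662) q19006, e3 q16954 L697637 q18302, e3 q16955 (flp_e L705372) q18978, e3 q16956 (flp_e L697663) q18304, e3 q16957 (flp_e L705381) q18979, e3 q16958 (flp_e L697675) q18305, e3 q16959 L684483 q14750, trivial⟩ (by decide +kernel)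

theorem ce_e_265 : ∀ r, r < 64 → sm ge (Qf (16960 + r)) = Qf (tab Gen.e (16960 + r)) :=
  edges_tab (sm ge) Qf (tab Gen.e) 16960 [(16960, 19015), (16961, 14752), (16962, 15604), (16963, 19019), (16964, 19013), (16965, 14751), (16966, 19022), (16967, 14753), (16968, 19025), (16969, 19021), (16970, 14756), (16971, 19028), (16972, 14758), (16973, 19031), (16974, 18748), (16975, 19033), (16976, 14760), (16977, 19036), (16978, 19038), (16979, 14762), (16980, 19042), (16981, 14771), (16982, 14764), (16983, 19045), (16984, 14765), (16985, 19047), (16986, 19035), (16987, 14767), (16988, 19051), (16989, 18331), (16990, 19041), (16991, 14770), (16992, 19054), (16993, 19044), (16994, 14773), (16995, 18335), (16996, 14776), (16997, 18929), (16998, 18775), (16999, 18776), (17000, 14780), (17001, 18778), (17002, 18932), (17003, 18289), (17004, 19064), (17005, 14784), (17006, 19066), (17007, 14786), (17008, 19068), (17009, 14788), (17010, 19069), (17011, 14789), (17012, 19072), (17013, 19040), (17014, 14791), (17015, 17015), (17016, 14801),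 (17017, 19078), (17018, 14803), (17019, 19081), (17020, 14799), (17021, 19084), (17022, 19087), (17023, 19076)]
    ⟨e3 q16960 L705746 q19015, e3 q16961 L684503 q14752, e3 q16962 L684518 q15604, e3 q16963 L705795 q19019, e3 q16964 (flp_e L705724) q19013, e3 q16965 (flp_e L684549) q14751, e3 q16966 (flp_e L705833) q19022, e3 q16967 (flp_e L684571) q14753, e3 q16968 (flp_e L705869) q19025, e3 q16969 (flp_e L705825) q19021, e3 q16970 L684610 q14756, e3 q16971 (flp_e L705902) q19028, e3 q16972 L684632 q14758, e3 q16973 L705933 q19031, e3 q16974 (flp_e L703020) q18748, e3 q16975 L705952 q19033, e3 q16976 (flp_e L684671) q14760, e3 q16977 (flp_e L705990) q19036, e3 q16978 L706002 q19038, e3 q16979 (flp_e L684699) q14762, e3 q16980 (flp_e L706048) q19042, e3 q16981 L684725 q14771, e3 q16982 L684731 q14764, e3 q16983 (flp_e L706078) q19045, e3 q16984 (flp_e L684743) q14765, e3 q16985 (flp_e L706104) q19047, e3 q16986 (flp_e L705984) q19035, e3 q16987 L684784 q14767, e3 q16988 (flp_e L706145) q19051, e3 q16989 (flp_e L698018) q18331,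 e3 q16990 (flp_e L706040) q19041, e3 q16991 L684822 q14770, e3 q16992 (flp_e L706177) q19054, e3 q16993 (flp_e L706070) q19044, e3 q16994 L684850 q14773, e3 q16995 (flp_e L698072) q18335, e3 q16996 L684871 q14776, e3 q16997 (flp_e L704831) q18929, e3 q16998 (flp_e L703274) q18775, e3 q16999 (flp_e L703288) q18776, e3 q17000 L684904 q14780, e3 q17001 (flp_e L703313) q18778, e3 q17002 (flp_e L704861) q18932, e3 q17003 L697437 q18289, e3 q17004 L706255 q19064, e3 q17005 (flp_e L684945) q14784, e3 q17006 (flp_e L706291) q19066, e3 q17007 (flp_e L684972) q14786, e3 q17008 (flp_e L706320) q19068, e3 q17009 L685004 q14788, e3 q17010 L706327 q19069, e3 q17011 (flp_e L685024) q14789, e3 q17012 (flp_e L706372) q19072, e3 q17013 (flp_e L706030) q19040, e3 q17014 L685062 q14791, e3 q17015 L685076 q17015, e3 q17016 L685091 q14801, e3 q17017 L706442 q19078, e3 q17018 L685108 q14803, e3 q17019 L706462 q19081, e3 q17020 (flp_e L685120) q14799, e3 q17021 (flp_e L706486) q19084, e3 q17022 L706508 q19087, e3 q17023 (flp_e L706425) q19076, trivial⟩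 (by decide +kernel)

theorem ce_e_266 : ∀ r, r < 64 → sm ge (Qf (17024 + r)) = Qf (tab Gen.e (17024 + r)) :=
  edges_tab (sm ge) Qf (tab Gen.e) 17024 [(17024, 19090), (17025, 14802), (17026, 19093), (17027, 19095), (17028, 14804), (17029, 19099), (17030, 14813), (17031, 14806), (17032, 19103), (17033, 18419), (17034, 14807), (17035, 19106), (17036, 19092), (17037, 14809), (17038, 19110), (17039, 18425), (17040, 19098), (17041, 14812), (17042, 19114), (17043, 19101), (17044, 19102), (17045, 14815), (17046, 18437), (17047, 15698), (17048, 15699), (17049, 14819), (17050, 15701), (17051, 15702), (17052, 15703), (17053, 18950), (17054, 19128), (17055, 14823), (17056, 19131), (17057, 19134), (17058, 14825), (17059, 19138), (17060, 14837), (17061, 14827), (17062, 19142), (17063, 19143), (17064, 14828), (17065, 19147), (17066, 14884), (17067, 14843), (17068, 14830), (17069, 19154), (17070, 14846), (17071, 14847), (17072, 14833), (17073, 18382), (17074, 14834), (17075, 19162), (17076, 19137), (17077, 14836), (17078, 19166), (17079,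 19140), (17080, 19141), (17081, 14839), (17082, 18387), (17083, 19146), (17084, 14842), (17085, 19175), (17086, 19152), (17087, 19153)]
    ⟨e3 q17024 L706537 q19090, e3 q17025 (flp_e L685163) q14802, e3 q17026 (flp_e L706571) q19093, e3 q17027 L706583 q19095, e3 q17028 (flp_e L685187) q14804, e3 q17029 (flp_e L706627) q19099, e3 q17030 L685213 q14813, e3 q17031 L685217 q14806, e3 q17032 (flp_e L706661) q19103, e3 q17033 (flp_e L699066) q18419, e3 q17034 (flp_e L685240) q14807, e3 q17035 (flp_e L706698) q19106, e3 q17036 (flp_e L706567) q19092, e3 q17037 L685274 q14809, e3 q17038 (flp_e L706731) q19110, e3 q17039 (flp_e L699147) q18425, e3 q17040 (flp_e L706619) q19098, e3 q17041 L685312 q14812, e3 q17042 (flp_e L706778) q19114, e3 q17043 (flp_e L706647) q19101, e3 q17044 (flp_e L706655) q19102, e3 q17045 L685342 q14815, e3 q17046 (flp_e L699277) q18437, e3 q17047 L685369 q15698, e3 q17048 L685383 q15699, e3 q17049 L685394 q14819, e3 q17050 L685402 q15701, e3 q17051 L685410 q15702, e3 q17052 L685416 q15703, e3 q17053 (flp_e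 L705057) q18950, e3 q17054 L706913 q19128, e3 q17055 (flp_e L685438) q14823, e3 q17056 (flp_e L706939) q19131, e3 q17057 L706966 q19134, e3 q17058 (flp_e L685461) q14825, e3 q17059 (flp_e L707000) q19138, e3 q17060 L685481 q14837, e3 q17061 L685485 q14827, e3 q17062 (flp_e L707026) q19142, e3 q17063 L707030 q19143, e3 q17064 (flp_e L685503) q14828, e3 q17065 (flp_e L707064) q19147, e3 q17066 L685523 q14884, e3 q17067 L685529 q14843, e3 q17068 L685535 q14830, e3 q17069 (flp_e L707115) q19154, e3 q17070 L685549 q14846, e3 q17071 L685555 q14847, e3 q17072 L685561 q14833, e3 q17073 (flp_e L698645) q18382, e3 q17074 (flp_e L685576) q14834, e3 q17075 (flp_e L707184) q19162, e3 q17076 (flp_e L706994) q19137, e3 q17077 L685607 q14836, e3 q17078 (flp_e L707215) q19166, e3 q17079 (flp_e L707014) q19140, e3 q17080 (flp_e L707018) q19141, e3 q17081 L685634 q14839, e3 q17082 (flp_e L698713) q18387, e3 q17083 (flp_e L707058) q19146, e3 q17084 L685657 q14842, e3 q17085 (flp_e L707290) q19175, e3 q17086 (flp_e L707099) q19152, e3 q17087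 (flp_e L707107) q19153, trivial⟩ (by decide +kernel)

theorem ce_e_267 : ∀ r, r < 64 → sm ge (Qf (17088 + r)) = Qf (tab Gen.e (17088 + r)) :=
  edges_tab (sm ge) Qf (tab Gen.e) 17088 [(17088, 14845), (17089, 19181), (17090, 19156), (17091, 19157), (17092, 19158), (17093, 18977), (17094, 18394), (17095, 15746), (17096, 15747), (17097, 14852), (17098, 18917), (17099, 15750), (17100, 15751), (17101, 15752), (17102, 19194), (17103, 14856), (17104, 15755), (17105, 15756), (17106, 18355), (17107, 18981), (17108, 18781), (17109, 18785), (17110, 18874), (17111, 18984), (17112, 18876), (17113, 18877), (17114, 19206), (17115, 18988), (17116, 14872), (17117, 18359), (17118, 15288), (17119, 18479), (17120, 14962), (17121, 14873), (17122, 19213), (17123, 14875), (17124, 14903), (17125, 15791), (17126, 14876), (17127, 19214), (17128, 19136), (17129, 14878), (17130, 19211), (17131, 14880), (17132, 14881), (17133, 19220), (17134, 19145), (17135, 14883), (17136, 15760), (17137, 19150), (17138, 19151), (17139, 14886), (17140, 19227), (17141,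 15781), (17142, 17142), (17143, 17143), (17144, 19231), (17145, 17145), (17146, 18915), (17147, 14893), (17148, 15792), (17149, 14905), (17150, 15653), (17151, 15616)]
    ⟨e3 q17088 L685685 q14845, e3 q17089 L707331 q19181, e3 q17090 (flp_e L707135) q19156, e3 q17091 (flp_e L707141) q19157, e3 q17092 (flp_e L707149) q19158, e3 q17093 (flp_e L705360) q18977, e3 q17094 (flp_e L698795) q18394, e3 q17095 L685741 q15746, e3 q17096 L685754 q15747, e3 q17097 L685763 q14852, e3 q17098 (flp_e L704687) q18917, e3 q17099 L685782 q15750, e3 q17100 L685790 q15751, e3 q17101 L685798 q15752, e3 q17102 L707451 q19194, e3 q17103 (flp_e L685807) q14856, e3 q17104 L685822 q15755, e3 q17105 L685829 q15756, e3 q17106 (flp_e L698337) q18355, e3 q17107 (flp_e L705396) q18981, e3 q17108 (flp_e L703337) q18781, e3 q17109 (flp_e L703386) q18785, e3 q17110 (flp_e L704200) q18874, e3 q17111 (flp_e L705433) q18984, e3 q17112 (flp_e L704219) q18876, e3 q17113 (flp_e L704230) q18877, e3 q17114 L707548 q19206, e3 q17115 (flp_e L705465) q18988, e3 q17116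 L685901 q14872, e3 q17117 (flp_e L698394) q18359, e3 q17118 L685914 q15288, e3 q17119 (flp_e L699769) q18479, e3 q17120 (flp_e L685943) q14962, e3 q17121 (flp_e L685945) q14873, e3 q17122 (flp_e L707623) q19213, e3 q17123 L685972 q14875, e3 q17124 L685988 q14903, e3 q17125 (flp_e L686013) q15791, e3 q17126 (flp_e L686015) q14876, e3 q17127 (flp_e L707641) q19214, e3 q17128 (flp_e L706986) q19136, e3 q17129 L686049 q14878, e3 q17130 (flp_e L707596) q19211, e3 q17131 L686072 q14880, e3 q17132 (flp_e L686081) q14881, e3 q17133 (flp_e L707719) q19220, e3 q17134 (flp_e L707052) q19145, e3 q17135 L686117 q14883, e3 q17136 L686130 q15760, e3 q17137 (flp_e L707083) q19150, e3 q17138 (flp_e L707091) q19151, e3 q17139 L686160 q14886, e3 q17140 L707786 q19227, e3 q17141 L686190 q15781, e3 q17142 L686200 q17142, e3 q17143 L686210 q17143, e3 q17144 L707832 q19231, e3 q17145 L686235 q17145, e3 q17146 (flp_e L704663) q18915, e3 q17147 (flp_e L686248) q14893, e3 q17148 L686264 q15792, e3 q17149 L686279 q14905, e3 q17150 L686293 q15653, e3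 q17151 L686309 q15616, trivial⟩ (by decide +kernel)

theorem ce_e_268 : ∀ r, r < 64 → sm ge (Qf (17152 + r)) = Qf (tab Gen.e (17152 + r)) :=
  edges_tab (sm ge) Qf (tab Gen.e) 17152 [(17152, 15510), (17153, 17153), (17154, 18087), (17155, 14922), (17156, 14923), (17157, 15383), (17158, 19233), (17159, 14927), (17160, 15269), (17161, 15291), (17162, 14928), (17163, 14931), (17164, 15793), (17165, 14940), (17166, 15274), (17167, 15295), (17168, 19242), (17169, 14937), (17170, 19245), (17171, 14939), (17172, 19247), (17173, 15658), (17174, 15765), (17175, 15654), (17176, 14943), (17177, 19251), (17178, 19097), (17179, 14945), (17180, 15899), (17181, 15898), (17182, 14965), (17183, 15797), (17184, 19256), (17185, 15652), (17186, 19257), (17187, 19254), (17188, 15782), (17189, 19261), (17190, 14968), (17191, 15780), (17192, 17192), (17193, 18913), (17194, 14972), (17195, 19262), (17196, 15323), (17197, 15329), (17198, 15310), (17199, 14987), (17200, 19265), (17201, 15343), (17202, 18572), (17203, 15335), (17204, 15336), (17205,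 14996), (17206, 19268), (17207, 15324), (17208, 14998), (17209, 19271), (17210, 18128), (17211, 15001), (17212, 19273), (17213, 15163), (17214, 15431), (17215, 15433)]
    ⟨e3 q17152 L686328 q15510, e3 q17153 L686335 q17153, e3 q17154 (flp_e L694568) q18087, e3 q17155 L686355 q14922, e3 q17156 L686370 q14923, e3 q17157 L686384 q15383, e3 q17158 (flp_e L707860) q19233, e3 q17159 L686411 q14927, e3 q17160 L686424 q15269, e3 q17161 L686442 q15291, e3 q17162 (flp_e L686449) q14928, e3 q17163 (flp_e L686467) q14931, e3 q17164 L686490 q15793, e3 q17165 L686502 q14940, e3 q17166 L686514 q15274, e3 q17167 L686527 q15295, e3 q17168 L707978 q19242, e3 q17169 (flp_e L686539) q14937, e3 q17170 (flp_e L708018) q19245, e3 q17171 L686566 q14939, e3 q17172 (flp_e L708039) q19247, e3 q17173 L686583 q15658, e3 q17174 L686600 q15765, e3 q17175 (flp_e L686621) q15654, e3 q17176 (flp_e L686623) q14943, e3 q17177 (flp_e L708101) q19251, e3 q17178 (flp_e L706609) q19097, e3 q17179 L686665 q14945, e3 q17180 L686682 q15899, e3 q17181 L686696 q15898,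 e3 q17182 L686709 q14965, e3 q17183 L686724 q15797, e3 q17184 L708164 q19256, e3 q17185 L686751 q15652, e3 q17186 L708174 q19257, e3 q17187 (flp_e L708140) q19254, e3 q17188 L686780 q15782, e3 q17189 L708220 q19261, e3 q17190 (flp_e L686794) q14968, e3 q17191 L686808 q15780, e3 q17192 L686824 q17192, e3 q17193 (flp_e L704633) q18913, e3 q17194 (flp_e L686837) q14972, e3 q17195 (flp_e L708238) q19262, e3 q17196 L686866 q15323, e3 q17197 L686878 q15329, e3 q17198 L686892 q15310, e3 q17199 L686906 q14987, e3 q17200 (flp_e L708278) q19265, e3 q17201 L686924 q15343, e3 q17202 (flp_e L701027) q18572, e3 q17203 L686948 q15335, e3 q17204 L686958 q15336, e3 q17205 (flp_e L686966) q14996, e3 q17206 (flp_e L708319) q19268, e3 q17207 L687002 q15324, e3 q17208 L687009 q14998, e3 q17209 (flp_e L708354) q19271, e3 q17210 (flp_e L695215) q18128, e3 q17211 L687035 q15001, e3 q17212 L708372 q19273, e3 q17213 L687063 q15163, e3 q17214 L687079 q15431, e3 q17215 L687093 q15433, trivial⟩ (by decide +kernel)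

theorem ce_e_269 : ∀ r, r < 64 → sm ge (Qf (17216 + r)) = Qf (tab Gen.e (17216 + r)) :=
  edges_tab (sm ge) Qf (tab Gen.e) 17216 [(17216, 15434), (17217, 15014), (17218, 19277), (17219, 15443), (17220, 15446), (17221, 18634), (17222, 19280), (17223, 15148), (17224, 15378), (17225, 15380), (17226, 15024), (17227, 19284), (17228, 19283), (17229, 15027), (17230, 19287), (17231, 15029), (17232, 15182), (17233, 15184), (17234, 15954), (17235, 15038), (17236, 19288), (17237, 15484), (17238, 18196), (17239, 18197), (17240, 15043), (17241, 19292), (17242, 15226), (17243, 19294), (17244, 15045), (17245, 19296), (17246, 19298), (17247, 15047), (17248, 19302), (17249, 15055), (17250, 15049), (17251, 19306), (17252, 15461), (17253, 15462), (17254, 15463), (17255, 15052), (17256, 19310), (17257, 19301), (17258, 15054), (17259, 19314), (17260, 19304), (17261, 19305), (17262, 15057), (17263, 15059), (17264, 19318), (17265, 18212), (17266, 18213), (17267, 15062), (17268, 18827), (17269, 18215), (17270, 18216), (17271, 18217), (17272, 15265),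 (17273, 15070), (17274, 18246), (17275, 15574), (17276, 19300), (17277, 15076), (17278, 17278), (17279, 17279)]
    ⟨e3 q17216 L687103 q15434, e3 q17217 (flp_e L687109) q15014, e3 q17218 (flp_e L708436) q19277, e3 q17219 L687135 q15443, e3 q17220 L687147 q15446, e3 q17221 (flp_e L701790) q18634, e3 q17222 L708462 q19280, e3 q17223 L687178 q15148, e3 q17224 L687194 q15378, e3 q17225 L687206 q15380, e3 q17226 (flp_e L687210) q15024, e3 q17227 (flp_e L708524) q19284, e3 q17228 (flp_e L708516) q19283, e3 q17229 L687244 q15027, e3 q17230 (flp_e L708552) q19287, e3 q17231 L687264 q15029, e3 q17232 L687275 q15182, e3 q17233 L687290 q15184, e3 q17234 L687307 q15954, e3 q17235 (flp_e L687317) q15038, e3 q17236 (flp_e L708568) q19288, e3 q17237 L687343 q15484, e3 q17238 (flp_e L696228) q18196, e3 q17239 (flp_e L696241) q18197, e3 q17240 L687375 q15043, e3 q17241 L708606 q19292, e3 q17242 L687399 q15226, e3 q17243 L708626 q19294, e3 q17244 (flp_e L687417) q15045, e3 q17245 (flp_e L708652) q19296, e3 q17246 L708668 q19298, e3 q17247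 (flp_e L687449) q15047, e3 q17248 (flp_e L708716) q19302, e3 q17249 L687471 q15055, e3 q17250 L687479 q15049, e3 q17251 (flp_e L708750) q19306, e3 q17252 L687491 q15461, e3 q17253 L687507 q15462, e3 q17254 L687517 q15463, e3 q17255 (flp_e L687525) q15052, e3 q17256 (flp_e L708796) q19310, e3 q17257 (flp_e L708710) q19301, e3 q17258 L687562 q15054, e3 q17259 (flp_e L708832) q19314, e3 q17260 (flp_e L708730) q19304, e3 q17261 (flp_e L708740) q19305, e3 q17262 L687598 q15057, e3 q17263 L687613 q15059, e3 q17264 (flp_e L708874) q19318, e3 q17265 (flp_e L696455) q18212, e3 q17266 (flp_e L696471) q18213, e3 q17267 L687637 q15062, e3 q17268 (flp_e L703796) q18827, e3 q17269 (flp_e L696503) q18215, e3 q17270 (flp_e L696513) q18216, e3 q17271 (flp_e L696521) q18217, e3 q17272 L687672 q15265, e3 q17273 L687683 q15070, e3 q17274 (flp_e L696891) q18246, e3 q17275 L687705 q15574, e3 q17276 (flp_e L708700) q19300, e3 q17277 L687732 q15076, e3 q17278 L687745 q17278, e3 q17279 L687754 q17279, trivial⟩ (by decide +kernel)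

theorem ce_e_270 : ∀ r, r < 64 → sm ge (Qf (17280 + r)) = Qf (tab Gen.e (17280 + r)) :=
  edges_tab (sm ge) Qf (tab Gen.e) 17280 [(17280, 18826), (17281, 15559), (17282, 17282), (17283, 17283), (17284, 15138), (17285, 15139), (17286, 15868), (17287, 15141), (17288, 18097), (17289, 15098), (17290, 19328), (17291, 15102), (17292, 19330), (17293, 15154), (17294, 15101), (17295, 19332), (17296, 15632), (17297, 15633), (17298, 15107), (17299, 19335), (17300, 19338), (17301, 15109), (17302, 19340), (17303, 15111), (17304, 19342), (17305, 15644), (17306, 15645), (17307, 15646), (17308, 15647), (17309, 15648), (17310, 15649), (17311, 15650), (17312, 15651), (17313, 19122), (17314, 18460), (17315, 18461), (17316, 18462), (17317, 15889), (17318, 15890), (17319, 15891), (17320, 15892), (17321, 15893), (17322, 19359), (17323, 15895), (17324, 18458), (17325, 15131), (17326, 18480), (17327, 18481), (17328, 15535), (17329, 18100), (17330, 18101), (17331, 19325), (17332, 15867), (17333, 15564), (17334, 19363), (17335, 15391), (17336, 15147),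 (17337, 19365), (17338, 15557), (17339, 15558), (17340, 19368), (17341, 15153), (17342, 19370), (17343, 15961)]
    ⟨e3 q17280 (flp_e L703790) q18826, e3 q17281 L687774 q15559, e3 q17282 L687789 q17282, e3 q17283 L687797 q17283, e3 q17284 L687812 q15138, e3 q17285 L687822 q15139, e3 q17286 L687836 q15868, e3 q17287 L687846 q15141, e3 q17288 (flp_e L694727) q18097, e3 q17289 (flp_e L687859) q15098, e3 q17290 L708956 q19328, e3 q17291 L687889 q15102, e3 q17292 L708982 q19330, e3 q17293 L687916 q15154, e3 q17294 (flp_e L687924) q15101, e3 q17295 (flp_e L709014) q19332, e3 q17296 L687952 q15632, e3 q17297 L687963 q15633, e3 q17298 (flp_e L687971) q15107, e3 q17299 (flp_e L709051) q19335, e3 q17300 L709083 q19338, e3 q17301 (flp_e L688001) q15109, e3 q17302 (flp_e L709107) q19340, e3 q17303 L688025 q15111, e3 q17304 (flp_e L709125) q19342, e3 q17305 L688043 q15644, e3 q17306 L688058 q15645, e3 q17307 L688069 q15646, e3 q17308 L688082 q15647, e3 q17309 L688098 q15648, e3 q17310 L688108 q15649, e3 q17311 L688122 q15650, e3 q17312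 L688133 q15651, e3 q17313 (flp_e L706862) q19122, e3 q17314 (flp_e L699534) q18460, e3 q17315 (flp_e L699551) q18461, e3 q17316 (flp_e L699563) q18462, e3 q17317 L688177 q15889, e3 q17318 L688191 q15890, e3 q17319 L688202 q15891, e3 q17320 L688216 q15892, e3 q17321 L688226 q15893, e3 q17322 L709309 q19359, e3 q17323 L688248 q15895, e3 q17324 (flp_e L699508) q18458, e3 q17325 (flp_e L688258) q15131, e3 q17326 (flp_e L699778) q18480, e3 q17327 (flp_e L699790) q18481, e3 q17328 (flp_e L688298) q15535, e3 q17329 (flp_e L694769) q18100, e3 q17330 (flp_e L694782) q18101, e3 q17331 (flp_e L708928) q19325, e3 q17332 (flp_e L688339) q15867, e3 q17333 L688349 q15564, e3 q17334 L709354 q19363, e3 q17335 L688376 q15391, e3 q17336 (flp_e L688384) q15147, e3 q17337 (flp_e L709386) q19365, e3 q17338 L688410 q15557, e3 q17339 L688421 q15558, e3 q17340 L709415 q19368, e3 q17341 (flp_e L688436) q15153, e3 q17342 (flp_e L709436) q19370, e3 q17343 L688454 q15961, trivial⟩ (by decide +kernel)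

theorem ce_e_271 : ∀ r, r < 64 → sm ge (Qf (17344 + r)) = Qf (tab Gen.e (17344 + r)) :=
  edges_tab (sm ge) Qf (tab Gen.e) 17344 [(17344, 15962), (17345, 18261), (17346, 18971), (17347, 18267), (17348, 19377), (17349, 18134), (17350, 19380), (17351, 15162), (17352, 19383), (17353, 19385), (17354, 15164), (17355, 19389), (17356, 15173), (17357, 15166), (17358, 19392), (17359, 18236), (17360, 15167), (17361, 19395), (17362, 19382), (17363, 15169), (17364, 19398), (17365, 18239), (17366, 19388), (17367, 15172), (17368, 19401), (17369, 19391), (17370, 15175), (17371, 18243), (17372, 15178), (17373, 19406), (17374, 15429), (17375, 15936), (17376, 15941), (17377, 19241), (17378, 15185), (17379, 19412), (17380, 15187), (17381, 19414), (17382, 19238), (17383, 15188), (17384, 19417), (17385, 19387), (17386, 15190), (17387, 19420), (17388, 15192), (17389, 17389), (17390, 17390), (17391, 17391), (17392, 17392), (17393, 17393), (17394, 19427), (17395, 17395), (17396, 19428), (17397, 15201), (17398, 19430), (17399, 15202), (17400, 19432),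 (17401, 19435), (17402, 15967), (17403, 19438), (17404, 15205), (17405, 19440), (17406, 19442), (17407, 15207)]
    ⟨e3 q17344 L688470 q15962, e3 q17345 (flp_e L697073) q18261, e3 q17346 (flp_e L705290) q18971, e3 q17347 (flp_e L697143) q18267, e3 q17348 L709506 q19377, e3 q17349 (flp_e L695305) q18134, e3 q17350 L709529 q19380, e3 q17351 (flp_e L688531) q15162, e3 q17352 (flp_e L709567) q19383, e3 q17353 L709581 q19385, e3 q17354 (flp_e L688555) q15164, e3 q17355 (flp_e L709621) q19389, e3 q17356 L688577 q15173, e3 q17357 L688583 q15166, e3 q17358 (flp_e L709645) q19392, e3 q17359 L696762 q18236, e3 q17360 (flp_e L688600) q15167, e3 q17361 (flp_e L709674) q19395, e3 q17362 (flp_e L709561) q19382, e3 q17363 L688643 q15169, e3 q17364 (flp_e L709706) q19398, e3 q17365 (flp_e L696798) q18239, e3 q17366 (flp_e L709613) q19388, e3 q17367 L688679 q15172, e3 q17368 (flp_e L709736) q19401, e3 q17369 (flp_e L709637) q19391, e3 q17370 L688707 q15175, e3 q17371 (flp_e L696848) q18243, e3 q17372 L688726 q15178, e3 q17373 L709777 q19406,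 e3 q17374 L688745 q15429, e3 q17375 L688757 q15936, e3 q17376 L688772 q15941, e3 q17377 L707976 q19241, e3 q17378 (flp_e L688787) q15185, e3 q17379 (flp_e L709853) q19412, e3 q17380 L688816 q15187, e3 q17381 (flp_e L709876) q19414, e3 q17382 (flp_e L707932) q19238, e3 q17383 (flp_e L688845) q15188, e3 q17384 (flp_e L709909) q19417, e3 q17385 (flp_e L709605) q19387, e3 q17386 L688878 q15190, e3 q17387 (flp_e L709941) q19420, e3 q17388 L688897 q15192, e3 q17389 L688906 q17389, e3 q17390 L688918 q17390, e3 q17391 L688928 q17391, e3 q17392 L688940 q17392, e3 q17393 L688948 q17393, e3 q17394 L710005 q19427, e3 q17395 L688968 q17395, e3 q17396 L710015 q19428, e3 q17397 (flp_e L688981) q15201, e3 q17398 L710037 q19430, e3 q17399 (flp_e L688999) q15202, e3 q17400 (flp_e L710062) q19432, e3 q17401 L710086 q19435, e3 q17402 L689035 q15967, e3 q17403 L710116 q19438, e3 q17404 (flp_e L689049) q15205, e3 q17405 (flp_e L710141) q19440, e3 q17406 L710157 q19442, e3 q17407 (flp_e L689080) q15207, trivial⟩ (by decide +kernel)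

theorem ce_e_272 : ∀ r, r < 64 → sm ge (Qf (17408 + r)) = Qf (tab Gen.e (17408 + r)) :=
  edges_tab (sm ge) Qf (tab Gen.e) 17408 [(17408, 19446), (17409, 15215), (17410, 15209), (17411, 19450), (17412, 15963), (17413, 15964), (17414, 15965), (17415, 15212), (17416, 19454), (17417, 19445), (17418, 15214), (17419, 19457), (17420, 19448), (17421, 19449), (17422, 15217), (17423, 15219), (17424, 19461), (17425, 15221), (17426, 19193), (17427, 18397), (17428, 18398), (17429, 18399), (17430, 19465), (17431, 15225), (17432, 19468), (17433, 19470), (17434, 15227), (17435, 19474), (17436, 15239), (17437, 15229), (17438, 19477), (17439, 19478), (17440, 15230), (17441, 19482), (17442, 15277), (17443, 15245), (17444, 15232), (17445, 19489), (17446, 15248), (17447, 15249), (17448, 15235), (17449, 19495), (17450, 15236), (17451, 19498), (17452, 19473), (17453, 15238), (17454, 19501), (17455, 19476), (17456, 15241), (17457, 15242), (17458, 19505), (17459, 19481), (17460, 15244), (17461, 19509), (17462, 19487), (17463, 19488), (17464, 15247),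 (17465, 19515), (17466, 19491), (17467, 19492), (17468, 19493), (17469, 15252), (17470, 19518), (17471, 15686)]
    ⟨e3 q17408 (flp_e L710191) q19446, e3 q17409 L689103 q15215, e3 q17410 L689109 q15209, e3 q17411 (flp_e L710229) q19450, e3 q17412 L689122 q15963, e3 q17413 L689136 q15964, e3 q17414 L689145 q15965, e3 q17415 (flp_e L689152) q15212, e3 q17416 (flp_e L710282) q19454, e3 q17417 (flp_e L710185) q19445, e3 q17418 L689193 q15214, e3 q17419 (flp_e L710312) q19457, e3 q17420 (flp_e L710209) q19448, e3 q17421 (flp_e L710219) q19449, e3 q17422 L689233 q15217, e3 q17423 L689251 q15219, e3 q17424 (flp_e L710357) q19461, e3 q17425 L689269 q15221, e3 q17426 L707449 q19193, e3 q17427 (flp_e L698836) q18397, e3 q17428 (flp_e L698850) q18398, e3 q17429 (flp_e L698862) q18399, e3 q17430 L710393 q19465, e3 q17431 (flp_e L689319) q15225, e3 q17432 (flp_e L710417) q19468, e3 q17433 L710428 q19470, e3 q17434 (flp_e L689344) q15227, e3 q17435 (flp_e L710468) q19474, e3 q17436 L689370 q15239, e3 q17437 L689376 q15229, e3 q17438 (flp_e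 L710496) q19477, e3 q17439 L710500 q19478, e3 q17440 (flp_e L689396) q15230, e3 q17441 (flp_e L710536) q19482, e3 q17442 L689414 q15277, e3 q17443 L689420 q15245, e3 q17444 L689426 q15232, e3 q17445 (flp_e L710579) q19489, e3 q17446 L689438 q15248, e3 q17447 L689444 q15249, e3 q17448 L689452 q15235, e3 q17449 L710613 q19495, e3 q17450 (flp_e L689463) q15236, e3 q17451 (flp_e L710656) q19498, e3 q17452 (flp_e L710462) q19473, e3 q17453 L689500 q15238, e3 q17454 (flp_e L710683) q19501, e3 q17455 (flp_e L710486) q19476, e3 q17456 L689526 q15241, e3 q17457 (flp_e L689533) q15242, e3 q17458 (flp_e L710729) q19505, e3 q17459 (flp_e L710528) q19481, e3 q17460 L689570 q15244, e3 q17461 (flp_e L710769) q19509, e3 q17462 (flp_e L710565) q19487, e3 q17463 (flp_e L710571) q19488, e3 q17464 L689600 q15247, e3 q17465 L710808 q19515, e3 q17466 (flp_e L710591) q19491, e3 q17467 (flp_e L710597) q19492, e3 q17468 (flp_e L710605) q19493, e3 q17469 L689643 q15252, e3 q17470 (flp_e L710840) q19518, e3 q17471 L689664 q15686, trivial⟩ (by decide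 +kernel)

theorem ce_e_273 : ∀ r, r < 64 → sm ge (Qf (17472 + r)) = Qf (tab Gen.e (17472 + r)) :=
  edges_tab (sm ge) Qf (tab Gen.e) 17472 [(17472, 15695), (17473, 15255), (17474, 19197), (17475, 18440), (17476, 18441), (17477, 18442), (17478, 19126), (17479, 15259), (17480, 18444), (17481, 18445), (17482, 18802), (17483, 18277), (17484, 18278), (17485, 19235), (17486, 19472), (17487, 15271), (17488, 19531), (17489, 15273), (17490, 19239), (17491, 19480), (17492, 15276), (17493, 19536), (17494, 19485), (17495, 19486), (17496, 15279), (17497, 19541), (17498, 17498), (17499, 17499), (17500, 19544), (17501, 17501), (17502, 19209), (17503, 15286), (17504, 19236), (17505, 15293), (17506, 19240), (17507, 15297), (17508, 15514), (17509, 17509), (17510, 15316), (17511, 15315), (17512, 18569), (17513, 19264), (17514, 17514), (17515, 17515), (17516, 18580), (17517, 19547), (17518, 19546), (17519, 15318), (17520, 19552), (17521, 15320), (17522, 19554), (17523, 18122), (17524, 19263), (17525, 19270), (17526, 18126), (17527, 18125), (17528,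 18079), (17529, 19558), (17530, 18521), (17531, 19267), (17532, 18499), (17533, 15340), (17534, 19562), (17535, 18118)]
    ⟨e3 q17472 L689677 q15695, e3 q17473 L689688 q15255, e3 q17474 (flp_e L707478) q19197, e3 q17475 (flp_e L699320) q18440, e3 q17476 (flp_e L699335) q18441, e3 q17477 (flp_e L699347) q18442, e3 q17478 (flp_e L706894) q19126, e3 q17479 (flp_e L689722) q15259, e3 q17480 (flp_e L699371) q18444, e3 q17481 (flp_e L699380) q18445, e3 q17482 (flp_e L703567) q18802, e3 q17483 (flp_e L697268) q18277, e3 q17484 (flp_e L697282) q18278, e3 q17485 (flp_e L707891) q19235, e3 q17486 (flp_e L710452) q19472, e3 q17487 L689787 q15271, e3 q17488 (flp_e L710958) q19531, e3 q17489 L689805 q15273, e3 q17490 (flp_e L707949) q19239, e3 q17491 (flp_e L710520) q19480, e3 q17492 L689830 q15276, e3 q17493 (flp_e L710999) q19536, e3 q17494 (flp_e L710553) q19485, e3 q17495 (flp_e L710559) q19486, e3 q17496 L689855 q15279, e3 q17497 L711021 q19541, e3 q17498 L689870 q17498, e3 q17499 L689880 q17499, e3 q17500 L711045 q19544, e3 q17501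 L689897 q17501, e3 q17502 (flp_e L707567) q19209, e3 q17503 (flp_e L689908) q15286, e3 q17504 (flp_e L707904) q19236, e3 q17505 L689930 q15293, e3 q17506 (flp_e L707959) q19240, e3 q17507 L689950 q15297, e3 q17508 (flp_e L689965) q15514, e3 q17509 L689972 q17509, e3 q17510 L689987 q15316, e3 q17511 L690001 q15315, e3 q17512 (flp_e L700992) q18569, e3 q17513 (flp_e L708262) q19264, e3 q17514 L690030 q17514, e3 q17515 L690039 q17515, e3 q17516 (flp_e L701107) q18580, e3 q17517 (flp_e L711078) q19547, e3 q17518 (flp_e L711062) q19546, e3 q17519 L690069 q15318, e3 q17520 (flp_e L711130) q19552, e3 q17521 L690083 q15320, e3 q17522 L711142 q19554, e3 q17523 (flp_e L695114) q18122, e3 q17524 (flp_e L708246) q19263, e3 q17525 (flp_e L708344) q19270, e3 q17526 (flp_e L695175) q18126, e3 q17527 (flp_e L695161) q18125, e3 q17528 (flp_e L694428) q18079, e3 q17529 L711174 q19558, e3 q17530 (flp_e L700393) q18521, e3 q17531 (flp_e L708304) q19267, e3 q17532 (flp_e L700067) q18499, e3 q17533 L690178 q15340, e3 q17534 (flp_e L711206) q19562,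 e3 q17535 (flp_e L695040) q18118, trivial⟩ (by decide +kernel)

theorem ce_e_274 : ∀ r, r < 64 → sm ge (Qf (17536 + r)) = Qf (tab Gen.e (17536 + r)) :=
  edges_tab (sm ge) Qf (tab Gen.e) 17536 [(17536, 18119), (17537, 18534), (17538, 15346), (17539, 19566), (17540, 18583), (17541, 15349), (17542, 19570), (17543, 18586), (17544, 18587), (17545, 18121), (17546, 15357), (17547, 15814), (17548, 18590), (17549, 15815), (17550, 19574), (17551, 15362), (17552, 15825), (17553, 19576), (17554, 15601), (17555, 15403), (17556, 18211), (17557, 19579), (17558, 15554), (17559, 19581), (17560, 15373), (17561, 19583), (17562, 15393), (17563, 18816), (17564, 19282), (17565, 18823), (17566, 18271), (17567, 18982), (17568, 19234), (17569, 17569), (17570, 17570), (17571, 17571), (17572, 17572), (17573, 19593), (17574, 19594), (17575, 15390), (17576, 19596), (17577, 18851), (17578, 19585), (17579, 18769), (17580, 18863), (17581, 15397), (17582, 15398), (17583, 19601), (17584, 15400), (17585, 19605), (17586, 15406), (17587, 15402), (17588, 19608),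 (17589, 19578), (17590, 19604), (17591, 15405), (17592, 19610), (17593, 19607), (17594, 15408), (17595, 18743), (17596, 15411), (17597, 19614), (17598, 15413), (17599, 19617)]
    ⟨e3 q17536 (flp_e L695054) q18119, e3 q17537 (flp_e L700559) q18534, e3 q17538 L690212 q15346, e3 q17539 (flp_e L711230) q19566, e3 q17540 (flp_e L701147) q18583, e3 q17541 L690236 q15349, e3 q17542 L711258 q19570, e3 q17543 (flp_e L701173) q18586, e3 q17544 (flp_e L701181) q18587, e3 q17545 (flp_e L695093) q18121, e3 q17546 L690273 q15357, e3 q17547 L690288 q15814, e3 q17548 (flp_e L701211) q18590, e3 q17549 L690304 q15815, e3 q17550 L711287 q19574, e3 q17551 (flp_e L690316) q15362, e3 q17552 L690328 q15825, e3 q17553 L711303 q19576, e3 q17554 L690352 q15601, e3 q17555 L690368 q15403, e3 q17556 (flp_e L696433) q18211, e3 q17557 L711345 q19579, e3 q17558 L690402 q15554, e3 q17559 L711371 q19581, e3 q17560 (flp_e L690418) q15373, e3 q17561 (flp_e L711393) q19583, e3 q17562 L690440 q15393, e3 q17563 (flp_e L703700) q18816, e3 q17564 (flp_e L708494)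 q19282, e3 q17565 (flp_e L703764) q18823, e3 q17566 (flp_e L697196) q18271, e3 q17567 (flp_e L705411) q18982, e3 q17568 (flp_e L707875) q19234, e3 q17569 L690499 q17569, e3 q17570 L690508 q17570, e3 q17571 L690519 q17571, e3 q17572 L690531 q17572, e3 q17573 L711480 q19593, e3 q17574 L711488 q19594, e3 q17575 (flp_e L690549) q15390, e3 q17576 (flp_e L711503) q19596, e3 q17577 (flp_e L704017) q18851, e3 q17578 (flp_e L711409) q19585, e3 q17579 (flp_e L703226) q18769, e3 q17580 (flp_e L704119) q18863, e3 q17581 L690589 q15397, e3 q17582 (flp_e L690593) q15398, e3 q17583 (flp_e L711538) q19601, e3 q17584 (flp_e L690607) q15400, e3 q17585 (flp_e L711566) q19605, e3 q17586 L690625 q15406, e3 q17587 L690631 q15402, e3 q17588 (flp_e L711586) q19608, e3 q17589 (flp_e L711335) q19578, e3 q17590 (flp_e L711560) q19604, e3 q17591 L690655 q15405, e3 q17592 (flp_e L711599) q19610, e3 q17593 (flp_e L711580) q19607, e3 q17594 L690677 q15408, e3 q17595 (flp_e L702970) q18743, e3 q17596 L690694 q15411, e3 q17597 (flp_e L711627) q19614, e3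 q17598 L690704 q15413, e3 q17599 L711638 q19617, trivial⟩ (by decide +kernel)

theorem ce_e_275 : ∀ r, r < 64 → sm ge (Qf (17600 + r)) = Qf (tab Gen.e (17600 + r)) :=
  edges_tab (sm ge) Qf (tab Gen.e) 17600 [(17600, 19603), (17601, 15417), (17602, 19620), (17603, 15419), (17604, 19622), (17605, 17605), (17606, 18780), (17607, 15423), (17608, 19624), (17609, 15428), (17610, 19626), (17611, 18192), (17612, 19275), (17613, 18565), (17614, 19276), (17615, 19631), (17616, 15635), (17617, 15436), (17618, 19633), (17619, 15438), (17620, 19635), (17621, 15440), (17622, 19637), (17623, 18207), (17624, 18206), (17625, 18548), (17626, 18576), (17627, 19641), (17628, 18091), (17629, 18092), (17630, 18450), (17631, 15452), (17632, 19644), (17633, 15834), (17634, 18644), (17635, 15457), (17636, 19645), (17637, 15458), (17638, 19648), (17639, 15460), (17640, 19650), (17641, 19307), (17642, 19308), (17643, 15465), (17644, 19653), (17645, 15468), (17646, 19655), (17647, 19656), (17648, 15471), (17649, 19659), (17650, 19661), (17651, 15473),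 (17652, 19663), (17653, 15475), (17654, 19665), (17655, 19666), (17656, 15476), (17657, 19670), (17658, 15518), (17659, 15488), (17660, 15478), (17661, 19676), (17662, 15491), (17663, 15492)]
    ⟨e3 q17600 (flp_e L711554) q19603, e3 q17601 L690721 q15417, e3 q17602 (flp_e L711663) q19620, e3 q17603 L690735 q15419, e3 q17604 L711674 q19622, e3 q17605 L690754 q17605, e3 q17606 (flp_e L703329) q18780, e3 q17607 (flp_e L690763) q15423, e3 q17608 L711688 q19624, e3 q17609 (flp_e L690778) q15428, e3 q17610 (flp_e L711709) q19626, e3 q17611 (flp_e L696173) q18192, e3 q17612 (flp_e L708404) q19275, e3 q17613 (flp_e L700947) q18565, e3 q17614 (flp_e L708420) q19276, e3 q17615 L711742 q19631, e3 q17616 L690834 q15635, e3 q17617 (flp_e L690838) q15436, e3 q17618 (flp_e L711764) q19633, e3 q17619 (flp_e L690856) q15438, e3 q17620 (flp_e L711782) q19635, e3 q17621 L690878 q15440, e3 q17622 (flp_e L711796) q19637, e3 q17623 (flp_e L696375) q18207, e3 q17624 (flp_e L696361) q18206, e3 q17625 (flp_e L700743) q18548, e3 q17626 (flp_e L701060)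 q18576, e3 q17627 L711818 q19641, e3 q17628 (flp_e L694634) q18091, e3 q17629 (flp_e L694647) q18092, e3 q17630 (flp_e L699437) q18450, e3 q17631 L690951 q15452, e3 q17632 L711843 q19644, e3 q17633 L690970 q15834, e3 q17634 (flp_e L701921) q18644, e3 q17635 (flp_e L690978) q15457, e3 q17636 L711852 q19645, e3 q17637 (flp_e L690992) q15458, e3 q17638 (flp_e L711872) q19648, e3 q17639 L691007 q15460, e3 q17640 (flp_e L711884) q19650, e3 q17641 (flp_e L708760) q19307, e3 q17642 (flp_e L708770) q19308, e3 q17643 L691034 q15465, e3 q17644 (flp_e L711907) q19653, e3 q17645 L691046 q15468, e3 q17646 L711918 q19655, e3 q17647 L711923 q19656, e3 q17648 (flp_e L691061) q15471, e3 q17649 (flp_e L711945) q19659, e3 q17650 L711953 q19661, e3 q17651 (flp_e L691081) q15473, e3 q17652 (flp_e L711973) q19663, e3 q17653 L691101 q15475, e3 q17654 (flp_e L711987) q19665, e3 q17655 L711991 q19666, e3 q17656 (flp_e L691117) q15476, e3 q17657 (flp_e L712019) q19670, e3 q17658 L691133 q15518, e3 q17659 L691139 q15488, e3 q17660 L691145 q15478, e3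 q17661 (flp_e L712059) q19676, e3 q17662 L691157 q15491, e3 q17663 L691163 q15492, trivial⟩ (by decide +kernel)

theorem ce_e_276 : ∀ r, r < 64 → sm ge (Qf (17664 + r)) = Qf (tab Gen.e (17664 + r)) :=
  edges_tab (sm ge) Qf (tab Gen.e) 17664 [(17664, 15481), (17665, 18174), (17666, 18180), (17667, 18721), (17668, 19669), (17669, 15487), (17670, 19686), (17671, 19674), (17672, 19675), (17673, 15490), (17674, 19691), (17675, 19678), (17676, 19679), (17677, 19680), (17678, 15495), (17679, 19694), (17680, 18620), (17681, 15498), (17682, 19699), (17683, 18866), (17684, 18867), (17685, 19701), (17686, 15502), (17687, 18870), (17688, 18871), (17689, 15759), (17690, 18357), (17691, 18486), (17692, 18320), (17693, 18358), (17694, 18985), (17695, 19668), (17696, 15517), (17697, 19708), (17698, 19672), (17699, 19673), (17700, 15520), (17701, 19713), (17702, 15859), (17703, 18880), (17704, 15860), (17705, 19717), (17706, 15526), (17707, 18705), (17708, 18694), (17709, 15528), (17710, 18882), (17711, 18904), (17712, 15533), (17713, 19361),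 (17714, 15537), (17715, 19721), (17716, 15603), (17717, 15540), (17718, 15874), (17719, 18084), (17720, 18187), (17721, 15546), (17722, 19722), (17723, 18712), (17724, 15553), (17725, 19724), (17726, 15556), (17727, 19726)]
    ⟨e3 q17664 L691169 q15481, e3 q17665 (flp_e L695880) q18174, e3 q17666 (flp_e L695971) q18180, e3 q17667 (flp_e L702730) q18721, e3 q17668 (flp_e L712013) q19669, e3 q17669 L691205 q15487, e3 q17670 (flp_e L712121) q19686, e3 q17671 (flp_e L712045) q19674, e3 q17672 (flp_e L712051) q19675, e3 q17673 L691235 q15490, e3 q17674 L712157 q19691, e3 q17675 (flp_e L712071) q19678, e3 q17676 (flp_e L712077) q19679, e3 q17677 (flp_e L712083) q19680, e3 q17678 L691269 q15495, e3 q17679 (flp_e L712181) q19694, e3 q17680 (flp_e L701619) q18620, e3 q17681 L691287 q15498, e3 q17682 L712205 q19699, e3 q17683 (flp_e L704150) q18866, e3 q17684 (flp_e L704158) q18867, e3 q17685 L712217 q19701, e3 q17686 (flp_e L691313) q15502, e3 q17687 (flp_e L704173) q18870, e3 q17688 (flp_e L704181) q18871, e3 q17689 L691333 q15759,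 e3 q17690 (flp_e L698364) q18357, e3 q17691 (flp_e L699862) q18486, e3 q17692 (flp_e L697876) q18320, e3 q17693 (flp_e L698376) q18358, e3 q17694 (flp_e L705443) q18985, e3 q17695 (flp_e L712007) q19668, e3 q17696 L691397 q15517, e3 q17697 (flp_e L712277) q19708, e3 q17698 (flp_e L712031) q19672, e3 q17699 (flp_e L712039) q19673, e3 q17700 L691429 q15520, e3 q17701 L712307 q19713, e3 q17702 L691445 q15859, e3 q17703 (flp_e L704257) q18880, e3 q17704 L691461 q15860, e3 q17705 L712331 q19717, e3 q17706 (flp_e L691473) q15526, e3 q17707 (flp_e L702536) q18705, e3 q17708 (flp_e L702395) q18694, e3 q17709 (flp_e L691490) q15528, e3 q17710 (flp_e L704272) q18882, e3 q17711 (flp_e L704518) q18904, e3 q17712 L691517 q15533, e3 q17713 L709341 q19361, e3 q17714 L691537 q15537, e3 q17715 (flp_e L712365) q19721, e3 q17716 L691555 q15603, e3 q17717 L691569 q15540, e3 q17718 L691579 q15874, e3 q17719 (flp_e L694517) q18084, e3 q17720 (flp_e L696090) q18187, e3 q17721 (flp_e L691597) q15546, e3 q17722 L712370 q19722, e3 q17723 (flp_e L702627)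 q18712, e3 q17724 (flp_e L691624) q15553, e3 q17725 (flp_e L712389) q19724, e3 q17726 L691644 q15556, e3 q17727 (flp_e L712407) q19726, trivial⟩ (by decide +kernel)

theorem ce_e_277 : ∀ r, r < 64 → sm ge (Qf (17728 + r)) = Qf (tab Gen.e (17728 + r)) :=
  edges_tab (sm ge) Qf (tab Gen.e) 17728 [(17728, 19367), (17729, 15560), (17730, 19727), (17731, 19729), (17732, 18301), (17733, 15563), (17734, 19731), (17735, 15569), (17736, 15566), (17737, 19734), (17738, 15568), (17739, 19735), (17740, 19733), (17741, 15571), (17742, 19737), (17743, 15573), (17744, 19740), (17745, 19742), (17746, 15575), (17747, 19746), (17748, 15587), (17749, 15577), (17750, 19750), (17751, 15578), (17752, 19753), (17753, 15611), (17754, 15592), (17755, 15580), (17756, 19758), (17757, 15595), (17758, 15583), (17759, 15584), (17760, 19762), (17761, 19745), (17762, 15586), (17763, 19765), (17764, 19748), (17765, 19749), (17766, 15589), (17767, 19752), (17768, 15591), (17769, 19769), (17770, 19757), (17771, 15594), (17772, 19759), (17773, 15598), (17774,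 19029), (17775, 18614), (17776, 18994), (17777, 19018), (17778, 19744), (17779, 15606), (17780, 15671), (17781, 19751), (17782, 15610), (17783, 19756), (17784, 17784), (17785, 15778), (17786, 17786), (17787, 19776), (17788, 15626), (17789, 19778), (17790, 15628), (17791, 19780)]
    ⟨e3 q17728 (flp_e L709406) q19367, e3 q17729 (flp_e L691663) q15560, e3 q17730 (flp_e L712413) q19727, e3 q17731 L712421 q19729, e3 q17732 (flp_e L697616) q18301, e3 q17733 (flp_e L691689) q15563, e3 q17734 (flp_e L712436) q19731, e3 q17735 L691709 q15569, e3 q17736 L691713 q15566, e3 q17737 (flp_e L712460) q19734, e3 q17738 L691731 q15568, e3 q17739 (flp_e L712470) q19735, e3 q17740 (flp_e L712454) q19733, e3 q17741 L691757 q15571, e3 q17742 L712487 q19737, e3 q17743 (flp_e L691770) q15573, e3 q17744 (flp_e L712507) q19740, e3 q17745 L712518 q19742, e3 q17746 (flp_e L691789) q15575, e3 q17747 (flp_e L712552) q19746, e3 q17748 L691811 q15587, e3 q17749 L691815 q15577, e3 q17750 (flp_e L712584) q19750, e3 q17751 (flp_e L691827) q15578, e3 q17752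 (flp_e L712612) q19753, e3 q17753 L691841 q15611, e3 q17754 L691847 q15592, e3 q17755 L691853 q15580, e3 q17756 (flp_e L712643) q19758, e3 q17757 L691865 q15595, e3 q17758 L691871 q15583, e3 q17759 (flp_e L691873) q15584, e3 q17760 (flp_e L712673) q19762, e3 q17761 (flp_e L712546) q19745, e3 q17762 L691904 q15586, e3 q17763 (flp_e L712698) q19765, e3 q17764 (flp_e L712568) q19748, e3 q17765 (flp_e L712576) q19749, e3 q17766 L691939 q15589, e3 q17767 (flp_e L712606) q19752, e3 q17768 L691958 q15591, e3 q17769 (flp_e L712735) q19769, e3 q17770 (flp_e L712635) q19757, e3 q17771 L691979 q15594, e3 q17772 (flp_e L712649) q19759, e3 q17773 L691995 q15598, e3 q17774 (flp_e L705915) q19029, e3 q17775 (flp_e L701538) q18614, e3 q17776 (flp_e L705546) q18994, e3 q17777 (flp_e L705786) q19018, e3 q17778 (flp_e L712538) q19744, e3 q17779 L692036 q15606, e3 q17780 L692049 q15671, e3 q17781 (flp_e L712596) q19751, e3 q17782 L692074 q15610, e3 q17783 (flp_e L712629) q19756, e3 q17784 L692092 q17784, e3 q17785 L692101 q15778, e3 q17786 L692114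 q17786, e3 q17787 L712777 q19776, e3 q17788 (flp_e L692130) q15626, e3 q17789 (flp_e L712799) q19778, e3 q17790 (flp_e L692144) q15628, e3 q17791 (flp_e L712811) q19780, trivial⟩ (by decide +kernel)

theorem ce_e_278 : ∀ r, r < 64 → sm ge (Qf (17792 + r)) = Qf (tab Gen.e (17792 + r)) :=
  edges_tab (sm ge) Qf (tab Gen.e) 17792 [(17792, 15631), (17793, 19782), (17794, 19334), (17795, 19783), (17796, 15634), (17797, 19786), (17798, 19788), (17799, 15636), (17800, 19790), (17801, 15638), (17802, 19792), (17803, 19793), (17804, 15639), (17805, 19796), (17806, 15661), (17807, 15641), (17808, 19800), (17809, 15643), (17810, 19343), (17811, 19344), (17812, 19345), (17813, 19346), (17814, 19347), (17815, 19349), (17816, 19221), (17817, 19249), (17818, 15656), (17819, 19248), (17820, 19795), (17821, 15660), (17822, 19798), (17823, 19799), (17824, 15902), (17825, 19809), (17826, 15667), (17827, 19812), (17828, 15669), (17829, 19814), (17830, 19815), (17831, 15670), (17832, 19818), (17833, 19820), (17834, 15672), (17835, 19823), (17836,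 15674), (17837, 19825), (17838, 19826), (17839, 15675), (17840, 19830), (17841, 15800), (17842, 15689), (17843, 15677), (17844, 19837), (17845, 15692), (17846, 15693), (17847, 15680), (17848, 19519), (17849, 15681), (17850, 19843), (17851, 15683), (17852, 19845), (17853, 15685), (17854, 19520), (17855, 19829)]
    ⟨e3 q17792 L692166 q15631, e3 q17793 (flp_e L712829) q19782, e3 q17794 (flp_e L709036) q19334, e3 q17795 L712833 q19783, e3 q17796 (flp_e L692194) q15634, e3 q17797 (flp_e L712861) q19786, e3 q17798 L712872 q19788, e3 q17799 (flp_e L692217) q15636, e3 q17800 (flp_e L712894) q19790, e3 q17801 L692241 q15638, e3 q17802 (flp_e L712912) q19792, e3 q17803 L712916 q19793, e3 q17804 (flp_e L692261) q15639, e3 q17805 (flp_e L712942) q19796, e3 q17806 L692277 q15661, e3 q17807 L692285 q15641, e3 q17808 (flp_e L712970) q19800, e3 q17809 L692299 q15643, e3 q17810 (flp_e L709135) q19343, e3 q17811 (flp_e L709152) q19344, e3 q17812 (flp_e L709163) q19345, e3 q17813 (flp_e L709178) q19346, e3 q17814 (flp_e L709188) q19347, e3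 q17815 (flp_e L709210) q19349, e3 q17816 (flp_e L707736) q19221, e3 q17817 (flp_e L708072) q19249, e3 q17818 L692375 q15656, e3 q17819 (flp_e L708057) q19248, e3 q17820 (flp_e L712936) q19795, e3 q17821 L692403 q15660, e3 q17822 (flp_e L712954) q19798, e3 q17823 (flp_e L712962) q19799, e3 q17824 L692430 q15902, e3 q17825 L713034 q19809, e3 q17826 (flp_e L692443) q15667, e3 q17827 (flp_e L713056) q19812, e3 q17828 L692459 q15669, e3 q17829 (flp_e L713066) q19814, e3 q17830 L713068 q19815, e3 q17831 (flp_e L692474) q15670, e3 q17832 (flp_e L713092) q19818, e3 q17833 L713103 q19820, e3 q17834 (flp_e L692497) q15672, e3 q17835 (flp_e L713131) q19823, e3 q17836 L692517 q15674, e3 q17837 (flp_e L713147) q19825, e3 q17838 L713153 q19826, e3 q17839 (flp_e L692537) q15675, e3 q17840 (flp_e L713185) q19830, e3 q17841 L692553 q15800, e3 q17842 L692561 q15689, e3 q17843 L692567 q15677, e3 q17844 (flp_e L713232) q19837, e3 q17845 L692579 q15692, e3 q17846 L692585 q15693, e3 q17847 L692591 q15680, e3 q17848 (flp_e L710856) q19519, e3 q17849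 (flp_e L692604) q15681, e3 q17850 (flp_e L713276) q19843, e3 q17851 L692630 q15683, e3 q17852 (flp_e L713296) q19845, e3 q17853 L692648 q15685, e3 q17854 (flp_e L710870) q19520, e3 q17855 (flp_e L713179) q19829, trivial⟩ (by decide +kernel)

theorem ce_e_279 : ∀ r, r < 64 → sm ge (Qf (17856 + r)) = Qf (tab Gen.e (17856 + r)) :=
  edges_tab (sm ge) Qf (tab Gen.e) 17856 [(17856, 15688), (17857, 19848), (17858, 19835), (17859, 19836), (17860, 15691), (17861, 19838), (17862, 19839), (17863, 19840), (17864, 19521), (17865, 15697), (17866, 19119), (17867, 19120), (17868, 19121), (17869, 19057), (17870, 19123), (17871, 19124), (17872, 15704), (17873, 19861), (17874, 17874), (17875, 15706), (17876, 19865), (17877, 15707), (17878, 19867), (17879, 15762), (17880, 15726), (17881, 15709), (17882, 19871), (17883, 15729), (17884, 15730), (17885, 15712), (17886, 15713), (17887, 19878), (17888, 15766), (17889, 15734), (17890, 15715), (17891, 19884), (17892, 15914), (17893, 15767), (17894, 15768), (17895, 15737), (17896, 15738), (17897, 15719),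 (17898, 19895), (17899, 15741), (17900, 15742), (17901, 15743), (17902, 19760), (17903, 15723), (17904, 19901), (17905, 19866), (17906, 15725), (17907, 19904), (17908, 19870), (17909, 15728), (17910, 19907), (17911, 19873), (17912, 19874), (17913, 19875), (17914, 19877), (17915, 15733), (17916, 19911), (17917, 19882), (17918, 19883), (17919, 15736)]
    ⟨e3 q17856 L692675 q15688, e3 q17857 (flp_e L713322) q19848, e3 q17858 (flp_e L713216) q19835, e3 q17859 (flp_e L713224) q19836, e3 q17860 L692707 q15691, e3 q17861 (flp_e L713238) q19838, e3 q17862 (flp_e L713244) q19839, e3 q17863 (flp_e L713250) q19840, e3 q17864 (flp_e L710882) q19521, e3 q17865 L692746 q15697, e3 q17866 (flp_e L706821) q19119, e3 q17867 (flp_e L706836) q19120, e3 q17868 (flp_e L706848) q19121, e3 q17869 (flp_e L706204) q19057, e3 q17870 (flp_e L706871) q19123, e3 q17871 (flp_e L706878) q19124, e3 q17872 (flp_e L692794) q15704, e3 q17873 (flp_e L713425) q19861, e3 q17874 L692811 q17874, e3 q17875 L692814 q15706, e3 q17876 (flp_e L713448) q19865, e3 q17877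 (flp_e L692823) q15707, e3 q17878 (flp_e L713468) q19867, e3 q17879 L692847 q15762, e3 q17880 L692855 q15726, e3 q17881 L692861 q15709, e3 q17882 (flp_e L713506) q19871, e3 q17883 L692875 q15729, e3 q17884 L692879 q15730, e3 q17885 L692887 q15712, e3 q17886 (flp_e L692891) q15713, e3 q17887 (flp_e L713554) q19878, e3 q17888 L692909 q15766, e3 q17889 L692915 q15734, e3 q17890 L692921 q15715, e3 q17891 (flp_e L713600) q19884, e3 q17892 L692933 q15914, e3 q17893 L692937 q15767, e3 q17894 L692943 q15768, e3 q17895 L692949 q15737, e3 q17896 L692955 q15738, e3 q17897 L692963 q15719, e3 q17898 L713664 q19895, e3 q17899 L692973 q15741, e3 q17900 L692977 q15742, e3 q17901 L692983 q15743, e3 q17902 (flp_e L712655) q19760, e3 q17903 (flp_e L692989) q15723, e3 q17904 (flp_e L713700) q19901, e3 q17905 (flp_e L713460) q19866, e3 q17906 L693021 q15725, e3 q17907 (flp_e L713728) q19904, e3 q17908 (flp_e L713496) q19870, e3 q17909 L693049 q15728, e3 q17910 L713748 q19907, e3 q17911 (flp_e L713522) q19873, e3 q17912 (flp_e L713528) q19874,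 e3 q17913 (flp_e L713534) q19875, e3 q17914 (flp_e L713548) q19877, e3 q17915 L693095 q15733, e3 q17916 (flp_e L713783) q19911, e3 q17917 (flp_e L713586) q19882, e3 q17918 (flp_e L713592) q19883, e3 q17919 L693125 q15736, trivial⟩ (by decide +kernel)

theorem ce_e_280 : ∀ r, r < 64 → sm ge (Qf (17920 + r)) = Qf (tab Gen.e (17920 + r)) :=
  edges_tab (sm ge) Qf (tab Gen.e) 17920 [(17920, 18347), (17921, 19891), (17922, 19892), (17923, 19893), (17924, 19918), (17925, 15740), (17926, 19896), (17927, 19897), (17928, 15745), (17929, 19186), (17930, 19187), (17931, 19188), (17932, 18351), (17933, 19190), (17934, 19191), (17935, 19924), (17936, 15753), (17937, 19195), (17938, 18189), (17939, 19869), (17940, 19881), (17941, 19889), (17942, 19890), (17943, 15769), (17944, 15771), (17945, 19928), (17946, 18642), (17947, 19228), (17948, 18896), (17949, 19258), (17950, 19931), (17951, 15783), (17952, 19934), (17953, 15785), (17954, 19936), (17955, 19407), (17956, 15786), (17957, 19939), (17958, 19811), (17959, 15788), (17960, 19943),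 (17961, 15790), (17962, 19215), (17963, 19237), (17964, 19822), (17965, 15795), (17966, 19255), (17967, 19828), (17968, 15799), (17969, 19833), (17970, 19834), (17971, 17971), (17972, 15806), (17973, 15809), (17974, 19880), (17975, 15810), (17976, 17976), (17977, 18530), (17978, 18532), (17979, 15816), (17980, 17980), (17981, 17981), (17982, 17982), (17983, 15881)]
    ⟨e3 q17920 (flp_e L698227) q18347, e3 q17921 (flp_e L713644) q19891, e3 q17922 (flp_e L713650) q19892, e3 q17923 (flp_e L713658) q19893, e3 q17924 L713835 q19918, e3 q17925 (flp_e L693169) q15740, e3 q17926 (flp_e L713670) q19896, e3 q17927 (flp_e L713676) q19897, e3 q17928 L693193 q15745, e3 q17929 (flp_e L707378) q19186, e3 q17930 (flp_e L707392) q19187, e3 q17931 (flp_e L707404) q19188, e3 q17932 (flp_e L698282) q18351, e3 q17933 (flp_e L707422) q19190, e3 q17934 (flp_e L707431) q19191, e3 q17935 (flp_e L713881) q19924, e3 q17936 (flp_e L693249) q15753, e3 q17937 (flp_e L707465) q19195, e3 q17938 (flp_e L696125) q18189, e3 q17939 (flp_e L713488) q19869,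 e3 q17940 (flp_e L713578) q19881, e3 q17941 (flp_e L713634) q19889, e3 q17942 (flp_e L713638) q19890, e3 q17943 (flp_e L693300) q15769, e3 q17944 (flp_e L693304) q15771, e3 q17945 (flp_e L713909) q19928, e3 q17946 (flp_e L701886) q18642, e3 q17947 (flp_e L707800) q19228, e3 q17948 (flp_e L704425) q18896, e3 q17949 (flp_e L708191) q19258, e3 q17950 L713930 q19931, e3 q17951 (flp_e L693363) q15783, e3 q17952 (flp_e L713967) q19934, e3 q17953 L693384 q15785, e3 q17954 (flp_e L713984) q19936, e3 q17955 (flp_e L709788) q19407, e3 q17956 (flp_e L693407) q15786, e3 q17957 (flp_e L714011) q19939, e3 q17958 (flp_e L713050) q19811, e3 q17959 L693430 q15788, e3 q17960 (flp_e L714039) q19943, e3 q17961 L693443 q15790, e3 q17962 (flp_e L707658) q19215, e3 q17963 (flp_e L707921) q19237, e3 q17964 (flp_e L713125) q19822, e3 q17965 L693474 q15795, e3 q17966 (flp_e L708157) q19255, e3 q17967 (flp_e L713171) q19828, e3 q17968 L693496 q15799, e3 q17969 (flp_e L713202) q19833, e3 q17970 (flp_e L713210) q19834, e3 q17971 L693514 q17971, e3 q17972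 L693523 q15806, e3 q17973 L693528 q15809, e3 q17974 (flp_e L713570) q19880, e3 q17975 (flp_e L693538) q15810, e3 q17976 L693556 q17976, e3 q17977 (flp_e L700501) q18530, e3 q17978 (flp_e L700526) q18532, e3 q17979 (flp_e L693575) q15816, e3 q17980 L693588 q17980, e3 q17981 L693598 q17981, e3 q17982 L693608 q17982, e3 q17983 L693623 q15881, trivial⟩ (by decide +kernel)

theorem ce_e_281 : ∀ r, r < 64 → sm ge (Qf (17984 + r)) = Qf (tab Gen.e (17984 + r)) :=
  edges_tab (sm ge) Qf (tab Gen.e) 17984 [(17984, 15829), (17985, 15828), (17986, 15826), (17987, 15833), (17988, 18308), (17989, 18338), (17990, 17990), (17991, 15845), (17992, 18680), (17993, 15851), (17994, 18313), (17995, 15855), (17996, 18330), (17997, 18346), (17998, 19208), (17999, 18703), (18000, 18710), (18001, 15861), (18002, 19203), (18003, 18003), (18004, 19326), (18005, 15870), (18006, 19959), (18007, 19960), (18008, 15872), (18009, 15878), (18010, 15877), (18011, 15875), (18012, 18104), (18013, 18106), (18014, 18472), (18015, 18473), (18016, 19963), (18017,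 19354), (18018, 19355), (18019, 19964), (18020, 19357), (18021, 18475), (18022, 15894), (18023, 18420), (18024, 18383), (18025, 18421), (18026, 15905), (18027, 15906), (18028, 19968), (18029, 15930), (18030, 15933), (18031, 15934), (18032, 15913), (18033, 19886), (18034, 19887), (18035, 19888), (18036, 15955), (18037, 15956), (18038, 15937), (18039, 15938), (18040, 19982), (18041, 15920), (18042, 15942), (18043, 19409), (18044, 18044), (18045, 15959), (18046, 15957), (18047, 18364)]
    ⟨e3 q17984 (flp_e L693639) q15829, e3 q17985 (flp_e L693652) q15828, e3 q17986 (flp_e L693654) q15826, e3 q17987 (flp_e L693669) q15833, e3 q17988 (flp_e L697715) q18308, e3 q17989 (flp_e L698111) q18338, e3 q17990 L693697 q17990, e3 q17991 L693705 q15845, e3 q17992 (flp_e L702253) q18680, e3 q17993 (flp_e L693711) q15851, e3 q17994 (flp_e L697778) q18313, e3 q17995 L693728 q15855, e3 q17996 (flp_e L698004) q18330, e3 q17997 (flp_e L698212) q18346, e3 q17998 (flp_e L707563) q19208, e3 q17999 (flp_e L702513) q18703, e3 q18000 (flp_e L702596)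 q18710, e3 q18001 (flp_e L693762) q15861, e3 q18002 (flp_e L707528) q19203, e3 q18003 L693776 q18003, e3 q18004 (flp_e L708942) q19326, e3 q18005 L693793 q15870, e3 q18006 L714134 q19959, e3 q18007 L714142 q19960, e3 q18008 (flp_e L693815) q15872, e3 q18009 (flp_e L693835) q15878, e3 q18010 (flp_e L693848) q15877, e3 q18011 (flp_e L693850) q15875, e3 q18012 L694832 q18104, e3 q18013 (flp_e L694855) q18106, e3 q18014 (flp_e L699691) q18472, e3 q18015 (flp_e L699702) q18473, e3 q18016 L714178 q19963, e3 q18017 (flp_e L709262) q19354, e3 q18018 (flp_e L709273) q19355, e3 q18019 L714189 q19964, e3 q18020 (flp_e L709297) q19357, e3 q18021 (flp_e L699724) q18475, e3 q18022 (flp_e L693965) q15894, e3 q18023 (flp_e L699083) q18420, e3 q18024 (flp_e L698663) q18383, e3 q18025 (flp_e L699094) q18421, e3 q18026 (flp_e L693994) q15905, e3 q18027 (flp_e L694004) q15906, e3 q18028 (flp_e L714229) q19968, e3 q18029 L694029 q15930, e3 q18030 L694036 q15933, e3 q18031 L694045 q15934, e3 q18032 L694056 q15913, e3 q18033 (flp_e L713616) q19886,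 e3 q18034 (flp_e L713620) q19887, e3 q18035 (flp_e L713628) q19888, e3 q18036 L694081 q15955, e3 q18037 L694086 q15956, e3 q18038 L694093 q15937, e3 q18039 L694102 q15938, e3 q18040 L714331 q19982, e3 q18041 (flp_e L694111) q15920, e3 q18042 L694125 q15942, e3 q18043 (flp_e L709817) q19409, e3 q18044 L694143 q18044, e3 q18045 L694158 q15959, e3 q18046 L694165 q15957, e3 q18047 (flp_e L698458) q18364, trivial⟩ (by decide +kernel)

theorem ce_e_282 : ∀ r, r < 64 → sm ge (Qf (18048 + r)) = Qf (tab Gen.e (18048 + r)) :=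
  edges_tab (sm ge) Qf (tab Gen.e) 18048 [(18048, 19972), (18049, 19969), (18050, 15932), (18051, 19970), (18052, 19971), (18053, 18365), (18054, 19408), (18055, 19979), (18056, 19992), (18057, 15939), (18058, 19983), (18059, 18059), (18060, 18060), (18061, 18061), (18062, 18062), (18063, 19210), (18064, 15952), (18065, 19990), (18066, 19977), (18067, 18968), (18068, 19372), (18069, 19373), (18070, 19451), (18071, 19452), (18072, 18372), (18073, 18601), (18074, 18074), (18075, 18075), (18076, 18076), (18077, 19202), (18078, 16457), (18079, 17528), (18080, 18080), (18081, 16669), (18082, 15987), (18083, 16670), (18084, 17719), (18085, 18085), (18086, 18086), (18087, 17154), (18088, 16391), (18089, 16019), (18090, 16663), (18091, 17628), (18092, 17629), (18093, 16002), (18094, 16003), (18095, 20004), (18096, 20005), (18097, 17288), (18098, 16004), (18099, 16373), (18100, 17329), (18101, 17330), (18102, 16387), (18103, 16388), (18104, 18012), (18105, 16390), (18106, 18013), (18107, 16853), (18108, 16021), (18109, 20010), (18110,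 16024), (18111, 20012)]
    ⟨e3 q18048 (flp_e L714272) q19972, e3 q18049 (flp_e L714240) q19969, e3 q18050 L694198 q15932, e3 q18051 (flp_e L714247) q19970, e3 q18052 (flp_e L714257) q19971, e3 q18053 (flp_e L698480) q18365, e3 q18054 (flp_e L709805) q19408, e3 q18055 (flp_e L714312) q19979, e3 q18056 L714421 q19992, e3 q18057 (flp_e L694249) q15939, e3 q18058 (flp_e L714351) q19983, e3 q18059 L694269 q18059, e3 q18060 L694279 q18060, e3 q18061 L694291 q18061, e3 q18062 L694300 q18062, e3 q18063 (flp_e L707580) q19210, e3 q18064 L694314 q15952, e3 q18065 (flp_e L714408) q19990, e3 q18066 (flp_e L714298) q19977, e3 q18067 (flp_e L705256) q18968, e3 q18068 (flp_e L709455) q19372, e3 q18069 (flp_e L709466) q19373, e3 q18070 (flp_e L710240) q19451, e3 q18071 (flp_e L710249) q19452, e3 q18072 (flp_e L698550) q18372, e3 q18073 (flp_e L701355) q18601, e3 q18074 L694381 q18074, e3 q18075 L694388 q18075, e3 q18076 L694397 q18076, e3 q18077 (flp_e L707518) q19202, e3 q18078 L694412 q16457, e3 q18079 L694428 q17528, e3 q18080 L694452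 q18080, e3 q18081 L694463 q16669, e3 q18082 L694482 q15987, e3 q18083 L694500 q16670, e3 q18084 L694517 q17719, e3 q18085 L694532 q18085, e3 q18086 L694557 q18086, e3 q18087 L694568 q17154, e3 q18088 L694583 q16391, e3 q18089 L694606 q16019, e3 q18090 L694618 q16663, e3 q18091 L694634 q17628, e3 q18092 L694647 q17629, e3 q18093 L694665 q16002, e3 q18094 L694677 q16003, e3 q18095 (flp_e L714536) q20004, e3 q18096 L714544 q20005, e3 q18097 L694727 q17288, e3 q18098 (flp_e L694729) q16004, e3 q18099 L694750 q16373, e3 q18100 L694769 q17329, e3 q18101 L694782 q17330, e3 q18102 L694800 q16387, e3 q18103 L694813 q16388, e3 q18104 (flp_e L694832) q18012, e3 q18105 L694841 q16390, e3 q18106 L694855 q18013, e3 q18107 L694862 q16853, e3 q18108 (flp_e L694871) q16021, e3 q18109 (flp_e L714638) q20010, e3 q18110 (flp_e L694904) q16024, e3 q18111 (flp_e L714674) q20012, trivial⟩ (by decide +kernel)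

theorem ce_e_283 : ∀ r, r < 64 → sm ge (Qf (18112 + r)) = Qf (tab Gen.e (18112 + r)) :=
  edges_tab (sm ge) Qf (tab Gen.e) 18112 [(18112, 16026), (18113, 20014), (18114, 16028), (18115, 20016), (18116, 16031), (18117, 16033), (18118, 17535), (18119, 17536), (18120, 16455), (18121, 17545), (18122, 17523), (18123, 16046), (18124, 20020), (18125, 17527), (18126, 17526), (18127, 16494), (18128, 17210), (18129, 16051), (18130, 16056), (18131, 16057), (18132, 20017), (18133, 20026), (18134, 17349), (18135, 16060), (18136, 20029), (18137, 16630), (18138, 16062), (18139, 16064), (18140, 20031), (18141, 20032), (18142, 16172), (18143, 20034), (18144, 16067), (18145, 20037), (18146, 16069), (18147, 20040), (18148, 20043), (18149, 16071), (18150, 20046), (18151, 20036), (18152, 16073), (18153, 20049), (18154, 16612), (18155, 16074), (18156, 20051), (18157, 16076), (18158, 20053), (18159, 16078), (18160, 16189), (18161, 16080), (18162, 16192), (18163, 16083), (18164, 16152), (18165, 16312), (18166, 18166), (18167, 18167), (18168, 18168),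 (18169, 18169), (18170, 18170), (18171, 18171), (18172, 20061), (18173, 16232), (18174, 17665), (18175, 16103)]
    ⟨e3 q18112 (flp_e L694938) q16026, e3 q18113 (flp_e L714709) q20014, e3 q18114 L694979 q16028, e3 q18115 (flp_e L714741) q20016, e3 q18116 L695004 q16031, e3 q18117 L695021 q16033, e3 q18118 L695040 q17535, e3 q18119 L695054 q17536, e3 q18120 L695076 q16455, e3 q18121 L695093 q17545, e3 q18122 L695114 q17523, e3 q18123 L695131 q16046, e3 q18124 (flp_e L714810) q20020, e3 q18125 L695161 q17527, e3 q18126 L695175 q17526, e3 q18127 L695197 q16494, e3 q18128 L695215 q17210, e3 q18129 L695229 q16051, e3 q18130 L695243 q16056, e3 q18131 L695261 q16057, e3 q18132 (flp_e L714760) q20017, e3 q18133 L714896 q20026, e3 q18134 L695305 q17349, e3 q18135 (flp_e L695315) q16060, e3 q18136 (flp_e L714952) q20029, e3 q18137 (flp_e L695362) q16630, e3 q18138 (flp_e L695364) q16062, e3 q18139 L695393 q16064, e3 q18140 (flp_e L714982) q20031, e3 q18141 L714988 q20032, e3 q18142 L695435 q16172, e3 q18143 L715020 q20034, e3 q18144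 (flp_e L695461) q16067, e3 q18145 (flp_e L715072) q20037, e3 q18146 (flp_e L695483) q16069, e3 q18147 (flp_e L715114) q20040, e3 q18148 L715154 q20043, e3 q18149 (flp_e L695527) q16071, e3 q18150 (flp_e L715203) q20046, e3 q18151 (flp_e L715060) q20036, e3 q18152 L695570 q16073, e3 q18153 (flp_e L715241) q20049, e3 q18154 (flp_e L695598) q16612, e3 q18155 (flp_e L695600) q16074, e3 q18156 (flp_e L715270) q20051, e3 q18157 L695634 q16076, e3 q18158 (flp_e L715296) q20053, e3 q18159 L695656 q16078, e3 q18160 L695670 q16189, e3 q18161 L695681 q16080, e3 q18162 L695696 q16192, e3 q18163 L695709 q16083, e3 q18164 L695725 q16152, e3 q18165 L695735 q16312, e3 q18166 L695749 q18166, e3 q18167 L695766 q18167, e3 q18168 L695783 q18168, e3 q18169 L695794 q18169, e3 q18170 L695812 q18170, e3 q18171 L695826 q18171, e3 q18172 L715410 q20061, e3 q18173 L695860 q16232, e3 q18174 L695880 q17665, e3 q18175 L695896 q16103, trivial⟩ (by decide +kernel)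

theorem ce_e_284 : ∀ r, r < 64 → sm ge (Qf (18176 + r)) = Qf (tab Gen.e (18176 + r)) :=
  edges_tab (sm ge) Qf (tab Gen.e) 18176 [(18176, 20064), (18177, 16105), (18178, 16107), (18179, 20066), (18180, 17666), (18181, 16566), (18182, 16568), (18183, 16112), (18184, 16117), (18185, 16816), (18186, 16656), (18187, 17720), (18188, 20071), (18189, 17938), (18190, 16120), (18191, 20074), (18192, 17611), (18193, 20073), (18194, 16125), (18195, 20079), (18196, 17238), (18197, 17239), (18198, 16128), (18199, 16129), (18200, 20083), (18201, 16131), (18202, 20085), (18203, 16136), (18204, 16133), (18205, 20089), (18206, 17624), (18207, 17623), (18208, 20087), (18209, 20088), (18210, 16138), (18211, 17556), (18212, 17265), (18213, 17266), (18214, 16142), (18215, 17269), (18216, 17270), (18217, 17271), (18218, 20054), (18219, 16350), (18220, 16351), (18221, 16352), (18222, 20057), (18223, 16153), (18224, 16154), (18225, 20065), (18226, 20058), (18227, 16159), (18228, 20109), (18229, 16161), (18230, 16247), (18231, 20114), (18232, 20107),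 (18233, 20116), (18234, 16160), (18235, 20119), (18236, 17359), (18237, 16162), (18238, 20123), (18239, 17365)]
    ⟨e3 q18176 (flp_e L715470) q20064, e3 q18177 L695926 q16105, e3 q18178 (flp_e L695935) q16107, e3 q18179 (flp_e L715505) q20066, e3 q18180 L695971 q17666, e3 q18181 L695991 q16566, e3 q18182 L696009 q16568, e3 q18183 L696021 q16112, e3 q18184 L696037 q16117, e3 q18185 L696060 q16816, e3 q18186 L696072 q16656, e3 q18187 L696090 q17720, e3 q18188 L715583 q20071, e3 q18189 L696125 q17938, e3 q18190 (flp_e L696135) q16120, e3 q18191 (flp_e L715645) q20074, e3 q18192 L696173 q17611, e3 q18193 (flp_e L715631) q20073, e3 q18194 L696201 q16125, e3 q18195 (flp_e L715717) q20079, e3 q18196 L696228 q17238, e3 q18197 L696241 q17239, e3 q18198 L696255 q16128, e3 q18199 (flp_e L696259) q16129, e3 q18200 (flp_e L715775) q20083, e3 q18201 (flp_e L696287) q16131, e3 q18202 (flp_e L715803) q20085, e3 q18203 L696333 q16136, e3 q18204 L696341 q16133, e3 q18205 (flp_e L715865) q20089, e3 q18206 L696361 q17624, e3 q18207 L696375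 q17623, e3 q18208 (flp_e L715839) q20087, e3 q18209 (flp_e L715855) q20088, e3 q18210 L696419 q16138, e3 q18211 L696433 q17556, e3 q18212 L696455 q17265, e3 q18213 L696471 q17266, e3 q18214 L696485 q16142, e3 q18215 L696503 q17269, e3 q18216 L696513 q17270, e3 q18217 L696521 q17271, e3 q18218 (flp_e L715312) q20054, e3 q18219 L696539 q16350, e3 q18220 L696554 q16351, e3 q18221 L696568 q16352, e3 q18222 (flp_e L715360) q20057, e3 q18223 L696594 q16153, e3 q18224 L696610 q16154, e3 q18225 (flp_e L715495) q20065, e3 q18226 (flp_e L715366) q20058, e3 q18227 L696644 q16159, e3 q18228 L716129 q20109, e3 q18229 L696669 q16161, e3 q18230 L696683 q16247, e3 q18231 L716198 q20114, e3 q18232 (flp_e L716108) q20107, e3 q18233 L716220 q20116, e3 q18234 (flp_e L696728) q16160, e3 q18235 (flp_e L716267) q20119, e3 q18236 (flp_e L696762) q17359, e3 q18237 (flp_e L696764) q16162, e3 q18238 (flp_e L716321) q20123, e3 q18239 L696798 q17365, trivial⟩ (by decide +kernel)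

theorem ce_e_285 : ∀ r, r < 64 → sm ge (Qf (18240 + r)) = Qf (tab Gen.e (18240 + r)) :=
  edges_tab (sm ge) Qf (tab Gen.e) 18240 [(18240, 20118), (18241, 16166), (18242, 20127), (18243, 17371), (18244, 16169), (18245, 20130), (18246, 17274), (18247, 20132), (18248, 16171), (18249, 20135), (18250, 20137), (18251, 16173), (18252, 20141), (18253, 16182), (18254, 16175), (18255, 20144), (18256, 16176), (18257, 20146), (18258, 20134), (18259, 16178), (18260, 20150), (18261, 17345), (18262, 20140), (18263, 16181), (18264, 20153), (18265, 20143), (18266, 16184), (18267, 17347), (18268, 16187), (18269, 20159), (18270, 16346), (18271, 17566), (18272, 20055), (18273, 16191), (18274, 20056), (18275, 16353), (18276, 16357), (18277, 17483), (18278, 17484), (18279, 16198), (18280, 20169), (18281, 20139), (18282, 16200), (18283, 20173), (18284, 16202), (18285, 18285), (18286, 18286), (18287, 20177), (18288, 18288), (18289, 17003), (18290, 16209), (18291, 16842), (18292, 16213), (18293, 20178), (18294, 16215), (18295, 16662), (18296, 16553),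 (18297, 16845), (18298, 16219), (18299, 16883), (18300, 20182), (18301, 17732), (18302, 16954), (18303, 18303)]
    ⟨e3 q18240 (flp_e L716257) q20118, e3 q18241 L696824 q16166, e3 q18242 (flp_e L716374) q20127, e3 q18243 L696848 q17371, e3 q18244 L696863 q16169, e3 q18245 L716408 q20130, e3 q18246 L696891 q17274, e3 q18247 L716439 q20132, e3 q18248 (flp_e L696914) q16171, e3 q18249 (flp_e L716485) q20135, e3 q18250 L716501 q20137, e3 q18251 (flp_e L696950) q16173, e3 q18252 (flp_e L716565) q20141, e3 q18253 L696976 q16182, e3 q18254 L696986 q16175, e3 q18255 (flp_e L716597) q20144, e3 q18256 (flp_e L697002) q16176, e3 q18257 (flp_e L716623) q20146, e3 q18258 (flp_e L716477) q20134, e3 q18259 L697047 q16178, e3 q18260 (flp_e L716668) q20150, e3 q18261 L697073 q17345, e3 q18262 (flp_e L716555) q20140, e3 q18263 L697101 q16181, e3 q18264 (flp_e L716710) q20153, e3 q18265 (flp_e L716585) q20143, e3 q18266 L697131 q16184, e3 q18267 L697143 q17347, e3 q18268 L697158 q16187, e3 q18269 L716777 q20159, e3 q18270 L697185 q16346, e3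 q18271 L697196 q17566, e3 q18272 (flp_e L715323) q20055, e3 q18273 L697220 q16191, e3 q18274 (flp_e L715340) q20056, e3 q18275 L697247 q16353, e3 q18276 L697253 q16357, e3 q18277 L697268 q17483, e3 q18278 L697282 q17484, e3 q18279 (flp_e L697293) q16198, e3 q18280 (flp_e L716911) q20169, e3 q18281 (flp_e L716543) q20139, e3 q18282 L697338 q16200, e3 q18283 (flp_e L716964) q20173, e3 q18284 L697362 q16202, e3 q18285 L697380 q18285, e3 q18286 L697393 q18286, e3 q18287 L717010 q20177, e3 q18288 L697416 q18288, e3 q18289 (flp_e L697437) q17003, e3 q18290 (flp_e L697439) q16209, e3 q18291 L697457 q16842, e3 q18292 L697476 q16213, e3 q18293 (flp_e L717028) q20178, e3 q18294 L697501 q16215, e3 q18295 L697523 q16662, e3 q18296 (flp_e L697542) q16553, e3 q18297 (flp_e L697559) q16845, e3 q18298 (flp_e L697561) q16219, e3 q18299 L697586 q16883, e3 q18300 L717091 q20182, e3 q18301 L697616 q17732, e3 q18302 (flp_e L697637) q16954, e3 q18303 L697647 q18303, trivial⟩ (by decide +kernel)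

theorem ce_e_286 : ∀ r, r < 64 → sm ge (Qf (18304 + r)) = Qf (tab Gen.e (18304 + r)) :=
  edges_tab (sm ge) Qf (tab Gen.e) 18304 [(18304, 16956), (18305, 16958), (18306, 16604), (18307, 20189), (18308, 17988), (18309, 20191), (18310, 16231), (18311, 20194), (18312, 16944), (18313, 17994), (18314, 16946), (18315, 20193), (18316, 16237), (18317, 20200), (18318, 16947), (18319, 16240), (18320, 17692), (18321, 16243), (18322, 16356), (18323, 20205), (18324, 16249), (18325, 20207), (18326, 20112), (18327, 20209), (18328, 16248), (18329, 20212), (18330, 17996), (18331, 16989), (18332, 20211), (18333, 16254), (18334, 20217), (18335, 16995), (18336, 16257), (18337, 20220), (18338, 17989), (18339, 16259), (18340, 20222), (18341, 16261), (18342, 20224), (18343, 16266), (18344, 16263), (18345, 20228), (18346, 17997), (18347, 17920), (18348, 20226), (18349, 20227), (18350, 16268), (18351, 17932), (18352, 16857), (18353, 16860), (18354, 16862), (18355, 17106), (18356, 16650), (18357, 17690), (18358, 17693), (18359, 17117), (18360, 16280),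 (18361, 16281), (18362, 16931), (18363, 20240), (18364, 18047), (18365, 18053), (18366, 20244), (18367, 16292)]
    ⟨e3 q18304 L697663 q16956, e3 q18305 L697675 q16958, e3 q18306 L697691 q16604, e3 q18307 L717194 q20189, e3 q18308 L697715 q17988, e3 q18309 L717218 q20191, e3 q18310 (flp_e L697736) q16231, e3 q18311 (flp_e L717269) q20194, e3 q18312 L697760 q16944, e3 q18313 L697778 q17994, e3 q18314 L697792 q16946, e3 q18315 (flp_e L717259) q20193, e3 q18316 L697822 q16237, e3 q18317 (flp_e L717350) q20200, e3 q18318 L697846 q16947, e3 q18319 L697861 q16240, e3 q18320 L697876 q17692, e3 q18321 L697892 q16243, e3 q18322 L697911 q16356, e3 q18323 L717423 q20205, e3 q18324 L697933 q16249, e3 q18325 L717450 q20207, e3 q18326 (flp_e L716174) q20112, e3 q18327 L717474 q20209, e3 q18328 (flp_e L697978) q16248, e3 q18329 (flp_e L717525) q20212, e3 q18330 L698004 q17996, e3 q18331 L698018 q16989, e3 q18332 (flp_e L717517) q20211, e3 q18333 L698048 q16254, e3 q18334 (flp_e L717595) q20217, e3 q18335 L698072 q16995, e3 q18336 L698087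 q16257, e3 q18337 L717635 q20220, e3 q18338 L698111 q17989, e3 q18339 (flp_e L698120) q16259, e3 q18340 (flp_e L717668) q20222, e3 q18341 (flp_e L698144) q16261, e3 q18342 (flp_e L717696) q20224, e3 q18343 L698186 q16266, e3 q18344 L698192 q16263, e3 q18345 (flp_e L717752) q20228, e3 q18346 L698212 q17997, e3 q18347 L698227 q17920, e3 q18348 (flp_e L717728) q20226, e3 q18349 (flp_e L717742) q20227, e3 q18350 L698265 q16268, e3 q18351 L698282 q17932, e3 q18352 L698296 q16857, e3 q18353 L698311 q16860, e3 q18354 L698323 q16862, e3 q18355 L698337 q17106, e3 q18356 L698349 q16650, e3 q18357 L698364 q17690, e3 q18358 L698376 q17693, e3 q18359 L698394 q17117, e3 q18360 L698404 q16280, e3 q18361 L698417 q16281, e3 q18362 L698434 q16931, e3 q18363 (flp_e L717922) q20240, e3 q18364 L698458 q18047, e3 q18365 L698480 q18053, e3 q18366 L717968 q20244, e3 q18367 L698498 q16292, trivial⟩ (by decide +kernel)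

theorem ce_e_287 : ∀ r, r < 64 → sm ge (Qf (18368 + r)) = Qf (tab Gen.e (18368 + r)) :=
  edges_tab (sm ge) Qf (tab Gen.e) 18368 [(18368, 20247), (18369, 16288), (18370, 20250), (18371, 20252), (18372, 18072), (18373, 20255), (18374, 16291), (18375, 20258), (18376, 20260), (18377, 16293), (18378, 20264), (18379, 16302), (18380, 16295), (18381, 20268), (18382, 17073), (18383, 18024), (18384, 20257), (18385, 16298), (18386, 20273), (18387, 17082), (18388, 20263), (18389, 16301), (18390, 20276), (18391, 20266), (18392, 20267), (18393, 16304), (18394, 17094), (18395, 16307), (18396, 20283), (18397, 17427), (18398, 17428), (18399, 17429), (18400, 20129), (18401, 16311), (18402, 20289), (18403, 20292), (18404, 16313), (18405, 20294), (18406, 16324), (18407, 16315), (18408, 20298), (18409, 20299), (18410, 16316), (18411, 20303), (18412, 16365), (18413, 16330), (18414, 16318), (18415, 20309), (18416, 16333), (18417, 16334), (18418, 16321), (18419, 17033), (18420, 18023), (18421, 18025), (18422, 20296), (18423, 20297), (18424, 16326),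 (18425, 17039), (18426, 20302), (18427, 16329), (18428, 20324), (18429, 20307), (18430, 20308), (18431, 16332)]
    ⟨e3 q18368 L718001 q20247, e3 q18369 (flp_e L698515) q16288, e3 q18370 (flp_e L718038) q20250, e3 q18371 L718051 q20252, e3 q18372 L698550 q18072, e3 q18373 L718087 q20255, e3 q18374 (flp_e L698568) q16291, e3 q18375 (flp_e L718128) q20258, e3 q18376 L718142 q20260, e3 q18377 (flp_e L698599) q16293, e3 q18378 (flp_e L718194) q20264, e3 q18379 L698622 q16302, e3 q18380 L698628 q16295, e3 q18381 (flp_e L718236) q20268, e3 q18382 L698645 q17073, e3 q18383 L698663 q18024, e3 q18384 (flp_e L718122) q20257, e3 q18385 L698690 q16298, e3 q18386 (flp_e L718304) q20273, e3 q18387 L698713 q17082, e3 q18388 (flp_e L718186) q20263, e3 q18389 L698743 q16301, e3 q18390 (flp_e L718349) q20276, e3 q18391 (flp_e L718218) q20266, e3 q18392 (flp_e L718228) q20267, e3 q18393 L698781 q16304, e3 q18394 L698795 q17094, e3 q18395 L698810 q16307, e3 q18396 L718427 q20283, e3 q18397 L698836 q17427, e3 q18398 L698850 q17428, e3 q18399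 L698862 q17429, e3 q18400 (flp_e L716405) q20129, e3 q18401 (flp_e L698877) q16311, e3 q18402 (flp_e L718510) q20289, e3 q18403 L718541 q20292, e3 q18404 (flp_e L698906) q16313, e3 q18405 (flp_e L718573) q20294, e3 q18406 L698942 q16324, e3 q18407 L698948 q16315, e3 q18408 (flp_e L718621) q20298, e3 q18409 L718625 q20299, e3 q18410 (flp_e L698974) q16316, e3 q18411 (flp_e L718691) q20303, e3 q18412 L699004 q16365, e3 q18413 L699018 q16330, e3 q18414 L699024 q16318, e3 q18415 (flp_e L718769) q20309, e3 q18416 L699040 q16333, e3 q18417 L699048 q16334, e3 q18418 L699056 q16321, e3 q18419 L699066 q17033, e3 q18420 L699083 q18023, e3 q18421 L699094 q18025, e3 q18422 (flp_e L718599) q20296, e3 q18423 (flp_e L718611) q20297, e3 q18424 L699132 q16326, e3 q18425 L699147 q17039, e3 q18426 (flp_e L718681) q20302, e3 q18427 L699177 q16329, e3 q18428 (flp_e L718937) q20324, e3 q18429 (flp_e L718745) q20307, e3 q18430 (flp_e L718759) q20308, e3 q18431 L699223 q16332, trivial⟩ (by decide +kernel)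

theorem ce_e_288 : ∀ r, r < 64 → sm ge (Qf (18432 + r)) = Qf (tab Gen.e (18432 + r)) :=
  edges_tab (sm ge) Qf (tab Gen.e) 18432 [(18432, 20329), (18433, 20311), (18434, 20312), (18435, 20313), (18436, 20156), (18437, 17046), (18438, 16338), (18439, 20335), (18440, 17475), (18441, 17476), (18442, 17477), (18443, 16342), (18444, 17480), (18445, 17481), (18446, 20202), (18447, 20160), (18448, 16732), (18449, 16736), (18450, 17630), (18451, 20163), (18452, 20100), (18453, 20101), (18454, 20349), (18455, 20165), (18456, 16358), (18457, 20204), (18458, 17324), (18459, 20166), (18460, 17314), (18461, 17315), (18462, 17316), (18463, 16362), (18464, 20357), (18465, 20301), (18466, 16364), (18467, 20361), (18468, 20305), (18469, 20306), (18470, 16367), (18471, 20366), (18472, 18014), (18473, 18015), (18474, 20369), (18475, 18021), (18476, 20370), (18477, 16374), (18478, 16376), (18479, 17119), (18480, 17326), (18481, 17327), (18482, 16667), (18483, 16382), (18484, 20375), (18485, 16384), (18486, 17691), (18487, 20007), (18488, 20001),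 (18489, 16389), (18490, 16454), (18491, 16431), (18492, 16397), (18493, 18493), (18494, 16456), (18495, 16458)]
    ⟨e3 q18432 L718997 q20329, e3 q18433 (flp_e L718785) q20311, e3 q18434 (flp_e L718793) q20312, e3 q18435 (flp_e L718803) q20313, e3 q18436 (flp_e L716744) q20156, e3 q18437 L699277 q17046, e3 q18438 L699292 q16338, e3 q18439 L719060 q20335, e3 q18440 L699320 q17475, e3 q18441 L699335 q17476, e3 q18442 L699347 q17477, e3 q18443 (flp_e L699356) q16342, e3 q18444 L699371 q17480, e3 q18445 L699380 q17481, e3 q18446 (flp_e L717387) q20202, e3 q18447 (flp_e L716792) q20160, e3 q18448 L699410 q16732, e3 q18449 L699424 q16736, e3 q18450 L699437 q17630, e3 q18451 (flp_e L716837) q20163, e3 q18452 (flp_e L716009) q20100, e3 q18453 (flp_e L716027) q20101, e3 q18454 L719234 q20349, e3 q18455 (flp_e L716854) q20165, e3 q18456 L699491 q16358, e3 q18457 (flp_e L717421) q20204, e3 q18458 L699508 q17324, e3 q18459 (flp_e L716863) q20166, e3 q18460 L699534 q17314, e3 q18461 L699551 q17315, e3 q18462 L699563 q17316, e3 q18463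 (flp_e L699570) q16362, e3 q18464 (flp_e L719335) q20357, e3 q18465 (flp_e L718661) q20301, e3 q18466 L699615 q16364, e3 q18467 (flp_e L719391) q20361, e3 q18468 (flp_e L718711) q20305, e3 q18469 (flp_e L718727) q20306, e3 q18470 L699667 q16367, e3 q18471 L719447 q20366, e3 q18472 L699691 q18014, e3 q18473 L699702 q18015, e3 q18474 L719474 q20369, e3 q18475 L699724 q18021, e3 q18476 L719484 q20370, e3 q18477 (flp_e L699736) q16374, e3 q18478 (flp_e L699745) q16376, e3 q18479 L699769 q17119, e3 q18480 L699778 q17326, e3 q18481 L699790 q17327, e3 q18482 L699809 q16667, e3 q18483 L699820 q16382, e3 q18484 (flp_e L719551) q20375, e3 q18485 L699842 q16384, e3 q18486 L699862 q17691, e3 q18487 (flp_e L714585) q20007, e3 q18488 (flp_e L714486) q20001, e3 q18489 (flp_e L699885) q16389, e3 q18490 L699908 q16454, e3 q18491 L699925 q16431, e3 q18492 L699941 q16397, e3 q18493 L699965 q18493, e3 q18494 L699975 q16456, e3 q18495 L699993 q16458, trivial⟩ (by decide +kernel)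

theorem ce_e_289 : ∀ r, r < 64 → sm ge (Qf (18496 + r)) = Qf (tab Gen.e (18496 + r)) :=
  edges_tab (sm ge) Qf (tab Gen.e) 18496 [(18496, 16409), (18497, 16443), (18498, 16410), (18499, 17532), (18500, 16434), (18501, 18501), (18502, 16432), (18503, 16413), (18504, 20380), (18505, 18505), (18506, 16463), (18507, 18507), (18508, 16423), (18509, 16444), (18510, 16442), (18511, 16422), (18512, 20385), (18513, 16425), (18514, 16449), (18515, 20379), (18516, 16472), (18517, 20378), (18518, 16459), (18519, 16436), (18520, 20392), (18521, 17530), (18522, 16588), (18523, 20384), (18524, 20376), (18525, 20383), (18526, 16464), (18527, 16447), (18528, 16452), (18529, 16527), (18530, 17977), (18531, 20402), (18532, 17978), (18533, 20391), (18534, 17537), (18535, 16466), (18536, 20382), (18537, 20397), (18538, 16686), (18539, 18539), (18540, 16479), (18541, 20405), (18542, 16476), (18543, 16468), (18544, 20411), (18545, 16470), (18546, 20413), (18547, 20389), (18548, 17625), (18549, 20410), (18550, 16498), (18551, 16478), (18552, 20418),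 (18553, 20408), (18554, 16481), (18555, 20420), (18556, 16483), (18557, 18557), (18558, 16486), (18559, 20386)]
    ⟨e3 q18496 L700010 q16409, e3 q18497 L700034 q16443, e3 q18498 L700047 q16410, e3 q18499 L700067 q17532, e3 q18500 (flp_e L700089) q16434, e3 q18501 L700098 q18501, e3 q18502 (flp_e L700122) q16432, e3 q18503 (flp_e L700124) q16413, e3 q18504 (flp_e L719642) q20380, e3 q18505 L700161 q18505, e3 q18506 (flp_e L700186) q16463, e3 q18507 L700196 q18507, e3 q18508 L700213 q16423, e3 q18509 L700229 q16444, e3 q18510 L700243 q16442, e3 q18511 L700261 q16422, e3 q18512 (flp_e L719718) q20385, e3 q18513 L700287 q16425, e3 q18514 L700304 q16449, e3 q18515 (flp_e L719625) q20379, e3 q18516 L700328 q16472, e3 q18517 (flp_e L719608) q20378, e3 q18518 L700364 q16459, e3 q18519 L700371 q16436, e3 q18520 (flp_e L719820) q20392, e3 q18521 L700393 q17530, e3 q18522 L700411 q16588, e3 q18523 (flp_e L719702) q20384, e3 q18524 (flp_e L719572) q20376, e3 q18525 (flp_e L719688) q20383, e3 q18526 L700455 q16464, e3 q18527 L700465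 q16447, e3 q18528 L700477 q16452, e3 q18529 L700491 q16527, e3 q18530 L700501 q17977, e3 q18531 L719959 q20402, e3 q18532 L700526 q17978, e3 q18533 (flp_e L719810) q20391, e3 q18534 L700559 q17537, e3 q18535 L700568 q16466, e3 q18536 (flp_e L719674) q20382, e3 q18537 (flp_e L719892) q20397, e3 q18538 (flp_e L700617) q16686, e3 q18539 L700624 q18539, e3 q18540 L700637 q16479, e3 q18541 (flp_e L720011) q20405, e3 q18542 (flp_e L700673) q16476, e3 q18543 (flp_e L700675) q16468, e3 q18544 (flp_e L720101) q20411, e3 q18545 L700709 q16470, e3 q18546 (flp_e L720125) q20413, e3 q18547 (flp_e L719783) q20389, e3 q18548 L700743 q17625, e3 q18549 (flp_e L720083) q20410, e3 q18550 L700775 q16498, e3 q18551 L700787 q16478, e3 q18552 (flp_e L720189) q20418, e3 q18553 (flp_e L720058) q20408, e3 q18554 L700816 q16481, e3 q18555 (flp_e L720209) q20420, e3 q18556 L700834 q16483, e3 q18557 L700845 q18557, e3 q18558 L700859 q16486, e3 q18559 (flp_e L719741) q20386, trivial⟩ (by decide +kernel)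

theorem ce_e_290 : ∀ r, r < 64 → sm ge (Qf (18560 + r)) = Qf (tab Gen.e (18560 + r)) :=
  edges_tab (sm ge) Qf (tab Gen.e) 18560 [(18560, 18560), (18561, 18561), (18562, 18562), (18563, 20426), (18564, 20021), (18565, 17613), (18566, 20417), (18567, 16500), (18568, 20430), (18569, 17512), (18570, 16503), (18571, 20432), (18572, 17202), (18573, 16506), (18574, 16508), (18575, 20436), (18576, 17626), (18577, 16511), (18578, 20437), (18579, 16513), (18580, 17516), (18581, 16516), (18582, 20441), (18583, 17540), (18584, 16519), (18585, 20445), (18586, 17543), (18587, 17544), (18588, 20398), (18589, 20387), (18590, 17548), (18591, 20400), (18592, 20424), (18593, 18593), (18594, 20449), (18595, 16531), (18596, 16655), (18597, 16600), (18598, 16848), (18599, 16540), (18600, 16543), (18601, 18073), (18602, 16657), (18603, 16671), (18604, 18604), (18605, 16854), (18606, 20454), (18607, 16856), (18608, 16625), (18609, 16569), (18610, 20068), (18611, 20069), (18612, 16948), (18613, 20461), (18614, 17775), (18615, 16609), (18616, 18616),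 (18617, 16607), (18618, 16573), (18619, 20466), (18620, 17680), (18621, 16577), (18622, 20469), (18623, 16863)]
    ⟨e3 q18560 L700880 q18560, e3 q18561 L700897 q18561, e3 q18562 L700910 q18562, e3 q18563 L720271 q20426, e3 q18564 (flp_e L714830) q20021, e3 q18565 L700947 q17613, e3 q18566 (flp_e L720175) q20417, e3 q18567 L700971 q16500, e3 q18568 (flp_e L720331) q20430, e3 q18569 L700992 q17512, e3 q18570 L701008 q16503, e3 q18571 (flp_e L720363) q20432, e3 q18572 L701027 q17202, e3 q18573 L701035 q16506, e3 q18574 L701044 q16508, e3 q18575 (flp_e L720399) q20436, e3 q18576 L701060 q17626, e3 q18577 L701073 q16511, e3 q18578 (flp_e L720409) q20437, e3 q18579 L701093 q16513, e3 q18580 L701107 q17516, e3 q18581 L701124 q16516, e3 q18582 (flp_e L720459) q20441, e3 q18583 L701147 q17540, e3 q18584 L701157 q16519, e3 q18585 L720496 q20445, e3 q18586 L701173 q17543, e3 q18587 L701181 q17544, e3 q18588 (flp_e L719904) q20398, e3 q18589 (flp_e L719758) q20387, e3 q18590 L701211 q17548, e3 q18591 (flp_e L719929) q20400, e3 q18592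 (flp_e L720250) q20424, e3 q18593 L701234 q18593, e3 q18594 (flp_e L720532) q20449, e3 q18595 (flp_e L701255) q16531, e3 q18596 L701269 q16655, e3 q18597 L701286 q16600, e3 q18598 L701305 q16848, e3 q18599 L701320 q16540, e3 q18600 L701336 q16543, e3 q18601 L701355 q18073, e3 q18602 L701372 q16657, e3 q18603 L701391 q16671, e3 q18604 L701408 q18604, e3 q18605 L701422 q16854, e3 q18606 L720603 q20454, e3 q18607 L701449 q16856, e3 q18608 L701467 q16625, e3 q18609 L701476 q16569, e3 q18610 (flp_e L715539) q20068, e3 q18611 (flp_e L715555) q20069, e3 q18612 L701511 q16948, e3 q18613 L720703 q20461, e3 q18614 L701538 q17775, e3 q18615 (flp_e L701558) q16609, e3 q18616 L701565 q18616, e3 q18617 (flp_e L701585) q16607, e3 q18618 (flp_e L701587) q16573, e3 q18619 (flp_e L720780) q20466, e3 q18620 L701619 q17680, e3 q18621 L701632 q16577, e3 q18622 (flp_e L720818) q20469, e3 q18623 L701654 q16863, trivial⟩ (by decide +kernel)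

theorem ce_e_291 : ∀ r, r < 64 → sm ge (Qf (18624 + r)) = Qf (tab Gen.e (18624 + r)) :=
  edges_tab (sm ge) Qf (tab Gen.e) 18624 [(18624, 20472), (18625, 16865), (18626, 20474), (18627, 16580), (18628, 20477), (18629, 16626), (18630, 16624), (18631, 20476), (18632, 16586), (18633, 20482), (18634, 17221), (18635, 20394), (18636, 16590), (18637, 16876), (18638, 16593), (18639, 16730), (18640, 16879), (18641, 16923), (18642, 17946), (18643, 16639), (18644, 17634), (18645, 20491), (18646, 16606), (18647, 20493), (18648, 20187), (18649, 20496), (18650, 16605), (18651, 20499), (18652, 20464), (18653, 20042), (18654, 20463), (18655, 20498), (18656, 16611), (18657, 20506), (18658, 20050), (18659, 16614), (18660, 20508), (18661, 16676), (18662, 16678), (18663, 16617), (18664, 20513), (18665, 16895), (18666, 16619), (18667, 20515), (18668, 20517), (18669, 16621), (18670, 20520), (18671, 16627), (18672, 16623), (18673, 20524), (18674, 20480), (18675, 20456), (18676, 20479), (18677, 20522), (18678, 20523), (18679, 16629), (18680, 17992),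 (18681, 16632), (18682, 20531), (18683, 16684), (18684, 16687), (18685, 16635), (18686, 20535), (18687, 16685)]
    ⟨e3 q18624 L720858 q20472, e3 q18625 L701678 q16865, e3 q18626 L720882 q20474, e3 q18627 (flp_e L701698) q16580, e3 q18628 (flp_e L720932) q20477, e3 q18629 L701724 q16626, e3 q18630 L701738 q16624, e3 q18631 (flp_e L720922) q20476, e3 q18632 L701766 q16586, e3 q18633 (flp_e L720994) q20482, e3 q18634 L701790 q17221, e3 q18635 (flp_e L719852) q20394, e3 q18636 L701806 q16590, e3 q18637 L701816 q16876, e3 q18638 L701832 q16593, e3 q18639 L701848 q16730, e3 q18640 L701857 q16879, e3 q18641 L701873 q16923, e3 q18642 L701886 q17946, e3 q18643 L701903 q16639, e3 q18644 L701921 q17634, e3 q18645 L721116 q20491, e3 q18646 L701941 q16606, e3 q18647 L721139 q20493, e3 q18648 (flp_e L717172) q20187, e3 q18649 L721174 q20496, e3 q18650 (flp_e L701982) q16605, e3 q18651 (flp_e L721199) q20499, e3 q18652 (flp_e L720750) q20464, e3 q18653 L715152 q20042, e3 q18654 (flp_e L720735) q20463, e3 q18655 (flp_e L721195) q20498,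 e3 q18656 L702032 q16611, e3 q18657 (flp_e L721266) q20506, e3 q18658 (flp_e L715255) q20050, e3 q18659 L702061 q16614, e3 q18660 (flp_e L721288) q20508, e3 q18661 L702082 q16676, e3 q18662 L702097 q16678, e3 q18663 L702103 q16617, e3 q18664 L721339 q20513, e3 q18665 L702127 q16895, e3 q18666 (flp_e L702137) q16619, e3 q18667 (flp_e L721373) q20515, e3 q18668 L721385 q20517, e3 q18669 (flp_e L702163) q16621, e3 q18670 (flp_e L721429) q20520, e3 q18671 L702183 q16627, e3 q18672 L702189 q16623, e3 q18673 (flp_e L721465) q20524, e3 q18674 (flp_e L720966) q20480, e3 q18675 (flp_e L720639) q20456, e3 q18676 (flp_e L720952) q20479, e3 q18677 (flp_e L721449) q20522, e3 q18678 (flp_e L721459) q20523, e3 q18679 L702241 q16629, e3 q18680 L702253 q17992, e3 q18681 L702265 q16632, e3 q18682 (flp_e L721527) q20531, e3 q18683 L702283 q16684, e3 q18684 L702295 q16687, e3 q18685 L702303 q16635, e3 q18686 L721571 q20535, e3 q18687 L702321 q16685, trivial⟩ (by decide +kernel)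

theorem ce_e_292 : ∀ r, r < 64 → sm ge (Qf (18688 + r)) = Qf (tab Gen.e (18688 + r)) :=
  edges_tab (sm ge) Qf (tab Gen.e) 18688 [(18688, 16688), (18689, 16807), (18690, 16926), (18691, 16927), (18692, 16813), (18693, 16646), (18694, 17708), (18695, 16817), (18696, 16649), (18697, 20179), (18698, 20237), (18699, 20519), (18700, 16652), (18701, 20545), (18702, 16654), (18703, 17999), (18704, 20548), (18705, 17707), (18706, 16660), (18707, 20002), (18708, 16665), (18709, 20374), (18710, 18000), (18711, 20550), (18712, 17723), (18713, 18713), (18714, 20510), (18715, 20511), (18716, 20553), (18717, 16950), (18718, 20556), (18719, 16680), (18720, 20558), (18721, 17667), (18722, 16694), (18723, 20533), (18724, 20536), (18725, 20407), (18726, 20534), (18727, 16691), (18728, 20568), (18729, 16693), (18730, 20571), (18731, 20566), (18732, 20574), (18733, 16692), (18734, 20577), (18735, 16713), (18736, 20561), (18737, 16710), (18738, 16696), (18739, 20583), (18740, 20576), (18741, 16698), (18742, 20586), (18743, 17595), (18744, 16701),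 (18745, 20588), (18746, 16703), (18747, 20591), (18748, 16974), (18749, 20593), (18750, 16705), (18751, 20596)]
    ⟨e3 q18688 L702331 q16688, e3 q18689 L702337 q16807, e3 q18690 L702349 q16926, e3 q18691 L702359 q16927, e3 q18692 L702369 q16813, e3 q18693 L702379 q16646, e3 q18694 L702395 q17708, e3 q18695 L702401 q16817, e3 q18696 L702420 q16649, e3 q18697 (flp_e L717051) q20179, e3 q18698 (flp_e L717880) q20237, e3 q18699 (flp_e L721421) q20519, e3 q18700 L702473 q16652, e3 q18701 (flp_e L721708) q20545, e3 q18702 L702496 q16654, e3 q18703 L702513 q17999, e3 q18704 L721741 q20548, e3 q18705 L702536 q17707, e3 q18706 (flp_e L702538) q16660, e3 q18707 (flp_e L714505) q20002, e3 q18708 L702568 q16665, e3 q18709 (flp_e L719542) q20374, e3 q18710 L702596 q18000, e3 q18711 L721772 q20550, e3 q18712 L702627 q17723, e3 q18713 L702643 q18713, e3 q18714 (flp_e L721312) q20510, e3 q18715 (flp_e L721326) q20511, e3 q18716 L721812 q20553, e3 q18717 L702687 q16950, e3 q18718 L721851 q20556, e3 q18719 (flp_e L702704) q16680, e3 q18720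 (flp_e L721878) q20558, e3 q18721 L702730 q17667, e3 q18722 L702739 q16694, e3 q18723 (flp_e L721553) q20533, e3 q18724 (flp_e L721589) q20536, e3 q18725 (flp_e L720041) q20407, e3 q18726 (flp_e L721565) q20534, e3 q18727 L702794 q16691, e3 q18728 L721993 q20568, e3 q18729 L702819 q16693, e3 q18730 L722029 q20571, e3 q18731 (flp_e L721970) q20566, e3 q18732 L722062 q20574, e3 q18733 (flp_e L702856) q16692, e3 q18734 (flp_e L722095) q20577, e3 q18735 L702878 q16713, e3 q18736 (flp_e L721911) q20561, e3 q18737 (flp_e L702910) q16710, e3 q18738 (flp_e L702912) q16696, e3 q18739 (flp_e L722173) q20583, e3 q18740 (flp_e L722089) q20576, e3 q18741 L702949 q16698, e3 q18742 (flp_e L722200) q20586, e3 q18743 L702970 q17595, e3 q18744 L702984 q16701, e3 q18745 (flp_e L722228) q20588, e3 q18746 L703002 q16703, e3 q18747 L722252 q20591, e3 q18748 L703020 q16974, e3 q18749 L722272 q20593, e3 q18750 (flp_e L703036) q16705, e3 q18751 (flp_e L722310) q20596, trivial⟩ (by decide +kernel)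

theorem ce_e_293 : ∀ r, r < 64 → sm ge (Qf (18752 + r)) = Qf (tab Gen.e (18752 + r)) :=
  edges_tab (sm ge) Qf (tab Gen.e) 18752 [(18752, 20599), (18753, 16707), (18754, 20602), (18755, 16716), (18756, 16709), (18757, 20605), (18758, 20581), (18759, 20595), (18760, 16712), (18761, 20608), (18762, 16757), (18763, 20579), (18764, 20601), (18765, 16715), (18766, 20612), (18767, 20604), (18768, 16718), (18769, 17579), (18770, 16721), (18771, 20617), (18772, 16723), (18773, 20620), (18774, 20485), (18775, 16998), (18776, 16999), (18777, 16727), (18778, 17001), (18779, 20487), (18780, 17606), (18781, 17108), (18782, 20342), (18783, 16734), (18784, 20628), (18785, 17109), (18786, 20343), (18787, 16738), (18788, 18788), (18789, 18789), (18790, 18790), (18791, 18791), (18792, 20633), (18793, 18793), (18794, 20635), (18795, 16747), (18796, 20637), (18797, 16753), (18798, 20640), (18799, 16749), (18800, 20643), (18801, 20645), (18802, 17482), (18803, 20647), (18804, 16752), (18805, 20650), (18806, 20652), (18807, 16754), (18808, 20656),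 (18809, 16763), (18810, 16756), (18811, 20660), (18812, 20609), (18813, 20649), (18814, 16759), (18815, 20663)]
    ⟨e3 q18752 L722338 q20599, e3 q18753 (flp_e L703062) q16707, e3 q18754 (flp_e L722370) q20602, e3 q18755 L703088 q16716, e3 q18756 L703096 q16709, e3 q18757 (flp_e L722398) q20605, e3 q18758 (flp_e L722141) q20581, e3 q18759 (flp_e L722302) q20595, e3 q18760 L703138 q16712, e3 q18761 (flp_e L722430) q20608, e3 q18762 L703156 q16757, e3 q18763 (flp_e L722118) q20579, e3 q18764 (flp_e L722362) q20601, e3 q18765 L703188 q16715, e3 q18766 (flp_e L722473) q20612, e3 q18767 (flp_e L722390) q20604, e3 q18768 L703212 q16718, e3 q18769 L703226 q17579, e3 q18770 L703237 q16721, e3 q18771 (flp_e L722519) q20617, e3 q18772 L703251 q16723, e3 q18773 L722540 q20620, e3 q18774 (flp_e L721038) q20485, e3 q18775 L703274 q16998, e3 q18776 L703288 q16999, e3 q18777 L703301 q16727, e3 q18778 L703313 q17001, e3 q18779 (flp_e L721072) q20487, e3 q18780 L703329 q17606, e3 q18781 L703337 q17108, e3 q18782 (flp_e L719163) q20342, e3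 q18783 L703366 q16734, e3 q18784 (flp_e L722645) q20628, e3 q18785 L703386 q17109, e3 q18786 (flp_e L719178) q20343, e3 q18787 L703408 q16738, e3 q18788 L703423 q18788, e3 q18789 L703438 q18789, e3 q18790 L703451 q18790, e3 q18791 L703461 q18791, e3 q18792 L722698 q20633, e3 q18793 L703481 q18793, e3 q18794 L722722 q20635, e3 q18795 (flp_e L703492) q16747, e3 q18796 L722746 q20637, e3 q18797 L703516 q16753, e3 q18798 L722779 q20640, e3 q18799 (flp_e L703531) q16749, e3 q18800 (flp_e L722812) q20643, e3 q18801 L722825 q20645, e3 q18802 L703567 q17482, e3 q18803 L722849 q20647, e3 q18804 (flp_e L703588) q16752, e3 q18805 (flp_e L722882) q20650, e3 q18806 L722894 q20652, e3 q18807 (flp_e L703617) q16754, e3 q18808 (flp_e L722944) q20656, e3 q18809 L703638 q16763, e3 q18810 L703642 q16756, e3 q18811 (flp_e L722978) q20660, e3 q18812 (flp_e L722446) q20609, e3 q18813 (flp_e L722878) q20649, e3 q18814 L703679 q16759, e3 q18815 (flp_e L723009) q20663, trivial⟩ (by decide +kernel)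

theorem ce_e_294 : ∀ r, r < 64 → sm ge (Qf (18816 + r)) = Qf (tab Gen.e (18816 + r)) :=
  edges_tab (sm ge) Qf (tab Gen.e) 18816 [(18816, 17563), (18817, 20655), (18818, 16762), (18819, 20666), (18820, 20658), (18821, 20659), (18822, 16765), (18823, 17565), (18824, 16768), (18825, 20673), (18826, 17280), (18827, 17268), (18828, 20512), (18829, 16772), (18830, 20678), (18831, 16774), (18832, 20682), (18833, 16785), (18834, 16776), (18835, 20685), (18836, 20686), (18837, 16777), (18838, 20690), (18839, 16825), (18840, 16791), (18841, 16779), (18842, 20697), (18843, 16794), (18844, 16795), (18845, 16782), (18846, 20681), (18847, 16784), (18848, 20704), (18849, 20684), (18850, 16787), (18851, 17577), (18852, 20689), (18853, 16790), (18854, 20710), (18855, 20695), (18856, 20696), (18857, 16793), (18858, 20715), (18859, 20699), (18860, 20700), (18861, 20701), (18862, 20529), (18863, 17580), (18864, 16799), (18865, 20721), (18866, 17683), (18867, 17684), (18868, 20725), (18869, 16803), (18870, 17687), (18871, 17688), (18872, 20070),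 (18873, 20538), (18874, 17110), (18875, 20489), (18876, 17112), (18877, 17113), (18878, 20732), (18879, 20541)]
    ⟨e3 q18816 L703700 q17563, e3 q18817 (flp_e L722938) q20655, e3 q18818 L703724 q16762, e3 q18819 (flp_e L723049) q20666, e3 q18820 (flp_e L722964) q20658, e3 q18821 (flp_e L722972) q20659, e3 q18822 L703750 q16765, e3 q18823 L703764 q17565, e3 q18824 L703776 q16768, e3 q18825 L723107 q20673, e3 q18826 L703790 q17280, e3 q18827 L703796 q17268, e3 q18828 (flp_e L721336) q20512, e3 q18829 (flp_e L703807) q16772, e3 q18830 (flp_e L723144) q20678, e3 q18831 (flp_e L703823) q16774, e3 q18832 (flp_e L723182) q20682, e3 q18833 L703851 q16785, e3 q18834 L703857 q16776, e3 q18835 (flp_e L723210) q20685, e3 q18836 L723214 q20686, e3 q18837 (flp_e L703881) q16777, e3 q18838 (flp_e L723274) q20690, e3 q18839 L703911 q16825, e3 q18840 L703917 q16791, e3 q18841 L703923 q16779, e3 q18842 (flp_e L723337) q20697, e3 q18843 L703939 q16794, e3 q18844 L703947 q16795, e3 q18845 L703953 q16782, e3 q18846 (flp_e L723174) q20681, e3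 q18847 L703973 q16784, e3 q18848 (flp_e L723396) q20704, e3 q18849 (flp_e L723202) q20684, e3 q18850 L704003 q16787, e3 q18851 L704017 q17577, e3 q18852 (flp_e L723266) q20689, e3 q18853 L704045 q16790, e3 q18854 (flp_e L723465) q20710, e3 q18855 (flp_e L723321) q20695, e3 q18856 (flp_e L723329) q20696, e3 q18857 L704079 q16793, e3 q18858 L723505 q20715, e3 q18859 (flp_e L723353) q20699, e3 q18860 (flp_e L723361) q20700, e3 q18861 (flp_e L723369) q20701, e3 q18862 (flp_e L721505) q20529, e3 q18863 L704119 q17580, e3 q18864 L704133 q16799, e3 q18865 L723548 q20721, e3 q18866 L704150 q17683, e3 q18867 L704158 q17684, e3 q18868 L723582 q20725, e3 q18869 (flp_e L704165) q16803, e3 q18870 L704173 q17687, e3 q18871 L704181 q17688, e3 q18872 (flp_e L715579) q20070, e3 q18873 (flp_e L721611) q20538, e3 q18874 L704200 q17110, e3 q18875 (flp_e L721104) q20489, e3 q18876 L704219 q17112, e3 q18877 L704230 q17113, e3 q18878 L723639 q20732, e3 q18879 (flp_e L721647) q20541, trivial⟩ (by decide +kernel)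

theorem ce_e_295 : ∀ r, r < 64 → sm ge (Qf (18880 + r)) = Qf (tab Gen.e (18880 + r)) :=
  edges_tab (sm ge) Qf (tab Gen.e) 18880 [(18880, 17703), (18881, 16834), (18882, 17710), (18883, 20680), (18884, 16819), (18885, 20737), (18886, 16821), (18887, 16822), (18888, 20740), (18889, 20688), (18890, 16824), (18891, 20744), (18892, 20693), (18893, 20694), (18894, 16827), (18895, 20749), (18896, 17948), (18897, 20625), (18898, 18898), (18899, 20734), (18900, 16832), (18901, 16838), (18902, 20752), (18903, 16840), (18904, 17711), (18905, 20451), (18906, 16852), (18907, 20009), (18908, 20754), (18909, 20453), (18910, 20756), (18911, 16855), (18912, 20758), (18913, 17193), (18914, 20234), (18915, 17146), (18916, 20235), (18917, 17098), (18918, 20764), (18919, 20471), (18920, 16864), (18921, 20766), (18922, 16870), (18923, 16867), (18924, 20769), (18925, 16869), (18926, 20770), (18927, 20768), (18928, 16872), (18929, 16997), (18930, 16875), (18931, 20486), (18932, 17002), (18933, 20775), (18934, 16885), (18935, 20777), (18936, 16881),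 (18937, 20780), (18938, 20782), (18939, 20181), (18940, 16884), (18941, 20785), (18942, 16890), (18943, 16887)]
    ⟨e3 q18880 L704257 q17703, e3 q18881 L704261 q16834, e3 q18882 L704272 q17710, e3 q18883 (flp_e L723164) q20680, e3 q18884 L704292 q16819, e3 q18885 (flp_e L723695) q20737, e3 q18886 L704312 q16821, e3 q18887 (flp_e L704318) q16822, e3 q18888 (flp_e L723731) q20740, e3 q18889 (flp_e L723252) q20688, e3 q18890 L704361 q16824, e3 q18891 (flp_e L723782) q20744, e3 q18892 (flp_e L723303) q20693, e3 q18893 (flp_e L723313) q20694, e3 q18894 L704402 q16827, e3 q18895 L723824 q20749, e3 q18896 L704425 q17948, e3 q18897 (flp_e L722598) q20625, e3 q18898 L704444 q18898, e3 q18899 (flp_e L723654) q20734, e3 q18900 (flp_e L704461) q16832, e3 q18901 L704474 q16838, e3 q18902 (flp_e L723852) q20752, e3 q18903 L704499 q16840, e3 q18904 L704518 q17711, e3 q18905 (flp_e L720561) q20451, e3 q18906 L704545 q16852, e3 q18907 (flp_e L714616) q20009, e3 q18908 L723880 q20754, e3 q18909 (flp_e L720593) q20453, e3 q18910 L723902 q20756,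 e3 q18911 (flp_e L704607) q16855, e3 q18912 (flp_e L723937) q20758, e3 q18913 L704633 q17193, e3 q18914 (flp_e L717836) q20234, e3 q18915 L704663 q17146, e3 q18916 (flp_e L717849) q20235, e3 q18917 L704687 q17098, e3 q18918 L724012 q20764, e3 q18919 (flp_e L720848) q20471, e3 q18920 (flp_e L704720) q16864, e3 q18921 (flp_e L724043) q20766, e3 q18922 L704750 q16870, e3 q18923 L704758 q16867, e3 q18924 (flp_e L724077) q20769, e3 q18925 L704784 q16869, e3 q18926 (flp_e L724089) q20770, e3 q18927 (flp_e L724067) q20768, e3 q18928 L704818 q16872, e3 q18929 L704831 q16997, e3 q18930 L704841 q16875, e3 q18931 (flp_e L721050) q20486, e3 q18932 L704861 q17002, e3 q18933 L724137 q20775, e3 q18934 L704876 q16885, e3 q18935 L724154 q20777, e3 q18936 (flp_e L704892) q16881, e3 q18937 (flp_e L724188) q20780, e3 q18938 L724201 q20782, e3 q18939 (flp_e L717081) q20181, e3 q18940 (flp_e L704935) q16884, e3 q18941 (flp_e L724244) q20785, e3 q18942 L704965 q16890, e3 q18943 L704973 q16887, trivial⟩ (by decide +kernel)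

theorem ce_e_296 : ∀ r, r < 64 → sm ge (Qf (18944 + r)) = Qf (tab Gen.e (18944 + r)) :=
  edges_tab (sm ge) Qf (tab Gen.e) 18944 [(18944, 20788), (18945, 20784), (18946, 16889), (18947, 20790), (18948, 20787), (18949, 16892), (18950, 17053), (18951, 20793), (18952, 16894), (18953, 20796), (18954, 16896), (18955, 20798), (18956, 16906), (18957, 16898), (18958, 20801), (18959, 16899), (18960, 20802), (18961, 16939), (18962, 16910), (18963, 16901), (18964, 20806), (18965, 16913), (18966, 16914), (18967, 16904), (18968, 18067), (18969, 20800), (18970, 16908), (18971, 17346), (18972, 20805), (18973, 16912), (18974, 20807), (18975, 20808), (18976, 20809), (18977, 17093), (18978, 16955), (18979, 16957), (18980, 20236), (18981, 17107), (18982, 17567), (18983, 20488), (18984, 17111), (18985, 17694), (18986, 20539), (18987, 20825), (18988, 17115), (18989, 16933), (18990, 20241), (18991, 16943), (18992, 20804), (18993, 20828), (18994, 17776), (18995, 16942), (18996, 20830), (18997, 20196), (18998, 20198), (18999, 20833), (19000, 20459),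 (19001, 20835), (19002, 16949), (19003, 20837), (19004, 16951), (19005, 20840), (19006, 16953), (19007, 20842)]
    ⟨e3 q18944 (flp_e L724278) q20788, e3 q18945 (flp_e L724236) q20784, e3 q18946 L705009 q16889, e3 q18947 (flp_e L724301) q20790, e3 q18948 (flp_e L724268) q20787, e3 q18949 L705042 q16892, e3 q18950 L705057 q17053, e3 q18951 L724331 q20793, e3 q18952 (flp_e L705075) q16894, e3 q18953 (flp_e L724373) q20796, e3 q18954 (flp_e L705090) q16896, e3 q18955 (flp_e L724398) q20798, e3 q18956 L705126 q16906, e3 q18957 L705130 q16898, e3 q18958 (flp_e L724432) q20801, e3 q18959 (flp_e L705142) q16899, e3 q18960 (flp_e L724444) q20802, e3 q18961 L705182 q16939, e3 q18962 L705202 q16910, e3 q18963 L705210 q16901, e3 q18964 (flp_e L724506) q20806, e3 q18965 L705232 q16913, e3 q18966 L705238 q16914, e3 q18967 L705244 q16904, e3 q18968 L705256 q18067, e3 q18969 (flp_e L724424) q20800, e3 q18970 L705279 q16908, e3 q18971 L705290 q17346, e3 q18972 (flp_e L724494) q20805, e3 q18973 L705322 q16912, e3 q18974 (flp_e L724520) q20807,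 e3 q18975 (flp_e L724528) q20808, e3 q18976 (flp_e L724536) q20809, e3 q18977 L705360 q17093, e3 q18978 L705372 q16955, e3 q18979 L705381 q16957, e3 q18980 (flp_e L717868) q20236, e3 q18981 L705396 q17107, e3 q18982 L705411 q17567, e3 q18983 (flp_e L721082) q20488, e3 q18984 L705433 q17111, e3 q18985 L705443 q17694, e3 q18986 (flp_e L721629) q20539, e3 q18987 L724694 q20825, e3 q18988 L705465 q17115, e3 q18989 L705482 q16933, e3 q18990 (flp_e L717939) q20241, e3 q18991 L705503 q16943, e3 q18992 (flp_e L724476) q20804, e3 q18993 L724725 q20828, e3 q18994 L705546 q17776, e3 q18995 (flp_e L705556) q16942, e3 q18996 (flp_e L724757) q20830, e3 q18997 (flp_e L717294) q20196, e3 q18998 (flp_e L717320) q20198, e3 q18999 L724786 q20833, e3 q19000 (flp_e L720678) q20459, e3 q19001 L724807 q20835, e3 q19002 (flp_e L705627) q16949, e3 q19003 (flp_e L724832) q20837, e3 q19004 (flp_e L705643) q16951, e3 q19005 (flp_e L724857) q20840, e3 q19006 L705662 q16953, e3 q19007 (flp_e L724873) q20842, trivial⟩ (by decide +kernel)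

theorem ce_e_297 : ∀ r, r < 64 → sm ge (Qf (19008 + r)) = Qf (tab Gen.e (19008 + r)) :=
  edges_tab (sm ge) Qf (tab Gen.e) 19008 [(19008, 20184), (19009, 20818), (19010, 20185), (19011, 20286), (19012, 20845), (19013, 16964), (19014, 20847), (19015, 16960), (19016, 20850), (19017, 20852), (19018, 17777), (19019, 16963), (19020, 20855), (19021, 16969), (19022, 16966), (19023, 20858), (19024, 20854), (19025, 16968), (19026, 20861), (19027, 20857), (19028, 16971), (19029, 17774), (19030, 20865), (19031, 16973), (19032, 20868), (19033, 16975), (19034, 20872), (19035, 16986), (19036, 16977), (19037, 20876), (19038, 16978), (19039, 20878), (19040, 17013), (19041, 16990), (19042, 16980), (19043, 20884), (19044, 16993), (19045, 16983), (19046, 20871), (19047, 16985), (19048, 20889), (19049, 20874), (19050, 20875), (19051, 16988), (19052, 20215), (19053, 20883), (19054, 16992), (19055, 20885), (19056, 20772), (19057, 17869), (19058, 20157), (19059, 20622), (19060, 20623), (19061, 20773), (19062, 20902), (19063, 20176), (19064, 17004),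 (19065, 20903), (19066, 17006), (19067, 20870), (19068, 17008), (19069, 17010), (19070, 20906), (19071, 20877)]
    ⟨e3 q19008 (flp_e L717131) q20184, e3 q19009 (flp_e L724627) q20818, e3 q19010 (flp_e L717144) q20185, e3 q19011 (flp_e L718482) q20286, e3 q19012 L724893 q20845, e3 q19013 L705724 q16964, e3 q19014 L724922 q20847, e3 q19015 (flp_e L705746) q16960, e3 q19016 (flp_e L724964) q20850, e3 q19017 L724977 q20852, e3 q19018 L705786 q17777, e3 q19019 (flp_e L705795) q16963, e3 q19020 (flp_e L725026) q20855, e3 q19021 L705825 q16969, e3 q19022 L705833 q16966, e3 q19023 (flp_e L725060) q20858, e3 q19024 (flp_e L725018) q20854, e3 q19025 L705869 q16968, e3 q19026 (flp_e L725093) q20861, e3 q19027 (flp_e L725050) q20857, e3 q19028 L705902 q16971, e3 q19029 L705915 q17774, e3 q19030 L725133 q20865, e3 q19031 (flp_e L705933) q16973, e3 q19032 (flp_e L725173) q20868, e3 q19033 (flp_e L705952) q16975, e3 q19034 (flp_e L725222) q20872, e3 q19035 L705984 q16986, e3 q19036 L705990 q16977, e3 q19037 (flp_e L725262) q20876, e3 q19038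 (flp_e L706002) q16978, e3 q19039 (flp_e L725282) q20878, e3 q19040 L706030 q17013, e3 q19041 L706040 q16990, e3 q19042 L706048 q16980, e3 q19043 (flp_e L725349) q20884, e3 q19044 L706070 q16993, e3 q19045 L706078 q16983, e3 q19046 (flp_e L725212) q20871, e3 q19047 L706104 q16985, e3 q19048 (flp_e L725402) q20889, e3 q19049 (flp_e L725246) q20874, e3 q19050 (flp_e L725252) q20875, e3 q19051 L706145 q16988, e3 q19052 (flp_e L717564) q20215, e3 q19053 (flp_e L725339) q20883, e3 q19054 L706177 q16992, e3 q19055 (flp_e L725359) q20885, e3 q19056 (flp_e L724114) q20772, e3 q19057 L706204 q17869, e3 q19058 L716763 q20157, e3 q19059 (flp_e L722565) q20622, e3 q19060 (flp_e L722580) q20623, e3 q19061 (flp_e L724128) q20773, e3 q19062 L725521 q20902, e3 q19063 L717008 q20176, e3 q19064 (flp_e L706255) q17004, e3 q19065 (flp_e L725534) q20903, e3 q19066 L706291 q17006, e3 q19067 (flp_e L725196) q20870, e3 q19068 L706320 q17008, e3 q19069 (flp_e L706327) q17010, e3 q19070 (flp_e L725575) q20906, e3 q19071 (flp_e L725274) q20877, trivial⟩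 (by decide +kernel)

theorem ce_e_298 : ∀ r, r < 64 → sm ge (Qf (19072 + r)) = Qf (tab Gen.e (19072 + r)) :=
  edges_tab (sm ge) Qf (tab Gen.e) 19072 [(19072, 17012), (19073, 20881), (19074, 20882), (19075, 20911), (19076, 17023), (19077, 20914), (19078, 17017), (19079, 20917), (19080, 20920), (19081, 17019), (19082, 20924), (19083, 19083), (19084, 17021), (19085, 20928), (19086, 20929), (19087, 17022), (19088, 20932), (19089, 20934), (19090, 17024), (19091, 20937), (19092, 17036), (19093, 17026), (19094, 20941), (19095, 17027), (19096, 20943), (19097, 17178), (19098, 17040), (19099, 17029), (19100, 20950), (19101, 17043), (19102, 17044), (19103, 17032), (19104, 20315), (19105, 20936), (19106, 17035), (19107, 20958), (19108, 20939), (19109, 20940), (19110, 17038), (19111, 20322), (19112, 20948), (19113, 20949), (19114, 17042), (19115, 20951), (19116, 20952), (19117, 20953), (19118, 20792), (19119, 17866), (19120, 17867), (19121, 17868), (19122, 17313), (19123, 17870), (19124, 17871), (19125, 20219), (19126, 17478), (19127,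 20977), (19128, 17054), (19129, 20981), (19130, 19130), (19131, 17056), (19132, 20985), (19133, 20986), (19134, 17057), (19135, 20990)]
    ⟨e3 q19072 L706372 q17012, e3 q19073 (flp_e L725315) q20881, e3 q19074 (flp_e L725329) q20882, e3 q19075 L725629 q20911, e3 q19076 L706425 q17023, e3 q19077 L725668 q20914, e3 q19078 (flp_e L706442) q17017, e3 q19079 (flp_e L725700) q20917, e3 q19080 L725720 q20920, e3 q19081 (flp_e L706462) q17019, e3 q19082 (flp_e L725756) q20924, e3 q19083 L706481 q19083, e3 q19084 L706486 q17021, e3 q19085 (flp_e L725787) q20928, e3 q19086 L725791 q20929, e3 q19087 (flp_e L706508) q17022, e3 q19088 (flp_e L725827) q20932, e3 q19089 L725842 q20934, e3 q19090 (flp_e L706537) q17024, e3 q19091 (flp_e L725888) q20937, e3 q19092 L706567 q17036, e3 q19093 L706571 q17026, e3 q19094 (flp_e L725922) q20941, e3 q19095 (flp_e L706583) q17027, e3 q19096 (flp_e L725944) q20943, e3 q19097 L706609 q17178, e3 q19098 L706619 q17040, e3 q19099 L706627 q17029, e3 q19100 (flp_e L726024) q20950, e3 q19101 L706647 q17043,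 e3 q19102 L706655 q17044, e3 q19103 L706661 q17032, e3 q19104 (flp_e L718823) q20315, e3 q19105 (flp_e L725878) q20936, e3 q19106 L706698 q17035, e3 q19107 (flp_e L726106) q20958, e3 q19108 (flp_e L725908) q20939, e3 q19109 (flp_e L725914) q20940, e3 q19110 L706731 q17038, e3 q19111 (flp_e L718907) q20322, e3 q19112 (flp_e L726002) q20948, e3 q19113 (flp_e L726014) q20949, e3 q19114 L706778 q17042, e3 q19115 (flp_e L726032) q20951, e3 q19116 (flp_e L726040) q20952, e3 q19117 (flp_e L726048) q20953, e3 q19118 (flp_e L724328) q20792, e3 q19119 L706821 q17866, e3 q19120 L706836 q17867, e3 q19121 L706848 q17868, e3 q19122 L706862 q17313, e3 q19123 L706871 q17870, e3 q19124 L706878 q17871, e3 q19125 (flp_e L717632) q20219, e3 q19126 L706894 q17478, e3 q19127 L726307 q20977, e3 q19128 (flp_e L706913) q17054, e3 q19129 (flp_e L726355) q20981, e3 q19130 L706936 q19130, e3 q19131 L706939 q17056, e3 q19132 (flp_e L726384) q20985, e3 q19133 L726390 q20986, e3 q19134 (flp_e L706966) q17057, e3 q19135 (flp_e L726448) q20990, trivial⟩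 (by decide +kernel)

theorem ce_e_299 : ∀ r, r < 64 → sm ge (Qf (19136 + r)) = Qf (tab Gen.e (19136 + r)) :=
  edges_tab (sm ge) Qf (tab Gen.e) 19136 [(19136, 17128), (19137, 17076), (19138, 17059), (19139, 20997), (19140, 17079), (19141, 17080), (19142, 17062), (19143, 17063), (19144, 21003), (19145, 17134), (19146, 17083), (19147, 17065), (19148, 21009), (19149, 19149), (19150, 17137), (19151, 17138), (19152, 17086), (19153, 17087), (19154, 17069), (19155, 21020), (19156, 17090), (19157, 17091), (19158, 17092), (19159, 20810), (19160, 20269), (19161, 20989), (19162, 17075), (19163, 21027), (19164, 20995), (19165, 20996), (19166, 17078), (19167, 21033), (19168, 20999), (19169, 21000), (19170, 21001), (19171, 20812), (19172, 20274), (19173, 21007), (19174, 21008), (19175, 17085), (19176, 20762), (19177, 21016), (19178, 21017), (19179, 21018), (19180, 21046), (19181, 17089), (19182, 21021), (19183, 21022), (19184, 21051), (19185, 20817), (19186, 17929), (19187, 17930), (19188, 17931), (19189, 20763), (19190, 17933), (19191,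 17934), (19192, 21057), (19193, 17426), (19194, 17102), (19195, 17937), (19196, 20233), (19197, 17474), (19198, 20338), (19199, 20626)]
    ⟨e3 q19136 L706986 q17128, e3 q19137 L706994 q17076, e3 q19138 L707000 q17059, e3 q19139 (flp_e L726509) q20997, e3 q19140 L707014 q17079, e3 q19141 L707018 q17080, e3 q19142 L707026 q17062, e3 q19143 (flp_e L707030) q17063, e3 q19144 (flp_e L726555) q21003, e3 q19145 L707052 q17134, e3 q19146 L707058 q17083, e3 q19147 L707064 q17065, e3 q19148 (flp_e L726610) q21009, e3 q19149 L707080 q19149, e3 q19150 L707083 q17137, e3 q19151 L707091 q17138, e3 q19152 L707099 q17086, e3 q19153 L707107 q17087, e3 q19154 L707115 q17069, e3 q19155 L726687 q21020, e3 q19156 L707135 q17090, e3 q19157 L707141 q17091, e3 q19158 L707149 q17092, e3 q19159 (flp_e L724544) q20810, e3 q19160 (flp_e L718251) q20269, e3 q19161 (flp_e L726442) q20989, e3 q19162 L707184 q17075, e3 q19163 (flp_e L726751) q21027, e3 q19164 (flp_e L726493) q20995, e3 q19165 (flp_e L726499) q20996, e3 q19166 L707215 q17078, e3 q19167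 L726801 q21033, e3 q19168 (flp_e L726529) q20999, e3 q19169 (flp_e L726535) q21000, e3 q19170 (flp_e L726541) q21001, e3 q19171 (flp_e L724561) q20812, e3 q19172 (flp_e L718319) q20274, e3 q19173 (flp_e L726592) q21007, e3 q19174 (flp_e L726602) q21008, e3 q19175 L707290 q17085, e3 q19176 (flp_e L723990) q20762, e3 q19177 (flp_e L726661) q21016, e3 q19178 (flp_e L726669) q21017, e3 q19179 (flp_e L726679) q21018, e3 q19180 L726919 q21046, e3 q19181 (flp_e L707331) q17089, e3 q19182 (flp_e L726701) q21021, e3 q19183 (flp_e L726709) q21022, e3 q19184 L726962 q21051, e3 q19185 (flp_e L724609) q20817, e3 q19186 L707378 q17929, e3 q19187 L707392 q17930, e3 q19188 L707404 q17931, e3 q19189 (flp_e L724009) q20763, e3 q19190 L707422 q17933, e3 q19191 L707431 q17934, e3 q19192 L727014 q21057, e3 q19193 (flp_e L707449) q17426, e3 q19194 (flp_e L707451) q17102, e3 q19195 L707465 q17937, e3 q19196 (flp_e L717822) q20233, e3 q19197 L707478 q17474, e3 q19198 (flp_e L719121) q20338, e3 q19199 (flp_e L722615) q20626, trivial⟩ (by decide +kernel)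

theorem ce_e_300 : ∀ r, r < 64 → sm ge (Qf (19200 + r)) = Qf (tab Gen.e (19200 + r)) :=
  edges_tab (sm ge) Qf (tab Gen.e) 19200 [(19200, 20629), (19201, 21064), (19202, 18077), (19203, 18002), (19204, 21068), (19205, 21070), (19206, 17114), (19207, 20372), (19208, 17998), (19209, 17502), (19210, 18063), (19211, 17130), (19212, 20979), (19213, 17122), (19214, 17127), (19215, 17962), (19216, 20988), (19217, 20993), (19218, 20994), (19219, 21077), (19220, 17133), (19221, 17816), (19222, 21006), (19223, 21079), (19224, 21014), (19225, 21015), (19226, 21083), (19227, 17140), (19228, 17947), (19229, 19229), (19230, 20760), (19231, 17144), (19232, 21084), (19233, 17158), (19234, 17568), (19235, 17485), (19236, 17504), (19237, 17963), (19238, 17382), (19239, 17490), (19240, 17506), (19241, 17377), (19242, 17168), (19243, 21089), (19244, 20922), (19245, 17170), (19246, 21092), (19247, 17172), (19248, 17819), (19249, 17817), (19250, 20942), (19251, 17177), (19252, 20946), (19253, 20947), (19254, 17187), (19255, 17966), (19256, 17184),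 (19257, 17186), (19258, 17949), (19259, 21099), (19260, 21100), (19261, 17189), (19262, 17195), (19263, 17524)]
    ⟨e3 q19200 (flp_e L722658) q20629, e3 q19201 L727079 q21064, e3 q19202 L707518 q18077, e3 q19203 L707528 q18002, e3 q19204 L727110 q21068, e3 q19205 L727123 q21070, e3 q19206 (flp_e L707548) q17114, e3 q19207 (flp_e L719512) q20372, e3 q19208 L707563 q17998, e3 q19209 L707567 q17502, e3 q19210 L707580 q18063, e3 q19211 L707596 q17130, e3 q19212 (flp_e L726340) q20979, e3 q19213 L707623 q17122, e3 q19214 L707641 q17127, e3 q19215 L707658 q17962, e3 q19216 (flp_e L726430) q20988, e3 q19217 (flp_e L726473) q20993, e3 q19218 (flp_e L726485) q20994, e3 q19219 L727196 q21077, e3 q19220 L707719 q17133, e3 q19221 L707736 q17816, e3 q19222 (flp_e L726580) q21006, e3 q19223 L727215 q21079, e3 q19224 (flp_e L726647) q21014, e3 q19225 (flp_e L726653) q21015, e3 q19226 L727256 q21083, e3 q19227 (flp_e L707786) q17140, e3 q19228 L707800 q17947, e3 q19229 L707817 q19229, e3 q19230 (flp_e L723964) q20760, e3 q19231 (flp_e L707832)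 q17144, e3 q19232 (flp_e L727276) q21084, e3 q19233 L707860 q17158, e3 q19234 L707875 q17568, e3 q19235 L707891 q17485, e3 q19236 L707904 q17504, e3 q19237 L707921 q17963, e3 q19238 L707932 q17382, e3 q19239 L707949 q17490, e3 q19240 L707959 q17506, e3 q19241 (flp_e L707976) q17377, e3 q19242 (flp_e L707978) q17168, e3 q19243 (flp_e L727341) q21089, e3 q19244 (flp_e L725745) q20922, e3 q19245 L708018 q17170, e3 q19246 (flp_e L727378) q21092, e3 q19247 L708039 q17172, e3 q19248 L708057 q17819, e3 q19249 L708072 q17817, e3 q19250 (flp_e L725938) q20942, e3 q19251 L708101 q17177, e3 q19252 (flp_e L725974) q20946, e3 q19253 (flp_e L725988) q20947, e3 q19254 L708140 q17187, e3 q19255 L708157 q17966, e3 q19256 (flp_e L708164) q17184, e3 q19257 (flp_e L708174) q17186, e3 q19258 L708191 q17949, e3 q19259 L727454 q21099, e3 q19260 L727466 q21100, e3 q19261 (flp_e L708220) q17189, e3 q19262 L708238 q17195, e3 q19263 L708246 q17524, trivial⟩ (by decide +kernel)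

theorem ce_e_301 : ∀ r, r < 64 → sm ge (Qf (19264 + r)) = Qf (tab Gen.e (19264 + r)) :=
  edges_tab (sm ge) Qf (tab Gen.e) 19264 [(19264, 17513), (19265, 17200), (19266, 20434), (19267, 17531), (19268, 17206), (19269, 21102), (19270, 17525), (19271, 17209), (19272, 20022), (19273, 17212), (19274, 21105), (19275, 17612), (19276, 17614), (19277, 17218), (19278, 21107), (19279, 20483), (19280, 17222), (19281, 21108), (19282, 17564), (19283, 17228), (19284, 17227), (19285, 21111), (19286, 21110), (19287, 17230), (19288, 17236), (19289, 21113), (19290, 20080), (19291, 20081), (19292, 17241), (19293, 21115), (19294, 17243), (19295, 21117), (19296, 17245), (19297, 21119), (19298, 17246), (19299, 21121), (19300, 17276), (19301, 17257), (19302, 17248), (19303, 21127), (19304, 17260), (19305, 17261), (19306, 17251), (19307, 17641), (19308, 17642), (19309, 21120), (19310, 17256), (19311, 21133), (19312, 21125), (19313, 21126), (19314, 17259), (19315, 20674), (19316, 21128), (19317, 21129), (19318, 17264), (19319, 20094), (19320, 20095),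 (19321, 20675), (19322, 20096), (19323, 20097), (19324, 21124), (19325, 17331), (19326, 18004), (19327, 21143)]
    ⟨e3 q19264 L708262 q17513, e3 q19265 L708278 q17200, e3 q19266 (flp_e L720382) q20434, e3 q19267 L708304 q17531, e3 q19268 L708319 q17206, e3 q19269 (flp_e L727493) q21102, e3 q19270 L708344 q17525, e3 q19271 L708354 q17209, e3 q19272 (flp_e L714846) q20022, e3 q19273 (flp_e L708372) q17212, e3 q19274 (flp_e L727532) q21105, e3 q19275 L708404 q17612, e3 q19276 L708420 q17614, e3 q19277 L708436 q17218, e3 q19278 (flp_e L727558) q21107, e3 q19279 (flp_e L721008) q20483, e3 q19280 (flp_e L708462) q17222, e3 q19281 (flp_e L727570) q21108, e3 q19282 L708494 q17564, e3 q19283 L708516 q17228, e3 q19284 L708524 q17227, e3 q19285 (flp_e L727608) q21111, e3 q19286 (flp_e L727598) q21110, e3 q19287 L708552 q17230, e3 q19288 L708568 q17236, e3 q19289 (flp_e L727628) q21113, e3 q19290 (flp_e L715734) q20080, e3 q19291 (flp_e L715746) q20081, e3 q19292 (flp_e L708606) q17241, e3 q19293 (flp_e L727654) q21115, e3 q19294 (flp_e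 L708626) q17243, e3 q19295 (flp_e L727674) q21117, e3 q19296 L708652 q17245, e3 q19297 (flp_e L727694) q21119, e3 q19298 (flp_e L708668) q17246, e3 q19299 (flp_e L727724) q21121, e3 q19300 L708700 q17276, e3 q19301 L708710 q17257, e3 q19302 L708716 q17248, e3 q19303 (flp_e L727797) q21127, e3 q19304 L708730 q17260, e3 q19305 L708740 q17261, e3 q19306 L708750 q17251, e3 q19307 L708760 q17641, e3 q19308 L708770 q17642, e3 q19309 (flp_e L727714) q21120, e3 q19310 L708796 q17256, e3 q19311 (flp_e L727858) q21133, e3 q19312 (flp_e L727777) q21125, e3 q19313 (flp_e L727787) q21126, e3 q19314 L708832 q17259, e3 q19315 (flp_e L723114) q20674, e3 q19316 (flp_e L727805) q21128, e3 q19317 (flp_e L727813) q21129, e3 q19318 L708874 q17264, e3 q19319 (flp_e L715931) q20094, e3 q19320 (flp_e L715945) q20095, e3 q19321 (flp_e L723126) q20675, e3 q19322 (flp_e L715963) q20096, e3 q19323 (flp_e L715973) q20097, e3 q19324 (flp_e L727765) q21124, e3 q19325 L708928 q17331, e3 q19326 L708942 q18004, e3 q19327 L727947 q21143, trivial⟩ (by decide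 +kernel)

theorem ce_e_302 : ∀ r, r < 64 → sm ge (Qf (19328 + r)) = Qf (tab Gen.e (19328 + r)) :=
  edges_tab (sm ge) Qf (tab Gen.e) 19328 [(19328, 17290), (19329, 21145), (19330, 17292), (19331, 21147), (19332, 17295), (19333, 21149), (19334, 17794), (19335, 17299), (19336, 21150), (19337, 21151), (19338, 17300), (19339, 21153), (19340, 17302), (19341, 21155), (19342, 17304), (19343, 17810), (19344, 17811), (19345, 17812), (19346, 17813), (19347, 17814), (19348, 20966), (19349, 17815), (19350, 20334), (19351, 20353), (19352, 20354), (19353, 21165), (19354, 18017), (19355, 18018), (19356, 21168), (19357, 18020), (19358, 20352), (19359, 17322), (19360, 20373), (19361, 17713), (19362, 20006), (19363, 17334), (19364, 21170), (19365, 17337), (19366, 21172), (19367, 17728), (19368, 17340), (19369, 21174), (19370, 17342), (19371, 21176), (19372, 18068), (19373, 18069), (19374, 20151), (19375, 20897), (19376, 21180), (19377, 17348), (19378, 21183), (19379, 21185), (19380, 17350), (19381, 21189), (19382, 17362), (19383, 17352), (19384,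 21192), (19385, 17353), (19386, 21194), (19387, 17385), (19388, 17366), (19389, 17355), (19390, 21199), (19391, 17369)]
    ⟨e3 q19328 (flp_e L708956) q17290, e3 q19329 (flp_e L727978) q21145, e3 q19330 (flp_e L708982) q17292, e3 q19331 (flp_e L728006) q21147, e3 q19332 L709014 q17295, e3 q19333 (flp_e L728032) q21149, e3 q19334 L709036 q17794, e3 q19335 L709051 q17299, e3 q19336 (flp_e L728044) q21150, e3 q19337 L728050 q21151, e3 q19338 (flp_e L709083) q17300, e3 q19339 (flp_e L728084) q21153, e3 q19340 L709107 q17302, e3 q19341 (flp_e L728102) q21155, e3 q19342 L709125 q17304, e3 q19343 L709135 q17810, e3 q19344 L709152 q17811, e3 q19345 L709163 q17812, e3 q19346 L709178 q17813, e3 q19347 L709188 q17814, e3 q19348 (flp_e L726195) q20966, e3 q19349 L709210 q17815, e3 q19350 (flp_e L719056) q20334, e3 q19351 (flp_e L719281) q20353, e3 q19352 (flp_e L719295) q20354, e3 q19353 L728205 q21165, e3 q19354 L709262 q18017, e3 q19355 L709273 q18018, e3 q19356 L728236 q21168, e3 q19357 L709297 q18020, e3 q19358 (flp_e L719264) q20352,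 e3 q19359 (flp_e L709309) q17322, e3 q19360 (flp_e L719522) q20373, e3 q19361 (flp_e L709341) q17713, e3 q19362 (flp_e L714568) q20006, e3 q19363 (flp_e L709354) q17334, e3 q19364 (flp_e L728265) q21170, e3 q19365 L709386 q17337, e3 q19366 (flp_e L728291) q21172, e3 q19367 L709406 q17728, e3 q19368 (flp_e L709415) q17340, e3 q19369 (flp_e L728306) q21174, e3 q19370 L709436 q17342, e3 q19371 (flp_e L728322) q21176, e3 q19372 L709455 q18068, e3 q19373 L709466 q18069, e3 q19374 (flp_e L716681) q20151, e3 q19375 (flp_e L725476) q20897, e3 q19376 L728361 q21180, e3 q19377 (flp_e L709506) q17348, e3 q19378 (flp_e L728395) q21183, e3 q19379 L728408 q21185, e3 q19380 (flp_e L709529) q17350, e3 q19381 (flp_e L728454) q21189, e3 q19382 L709561 q17362, e3 q19383 L709567 q17352, e3 q19384 (flp_e L728486) q21192, e3 q19385 (flp_e L709581) q17353, e3 q19386 (flp_e L728502) q21194, e3 q19387 L709605 q17385, e3 q19388 L709613 q17366, e3 q19389 L709621 q17355, e3 q19390 (flp_e L728553) q21199, e3 q19391 L709637 q17369, trivial⟩ (by decide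 +kernel)

theorem ce_e_303 : ∀ r, r < 64 → sm ge (Qf (19392 + r)) = Qf (tab Gen.e (19392 + r)) :=
  edges_tab (sm ge) Qf (tab Gen.e) 19392 [(19392, 17358), (19393, 20121), (19394, 21188), (19395, 17361), (19396, 21205), (19397, 21191), (19398, 17364), (19399, 20125), (19400, 21198), (19401, 17368), (19402, 21211), (19403, 21201), (19404, 21212), (19405, 20864), (19406, 17373), (19407, 17955), (19408, 18054), (19409, 18043), (19410, 21088), (19411, 21187), (19412, 17379), (19413, 21217), (19414, 17381), (19415, 21086), (19416, 21193), (19417, 17384), (19418, 21221), (19419, 21197), (19420, 17387), (19421, 21225), (19422, 19422), (19423, 19423), (19424, 21228), (19425, 19425), (19426, 21229), (19427, 17394), (19428, 17396), (19429, 21232), (19430, 17398), (19431, 21235), (19432, 17400), (19433, 21237), (19434, 21238), (19435, 17401), (19436, 21240), (19437, 21242), (19438, 17403), (19439, 21245), (19440, 17405), (19441, 21247), (19442, 17406), (19443, 21250), (19444, 19444), (19445, 17417), (19446, 17408), (19447, 21256), (19448,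 17420), (19449, 17421), (19450, 17411), (19451, 18070), (19452, 18071), (19453, 21249), (19454, 17416), (19455, 21264)]
    ⟨e3 q19392 L709645 q17358, e3 q19393 (flp_e L716294) q20121, e3 q19394 (flp_e L728446) q21188, e3 q19395 L709674 q17361, e3 q19396 (flp_e L728605) q21205, e3 q19397 (flp_e L728476) q21191, e3 q19398 L709706 q17364, e3 q19399 (flp_e L716347) q20125, e3 q19400 (flp_e L728543) q21198, e3 q19401 L709736 q17368, e3 q19402 L728662 q21211, e3 q19403 (flp_e L728571) q21201, e3 q19404 L728672 q21212, e3 q19405 (flp_e L725125) q20864, e3 q19406 (flp_e L709777) q17373, e3 q19407 L709788 q17955, e3 q19408 L709805 q18054, e3 q19409 L709817 q18043, e3 q19410 (flp_e L727327) q21088, e3 q19411 (flp_e L728434) q21187, e3 q19412 L709853 q17379, e3 q19413 (flp_e L728740) q21217, e3 q19414 L709876 q17381, e3 q19415 (flp_e L727301) q21086, e3 q19416 (flp_e L728496) q21193, e3 q19417 L709909 q17384, e3 q19418 (flp_e L728785) q21221, e3 q19419 (flp_e L728533) q21197, e3 q19420 L709941 q17387, e3 q19421 L728817 q21225, e3 q19422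 L709963 q19422, e3 q19423 L709972 q19423, e3 q19424 L728844 q21228, e3 q19425 L709994 q19425, e3 q19426 L728855 q21229, e3 q19427 (flp_e L710005) q17394, e3 q19428 (flp_e L710015) q17396, e3 q19429 L728886 q21232, e3 q19430 (flp_e L710037) q17398, e3 q19431 (flp_e L728922) q21235, e3 q19432 L710062 q17400, e3 q19433 (flp_e L728942) q21237, e3 q19434 L728950 q21238, e3 q19435 (flp_e L710086) q17401, e3 q19436 (flp_e L728972) q21240, e3 q19437 L728985 q21242, e3 q19438 (flp_e L710116) q17403, e3 q19439 (flp_e L729021) q21245, e3 q19440 L710141 q17405, e3 q19441 (flp_e L729041) q21247, e3 q19442 (flp_e L710157) q17406, e3 q19443 (flp_e L729076) q21250, e3 q19444 L710176 q19444, e3 q19445 L710185 q17417, e3 q19446 L710191 q17408, e3 q19447 (flp_e L729122) q21256, e3 q19448 L710209 q17420, e3 q19449 L710219 q17421, e3 q19450 L710229 q17411, e3 q19451 L710240 q18070, e3 q19452 L710249 q18071, e3 q19453 (flp_e L729066) q21249, e3 q19454 L710282 q17416, e3 q19455 (flp_e L729208) q21264, trivial⟩ (by decide +kernel)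

theorem ce_e_304 : ∀ r, r < 64 → sm ge (Qf (19456 + r)) = Qf (tab Gen.e (19456 + r)) :=
  edges_tab (sm ge) Qf (tab Gen.e) 19456 [(19456, 21255), (19457, 17419), (19458, 21045), (19459, 21258), (19460, 21259), (19461, 17424), (19462, 20975), (19463, 20284), (19464, 20285), (19465, 17430), (19466, 21270), (19467, 19467), (19468, 17432), (19469, 21273), (19470, 17433), (19471, 21275), (19472, 17486), (19473, 17452), (19474, 17435), (19475, 21281), (19476, 17455), (19477, 17438), (19478, 17439), (19479, 21286), (19480, 17491), (19481, 17459), (19482, 17441), (19483, 21293), (19484, 19484), (19485, 17494), (19486, 17495), (19487, 17462), (19488, 17463), (19489, 17445), (19490, 21304), (19491, 17466), (19492, 17467), (19493, 17468), (19494, 21157), (19495, 17449), (19496, 21310), (19497, 21274), (19498, 17451), (19499, 21313), (19500, 21280), (19501, 17454), (19502, 21317), (19503, 21283), (19504, 21285), (19505, 17458), (19506, 21319), (19507, 21291), (19508, 21292), (19509, 17461), (19510, 21059), (19511, 21300), (19512, 21301),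 (19513, 21302), (19514, 20970), (19515, 17465), (19516, 21305), (19517, 21306), (19518, 17470), (19519, 17848)]
    ⟨e3 q19456 (flp_e L729112) q21255, e3 q19457 L710312 q17419, e3 q19458 L726917 q21045, e3 q19459 (flp_e L729141) q21258, e3 q19460 (flp_e L729149) q21259, e3 q19461 L710357 q17424, e3 q19462 (flp_e L726281) q20975, e3 q19463 (flp_e L718450) q20284, e3 q19464 (flp_e L718463) q20285, e3 q19465 (flp_e L710393) q17430, e3 q19466 (flp_e L729267) q21270, e3 q19467 L710412 q19467, e3 q19468 L710417 q17432, e3 q19469 (flp_e L729289) q21273, e3 q19470 (flp_e L710428) q17433, e3 q19471 (flp_e L729311) q21275, e3 q19472 L710452 q17486, e3 q19473 L710462 q17452, e3 q19474 L710468 q17435, e3 q19475 (flp_e L729362) q21281, e3 q19476 L710486 q17455, e3 q19477 L710496 q17438, e3 q19478 (flp_e L710500) q17439, e3 q19479 (flp_e L729412) q21286, e3 q19480 L710520 q17491, e3 q19481 L710528 q17459, e3 q19482 L710536 q17441, e3 q19483 (flp_e L729473) q21293, e3 q19484 L710550 q19484, e3 q19485 L710553 q17494, e3 q19486 L710559 q17495,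 e3 q19487 L710565 q17462, e3 q19488 L710571 q17463, e3 q19489 L710579 q17445, e3 q19490 L729538 q21304, e3 q19491 L710591 q17466, e3 q19492 L710597 q17467, e3 q19493 L710605 q17468, e3 q19494 (flp_e L728124) q21157, e3 q19495 (flp_e L710613) q17449, e3 q19496 (flp_e L729588) q21310, e3 q19497 (flp_e L729303) q21274, e3 q19498 L710656 q17451, e3 q19499 (flp_e L729619) q21313, e3 q19500 (flp_e L729352) q21280, e3 q19501 L710683 q17454, e3 q19502 L729655 q21317, e3 q19503 (flp_e L729378) q21283, e3 q19504 (flp_e L729402) q21285, e3 q19505 L710729 q17458, e3 q19506 (flp_e L729683) q21319, e3 q19507 (flp_e L729451) q21291, e3 q19508 (flp_e L729463) q21292, e3 q19509 L710769 q17461, e3 q19510 (flp_e L727033) q21059, e3 q19511 (flp_e L729518) q21300, e3 q19512 (flp_e L729524) q21301, e3 q19513 (flp_e L729532) q21302, e3 q19514 (flp_e L726225) q20970, e3 q19515 (flp_e L710808) q17465, e3 q19516 (flp_e L729546) q21305, e3 q19517 (flp_e L729554) q21306, e3 q19518 L710840 q17470, e3 q19519 L710856 q17848, trivial⟩ (by decide +kernel)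

theorem ce_e_305 : ∀ r, r < 64 → sm ge (Qf (19520 + r)) = Qf (tab Gen.e (19520 + r)) :=
  edges_tab (sm ge) Qf (tab Gen.e) 19520 [(19520, 17854), (19521, 17864), (19522, 20976), (19523, 20336), (19524, 20337), (19525, 20282), (19526, 20339), (19527, 20167), (19528, 21085), (19529, 21278), (19530, 21279), (19531, 17488), (19532, 21338), (19533, 21087), (19534, 21289), (19535, 21290), (19536, 17493), (19537, 21342), (19538, 21298), (19539, 21299), (19540, 21345), (19541, 17497), (19542, 19542), (19543, 21072), (19544, 17500), (19545, 21346), (19546, 17518), (19547, 17517), (19548, 20431), (19549, 19549), (19550, 21350), (19551, 20440), (19552, 17520), (19553, 21353), (19554, 17522), (19555, 20019), (19556, 21103), (19557, 21356), (19558, 17529), (19559, 20393), (19560, 21358), (19561, 20377), (19562, 17534), (19563, 20018), (19564, 20447), (19565, 20404), (19566, 17539), (19567, 21363), (19568, 20443), (19569, 20446), (19570, 17542), (19571, 20399), (19572, 20024), (19573, 20401), (19574, 17550), (19575, 20450), (19576, 17553),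 (19577, 21365), (19578, 17589), (19579, 17557), (19580, 21367), (19581, 17559), (19582, 21369), (19583, 17561)]
    ⟨e3 q19520 L710870 q17854, e3 q19521 L710882 q17864, e3 q19522 (flp_e L726297) q20976, e3 q19523 (flp_e L719087) q20336, e3 q19524 (flp_e L719100) q20337, e3 q19525 (flp_e L718424) q20282, e3 q19526 (flp_e L719127) q20339, e3 q19527 (flp_e L716881) q20167, e3 q19528 (flp_e L727286) q21085, e3 q19529 (flp_e L729336) q21278, e3 q19530 (flp_e L729344) q21279, e3 q19531 L710958 q17488, e3 q19532 L729839 q21338, e3 q19533 (flp_e L727314) q21087, e3 q19534 (flp_e L729433) q21289, e3 q19535 (flp_e L729441) q21290, e3 q19536 L710999 q17493, e3 q19537 L729861 q21342, e3 q19538 (flp_e L729508) q21298, e3 q19539 (flp_e L729512) q21299, e3 q19540 L729876 q21345, e3 q19541 (flp_e L711021) q17497, e3 q19542 L711030 q19542, e3 q19543 (flp_e L727142) q21072, e3 q19544 (flp_e L711045) q17500, e3 q19545 (flp_e L729884) q21346, e3 q19546 L711062 q17518, e3 q19547 L711078 q17517, e3 q19548 (flp_e L720347) q20431, e3 q19549 L711103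 q19549, e3 q19550 L729913 q21350, e3 q19551 (flp_e L720441) q20440, e3 q19552 L711130 q17520, e3 q19553 L729937 q21353, e3 q19554 (flp_e L711142) q17522, e3 q19555 (flp_e L714790) q20019, e3 q19556 (flp_e L727507) q21103, e3 q19557 L729962 q21356, e3 q19558 (flp_e L711174) q17529, e3 q19559 (flp_e L719832) q20393, e3 q19560 L729979 q21358, e3 q19561 (flp_e L719588) q20377, e3 q19562 L711206 q17534, e3 q19563 (flp_e L714770) q20018, e3 q19564 (flp_e L720520) q20447, e3 q19565 (flp_e L719996) q20404, e3 q19566 L711230 q17539, e3 q19567 L730015 q21363, e3 q19568 (flp_e L720485) q20443, e3 q19569 (flp_e L720504) q20446, e3 q19570 (flp_e L711258) q17542, e3 q19571 (flp_e L719923) q20399, e3 q19572 (flp_e L714881) q20024, e3 q19573 (flp_e L719957) q20401, e3 q19574 (flp_e L711287) q17550, e3 q19575 (flp_e L720547) q20450, e3 q19576 (flp_e L711303) q17553, e3 q19577 (flp_e L730037) q21365, e3 q19578 L711335 q17589, e3 q19579 (flp_e L711345) q17557, e3 q19580 (flp_e L730065) q21367, e3 q19581 (flp_e L711371) q17559, e3 q19582 (flp_e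 L730091) q21369, e3 q19583 L711393 q17561, trivial⟩ (by decide +kernel)

theorem ce_e_306 : ∀ r, r < 64 → sm ge (Qf (19584 + r)) = Qf (tab Gen.e (19584 + r)) :=
  edges_tab (sm ge) Qf (tab Gen.e) 19584 [(19584, 21371), (19585, 17578), (19586, 20664), (19587, 21373), (19588, 20161), (19589, 20820), (19590, 19590), (19591, 21377), (19592, 20634), (19593, 17573), (19594, 17574), (19595, 21379), (19596, 17576), (19597, 21381), (19598, 20708), (19599, 20616), (19600, 21384), (19601, 17583), (19602, 21385), (19603, 17600), (19604, 17590), (19605, 17585), (19606, 21390), (19607, 17593), (19608, 17588), (19609, 21389), (19610, 17592), (19611, 21396), (19612, 21392), (19613, 20587), (19614, 17597), (19615, 20621), (19616, 21398), (19617, 17599), (19618, 21387), (19619, 21388), (19620, 17602), (19621, 21403), (19622, 17604), (19623, 20105), (19624, 17608), (19625, 21407), (19626, 17610), (19627, 21409), (19628, 20076), (19629, 20428), (19630, 20723), (19631, 17615), (19632, 21412), (19633, 17618), (19634, 21414), (19635, 17620), (19636,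 21415), (19637, 17622), (19638, 21418), (19639, 20415), (19640, 20484), (19641, 17627), (19642, 20003), (19643, 21419), (19644, 17632), (19645, 17636), (19646, 21421), (19647, 19647)]
    ⟨e3 q19584 (flp_e L730105) q21371, e3 q19585 L711409 q17578, e3 q19586 (flp_e L723025) q20664, e3 q19587 L730117 q21373, e3 q19588 (flp_e L716806) q20161, e3 q19589 (flp_e L724646) q20820, e3 q19590 L711458 q19590, e3 q19591 L730155 q21377, e3 q19592 L722720 q20634, e3 q19593 (flp_e L711480) q17573, e3 q19594 (flp_e L711488) q17574, e3 q19595 (flp_e L730172) q21379, e3 q19596 L711503 q17576, e3 q19597 (flp_e L730184) q21381, e3 q19598 (flp_e L723436) q20708, e3 q19599 (flp_e L722507) q20616, e3 q19600 L730204 q21384, e3 q19601 L711538 q17583, e3 q19602 (flp_e L730213) q21385, e3 q19603 L711554 q17600, e3 q19604 L711560 q17590, e3 q19605 L711566 q17585, e3 q19606 (flp_e L730252) q21390, e3 q19607 L711580 q17593, e3 q19608 L711586 q17588, e3 q19609 (flp_e L730244) q21389, e3 q19610 L711599 q17592, e3 q19611 L730287 q21396, e3 q19612 (flp_e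 L730266) q21392, e3 q19613 (flp_e L722214) q20587, e3 q19614 L711627 q17597, e3 q19615 (flp_e L722552) q20621, e3 q19616 L730300 q21398, e3 q19617 (flp_e L711638) q17599, e3 q19618 (flp_e L730228) q21387, e3 q19619 (flp_e L730238) q21388, e3 q19620 L711663 q17602, e3 q19621 L730328 q21403, e3 q19622 (flp_e L711674) q17604, e3 q19623 (flp_e L716077) q20105, e3 q19624 (flp_e L711688) q17608, e3 q19625 (flp_e L730360) q21407, e3 q19626 L711709 q17610, e3 q19627 (flp_e L730376) q21409, e3 q19628 (flp_e L715671) q20076, e3 q19629 (flp_e L720303) q20428, e3 q19630 (flp_e L723574) q20723, e3 q19631 (flp_e L711742) q17615, e3 q19632 (flp_e L730402) q21412, e3 q19633 L711764 q17618, e3 q19634 (flp_e L730416) q21414, e3 q19635 L711782 q17620, e3 q19636 (flp_e L730426) q21415, e3 q19637 L711796 q17622, e3 q19638 L730442 q21418, e3 q19639 (flp_e L720147) q20415, e3 q19640 (flp_e L721026) q20484, e3 q19641 (flp_e L711818) q17627, e3 q19642 (flp_e L714520) q20003, e3 q19643 L730450 q21419, e3 q19644 (flp_e L711843) q17632, e3 q19645 (flp_e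 L711852) q17636, e3 q19646 (flp_e L730466) q21421, e3 q19647 L711867 q19647, trivial⟩ (by decide +kernel)

theorem ce_e_307 : ∀ r, r < 64 → sm ge (Qf (19648 + r)) = Qf (tab Gen.e (19648 + r)) :=
  edges_tab (sm ge) Qf (tab Gen.e) 19648 [(19648, 17638), (19649, 21425), (19650, 17640), (19651, 21131), (19652, 21429), (19653, 17644), (19654, 21430), (19655, 17646), (19656, 17647), (19657, 21431), (19658, 20077), (19659, 17649), (19660, 21434), (19661, 17650), (19662, 21435), (19663, 17652), (19664, 21437), (19665, 17654), (19666, 17655), (19667, 21440), (19668, 17695), (19669, 17668), (19670, 17657), (19671, 21444), (19672, 17698), (19673, 17699), (19674, 17671), (19675, 17672), (19676, 17661), (19677, 21451), (19678, 17675), (19679, 17676), (19680, 17677), (19681, 21393), (19682, 20063), (19683, 20728), (19684, 20560), (19685, 21443), (19686, 17670), (19687, 21460), (19688, 21448), (19689, 21449), (19690, 20727), (19691, 17674), (19692, 21452), (19693, 21453), (19694, 17679), (19695, 20532), (19696, 20468), (19697, 20530),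 (19698, 20537), (19699, 17682), (19700, 20722), (19701, 17685), (19702, 20726), (19703, 20238), (19704, 20203), (19705, 21467), (19706, 20822), (19707, 21442), (19708, 17697), (19709, 21471), (19710, 21446), (19711, 21447)]
    ⟨e3 q19648 L711872 q17638, e3 q19649 (flp_e L730490) q21425, e3 q19650 L711884 q17640, e3 q19651 (flp_e L727833) q21131, e3 q19652 L730514 q21429, e3 q19653 L711907 q17644, e3 q19654 L730521 q21430, e3 q19655 (flp_e L711918) q17646, e3 q19656 (flp_e L711923) q17647, e3 q19657 (flp_e L730532) q21431, e3 q19658 (flp_e L715690) q20077, e3 q19659 L711945 q17649, e3 q19660 (flp_e L730550) q21434, e3 q19661 (flp_e L711953) q17650, e3 q19662 (flp_e L730558) q21435, e3 q19663 L711973 q17652, e3 q19664 (flp_e L730574) q21437, e3 q19665 L711987 q17654, e3 q19666 (flp_e L711991) q17655, e3 q19667 (flp_e L730596) q21440, e3 q19668 L712007 q17695, e3 q19669 L712013 q17668, e3 q19670 L712019 q17657, e3 q19671 (flp_e L730624) q21444, e3 q19672 L712031 q17698, e3 q19673 L712039 q17699, e3 q19674 L712045 q17671, e3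 q19675 L712051 q17672, e3 q19676 L712059 q17661, e3 q19677 L730664 q21451, e3 q19678 L712071 q17675, e3 q19679 L712077 q17676, e3 q19680 L712083 q17677, e3 q19681 (flp_e L730272) q21393, e3 q19682 (flp_e L715452) q20063, e3 q19683 (flp_e L723611) q20728, e3 q19684 (flp_e L721896) q20560, e3 q19685 (flp_e L730616) q21443, e3 q19686 L712121 q17670, e3 q19687 L730720 q21460, e3 q19688 (flp_e L730650) q21448, e3 q19689 (flp_e L730658) q21449, e3 q19690 (flp_e L723597) q20727, e3 q19691 (flp_e L712157) q17674, e3 q19692 (flp_e L730672) q21452, e3 q19693 (flp_e L730678) q21453, e3 q19694 L712181 q17679, e3 q19695 (flp_e L721539) q20532, e3 q19696 (flp_e L720804) q20468, e3 q19697 (flp_e L721515) q20530, e3 q19698 (flp_e L721601) q20537, e3 q19699 (flp_e L712205) q17682, e3 q19700 (flp_e L723562) q20722, e3 q19701 (flp_e L712217) q17685, e3 q19702 (flp_e L723593) q20726, e3 q19703 (flp_e L717896) q20238, e3 q19704 (flp_e L717399) q20203, e3 q19705 L730770 q21467, e3 q19706 (flp_e L724669) q20822, e3 q19707 (flp_e L730610) q21442,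 e3 q19708 L712277 q17697, e3 q19709 L730795 q21471, e3 q19710 (flp_e L730638) q21446, e3 q19711 (flp_e L730644) q21447, trivial⟩ (by decide +kernel)

theorem ce_e_308 : ∀ r, r < 64 → sm ge (Qf (19712 + r)) = Qf (tab Gen.e (19712 + r)) :=
  edges_tab (sm ge) Qf (tab Gen.e) 19712 [(19712, 21474), (19713, 17701), (19714, 20104), (19715, 20547), (19716, 20542), (19717, 17705), (19718, 21475), (19719, 20733), (19720, 20753), (19721, 17715), (19722, 17722), (19723, 21479), (19724, 17725), (19725, 21481), (19726, 17727), (19727, 17730), (19728, 21483), (19729, 17731), (19730, 21484), (19731, 17734), (19732, 21486), (19733, 17740), (19734, 17737), (19735, 17739), (19736, 21487), (19737, 17742), (19738, 21490), (19739, 19739), (19740, 17744), (19741, 21494), (19742, 17745), (19743, 21496), (19744, 17778), (19745, 17761), (19746, 17747), (19747, 21501), (19748, 17764), (19749, 17765), (19750, 17750), (19751, 17781), (19752, 17767), (19753, 17752), (19754, 21508), (19755, 19755), (19756, 17783), (19757, 17770), (19758, 17756), (19759,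 17772), (19760, 17902), (19761, 21495), (19762, 17760), (19763, 21516), (19764, 21500), (19765, 17763), (19766, 21502), (19767, 21503), (19768, 21507), (19769, 17769), (19770, 21511), (19771, 20863), (19772, 20201), (19773, 21499), (19774, 21506), (19775, 21510)]
    ⟨e3 q19712 L730814 q21474, e3 q19713 (flp_e L712307) q17701, e3 q19714 (flp_e L716071) q20104, e3 q19715 (flp_e L721739) q20547, e3 q19716 (flp_e L721671) q20542, e3 q19717 (flp_e L712331) q17705, e3 q19718 (flp_e L730822) q21475, e3 q19719 (flp_e L723647) q20733, e3 q19720 (flp_e L723869) q20753, e3 q19721 L712365 q17715, e3 q19722 (flp_e L712370) q17722, e3 q19723 (flp_e L730847) q21479, e3 q19724 L712389 q17725, e3 q19725 (flp_e L730864) q21481, e3 q19726 L712407 q17727, e3 q19727 L712413 q17730, e3 q19728 (flp_e L730876) q21483, e3 q19729 (flp_e L712421) q17731, e3 q19730 (flp_e L730880) q21484, e3 q19731 L712436 q17734, e3 q19732 (flp_e L730895) q21486, e3 q19733 L712454 q17740, e3 q19734 L712460 q17737, e3 q19735 L712470 q17739, e3 q19736 (flp_e L730905)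 q21487, e3 q19737 (flp_e L712487) q17742, e3 q19738 (flp_e L730926) q21490, e3 q19739 L712504 q19739, e3 q19740 L712507 q17744, e3 q19741 (flp_e L730953) q21494, e3 q19742 (flp_e L712518) q17745, e3 q19743 (flp_e L730971) q21496, e3 q19744 L712538 q17778, e3 q19745 L712546 q17761, e3 q19746 L712552 q17747, e3 q19747 (flp_e L731012) q21501, e3 q19748 L712568 q17764, e3 q19749 L712576 q17765, e3 q19750 L712584 q17750, e3 q19751 L712596 q17781, e3 q19752 L712606 q17767, e3 q19753 L712612 q17752, e3 q19754 (flp_e L731077) q21508, e3 q19755 L712624 q19755, e3 q19756 L712629 q17783, e3 q19757 L712635 q17770, e3 q19758 L712643 q17756, e3 q19759 L712649 q17772, e3 q19760 L712655 q17902, e3 q19761 (flp_e L730965) q21495, e3 q19762 L712673 q17760, e3 q19763 (flp_e L731127) q21516, e3 q19764 (flp_e L731002) q21500, e3 q19765 L712698 q17763, e3 q19766 (flp_e L731020) q21502, e3 q19767 (flp_e L731028) q21503, e3 q19768 (flp_e L731069) q21507, e3 q19769 L712735 q17769, e3 q19770 (flp_e L731094) q21511, e3 q19771 (flp_e L725118) q20863,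 e3 q19772 (flp_e L717371) q20201, e3 q19773 (flp_e L730994) q21499, e3 q19774 (flp_e L731059) q21506, e3 q19775 (flp_e L731088) q21510, trivial⟩ (by decide +kernel)

theorem ce_e_309 : ∀ r, r < 64 → sm ge (Qf (19776 + r)) = Qf (tab Gen.e (19776 + r)) :=
  edges_tab (sm ge) Qf (tab Gen.e) 19776 [(19776, 17787), (19777, 21525), (19778, 17789), (19779, 21527), (19780, 17791), (19781, 21528), (19782, 17793), (19783, 17795), (19784, 21530), (19785, 19785), (19786, 17797), (19787, 21533), (19788, 17798), (19789, 21534), (19790, 17800), (19791, 21536), (19792, 17802), (19793, 17803), (19794, 21538), (19795, 17820), (19796, 17805), (19797, 21541), (19798, 17822), (19799, 17823), (19800, 17808), (19801, 21482), (19802, 21158), (19803, 21159), (19804, 21161), (19805, 21540), (19806, 21542), (19807, 21543), (19808, 21549), (19809, 17825), (19810, 21552), (19811, 17958), (19812, 17827), (19813, 21556), (19814, 17829), (19815, 17830), (19816, 21560), (19817, 19817), (19818, 17832), (19819, 21563), (19820, 17833), (19821, 21564), (19822,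 17964), (19823, 17835), (19824, 21567), (19825, 17837), (19826, 17838), (19827, 21569), (19828, 17967), (19829, 17855), (19830, 17840), (19831, 21575), (19832, 19832), (19833, 17969), (19834, 17970), (19835, 17858), (19836, 17859), (19837, 17844), (19838, 17861), (19839, 17862)]
    ⟨e3 q19776 (flp_e L712777) q17787, e3 q19777 (flp_e L731197) q21525, e3 q19778 L712799 q17789, e3 q19779 (flp_e L731211) q21527, e3 q19780 L712811 q17791, e3 q19781 (flp_e L731217) q21528, e3 q19782 L712829 q17793, e3 q19783 (flp_e L712833) q17795, e3 q19784 (flp_e L731235) q21530, e3 q19785 L712856 q19785, e3 q19786 L712861 q17797, e3 q19787 (flp_e L731259) q21533, e3 q19788 (flp_e L712872) q17798, e3 q19789 (flp_e L731267) q21534, e3 q19790 L712894 q17800, e3 q19791 (flp_e L731285) q21536, e3 q19792 L712912 q17802, e3 q19793 (flp_e L712916) q17803, e3 q19794 (flp_e L731301) q21538, e3 q19795 L712936 q17820, e3 q19796 L712942 q17805, e3 q19797 (flp_e L731323) q21541, e3 q19798 L712954 q17822, e3 q19799 L712962 q17823, e3 q19800 L712970 q17808,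 e3 q19801 (flp_e L730872) q21482, e3 q19802 (flp_e L728136) q21158, e3 q19803 (flp_e L728147) q21159, e3 q19804 (flp_e L728171) q21161, e3 q19805 (flp_e L731317) q21540, e3 q19806 (flp_e L731329) q21542, e3 q19807 (flp_e L731335) q21543, e3 q19808 L731370 q21549, e3 q19809 (flp_e L713034) q17825, e3 q19810 (flp_e L731400) q21552, e3 q19811 L713050 q17958, e3 q19812 L713056 q17827, e3 q19813 (flp_e L731426) q21556, e3 q19814 L713066 q17829, e3 q19815 (flp_e L713068) q17830, e3 q19816 (flp_e L731449) q21560, e3 q19817 L713089 q19817, e3 q19818 L713092 q17832, e3 q19819 (flp_e L731469) q21563, e3 q19820 (flp_e L713103) q17833, e3 q19821 (flp_e L731479) q21564, e3 q19822 L713125 q17964, e3 q19823 L713131 q17835, e3 q19824 (flp_e L731507) q21567, e3 q19825 L713147 q17837, e3 q19826 (flp_e L713153) q17838, e3 q19827 (flp_e L731523) q21569, e3 q19828 L713171 q17967, e3 q19829 L713179 q17855, e3 q19830 L713185 q17840, e3 q19831 (flp_e L731564) q21575, e3 q19832 L713199 q19832, e3 q19833 L713202 q17969, e3 q19834 L713210 q17970, e3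 q19835 L713216 q17858, e3 q19836 L713224 q17859, e3 q19837 L713232 q17844, e3 q19838 L713238 q17861, e3 q19839 L713244 q17862, trivial⟩ (by decide +kernel)

theorem ce_e_310 : ∀ r, r < 64 → sm ge (Qf (19840 + r)) = Qf (tab Gen.e (19840 + r)) :=
  edges_tab (sm ge) Qf (tab Gen.e) 19840 [(19840, 17863), (19841, 21488), (19842, 21329), (19843, 17850), (19844, 21590), (19845, 17852), (19846, 21330), (19847, 21574), (19848, 17857), (19849, 21581), (19850, 21582), (19851, 21583), (19852, 20894), (19853, 21585), (19854, 21586), (19855, 20218), (19856, 20971), (19857, 20972), (19858, 21598), (19859, 20973), (19860, 19860), (19861, 17873), (19862, 21602), (19863, 19863), (19864, 19864), (19865, 17876), (19866, 17905), (19867, 17878), (19868, 21607), (19869, 17939), (19870, 17908), (19871, 17882), (19872, 21611), (19873, 17911), (19874, 17912), (19875, 17913), (19876, 21504), (19877, 17914), (19878, 17887), (19879, 21617), (19880, 17974), (19881, 17940), (19882, 17917), (19883, 17918), (19884, 17891), (19885, 21608), (19886, 18033),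 (19887, 18034), (19888, 18035), (19889, 17941), (19890, 17942), (19891, 17921), (19892, 17922), (19893, 17923), (19894, 21633), (19895, 17898), (19896, 17926), (19897, 17927), (19898, 21202), (19899, 21514), (19900, 20945), (19901, 17904), (19902, 21640), (19903, 21606)]
    ⟨e3 q19840 L713250 q17863, e3 q19841 (flp_e L730915) q21488, e3 q19842 (flp_e L729772) q21329, e3 q19843 L713276 q17850, e3 q19844 (flp_e L731668) q21590, e3 q19845 L713296 q17852, e3 q19846 (flp_e L729785) q21330, e3 q19847 (flp_e L731556) q21574, e3 q19848 L713322 q17857, e3 q19849 (flp_e L731601) q21581, e3 q19850 (flp_e L731609) q21582, e3 q19851 (flp_e L731617) q21583, e3 q19852 (flp_e L725453) q20894, e3 q19853 (flp_e L731629) q21585, e3 q19854 (flp_e L731635) q21586, e3 q19855 (flp_e L717616) q20218, e3 q19856 (flp_e L726244) q20971, e3 q19857 (flp_e L726257) q20972, e3 q19858 (flp_e L731736) q21598, e3 q19859 (flp_e L726265) q20973, e3 q19860 L713420 q19860, e3 q19861 L713425 q17873, e3 q19862 (flp_e L731769) q21602, e3 q19863 L713438 q19863,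 e3 q19864 L713443 q19864, e3 q19865 L713448 q17876, e3 q19866 L713460 q17905, e3 q19867 L713468 q17878, e3 q19868 (flp_e L731805) q21607, e3 q19869 L713488 q17939, e3 q19870 L713496 q17908, e3 q19871 L713506 q17882, e3 q19872 L731831 q21611, e3 q19873 L713522 q17911, e3 q19874 L713528 q17912, e3 q19875 L713534 q17913, e3 q19876 (flp_e L731038) q21504, e3 q19877 L713548 q17914, e3 q19878 L713554 q17887, e3 q19879 (flp_e L731875) q21617, e3 q19880 L713570 q17974, e3 q19881 L713578 q17940, e3 q19882 L713586 q17917, e3 q19883 L713592 q17918, e3 q19884 L713600 q17891, e3 q19885 (flp_e L731813) q21608, e3 q19886 L713616 q18033, e3 q19887 L713620 q18034, e3 q19888 L713628 q18035, e3 q19889 L713634 q17941, e3 q19890 L713638 q17942, e3 q19891 L713644 q17921, e3 q19892 L713650 q17922, e3 q19893 L713658 q17923, e3 q19894 L731977 q21633, e3 q19895 (flp_e L713664) q17898, e3 q19896 L713670 q17926, e3 q19897 L713676 q17927, e3 q19898 (flp_e L728579) q21202, e3 q19899 (flp_e L731108) q21514, e3 q19900 (flp_e L725968) q20945, e3 q19901 L713700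 q17904, e3 q19902 (flp_e L732017) q21640, e3 q19903 (flp_e L731795) q21606, trivial⟩ (by decide +kernel)

theorem ce_e_311 : ∀ r, r < 64 → sm ge (Qf (19904 + r)) = Qf (tab Gen.e (19904 + r)) :=
  edges_tab (sm ge) Qf (tab Gen.e) 19904 [(19904, 17907), (19905, 21609), (19906, 21644), (19907, 17910), (19908, 21612), (19909, 21613), (19910, 21616), (19911, 17916), (19912, 21620), (19913, 21621), (19914, 20229), (19915, 21629), (19916, 21630), (19917, 21653), (19918, 17924), (19919, 21634), (19920, 21635), (19921, 21053), (19922, 21054), (19923, 21060), (19924, 17935), (19925, 21055), (19926, 21650), (19927, 21627), (19928, 17945), (19929, 21619), (19930, 20750), (19931, 17950), (19932, 21660), (19933, 21252), (19934, 17952), (19935, 21663), (19936, 17954), (19937, 21213), (19938, 21551), (19939, 17957), (19940, 21666), (19941, 21554), (19942, 21555), (19943, 17960), (19944, 21671), (19945, 21566), (19946, 21571), (19947, 21573), (19948, 21579), (19949, 21580), (19950, 21618), (19951, 20162), (19952, 20197), (19953, 20351), (19954,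 20214), (19955, 21058), (19956, 20346), (19957, 21061), (19958, 20008), (19959, 18006), (19960, 18007), (19961, 20367), (19962, 21166), (19963, 18016), (19964, 18019), (19965, 21678), (19966, 20316), (19967, 20270)]
    ⟨e3 q19904 L713728 q17907, e3 q19905 (flp_e L731821) q21609, e3 q19906 L732049 q21644, e3 q19907 (flp_e L713748) q17910, e3 q19908 (flp_e L731841) q21612, e3 q19909 (flp_e L731849) q21613, e3 q19910 (flp_e L731867) q21616, e3 q19911 L713783 q17916, e3 q19912 (flp_e L731901) q21620, e3 q19913 (flp_e L731909) q21621, e3 q19914 (flp_e L717768) q20229, e3 q19915 (flp_e L731957) q21629, e3 q19916 (flp_e L731965) q21630, e3 q19917 L732121 q21653, e3 q19918 (flp_e L713835) q17924, e3 q19919 (flp_e L731985) q21634, e3 q19920 (flp_e L731989) q21635, e3 q19921 (flp_e L726981) q21053, e3 q19922 (flp_e L726994) q21054, e3 q19923 (flp_e L727045) q21060, e3 q19924 L713881 q17935, e3 q19925 (flp_e L727004) q21055, e3 q19926 (flp_e L732099) q21650, e3 q19927 (flp_e L731945) q21627, e3 q19928 L713909 q17945, e3 q19929 (flp_e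 L731891) q21619, e3 q19930 (flp_e L723833) q20750, e3 q19931 (flp_e L713930) q17950, e3 q19932 (flp_e L732180) q21660, e3 q19933 L729096 q21252, e3 q19934 L713967 q17952, e3 q19935 (flp_e L732214) q21663, e3 q19936 L713984 q17954, e3 q19937 (flp_e L728690) q21213, e3 q19938 (flp_e L731394) q21551, e3 q19939 L714011 q17957, e3 q19940 (flp_e L732244) q21666, e3 q19941 (flp_e L731412) q21554, e3 q19942 (flp_e L731420) q21555, e3 q19943 L714039 q17960, e3 q19944 L732270 q21671, e3 q19945 (flp_e L731499) q21566, e3 q19946 (flp_e L731535) q21571, e3 q19947 (flp_e L731550) q21573, e3 q19948 (flp_e L731591) q21579, e3 q19949 (flp_e L731595) q21580, e3 q19950 (flp_e L731883) q21618, e3 q19951 (flp_e L716820) q20162, e3 q19952 (flp_e L717305) q20197, e3 q19953 (flp_e L719258) q20351, e3 q19954 (flp_e L717547) q20214, e3 q19955 (flp_e L727027) q21058, e3 q19956 (flp_e L719209) q20346, e3 q19957 (flp_e L727057) q21061, e3 q19958 (flp_e L714609) q20008, e3 q19959 (flp_e L714134) q18006, e3 q19960 (flp_e L714142) q18007, e3 q19961 (flp_e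 L719460) q20367, e3 q19962 (flp_e L728220) q21166, e3 q19963 (flp_e L714178) q18016, e3 q19964 (flp_e L714189) q18019, e3 q19965 (flp_e L732317) q21678, e3 q19966 (flp_e L718834) q20316, e3 q19967 (flp_e L718262) q20270, trivial⟩ (by decide +kernel)

theorem ce_e_312 : ∀ r, r < 64 → sm ge (Qf (19968 + r)) = Qf (tab Gen.e (19968 + r)) :=
  edges_tab (sm ge) Qf (tab Gen.e) 19968 [(19968, 18028), (19969, 18049), (19970, 18051), (19971, 18052), (19972, 18048), (19973, 21623), (19974, 21624), (19975, 21625), (19976, 21626), (19977, 18066), (19978, 21642), (19979, 18055), (19980, 21689), (19981, 21691), (19982, 18040), (19983, 18058), (19984, 21214), (19985, 19985), (19986, 21693), (19987, 21679), (19988, 21680), (19989, 21696), (19990, 18065), (19991, 21697), (19992, 18056), (19993, 21698), (19994, 19994), (19995, 21071), (19996, 21177), (19997, 21261), (19998, 21037), (19999, 20900), (20000, 21065), (20001, 18488), (20002, 18707), (20003, 19642), (20004, 18095), (20005, 18096), (20006, 19362), (20007, 18487), (20008, 19958),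 (20009, 18907), (20010, 18109), (20011, 21703), (20012, 18111), (20013, 21704), (20014, 18113), (20015, 21705), (20016, 18115), (20017, 18132), (20018, 19563), (20019, 19555), (20020, 18124), (20021, 18564), (20022, 19272), (20023, 21706), (20024, 19572), (20025, 21707), (20026, 18133), (20027, 21714), (20028, 21713), (20029, 18136), (20030, 21717), (20031, 18140)]
    ⟨e3 q19968 L714229 q18028, e3 q19969 L714240 q18049, e3 q19970 L714247 q18051, e3 q19971 L714257 q18052, e3 q19972 L714272 q18048, e3 q19973 (flp_e L731919) q21623, e3 q19974 (flp_e L731927) q21624, e3 q19975 (flp_e L731933) q21625, e3 q19976 (flp_e L731939) q21626, e3 q19977 L714298 q18066, e3 q19978 (flp_e L732037) q21642, e3 q19979 L714312 q18055, e3 q19980 L732395 q21689, e3 q19981 L732410 q21691, e3 q19982 (flp_e L714331) q18040, e3 q19983 L714351 q18058, e3 q19984 (flp_e L728703) q21214, e3 q19985 L714364 q19985, e3 q19986 L732428 q21693, e3 q19987 (flp_e L732329) q21679, e3 q19988 (flp_e L732336) q21680, e3 q19989 L732448 q21696, e3 q19990 L714408 q18065,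 e3 q19991 L732453 q21697, e3 q19992 (flp_e L714421) q18056, e3 q19993 (flp_e L732461) q21698, e3 q19994 L714436 q19994, e3 q19995 (flp_e L727133) q21071, e3 q19996 (flp_e L728332) q21177, e3 q19997 (flp_e L729169) q21261, e3 q19998 (flp_e L726838) q21037, e3 q19999 (flp_e L725506) q20900, e3 q20000 (flp_e L727087) q21065, e3 q20001 L714486 q18488, e3 q20002 L714505 q18707, e3 q20003 L714520 q19642, e3 q20004 L714536 q18095, e3 q20005 (flp_e L714544) q18096, e3 q20006 L714568 q19362, e3 q20007 L714585 q18487, e3 q20008 L714609 q19958, e3 q20009 L714616 q18907, e3 q20010 L714638 q18109, e3 q20011 (flp_e L732508) q21703, e3 q20012 L714674 q18111, e3 q20013 (flp_e L732526) q21704, e3 q20014 L714709 q18113, e3 q20015 (flp_e L732546) q21705, e3 q20016 L714741 q18115, e3 q20017 L714760 q18132, e3 q20018 L714770 q19563, e3 q20019 L714790 q19555, e3 q20020 L714810 q18124, e3 q20021 L714830 q18564, e3 q20022 L714846 q19272, e3 q20023 (flp_e L732570) q21706, e3 q20024 L714881 q19572, e3 q20025 (flp_e L732578) q21707, e3 q20026 (flp_e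 L714896) q18133, e3 q20027 (flp_e L732708) q21714, e3 q20028 (flp_e L732694) q21713, e3 q20029 L714952 q18136, e3 q20030 (flp_e L732755) q21717, e3 q20031 L714982 q18140, trivial⟩ (by decide +kernel)

theorem ce_e_313 : ∀ r, r < 64 → sm ge (Qf (20032 + r)) = Qf (tab Gen.e (20032 + r)) :=
  edges_tab (sm ge) Qf (tab Gen.e) 20032 [(20032, 18141), (20033, 21720), (20034, 18143), (20035, 21723), (20036, 18151), (20037, 18145), (20038, 21726), (20039, 21719), (20040, 18147), (20041, 21728), (20042, 18653), (20043, 18148), (20044, 21731), (20045, 21722), (20046, 18150), (20047, 21734), (20048, 21725), (20049, 18153), (20050, 18658), (20051, 18156), (20052, 21738), (20053, 18158), (20054, 18218), (20055, 18272), (20056, 18274), (20057, 18222), (20058, 18226), (20059, 20059), (20060, 20060), (20061, 18172), (20062, 21742), (20063, 19682), (20064, 18176), (20065, 18225), (20066, 18179), (20067, 21745), (20068, 18610), (20069, 18611), (20070, 18872), (20071, 18188), (20072, 21747), (20073, 18193), (20074, 18191), (20075, 21750), (20076,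 19628), (20077, 19658), (20078, 21749), (20079, 18195), (20080, 19290), (20081, 19291), (20082, 21718), (20083, 18200), (20084, 21756), (20085, 18202), (20086, 21757), (20087, 18208), (20088, 18209), (20089, 18205), (20090, 21758), (20091, 21759), (20092, 21760), (20093, 21736), (20094, 19319), (20095, 19320)]
    ⟨e3 q20032 (flp_e L714988) q18141, e3 q20033 (flp_e L732806) q21720, e3 q20034 (flp_e L715020) q18143, e3 q20035 (flp_e L732858) q21723, e3 q20036 L715060 q18151, e3 q20037 L715072 q18145, e3 q20038 (flp_e L732902) q21726, e3 q20039 (flp_e L732792) q21719, e3 q20040 L715114 q18147, e3 q20041 (flp_e L732930) q21728, e3 q20042 (flp_e L715152) q18653, e3 q20043 (flp_e L715154) q18148, e3 q20044 (flp_e L732984) q21731, e3 q20045 (flp_e L732844) q21722, e3 q20046 L715203 q18150, e3 q20047 (flp_e L733025) q21734, e3 q20048 (flp_e L732890) q21725, e3 q20049 L715241 q18153, e3 q20050 L715255 q18658, e3 q20051 L715270 q18156, e3 q20052 (flp_e L733085) q21738, e3 q20053 L715296 q18158, e3 q20054 L715312 q18218, e3 q20055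 L715323 q18272, e3 q20056 L715340 q18274, e3 q20057 L715360 q18222, e3 q20058 L715366 q18226, e3 q20059 L715382 q20059, e3 q20060 L715399 q20060, e3 q20061 (flp_e L715410) q18172, e3 q20062 (flp_e L733148) q21742, e3 q20063 L715452 q19682, e3 q20064 L715470 q18176, e3 q20065 L715495 q18225, e3 q20066 L715505 q18179, e3 q20067 (flp_e L733200) q21745, e3 q20068 L715539 q18610, e3 q20069 L715555 q18611, e3 q20070 L715579 q18872, e3 q20071 (flp_e L715583) q18188, e3 q20072 (flp_e L733240) q21747, e3 q20073 L715631 q18193, e3 q20074 L715645 q18191, e3 q20075 (flp_e L733292) q21750, e3 q20076 L715671 q19628, e3 q20077 L715690 q19658, e3 q20078 (flp_e L733276) q21749, e3 q20079 L715717 q18195, e3 q20080 L715734 q19290, e3 q20081 L715746 q19291, e3 q20082 (flp_e L732775) q21718, e3 q20083 L715775 q18200, e3 q20084 (flp_e L733381) q21756, e3 q20085 L715803 q18202, e3 q20086 (flp_e L733395) q21757, e3 q20087 L715839 q18208, e3 q20088 L715855 q18209, e3 q20089 L715865 q18205, e3 q20090 (flp_e L733415) q21758, e3 q20091 (flp_e L733433)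 q21759, e3 q20092 (flp_e L733447) q21760, e3 q20093 (flp_e L733055) q21736, e3 q20094 L715931 q19319, e3 q20095 L715945 q19320, trivial⟩ (by decide +kernel)

theorem ce_e_314 : ∀ r, r < 64 → sm ge (Qf (20096 + r)) = Qf (tab Gen.e (20096 + r)) :=
  edges_tab (sm ge) Qf (tab Gen.e) 20096 [(20096, 19322), (20097, 19323), (20098, 21744), (20099, 21739), (20100, 18452), (20101, 18453), (20102, 21772), (20103, 21741), (20104, 19714), (20105, 19623), (20106, 21774), (20107, 18232), (20108, 21777), (20109, 18228), (20110, 21780), (20111, 21782), (20112, 18326), (20113, 21784), (20114, 18231), (20115, 21787), (20116, 18233), (20117, 21790), (20118, 18240), (20119, 18235), (20120, 21793), (20121, 19393), (20122, 21786), (20123, 18238), (20124, 21797), (20125, 19399), (20126, 21792), (20127, 18242), (20128, 21801), (20129, 18400), (20130, 18245), (20131, 21803), (20132, 18247), (20133, 21806), (20134, 18258), (20135, 18249), (20136, 21810), (20137, 18250), (20138, 21812), (20139, 18281), (20140, 18262), (20141, 18252), (20142, 21818),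 (20143, 18265), (20144, 18255), (20145, 21805), (20146, 18257), (20147, 21823), (20148, 21808), (20149, 21809), (20150, 18260), (20151, 19374), (20152, 21817), (20153, 18264), (20154, 21831), (20155, 21820), (20156, 18436), (20157, 19058), (20158, 21835), (20159, 18269)]
    ⟨e3 q20096 L715963 q19322, e3 q20097 L715973 q19323, e3 q20098 (flp_e L733190) q21744, e3 q20099 (flp_e L733099) q21739, e3 q20100 L716009 q18452, e3 q20101 L716027 q18453, e3 q20102 L733607 q21772, e3 q20103 (flp_e L733128) q21741, e3 q20104 L716071 q19714, e3 q20105 L716077 q19623, e3 q20106 L733633 q21774, e3 q20107 L716108 q18232, e3 q20108 L733678 q21777, e3 q20109 (flp_e L716129) q18228, e3 q20110 (flp_e L733723) q21780, e3 q20111 L733740 q21782, e3 q20112 L716174 q18326, e3 q20113 L733773 q21784, e3 q20114 (flp_e L716198) q18231, e3 q20115 (flp_e L733824) q21787, e3 q20116 (flp_e L716220) q18233, e3 q20117 (flp_e L733861) q21790, e3 q20118 L716257 q18240, e3 q20119 L716267 q18235, e3 q20120 (flp_e L733901) q21793, e3 q20121 L716294 q19393, e3 q20122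 (flp_e L733816) q21786, e3 q20123 L716321 q18238, e3 q20124 (flp_e L733957) q21797, e3 q20125 L716347 q19399, e3 q20126 (flp_e L733889) q21792, e3 q20127 L716374 q18242, e3 q20128 L734004 q21801, e3 q20129 L716405 q18400, e3 q20130 (flp_e L716408) q18245, e3 q20131 (flp_e L734046) q21803, e3 q20132 (flp_e L716439) q18247, e3 q20133 (flp_e L734095) q21806, e3 q20134 L716477 q18258, e3 q20135 L716485 q18249, e3 q20136 (flp_e L734147) q21810, e3 q20137 (flp_e L716501) q18250, e3 q20138 (flp_e L734175) q21812, e3 q20139 L716543 q18281, e3 q20140 L716555 q18262, e3 q20141 L716565 q18252, e3 q20142 (flp_e L734260) q21818, e3 q20143 L716585 q18265, e3 q20144 L716597 q18255, e3 q20145 (flp_e L734083) q21805, e3 q20146 L716623 q18257, e3 q20147 (flp_e L734319) q21823, e3 q20148 (flp_e L734123) q21808, e3 q20149 (flp_e L734135) q21809, e3 q20150 L716668 q18260, e3 q20151 L716681 q19374, e3 q20152 (flp_e L734248) q21817, e3 q20153 L716710 q18264, e3 q20154 L734418 q21831, e3 q20155 (flp_e L734282) q21820, e3 q20156 L716744 q18436, e3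 q20157 (flp_e L716763) q19058, e3 q20158 L734468 q21835, e3 q20159 (flp_e L716777) q18269, trivial⟩ (by decide +kernel)

theorem ce_e_315 : ∀ r, r < 64 → sm ge (Qf (20160 + r)) = Qf (tab Gen.e (20160 + r)) :=
  edges_tab (sm ge) Qf (tab Gen.e) 20160 [(20160, 18447), (20161, 19588), (20162, 19951), (20163, 18451), (20164, 21841), (20165, 18455), (20166, 18459), (20167, 19527), (20168, 21811), (20169, 18280), (20170, 21846), (20171, 21815), (20172, 21816), (20173, 18283), (20174, 21851), (20175, 21852), (20176, 19063), (20177, 18287), (20178, 18293), (20179, 18697), (20180, 21854), (20181, 18939), (20182, 18300), (20183, 21856), (20184, 19008), (20185, 19010), (20186, 21860), (20187, 18648), (20188, 21862), (20189, 18307), (20190, 21864), (20191, 18309), (20192, 21867), (20193, 18315), (20194, 18311), (20195, 21870), (20196, 18997), (20197, 19952), (20198, 18998), (20199, 21869), (20200, 18317), (20201, 19772), (20202, 18446), (20203, 19704), (20204, 18457), (20205, 18323), (20206, 21877), (20207, 18325), (20208, 21879), (20209,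 18327), (20210, 21882), (20211, 18332), (20212, 18329), (20213, 21885), (20214, 19954), (20215, 19052), (20216, 21884), (20217, 18334), (20218, 19855), (20219, 19125), (20220, 18337), (20221, 21890), (20222, 18340), (20223, 21892)]
    ⟨e3 q20160 L716792 q18447, e3 q20161 L716806 q19588, e3 q20162 L716820 q19951, e3 q20163 L716837 q18451, e3 q20164 L734550 q21841, e3 q20165 L716854 q18455, e3 q20166 L716863 q18459, e3 q20167 L716881 q19527, e3 q20168 (flp_e L734165) q21811, e3 q20169 L716911 q18280, e3 q20170 (flp_e L734627) q21846, e3 q20171 (flp_e L734220) q21815, e3 q20172 (flp_e L734234) q21816, e3 q20173 L716964 q18283, e3 q20174 L734685 q21851, e3 q20175 L734694 q21852, e3 q20176 (flp_e L717008) q19063, e3 q20177 (flp_e L717010) q18287, e3 q20178 L717028 q18293, e3 q20179 L717051 q18697, e3 q20180 L734717 q21854, e3 q20181 L717081 q18939, e3 q20182 (flp_e L717091) q18300, e3 q20183 (flp_e L734761) q21856, e3 q20184 L717131 q19008, e3 q20185 L717144 q19010, e3 q20186 L734814 q21860, e3 q20187 L717172 q18648, e3 q20188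 L734841 q21862, e3 q20189 (flp_e L717194) q18307, e3 q20190 (flp_e L734878) q21864, e3 q20191 (flp_e L717218) q18309, e3 q20192 (flp_e L734921) q21867, e3 q20193 L717259 q18315, e3 q20194 L717269 q18311, e3 q20195 (flp_e L734965) q21870, e3 q20196 L717294 q18997, e3 q20197 L717305 q19952, e3 q20198 L717320 q18998, e3 q20199 (flp_e L734951) q21869, e3 q20200 L717350 q18317, e3 q20201 L717371 q19772, e3 q20202 L717387 q18446, e3 q20203 L717399 q19704, e3 q20204 L717421 q18457, e3 q20205 (flp_e L717423) q18323, e3 q20206 (flp_e L735075) q21877, e3 q20207 (flp_e L717450) q18325, e3 q20208 (flp_e L735100) q21879, e3 q20209 (flp_e L717474) q18327, e3 q20210 (flp_e L735145) q21882, e3 q20211 L717517 q18332, e3 q20212 L717525 q18329, e3 q20213 (flp_e L735189) q21885, e3 q20214 L717547 q19954, e3 q20215 L717564 q19052, e3 q20216 (flp_e L735177) q21884, e3 q20217 L717595 q18334, e3 q20218 L717616 q19855, e3 q20219 L717632 q19125, e3 q20220 (flp_e L717635) q18337, e3 q20221 (flp_e L735266) q21890, e3 q20222 L717668 q18340, e3 q20223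 (flp_e L735291) q21892, trivial⟩ (by decide +kernel)

theorem ce_e_316 : ∀ r, r < 64 → sm ge (Qf (20224 + r)) = Qf (tab Gen.e (20224 + r)) :=
  edges_tab (sm ge) Qf (tab Gen.e) 20224 [(20224, 18342), (20225, 21893), (20226, 18348), (20227, 18349), (20228, 18345), (20229, 19914), (20230, 21895), (20231, 21896), (20232, 21897), (20233, 19196), (20234, 18914), (20235, 18916), (20236, 18980), (20237, 18698), (20238, 19703), (20239, 21906), (20240, 18363), (20241, 18990), (20242, 21908), (20243, 21910), (20244, 18366), (20245, 21913), (20246, 21916), (20247, 18368), (20248, 21920), (20249, 20249), (20250, 18370), (20251, 21923), (20252, 18371), (20253, 21925), (20254, 21927), (20255, 18373), (20256, 21930), (20257, 18384), (20258, 18375), (20259, 21934), (20260, 18376), (20261, 21936), (20262, 20262), (20263, 18388), (20264, 18378), (20265, 21942), (20266, 18391), (20267, 18392), (20268, 18381), (20269, 19160), (20270, 19967), (20271, 21932), (20272, 21933), (20273, 18386), (20274, 19172), (20275, 21941), (20276, 18390), (20277,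 21955), (20278, 21944), (20279, 21945), (20280, 21946), (20281, 21800), (20282, 19525), (20283, 18396), (20284, 19463), (20285, 19464), (20286, 19011), (20287, 21802)]
    ⟨e3 q20224 L717696 q18342, e3 q20225 (flp_e L735305) q21893, e3 q20226 L717728 q18348, e3 q20227 L717742 q18349, e3 q20228 L717752 q18345, e3 q20229 L717768 q19914, e3 q20230 (flp_e L735339) q21895, e3 q20231 (flp_e L735357) q21896, e3 q20232 (flp_e L735369) q21897, e3 q20233 L717822 q19196, e3 q20234 L717836 q18914, e3 q20235 L717849 q18916, e3 q20236 L717868 q18980, e3 q20237 L717880 q18698, e3 q20238 L717896 q19703, e3 q20239 L735486 q21906, e3 q20240 L717922 q18363, e3 q20241 L717939 q18990, e3 q20242 L735513 q21908, e3 q20243 L735544 q21910, e3 q20244 (flp_e L717968) q18366, e3 q20245 (flp_e L735587) q21913, e3 q20246 L735618 q21916, e3 q20247 (flp_e L718001) q18368, e3 q20248 (flp_e L735666) q21920, e3 q20249 L718029 q20249, e3 q20250 L718038 q18370, e3 q20251 (flp_e L735696) q21923, e3 q20252 (flp_e L718051) q18371, e3 q20253 (flp_e L735719) q21925,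 e3 q20254 L735736 q21927, e3 q20255 (flp_e L718087) q18373, e3 q20256 (flp_e L735784) q21930, e3 q20257 L718122 q18384, e3 q20258 L718128 q18375, e3 q20259 (flp_e L735834) q21934, e3 q20260 (flp_e L718142) q18376, e3 q20261 (flp_e L735865) q21936, e3 q20262 L718173 q20262, e3 q20263 L718186 q18388, e3 q20264 L718194 q18378, e3 q20265 (flp_e L735945) q21942, e3 q20266 L718218 q18391, e3 q20267 L718228 q18392, e3 q20268 L718236 q18381, e3 q20269 L718251 q19160, e3 q20270 L718262 q19967, e3 q20271 (flp_e L735810) q21932, e3 q20272 (flp_e L735824) q21933, e3 q20273 L718304 q18386, e3 q20274 L718319 q19172, e3 q20275 (flp_e L735933) q21941, e3 q20276 L718349 q18390, e3 q20277 L736110 q21955, e3 q20278 (flp_e L735970) q21944, e3 q20279 (flp_e L735988) q21945, e3 q20280 (flp_e L735998) q21946, e3 q20281 (flp_e L734001) q21800, e3 q20282 L718424 q19525, e3 q20283 (flp_e L718427) q18396, e3 q20284 L718450 q19463, e3 q20285 L718463 q19464, e3 q20286 L718482 q19011, e3 q20287 (flp_e L734024) q21802, trivial⟩ (by decide +kernel)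

theorem ce_e_317 : ∀ r, r < 64 → sm ge (Qf (20288 + r)) = Qf (tab Gen.e (20288 + r)) :=
  edges_tab (sm ge) Qf (tab Gen.e) 20288 [(20288, 20288), (20289, 18402), (20290, 21964), (20291, 21965), (20292, 18403), (20293, 21967), (20294, 18405), (20295, 21969), (20296, 18422), (20297, 18423), (20298, 18408), (20299, 18409), (20300, 21976), (20301, 18465), (20302, 18426), (20303, 18411), (20304, 21981), (20305, 18468), (20306, 18469), (20307, 18429), (20308, 18430), (20309, 18415), (20310, 21989), (20311, 18433), (20312, 18434), (20313, 18435), (20314, 21821), (20315, 19104), (20316, 19966), (20317, 21996), (20318, 21971), (20319, 21972), (20320, 21973), (20321, 21827), (20322, 19111), (20323, 21980), (20324, 18428), (20325, 22003), (20326, 21985), (20327, 21986), (20328, 21987), (20329, 18432), (20330, 21990), (20331, 21991), (20332, 22010), (20333, 21833), (20334, 19350), (20335, 18439), (20336, 19523), (20337, 19524), (20338, 19198), (20339, 19526), (20340, 21874), (20341, 21836), (20342, 18782), (20343, 18786), (20344, 22018),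 (20345, 21839), (20346, 19956), (20347, 22022), (20348, 22024), (20349, 18454), (20350, 21842), (20351, 19953)]
    ⟨e3 q20288 L718505 q20288, e3 q20289 L718510 q18402, e3 q20290 (flp_e L736230) q21964, e3 q20291 L736236 q21965, e3 q20292 (flp_e L718541) q18403, e3 q20293 (flp_e L736278) q21967, e3 q20294 L718573 q18405, e3 q20295 (flp_e L736300) q21969, e3 q20296 L718599 q18422, e3 q20297 L718611 q18423, e3 q20298 L718621 q18408, e3 q20299 (flp_e L718625) q18409, e3 q20300 (flp_e L736392) q21976, e3 q20301 L718661 q18465, e3 q20302 L718681 q18426, e3 q20303 L718691 q18411, e3 q20304 (flp_e L736470) q21981, e3 q20305 L718711 q18468, e3 q20306 L718727 q18469, e3 q20307 L718745 q18429, e3 q20308 L718759 q18430, e3 q20309 L718769 q18415, e3 q20310 L736562 q21989, e3 q20311 L718785 q18433, e3 q20312 L718793 q18434, e3 q20313 L718803 q18435, e3 q20314 (flp_e L734296) q21821, e3 q20315 L718823 q19104, e3 q20316 L718834 q19966, e3 q20317 L736622 q21996, e3 q20318 (flp_e L736326) q21971, e3 q20319 (flp_e L736342) q21972, e3 q20320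 (flp_e L736354) q21973, e3 q20321 (flp_e L734371) q21827, e3 q20322 L718907 q19111, e3 q20323 (flp_e L736456) q21980, e3 q20324 L718937 q18428, e3 q20325 L736716 q22003, e3 q20326 (flp_e L736522) q21985, e3 q20327 (flp_e L736540) q21986, e3 q20328 (flp_e L736552) q21987, e3 q20329 (flp_e L718997) q18432, e3 q20330 (flp_e L736572) q21990, e3 q20331 (flp_e L736582) q21991, e3 q20332 L736800 q22010, e3 q20333 (flp_e L734446) q21833, e3 q20334 L719056 q19350, e3 q20335 (flp_e L719060) q18439, e3 q20336 L719087 q19523, e3 q20337 L719100 q19524, e3 q20338 L719121 q19198, e3 q20339 L719127 q19526, e3 q20340 (flp_e L735029) q21874, e3 q20341 (flp_e L734499) q21836, e3 q20342 L719163 q18782, e3 q20343 L719178 q18786, e3 q20344 L736905 q22018, e3 q20345 (flp_e L734531) q21839, e3 q20346 L719209 q19956, e3 q20347 L736952 q22022, e3 q20348 L736972 q22024, e3 q20349 (flp_e L719234) q18454, e3 q20350 (flp_e L734564) q21842, e3 q20351 L719258 q19953, trivial⟩ (by decide +kernel)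

theorem ce_e_318 : ∀ r, r < 64 → sm ge (Qf (20352 + r)) = Qf (tab Gen.e (20352 + r)) :=
  edges_tab (sm ge) Qf (tab Gen.e) 20352 [(20352, 19358), (20353, 19351), (20354, 19352), (20355, 22028), (20356, 21975), (20357, 18464), (20358, 22030), (20359, 21978), (20360, 21979), (20361, 18467), (20362, 22034), (20363, 21983), (20364, 21984), (20365, 22037), (20366, 18471), (20367, 19961), (20368, 22039), (20369, 18474), (20370, 18476), (20371, 22038), (20372, 19207), (20373, 19360), (20374, 18709), (20375, 18484), (20376, 18524), (20377, 19561), (20378, 18517), (20379, 18515), (20380, 18504), (20381, 22046), (20382, 18536), (20383, 18525), (20384, 18523), (20385, 18512), (20386, 18559), (20387, 18589), (20388, 22045), (20389, 18547), (20390, 22044), (20391, 18533), (20392, 18520), (20393, 19559), (20394, 18635), (20395, 22043), (20396, 22055), (20397, 18537), (20398, 18588), (20399, 19571), (20400, 18591), (20401, 19573), (20402, 18531), (20403, 22052), (20404, 19565), (20405, 18541), (20406, 22047), (20407, 18725), (20408, 18553),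 (20409, 22058), (20410, 18549), (20411, 18544), (20412, 22063), (20413, 18546), (20414, 22050), (20415, 19639)]
    ⟨e3 q20352 L719264 q19358, e3 q20353 L719281 q19351, e3 q20354 L719295 q19352, e3 q20355 L737019 q22028, e3 q20356 (flp_e L736380) q21975, e3 q20357 L719335 q18464, e3 q20358 (flp_e L737052) q22030, e3 q20359 (flp_e L736420) q21978, e3 q20360 (flp_e L736438) q21979, e3 q20361 L719391 q18467, e3 q20362 L737101 q22034, e3 q20363 (flp_e L736490) q21983, e3 q20364 (flp_e L736504) q21984, e3 q20365 L737136 q22037, e3 q20366 (flp_e L719447) q18471, e3 q20367 L719460 q19961, e3 q20368 L737156 q22039, e3 q20369 (flp_e L719474) q18474, e3 q20370 (flp_e L719484) q18476, e3 q20371 (flp_e L737154) q22038, e3 q20372 L719512 q19207, e3 q20373 L719522 q19360, e3 q20374 L719542 q18709, e3 q20375 L719551 q18484, e3 q20376 L719572 q18524, e3 q20377 L719588 q19561, e3 q20378 L719608 q18517, e3 q20379 L719625 q18515, e3 q20380 L719642 q18504, e3 q20381 (flp_e L737271) q22046, e3 q20382 L719674 q18536, e3 q20383 L719688 q18525,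 e3 q20384 L719702 q18523, e3 q20385 L719718 q18512, e3 q20386 L719741 q18559, e3 q20387 L719758 q18589, e3 q20388 (flp_e L737253) q22045, e3 q20389 L719783 q18547, e3 q20390 (flp_e L737233) q22044, e3 q20391 L719810 q18533, e3 q20392 L719820 q18520, e3 q20393 L719832 q19559, e3 q20394 L719852 q18635, e3 q20395 (flp_e L737213) q22043, e3 q20396 L737411 q22055, e3 q20397 L719892 q18537, e3 q20398 L719904 q18588, e3 q20399 L719923 q19571, e3 q20400 L719929 q18591, e3 q20401 L719957 q19573, e3 q20402 (flp_e L719959) q18531, e3 q20403 (flp_e L737374) q22052, e3 q20404 L719996 q19565, e3 q20405 L720011 q18541, e3 q20406 (flp_e L737289) q22047, e3 q20407 L720041 q18725, e3 q20408 L720058 q18553, e3 q20409 (flp_e L737471) q22058, e3 q20410 L720083 q18549, e3 q20411 L720101 q18544, e3 q20412 (flp_e L737558) q22063, e3 q20413 L720125 q18546, e3 q20414 (flp_e L737345) q22050, e3 q20415 L720147 q19639, trivial⟩ (by decide +kernel)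

theorem ce_e_319 : ∀ r, r < 64 → sm ge (Qf (20416 + r)) = Qf (tab Gen.e (20416 + r)) :=
  edges_tab (sm ge) Qf (tab Gen.e) 20416 [(20416, 22062), (20417, 18566), (20418, 18552), (20419, 22061), (20420, 18555), (20421, 22069), (20422, 22049), (20423, 20423), (20424, 18592), (20425, 22072), (20426, 18563), (20427, 21709), (20428, 19629), (20429, 22066), (20430, 18568), (20431, 19548), (20432, 18571), (20433, 22077), (20434, 19266), (20435, 22053), (20436, 18575), (20437, 18578), (20438, 22070), (20439, 22048), (20440, 19551), (20441, 18582), (20442, 22083), (20443, 19568), (20444, 22086), (20445, 18585), (20446, 19569), (20447, 19564), (20448, 22057), (20449, 18594), (20450, 19575), (20451, 18905), (20452, 22088), (20453, 18909), (20454, 18606), (20455, 22090), (20456, 18675), (20457, 21746), (20458, 22093), (20459, 19000), (20460, 22095), (20461, 18613), (20462, 22098), (20463, 18654), (20464, 18652), (20465, 22097), (20466, 18619), (20467, 22103), (20468, 19696), (20469, 18622), (20470, 22106), (20471, 18919), (20472, 18624),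 (20473, 22108), (20474, 18626), (20475, 22110), (20476, 18631), (20477, 18628), (20478, 22113), (20479, 18676)]
    ⟨e3 q20416 (flp_e L737540) q22062, e3 q20417 L720175 q18566, e3 q20418 L720189 q18552, e3 q20419 (flp_e L737522) q22061, e3 q20420 L720209 q18555, e3 q20421 L737631 q22069, e3 q20422 (flp_e L737333) q22049, e3 q20423 L720238 q20423, e3 q20424 L720250 q18592, e3 q20425 L737673 q22072, e3 q20426 (flp_e L720271) q18563, e3 q20427 (flp_e L732615) q21709, e3 q20428 L720303 q19629, e3 q20429 (flp_e L737598) q22066, e3 q20430 L720331 q18568, e3 q20431 L720347 q19548, e3 q20432 L720363 q18571, e3 q20433 L737742 q22077, e3 q20434 L720382 q19266, e3 q20435 (flp_e L737390) q22053, e3 q20436 L720399 q18575, e3 q20437 L720409 q18578, e3 q20438 (flp_e L737647) q22070, e3 q20439 (flp_e L737315) q22048, e3 q20440 L720441 q19551, e3 q20441 L720459 q18582, e3 q20442 L737808 q22083, e3 q20443 L720485 q19568, e3 q20444 L737842 q22086, e3 q20445 (flp_e L720496) q18585, e3 q20446 L720504 q19569, e3 q20447 L720520 q19564, e3 q20448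 (flp_e L737449) q22057, e3 q20449 L720532 q18594, e3 q20450 L720547 q19575, e3 q20451 L720561 q18905, e3 q20452 L737859 q22088, e3 q20453 L720593 q18909, e3 q20454 (flp_e L720603) q18606, e3 q20455 (flp_e L737901) q22090, e3 q20456 L720639 q18675, e3 q20457 (flp_e L733218) q21746, e3 q20458 L737935 q22093, e3 q20459 L720678 q19000, e3 q20460 L737969 q22095, e3 q20461 (flp_e L720703) q18613, e3 q20462 (flp_e L738026) q22098, e3 q20463 L720735 q18654, e3 q20464 L720750 q18652, e3 q20465 (flp_e L738014) q22097, e3 q20466 L720780 q18619, e3 q20467 (flp_e L738099) q22103, e3 q20468 L720804 q19696, e3 q20469 L720818 q18622, e3 q20470 L738137 q22106, e3 q20471 L720848 q18919, e3 q20472 (flp_e L720858) q18624, e3 q20473 (flp_e L738179) q22108, e3 q20474 (flp_e L720882) q18626, e3 q20475 (flp_e L738205) q22110, e3 q20476 L720922 q18631, e3 q20477 L720932 q18628, e3 q20478 (flp_e L738247) q22113, e3 q20479 L720952 q18676, trivial⟩ (by decide +kernel)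

theorem ce_e_320 : ∀ r, r < 64 → sm ge (Qf (20480 + r)) = Qf (tab Gen.e (20480 + r)) :=
  edges_tab (sm ge) Qf (tab Gen.e) 20480 [(20480, 18674), (20481, 22112), (20482, 18633), (20483, 19279), (20484, 19640), (20485, 18774), (20486, 18931), (20487, 18779), (20488, 18983), (20489, 18875), (20490, 22119), (20491, 18645), (20492, 22122), (20493, 18647), (20494, 22124), (20495, 22126), (20496, 18649), (20497, 22129), (20498, 18655), (20499, 18651), (20500, 22133), (20501, 22101), (20502, 21729), (20503, 22100), (20504, 22131), (20505, 22132), (20506, 18657), (20507, 21737), (20508, 18660), (20509, 22140), (20510, 18714), (20511, 18715), (20512, 18828), (20513, 18664), (20514, 22144), (20515, 18667), (20516, 22146), (20517, 18668), (20518, 22147), (20519, 18699), (20520, 18670), (20521, 22150), (20522, 18677), (20523, 18678), (20524, 18673), (20525, 22092), (20526, 22156), (20527, 22152), (20528, 22153), (20529, 18862), (20530, 19697), (20531, 18682), (20532, 19695), (20533, 18723), (20534, 18726), (20535, 18686), (20536, 18724),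 (20537, 19698), (20538, 18873), (20539, 18986), (20540, 22164), (20541, 18879), (20542, 19716), (20543, 21904)]
    ⟨e3 q20480 L720966 q18674, e3 q20481 (flp_e L738235) q22112, e3 q20482 L720994 q18633, e3 q20483 L721008 q19279, e3 q20484 L721026 q19640, e3 q20485 L721038 q18774, e3 q20486 L721050 q18931, e3 q20487 L721072 q18779, e3 q20488 L721082 q18983, e3 q20489 L721104 q18875, e3 q20490 L738327 q22119, e3 q20491 (flp_e L721116) q18645, e3 q20492 (flp_e L738368) q22122, e3 q20493 (flp_e L721139) q18647, e3 q20494 (flp_e L738389) q22124, e3 q20495 L738409 q22126, e3 q20496 (flp_e L721174) q18649, e3 q20497 (flp_e L738457) q22129, e3 q20498 L721195 q18655, e3 q20499 L721199 q18651, e3 q20500 (flp_e L738497) q22133, e3 q20501 (flp_e L738068) q22101, e3 q20502 (flp_e L732950) q21729, e3 q20503 (flp_e L738050) q22100, e3 q20504 (flp_e L738481) q22131, e3 q20505 (flp_e L738491) q22132, e3 q20506 L721266 q18657, e3 q20507 (flp_e L733067) q21737, e3 q20508 L721288 q18660, e3 q20509 L738569 q22140, e3 q20510 L721312 q18714, e3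 q20511 L721326 q18715, e3 q20512 L721336 q18828, e3 q20513 (flp_e L721339) q18664, e3 q20514 (flp_e L738638) q22144, e3 q20515 L721373 q18667, e3 q20516 (flp_e L738664) q22146, e3 q20517 (flp_e L721385) q18668, e3 q20518 (flp_e L738674) q22147, e3 q20519 L721421 q18699, e3 q20520 L721429 q18670, e3 q20521 (flp_e L738712) q22150, e3 q20522 L721449 q18677, e3 q20523 L721459 q18678, e3 q20524 L721465 q18673, e3 q20525 (flp_e L737927) q22092, e3 q20526 L738772 q22156, e3 q20527 (flp_e L738734) q22152, e3 q20528 (flp_e L738744) q22153, e3 q20529 L721505 q18862, e3 q20530 L721515 q19697, e3 q20531 L721527 q18682, e3 q20532 L721539 q19695, e3 q20533 L721553 q18723, e3 q20534 L721565 q18726, e3 q20535 (flp_e L721571) q18686, e3 q20536 L721589 q18724, e3 q20537 L721601 q19698, e3 q20538 L721611 q18873, e3 q20539 L721629 q18986, e3 q20540 L738884 q22164, e3 q20541 L721647 q18879, e3 q20542 L721671 q19716, e3 q20543 (flp_e L735464) q21904, trivial⟩ (by decide +kernel)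

theorem ce_e_321 : ∀ r, r < 64 → sm ge (Qf (20544 + r)) = Qf (tab Gen.e (20544 + r)) :=
  edges_tab (sm ge) Qf (tab Gen.e) 20544 [(20544, 22149), (20545, 18701), (20546, 22168), (20547, 19715), (20548, 18704), (20549, 21702), (20550, 18711), (20551, 22170), (20552, 22141), (20553, 18716), (20554, 22172), (20555, 22174), (20556, 18718), (20557, 22177), (20558, 18720), (20559, 22179), (20560, 19684), (20561, 18736), (20562, 22160), (20563, 22060), (20564, 22139), (20565, 22182), (20566, 18731), (20567, 22184), (20568, 18728), (20569, 22187), (20570, 22189), (20571, 18730), (20572, 22191), (20573, 22193), (20574, 18732), (20575, 22197), (20576, 18740), (20577, 18734), (20578, 22200), (20579, 18763), (20580, 22180), (20581, 18758), (20582, 22196), (20583, 18739), (20584, 22204), (20585, 22199), (20586, 18742), (20587, 19613), (20588, 18745), (20589, 22209), (20590, 22105), (20591, 18747), (20592, 22211), (20593, 18749), (20594, 22213), (20595, 18759), (20596, 18751), (20597, 22217), (20598, 22215), (20599, 18752), (20600, 22219),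 (20601, 18764), (20602, 18754), (20603, 22222), (20604, 18767), (20605, 18757), (20606, 22202), (20607, 22216)]
    ⟨e3 q20544 (flp_e L738700) q22149, e3 q20545 L721708 q18701, e3 q20546 L738933 q22168, e3 q20547 L721739 q19715, e3 q20548 (flp_e L721741) q18704, e3 q20549 (flp_e L732489) q21702, e3 q20550 (flp_e L721772) q18711, e3 q20551 (flp_e L738963) q22170, e3 q20552 (flp_e L738592) q22141, e3 q20553 (flp_e L721812) q18716, e3 q20554 (flp_e L738991) q22172, e3 q20555 L739007 q22174, e3 q20556 (flp_e L721851) q18718, e3 q20557 (flp_e L739059) q22177, e3 q20558 L721878 q18720, e3 q20559 (flp_e L739079) q22179, e3 q20560 L721896 q19684, e3 q20561 L721911 q18736, e3 q20562 (flp_e L738830) q22160, e3 q20563 (flp_e L737502) q22060, e3 q20564 (flp_e L738566) q22139, e3 q20565 L739108 q22182, e3 q20566 L721970 q18731, e3 q20567 L739139 q22184, e3 q20568 (flp_e L721993) q18728, e3 q20569 (flp_e L739188) q22187, e3 q20570 L739205 q22189, e3 q20571 (flp_e L722029) q18730, e3 q20572 (flp_e L739240) q22191, e3 q20573 L739254 q22193,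 e3 q20574 (flp_e L722062) q18732, e3 q20575 (flp_e L739320) q22197, e3 q20576 L722089 q18740, e3 q20577 L722095 q18734, e3 q20578 (flp_e L739348) q22200, e3 q20579 L722118 q18763, e3 q20580 (flp_e L739091) q22180, e3 q20581 L722141 q18758, e3 q20582 (flp_e L739310) q22196, e3 q20583 L722173 q18739, e3 q20584 (flp_e L739410) q22204, e3 q20585 (flp_e L739340) q22199, e3 q20586 L722200 q18742, e3 q20587 L722214 q19613, e3 q20588 L722228 q18745, e3 q20589 L739461 q22209, e3 q20590 (flp_e L738134) q22105, e3 q20591 (flp_e L722252) q18747, e3 q20592 (flp_e L739497) q22211, e3 q20593 (flp_e L722272) q18749, e3 q20594 (flp_e L739517) q22213, e3 q20595 L722302 q18759, e3 q20596 L722310 q18751, e3 q20597 (flp_e L739567) q22217, e3 q20598 (flp_e L739541) q22215, e3 q20599 (flp_e L722338) q18752, e3 q20600 (flp_e L739593) q22219, e3 q20601 L722362 q18764, e3 q20602 L722370 q18754, e3 q20603 (flp_e L739621) q22222, e3 q20604 L722390 q18767, e3 q20605 L722398 q18757, e3 q20606 (flp_e L739378) q22202, e3 q20607 (flp_e L739557) q22216, trivial⟩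 (by decide +kernel)

theorem ce_e_322 : ∀ r, r < 64 → sm ge (Qf (20608 + r)) = Qf (tab Gen.e (20608 + r)) :=
  edges_tab (sm ge) Qf (tab Gen.e) 20608 [(20608, 18761), (20609, 18812), (20610, 22201), (20611, 22221), (20612, 18766), (20613, 22231), (20614, 22224), (20615, 22116), (20616, 19599), (20617, 18771), (20618, 22235), (20619, 22237), (20620, 18773), (20621, 19615), (20622, 19059), (20623, 19060), (20624, 22240), (20625, 18897), (20626, 19199), (20627, 22015), (20628, 18784), (20629, 19200), (20630, 22242), (20631, 20631), (20632, 22244), (20633, 18792), (20634, 19592), (20635, 18794), (20636, 22246), (20637, 18796), (20638, 22249), (20639, 22251), (20640, 18798), (20641, 22255), (20642, 20642), (20643, 18800), (20644, 22258), (20645, 18801), (20646, 22259), (20647, 18803), (20648, 22262), (20649, 18813), (20650, 18805), (20651, 22265), (20652, 18806), (20653, 22267), (20654, 20654), (20655, 18817), (20656, 18808), (20657, 22272), (20658, 18820), (20659, 18821), (20660, 18811), (20661, 22227), (20662, 22264), (20663,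 18815), (20664, 19586), (20665, 22271), (20666, 18819), (20667, 22283), (20668, 22274), (20669, 22275), (20670, 22138), (20671, 22287)]
    ⟨e3 q20608 L722430 q18761, e3 q20609 L722446 q18812, e3 q20610 (flp_e L739362) q22201, e3 q20611 (flp_e L739611) q22221, e3 q20612 L722473 q18766, e3 q20613 L739704 q22231, e3 q20614 (flp_e L739639) q22224, e3 q20615 (flp_e L738293) q22116, e3 q20616 L722507 q19599, e3 q20617 L722519 q18771, e3 q20618 L739754 q22235, e3 q20619 L739785 q22237, e3 q20620 (flp_e L722540) q18773, e3 q20621 L722552 q19615, e3 q20622 L722565 q19059, e3 q20623 L722580 q19060, e3 q20624 L739828 q22240, e3 q20625 L722598 q18897, e3 q20626 L722615 q19199, e3 q20627 (flp_e L736872) q22015, e3 q20628 L722645 q18784, e3 q20629 L722658 q19200, e3 q20630 L739846 q22242, e3 q20631 L722683 q20631, e3 q20632 L739867 q22244, e3 q20633 (flp_e L722698) q18792, e3 q20634 (flp_e L722720) q19592, e3 q20635 (flp_e L722722) q18794, e3 q20636 L739891 q22246, e3 q20637 (flp_e L722746) q18796, e3 q20638 (flp_e L739932) q22249, e3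 q20639 L739949 q22251, e3 q20640 (flp_e L722779) q18798, e3 q20641 (flp_e L739989) q22255, e3 q20642 L722803 q20642, e3 q20643 L722812 q18800, e3 q20644 (flp_e L740017) q22258, e3 q20645 (flp_e L722825) q18801, e3 q20646 (flp_e L740029) q22259, e3 q20647 (flp_e L722849) q18803, e3 q20648 (flp_e L740068) q22262, e3 q20649 L722878 q18813, e3 q20650 L722882 q18805, e3 q20651 (flp_e L740096) q22265, e3 q20652 (flp_e L722894) q18806, e3 q20653 (flp_e L740125) q22267, e3 q20654 L722929 q20654, e3 q20655 L722938 q18817, e3 q20656 L722944 q18808, e3 q20657 (flp_e L740177) q22272, e3 q20658 L722964 q18820, e3 q20659 L722972 q18821, e3 q20660 L722978 q18811, e3 q20661 (flp_e L739669) q22227, e3 q20662 (flp_e L740088) q22264, e3 q20663 L723009 q18815, e3 q20664 L723025 q19586, e3 q20665 (flp_e L740169) q22271, e3 q20666 L723049 q18819, e3 q20667 L740287 q22283, e3 q20668 (flp_e L740198) q22274, e3 q20669 (flp_e L740206) q22275, e3 q20670 (flp_e L738551) q22138, e3 q20671 L740316 q22287, trivial⟩ (by decide +kernel)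

theorem ce_e_323 : ∀ r, r < 64 → sm ge (Qf (20672 + r)) = Qf (tab Gen.e (20672 + r)) :=
  edges_tab (sm ge) Qf (tab Gen.e) 20672 [(20672, 22234), (20673, 18825), (20674, 19315), (20675, 19321), (20676, 22143), (20677, 21730), (20678, 18830), (20679, 22290), (20680, 18883), (20681, 18846), (20682, 18832), (20683, 22295), (20684, 18849), (20685, 18835), (20686, 18836), (20687, 22300), (20688, 18889), (20689, 18852), (20690, 18838), (20691, 22306), (20692, 20692), (20693, 18892), (20694, 18893), (20695, 18855), (20696, 18856), (20697, 18842), (20698, 22315), (20699, 18859), (20700, 18860), (20701, 18861), (20702, 22154), (20703, 22294), (20704, 18848), (20705, 22233), (20706, 22297), (20707, 22114), (20708, 19598), (20709, 22305), (20710, 18854), (20711, 22325), (20712, 22312), (20713, 22313), (20714, 22329), (20715, 18858), (20716, 22316), (20717, 22317), (20718, 22334), (20719, 22159), (20720, 22336), (20721, 18865), (20722, 19700), (20723, 19630), (20724, 22208), (20725, 18868), (20726, 19702), (20727, 19690), (20728, 19683),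 (20729, 22338), (20730, 22340), (20731, 22342), (20732, 18878), (20733, 19719), (20734, 18899), (20735, 22292)]
    ⟨e3 q20672 L739752 q22234, e3 q20673 (flp_e L723107) q18825, e3 q20674 L723114 q19315, e3 q20675 L723126 q19321, e3 q20676 (flp_e L738619) q22143, e3 q20677 (flp_e L732971) q21730, e3 q20678 L723144 q18830, e3 q20679 (flp_e L740352) q22290, e3 q20680 L723164 q18883, e3 q20681 L723174 q18846, e3 q20682 L723182 q18832, e3 q20683 (flp_e L740413) q22295, e3 q20684 L723202 q18849, e3 q20685 L723210 q18835, e3 q20686 (flp_e L723214) q18836, e3 q20687 (flp_e L740465) q22300, e3 q20688 L723252 q18889, e3 q20689 L723266 q18852, e3 q20690 L723274 q18838, e3 q20691 (flp_e L740546) q22306, e3 q20692 L723298 q20692, e3 q20693 L723303 q18892, e3 q20694 L723313 q18893, e3 q20695 L723321 q18855, e3 q20696 L723329 q18856, e3 q20697 L723337 q18842, e3 q20698 L740620 q22315, e3 q20699 L723353 q18859, e3 q20700 L723361 q18860, e3 q20701 L723369 q18861, e3 q20702 (flp_e L738752) q22154, e3 q20703 (flp_e L740401) q22294, e3 q20704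 L723396 q18848, e3 q20705 (flp_e L739728) q22233, e3 q20706 (flp_e L740431) q22297, e3 q20707 (flp_e L738263) q22114, e3 q20708 L723436 q19598, e3 q20709 (flp_e L740534) q22305, e3 q20710 L723465 q18854, e3 q20711 L740714 q22325, e3 q20712 (flp_e L740602) q22312, e3 q20713 (flp_e L740612) q22313, e3 q20714 L740746 q22329, e3 q20715 (flp_e L723505) q18858, e3 q20716 (flp_e L740630) q22316, e3 q20717 (flp_e L740638) q22317, e3 q20718 L740781 q22334, e3 q20719 (flp_e L738810) q22159, e3 q20720 L740793 q22336, e3 q20721 (flp_e L723548) q18865, e3 q20722 L723562 q19700, e3 q20723 L723574 q19630, e3 q20724 (flp_e L739458) q22208, e3 q20725 (flp_e L723582) q18868, e3 q20726 L723593 q19702, e3 q20727 L723597 q19690, e3 q20728 L723611 q19683, e3 q20729 L740819 q22338, e3 q20730 L740840 q22340, e3 q20731 L740859 q22342, e3 q20732 (flp_e L723639) q18878, e3 q20733 L723647 q19719, e3 q20734 L723654 q18899, e3 q20735 (flp_e L740377) q22292, trivial⟩ (by decide +kernel)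

theorem ce_e_324 : ∀ r, r < 64 → sm ge (Qf (20736 + r)) = Qf (tab Gen.e (20736 + r)) :=
  edges_tab (sm ge) Qf (tab Gen.e) 20736 [(20736, 22293), (20737, 18885), (20738, 22346), (20739, 22299), (20740, 18888), (20741, 22348), (20742, 22303), (20743, 22304), (20744, 18891), (20745, 22352), (20746, 22310), (20747, 22311), (20748, 22356), (20749, 18895), (20750, 19930), (20751, 22357), (20752, 18902), (20753, 19720), (20754, 18908), (20755, 22358), (20756, 18910), (20757, 22360), (20758, 18912), (20759, 22362), (20760, 19230), (20761, 21902), (20762, 19176), (20763, 19189), (20764, 18918), (20765, 22365), (20766, 18921), (20767, 22367), (20768, 18927), (20769, 18924), (20770, 18926), (20771, 22368), (20772, 19056), (20773, 19061), (20774, 22372), (20775, 18933), (20776, 22374), (20777, 18935), (20778, 22376), (20779, 20779), (20780, 18937), (20781, 22379), (20782, 18938), (20783, 22381), (20784, 18945), (20785, 18941), (20786, 22384), (20787, 18948), (20788, 18944), (20789, 22383), (20790, 18947), (20791, 22385), (20792, 19118),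 (20793, 18951), (20794, 22390), (20795, 20795), (20796, 18953), (20797, 22393), (20798, 18955), (20799, 22394)]
    ⟨e3 q20736 (flp_e L740391) q22293, e3 q20737 L723695 q18885, e3 q20738 L740895 q22346, e3 q20739 (flp_e L740457) q22299, e3 q20740 L723731 q18888, e3 q20741 (flp_e L740925) q22348, e3 q20742 (flp_e L740506) q22303, e3 q20743 (flp_e L740520) q22304, e3 q20744 L723782 q18891, e3 q20745 L740968 q22352, e3 q20746 (flp_e L740586) q22310, e3 q20747 (flp_e L740594) q22311, e3 q20748 L741007 q22356, e3 q20749 (flp_e L723824) q18895, e3 q20750 L723833 q19930, e3 q20751 (flp_e L741017) q22357, e3 q20752 L723852 q18902, e3 q20753 L723869 q19720, e3 q20754 (flp_e L723880) q18908, e3 q20755 (flp_e L741025) q22358, e3 q20756 (flp_e L723902) q18910, e3 q20757 (flp_e L741053) q22360, e3 q20758 L723937 q18912, e3 q20759 (flp_e L741079) q22362, e3 q20760 L723964 q19230, e3 q20761 (flp_e L735433) q21902, e3 q20762 L723990 q19176, e3 q20763 L724009 q19189, e3 q20764 (flp_e L724012) q18918, e3 q20765 (flp_e L741121) q22365, e3 q20766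 L724043 q18921, e3 q20767 (flp_e L741148) q22367, e3 q20768 L724067 q18927, e3 q20769 L724077 q18924, e3 q20770 L724089 q18926, e3 q20771 (flp_e L741160) q22368, e3 q20772 L724114 q19056, e3 q20773 L724128 q19061, e3 q20774 L741201 q22372, e3 q20775 (flp_e L724137) q18933, e3 q20776 (flp_e L741225) q22374, e3 q20777 (flp_e L724154) q18935, e3 q20778 (flp_e L741246) q22376, e3 q20779 L724181 q20779, e3 q20780 L724188 q18937, e3 q20781 (flp_e L741272) q22379, e3 q20782 (flp_e L724201) q18938, e3 q20783 (flp_e L741297) q22381, e3 q20784 L724236 q18945, e3 q20785 L724244 q18941, e3 q20786 (flp_e L741336) q22384, e3 q20787 L724268 q18948, e3 q20788 L724278 q18944, e3 q20789 (flp_e L741324) q22383, e3 q20790 L724301 q18947, e3 q20791 (flp_e L741348) q22385, e3 q20792 L724328 q19118, e3 q20793 (flp_e L724331) q18951, e3 q20794 (flp_e L741411) q22390, e3 q20795 L724370 q20795, e3 q20796 L724373 q18953, e3 q20797 (flp_e L741447) q22393, e3 q20798 L724398 q18955, e3 q20799 (flp_e L741461) q22394, trivial⟩ (by decide +kernel)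

theorem ce_e_325 : ∀ r, r < 64 → sm ge (Qf (20800 + r)) = Qf (tab Gen.e (20800 + r)) :=
  edges_tab (sm ge) Qf (tab Gen.e) 20800 [(20800, 18969), (20801, 18958), (20802, 18960), (20803, 22397), (20804, 18992), (20805, 18972), (20806, 18964), (20807, 18974), (20808, 18975), (20809, 18976), (20810, 19159), (20811, 22395), (20812, 19171), (20813, 22399), (20814, 22401), (20815, 22402), (20816, 22409), (20817, 19185), (20818, 19009), (20819, 21903), (20820, 19589), (20821, 22412), (20822, 19706), (20823, 22414), (20824, 22415), (20825, 18987), (20826, 21907), (20827, 22398), (20828, 18993), (20829, 22416), (20830, 18996), (20831, 22418), (20832, 21871), (20833, 18999), (20834, 22419), (20835, 19001), (20836, 22421), (20837, 19003), (20838, 22423), (20839, 20839), (20840, 19005), (20841, 22425), (20842, 19007), (20843, 21858), (20844, 21961), (20845, 19012), (20846, 22430), (20847, 19014), (20848, 22433), (20849, 20849), (20850, 19016), (20851, 22436), (20852, 19017), (20853, 22438), (20854, 19024), (20855, 19020), (20856, 22442),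 (20857, 19027), (20858, 19023), (20859, 22440), (20860, 22441), (20861, 19026), (20862, 22443), (20863, 19771)]
    ⟨e3 q20800 L724424 q18969, e3 q20801 L724432 q18958, e3 q20802 L724444 q18960, e3 q20803 (flp_e L741491) q22397, e3 q20804 L724476 q18992, e3 q20805 L724494 q18972, e3 q20806 L724506 q18964, e3 q20807 L724520 q18974, e3 q20808 L724528 q18975, e3 q20809 L724536 q18976, e3 q20810 L724544 q19159, e3 q20811 (flp_e L741473) q22395, e3 q20812 L724561 q19171, e3 q20813 (flp_e L741525) q22399, e3 q20814 (flp_e L741551) q22401, e3 q20815 (flp_e L741561) q22402, e3 q20816 L741619 q22409, e3 q20817 L724609 q19185, e3 q20818 L724627 q19009, e3 q20819 (flp_e L735452) q21903, e3 q20820 L724646 q19589, e3 q20821 L741646 q22412, e3 q20822 L724669 q19706, e3 q20823 L741666 q22414, e3 q20824 L741673 q22415, e3 q20825 (flp_e L724694) q18987, e3 q20826 (flp_e L735511) q21907, e3 q20827 (flp_e L741507) q22398, e3 q20828 (flp_e L724725) q18993, e3 q20829 (flp_e L741690) q22416, e3 q20830 L724757 q18996, e3 q20831 (flp_e L741716)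 q22418, e3 q20832 (flp_e L734977) q21871, e3 q20833 (flp_e L724786) q18999, e3 q20834 (flp_e L741726) q22419, e3 q20835 (flp_e L724807) q19001, e3 q20836 (flp_e L741749) q22421, e3 q20837 L724832 q19003, e3 q20838 (flp_e L741769) q22423, e3 q20839 L724850 q20839, e3 q20840 L724857 q19005, e3 q20841 (flp_e L741786) q22425, e3 q20842 L724873 q19007, e3 q20843 (flp_e L734791) q21858, e3 q20844 (flp_e L736201) q21961, e3 q20845 (flp_e L724893) q19012, e3 q20846 (flp_e L741836) q22430, e3 q20847 (flp_e L724922) q19014, e3 q20848 (flp_e L741880) q22433, e3 q20849 L724957 q20849, e3 q20850 L724964 q19016, e3 q20851 (flp_e L741912) q22436, e3 q20852 (flp_e L724977) q19017, e3 q20853 (flp_e L741941) q22438, e3 q20854 L725018 q19024, e3 q20855 L725026 q19020, e3 q20856 (flp_e L741992) q22442, e3 q20857 L725050 q19027, e3 q20858 L725060 q19023, e3 q20859 (flp_e L741970) q22440, e3 q20860 (flp_e L741980) q22441, e3 q20861 L725093 q19026, e3 q20862 (flp_e L742004) q22443, e3 q20863 L725118 q19771, trivial⟩ (by decide +kernel)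

theorem ce_e_326 : ∀ r, r < 64 → sm ge (Qf (20864 + r)) = Qf (tab Gen.e (20864 + r)) :=
  edges_tab (sm ge) Qf (tab Gen.e) 20864 [(20864, 19405), (20865, 19030), (20866, 22451), (20867, 20867), (20868, 19032), (20869, 22454), (20870, 19067), (20871, 19046), (20872, 19034), (20873, 22459), (20874, 19049), (20875, 19050), (20876, 19037), (20877, 19071), (20878, 19039), (20879, 22465), (20880, 20880), (20881, 19073), (20882, 19074), (20883, 19053), (20884, 19043), (20885, 19055), (20886, 22369), (20887, 22457), (20888, 22458), (20889, 19048), (20890, 22460), (20891, 22461), (20892, 22370), (20893, 22470), (20894, 19852), (20895, 22483), (20896, 21828), (20897, 19375), (20898, 22238), (20899, 22486), (20900, 19999), (20901, 22487), (20902, 19062), (20903, 19065), (20904, 22456), (20905, 21938), (20906, 19070), (20907, 22463), (20908, 22464), (20909, 22468), (20910, 22469), (20911, 19075), (20912, 22493), (20913, 22495), (20914, 19077), (20915, 22498), (20916, 20916), (20917, 19079), (20918, 22502), (20919, 22503), (20920, 19080),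 (20921, 22507), (20922, 19244), (20923, 20923), (20924, 19082), (20925, 22514), (20926, 20926), (20927, 20927)]
    ⟨e3 q20864 L725125 q19405, e3 q20865 (flp_e L725133) q19030, e3 q20866 (flp_e L742099) q22451, e3 q20867 L725168 q20867, e3 q20868 L725173 q19032, e3 q20869 (flp_e L742135) q22454, e3 q20870 L725196 q19067, e3 q20871 L725212 q19046, e3 q20872 L725222 q19034, e3 q20873 (flp_e L742200) q22459, e3 q20874 L725246 q19049, e3 q20875 L725252 q19050, e3 q20876 L725262 q19037, e3 q20877 L725274 q19071, e3 q20878 L725282 q19039, e3 q20879 (flp_e L742262) q22465, e3 q20880 L725308 q20880, e3 q20881 L725315 q19073, e3 q20882 L725329 q19074, e3 q20883 L725339 q19053, e3 q20884 L725349 q19043, e3 q20885 L725359 q19055, e3 q20886 (flp_e L741174) q22369, e3 q20887 (flp_e L742174) q22457, e3 q20888 (flp_e L742186) q22458, e3 q20889 L725402 q19048, e3 q20890 (flp_e L742210) q22460, e3 q20891 (flp_e L742218) q22461, e3 q20892 (flp_e L741187) q22370, e3 q20893 (flp_e L742320) q22470, e3 q20894 L725453 q19852, e3 q20895 L742446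 q22483, e3 q20896 L734391 q21828, e3 q20897 L725476 q19375, e3 q20898 (flp_e L739807) q22238, e3 q20899 L742470 q22486, e3 q20900 L725506 q19999, e3 q20901 L742477 q22487, e3 q20902 (flp_e L725521) q19062, e3 q20903 L725534 q19065, e3 q20904 (flp_e L742162) q22456, e3 q20905 L735895 q21938, e3 q20906 L725575 q19070, e3 q20907 (flp_e L742232) q22463, e3 q20908 (flp_e L742252) q22464, e3 q20909 (flp_e L742300) q22468, e3 q20910 (flp_e L742310) q22469, e3 q20911 (flp_e L725629) q19075, e3 q20912 (flp_e L742558) q22493, e3 q20913 L742578 q22495, e3 q20914 (flp_e L725668) q19077, e3 q20915 (flp_e L742628) q22498, e3 q20916 L725695 q20916, e3 q20917 L725700 q19079, e3 q20918 (flp_e L742661) q22502, e3 q20919 L742665 q22503, e3 q20920 (flp_e L725720) q19080, e3 q20921 (flp_e L742721) q22507, e3 q20922 L725745 q19244, e3 q20923 L725751 q20923, e3 q20924 L725756 q19082, e3 q20925 (flp_e L742798) q22514, e3 q20926 L725773 q20926, e3 q20927 L725782 q20927, trivial⟩ (by decide +kernel)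

theorem ce_e_327 : ∀ r, r < 64 → sm ge (Qf (20928 + r)) = Qf (tab Gen.e (20928 + r)) :=
  edges_tab (sm ge) Qf (tab Gen.e) 20928 [(20928, 19085), (20929, 19086), (20930, 22519), (20931, 20931), (20932, 19088), (20933, 22523), (20934, 19089), (20935, 22524), (20936, 19105), (20937, 19091), (20938, 22528), (20939, 19108), (20940, 19109), (20941, 19094), (20942, 19250), (20943, 19096), (20944, 22534), (20945, 19900), (20946, 19252), (20947, 19253), (20948, 19112), (20949, 19113), (20950, 19100), (20951, 19115), (20952, 19116), (20953, 19117), (20954, 22386), (20955, 21994), (20956, 22526), (20957, 22527), (20958, 19107), (20959, 22529), (20960, 22530), (20961, 22531), (20962, 22388), (20963, 22505), (20964, 22539), (20965, 22540), (20966, 19348), (20967, 22542), (20968, 22543), (20969, 22559), (20970, 19514), (20971, 19856), (20972, 19857), (20973, 19859), (20974, 21888), (20975, 19462), (20976, 19522), (20977, 19127), (20978, 22564), (20979, 19212), (20980, 20980), (20981, 19129), (20982, 22569), (20983, 20983), (20984, 20984),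 (20985, 19132), (20986, 19133), (20987, 22574), (20988, 19216), (20989, 19161), (20990, 19135), (20991, 22579)]
    ⟨e3 q20928 L725787 q19085, e3 q20929 (flp_e L725791) q19086, e3 q20930 (flp_e L742839) q22519, e3 q20931 L725824 q20931, e3 q20932 L725827 q19088, e3 q20933 (flp_e L742880) q22523, e3 q20934 (flp_e L725842) q19089, e3 q20935 (flp_e L742896) q22524, e3 q20936 L725878 q19105, e3 q20937 L725888 q19091, e3 q20938 (flp_e L742952) q22528, e3 q20939 L725908 q19108, e3 q20940 L725914 q19109, e3 q20941 L725922 q19094, e3 q20942 L725938 q19250, e3 q20943 L725944 q19096, e3 q20944 (flp_e L743010) q22534, e3 q20945 L725968 q19900, e3 q20946 L725974 q19252, e3 q20947 L725988 q19253, e3 q20948 L726002 q19112, e3 q20949 L726014 q19113, e3 q20950 L726024 q19100, e3 q20951 L726032 q19115, e3 q20952 L726040 q19116, e3 q20953 L726048 q19117, e3 q20954 (flp_e L741362) q22386, e3 q20955 (flp_e L736606) q21994, e3 q20956 (flp_e L742924) q22526, e3 q20957 (flp_e L742940) q22527, e3 q20958 L726106 q19107, e3 q20959 (flp_e L742964)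 q22529, e3 q20960 (flp_e L742972) q22530, e3 q20961 (flp_e L742978) q22531, e3 q20962 (flp_e L741387) q22388, e3 q20963 (flp_e L742700) q22505, e3 q20964 (flp_e L743074) q22539, e3 q20965 (flp_e L743086) q22540, e3 q20966 L726195 q19348, e3 q20967 (flp_e L743104) q22542, e3 q20968 (flp_e L743112) q22543, e3 q20969 L743282 q22559, e3 q20970 L726225 q19514, e3 q20971 L726244 q19856, e3 q20972 L726257 q19857, e3 q20973 L726265 q19859, e3 q20974 (flp_e L735242) q21888, e3 q20975 L726281 q19462, e3 q20976 L726297 q19522, e3 q20977 (flp_e L726307) q19127, e3 q20978 (flp_e L743346) q22564, e3 q20979 L726340 q19212, e3 q20980 L726350 q20980, e3 q20981 L726355 q19129, e3 q20982 (flp_e L743403) q22569, e3 q20983 L726372 q20983, e3 q20984 L726377 q20984, e3 q20985 L726384 q19132, e3 q20986 (flp_e L726390) q19133, e3 q20987 (flp_e L743454) q22574, e3 q20988 L726430 q19216, e3 q20989 L726442 q19161, e3 q20990 L726448 q19135, e3 q20991 (flp_e L743523) q22579, trivial⟩ (by decide +kernel)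

theorem ce_e_328 : ∀ r, r < 64 → sm ge (Qf (20992 + r)) = Qf (tab Gen.e (20992 + r)) :=
  edges_tab (sm ge) Qf (tab Gen.e) 20992 [(20992, 20992), (20993, 19217), (20994, 19218), (20995, 19164), (20996, 19165), (20997, 19139), (20998, 22590), (20999, 19168), (21000, 19169), (21001, 19170), (21002, 22396), (21003, 19144), (21004, 22595), (21005, 21005), (21006, 19222), (21007, 19173), (21008, 19174), (21009, 19148), (21010, 22602), (21011, 21011), (21012, 21012), (21013, 21013), (21014, 19224), (21015, 19225), (21016, 19177), (21017, 19178), (21018, 19179), (21019, 22614), (21020, 19155), (21021, 19182), (21022, 19183), (21023, 22619), (21024, 22404), (21025, 21948), (21026, 22578), (21027, 19163), (21028, 22363), (21029, 22586), (21030, 22587), (21031, 22588), (21032, 22627), (21033, 19167), (21034, 22591), (21035, 22592), (21036, 22631), (21037, 19998), (21038, 22510), (21039, 22599), (21040, 22600), (21041, 22364), (21042, 22610), (21043, 22611), (21044, 22639), (21045, 19458), (21046, 19180), (21047, 22615), (21048, 22616),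 (21049, 22643), (21050, 22645), (21051, 19184), (21052, 22013), (21053, 19921), (21054, 19922), (21055, 19925)]
    ⟨e3 q20992 L726466 q20992, e3 q20993 L726473 q19217, e3 q20994 L726485 q19218, e3 q20995 L726493 q19164, e3 q20996 L726499 q19165, e3 q20997 L726509 q19139, e3 q20998 L743630 q22590, e3 q20999 L726529 q19168, e3 q21000 L726535 q19169, e3 q21001 L726541 q19170, e3 q21002 (flp_e L741483) q22396, e3 q21003 L726555 q19144, e3 q21004 (flp_e L743670) q22595, e3 q21005 L726573 q21005, e3 q21006 L726580 q19222, e3 q21007 L726592 q19173, e3 q21008 L726602 q19174, e3 q21009 L726610 q19148, e3 q21010 L743730 q22602, e3 q21011 L726630 q21011, e3 q21012 L726635 q21012, e3 q21013 L726642 q21013, e3 q21014 L726647 q19224, e3 q21015 L726653 q19225, e3 q21016 L726661 q19177, e3 q21017 L726669 q19178, e3 q21018 L726679 q19179, e3 q21019 L743821 q22614, e3 q21020 (flp_e L726687) q19155, e3 q21021 L726701 q19182, e3 q21022 L726709 q19183, e3 q21023 L743861 q22619, e3 q21024 (flp_e L741573) q22404, e3 q21025 (flp_e L736020) q21948,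 e3 q21026 (flp_e L743513) q22578, e3 q21027 L726751 q19163, e3 q21028 (flp_e L741093) q22363, e3 q21029 (flp_e L743602) q22586, e3 q21030 (flp_e L743612) q22587, e3 q21031 (flp_e L743620) q22588, e3 q21032 L743925 q22627, e3 q21033 (flp_e L726801) q19167, e3 q21034 (flp_e L743644) q22591, e3 q21035 (flp_e L743652) q22592, e3 q21036 L743961 q22631, e3 q21037 L726838 q19998, e3 q21038 (flp_e L742756) q22510, e3 q21039 (flp_e L743710) q22599, e3 q21040 (flp_e L743720) q22600, e3 q21041 (flp_e L741112) q22364, e3 q21042 (flp_e L743795) q22610, e3 q21043 (flp_e L743805) q22611, e3 q21044 L744036 q22639, e3 q21045 (flp_e L726917) q19458, e3 q21046 (flp_e L726919) q19180, e3 q21047 (flp_e L743841) q22615, e3 q21048 (flp_e L743845) q22616, e3 q21049 L744068 q22643, e3 q21050 L744082 q22645, e3 q21051 (flp_e L726962) q19184, e3 q21052 (flp_e L736845) q22013, e3 q21053 L726981 q19921, e3 q21054 L726994 q19922, e3 q21055 L727004 q19925, trivial⟩ (by decide +kernel)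

theorem ce_e_329 : ∀ r, r < 64 → sm ge (Qf (21056 + r)) = Qf (tab Gen.e (21056 + r)) :=
  edges_tab (sm ge) Qf (tab Gen.e) 21056 [(21056, 22649), (21057, 19192), (21058, 19955), (21059, 19510), (21060, 19923), (21061, 19957), (21062, 22653), (21063, 22655), (21064, 19201), (21065, 20000), (21066, 22658), (21067, 22659), (21068, 19204), (21069, 22661), (21070, 19205), (21071, 19995), (21072, 19543), (21073, 22566), (21074, 22577), (21075, 22584), (21076, 22585), (21077, 19219), (21078, 22598), (21079, 19223), (21080, 22608), (21081, 22666), (21082, 22667), (21083, 19226), (21084, 19232), (21085, 19528), (21086, 19415), (21087, 19533), (21088, 19410), (21089, 19243), (21090, 22673), (21091, 22511), (21092, 19246), (21093, 22676), (21094, 22533), (21095, 22537), (21096, 22538), (21097, 22680), (21098, 22681), (21099, 19259), (21100, 19260), (21101, 21101), (21102, 19269), (21103, 19556), (21104, 22078), (21105, 19274), (21106, 22685), (21107, 19278), (21108, 19281), (21109, 22687), (21110, 19286), (21111, 19285), (21112, 22688),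 (21113, 19289), (21114, 21754), (21115, 19293), (21116, 22691), (21117, 19295), (21118, 22692), (21119, 19297)]
    ⟨e3 q21056 L744121 q22649, e3 q21057 (flp_e L727014) q19192, e3 q21058 L727027 q19955, e3 q21059 L727033 q19510, e3 q21060 L727045 q19923, e3 q21061 L727057 q19957, e3 q21062 L744156 q22653, e3 q21063 L744169 q22655, e3 q21064 (flp_e L727079) q19201, e3 q21065 L727087 q20000, e3 q21066 L744201 q22658, e3 q21067 L744210 q22659, e3 q21068 (flp_e L727110) q19204, e3 q21069 L744233 q22661, e3 q21070 (flp_e L727123) q19205, e3 q21071 L727133 q19995, e3 q21072 L727142 q19543, e3 q21073 (flp_e L743371) q22566, e3 q21074 (flp_e L743501) q22577, e3 q21075 (flp_e L743584) q22584, e3 q21076 (flp_e L743592) q22585, e3 q21077 (flp_e L727196) q19219, e3 q21078 (flp_e L743698) q22598, e3 q21079 (flp_e L727215) q19223, e3 q21080 (flp_e L743779) q22608, e3 q21081 L744281 q22666, e3 q21082 L744291 q22667, e3 q21083 (flp_e L727256) q19226, e3 q21084 L727276 q19232, e3 q21085 L727286 q19528, e3 q21086 L727301 q19415, e3 q21087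 L727314 q19533, e3 q21088 L727327 q19410, e3 q21089 L727341 q19243, e3 q21090 (flp_e L744375) q22673, e3 q21091 (flp_e L742772) q22511, e3 q21092 L727378 q19246, e3 q21093 L744404 q22676, e3 q21094 (flp_e L743000) q22533, e3 q21095 (flp_e L743050) q22537, e3 q21096 (flp_e L743060) q22538, e3 q21097 L744449 q22680, e3 q21098 L744461 q22681, e3 q21099 (flp_e L727454) q19259, e3 q21100 (flp_e L727466) q19260, e3 q21101 L727486 q21101, e3 q21102 L727493 q19269, e3 q21103 L727507 q19556, e3 q21104 (flp_e L737761) q22078, e3 q21105 L727532 q19274, e3 q21106 (flp_e L744518) q22685, e3 q21107 L727558 q19278, e3 q21108 L727570 q19281, e3 q21109 (flp_e L744544) q22687, e3 q21110 L727598 q19286, e3 q21111 L727608 q19285, e3 q21112 (flp_e L744558) q22688, e3 q21113 L727628 q19289, e3 q21114 (flp_e L733350) q21754, e3 q21115 L727654 q19293, e3 q21116 (flp_e L744590) q22691, e3 q21117 L727674 q19295, e3 q21118 (flp_e L744600) q22692, e3 q21119 L727694 q19297, trivial⟩ (by decide +kernel)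

theorem ce_e_330 : ∀ r, r < 64 → sm ge (Qf (21120 + r)) = Qf (tab Gen.e (21120 + r)) :=
  edges_tab (sm ge) Qf (tab Gen.e) 21120 [(21120, 19309), (21121, 19299), (21122, 22695), (21123, 21123), (21124, 19324), (21125, 19312), (21126, 19313), (21127, 19303), (21128, 19316), (21129, 19317), (21130, 22686), (21131, 19651), (21132, 22694), (21133, 19311), (21134, 22698), (21135, 22699), (21136, 22288), (21137, 22701), (21138, 21755), (21139, 21766), (21140, 22142), (21141, 21767), (21142, 22697), (21143, 19327), (21144, 22709), (21145, 19329), (21146, 22711), (21147, 19331), (21148, 22712), (21149, 19333), (21150, 19336), (21151, 19337), (21152, 22715), (21153, 19339), (21154, 22717), (21155, 19341), (21156, 22720), (21157, 19494), (21158, 19802), (21159, 19803), (21160, 22548), (21161, 19804), (21162, 22001), (21163, 22026), (21164, 22724), (21165, 19353), (21166, 19962), (21167, 22025), (21168, 19356), (21169, 22725), (21170, 19364), (21171, 22727), (21172, 19366), (21173, 21173), (21174, 19369), (21175, 22730), (21176, 19371),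 (21177, 19996), (21178, 22481), (21179, 22734), (21180, 19376), (21181, 22736), (21182, 21182), (21183, 19378)]
    ⟨e3 q21120 L727714 q19309, e3 q21121 L727724 q19299, e3 q21122 (flp_e L744640) q22695, e3 q21123 L727752 q21123, e3 q21124 L727765 q19324, e3 q21125 L727777 q19312, e3 q21126 L727787 q19313, e3 q21127 L727797 q19303, e3 q21128 L727805 q19316, e3 q21129 L727813 q19317, e3 q21130 (flp_e L744534) q22686, e3 q21131 L727833 q19651, e3 q21132 (flp_e L744628) q22694, e3 q21133 L727858 q19311, e3 q21134 (flp_e L744681) q22698, e3 q21135 (flp_e L744691) q22699, e3 q21136 (flp_e L740339) q22288, e3 q21137 (flp_e L744705) q22701, e3 q21138 (flp_e L733370) q21755, e3 q21139 (flp_e L733523) q21766, e3 q21140 (flp_e L738612) q22142, e3 q21141 (flp_e L733539) q21767, e3 q21142 (flp_e L744669) q22697, e3 q21143 (flp_e L727947) q19327, e3 q21144 (flp_e L744784) q22709, e3 q21145 L727978 q19329, e3 q21146 (flp_e L744808) q22711, e3 q21147 L728006 q19331, e3 q21148 (flp_e L744822) q22712, e3 q21149 L728032 q19333, e3 q21150 L728044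 q19336, e3 q21151 (flp_e L728050) q19337, e3 q21152 (flp_e L744862) q22715, e3 q21153 L728084 q19339, e3 q21154 (flp_e L744888) q22717, e3 q21155 L728102 q19341, e3 q21156 L744906 q22720, e3 q21157 L728124 q19494, e3 q21158 L728136 q19802, e3 q21159 L728147 q19803, e3 q21160 (flp_e L743168) q22548, e3 q21161 L728171 q19804, e3 q21162 (flp_e L736694) q22001, e3 q21163 (flp_e L737001) q22026, e3 q21164 L744948 q22724, e3 q21165 (flp_e L728205) q19353, e3 q21166 L728220 q19962, e3 q21167 (flp_e L736983) q22025, e3 q21168 (flp_e L728236) q19356, e3 q21169 (flp_e L744960) q22725, e3 q21170 L728265 q19364, e3 q21171 (flp_e L744979) q22727, e3 q21172 L728291 q19366, e3 q21173 L728299 q21173, e3 q21174 L728306 q19369, e3 q21175 (flp_e L745010) q22730, e3 q21176 L728322 q19371, e3 q21177 L728332 q19996, e3 q21178 (flp_e L742429) q22481, e3 q21179 L745045 q22734, e3 q21180 (flp_e L728361) q19376, e3 q21181 (flp_e L745078) q22736, e3 q21182 L728390 q21182, e3 q21183 L728395 q19378, trivial⟩ (by decide +kernel)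

theorem ce_e_331 : ∀ r, r < 64 → sm ge (Qf (21184 + r)) = Qf (tab Gen.e (21184 + r)) :=
  edges_tab (sm ge) Qf (tab Gen.e) 21184 [(21184, 22739), (21185, 19379), (21186, 22740), (21187, 19411), (21188, 19394), (21189, 19381), (21190, 22745), (21191, 19397), (21192, 19384), (21193, 19416), (21194, 19386), (21195, 22750), (21196, 21196), (21197, 19419), (21198, 19400), (21199, 19390), (21200, 22756), (21201, 19403), (21202, 19898), (21203, 21794), (21204, 22744), (21205, 19396), (21206, 22762), (21207, 22747), (21208, 22763), (21209, 22754), (21210, 22449), (21211, 19402), (21212, 19404), (21213, 19937), (21214, 19984), (21215, 22672), (21216, 22743), (21217, 19413), (21218, 22771), (21219, 22670), (21220, 22749), (21221, 19418), (21222, 22774), (21223, 22753), (21224, 22776), (21225, 19421), (21226, 21226), (21227, 22778), (21228, 19424), (21229, 19426), (21230, 22777), (21231, 22535), (21232, 19429), (21233, 22782), (21234, 21234), (21235, 19431), (21236, 22785), (21237, 19433), (21238, 19434), (21239, 22789), (21240, 19436),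 (21241, 22791), (21242, 19437), (21243, 22793), (21244, 21244), (21245, 19439), (21246, 22797), (21247, 19441)]
    ⟨e3 q21184 (flp_e L745106) q22739, e3 q21185 (flp_e L728408) q19379, e3 q21186 (flp_e L745114) q22740, e3 q21187 L728434 q19411, e3 q21188 L728446 q19394, e3 q21189 L728454 q19381, e3 q21190 (flp_e L745169) q22745, e3 q21191 L728476 q19397, e3 q21192 L728486 q19384, e3 q21193 L728496 q19416, e3 q21194 L728502 q19386, e3 q21195 (flp_e L745221) q22750, e3 q21196 L728522 q21196, e3 q21197 L728533 q19419, e3 q21198 L728543 q19400, e3 q21199 L728553 q19390, e3 q21200 L745272 q22756, e3 q21201 L728571 q19403, e3 q21202 L728579 q19898, e3 q21203 (flp_e L733915) q21794, e3 q21204 (flp_e L745157) q22744, e3 q21205 L728605 q19396, e3 q21206 L745329 q22762, e3 q21207 (flp_e L745191) q22747, e3 q21208 L745340 q22763, e3 q21209 (flp_e L745264) q22754, e3 q21210 (flp_e L742067) q22449, e3 q21211 (flp_e L728662) q19402, e3 q21212 (flp_e L728672) q19404, e3 q21213 L728690 q19937, e3 q21214 L728703 q19984, e3 q21215 (flp_e L744360)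 q22672, e3 q21216 (flp_e L745145) q22743, e3 q21217 L728740 q19413, e3 q21218 L745426 q22771, e3 q21219 (flp_e L744337) q22670, e3 q21220 (flp_e L745213) q22749, e3 q21221 L728785 q19418, e3 q21222 L745450 q22774, e3 q21223 (flp_e L745254) q22753, e3 q21224 L745466 q22776, e3 q21225 (flp_e L728817) q19421, e3 q21226 L728831 q21226, e3 q21227 L745484 q22778, e3 q21228 (flp_e L728844) q19424, e3 q21229 (flp_e L728855) q19426, e3 q21230 (flp_e L745482) q22777, e3 q21231 (flp_e L743024) q22535, e3 q21232 (flp_e L728886) q19429, e3 q21233 (flp_e L745536) q22782, e3 q21234 L728917 q21234, e3 q21235 L728922 q19431, e3 q21236 (flp_e L745569) q22785, e3 q21237 L728942 q19433, e3 q21238 (flp_e L728950) q19434, e3 q21239 (flp_e L745609) q22789, e3 q21240 L728972 q19436, e3 q21241 (flp_e L745626) q22791, e3 q21242 (flp_e L728985) q19437, e3 q21243 (flp_e L745647) q22793, e3 q21244 L729016 q21244, e3 q21245 L729021 q19439, e3 q21246 (flp_e L745691) q22797, e3 q21247 L729041 q19441, trivial⟩ (by decide +kernel)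

theorem ce_e_332 : ∀ r, r < 64 → sm ge (Qf (21248 + r)) = Qf (tab Gen.e (21248 + r)) :=
  edges_tab (sm ge) Qf (tab Gen.e) 21248 [(21248, 21248), (21249, 19453), (21250, 19443), (21251, 22802), (21252, 19933), (21253, 21253), (21254, 21254), (21255, 19456), (21256, 19447), (21257, 22809), (21258, 19459), (21259, 19460), (21260, 22713), (21261, 19997), (21262, 22626), (21263, 22801), (21264, 19455), (21265, 22563), (21266, 22807), (21267, 22810), (21268, 21960), (21269, 21269), (21270, 19466), (21271, 22816), (21272, 21272), (21273, 19469), (21274, 19497), (21275, 19471), (21276, 22821), (21277, 21277), (21278, 19529), (21279, 19530), (21280, 19500), (21281, 19475), (21282, 22829), (21283, 19503), (21284, 22714), (21285, 19504), (21286, 19479), (21287, 22833), (21288, 21288), (21289, 19534), (21290, 19535), (21291, 19507), (21292, 19508), (21293, 19483), (21294, 22840), (21295, 21295), (21296, 21296), (21297, 21297), (21298, 19538), (21299, 19539), (21300, 19511), (21301, 19512), (21302, 19513), (21303, 22850), (21304, 19490),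 (21305, 19516), (21306, 19517), (21307, 22728), (21308, 22721), (21309, 22509), (21310, 19496), (21311, 22857)]
    ⟨e3 q21248 L729053 q21248, e3 q21249 L729066 q19453, e3 q21250 L729076 q19443, e3 q21251 (flp_e L745749) q22802, e3 q21252 (flp_e L729096) q19933, e3 q21253 L729100 q21253, e3 q21254 L729107 q21254, e3 q21255 L729112 q19456, e3 q21256 L729122 q19447, e3 q21257 L745798 q22809, e3 q21258 L729141 q19459, e3 q21259 L729149 q19460, e3 q21260 (flp_e L744840) q22713, e3 q21261 L729169 q19997, e3 q21262 L743923 q22626, e3 q21263 (flp_e L745735) q22801, e3 q21264 L729208 q19455, e3 q21265 (flp_e L743327) q22563, e3 q21266 (flp_e L745786) q22807, e3 q21267 (flp_e L745809) q22810, e3 q21268 (flp_e L736182) q21960, e3 q21269 L729262 q21269, e3 q21270 L729267 q19466, e3 q21271 (flp_e L745870) q22816, e3 q21272 L729282 q21272, e3 q21273 L729289 q19469, e3 q21274 L729303 q19497, e3 q21275 L729311 q19471, e3 q21276 (flp_e L745914) q22821, e3 q21277 L729333 q21277, e3 q21278 L729336 q19529, e3 q21279 L729344 q19530, e3 q21280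 L729352 q19500, e3 q21281 L729362 q19475, e3 q21282 L745980 q22829, e3 q21283 L729378 q19503, e3 q21284 (flp_e L744852) q22714, e3 q21285 L729402 q19504, e3 q21286 L729412 q19479, e3 q21287 (flp_e L746022) q22833, e3 q21288 L729428 q21288, e3 q21289 L729433 q19534, e3 q21290 L729441 q19535, e3 q21291 L729451 q19507, e3 q21292 L729463 q19508, e3 q21293 L729473 q19483, e3 q21294 L746073 q22840, e3 q21295 L729491 q21295, e3 q21296 L729496 q21296, e3 q21297 L729503 q21297, e3 q21298 L729508 q19538, e3 q21299 L729512 q19539, e3 q21300 L729518 q19511, e3 q21301 L729524 q19512, e3 q21302 L729532 q19513, e3 q21303 L746136 q22850, e3 q21304 (flp_e L729538) q19490, e3 q21305 L729546 q19516, e3 q21306 L729554 q19517, e3 q21307 (flp_e L744995) q22728, e3 q21308 (flp_e L744918) q22721, e3 q21309 (flp_e L742744) q22509, e3 q21310 L729588 q19496, e3 q21311 (flp_e L746189) q22857, trivial⟩ (by decide +kernel)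

theorem ce_e_333 : ∀ r, r < 64 → sm ge (Qf (21312 + r)) = Qf (tab Gen.e (21312 + r)) :=
  edges_tab (sm ge) Qf (tab Gen.e) 21312 [(21312, 22820), (21313, 19499), (21314, 22650), (21315, 22827), (21316, 22552), (21317, 19502), (21318, 22832), (21319, 19506), (21320, 22837), (21321, 22838), (21322, 22560), (21323, 22846), (21324, 22847), (21325, 22868), (21326, 22851), (21327, 22852), (21328, 21834), (21329, 19842), (21330, 19846), (21331, 22012), (21332, 21953), (21333, 22871), (21334, 22872), (21335, 22825), (21336, 22826), (21337, 22875), (21338, 19532), (21339, 22835), (21340, 22836), (21341, 22879), (21342, 19537), (21343, 22844), (21344, 22881), (21345, 19540), (21346, 19545), (21347, 22876), (21348, 22884), (21349, 22071), (21350, 19550), (21351, 22885), (21352, 22886), (21353, 19553), (21354, 21712), (21355, 22084), (21356, 19557), (21357, 22080), (21358, 19560), (21359, 22056), (21360, 22683), (21361, 21710), (21362, 22054), (21363, 19567), (21364, 22087), (21365, 19577), (21366, 22888), (21367, 19580), (21368, 22889),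 (21369, 19582), (21370, 22890), (21371, 19584), (21372, 22893), (21373, 19587), (21374, 21837), (21375, 22895)]
    ⟨e3 q21312 (flp_e L745902) q22820, e3 q21313 L729619 q19499, e3 q21314 (flp_e L744132) q22650, e3 q21315 (flp_e L745968) q22827, e3 q21316 (flp_e L743204) q22552, e3 q21317 (flp_e L729655) q19502, e3 q21318 (flp_e L746010) q22832, e3 q21319 L729683 q19506, e3 q21320 (flp_e L746053) q22837, e3 q21321 (flp_e L746065) q22838, e3 q21322 (flp_e L743291) q22560, e3 q21323 (flp_e L746116) q22846, e3 q21324 (flp_e L746124) q22847, e3 q21325 L746294 q22868, e3 q21326 (flp_e L746144) q22851, e3 q21327 (flp_e L746150) q22852, e3 q21328 L734466 q21834, e3 q21329 L729772 q19842, e3 q21330 L729785 q19846, e3 q21331 (flp_e L736828) q22012, e3 q21332 (flp_e L736089) q21953, e3 q21333 L746318 q22871, e3 q21334 L746325 q22872, e3 q21335 (flp_e L745954) q22825, e3 q21336 (flp_e L745960) q22826, e3 q21337 L746348 q22875, e3 q21338 (flp_e L729839) q19532, e3 q21339 (flp_e L746037) q22835, e3 q21340 (flp_e L746043) q22836, e3 q21341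 L746376 q22879, e3 q21342 (flp_e L729861) q19537, e3 q21343 (flp_e L746104) q22844, e3 q21344 L746389 q22881, e3 q21345 (flp_e L729876) q19540, e3 q21346 L729884 q19545, e3 q21347 (flp_e L746360) q22876, e3 q21348 L746404 q22884, e3 q21349 L737671 q22071, e3 q21350 (flp_e L729913) q19550, e3 q21351 L746414 q22885, e3 q21352 L746423 q22886, e3 q21353 (flp_e L729937) q19553, e3 q21354 (flp_e L732667) q21712, e3 q21355 (flp_e L737832) q22084, e3 q21356 (flp_e L729962) q19557, e3 q21357 (flp_e L737781) q22080, e3 q21358 (flp_e L729979) q19560, e3 q21359 (flp_e L737441) q22056, e3 q21360 (flp_e L744496) q22683, e3 q21361 (flp_e L732643) q21710, e3 q21362 (flp_e L737407) q22054, e3 q21363 (flp_e L730015) q19567, e3 q21364 (flp_e L737857) q22087, e3 q21365 L730037 q19577, e3 q21366 (flp_e L746444) q22888, e3 q21367 L730065 q19580, e3 q21368 (flp_e L746458) q22889, e3 q21369 L730091 q19582, e3 q21370 (flp_e L746472) q22890, e3 q21371 L730105 q19584, e3 q21372 L746492 q22893, e3 q21373 (flp_e L730117) q19587, e3 q21374 (flp_e L734508)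 q21837, e3 q21375 L746513 q22895, trivial⟩ (by decide +kernel)

theorem ce_e_334 : ∀ r, r < 64 → sm ge (Qf (21376 + r)) = Qf (tab Gen.e (21376 + r)) :=
  edges_tab (sm ge) Qf (tab Gen.e) 21376 [(21376, 22243), (21377, 19591), (21378, 21378), (21379, 19595), (21380, 22899), (21381, 19597), (21382, 22902), (21383, 22210), (21384, 19600), (21385, 19602), (21386, 21386), (21387, 19618), (21388, 19619), (21389, 19609), (21390, 19606), (21391, 22910), (21392, 19612), (21393, 19681), (21394, 22908), (21395, 22914), (21396, 19611), (21397, 22236), (21398, 19616), (21399, 21769), (21400, 22906), (21401, 22907), (21402, 22919), (21403, 19621), (21404, 22920), (21405, 21773), (21406, 21406), (21407, 19625), (21408, 22923), (21409, 19627), (21410, 22337), (21411, 22104), (21412, 19632), (21413, 22926), (21414, 19634), (21415, 19636), (21416, 22929), (21417, 22892), (21418, 19638), (21419, 19643), (21420, 22932), (21421, 19646), (21422, 22933), (21423, 21423), (21424, 21424), (21425, 19649), (21426, 22938), (21427, 22901), (21428, 22940),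 (21429, 19652), (21430, 19654), (21431, 19657), (21432, 22942), (21433, 21751), (21434, 19660), (21435, 19662), (21436, 22946), (21437, 19664), (21438, 22949), (21439, 22903)]
    ⟨e3 q21376 L739865 q22243, e3 q21377 (flp_e L730155) q19591, e3 q21378 L730167 q21378, e3 q21379 L730172 q19595, e3 q21380 (flp_e L746544) q22899, e3 q21381 L730184 q19597, e3 q21382 L746563 q22902, e3 q21383 (flp_e L739480) q22210, e3 q21384 (flp_e L730204) q19600, e3 q21385 L730213 q19602, e3 q21386 L730223 q21386, e3 q21387 L730228 q19618, e3 q21388 L730238 q19619, e3 q21389 L730244 q19609, e3 q21390 L730252 q19606, e3 q21391 L746622 q22910, e3 q21392 L730266 q19612, e3 q21393 L730272 q19681, e3 q21394 (flp_e L746616) q22908, e3 q21395 L746647 q22914, e3 q21396 (flp_e L730287) q19611, e3 q21397 L739783 q22236, e3 q21398 (flp_e L730300) q19616, e3 q21399 (flp_e L733567) q21769, e3 q21400 (flp_e L746602) q22906, e3 q21401 (flp_e L746610) q22907, e3 q21402 L746680 q22919, e3 q21403 (flp_e L730328) q19621, e3 q21404 (flp_e L746690) q22920, e3 q21405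 (flp_e L733622) q21773, e3 q21406 L730353 q21406, e3 q21407 L730360 q19625, e3 q21408 (flp_e L746717) q22923, e3 q21409 L730376 q19627, e3 q21410 (flp_e L740816) q22337, e3 q21411 (flp_e L738119) q22104, e3 q21412 L730402 q19632, e3 q21413 (flp_e L746740) q22926, e3 q21414 L730416 q19634, e3 q21415 L730426 q19636, e3 q21416 L746756 q22929, e3 q21417 (flp_e L746488) q22892, e3 q21418 (flp_e L730442) q19638, e3 q21419 (flp_e L730450) q19643, e3 q21420 (flp_e L746779) q22932, e3 q21421 L730466 q19646, e3 q21422 (flp_e L746785) q22933, e3 q21423 L730478 q21423, e3 q21424 L730485 q21424, e3 q21425 L730490 q19649, e3 q21426 L746810 q22938, e3 q21427 (flp_e L746561) q22901, e3 q21428 L746819 q22940, e3 q21429 (flp_e L730514) q19652, e3 q21430 (flp_e L730521) q19654, e3 q21431 L730532 q19657, e3 q21432 (flp_e L746837) q22942, e3 q21433 (flp_e L733307) q21751, e3 q21434 L730550 q19660, e3 q21435 L730558 q19662, e3 q21436 (flp_e L746865) q22946, e3 q21437 L730574 q19664, e3 q21438 L746883 q22949, e3 q21439 (flp_e L746576) q22903, trivial⟩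 (by decide +kernel)

theorem ce_e_335 : ∀ r, r < 64 → sm ge (Qf (21440 + r)) = Qf (tab Gen.e (21440 + r)) :=
  edges_tab (sm ge) Qf (tab Gen.e) 21440 [(21440, 19667), (21441, 22951), (21442, 19707), (21443, 19685), (21444, 19671), (21445, 22956), (21446, 19710), (21447, 19711), (21448, 19688), (21449, 19689), (21450, 22962), (21451, 19677), (21452, 19692), (21453, 19693), (21454, 22689), (21455, 22912), (21456, 21768), (21457, 22155), (21458, 22954), (21459, 22161), (21460, 19687), (21461, 22959), (21462, 22964), (21463, 22963), (21464, 22335), (21465, 22970), (21466, 22971), (21467, 19705), (21468, 22972), (21469, 22953), (21470, 22974), (21471, 19709), (21472, 22957), (21473, 22977), (21474, 19712), (21475, 19718), (21476, 22975), (21477, 22978), (21478, 21478), (21479, 19723), (21480, 22980), (21481, 19725), (21482, 19801), (21483, 19728), (21484, 19730), (21485, 22984), (21486, 19732), (21487, 19736), (21488, 19841), (21489, 21489), (21490, 19738), (21491, 22989), (21492, 21492), (21493, 21493), (21494, 19741), (21495,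 19761), (21496, 19743), (21497, 22994), (21498, 21498), (21499, 19773), (21500, 19764), (21501, 19747), (21502, 19766), (21503, 19767)]
    ⟨e3 q21440 L730596 q19667, e3 q21441 (flp_e L746899) q22951, e3 q21442 L730610 q19707, e3 q21443 L730616 q19685, e3 q21444 L730624 q19671, e3 q21445 L746927 q22956, e3 q21446 L730638 q19710, e3 q21447 L730644 q19711, e3 q21448 L730650 q19688, e3 q21449 L730658 q19689, e3 q21450 L746961 q22962, e3 q21451 (flp_e L730664) q19677, e3 q21452 L730672 q19692, e3 q21453 L730678 q19693, e3 q21454 (flp_e L744570) q22689, e3 q21455 (flp_e L746638) q22912, e3 q21456 (flp_e L733559) q21768, e3 q21457 (flp_e L738768) q22155, e3 q21458 (flp_e L746919) q22954, e3 q21459 (flp_e L738848) q22161, e3 q21460 (flp_e L730720) q19687, e3 q21461 (flp_e L746949) q22959, e3 q21462 (flp_e L746973) q22964, e3 q21463 (flp_e L746969) q22963, e3 q21464 (flp_e L740787) q22335, e3 q21465 L747005 q22970, e3 q21466 L747012 q22971, e3 q21467 (flp_e L730770) q19705, e3 q21468 L747019 q22972, e3 q21469 (flp_e L746913) q22953,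 e3 q21470 L747032 q22974, e3 q21471 (flp_e L730795) q19709, e3 q21472 (flp_e L746937) q22957, e3 q21473 L747053 q22977, e3 q21474 (flp_e L730814) q19712, e3 q21475 L730822 q19718, e3 q21476 (flp_e L747044) q22975, e3 q21477 (flp_e L747059) q22978, e3 q21478 L730842 q21478, e3 q21479 L730847 q19723, e3 q21480 (flp_e L747073) q22980, e3 q21481 L730864 q19725, e3 q21482 L730872 q19801, e3 q21483 L730876 q19728, e3 q21484 L730880 q19730, e3 q21485 (flp_e L747099) q22984, e3 q21486 L730895 q19732, e3 q21487 L730905 q19736, e3 q21488 L730915 q19841, e3 q21489 L730921 q21489, e3 q21490 L730926 q19738, e3 q21491 (flp_e L747138) q22989, e3 q21492 L730941 q21492, e3 q21493 L730948 q21493, e3 q21494 L730953 q19741, e3 q21495 L730965 q19761, e3 q21496 L730971 q19743, e3 q21497 (flp_e L747178) q22994, e3 q21498 L730989 q21498, e3 q21499 L730994 q19773, e3 q21500 L731002 q19764, e3 q21501 L731012 q19747, e3 q21502 L731020 q19766, e3 q21503 L731028 q19767, trivial⟩ (by decide +kernel)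

theorem ce_e_336 : ∀ r, r < 64 → sm ge (Qf (21504 + r)) = Qf (tab Gen.e (21504 + r)) :=
  edges_tab (sm ge) Qf (tab Gen.e) 21504 [(21504, 19876), (21505, 21505), (21506, 19774), (21507, 19768), (21508, 19754), (21509, 21509), (21510, 19775), (21511, 19770), (21512, 22444), (21513, 22757), (21514, 19899), (21515, 22993), (21516, 19763), (21517, 22997), (21518, 22447), (21519, 22999), (21520, 23004), (21521, 21872), (21522, 23016), (21523, 22996), (21524, 23003), (21525, 19777), (21526, 23017), (21527, 19779), (21528, 19781), (21529, 22400), (21530, 19784), (21531, 23022), (21532, 21532), (21533, 19787), (21534, 19789), (21535, 23025), (21536, 19791), (21537, 22981), (21538, 19794), (21539, 23028), (21540, 19805), (21541, 19797), (21542, 19806), (21543, 19807), (21544, 22541), (21545, 22982), (21546, 22722), (21547, 23029), (21548, 23031), (21549, 19808), (21550, 23035), (21551, 19938), (21552, 19810), (21553, 23038), (21554, 19941), (21555, 19942), (21556, 19813), (21557, 23043), (21558, 22983), (21559, 21559), (21560, 19816),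 (21561, 23046), (21562, 21562), (21563, 19819), (21564, 19821), (21565, 23049), (21566, 19945), (21567, 19824)]
    ⟨e3 q21504 L731038 q19876, e3 q21505 L731050 q21505, e3 q21506 L731059 q19774, e3 q21507 L731069 q19768, e3 q21508 L731077 q19754, e3 q21509 L731083 q21509, e3 q21510 L731088 q19775, e3 q21511 L731094 q19770, e3 q21512 (flp_e L742018) q22444, e3 q21513 (flp_e L745288) q22757, e3 q21514 L731108 q19899, e3 q21515 (flp_e L747168) q22993, e3 q21516 L731127 q19763, e3 q21517 (flp_e L747201) q22997, e3 q21518 (flp_e L742051) q22447, e3 q21519 (flp_e L747215) q22999, e3 q21520 (flp_e L747264) q23004, e3 q21521 (flp_e L734996) q21872, e3 q21522 L747329 q23016, e3 q21523 (flp_e L747193) q22996, e3 q21524 (flp_e L747252) q23003, e3 q21525 L731197 q19777, e3 q21526 (flp_e L747338) q23017, e3 q21527 L731211 q19779, e3 q21528 L731217 q19781, e3 q21529 (flp_e L741541) q22400, e3 q21530 L731235 q19784, e3 q21531 (flp_e L747374) q23022, e3 q21532 L731252 q21532, e3 q21533 L731259 q19787, e3 q21534 L731267 q19789, e3 q21535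 (flp_e L747395) q23025, e3 q21536 L731285 q19791, e3 q21537 (flp_e L747083) q22981, e3 q21538 L731301 q19794, e3 q21539 (flp_e L747417) q23028, e3 q21540 L731317 q19805, e3 q21541 L731323 q19797, e3 q21542 L731329 q19806, e3 q21543 L731335 q19807, e3 q21544 (flp_e L743100) q22541, e3 q21545 (flp_e L747089) q22982, e3 q21546 (flp_e L744930) q22722, e3 q21547 (flp_e L747423) q23029, e3 q21548 (flp_e L747433) q23031, e3 q21549 (flp_e L731370) q19808, e3 q21550 (flp_e L747457) q23035, e3 q21551 L731394 q19938, e3 q21552 L731400 q19810, e3 q21553 (flp_e L747483) q23038, e3 q21554 L731412 q19941, e3 q21555 L731420 q19942, e3 q21556 L731426 q19813, e3 q21557 L747507 q23043, e3 q21558 (flp_e L747093) q22983, e3 q21559 L731444 q21559, e3 q21560 L731449 q19816, e3 q21561 (flp_e L747526) q23046, e3 q21562 L731464 q21562, e3 q21563 L731469 q19819, e3 q21564 L731479 q19821, e3 q21565 (flp_e L747549) q23049, e3 q21566 L731499 q19945, e3 q21567 L731507 q19824, trivial⟩ (by decide +kernel)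

theorem ce_e_337 : ∀ r, r < 64 → sm ge (Qf (21568 + r)) = Qf (tab Gen.e (21568 + r)) :=
  edges_tab (sm ge) Qf (tab Gen.e) 21568 [(21568, 22985), (21569, 19827), (21570, 23053), (21571, 19946), (21572, 21572), (21573, 19947), (21574, 19847), (21575, 19831), (21576, 21576), (21577, 21577), (21578, 21578), (21579, 19948), (21580, 19949), (21581, 19849), (21582, 19850), (21583, 19851), (21584, 22471), (21585, 19853), (21586, 19854), (21587, 22732), (21588, 22987), (21589, 22869), (21590, 19844), (21591, 22476), (21592, 23057), (21593, 21886), (21594, 23065), (21595, 23066), (21596, 23078), (21597, 23069), (21598, 19858), (21599, 22561), (21600, 23075), (21601, 21601), (21602, 19862), (21603, 21603), (21604, 21604), (21605, 22992), (21606, 19903), (21607, 19868), (21608, 19885), (21609, 19905), (21610, 23090), (21611, 19872), (21612, 19908), (21613, 19909), (21614, 22748), (21615, 23001), (21616, 19910), (21617, 19879), (21618, 19950), (21619, 19929), (21620, 19912), (21621, 19913), (21622, 23087), (21623, 19973), (21624, 19974),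 (21625, 19975), (21626, 19976), (21627, 19927), (21628, 23086), (21629, 19915), (21630, 19916), (21631, 23111)]
    ⟨e3 q21568 (flp_e L747111) q22985, e3 q21569 L731523 q19827, e3 q21570 (flp_e L747577) q23053, e3 q21571 L731535 q19946, e3 q21572 L731543 q21572, e3 q21573 L731550 q19947, e3 q21574 L731556 q19847, e3 q21575 L731564 q19831, e3 q21576 L731572 q21576, e3 q21577 L731575 q21577, e3 q21578 L731584 q21578, e3 q21579 L731591 q19948, e3 q21580 L731595 q19949, e3 q21581 L731601 q19849, e3 q21582 L731609 q19850, e3 q21583 L731617 q19851, e3 q21584 (flp_e L742334) q22471, e3 q21585 L731629 q19853, e3 q21586 L731635 q19854, e3 q21587 (flp_e L745031) q22732, e3 q21588 (flp_e L747123) q22987, e3 q21589 (flp_e L746305) q22869, e3 q21590 L731668 q19844, e3 q21591 (flp_e L742385) q22476, e3 q21592 (flp_e L747606) q23057, e3 q21593 (flp_e L735209) q21886, e3 q21594 (flp_e L747658) q23065, e3 q21595 (flp_e L747666) q23066, e3 q21596 L747757 q23078, e3 q21597 (flp_e L747686) q23069, e3 q21598 L731736 q19858, e3 q21599 (flp_e L743308)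 q22561, e3 q21600 (flp_e L747731) q23075, e3 q21601 L731762 q21601, e3 q21602 L731769 q19862, e3 q21603 L731775 q21603, e3 q21604 L731782 q21604, e3 q21605 (flp_e L747160) q22992, e3 q21606 L731795 q19903, e3 q21607 L731805 q19868, e3 q21608 L731813 q19885, e3 q21609 L731821 q19905, e3 q21610 L747840 q23090, e3 q21611 (flp_e L731831) q19872, e3 q21612 L731841 q19908, e3 q21613 L731849 q19909, e3 q21614 (flp_e L745205) q22748, e3 q21615 (flp_e L747231) q23001, e3 q21616 L731867 q19910, e3 q21617 L731875 q19879, e3 q21618 L731883 q19950, e3 q21619 L731891 q19929, e3 q21620 L731901 q19912, e3 q21621 L731909 q19913, e3 q21622 (flp_e L747824) q23087, e3 q21623 L731919 q19973, e3 q21624 L731927 q19974, e3 q21625 L731933 q19975, e3 q21626 L731939 q19976, e3 q21627 L731945 q19927, e3 q21628 (flp_e L747814) q23086, e3 q21629 L731957 q19915, e3 q21630 L731965 q19916, e3 q21631 L747972 q23111, trivial⟩ (by decide +kernel)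

theorem ce_e_338 : ∀ r, r < 64 → sm ge (Qf (21632 + r)) = Qf (tab Gen.e (21632 + r)) :=
  edges_tab (sm ge) Qf (tab Gen.e) 21632 [(21632, 23113), (21633, 19894), (21634, 19919), (21635, 19920), (21636, 21898), (21637, 22758), (21638, 23011), (21639, 22536), (21640, 19902), (21641, 23085), (21642, 19978), (21643, 23122), (21644, 19906), (21645, 23091), (21646, 23092), (21647, 23096), (21648, 23099), (21649, 23127), (21650, 19926), (21651, 23108), (21652, 23129), (21653, 19917), (21654, 23130), (21655, 22647), (21656, 22646), (21657, 23121), (21658, 23098), (21659, 23132), (21660, 19932), (21661, 23133), (21662, 22804), (21663, 19935), (21664, 22766), (21665, 23037), (21666, 19940), (21667, 23140), (21668, 23040), (21669, 23041), (21670, 23143), (21671, 19944), (21672, 23050), (21673, 23054), (21674, 23056), (21675, 23063), (21676, 22014), (21677, 22562), (21678, 19965), (21679, 19987), (21680, 19988), (21681, 23146), (21682, 23102), (21683, 23103), (21684, 23104), (21685, 23150), (21686, 23073), (21687, 23151), (21688, 23152),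 (21689, 19980), (21690, 22656), (21691, 19981), (21692, 23153), (21693, 19986), (21694, 23155), (21695, 23156)]
    ⟨e3 q21632 L747980 q23113, e3 q21633 (flp_e L731977) q19894, e3 q21634 L731985 q19919, e3 q21635 L731989 q19920, e3 q21636 (flp_e L735381) q21898, e3 q21637 (flp_e L745294) q22758, e3 q21638 (flp_e L747295) q23011, e3 q21639 (flp_e L743038) q22536, e3 q21640 L732017 q19902, e3 q21641 (flp_e L747802) q23085, e3 q21642 L732037 q19978, e3 q21643 L748029 q23122, e3 q21644 (flp_e L732049) q19906, e3 q21645 (flp_e L747858) q23091, e3 q21646 (flp_e L747862) q23092, e3 q21647 (flp_e L747886) q23096, e3 q21648 (flp_e L747908) q23099, e3 q21649 L748068 q23127, e3 q21650 L732099 q19926, e3 q21651 (flp_e L747958) q23108, e3 q21652 L748084 q23129, e3 q21653 (flp_e L732121) q19917, e3 q21654 (flp_e L748094) q23130, e3 q21655 (flp_e L744108) q22647, e3 q21656 (flp_e L744092) q22646, e3 q21657 (flp_e L748022) q23121, e3 q21658 (flp_e L747900) q23098, e3 q21659 L748107 q23132, e3 q21660 L732180 q19932, e3 q21661 (flp_e L748119)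 q23133, e3 q21662 (flp_e L745768) q22804, e3 q21663 L732214 q19935, e3 q21664 (flp_e L745374) q22766, e3 q21665 (flp_e L747477) q23037, e3 q21666 L732244 q19940, e3 q21667 L748168 q23140, e3 q21668 (flp_e L747497) q23040, e3 q21669 (flp_e L747503) q23041, e3 q21670 L748185 q23143, e3 q21671 (flp_e L732270) q19944, e3 q21672 (flp_e L747557) q23050, e3 q21673 (flp_e L747585) q23054, e3 q21674 (flp_e L747600) q23056, e3 q21675 (flp_e L747646) q23063, e3 q21676 (flp_e L736860) q22014, e3 q21677 (flp_e L743322) q22562, e3 q21678 L732317 q19965, e3 q21679 L732329 q19987, e3 q21680 L732336 q19988, e3 q21681 L748203 q23146, e3 q21682 (flp_e L747922) q23102, e3 q21683 (flp_e L747928) q23103, e3 q21684 (flp_e L747934) q23104, e3 q21685 L748235 q23150, e3 q21686 (flp_e L747717) q23073, e3 q21687 L748239 q23151, e3 q21688 L748246 q23152, e3 q21689 (flp_e L732395) q19980, e3 q21690 (flp_e L744183) q22656, e3 q21691 (flp_e L732410) q19981, e3 q21692 (flp_e L748262) q23153, e3 q21693 (flp_e L732428) q19986, e3 q21694 L748272 q23155, e3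 q21695 L748279 q23156, trivial⟩ (by decide +kernel)

theorem ce_e_339 : ∀ r, r < 64 → sm ge (Qf (21696 + r)) = Qf (tab Gen.e (21696 + r)) :=
  edges_tab (sm ge) Qf (tab Gen.e) 21696 [(21696, 19989), (21697, 19991), (21698, 19993), (21699, 22479), (21700, 22632), (21701, 22019), (21702, 20549), (21703, 20011), (21704, 20013), (21705, 20015), (21706, 20023), (21707, 20025), (21708, 23158), (21709, 20427), (21710, 21361), (21711, 23159), (21712, 21354), (21713, 20028), (21714, 20027), (21715, 23162), (21716, 23161), (21717, 20030), (21718, 20082), (21719, 20039), (21720, 20033), (21721, 23166), (21722, 20045), (21723, 20035), (21724, 23168), (21725, 20048), (21726, 20038), (21727, 23165), (21728, 20041), (21729, 20502), (21730, 20677), (21731, 20044), (21732, 23174), (21733, 23167), (21734, 20047), (21735, 23169), (21736, 20093), (21737, 20507), (21738, 20052), (21739, 20099), (21740, 23179), (21741, 20103), (21742, 20062), (21743, 23180), (21744, 20098), (21745, 20067), (21746, 20457), (21747, 20072), (21748, 23182), (21749,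 20078), (21750, 20075), (21751, 21433), (21752, 23183), (21753, 23164), (21754, 21114), (21755, 21138), (21756, 20084), (21757, 20086), (21758, 20090), (21759, 20091)]
    ⟨e3 q21696 (flp_e L732448) q19989, e3 q21697 (flp_e L732453) q19991, e3 q21698 L732461 q19993, e3 q21699 (flp_e L742409) q22479, e3 q21700 (flp_e L743969) q22632, e3 q21701 (flp_e L736920) q22019, e3 q21702 L732489 q20549, e3 q21703 L732508 q20011, e3 q21704 L732526 q20013, e3 q21705 L732546 q20015, e3 q21706 L732570 q20023, e3 q21707 L732578 q20025, e3 q21708 (flp_e L748307) q23158, e3 q21709 L732615 q20427, e3 q21710 L732643 q21361, e3 q21711 (flp_e L748314) q23159, e3 q21712 L732667 q21354, e3 q21713 L732694 q20028, e3 q21714 L732708 q20027, e3 q21715 (flp_e L748376) q23162, e3 q21716 (flp_e L748360) q23161, e3 q21717 L732755 q20030, e3 q21718 L732775 q20082, e3 q21719 L732792 q20039, e3 q21720 L732806 q20033, e3 q21721 (flp_e L748443) q23166, e3 q21722 L732844 q20045, e3 q21723 L732858 q20035, e3 q21724 (flp_e L748477) q23168, e3 q21725 L732890 q20048,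 e3 q21726 L732902 q20038, e3 q21727 (flp_e L748427) q23165, e3 q21728 L732930 q20041, e3 q21729 L732950 q20502, e3 q21730 L732971 q20677, e3 q21731 L732984 q20044, e3 q21732 (flp_e L748572) q23174, e3 q21733 (flp_e L748461) q23167, e3 q21734 L733025 q20047, e3 q21735 (flp_e L748491) q23169, e3 q21736 L733055 q20093, e3 q21737 L733067 q20507, e3 q21738 L733085 q20052, e3 q21739 L733099 q20099, e3 q21740 L748644 q23179, e3 q21741 L733128 q20103, e3 q21742 L733148 q20062, e3 q21743 (flp_e L748667) q23180, e3 q21744 L733190 q20098, e3 q21745 L733200 q20067, e3 q21746 L733218 q20457, e3 q21747 L733240 q20072, e3 q21748 (flp_e L748701) q23182, e3 q21749 L733276 q20078, e3 q21750 L733292 q20075, e3 q21751 L733307 q21433, e3 q21752 (flp_e L748719) q23183, e3 q21753 (flp_e L748414) q23164, e3 q21754 L733350 q21114, e3 q21755 L733370 q21138, e3 q21756 L733381 q20084, e3 q21757 L733395 q20086, e3 q21758 L733415 q20090, e3 q21759 L733433 q20091, trivial⟩ (by decide +kernel)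

theorem ce_e_340 : ∀ r, r < 64 → sm ge (Qf (21760 + r)) = Qf (tab Gen.e (21760 + r)) :=
  edges_tab (sm ge) Qf (tab Gen.e) 21760 [(21760, 20092), (21761, 23170), (21762, 23190), (21763, 23191), (21764, 23197), (21765, 23177), (21766, 21139), (21767, 21141), (21768, 21456), (21769, 21399), (21770, 23199), (21771, 23201), (21772, 20102), (21773, 21405), (21774, 20106), (21775, 23203), (21776, 23205), (21777, 20108), (21778, 23209), (21779, 21779), (21780, 20110), (21781, 23212), (21782, 20111), (21783, 23213), (21784, 20113), (21785, 23216), (21786, 20122), (21787, 20115), (21788, 23220), (21789, 21789), (21790, 20117), (21791, 23223), (21792, 20126), (21793, 20120), (21794, 21203), (21795, 23218), (21796, 23219), (21797, 20124), (21798, 23231), (21799, 23225), (21800, 20281), (21801, 20128), (21802, 20287), (21803, 20131), (21804, 23234), (21805, 20145), (21806, 20133), (21807, 23236), (21808, 20148), (21809, 20149), (21810, 20136), (21811, 20168), (21812, 20138), (21813, 23243), (21814, 21814), (21815, 20171), (21816, 20172),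 (21817, 20152), (21818, 20142), (21819, 23251), (21820, 20155), (21821, 20314), (21822, 23235), (21823, 20147)]
    ⟨e3 q21760 L733447 q20092, e3 q21761 (flp_e L748505) q23170, e3 q21762 (flp_e L748829) q23190, e3 q21763 (flp_e L748845) q23191, e3 q21764 L748919 q23197, e3 q21765 (flp_e L748616) q23177, e3 q21766 L733523 q21139, e3 q21767 L733539 q21141, e3 q21768 L733559 q21456, e3 q21769 L733567 q21399, e3 q21770 L748947 q23199, e3 q21771 L748979 q23201, e3 q21772 (flp_e L733607) q20102, e3 q21773 L733622 q21405, e3 q21774 (flp_e L733633) q20106, e3 q21775 (flp_e L749017) q23203, e3 q21776 L749040 q23205, e3 q21777 (flp_e L733678) q20108, e3 q21778 (flp_e L749112) q23209, e3 q21779 L733712 q21779, e3 q21780 L733723 q20110, e3 q21781 (flp_e L749150) q23212, e3 q21782 (flp_e L733740) q20111, e3 q21783 (flp_e L749166) q23213, e3 q21784 (flp_e L733773) q20113, e3 q21785 (flp_e L749216) q23216, e3 q21786 L733816 q20122, e3 q21787 L733824 q20115, e3 q21788 (flp_e L749278) q23220, e3 q21789 L733852 q21789, e3 q21790 L733861 q20117,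 e3 q21791 (flp_e L749322) q23223, e3 q21792 L733889 q20126, e3 q21793 L733901 q20120, e3 q21794 L733915 q21203, e3 q21795 (flp_e L749250) q23218, e3 q21796 (flp_e L749266) q23219, e3 q21797 L733957 q20124, e3 q21798 L749429 q23231, e3 q21799 (flp_e L749353) q23225, e3 q21800 L734001 q20281, e3 q21801 (flp_e L734004) q20128, e3 q21802 L734024 q20287, e3 q21803 L734046 q20131, e3 q21804 (flp_e L749480) q23234, e3 q21805 L734083 q20145, e3 q21806 L734095 q20133, e3 q21807 (flp_e L749512) q23236, e3 q21808 L734123 q20148, e3 q21809 L734135 q20149, e3 q21810 L734147 q20136, e3 q21811 L734165 q20168, e3 q21812 L734175 q20138, e3 q21813 (flp_e L749616) q23243, e3 q21814 L734211 q21814, e3 q21815 L734220 q20171, e3 q21816 L734234 q20172, e3 q21817 L734248 q20152, e3 q21818 L734260 q20142, e3 q21819 L749724 q23251, e3 q21820 L734282 q20155, e3 q21821 L734296 q20314, e3 q21822 (flp_e L749498) q23235, e3 q21823 L734319 q20147, trivial⟩ (by decide +kernel)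

theorem ce_e_341 : ∀ r, r < 64 → sm ge (Qf (21824 + r)) = Qf (tab Gen.e (21824 + r)) :=
  edges_tab (sm ge) Qf (tab Gen.e) 21824 [(21824, 23256), (21825, 23238), (21826, 23239), (21827, 20321), (21828, 20896), (21829, 23249), (21830, 23262), (21831, 20154), (21832, 23265), (21833, 20333), (21834, 21328), (21835, 20158), (21836, 20341), (21837, 21374), (21838, 23269), (21839, 20345), (21840, 23271), (21841, 20164), (21842, 20350), (21843, 23272), (21844, 23241), (21845, 23242), (21846, 20170), (21847, 23276), (21848, 23247), (21849, 23248), (21850, 23279), (21851, 20174), (21852, 20175), (21853, 23280), (21854, 20180), (21855, 23282), (21856, 20183), (21857, 23284), (21858, 20843), (21859, 23285), (21860, 20186), (21861, 23288), (21862, 20188), (21863, 23290), (21864, 20190), (21865, 23292), (21866, 21866), (21867, 20192), (21868, 23294), (21869, 20199), (21870, 20195), (21871, 20832), (21872, 21521), (21873, 23296), (21874, 20340), (21875, 23300), (21876, 21876), (21877, 20206), (21878, 23302), (21879, 20208), (21880, 23303),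 (21881, 21881), (21882, 20210), (21883, 23305), (21884, 20216), (21885, 20213), (21886, 21593), (21887, 23307)]
    ⟨e3 q21824 L749778 q23256, e3 q21825 (flp_e L749542) q23238, e3 q21826 (flp_e L749556) q23239, e3 q21827 L734371 q20321, e3 q21828 (flp_e L734391) q20896, e3 q21829 (flp_e L749710) q23249, e3 q21830 L749855 q23262, e3 q21831 (flp_e L734418) q20154, e3 q21832 L749890 q23265, e3 q21833 L734446 q20333, e3 q21834 (flp_e L734466) q21328, e3 q21835 (flp_e L734468) q20158, e3 q21836 L734499 q20341, e3 q21837 L734508 q21374, e3 q21838 L749944 q23269, e3 q21839 L734531 q20345, e3 q21840 L749971 q23271, e3 q21841 (flp_e L734550) q20164, e3 q21842 L734564 q20350, e3 q21843 L749982 q23272, e3 q21844 (flp_e L749580) q23241, e3 q21845 (flp_e L749600) q23242, e3 q21846 L734627 q20170, e3 q21847 L750038 q23276, e3 q21848 (flp_e L749684) q23247, e3 q21849 (flp_e L749696) q23248, e3 q21850 L750079 q23279, e3 q21851 (flp_e L734685) q20174, e3 q21852 (flp_e L734694) q20175, e3 q21853 (flp_e L750101) q23280, e3 q21854 (flp_e L734717)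 q20180, e3 q21855 (flp_e L750125) q23282, e3 q21856 L734761 q20183, e3 q21857 (flp_e L750159) q23284, e3 q21858 L734791 q20843, e3 q21859 L750167 q23285, e3 q21860 (flp_e L734814) q20186, e3 q21861 (flp_e L750224) q23288, e3 q21862 (flp_e L734841) q20188, e3 q21863 (flp_e L750255) q23290, e3 q21864 L734878 q20190, e3 q21865 (flp_e L750281) q23292, e3 q21866 L734910 q21866, e3 q21867 L734921 q20192, e3 q21868 (flp_e L750312) q23294, e3 q21869 L734951 q20199, e3 q21870 L734965 q20195, e3 q21871 L734977 q20832, e3 q21872 L734996 q21521, e3 q21873 (flp_e L750343) q23296, e3 q21874 L735029 q20340, e3 q21875 L750397 q23300, e3 q21876 L735062 q21876, e3 q21877 L735075 q20206, e3 q21878 (flp_e L750439) q23302, e3 q21879 L735100 q20208, e3 q21880 (flp_e L750451) q23303, e3 q21881 L735134 q21881, e3 q21882 L735145 q20210, e3 q21883 (flp_e L750484) q23305, e3 q21884 L735177 q20216, e3 q21885 L735189 q20213, e3 q21886 L735209 q21593, e3 q21887 (flp_e L750519) q23307, trivial⟩ (by decide +kernel)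

theorem ce_e_342 : ∀ r, r < 64 → sm ge (Qf (21888 + r)) = Qf (tab Gen.e (21888 + r)) :=
  edges_tab (sm ge) Qf (tab Gen.e) 21888 [(21888, 20974), (21889, 21889), (21890, 20221), (21891, 23311), (21892, 20223), (21893, 20225), (21894, 23314), (21895, 20230), (21896, 20231), (21897, 20232), (21898, 21636), (21899, 23315), (21900, 23316), (21901, 23321), (21902, 20761), (21903, 20819), (21904, 20543), (21905, 23324), (21906, 20239), (21907, 20826), (21908, 20242), (21909, 23325), (21910, 20243), (21911, 23329), (21912, 21912), (21913, 20245), (21914, 23333), (21915, 23334), (21916, 20246), (21917, 23336), (21918, 21918), (21919, 21919), (21920, 20248), (21921, 23340), (21922, 21922), (21923, 20251), (21924, 21924), (21925, 20253), (21926, 23346), (21927, 20254), (21928, 23347), (21929, 21929), (21930, 20256), (21931, 23350), (21932, 20271), (21933, 20272), (21934, 20259), (21935, 21935), (21936, 20261), (21937, 23356), (21938, 20905), (21939, 21939), (21940, 21940), (21941, 20275), (21942, 20265), (21943, 23363), (21944, 20278),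 (21945, 20279), (21946, 20280), (21947, 23226), (21948, 21025), (21949, 23369), (21950, 23352), (21951, 23353)]
    ⟨e3 q21888 L735242 q20974, e3 q21889 L735255 q21889, e3 q21890 L735266 q20221, e3 q21891 (flp_e L750577) q23311, e3 q21892 L735291 q20223, e3 q21893 L735305 q20225, e3 q21894 L750609 q23314, e3 q21895 L735339 q20230, e3 q21896 L735357 q20231, e3 q21897 L735369 q20232, e3 q21898 L735381 q21636, e3 q21899 (flp_e L750635) q23315, e3 q21900 (flp_e L750651) q23316, e3 q21901 L750709 q23321, e3 q21902 L735433 q20761, e3 q21903 L735452 q20819, e3 q21904 L735464 q20543, e3 q21905 L750753 q23324, e3 q21906 (flp_e L735486) q20239, e3 q21907 L735511 q20826, e3 q21908 (flp_e L735513) q20242, e3 q21909 L750768 q23325, e3 q21910 (flp_e L735544) q20243, e3 q21911 (flp_e L750840) q23329, e3 q21912 L735580 q21912, e3 q21913 L735587 q20245, e3 q21914 (flp_e L750893) q23333, e3 q21915 L750901 q23334, e3 q21916 (flp_e L735618) q20246, e3 q21917 (flp_e L750939) q23336, e3 q21918 L735646 q21918, e3 q21919 L735657 q21919, e3 q21920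 L735666 q20248, e3 q21921 (flp_e L750982) q23340, e3 q21922 L735687 q21922, e3 q21923 L735696 q20251, e3 q21924 L735712 q21924, e3 q21925 L735719 q20253, e3 q21926 (flp_e L751051) q23346, e3 q21927 (flp_e L735736) q20254, e3 q21928 (flp_e L751069) q23347, e3 q21929 L735775 q21929, e3 q21930 L735784 q20256, e3 q21931 (flp_e L751108) q23350, e3 q21932 L735810 q20271, e3 q21933 L735824 q20272, e3 q21934 L735834 q20259, e3 q21935 L735852 q21935, e3 q21936 L735865 q20261, e3 q21937 (flp_e L751190) q23356, e3 q21938 (flp_e L735895) q20905, e3 q21939 L735909 q21939, e3 q21940 L735922 q21940, e3 q21941 L735933 q20275, e3 q21942 L735945 q20265, e3 q21943 L751275 q23363, e3 q21944 L735970 q20278, e3 q21945 L735988 q20279, e3 q21946 L735998 q20280, e3 q21947 (flp_e L749371) q23226, e3 q21948 L736020 q21025, e3 q21949 L751346 q23369, e3 q21950 (flp_e L751135) q23352, e3 q21951 (flp_e L751149) q23353, trivial⟩ (by decide +kernel)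

theorem ce_e_343 : ∀ r, r < 64 → sm ge (Qf (21952 + r)) = Qf (tab Gen.e (21952 + r)) :=
  edges_tab (sm ge) Qf (tab Gen.e) 21952 [(21952, 23230), (21953, 21332), (21954, 23361), (21955, 20277), (21956, 23364), (21957, 23365), (21958, 23377), (21959, 23233), (21960, 21268), (21961, 20844), (21962, 21962), (21963, 21963), (21964, 20290), (21965, 20291), (21966, 23383), (21967, 20293), (21968, 23385), (21969, 20295), (21970, 23388), (21971, 20318), (21972, 20319), (21973, 20320), (21974, 23240), (21975, 20356), (21976, 20300), (21977, 23394), (21978, 20359), (21979, 20360), (21980, 20323), (21981, 20304), (21982, 23400), (21983, 20363), (21984, 20364), (21985, 20326), (21986, 20327), (21987, 20328), (21988, 23407), (21989, 20310), (21990, 20330), (21991, 20331), (21992, 23412), (21993, 23253), (21994, 20955), (21995, 23415), (21996, 20317), (21997, 23389), (21998, 23390), (21999, 23420), (22000, 23259), (22001, 21162), (22002, 23398), (22003, 20325), (22004, 23403), (22005, 23404), (22006, 23408), (22007, 23409), (22008, 23426),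 (22009, 23428), (22010, 20332), (22011, 23266), (22012, 21331), (22013, 21052), (22014, 21676), (22015, 20627)]
    ⟨e3 q21952 (flp_e L749426) q23230, e3 q21953 L736089 q21332, e3 q21954 (flp_e L751259) q23361, e3 q21955 (flp_e L736110) q20277, e3 q21956 (flp_e L751292) q23364, e3 q21957 (flp_e L751308) q23365, e3 q21958 L751461 q23377, e3 q21959 (flp_e L749461) q23233, e3 q21960 L736182 q21268, e3 q21961 L736201 q20844, e3 q21962 L736214 q21962, e3 q21963 L736221 q21963, e3 q21964 L736230 q20290, e3 q21965 (flp_e L736236) q20291, e3 q21966 (flp_e L751543) q23383, e3 q21967 L736278 q20293, e3 q21968 (flp_e L751573) q23385, e3 q21969 L736300 q20295, e3 q21970 L751599 q23388, e3 q21971 L736326 q20318, e3 q21972 L736342 q20319, e3 q21973 L736354 q20320, e3 q21974 (flp_e L749570) q23240, e3 q21975 L736380 q20356, e3 q21976 L736392 q20300, e3 q21977 (flp_e L751677) q23394, e3 q21978 L736420 q20359, e3 q21979 L736438 q20360, e3 q21980 L736456 q20323, e3 q21981 L736470 q20304, e3 q21982 L751757 q23400, e3 q21983 L736490 q20363,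 e3 q21984 L736504 q20364, e3 q21985 L736522 q20326, e3 q21986 L736540 q20327, e3 q21987 L736552 q20328, e3 q21988 L751845 q23407, e3 q21989 (flp_e L736562) q20310, e3 q21990 L736572 q20330, e3 q21991 L736582 q20331, e3 q21992 L751881 q23412, e3 q21993 (flp_e L749748) q23253, e3 q21994 L736606 q20955, e3 q21995 L751910 q23415, e3 q21996 (flp_e L736622) q20317, e3 q21997 (flp_e L751617) q23389, e3 q21998 (flp_e L751631) q23390, e3 q21999 L751979 q23420, e3 q22000 (flp_e L749818) q23259, e3 q22001 L736694 q21162, e3 q22002 (flp_e L751741) q23398, e3 q22003 (flp_e L736716) q20325, e3 q22004 (flp_e L751803) q23403, e3 q22005 (flp_e L751819) q23404, e3 q22006 (flp_e L751857) q23408, e3 q22007 (flp_e L751863) q23409, e3 q22008 L752066 q23426, e3 q22009 L752090 q23428, e3 q22010 (flp_e L736800) q20332, e3 q22011 (flp_e L749906) q23266, e3 q22012 L736828 q21331, e3 q22013 L736845 q21052, e3 q22014 L736860 q21676, e3 q22015 L736872 q20627, trivial⟩ (by decide +kernel)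

theorem ce_e_344 : ∀ r, r < 64 → sm ge (Qf (22016 + r)) = Qf (tab Gen.e (22016 + r)) :=
  edges_tab (sm ge) Qf (tab Gen.e) 22016 [(22016, 23430), (22017, 23432), (22018, 20344), (22019, 21701), (22020, 23434), (22021, 23435), (22022, 20347), (22023, 23436), (22024, 20348), (22025, 21167), (22026, 21163), (22027, 23438), (22028, 20355), (22029, 23393), (22030, 20358), (22031, 23396), (22032, 23397), (22033, 23444), (22034, 20362), (22035, 23401), (22036, 23447), (22037, 20365), (22038, 20371), (22039, 20368), (22040, 23439), (22041, 23445), (22042, 23449), (22043, 20395), (22044, 20390), (22045, 20388), (22046, 20381), (22047, 20406), (22048, 20439), (22049, 20422), (22050, 20414), (22051, 23454), (22052, 20403), (22053, 20435), (22054, 21362), (22055, 20396), (22056, 21359), (22057, 20448), (22058, 20409), (22059, 23453), (22060, 20563), (22061, 20419), (22062, 20416), (22063, 20412), (22064, 23458), (22065, 23452), (22066, 20429), (22067, 23461), (22068, 23463), (22069, 20421), (22070, 20438), (22071, 21349), (22072, 20425),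 (22073, 23459), (22074, 23451), (22075, 23464), (22076, 23460), (22077, 20433), (22078, 21104), (22079, 23456)]
    ⟨e3 q22016 L752112 q23430, e3 q22017 L752140 q23432, e3 q22018 (flp_e L736905) q20344, e3 q22019 L736920 q21701, e3 q22020 L752168 q23434, e3 q22021 L752179 q23435, e3 q22022 (flp_e L736952) q20347, e3 q22023 L752192 q23436, e3 q22024 (flp_e L736972) q20348, e3 q22025 L736983 q21167, e3 q22026 L737001 q21163, e3 q22027 L752212 q23438, e3 q22028 (flp_e L737019) q20355, e3 q22029 (flp_e L751661) q23393, e3 q22030 L737052 q20358, e3 q22031 (flp_e L751711) q23396, e3 q22032 (flp_e L751725) q23397, e3 q22033 L752293 q23444, e3 q22034 (flp_e L737101) q20362, e3 q22035 (flp_e L751771) q23401, e3 q22036 L752334 q23447, e3 q22037 (flp_e L737136) q20365, e3 q22038 L737154 q20371, e3 q22039 (flp_e L737156) q20368, e3 q22040 (flp_e L752230) q23439, e3 q22041 (flp_e L752315) q23445, e3 q22042 (flp_e L752365) q23449, e3 q22043 L737213 q20395, e3 q22044 L737233 q20390, e3 q22045 L737253 q20388, e3 q22046 L737271 q20381, e3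 q22047 L737289 q20406, e3 q22048 L737315 q20439, e3 q22049 L737333 q20422, e3 q22050 L737345 q20414, e3 q22051 L752441 q23454, e3 q22052 L737374 q20403, e3 q22053 L737390 q20435, e3 q22054 L737407 q21362, e3 q22055 (flp_e L737411) q20396, e3 q22056 L737441 q21359, e3 q22057 L737449 q20448, e3 q22058 L737471 q20409, e3 q22059 (flp_e L752438) q23453, e3 q22060 L737502 q20563, e3 q22061 L737522 q20419, e3 q22062 L737540 q20416, e3 q22063 L737558 q20412, e3 q22064 L752517 q23458, e3 q22065 (flp_e L752419) q23452, e3 q22066 L737598 q20429, e3 q22067 L752575 q23461, e3 q22068 L752614 q23463, e3 q22069 (flp_e L737631) q20421, e3 q22070 L737647 q20438, e3 q22071 (flp_e L737671) q21349, e3 q22072 (flp_e L737673) q20425, e3 q22073 (flp_e L752540) q23459, e3 q22074 (flp_e L752400) q23451, e3 q22075 L752633 q23464, e3 q22076 L752573 q23460, e3 q22077 (flp_e L737742) q20433, e3 q22078 L737761 q21104, e3 q22079 (flp_e L752483) q23456, trivial⟩ (by decide +kernel)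

theorem ce_e_345 : ∀ r, r < 64 → sm ge (Qf (22080 + r)) = Qf (tab Gen.e (22080 + r)) :=
  edges_tab (sm ge) Qf (tab Gen.e) 22080 [(22080, 21357), (22081, 23462), (22082, 23465), (22083, 20442), (22084, 21355), (22085, 23457), (22086, 20444), (22087, 21364), (22088, 20452), (22089, 23466), (22090, 20455), (22091, 23468), (22092, 20525), (22093, 20458), (22094, 23469), (22095, 20460), (22096, 23471), (22097, 20465), (22098, 20462), (22099, 23474), (22100, 20503), (22101, 20501), (22102, 23473), (22103, 20467), (22104, 21411), (22105, 20590), (22106, 20470), (22107, 23478), (22108, 20473), (22109, 23480), (22110, 20475), (22111, 23481), (22112, 20481), (22113, 20478), (22114, 20707), (22115, 23483), (22116, 20615), (22117, 23486), (22118, 23487), (22119, 20490), (22120, 23490), (22121, 22121), (22122, 20492), (22123, 23493), (22124, 20494), (22125, 23494), (22126, 20495), (22127, 23495), (22128, 22128), (22129, 20497), (22130, 23498), (22131, 20504), (22132, 20505), (22133, 20500), (22134, 23172), (22135, 23504), (22136, 23500),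 (22137, 23501), (22138, 20670), (22139, 20564), (22140, 20509), (22141, 20552), (22142, 21140), (22143, 20676)]
    ⟨e3 q22080 L737781 q21357, e3 q22081 L752612 q23462, e3 q22082 L752652 q23465, e3 q22083 (flp_e L737808) q20442, e3 q22084 L737832 q21355, e3 q22085 (flp_e L752514) q23457, e3 q22086 (flp_e L737842) q20444, e3 q22087 L737857 q21364, e3 q22088 (flp_e L737859) q20452, e3 q22089 (flp_e L752681) q23466, e3 q22090 L737901 q20455, e3 q22091 (flp_e L752713) q23468, e3 q22092 L737927 q20525, e3 q22093 (flp_e L737935) q20458, e3 q22094 (flp_e L752731) q23469, e3 q22095 (flp_e L737969) q20460, e3 q22096 (flp_e L752765) q23471, e3 q22097 L738014 q20465, e3 q22098 L738026 q20462, e3 q22099 (flp_e L752813) q23474, e3 q22100 L738050 q20503, e3 q22101 L738068 q20501, e3 q22102 (flp_e L752799) q23473, e3 q22103 L738099 q20467, e3 q22104 L738119 q21411, e3 q22105 L738134 q20590, e3 q22106 (flp_e L738137) q20470, e3 q22107 (flp_e L752879) q23478, e3 q22108 L738179 q20473, e3 q22109 (flp_e L752911) q23480, e3 q22110 L738205 q20475,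 e3 q22111 (flp_e L752923) q23481, e3 q22112 L738235 q20481, e3 q22113 L738247 q20478, e3 q22114 L738263 q20707, e3 q22115 (flp_e L752955) q23483, e3 q22116 L738293 q20615, e3 q22117 L752989 q23486, e3 q22118 L753006 q23487, e3 q22119 (flp_e L738327) q20490, e3 q22120 (flp_e L753063) q23490, e3 q22121 L738357 q22121, e3 q22122 L738368 q20492, e3 q22123 (flp_e L753097) q23493, e3 q22124 L738389 q20494, e3 q22125 (flp_e L753107) q23494, e3 q22126 (flp_e L738409) q20495, e3 q22127 (flp_e L753125) q23495, e3 q22128 L738450 q22128, e3 q22129 L738457 q20497, e3 q22130 (flp_e L753164) q23498, e3 q22131 L738481 q20504, e3 q22132 L738491 q20505, e3 q22133 L738497 q20500, e3 q22134 (flp_e L748535) q23172, e3 q22135 L753232 q23504, e3 q22136 (flp_e L753191) q23500, e3 q22137 (flp_e L753201) q23501, e3 q22138 L738551 q20670, e3 q22139 L738566 q20564, e3 q22140 (flp_e L738569) q20509, e3 q22141 L738592 q20552, e3 q22142 L738612 q21140, e3 q22143 L738619 q20676, trivial⟩ (by decide +kernel)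

theorem ce_e_346 : ∀ r, r < 64 → sm ge (Qf (22144 + r)) = Qf (tab Gen.e (22144 + r)) :=
  edges_tab (sm ge) Qf (tab Gen.e) 22144 [(22144, 20514), (22145, 23509), (22146, 20516), (22147, 20518), (22148, 23511), (22149, 20544), (22150, 20521), (22151, 23515), (22152, 20527), (22153, 20528), (22154, 20702), (22155, 21457), (22156, 20526), (22157, 23516), (22158, 23522), (22159, 20719), (22160, 20562), (22161, 21459), (22162, 23523), (22163, 23524), (22164, 20540), (22165, 23525), (22166, 23513), (22167, 23527), (22168, 20546), (22169, 23528), (22170, 20551), (22171, 23529), (22172, 20554), (22173, 23530), (22174, 20555), (22175, 23532), (22176, 22176), (22177, 20557), (22178, 23535), (22179, 20559), (22180, 20580), (22181, 23503), (22182, 20565), (22183, 23538), (22184, 20567), (22185, 23542), (22186, 22186), (22187, 20569), (22188, 23545), (22189, 20570), (22190, 23546), (22191, 20572), (22192, 23548), (22193, 20573), (22194, 23549), (22195, 22195), (22196, 20582), (22197, 20575), (22198, 23553), (22199, 20585), (22200, 20578),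 (22201, 20610), (22202, 20606), (22203, 23552), (22204, 20584), (22205, 23559), (22206, 23555), (22207, 23477)]
    ⟨e3 q22144 L738638 q20514, e3 q22145 (flp_e L753312) q23509, e3 q22146 L738664 q20516, e3 q22147 L738674 q20518, e3 q22148 (flp_e L753336) q23511, e3 q22149 L738700 q20544, e3 q22150 L738712 q20521, e3 q22151 L753378 q23515, e3 q22152 L738734 q20527, e3 q22153 L738744 q20528, e3 q22154 L738752 q20702, e3 q22155 L738768 q21457, e3 q22156 (flp_e L738772) q20526, e3 q22157 (flp_e L753392) q23516, e3 q22158 L753460 q23522, e3 q22159 L738810 q20719, e3 q22160 L738830 q20562, e3 q22161 L738848 q21459, e3 q22162 L753466 q23523, e3 q22163 L753483 q23524, e3 q22164 (flp_e L738884) q20540, e3 q22165 L753498 q23525, e3 q22166 (flp_e L753364) q23513, e3 q22167 L753529 q23527, e3 q22168 (flp_e L738933) q20546, e3 q22169 (flp_e L753557) q23528, e3 q22170 L738963 q20551, e3 q22171 (flp_e L753567) q23529, e3 q22172 L738991 q20554, e3 q22173 (flp_e L753579) q23530, e3 q22174 (flp_e L739007) q20555, e3 q22175 (flp_e L753610)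 q23532, e3 q22176 L739050 q22176, e3 q22177 L739059 q20557, e3 q22178 (flp_e L753655) q23535, e3 q22179 L739079 q20559, e3 q22180 L739091 q20580, e3 q22181 (flp_e L753229) q23503, e3 q22182 (flp_e L739108) q20565, e3 q22183 (flp_e L753690) q23538, e3 q22184 (flp_e L739139) q20567, e3 q22185 (flp_e L753755) q23542, e3 q22186 L739177 q22186, e3 q22187 L739188 q20569, e3 q22188 (flp_e L753795) q23545, e3 q22189 (flp_e L739205) q20570, e3 q22190 (flp_e L753811) q23546, e3 q22191 L739240 q20572, e3 q22192 (flp_e L753837) q23548, e3 q22193 (flp_e L739254) q20573, e3 q22194 (flp_e L753851) q23549, e3 q22195 L739293 q22195, e3 q22196 L739310 q20582, e3 q22197 L739320 q20575, e3 q22198 (flp_e L753912) q23553, e3 q22199 L739340 q20585, e3 q22200 L739348 q20578, e3 q22201 L739362 q20610, e3 q22202 L739378 q20606, e3 q22203 (flp_e L753898) q23552, e3 q22204 L739410 q20584, e3 q22205 L753982 q23559, e3 q22206 (flp_e L753933) q23555, e3 q22207 (flp_e L752866) q23477, trivial⟩ (by decide +kernel)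

theorem ce_e_347 : ∀ r, r < 64 → sm ge (Qf (22208 + r)) = Qf (tab Gen.e (22208 + r)) :=
  edges_tab (sm ge) Qf (tab Gen.e) 22208 [(22208, 20724), (22209, 20589), (22210, 21383), (22211, 20592), (22212, 23562), (22213, 20594), (22214, 23563), (22215, 20598), (22216, 20607), (22217, 20597), (22218, 23564), (22219, 20600), (22220, 23568), (22221, 20611), (22222, 20603), (22223, 23572), (22224, 20614), (22225, 23484), (22226, 23565), (22227, 20661), (22228, 23576), (22229, 23570), (22230, 23579), (22231, 20613), (22232, 23582), (22233, 20705), (22234, 20672), (22235, 20618), (22236, 21397), (22237, 20619), (22238, 20898), (22239, 23583), (22240, 20624), (22241, 23585), (22242, 20630), (22243, 21376), (22244, 20632), (22245, 23586), (22246, 20636), (22247, 23590), (22248, 22248), (22249, 20638), (22250, 23593), (22251, 20639), (22252, 23594), (22253, 22253), (22254, 22254), (22255, 20641), (22256, 23599), (22257, 22257), (22258, 20644), (22259, 20646), (22260, 23603), (22261, 22261), (22262, 20648), (22263, 23606), (22264, 20662),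 (22265, 20651), (22266, 22266), (22267, 20653), (22268, 23611), (22269, 22269), (22270, 22270), (22271, 20665)]
    ⟨e3 q22208 L739458 q20724, e3 q22209 (flp_e L739461) q20589, e3 q22210 L739480 q21383, e3 q22211 L739497 q20592, e3 q22212 (flp_e L754029) q23562, e3 q22213 L739517 q20594, e3 q22214 (flp_e L754041) q23563, e3 q22215 L739541 q20598, e3 q22216 L739557 q20607, e3 q22217 L739567 q20597, e3 q22218 (flp_e L754055) q23564, e3 q22219 L739593 q20600, e3 q22220 (flp_e L754103) q23568, e3 q22221 L739611 q20611, e3 q22222 L739621 q20603, e3 q22223 L754135 q23572, e3 q22224 L739639 q20614, e3 q22225 (flp_e L752969) q23484, e3 q22226 (flp_e L754069) q23565, e3 q22227 L739669 q20661, e3 q22228 L754177 q23576, e3 q22229 (flp_e L754125) q23570, e3 q22230 L754223 q23579, e3 q22231 (flp_e L739704) q20613, e3 q22232 L754262 q23582, e3 q22233 L739728 q20705, e3 q22234 (flp_e L739752) q20672, e3 q22235 (flp_e L739754) q20618, e3 q22236 (flp_e L739783) q21397, e3 q22237 (flp_e L739785) q20619, e3 q22238 L739807 q20898, e3 q22239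 L754268 q23583, e3 q22240 (flp_e L739828) q20624, e3 q22241 L754295 q23585, e3 q22242 (flp_e L739846) q20630, e3 q22243 (flp_e L739865) q21376, e3 q22244 (flp_e L739867) q20632, e3 q22245 (flp_e L754315) q23586, e3 q22246 (flp_e L739891) q20636, e3 q22247 (flp_e L754371) q23590, e3 q22248 L739925 q22248, e3 q22249 L739932 q20638, e3 q22250 (flp_e L754405) q23593, e3 q22251 (flp_e L739949) q20639, e3 q22252 (flp_e L754419) q23594, e3 q22253 L739975 q22253, e3 q22254 L739982 q22254, e3 q22255 L739989 q20641, e3 q22256 (flp_e L754473) q23599, e3 q22257 L740008 q22257, e3 q22258 L740017 q20644, e3 q22259 L740029 q20646, e3 q22260 (flp_e L754512) q23603, e3 q22261 L740061 q22261, e3 q22262 L740068 q20648, e3 q22263 (flp_e L754558) q23606, e3 q22264 L740088 q20662, e3 q22265 L740096 q20651, e3 q22266 L740116 q22266, e3 q22267 L740125 q20653, e3 q22268 (flp_e L754618) q23611, e3 q22269 L740151 q22269, e3 q22270 L740160 q22270, e3 q22271 L740169 q20665, trivial⟩ (by decide +kernel)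

theorem ce_e_348 : ∀ r, r < 64 → sm ge (Qf (22272 + r)) = Qf (tab Gen.e (22272 + r)) :=
  edges_tab (sm ge) Qf (tab Gen.e) 22272 [(22272, 20657), (22273, 23617), (22274, 20668), (22275, 20669), (22276, 23502), (22277, 23561), (22278, 23608), (22279, 23475), (22280, 23622), (22281, 23615), (22282, 23575), (22283, 20667), (22284, 23618), (22285, 23627), (22286, 23507), (22287, 20671), (22288, 21136), (22289, 23173), (22290, 20679), (22291, 22291), (22292, 20735), (22293, 20736), (22294, 20703), (22295, 20683), (22296, 23636), (22297, 20706), (22298, 23510), (22299, 20739), (22300, 20687), (22301, 23640), (22302, 22302), (22303, 20742), (22304, 20743), (22305, 20709), (22306, 20691), (22307, 23646), (22308, 22308), (22309, 22309), (22310, 20746), (22311, 20747), (22312, 20712), (22313, 20713), (22314, 23654), (22315, 20698), (22316, 20716), (22317, 20717), (22318, 23659), (22319, 23518), (22320, 23634), (22321, 23578), (22322, 23662), (22323, 23644), (22324, 23664), (22325, 20711), (22326, 23651), (22327, 23668), (22328, 23557),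 (22329, 20714), (22330, 23655), (22331, 23656), (22332, 23671), (22333, 23672), (22334, 20718), (22335, 21464)]
    ⟨e3 q22272 L740177 q20657, e3 q22273 L754675 q23617, e3 q22274 L740198 q20668, e3 q22275 L740206 q20669, e3 q22276 (flp_e L753213) q23502, e3 q22277 (flp_e L754012) q23561, e3 q22278 (flp_e L754579) q23608, e3 q22279 (flp_e L752833) q23475, e3 q22280 L754717 q23622, e3 q22281 (flp_e L754663) q23615, e3 q22282 L754175 q23575, e3 q22283 (flp_e L740287) q20667, e3 q22284 (flp_e L754686) q23618, e3 q22285 L754771 q23627, e3 q22286 (flp_e L753276) q23507, e3 q22287 (flp_e L740316) q20671, e3 q22288 L740339 q21136, e3 q22289 (flp_e L748556) q23173, e3 q22290 L740352 q20679, e3 q22291 L740368 q22291, e3 q22292 L740377 q20735, e3 q22293 L740391 q20736, e3 q22294 L740401 q20703, e3 q22295 L740413 q20683, e3 q22296 L754862 q23636, e3 q22297 L740431 q20706, e3 q22298 (flp_e L753326) q23510, e3 q22299 L740457 q20739, e3 q22300 L740465 q20687, e3 q22301 (flp_e L754910) q23640, e3 q22302 L740499 q22302, e3 q22303 L740506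 q20742, e3 q22304 L740520 q20743, e3 q22305 L740534 q20709, e3 q22306 L740546 q20691, e3 q22307 L754983 q23646, e3 q22308 L740570 q22308, e3 q22309 L740579 q22309, e3 q22310 L740586 q20746, e3 q22311 L740594 q20747, e3 q22312 L740602 q20712, e3 q22313 L740612 q20713, e3 q22314 L755045 q23654, e3 q22315 (flp_e L740620) q20698, e3 q22316 L740630 q20716, e3 q22317 L740638 q20717, e3 q22318 L755079 q23659, e3 q22319 (flp_e L753408) q23518, e3 q22320 (flp_e L754850) q23634, e3 q22321 L754221 q23578, e3 q22322 L755100 q23662, e3 q22323 (flp_e L754967) q23644, e3 q22324 L755123 q23664, e3 q22325 (flp_e L740714) q20711, e3 q22326 (flp_e L755029) q23651, e3 q22327 L755170 q23668, e3 q22328 (flp_e L753961) q23557, e3 q22329 (flp_e L740746) q20714, e3 q22330 (flp_e L755055) q23655, e3 q22331 (flp_e L755059) q23656, e3 q22332 L755186 q23671, e3 q22333 L755196 q23672, e3 q22334 (flp_e L740781) q20718, e3 q22335 L740787 q21464, trivial⟩ (by decide +kernel)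

theorem ce_e_349 : ∀ r, r < 64 → sm ge (Qf (22336 + r)) = Qf (tab Gen.e (22336 + r)) :=
  edges_tab (sm ge) Qf (tab Gen.e) 22336 [(22336, 20720), (22337, 21410), (22338, 20729), (22339, 23673), (22340, 20730), (22341, 23674), (22342, 20731), (22343, 23632), (22344, 23633), (22345, 23678), (22346, 20738), (22347, 23639), (22348, 20741), (22349, 23642), (22350, 23643), (22351, 23683), (22352, 20745), (22353, 23649), (22354, 23686), (22355, 23687), (22356, 20748), (22357, 20751), (22358, 20755), (22359, 23689), (22360, 20757), (22361, 23690), (22362, 20759), (22363, 21028), (22364, 21041), (22365, 20765), (22366, 23694), (22367, 20767), (22368, 20771), (22369, 20886), (22370, 20892), (22371, 23698), (22372, 20774), (22373, 22373), (22374, 20776), (22375, 23700), (22376, 20778), (22377, 23701), (22378, 22378), (22379, 20781), (22380, 22380), (22381, 20783), (22382, 23706), (22383, 20789), (22384, 20786), (22385, 20791), (22386, 20954), (22387, 23707), (22388, 20962), (22389, 23712), (22390, 20794), (22391, 23713), (22392, 22392),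 (22393, 20797), (22394, 20799), (22395, 20811), (22396, 21002), (22397, 20803), (22398, 20827), (22399, 20813)]
    ⟨e3 q22336 (flp_e L740793) q20720, e3 q22337 L740816 q21410, e3 q22338 (flp_e L740819) q20729, e3 q22339 L755202 q23673, e3 q22340 (flp_e L740840) q20730, e3 q22341 L755215 q23674, e3 q22342 (flp_e L740859) q20731, e3 q22343 (flp_e L754828) q23632, e3 q22344 (flp_e L754840) q23633, e3 q22345 L755254 q23678, e3 q22346 (flp_e L740895) q20738, e3 q22347 (flp_e L754896) q23639, e3 q22348 L740925 q20741, e3 q22349 (flp_e L754941) q23642, e3 q22350 (flp_e L754953) q23643, e3 q22351 L755316 q23683, e3 q22352 (flp_e L740968) q20745, e3 q22353 (flp_e L755013) q23649, e3 q22354 L755350 q23686, e3 q22355 L755356 q23687, e3 q22356 (flp_e L741007) q20748, e3 q22357 L741017 q20751, e3 q22358 L741025 q20755, e3 q22359 (flp_e L755381) q23689, e3 q22360 L741053 q20757, e3 q22361 (flp_e L755395) q23690, e3 q22362 L741079 q20759, e3 q22363 L741093 q21028, e3 q22364 L741112 q21041, e3 q22365 L741121 q20765, e3 q22366 (flp_e L755452)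 q23694, e3 q22367 L741148 q20767, e3 q22368 L741160 q20771, e3 q22369 L741174 q20886, e3 q22370 L741187 q20892, e3 q22371 L755490 q23698, e3 q22372 (flp_e L741201) q20774, e3 q22373 L741218 q22373, e3 q22374 L741225 q20776, e3 q22375 (flp_e L755517) q23700, e3 q22376 L741246 q20778, e3 q22377 (flp_e L755527) q23701, e3 q22378 L741265 q22378, e3 q22379 L741272 q20781, e3 q22380 L741290 q22380, e3 q22381 L741297 q20783, e3 q22382 (flp_e L755580) q23706, e3 q22383 L741324 q20789, e3 q22384 L741336 q20786, e3 q22385 L741348 q20791, e3 q22386 L741362 q20954, e3 q22387 (flp_e L755594) q23707, e3 q22388 L741387 q20962, e3 q22389 L755645 q23712, e3 q22390 L741411 q20794, e3 q22391 (flp_e L755664) q23713, e3 q22392 L741440 q22392, e3 q22393 L741447 q20797, e3 q22394 L741461 q20799, e3 q22395 L741473 q20811, e3 q22396 L741483 q21002, e3 q22397 L741491 q20803, e3 q22398 L741507 q20827, e3 q22399 L741525 q20813, trivial⟩ (by decide +kernel)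

theorem ce_e_350 : ∀ r, r < 64 → sm ge (Qf (22400 + r)) = Qf (tab Gen.e (22400 + r)) :=
  edges_tab (sm ge) Qf (tab Gen.e) 22400 [(22400, 21529), (22401, 20814), (22402, 20815), (22403, 23726), (22404, 21024), (22405, 23728), (22406, 23723), (22407, 23730), (22408, 23731), (22409, 20816), (22410, 23322), (22411, 23732), (22412, 20821), (22413, 23733), (22414, 20823), (22415, 20824), (22416, 20829), (22417, 23735), (22418, 20831), (22419, 20834), (22420, 23737), (22421, 20836), (22422, 23738), (22423, 20838), (22424, 22424), (22425, 20841), (22426, 23743), (22427, 23692), (22428, 23378), (22429, 22429), (22430, 20846), (22431, 23746), (22432, 22432), (22433, 20848), (22434, 23748), (22435, 22435), (22436, 20851), (22437, 22437), (22438, 20853), (22439, 23753), (22440, 20859), (22441, 20860), (22442, 20856), (22443, 20862), (22444, 21512), (22445, 23754), (22446, 23755), (22447, 21518), (22448, 23763), (22449, 21210), (22450, 22450), (22451, 20866), (22452, 23765), (22453, 22453), (22454, 20869), (22455, 22455), (22456, 20904),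 (22457, 20887), (22458, 20888), (22459, 20873), (22460, 20890), (22461, 20891), (22462, 23695), (22463, 20907)]
    ⟨e3 q22400 L741541 q21529, e3 q22401 L741551 q20814, e3 q22402 L741561 q20815, e3 q22403 L755805 q23726, e3 q22404 L741573 q21024, e3 q22405 L755817 q23728, e3 q22406 (flp_e L755787) q23723, e3 q22407 L755839 q23730, e3 q22408 L755847 q23731, e3 q22409 (flp_e L741619) q20816, e3 q22410 (flp_e L750734) q23322, e3 q22411 L755859 q23732, e3 q22412 (flp_e L741646) q20821, e3 q22413 L755870 q23733, e3 q22414 (flp_e L741666) q20823, e3 q22415 (flp_e L741673) q20824, e3 q22416 L741690 q20829, e3 q22417 (flp_e L755896) q23735, e3 q22418 L741716 q20831, e3 q22419 L741726 q20834, e3 q22420 (flp_e L755918) q23737, e3 q22421 L741749 q20836, e3 q22422 (flp_e L755932) q23738, e3 q22423 L741769 q20838, e3 q22424 L741777 q22424, e3 q22425 L741786 q20841, e3 q22426 L755968 q23743, e3 q22427 (flp_e L755428) q23692, e3 q22428 (flp_e L751481) q23378, e3 q22429 L741825 q22429, e3 q22430 L741836 q20846, e3 q22431 (flp_e L756000)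 q23746, e3 q22432 L741869 q22432, e3 q22433 L741880 q20848, e3 q22434 (flp_e L756029) q23748, e3 q22435 L741905 q22435, e3 q22436 L741912 q20851, e3 q22437 L741930 q22437, e3 q22438 L741941 q20853, e3 q22439 (flp_e L756090) q23753, e3 q22440 L741970 q20859, e3 q22441 L741980 q20860, e3 q22442 L741992 q20856, e3 q22443 L742004 q20862, e3 q22444 L742018 q21512, e3 q22445 (flp_e L756104) q23754, e3 q22446 (flp_e L756114) q23755, e3 q22447 L742051 q21518, e3 q22448 L756199 q23763, e3 q22449 L742067 q21210, e3 q22450 L742090 q22450, e3 q22451 L742099 q20866, e3 q22452 (flp_e L756231) q23765, e3 q22453 L742126 q22453, e3 q22454 L742135 q20869, e3 q22455 L742153 q22455, e3 q22456 L742162 q20904, e3 q22457 L742174 q20887, e3 q22458 L742186 q20888, e3 q22459 L742200 q20873, e3 q22460 L742210 q20890, e3 q22461 L742218 q20891, e3 q22462 (flp_e L755468) q23695, e3 q22463 L742232 q20907, trivial⟩ (by decide +kernel)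

theorem ce_e_351 : ∀ r, r < 64 → sm ge (Qf (22464 + r)) = Qf (tab Gen.e (22464 + r)) :=
  edges_tab (sm ge) Qf (tab Gen.e) 22464 [(22464, 20908), (22465, 20879), (22466, 22466), (22467, 22467), (22468, 20909), (22469, 20910), (22470, 20893), (22471, 21584), (22472, 23786), (22473, 23697), (22474, 23770), (22475, 23771), (22476, 21591), (22477, 23773), (22478, 23793), (22479, 21699), (22480, 23795), (22481, 21178), (22482, 23796), (22483, 20895), (22484, 23798), (22485, 23799), (22486, 20899), (22487, 20901), (22488, 23769), (22489, 23358), (22490, 23776), (22491, 23777), (22492, 23781), (22493, 20912), (22494, 23803), (22495, 20913), (22496, 23804), (22497, 22497), (22498, 20915), (22499, 23807), (22500, 22500), (22501, 22501), (22502, 20918), (22503, 20919), (22504, 23812), (22505, 20963), (22506, 22506), (22507, 20921), (22508, 23816), (22509, 21309), (22510, 21038), (22511, 21091), (22512, 22512), (22513, 22513), (22514, 20925), (22515, 23824), (22516, 22516), (22517, 22517), (22518, 23704), (22519, 20930), (22520, 23828),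 (22521, 22521), (22522, 22522), (22523, 20933), (22524, 20935), (22525, 23832), (22526, 20956), (22527, 20957)]
    ⟨e3 q22464 L742252 q20908, e3 q22465 L742262 q20879, e3 q22466 L742276 q22466, e3 q22467 L742289 q22467, e3 q22468 L742300 q20909, e3 q22469 L742310 q20910, e3 q22470 L742320 q20893, e3 q22471 L742334 q21584, e3 q22472 L756453 q23786, e3 q22473 (flp_e L755482) q23697, e3 q22474 (flp_e L756289) q23770, e3 q22475 (flp_e L756301) q23771, e3 q22476 L742385 q21591, e3 q22477 (flp_e L756325) q23773, e3 q22478 L756522 q23793, e3 q22479 L742409 q21699, e3 q22480 L756541 q23795, e3 q22481 L742429 q21178, e3 q22482 L756550 q23796, e3 q22483 (flp_e L742446) q20895, e3 q22484 L756567 q23798, e3 q22485 L756574 q23799, e3 q22486 (flp_e L742470) q20899, e3 q22487 (flp_e L742477) q20901, e3 q22488 (flp_e L756275) q23769, e3 q22489 (flp_e L751221) q23358, e3 q22490 (flp_e L756351) q23776, e3 q22491 (flp_e L756363) q23777, e3 q22492 (flp_e L756409) q23781, e3 q22493 L742558 q20912, e3 q22494 (flp_e L756625) q23803, e3 q22495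 (flp_e L742578) q20913, e3 q22496 (flp_e L756641) q23804, e3 q22497 L742617 q22497, e3 q22498 L742628 q20915, e3 q22499 (flp_e L756683) q23807, e3 q22500 L742647 q22500, e3 q22501 L742654 q22501, e3 q22502 L742661 q20918, e3 q22503 (flp_e L742665) q20919, e3 q22504 (flp_e L756728) q23812, e3 q22505 L742700 q20963, e3 q22506 L742716 q22506, e3 q22507 L742721 q20921, e3 q22508 (flp_e L756778) q23816, e3 q22509 L742744 q21309, e3 q22510 L742756 q21038, e3 q22511 L742772 q21091, e3 q22512 L742782 q22512, e3 q22513 L742791 q22513, e3 q22514 L742798 q20925, e3 q22515 L756855 q23824, e3 q22516 L742815 q22516, e3 q22517 L742822 q22517, e3 q22518 (flp_e L755555) q23704, e3 q22519 L742839 q20930, e3 q22520 (flp_e L756890) q23828, e3 q22521 L742866 q22521, e3 q22522 L742873 q22522, e3 q22523 L742880 q20933, e3 q22524 L742896 q20935, e3 q22525 (flp_e L756932) q23832, e3 q22526 L742924 q20956, e3 q22527 L742940 q20957, trivial⟩ (by decide +kernel)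

theorem ce_e_352 : ∀ r, r < 64 → sm ge (Qf (22528 + r)) = Qf (tab Gen.e (22528 + r)) :=
  edges_tab (sm ge) Qf (tab Gen.e) 22528 [(22528, 20938), (22529, 20959), (22530, 20960), (22531, 20961), (22532, 23708), (22533, 21094), (22534, 20944), (22535, 21231), (22536, 21639), (22537, 21095), (22538, 21096), (22539, 20964), (22540, 20965), (22541, 21544), (22542, 20967), (22543, 20968), (22544, 23852), (22545, 23710), (22546, 23833), (22547, 23834), (22548, 21160), (22549, 23836), (22550, 23837), (22551, 23859), (22552, 21316), (22553, 23814), (22554, 23846), (22555, 23862), (22556, 23849), (22557, 23865), (22558, 23867), (22559, 20969), (22560, 21322), (22561, 21599), (22562, 21677), (22563, 21265), (22564, 20978), (22565, 23869), (22566, 21073), (22567, 22567), (22568, 22568), (22569, 20982), (22570, 23874), (22571, 22571), (22572, 22572), (22573, 23715), (22574, 20987), (22575, 23878), (22576, 22576), (22577, 21074), (22578, 21026), (22579, 20991), (22580, 23870), (22581, 22581), (22582, 22582), (22583, 22583), (22584, 21075),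 (22585, 21076), (22586, 21029), (22587, 21030), (22588, 21031), (22589, 23891), (22590, 20998), (22591, 21034)]
    ⟨e3 q22528 L742952 q20938, e3 q22529 L742964 q20959, e3 q22530 L742972 q20960, e3 q22531 L742978 q20961, e3 q22532 (flp_e L755610) q23708, e3 q22533 L743000 q21094, e3 q22534 L743010 q20944, e3 q22535 L743024 q21231, e3 q22536 L743038 q21639, e3 q22537 L743050 q21095, e3 q22538 L743060 q21096, e3 q22539 L743074 q20964, e3 q22540 L743086 q20965, e3 q22541 L743100 q21544, e3 q22542 L743104 q20967, e3 q22543 L743112 q20968, e3 q22544 L757148 q23852, e3 q22545 (flp_e L755624) q23710, e3 q22546 (flp_e L756948) q23833, e3 q22547 (flp_e L756962) q23834, e3 q22548 L743168 q21160, e3 q22549 (flp_e L756988) q23836, e3 q22550 (flp_e L756996) q23837, e3 q22551 L757221 q23859, e3 q22552 L743204 q21316, e3 q22553 (flp_e L756755) q23814, e3 q22554 (flp_e L757096) q23846, e3 q22555 L757258 q23862, e3 q22556 (flp_e L757126) q23849, e3 q22557 L757292 q23865, e3 q22558 L757312 q23867, e3 q22559 (flp_e L743282) q20969, e3 q22560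 L743291 q21322, e3 q22561 L743308 q21599, e3 q22562 L743322 q21677, e3 q22563 L743327 q21265, e3 q22564 L743346 q20978, e3 q22565 (flp_e L757341) q23869, e3 q22566 L743371 q21073, e3 q22567 L743385 q22567, e3 q22568 L743394 q22568, e3 q22569 L743403 q20982, e3 q22570 L757387 q23874, e3 q22571 L743428 q22571, e3 q22572 L743435 q22572, e3 q22573 (flp_e L755687) q23715, e3 q22574 L743454 q20987, e3 q22575 (flp_e L757428) q23878, e3 q22576 L743488 q22576, e3 q22577 L743501 q21074, e3 q22578 L743513 q21026, e3 q22579 L743523 q20991, e3 q22580 (flp_e L757351) q23870, e3 q22581 L743547 q22581, e3 q22582 L743558 q22582, e3 q22583 L743571 q22583, e3 q22584 L743584 q21075, e3 q22585 L743592 q21076, e3 q22586 L743602 q21029, e3 q22587 L743612 q21030, e3 q22588 L743620 q21031, e3 q22589 L757556 q23891, e3 q22590 (flp_e L743630) q20998, e3 q22591 L743644 q21034, trivial⟩ (by decide +kernel)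

theorem ce_e_353 : ∀ r, r < 64 → sm ge (Qf (22592 + r)) = Qf (tab Gen.e (22592 + r)) :=
  edges_tab (sm ge) Qf (tab Gen.e) 22592 [(22592, 21035), (22593, 23895), (22594, 23718), (22595, 21004), (22596, 22596), (22597, 22597), (22598, 21078), (22599, 21039), (22600, 21040), (22601, 23904), (22602, 21010), (22603, 22603), (22604, 22604), (22605, 22605), (22606, 22606), (22607, 22607), (22608, 21080), (22609, 23912), (22610, 21042), (22611, 21043), (22612, 23916), (22613, 23918), (22614, 21019), (22615, 21047), (22616, 21048), (22617, 23922), (22618, 23924), (22619, 21023), (22620, 23727), (22621, 23880), (22622, 23693), (22623, 23887), (22624, 23888), (22625, 23930), (22626, 21262), (22627, 21032), (22628, 23892), (22629, 23933), (22630, 23935), (22631, 21036), (22632, 21700), (22633, 23819), (22634, 23901), (22635, 23938), (22636, 23913), (22637, 23940), (22638, 23941), (22639, 21044), (22640, 23942), (22641, 23944), (22642, 23945), (22643, 21049), (22644, 23947), (22645, 21050), (22646, 21656), (22647, 21655), (22648, 23949),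 (22649, 21056), (22650, 21314), (22651, 23952), (22652, 23954), (22653, 21062), (22654, 23957), (22655, 21063)]
    ⟨e3 q22592 L743652 q21035, e3 q22593 L757584 q23895, e3 q22594 (flp_e L755713) q23718, e3 q22595 L743670 q21004, e3 q22596 L743682 q22596, e3 q22597 L743691 q22597, e3 q22598 L743698 q21078, e3 q22599 L743710 q21039, e3 q22600 L743720 q21040, e3 q22601 L757656 q23904, e3 q22602 (flp_e L743730) q21010, e3 q22603 L743748 q22603, e3 q22604 L743753 q22604, e3 q22605 L743762 q22605, e3 q22606 L743769 q22606, e3 q22607 L743774 q22607, e3 q22608 L743779 q21080, e3 q22609 L757720 q23912, e3 q22610 L743795 q21042, e3 q22611 L743805 q21043, e3 q22612 L757754 q23916, e3 q22613 L757764 q23918, e3 q22614 (flp_e L743821) q21019, e3 q22615 L743841 q21047, e3 q22616 L743845 q21048, e3 q22617 L757796 q23922, e3 q22618 L757806 q23924, e3 q22619 (flp_e L743861) q21023, e3 q22620 (flp_e L755813) q23727, e3 q22621 (flp_e L757459) q23880, e3 q22622 (flp_e L755443) q23693, e3 q22623 (flp_e L757530) q23887, e3 q22624 (flp_e L757540)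 q23888, e3 q22625 L757853 q23930, e3 q22626 (flp_e L743923) q21262, e3 q22627 (flp_e L743925) q21032, e3 q22628 (flp_e L757568) q23892, e3 q22629 L757874 q23933, e3 q22630 L757888 q23935, e3 q22631 (flp_e L743961) q21036, e3 q22632 L743969 q21700, e3 q22633 (flp_e L756815) q23819, e3 q22634 (flp_e L757638) q23901, e3 q22635 L757927 q23938, e3 q22636 (flp_e L757736) q23913, e3 q22637 L757939 q23940, e3 q22638 L757944 q23941, e3 q22639 (flp_e L744036) q21044, e3 q22640 (flp_e L757962) q23942, e3 q22641 L757974 q23944, e3 q22642 L757982 q23945, e3 q22643 (flp_e L744068) q21049, e3 q22644 L758006 q23947, e3 q22645 (flp_e L744082) q21050, e3 q22646 L744092 q21656, e3 q22647 L744108 q21655, e3 q22648 L758016 q23949, e3 q22649 (flp_e L744121) q21056, e3 q22650 L744132 q21314, e3 q22651 L758046 q23952, e3 q22652 L758066 q23954, e3 q22653 (flp_e L744156) q21062, e3 q22654 L758089 q23957, e3 q22655 (flp_e L744169) q21063, trivial⟩ (by decide +kernel)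

theorem ce_e_354 : ∀ r, r < 64 → sm ge (Qf (22656 + r)) = Qf (tab Gen.e (22656 + r)) :=
  edges_tab (sm ge) Qf (tab Gen.e) 22656 [(22656, 21690), (22657, 23959), (22658, 21066), (22659, 21067), (22660, 23961), (22661, 21069), (22662, 22662), (22663, 23885), (22664, 23965), (22665, 23966), (22666, 21081), (22667, 21082), (22668, 22668), (22669, 23969), (22670, 21219), (22671, 23437), (22672, 21215), (22673, 21090), (22674, 23972), (22675, 23820), (22676, 21093), (22677, 23840), (22678, 23844), (22679, 23974), (22680, 21097), (22681, 21098), (22682, 22682), (22683, 21360), (22684, 23455), (22685, 21106), (22686, 21130), (22687, 21109), (22688, 21112), (22689, 21454), (22690, 23975), (22691, 21116), (22692, 21118), (22693, 23189), (22694, 21132), (22695, 21122), (22696, 22696), (22697, 21142), (22698, 21134), (22699, 21135), (22700, 23981), (22701, 21137), (22702, 23977), (22703, 23976), (22704, 23984), (22705, 23187), (22706, 23988), (22707, 23996), (22708, 23508), (22709, 21144), (22710, 23997), (22711, 21146), (22712, 21148),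 (22713, 21260), (22714, 21284), (22715, 21152), (22716, 24003), (22717, 21154), (22718, 24005), (22719, 24007)]
    ⟨e3 q22656 L744183 q21690, e3 q22657 L758106 q23959, e3 q22658 (flp_e L744201) q21066, e3 q22659 (flp_e L744210) q21067, e3 q22660 L758127 q23961, e3 q22661 (flp_e L744233) q21069, e3 q22662 L744243 q22662, e3 q22663 (flp_e L757510) q23885, e3 q22664 L758164 q23965, e3 q22665 L758176 q23966, e3 q22666 (flp_e L744281) q21081, e3 q22667 (flp_e L744291) q21082, e3 q22668 L744315 q22668, e3 q22669 L758212 q23969, e3 q22670 L744337 q21219, e3 q22671 (flp_e L752210) q23437, e3 q22672 L744360 q21215, e3 q22673 L744375 q21090, e3 q22674 L758246 q23972, e3 q22675 (flp_e L756829) q23820, e3 q22676 (flp_e L744404) q21093, e3 q22677 (flp_e L757022) q23840, e3 q22678 (flp_e L757068) q23844, e3 q22679 L758257 q23974, e3 q22680 (flp_e L744449) q21097, e3 q22681 (flp_e L744461) q21098, e3 q22682 L744485 q22682, e3 q22683 L744496 q21360, e3 q22684 (flp_e L752476) q23455, e3 q22685 L744518 q21106, e3 q22686 L744534 q21130, e3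 q22687 L744544 q21109, e3 q22688 L744558 q21112, e3 q22689 L744570 q21454, e3 q22690 (flp_e L758281) q23975, e3 q22691 L744590 q21116, e3 q22692 L744600 q21118, e3 q22693 (flp_e L748815) q23189, e3 q22694 L744628 q21132, e3 q22695 L744640 q21122, e3 q22696 L744654 q22696, e3 q22697 L744669 q21142, e3 q22698 L744681 q21134, e3 q22699 L744691 q21135, e3 q22700 (flp_e L758353) q23981, e3 q22701 L744705 q21137, e3 q22702 (flp_e L758307) q23977, e3 q22703 (flp_e L758289) q23976, e3 q22704 (flp_e L758381) q23984, e3 q22705 (flp_e L748786) q23187, e3 q22706 (flp_e L758432) q23988, e3 q22707 L758500 q23996, e3 q22708 (flp_e L753303) q23508, e3 q22709 L744784 q21144, e3 q22710 (flp_e L758513) q23997, e3 q22711 L744808 q21146, e3 q22712 L744822 q21148, e3 q22713 L744840 q21260, e3 q22714 L744852 q21284, e3 q22715 L744862 q21152, e3 q22716 (flp_e L758594) q24003, e3 q22717 L744888 q21154, e3 q22718 L758608 q24005, e3 q22719 L758622 q24007, trivial⟩ (by decide +kernel)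

theorem ce_e_355 : ∀ r, r < 64 → sm ge (Qf (22720 + r)) = Qf (tab Gen.e (22720 + r)) :=
  edges_tab (sm ge) Qf (tab Gen.e) 22720 [(22720, 21156), (22721, 21308), (22722, 21546), (22723, 23414), (22724, 21164), (22725, 21169), (22726, 23448), (22727, 21171), (22728, 21307), (22729, 22729), (22730, 21175), (22731, 24014), (22732, 21587), (22733, 23790), (22734, 21179), (22735, 24016), (22736, 21181), (22737, 24018), (22738, 22738), (22739, 21184), (22740, 21186), (22741, 24022), (22742, 22742), (22743, 21216), (22744, 21204), (22745, 21190), (22746, 24028), (22747, 21207), (22748, 21614), (22749, 21220), (22750, 21195), (22751, 24033), (22752, 22752), (22753, 21223), (22754, 21209), (22755, 24038), (22756, 21200), (22757, 21513), (22758, 21637), (22759, 24042), (22760, 24026), (22761, 23761), (22762, 21206), (22763, 21208), (22764, 24046), (22765, 24039), (22766, 21664), (22767, 24048), (22768, 24049), (22769, 24025), (22770, 24051), (22771, 21218), (22772, 24031), (22773, 24055), (22774, 21222), (22775, 24057), (22776, 21224),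 (22777, 21230), (22778, 21227), (22779, 24052), (22780, 24056), (22781, 23842), (22782, 21233), (22783, 24062)]
    ⟨e3 q22720 (flp_e L744906) q21156, e3 q22721 L744918 q21308, e3 q22722 L744930 q21546, e3 q22723 (flp_e L751906) q23414, e3 q22724 (flp_e L744948) q21164, e3 q22725 L744960 q21169, e3 q22726 (flp_e L752357) q23448, e3 q22727 L744979 q21171, e3 q22728 L744995 q21307, e3 q22729 L745003 q22729, e3 q22730 L745010 q21175, e3 q22731 L758685 q24014, e3 q22732 L745031 q21587, e3 q22733 (flp_e L756493) q23790, e3 q22734 (flp_e L745045) q21179, e3 q22735 (flp_e L758710) q24016, e3 q22736 L745078 q21181, e3 q22737 (flp_e L758733) q24018, e3 q22738 L745099 q22738, e3 q22739 L745106 q21184, e3 q22740 L745114 q21186, e3 q22741 (flp_e L758771) q24022, e3 q22742 L745136 q22742, e3 q22743 L745145 q21216, e3 q22744 L745157 q21204, e3 q22745 L745169 q21190, e3 q22746 L758830 q24028, e3 q22747 L745191 q21207, e3 q22748 L745205 q21614, e3 q22749 L745213 q21220, e3 q22750 L745221 q21195, e3 q22751 L758878 q24033, e3 q22752 L745243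 q22752, e3 q22753 L745254 q21223, e3 q22754 L745264 q21209, e3 q22755 L758917 q24038, e3 q22756 (flp_e L745272) q21200, e3 q22757 L745288 q21513, e3 q22758 L745294 q21637, e3 q22759 L758945 q24042, e3 q22760 (flp_e L758816) q24026, e3 q22761 (flp_e L756178) q23761, e3 q22762 (flp_e L745329) q21206, e3 q22763 (flp_e L745340) q21208, e3 q22764 L758991 q24046, e3 q22765 (flp_e L758931) q24039, e3 q22766 L745374 q21664, e3 q22767 L759010 q24048, e3 q22768 L759023 q24049, e3 q22769 (flp_e L758804) q24025, e3 q22770 L759043 q24051, e3 q22771 (flp_e L745426) q21218, e3 q22772 (flp_e L758868) q24031, e3 q22773 L759083 q24055, e3 q22774 (flp_e L745450) q21222, e3 q22775 L759103 q24057, e3 q22776 (flp_e L745466) q21224, e3 q22777 L745482 q21230, e3 q22778 (flp_e L745484) q21227, e3 q22779 (flp_e L759065) q24052, e3 q22780 (flp_e L759099) q24056, e3 q22781 (flp_e L757048) q23842, e3 q22782 L745536 q21233, e3 q22783 (flp_e L759160) q24062, trivial⟩ (by decide +kernel)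

theorem ce_e_356 : ∀ r, r < 64 → sm ge (Qf (22784 + r)) = Qf (tab Gen.e (22784 + r)) :=
  edges_tab (sm ge) Qf (tab Gen.e) 22784 [(22784, 22784), (22785, 21236), (22786, 24066), (22787, 23999), (22788, 22788), (22789, 21239), (22790, 24069), (22791, 21241), (22792, 22792), (22793, 21243), (22794, 24073), (22795, 22795), (22796, 22796), (22797, 21246), (22798, 24078), (22799, 24000), (22800, 22800), (22801, 21263), (22802, 21251), (22803, 24083), (22804, 21662), (22805, 22805), (22806, 22806), (22807, 21266), (22808, 24089), (22809, 21257), (22810, 21267), (22811, 23721), (22812, 24001), (22813, 23868), (22814, 24081), (22815, 22815), (22816, 21271), (22817, 24095), (22818, 22818), (22819, 23987), (22820, 21312), (22821, 21276), (22822, 24100), (22823, 22823), (22824, 22824), (22825, 21335), (22826, 21336), (22827, 21315), (22828, 24107), (22829, 21282), (22830, 24010), (22831, 24002), (22832, 21318), (22833, 21287), (22834, 22834), (22835, 21339), (22836, 21340), (22837, 21320), (22838, 21321), (22839, 24119), (22840, 21294),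 (22841, 22841), (22842, 22842), (22843, 22843), (22844, 21343), (22845, 24125), (22846, 21323), (22847, 21324)]
    ⟨e3 q22784 L745560 q22784, e3 q22785 L745569 q21236, e3 q22786 L759196 q24066, e3 q22787 (flp_e L758546) q23999, e3 q22788 L745604 q22788, e3 q22789 L745609 q21239, e3 q22790 (flp_e L759226) q24069, e3 q22791 L745626 q21241, e3 q22792 L745640 q22792, e3 q22793 L745647 q21243, e3 q22794 (flp_e L759269) q24073, e3 q22795 L745669 q22795, e3 q22796 L745682 q22796, e3 q22797 L745691 q21246, e3 q22798 L759318 q24078, e3 q22799 (flp_e L758562) q24000, e3 q22800 L745726 q22800, e3 q22801 L745735 q21263, e3 q22802 L745749 q21251, e3 q22803 L759364 q24083, e3 q22804 L745768 q21662, e3 q22805 L745778 q22805, e3 q22806 L745781 q22806, e3 q22807 L745786 q21266, e3 q22808 L759404 q24089, e3 q22809 (flp_e L745798) q21257, e3 q22810 L745809 q21267, e3 q22811 (flp_e L755765) q23721, e3 q22812 (flp_e L758570) q24001, e3 q22813 (flp_e L757323) q23868, e3 q22814 (flp_e L759348) q24081, e3 q22815 L745863 q22815, e3 q22816 L745870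 q21271, e3 q22817 L759449 q24095, e3 q22818 L745887 q22818, e3 q22819 (flp_e L758422) q23987, e3 q22820 L745902 q21312, e3 q22821 L745914 q21276, e3 q22822 L759487 q24100, e3 q22823 L745934 q22823, e3 q22824 L745947 q22824, e3 q22825 L745954 q21335, e3 q22826 L745960 q21336, e3 q22827 L745968 q21315, e3 q22828 L759545 q24107, e3 q22829 (flp_e L745980) q21282, e3 q22830 (flp_e L758662) q24010, e3 q22831 (flp_e L758580) q24002, e3 q22832 L746010 q21318, e3 q22833 L746022 q21287, e3 q22834 L746030 q22834, e3 q22835 L746037 q21339, e3 q22836 L746043 q21340, e3 q22837 L746053 q21320, e3 q22838 L746065 q21321, e3 q22839 L759642 q24119, e3 q22840 (flp_e L746073) q21294, e3 q22841 L746087 q22841, e3 q22842 L746094 q22842, e3 q22843 L746099 q22843, e3 q22844 L746104 q21343, e3 q22845 L759680 q24125, e3 q22846 L746116 q21323, e3 q22847 L746124 q21324, trivial⟩ (by decide +kernel)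

theorem ce_e_357 : ∀ r, r < 64 → sm ge (Qf (22848 + r)) = Qf (tab Gen.e (22848 + r)) :=
  edges_tab (sm ge) Qf (tab Gen.e) 22848 [(22848, 24129), (22849, 24131), (22850, 21303), (22851, 21326), (22852, 21327), (22853, 23297), (22854, 24011), (22855, 24008), (22856, 23818), (22857, 21311), (22858, 24098), (22859, 23860), (22860, 24140), (22861, 24108), (22862, 24111), (22863, 23261), (22864, 24116), (22865, 24143), (22866, 24126), (22867, 24145), (22868, 21325), (22869, 21589), (22870, 23368), (22871, 21333), (22872, 21334), (22873, 24103), (22874, 24148), (22875, 21337), (22876, 21347), (22877, 24114), (22878, 24152), (22879, 21341), (22880, 24153), (22881, 21344), (22882, 22882), (22883, 24150), (22884, 21348), (22885, 21351), (22886, 21352), (22887, 23160), (22888, 21366), (22889, 21368), (22890, 21370), (22891, 24158), (22892, 21417), (22893, 21372), (22894, 24161), (22895, 21375), (22896, 24162), (22897, 22897), (22898, 22898), (22899, 21380), (22900, 24166), (22901, 21427), (22902, 21382), (22903, 21439), (22904, 22904),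 (22905, 22905), (22906, 21400), (22907, 21401), (22908, 21394), (22909, 24176), (22910, 21391), (22911, 23978)]
    ⟨e3 q22848 L759704 q24129, e3 q22849 L759712 q24131, e3 q22850 (flp_e L746136) q21303, e3 q22851 L746144 q21326, e3 q22852 L746150 q21327, e3 q22853 (flp_e L750361) q23297, e3 q22854 (flp_e L758670) q24011, e3 q22855 (flp_e L758630) q24008, e3 q22856 (flp_e L756801) q23818, e3 q22857 L746189 q21311, e3 q22858 (flp_e L759473) q24098, e3 q22859 (flp_e L757232) q23860, e3 q22860 L759777 q24140, e3 q22861 (flp_e L759557) q24108, e3 q22862 (flp_e L759583) q24111, e3 q22863 L749853 q23261, e3 q22864 (flp_e L759624) q24116, e3 q22865 L759802 q24143, e3 q22866 (flp_e L759690) q24126, e3 q22867 L759814 q24145, e3 q22868 (flp_e L746294) q21325, e3 q22869 L746305 q21589, e3 q22870 (flp_e L751343) q23368, e3 q22871 (flp_e L746318) q21333, e3 q22872 (flp_e L746325) q21334, e3 q22873 (flp_e L759519) q24103, e3 q22874 L759833 q24148, e3 q22875 (flp_e L746348) q21337, e3 q22876 L746360 q21347, e3 q22877 (flp_e L759606) q24114,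 e3 q22878 L759860 q24152, e3 q22879 (flp_e L746376) q21341, e3 q22880 L759866 q24153, e3 q22881 (flp_e L746389) q21344, e3 q22882 L746398 q22882, e3 q22883 (flp_e L759849) q24150, e3 q22884 (flp_e L746404) q21348, e3 q22885 (flp_e L746414) q21351, e3 q22886 (flp_e L746423) q21352, e3 q22887 (flp_e L748334) q23160, e3 q22888 L746444 q21366, e3 q22889 L746458 q21368, e3 q22890 L746472 q21370, e3 q22891 L759912 q24158, e3 q22892 L746488 q21417, e3 q22893 (flp_e L746492) q21372, e3 q22894 L759936 q24161, e3 q22895 (flp_e L746513) q21375, e3 q22896 (flp_e L759952) q24162, e3 q22897 L746530 q22897, e3 q22898 L746539 q22898, e3 q22899 L746544 q21380, e3 q22900 L759968 q24166, e3 q22901 L746561 q21427, e3 q22902 (flp_e L746563) q21382, e3 q22903 L746576 q21439, e3 q22904 L746584 q22904, e3 q22905 L746595 q22905, e3 q22906 L746602 q21400, e3 q22907 L746610 q21401, e3 q22908 L746616 q21394, e3 q22909 L760034 q24176, e3 q22910 (flp_e L746622) q21391, e3 q22911 (flp_e L758323) q23978, trivial⟩ (by decide +kernel)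

theorem ce_e_358 : ∀ r, r < 64 → sm ge (Qf (22912 + r)) = Qf (tab Gen.e (22912 + r)) :=
  edges_tab (sm ge) Qf (tab Gen.e) 22912 [(22912, 21455), (22913, 24180), (22914, 21395), (22915, 24177), (22916, 23198), (22917, 24172), (22918, 24184), (22919, 21402), (22920, 21404), (22921, 24186), (22922, 22922), (22923, 21408), (22924, 24189), (22925, 24155), (22926, 21413), (22927, 24156), (22928, 24194), (22929, 21416), (22930, 24159), (22931, 24195), (22932, 21420), (22933, 21422), (22934, 24198), (22935, 22935), (22936, 22936), (22937, 24202), (22938, 21426), (22939, 24167), (22940, 21428), (22941, 24203), (22942, 21432), (22943, 24207), (22944, 23185), (22945, 23985), (22946, 21436), (22947, 24211), (22948, 24213), (22949, 21438), (22950, 24169), (22951, 21441), (22952, 24216), (22953, 21469), (22954, 21458), (22955, 24220), (22956, 21445), (22957, 21472), (22958, 24224), (22959, 21461), (22960, 24227), (22961, 24229), (22962, 21450), (22963, 21463), (22964, 21462), (22965, 23181), (22966, 23979), (22967, 24179), (22968, 24221),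 (22969, 24231), (22970, 21465), (22971, 21466), (22972, 21468), (22973, 24235), (22974, 21470), (22975, 21476)]
    ⟨e3 q22912 L746638 q21455, e3 q22913 L760058 q24180, e3 q22914 (flp_e L746647) q21395, e3 q22915 (flp_e L760044) q24177, e3 q22916 (flp_e L748933) q23198, e3 q22917 (flp_e L760016) q24172, e3 q22918 L760082 q24184, e3 q22919 (flp_e L746680) q21402, e3 q22920 L746690 q21404, e3 q22921 (flp_e L760096) q24186, e3 q22922 L746706 q22922, e3 q22923 L746717 q21408, e3 q22924 L760114 q24189, e3 q22925 (flp_e L759888) q24155, e3 q22926 L746740 q21413, e3 q22927 (flp_e L759904) q24156, e3 q22928 L760149 q24194, e3 q22929 (flp_e L746756) q21416, e3 q22930 (flp_e L759924) q24159, e3 q22931 (flp_e L760161) q24195, e3 q22932 L746779 q21420, e3 q22933 L746785 q21422, e3 q22934 L760173 q24198, e3 q22935 L746802 q22935, e3 q22936 L746805 q22936, e3 q22937 L760195 q24202, e3 q22938 (flp_e L746810) q21426, e3 q22939 (flp_e L759977) q24167, e3 q22940 (flp_e L746819) q21428, e3 q22941 (flp_e L760206) q24203, e3 q22942 L746837 q21432,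 e3 q22943 L760223 q24207, e3 q22944 (flp_e L748749) q23185, e3 q22945 (flp_e L758395) q23985, e3 q22946 L746865 q21436, e3 q22947 L760249 q24211, e3 q22948 L760263 q24213, e3 q22949 (flp_e L746883) q21438, e3 q22950 (flp_e L759990) q24169, e3 q22951 L746899 q21441, e3 q22952 L760279 q24216, e3 q22953 L746913 q21469, e3 q22954 L746919 q21458, e3 q22955 L760299 q24220, e3 q22956 (flp_e L746927) q21445, e3 q22957 L746937 q21472, e3 q22958 L760323 q24224, e3 q22959 L746949 q21461, e3 q22960 L760339 q24227, e3 q22961 L760351 q24229, e3 q22962 (flp_e L746961) q21450, e3 q22963 L746969 q21463, e3 q22964 L746973 q21462, e3 q22965 (flp_e L748689) q23181, e3 q22966 (flp_e L758331) q23979, e3 q22967 (flp_e L760054) q24179, e3 q22968 (flp_e L760311) q24221, e3 q22969 (flp_e L760361) q24231, e3 q22970 (flp_e L747005) q21465, e3 q22971 (flp_e L747012) q21466, e3 q22972 (flp_e L747019) q21468, e3 q22973 L760381 q24235, e3 q22974 (flp_e L747032) q21470, e3 q22975 L747044 q21476, trivial⟩ (by decide +kernel)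

theorem ce_e_359 : ∀ r, r < 64 → sm ge (Qf (22976 + r)) = Qf (tab Gen.e (22976 + r)) :=
  edges_tab (sm ge) Qf (tab Gen.e) 22976 [(22976, 24236), (22977, 21473), (22978, 21477), (22979, 22979), (22980, 21480), (22981, 21537), (22982, 21545), (22983, 21558), (22984, 21485), (22985, 21568), (22986, 23719), (22987, 21588), (22988, 22988), (22989, 21491), (22990, 22990), (22991, 22991), (22992, 21605), (22993, 21515), (22994, 21497), (22995, 22995), (22996, 21523), (22997, 21517), (22998, 23756), (22999, 21519), (23000, 24029), (23001, 21615), (23002, 23002), (23003, 21524), (23004, 21520), (23005, 23736), (23006, 23006), (23007, 23751), (23008, 24267), (23009, 23758), (23010, 24040), (23011, 21638), (23012, 24251), (23013, 23298), (23014, 24272), (23015, 24273), (23016, 21522), (23017, 21526), (23018, 24275), (23019, 23720), (23020, 23716), (23021, 23722), (23022, 21531), (23023, 23023), (23024, 24238), (23025, 21535), (23026, 23835), (23027, 24239), (23028, 21539), (23029, 21547), (23030, 23841), (23031, 21548), (23032, 23845),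 (23033, 23848), (23034, 24240), (23035, 21550), (23036, 24292), (23037, 21665), (23038, 21553), (23039, 24297)]
    ⟨e3 q22976 L760387 q24236, e3 q22977 (flp_e L747053) q21473, e3 q22978 L747059 q21477, e3 q22979 L747066 q22979, e3 q22980 L747073 q21480, e3 q22981 L747083 q21537, e3 q22982 L747089 q21545, e3 q22983 L747093 q21558, e3 q22984 L747099 q21485, e3 q22985 L747111 q21568, e3 q22986 (flp_e L755731) q23719, e3 q22987 L747123 q21588, e3 q22988 L747131 q22988, e3 q22989 L747138 q21491, e3 q22990 L747146 q22990, e3 q22991 L747153 q22991, e3 q22992 L747160 q21605, e3 q22993 L747168 q21515, e3 q22994 L747178 q21497, e3 q22995 L747186 q22995, e3 q22996 L747193 q21523, e3 q22997 L747201 q21517, e3 q22998 (flp_e L756130) q23756, e3 q22999 L747215 q21519, e3 q23000 (flp_e L758852) q24029, e3 q23001 L747231 q21615, e3 q23002 L747243 q23002, e3 q23003 L747252 q21524, e3 q23004 L747264 q21520, e3 q23005 (flp_e L755912) q23736, e3 q23006 L747274 q23006, e3 q23007 (flp_e L756063) q23751, e3 q23008 L760595 q24267, e3 q23009 (flp_e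 L756144) q23758, e3 q23010 (flp_e L758937) q24040, e3 q23011 L747295 q21638, e3 q23012 (flp_e L760491) q24251, e3 q23013 (flp_e L750376) q23298, e3 q23014 L760622 q24272, e3 q23015 L760627 q24273, e3 q23016 (flp_e L747329) q21522, e3 q23017 L747338 q21526, e3 q23018 L760636 q24275, e3 q23019 (flp_e L755749) q23720, e3 q23020 (flp_e L755701) q23716, e3 q23021 (flp_e L755773) q23722, e3 q23022 L747374 q21531, e3 q23023 L747382 q23023, e3 q23024 (flp_e L760405) q24238, e3 q23025 L747395 q21535, e3 q23026 (flp_e L756978) q23835, e3 q23027 (flp_e L760411) q24239, e3 q23028 L747417 q21539, e3 q23029 L747423 q21547, e3 q23030 (flp_e L757036) q23841, e3 q23031 L747433 q21548, e3 q23032 (flp_e L757084) q23845, e3 q23033 (flp_e L757116) q23848, e3 q23034 (flp_e L760417) q24240, e3 q23035 L747457 q21550, e3 q23036 (flp_e L760736) q24292, e3 q23037 L747477 q21665, e3 q23038 L747483 q21553, e3 q23039 L760768 q24297, trivial⟩ (by decide +kernel)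

theorem ce_e_360 : ∀ r, r < 64 → sm ge (Qf (23040 + r)) = Qf (tab Gen.e (23040 + r)) :=
  edges_tab (sm ge) Qf (tab Gen.e) 23040 [(23040, 21668), (23041, 21669), (23042, 24301), (23043, 21557), (23044, 24241), (23045, 23045), (23046, 21561), (23047, 23047), (23048, 24242), (23049, 21565), (23050, 21672), (23051, 23772), (23052, 24243), (23053, 21570), (23054, 21673), (23055, 23055), (23056, 21674), (23057, 21592), (23058, 23778), (23059, 23059), (23060, 23060), (23061, 23061), (23062, 23062), (23063, 21675), (23064, 23782), (23065, 21594), (23066, 21595), (23067, 24326), (23068, 23784), (23069, 21597), (23070, 23308), (23071, 24015), (23072, 24245), (23073, 21686), (23074, 24334), (23075, 21600), (23076, 24323), (23077, 24336), (23078, 21596), (23079, 24332), (23080, 23080), (23081, 23900), (23082, 23082), (23083, 24341), (23084, 24250), (23085, 21641), (23086, 21628), (23087, 21622), (23088, 24347), (23089, 24349), (23090, 21610), (23091, 21645), (23092, 21646), (23093, 24021), (23094, 24030), (23095, 24259), (23096, 21647),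 (23097, 23405), (23098, 21658), (23099, 21648), (23100, 24360), (23101, 24345), (23102, 21682), (23103, 21683)]
    ⟨e3 q23040 L747497 q21668, e3 q23041 L747503 q21669, e3 q23042 L760790 q24301, e3 q23043 (flp_e L747507) q21557, e3 q23044 (flp_e L760421) q24241, e3 q23045 L747519 q23045, e3 q23046 L747526 q21561, e3 q23047 L747534 q23047, e3 q23048 (flp_e L760431) q24242, e3 q23049 L747549 q21565, e3 q23050 L747557 q21672, e3 q23051 (flp_e L756319) q23772, e3 q23052 (flp_e L760435) q24243, e3 q23053 L747577 q21570, e3 q23054 L747585 q21673, e3 q23055 L747593 q23055, e3 q23056 L747600 q21674, e3 q23057 L747606 q21592, e3 q23058 (flp_e L756381) q23778, e3 q23059 L747620 q23059, e3 q23060 L747629 q23060, e3 q23061 L747636 q23061, e3 q23062 L747641 q23062, e3 q23063 L747646 q21675, e3 q23064 (flp_e L756423) q23782, e3 q23065 L747658 q21594, e3 q23066 L747666 q21595, e3 q23067 L760951 q24326, e3 q23068 (flp_e L756439) q23784, e3 q23069 L747686 q21597, e3 q23070 (flp_e L750537) q23308, e3 q23071 (flp_e L758698) q24015, e3 q23072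 (flp_e L760449) q24245, e3 q23073 L747717 q21686, e3 q23074 L761004 q24334, e3 q23075 L747731 q21600, e3 q23076 (flp_e L760931) q24323, e3 q23077 L761022 q24336, e3 q23078 (flp_e L747757) q21596, e3 q23079 (flp_e L760987) q24332, e3 q23080 L747776 q23080, e3 q23081 (flp_e L757626) q23900, e3 q23082 L747785 q23082, e3 q23083 L761049 q24341, e3 q23084 (flp_e L760481) q24250, e3 q23085 L747802 q21641, e3 q23086 L747814 q21628, e3 q23087 L747824 q21622, e3 q23088 L761090 q24347, e3 q23089 L761102 q24349, e3 q23090 (flp_e L747840) q21610, e3 q23091 L747858 q21645, e3 q23092 L747862 q21646, e3 q23093 (flp_e L758765) q24021, e3 q23094 (flp_e L758860) q24030, e3 q23095 (flp_e L760544) q24259, e3 q23096 L747886 q21647, e3 q23097 (flp_e L751835) q23405, e3 q23098 L747900 q21658, e3 q23099 L747908 q21648, e3 q23100 L761168 q24360, e3 q23101 (flp_e L761076) q24345, e3 q23102 L747922 q21682, e3 q23103 L747928 q21683, trivial⟩ (by decide +kernel)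

theorem ce_e_361 : ∀ r, r < 64 → sm ge (Qf (23104 + r)) = Qf (tab Gen.e (23104 + r)) :=
  edges_tab (sm ge) Qf (tab Gen.e) 23104 [(23104, 21684), (23105, 24366), (23106, 24307), (23107, 24344), (23108, 21651), (23109, 24371), (23110, 24373), (23111, 21631), (23112, 24376), (23113, 21632), (23114, 24374), (23115, 23312), (23116, 23318), (23117, 24041), (23118, 24270), (23119, 23843), (23120, 24382), (23121, 21657), (23122, 21643), (23123, 24383), (23124, 24351), (23125, 24385), (23126, 24386), (23127, 21649), (23128, 24387), (23129, 21652), (23130, 21654), (23131, 23936), (23132, 21659), (23133, 21661), (23134, 24084), (23135, 23734), (23136, 24389), (23137, 24294), (23138, 24391), (23139, 24392), (23140, 21667), (23141, 24298), (23142, 24394), (23143, 21670), (23144, 24312), (23145, 24396), (23146, 21681), (23147, 24362), (23148, 24398), (23149, 24399), (23150, 21685), (23151, 21687), (23152, 21688), (23153, 21692), (23154, 24401), (23155, 21694), (23156, 21695), (23157, 23421), (23158, 21708), (23159, 21711), (23160, 22887),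 (23161, 21716), (23162, 21715), (23163, 24402), (23164, 21753), (23165, 21727), (23166, 21721), (23167, 21733)]
    ⟨e3 q23104 L747934 q21684, e3 q23105 L761204 q24366, e3 q23106 (flp_e L760833) q24307, e3 q23107 (flp_e L761068) q24344, e3 q23108 L747958 q21651, e3 q23109 L761228 q24371, e3 q23110 L761240 q24373, e3 q23111 (flp_e L747972) q21631, e3 q23112 L761254 q24376, e3 q23113 (flp_e L747980) q21632, e3 q23114 (flp_e L761248) q24374, e3 q23115 (flp_e L750591) q23312, e3 q23116 (flp_e L750673) q23318, e3 q23117 (flp_e L758943) q24041, e3 q23118 (flp_e L760611) q24270, e3 q23119 (flp_e L757058) q23843, e3 q23120 L761282 q24382, e3 q23121 L748022 q21657, e3 q23122 (flp_e L748029) q21643, e3 q23123 (flp_e L761300) q24383, e3 q23124 (flp_e L761124) q24351, e3 q23125 L761311 q24385, e3 q23126 L761319 q24386, e3 q23127 (flp_e L748068) q21649, e3 q23128 L761327 q24387, e3 q23129 (flp_e L748084) q21652, e3 q23130 L748094 q21654, e3 q23131 (flp_e L757902) q23936, e3 q23132 (flp_e L748107) q21659, e3 q23133 L748119 q21661, e3 q23134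 (flp_e L759375) q24084, e3 q23135 (flp_e L755888) q23734, e3 q23136 L761342 q24389, e3 q23137 (flp_e L760756) q24294, e3 q23138 L761358 q24391, e3 q23139 L761365 q24392, e3 q23140 (flp_e L748168) q21667, e3 q23141 (flp_e L760778) q24298, e3 q23142 L761376 q24394, e3 q23143 (flp_e L748185) q21670, e3 q23144 (flp_e L760865) q24312, e3 q23145 L761384 q24396, e3 q23146 (flp_e L748203) q21681, e3 q23147 (flp_e L761180) q24362, e3 q23148 L761401 q24398, e3 q23149 L761407 q24399, e3 q23150 (flp_e L748235) q21685, e3 q23151 (flp_e L748239) q21687, e3 q23152 (flp_e L748246) q21688, e3 q23153 L748262 q21692, e3 q23154 (flp_e L761425) q24401, e3 q23155 (flp_e L748272) q21694, e3 q23156 (flp_e L748279) q21695, e3 q23157 (flp_e L751993) q23421, e3 q23158 L748307 q21708, e3 q23159 L748314 q21711, e3 q23160 L748334 q22887, e3 q23161 L748360 q21716, e3 q23162 L748376 q21715, e3 q23163 (flp_e L761435) q24402, e3 q23164 L748414 q21753, e3 q23165 L748427 q21727, e3 q23166 L748443 q21721, e3 q23167 L748461 q21733, trivial⟩ (by decide +kernel)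

theorem ce_e_362 : ∀ r, r < 64 → sm ge (Qf (23168 + r)) = Qf (tab Gen.e (23168 + r)) :=
  edges_tab (sm ge) Qf (tab Gen.e) 23168 [(23168, 21724), (23169, 21735), (23170, 21761), (23171, 24405), (23172, 22134), (23173, 22289), (23174, 21732), (23175, 24407), (23176, 24413), (23177, 21765), (23178, 24414), (23179, 21740), (23180, 21743), (23181, 22965), (23182, 21748), (23183, 21752), (23184, 24403), (23185, 22944), (23186, 24421), (23187, 22705), (23188, 24406), (23189, 22693), (23190, 21762), (23191, 21763), (23192, 24427), (23193, 24410), (23194, 24424), (23195, 24429), (23196, 24431), (23197, 21764), (23198, 22916), (23199, 21770), (23200, 24432), (23201, 21771), (23202, 23202), (23203, 21775), (23204, 24435), (23205, 21776), (23206, 24436), (23207, 23207), (23208, 23208), (23209, 21778), (23210, 24440), (23211, 23211), (23212, 21781), (23213, 21783), (23214, 24444), (23215, 23215), (23216, 21785), (23217, 24446), (23218, 21795), (23219, 21796), (23220, 21788), (23221, 23221), (23222, 23222), (23223, 21791), (23224, 24454),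 (23225, 21799), (23226, 21947), (23227, 24457), (23228, 24448), (23229, 24449), (23230, 21952), (23231, 21798)]
    ⟨e3 q23168 L748477 q21724, e3 q23169 L748491 q21735, e3 q23170 L748505 q21761, e3 q23171 (flp_e L761486) q24405, e3 q23172 L748535 q22134, e3 q23173 L748556 q22289, e3 q23174 L748572 q21732, e3 q23175 (flp_e L761520) q24407, e3 q23176 L761606 q24413, e3 q23177 L748616 q21765, e3 q23178 L761620 q24414, e3 q23179 (flp_e L748644) q21740, e3 q23180 L748667 q21743, e3 q23181 L748689 q22965, e3 q23182 L748701 q21748, e3 q23183 L748719 q21752, e3 q23184 (flp_e L761457) q24403, e3 q23185 L748749 q22944, e3 q23186 L761734 q24421, e3 q23187 L748786 q22705, e3 q23188 (flp_e L761508) q24406, e3 q23189 L748815 q22693, e3 q23190 L748829 q21762, e3 q23191 L748845 q21763, e3 q23192 L761821 q24427, e3 q23193 (flp_e L761562) q24410, e3 q23194 (flp_e L761785) q24424, e3 q23195 L761841 q24429, e3 q23196 L761875 q24431, e3 q23197 (flp_e L748919) q21764, e3 q23198 L748933 q22916, e3 q23199 (flp_e L748947) q21770, e3 q23200 L761889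 q24432, e3 q23201 (flp_e L748979) q21771, e3 q23202 L749004 q23202, e3 q23203 L749017 q21775, e3 q23204 (flp_e L761946) q24435, e3 q23205 (flp_e L749040) q21776, e3 q23206 (flp_e L761964) q24436, e3 q23207 L749084 q23207, e3 q23208 L749103 q23208, e3 q23209 L749112 q21778, e3 q23210 (flp_e L762027) q24440, e3 q23211 L749139 q23211, e3 q23212 L749150 q21781, e3 q23213 L749166 q21783, e3 q23214 (flp_e L762084) q24444, e3 q23215 L749205 q23215, e3 q23216 L749216 q21785, e3 q23217 (flp_e L762119) q24446, e3 q23218 L749250 q21795, e3 q23219 L749266 q21796, e3 q23220 L749278 q21788, e3 q23221 L749292 q23221, e3 q23222 L749309 q23222, e3 q23223 L749322 q21791, e3 q23224 L762232 q24454, e3 q23225 L749353 q21799, e3 q23226 L749371 q21947, e3 q23227 L762267 q24457, e3 q23228 (flp_e L762156) q24448, e3 q23229 (flp_e L762172) q24449, e3 q23230 L749426 q21952, e3 q23231 (flp_e L749429) q21798, trivial⟩ (by decide +kernel)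

theorem ce_e_363 : ∀ r, r < 64 → sm ge (Qf (23232 + r)) = Qf (tab Gen.e (23232 + r)) :=
  edges_tab (sm ge) Qf (tab Gen.e) 23232 [(23232, 24463), (23233, 21959), (23234, 21804), (23235, 21822), (23236, 21807), (23237, 24467), (23238, 21825), (23239, 21826), (23240, 21974), (23241, 21844), (23242, 21845), (23243, 21813), (23244, 24474), (23245, 23245), (23246, 23246), (23247, 21848), (23248, 21849), (23249, 21829), (23250, 24481), (23251, 21819), (23252, 24484), (23253, 21993), (23254, 24465), (23255, 24488), (23256, 21824), (23257, 24468), (23258, 24492), (23259, 22000), (23260, 24494), (23261, 22863), (23262, 21830), (23263, 24482), (23264, 24497), (23265, 21832), (23266, 22011), (23267, 24499), (23268, 24500), (23269, 21838), (23270, 24501), (23271, 21840), (23272, 21843), (23273, 24471), (23274, 24472), (23275, 24506), (23276, 21847), (23277, 24477), (23278, 24508), (23279, 21850), (23280, 21853), (23281, 24503), (23282, 21855), (23283, 24511), (23284, 21857), (23285, 21859), (23286, 24513), (23287, 23287), (23288, 21861),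 (23289, 24516), (23290, 21863), (23291, 24517), (23292, 21865), (23293, 23293), (23294, 21868), (23295, 24522)]
    ⟨e3 q23232 L762357 q24463, e3 q23233 L749461 q21959, e3 q23234 L749480 q21804, e3 q23235 L749498 q21822, e3 q23236 L749512 q21807, e3 q23237 L762414 q24467, e3 q23238 L749542 q21825, e3 q23239 L749556 q21826, e3 q23240 L749570 q21974, e3 q23241 L749580 q21844, e3 q23242 L749600 q21845, e3 q23243 L749616 q21813, e3 q23244 L762508 q24474, e3 q23245 L749652 q23245, e3 q23246 L749671 q23246, e3 q23247 L749684 q21848, e3 q23248 L749696 q21849, e3 q23249 L749710 q21829, e3 q23250 L762602 q24481, e3 q23251 (flp_e L749724) q21819, e3 q23252 L762630 q24484, e3 q23253 L749748 q21993, e3 q23254 (flp_e L762394) q24465, e3 q23255 L762679 q24488, e3 q23256 (flp_e L749778) q21824, e3 q23257 (flp_e L762434) q24468, e3 q23258 L762732 q24492, e3 q23259 L749818 q22000, e3 q23260 L762759 q24494, e3 q23261 (flp_e L749853) q22863, e3 q23262 (flp_e L749855) q21830, e3 q23263 (flp_e L762620) q24482, e3 q23264 L762803 q24497, e3 q23265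 (flp_e L749890) q21832, e3 q23266 L749906 q22011, e3 q23267 L762828 q24499, e3 q23268 L762841 q24500, e3 q23269 (flp_e L749944) q21838, e3 q23270 L762856 q24501, e3 q23271 (flp_e L749971) q21840, e3 q23272 (flp_e L749982) q21843, e3 q23273 (flp_e L762470) q24471, e3 q23274 (flp_e L762486) q24472, e3 q23275 L762928 q24506, e3 q23276 (flp_e L750038) q21847, e3 q23277 (flp_e L762564) q24477, e3 q23278 L762959 q24508, e3 q23279 (flp_e L750079) q21850, e3 q23280 L750101 q21853, e3 q23281 (flp_e L762896) q24503, e3 q23282 L750125 q21855, e3 q23283 (flp_e L763006) q24511, e3 q23284 L750159 q21857, e3 q23285 (flp_e L750167) q21859, e3 q23286 (flp_e L763042) q24513, e3 q23287 L750213 q23287, e3 q23288 L750224 q21861, e3 q23289 (flp_e L763088) q24516, e3 q23290 L750255 q21863, e3 q23291 (flp_e L763104) q24517, e3 q23292 L750281 q21865, e3 q23293 L750297 q23293, e3 q23294 L750312 q21868, e3 q23295 L763170 q24522, trivial⟩ (by decide +kernel)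

theorem ce_e_364 : ∀ r, r < 64 → sm ge (Qf (23296 + r)) = Qf (tab Gen.e (23296 + r)) :=
  edges_tab (sm ge) Qf (tab Gen.e) 23296 [(23296, 21873), (23297, 22853), (23298, 23013), (23299, 24525), (23300, 21875), (23301, 23301), (23302, 21878), (23303, 21880), (23304, 23304), (23305, 21883), (23306, 24531), (23307, 21887), (23308, 23070), (23309, 24534), (23310, 23310), (23311, 21891), (23312, 23115), (23313, 24539), (23314, 21894), (23315, 21899), (23316, 21900), (23317, 24543), (23318, 23116), (23319, 24540), (23320, 24546), (23321, 21901), (23322, 22410), (23323, 24547), (23324, 21905), (23325, 21909), (23326, 24548), (23327, 23327), (23328, 23328), (23329, 21911), (23330, 24552), (23331, 23331), (23332, 23332), (23333, 21914), (23334, 21915), (23335, 24557), (23336, 21917), (23337, 24559), (23338, 23338), (23339, 23339), (23340, 21921), (23341, 24564), (23342, 23342), (23343, 24443), (23344, 23344), (23345, 23345), (23346, 21926), (23347, 21928), (23348, 24570), (23349, 23349), (23350, 21931), (23351, 24574), (23352, 21950),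 (23353, 21951), (23354, 24450), (23355, 23355), (23356, 21937), (23357, 24580), (23358, 22489), (23359, 23359)]
    ⟨e3 q23296 L750343 q21873, e3 q23297 L750361 q22853, e3 q23298 L750376 q23013, e3 q23299 L763209 q24525, e3 q23300 (flp_e L750397) q21875, e3 q23301 L750424 q23301, e3 q23302 L750439 q21878, e3 q23303 L750451 q21880, e3 q23304 L750469 q23304, e3 q23305 L750484 q21883, e3 q23306 L763301 q24531, e3 q23307 L750519 q21887, e3 q23308 L750537 q23070, e3 q23309 L763342 q24534, e3 q23310 L750564 q23310, e3 q23311 L750577 q21891, e3 q23312 L750591 q23115, e3 q23313 L763412 q24539, e3 q23314 (flp_e L750609) q21894, e3 q23315 L750635 q21899, e3 q23316 L750651 q21900, e3 q23317 L763472 q24543, e3 q23318 L750673 q23116, e3 q23319 (flp_e L763436) q24540, e3 q23320 L763508 q24546, e3 q23321 (flp_e L750709) q21901, e3 q23322 L750734 q22410, e3 q23323 L763524 q24547, e3 q23324 (flp_e L750753) q21905, e3 q23325 (flp_e L750768) q21909, e3 q23326 (flp_e L763551) q24548, e3 q23327 L750812 q23327, e3 q23328 L750831 q23328, e3 q23329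 L750840 q21911, e3 q23330 (flp_e L763614) q24552, e3 q23331 L750869 q23331, e3 q23332 L750884 q23332, e3 q23333 L750893 q21914, e3 q23334 (flp_e L750901) q21915, e3 q23335 (flp_e L763688) q24557, e3 q23336 L750939 q21917, e3 q23337 (flp_e L763717) q24559, e3 q23338 L750962 q23338, e3 q23339 L750971 q23339, e3 q23340 L750982 q21921, e3 q23341 L763765 q24564, e3 q23342 L751002 q23342, e3 q23343 (flp_e L762072) q24443, e3 q23344 L751029 q23344, e3 q23345 L751042 q23345, e3 q23346 L751051 q21926, e3 q23347 L751069 q21928, e3 q23348 (flp_e L763842) q24570, e3 q23349 L751097 q23349, e3 q23350 L751108 q21931, e3 q23351 L763888 q24574, e3 q23352 L751135 q21950, e3 q23353 L751149 q21951, e3 q23354 (flp_e L762190) q24450, e3 q23355 L751175 q23355, e3 q23356 L751190 q21937, e3 q23357 L763960 q24580, e3 q23358 L751221 q22489, e3 q23359 L751239 q23359, trivial⟩ (by decide +kernel)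

theorem ce_e_365 : ∀ r, r < 64 → sm ge (Qf (23360 + r)) = Qf (tab Gen.e (23360 + r)) :=
  edges_tab (sm ge) Qf (tab Gen.e) 23360 [(23360, 23360), (23361, 21954), (23362, 24586), (23363, 21943), (23364, 21956), (23365, 21957), (23366, 24591), (23367, 24456), (23368, 22870), (23369, 21949), (23370, 24575), (23371, 24596), (23372, 24460), (23373, 24587), (23374, 24588), (23375, 24598), (23376, 24599), (23377, 21958), (23378, 22428), (23379, 23379), (23380, 23380), (23381, 23381), (23382, 24464), (23383, 21966), (23384, 24604), (23385, 21968), (23386, 24607), (23387, 24609), (23388, 21970), (23389, 21997), (23390, 21998), (23391, 24614), (23392, 24470), (23393, 22029), (23394, 21977), (23395, 24618), (23396, 22031), (23397, 22032), (23398, 22002), (23399, 24623), (23400, 21982), (23401, 22035), (23402, 24627), (23403, 22004), (23404, 22005), (23405, 23097), (23406, 24632), (23407, 21988), (23408, 22006), (23409, 22007), (23410, 24637), (23411, 24639), (23412, 21992), (23413, 24485), (23414, 22723), (23415, 21995), (23416, 24610),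 (23417, 24611), (23418, 24644), (23419, 24646), (23420, 21999), (23421, 23157), (23422, 24624), (23423, 24628)]
    ⟨e3 q23360 L751248 q23360, e3 q23361 L751259 q21954, e3 q23362 L764038 q24586, e3 q23363 (flp_e L751275) q21943, e3 q23364 L751292 q21956, e3 q23365 L751308 q21957, e3 q23366 L764097 q24591, e3 q23367 (flp_e L762261) q24456, e3 q23368 L751343 q22870, e3 q23369 (flp_e L751346) q21949, e3 q23370 (flp_e L763905) q24575, e3 q23371 L764159 q24596, e3 q23372 (flp_e L762315) q24460, e3 q23373 (flp_e L764055) q24587, e3 q23374 (flp_e L764067) q24588, e3 q23375 L764187 q24598, e3 q23376 L764202 q24599, e3 q23377 (flp_e L751461) q21958, e3 q23378 L751481 q22428, e3 q23379 L751494 q23379, e3 q23380 L751511 q23380, e3 q23381 L751520 q23381, e3 q23382 (flp_e L762382) q24464, e3 q23383 L751543 q21966, e3 q23384 (flp_e L764267) q24604, e3 q23385 L751573 q21968, e3 q23386 L764305 q24607, e3 q23387 L764325 q24609, e3 q23388 (flp_e L751599) q21970, e3 q23389 L751617 q21997, e3 q23390 L751631 q21998, e3 q23391 L764383 q24614,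 e3 q23392 (flp_e L762456) q24470, e3 q23393 L751661 q22029, e3 q23394 L751677 q21977, e3 q23395 L764431 q24618, e3 q23396 L751711 q22031, e3 q23397 L751725 q22032, e3 q23398 L751741 q22002, e3 q23399 L764501 q24623, e3 q23400 (flp_e L751757) q21982, e3 q23401 L751771 q22035, e3 q23402 L764551 q24627, e3 q23403 L751803 q22004, e3 q23404 L751819 q22005, e3 q23405 L751835 q23097, e3 q23406 L764617 q24632, e3 q23407 (flp_e L751845) q21988, e3 q23408 L751857 q22006, e3 q23409 L751863 q22007, e3 q23410 L764661 q24637, e3 q23411 L764675 q24639, e3 q23412 (flp_e L751881) q21992, e3 q23413 (flp_e L762644) q24485, e3 q23414 L751906 q22723, e3 q23415 (flp_e L751910) q21995, e3 q23416 (flp_e L764343) q24610, e3 q23417 (flp_e L764353) q24611, e3 q23418 L764733 q24644, e3 q23419 L764763 q24646, e3 q23420 (flp_e L751979) q21999, e3 q23421 L751993 q23157, e3 q23422 (flp_e L764521) q24624, e3 q23423 (flp_e L764571) q24628, trivial⟩ (by decide +kernel)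

theorem ce_e_366 : ∀ r, r < 64 → sm ge (Qf (23424 + r)) = Qf (tab Gen.e (23424 + r)) :=
  edges_tab (sm ge) Qf (tab Gen.e) 23424 [(23424, 24634), (23425, 24647), (23426, 22008), (23427, 24648), (23428, 22009), (23429, 24650), (23430, 22016), (23431, 24652), (23432, 22017), (23433, 24653), (23434, 22020), (23435, 22021), (23436, 22023), (23437, 22671), (23438, 22027), (23439, 22040), (23440, 24616), (23441, 24654), (23442, 24619), (23443, 24658), (23444, 22033), (23445, 22041), (23446, 24659), (23447, 22036), (23448, 22726), (23449, 22042), (23450, 24655), (23451, 22074), (23452, 22065), (23453, 22059), (23454, 22051), (23455, 22684), (23456, 22079), (23457, 22085), (23458, 22064), (23459, 22073), (23460, 22076), (23461, 22067), (23462, 22081), (23463, 22068), (23464, 22075), (23465, 22082), (23466, 22089), (23467, 24662), (23468, 22091), (23469, 22094), (23470, 24664), (23471, 22096), (23472, 24665), (23473, 22102), (23474, 22099), (23475, 22279), (23476, 24667), (23477, 22207), (23478, 22107), (23479, 24670), (23480, 22109),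 (23481, 22111), (23482, 24673), (23483, 22115), (23484, 22225), (23485, 24676), (23486, 22117), (23487, 22118)]
    ⟨e3 q23424 (flp_e L764637) q24634, e3 q23425 L764775 q24647, e3 q23426 (flp_e L752066) q22008, e3 q23427 L764785 q24648, e3 q23428 (flp_e L752090) q22009, e3 q23429 L764805 q24650, e3 q23430 (flp_e L752112) q22016, e3 q23431 L764836 q24652, e3 q23432 (flp_e L752140) q22017, e3 q23433 L764853 q24653, e3 q23434 (flp_e L752168) q22020, e3 q23435 (flp_e L752179) q22021, e3 q23436 (flp_e L752192) q22023, e3 q23437 L752210 q22671, e3 q23438 (flp_e L752212) q22027, e3 q23439 L752230 q22040, e3 q23440 (flp_e L764409) q24616, e3 q23441 (flp_e L764885) q24654, e3 q23442 (flp_e L764455) q24619, e3 q23443 L764925 q24658, e3 q23444 (flp_e L752293) q22033, e3 q23445 L752315 q22041, e3 q23446 L764937 q24659, e3 q23447 (flp_e L752334) q22036, e3 q23448 L752357 q22726, e3 q23449 L752365 q22042, e3 q23450 (flp_e L764898) q24655, e3 q23451 L752400 q22074, e3 q23452 L752419 q22065, e3 q23453 L752438 q22059, e3 q23454 (flp_e L752441)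 q22051, e3 q23455 L752476 q22684, e3 q23456 L752483 q22079, e3 q23457 L752514 q22085, e3 q23458 (flp_e L752517) q22064, e3 q23459 L752540 q22073, e3 q23460 (flp_e L752573) q22076, e3 q23461 (flp_e L752575) q22067, e3 q23462 (flp_e L752612) q22081, e3 q23463 (flp_e L752614) q22068, e3 q23464 (flp_e L752633) q22075, e3 q23465 (flp_e L752652) q22082, e3 q23466 L752681 q22089, e3 q23467 (flp_e L764991) q24662, e3 q23468 L752713 q22091, e3 q23469 L752731 q22094, e3 q23470 (flp_e L765025) q24664, e3 q23471 L752765 q22096, e3 q23472 (flp_e L765043) q24665, e3 q23473 L752799 q22102, e3 q23474 L752813 q22099, e3 q23475 L752833 q22279, e3 q23476 (flp_e L765078) q24667, e3 q23477 L752866 q22207, e3 q23478 L752879 q22107, e3 q23479 (flp_e L765127) q24670, e3 q23480 L752911 q22109, e3 q23481 L752923 q22111, e3 q23482 L765161 q24673, e3 q23483 L752955 q22115, e3 q23484 L752969 q22225, e3 q23485 L765201 q24676, e3 q23486 (flp_e L752989) q22117, e3 q23487 (flp_e L753006) q22118, trivial⟩ (by decide +kernel)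

theorem ce_e_367 : ∀ r, r < 64 → sm ge (Qf (23488 + r)) = Qf (tab Gen.e (23488 + r)) :=
  edges_tab (sm ge) Qf (tab Gen.e) 23488 [(23488, 23488), (23489, 23489), (23490, 22120), (23491, 24679), (23492, 23492), (23493, 22123), (23494, 22125), (23495, 22127), (23496, 24684), (23497, 23497), (23498, 22130), (23499, 24688), (23500, 22136), (23501, 22137), (23502, 22276), (23503, 22181), (23504, 22135), (23505, 24689), (23506, 24695), (23507, 22286), (23508, 22708), (23509, 22145), (23510, 22298), (23511, 22148), (23512, 24699), (23513, 22166), (23514, 24702), (23515, 22151), (23516, 22157), (23517, 24706), (23518, 22319), (23519, 24703), (23520, 24708), (23521, 24709), (23522, 22158), (23523, 22162), (23524, 22163), (23525, 22165), (23526, 24710), (23527, 22167), (23528, 22169), (23529, 22171), (23530, 22173), (23531, 23531), (23532, 22175), (23533, 24714), (23534, 23534), (23535, 22178), (23536, 24717), (23537, 24663), (23538, 22183), (23539, 24719), (23540, 23540), (23541, 23541), (23542, 22185), (23543, 24722), (23544, 23544),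 (23545, 22188), (23546, 22190), (23547, 24726), (23548, 22192), (23549, 22194), (23550, 24728), (23551, 23551)]
    ⟨e3 q23488 L753035 q23488, e3 q23489 L753054 q23489, e3 q23490 L753063 q22120, e3 q23491 (flp_e L765257) q24679, e3 q23492 L753086 q23492, e3 q23493 L753097 q22123, e3 q23494 L753107 q22125, e3 q23495 L753125 q22127, e3 q23496 (flp_e L765322) q24684, e3 q23497 L753153 q23497, e3 q23498 L753164 q22130, e3 q23499 L765368 q24688, e3 q23500 L753191 q22136, e3 q23501 L753201 q22137, e3 q23502 L753213 q22276, e3 q23503 L753229 q22181, e3 q23504 (flp_e L753232) q22135, e3 q23505 (flp_e L765385) q24689, e3 q23506 L765460 q24695, e3 q23507 L753276 q22286, e3 q23508 L753303 q22708, e3 q23509 L753312 q22145, e3 q23510 L753326 q22298, e3 q23511 L753336 q22148, e3 q23512 L765499 q24699, e3 q23513 L753364 q22166, e3 q23514 L765535 q24702, e3 q23515 (flp_e L753378) q22151, e3 q23516 L753392 q22157, e3 q23517 L765575 q24706, e3 q23518 L753408 q22319, e3 q23519 (flp_e L765553) q24703, e3 q23520 L765591 q24708, e3 q23521 L765607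 q24709, e3 q23522 (flp_e L753460) q22158, e3 q23523 (flp_e L753466) q22162, e3 q23524 (flp_e L753483) q22163, e3 q23525 (flp_e L753498) q22165, e3 q23526 L765623 q24710, e3 q23527 (flp_e L753529) q22167, e3 q23528 L753557 q22169, e3 q23529 L753567 q22171, e3 q23530 L753579 q22173, e3 q23531 L753599 q23531, e3 q23532 L753610 q22175, e3 q23533 (flp_e L765690) q24714, e3 q23534 L753642 q23534, e3 q23535 L753655 q22178, e3 q23536 L765723 q24717, e3 q23537 (flp_e L765013) q24663, e3 q23538 L753690 q22183, e3 q23539 (flp_e L765746) q24719, e3 q23540 L753725 q23540, e3 q23541 L753744 q23541, e3 q23542 L753755 q22185, e3 q23543 (flp_e L765796) q24722, e3 q23544 L753784 q23544, e3 q23545 L753795 q22188, e3 q23546 L753811 q22190, e3 q23547 (flp_e L765855) q24726, e3 q23548 L753837 q22192, e3 q23549 L753851 q22194, e3 q23550 (flp_e L765881) q24728, e3 q23551 L753881 q23551, trivial⟩ (by decide +kernel)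

theorem ce_e_368 : ∀ r, r < 64 → sm ge (Qf (23552 + r)) = Qf (tab Gen.e (23552 + r)) :=
  edges_tab (sm ge) Qf (tab Gen.e) 23552 [(23552, 22203), (23553, 22198), (23554, 24733), (23555, 22206), (23556, 24668), (23557, 22328), (23558, 24731), (23559, 22205), (23560, 24738), (23561, 22277), (23562, 22212), (23563, 22214), (23564, 22218), (23565, 22226), (23566, 24671), (23567, 24741), (23568, 22220), (23569, 24746), (23570, 22229), (23571, 24749), (23572, 22223), (23573, 24752), (23574, 24675), (23575, 22282), (23576, 22228), (23577, 24756), (23578, 22321), (23579, 22230), (23580, 24750), (23581, 24758), (23582, 22232), (23583, 22239), (23584, 24760), (23585, 22241), (23586, 22245), (23587, 24761), (23588, 23588), (23589, 23589), (23590, 22247), (23591, 24764), (23592, 23592), (23593, 22250), (23594, 22252), (23595, 24768), (23596, 23596), (23597, 23597), (23598, 23598), (23599, 22256), (23600, 24774), (23601, 23601), (23602, 24682), (23603, 22260), (23604, 23604), (23605, 23605), (23606, 22263), (23607, 24781), (23608, 22278),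 (23609, 24683), (23610, 23610), (23611, 22268), (23612, 24786), (23613, 23613), (23614, 23614), (23615, 22281)]
    ⟨e3 q23552 L753898 q22203, e3 q23553 L753912 q22198, e3 q23554 L765945 q24733, e3 q23555 L753933 q22206, e3 q23556 (flp_e L765098) q24668, e3 q23557 L753961 q22328, e3 q23558 (flp_e L765927) q24731, e3 q23559 (flp_e L753982) q22205, e3 q23560 L766004 q24738, e3 q23561 L754012 q22277, e3 q23562 L754029 q22212, e3 q23563 L754041 q22214, e3 q23564 L754055 q22218, e3 q23565 L754069 q22226, e3 q23566 (flp_e L765145) q24671, e3 q23567 (flp_e L766035) q24741, e3 q23568 L754103 q22220, e3 q23569 L766091 q24746, e3 q23570 L754125 q22229, e3 q23571 L766115 q24749, e3 q23572 (flp_e L754135) q22223, e3 q23573 L766143 q24752, e3 q23574 (flp_e L765195) q24675, e3 q23575 (flp_e L754175) q22282, e3 q23576 (flp_e L754177) q22228, e3 q23577 L766192 q24756, e3 q23578 (flp_e L754221) q22321, e3 q23579 (flp_e L754223) q22230, e3 q23580 (flp_e L766133) q24750, e3 q23581 L766218 q24758, e3 q23582 (flp_e L754262) q22232, e3 q23583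 (flp_e L754268) q22239, e3 q23584 L766246 q24760, e3 q23585 (flp_e L754295) q22241, e3 q23586 L754315 q22245, e3 q23587 (flp_e L766274) q24761, e3 q23588 L754343 q23588, e3 q23589 L754362 q23589, e3 q23590 L754371 q22247, e3 q23591 (flp_e L766318) q24764, e3 q23592 L754396 q23592, e3 q23593 L754405 q22250, e3 q23594 L754419 q22252, e3 q23595 (flp_e L766367) q24768, e3 q23596 L754442 q23596, e3 q23597 L754457 q23597, e3 q23598 L754464 q23598, e3 q23599 L754473 q22256, e3 q23600 L766424 q24774, e3 q23601 L754491 q23601, e3 q23602 (flp_e L765298) q24682, e3 q23603 L754512 q22260, e3 q23604 L754528 q23604, e3 q23605 L754545 q23605, e3 q23606 L754558 q22263, e3 q23607 L766503 q24781, e3 q23608 L754579 q22278, e3 q23609 (flp_e L765312) q24683, e3 q23610 L754603 q23610, e3 q23611 L754618 q22268, e3 q23612 L766557 q24786, e3 q23613 L754649 q23613, e3 q23614 L754654 q23614, e3 q23615 L754663 q22281, trivial⟩ (by decide +kernel)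

theorem ce_e_369 : ∀ r, r < 64 → sm ge (Qf (23616 + r)) = Qf (tab Gen.e (23616 + r)) :=
  edges_tab (sm ge) Qf (tab Gen.e) 23616 [(23616, 24791), (23617, 22273), (23618, 22284), (23619, 24795), (23620, 24691), (23621, 24797), (23622, 22280), (23623, 24799), (23624, 24792), (23625, 24800), (23626, 24801), (23627, 22285), (23628, 24411), (23629, 24696), (23630, 23630), (23631, 23631), (23632, 22343), (23633, 22344), (23634, 22320), (23635, 24810), (23636, 22296), (23637, 24812), (23638, 24697), (23639, 22347), (23640, 22301), (23641, 23641), (23642, 22349), (23643, 22350), (23644, 22323), (23645, 24821), (23646, 22307), (23647, 23647), (23648, 23648), (23649, 22353), (23650, 24827), (23651, 22326), (23652, 24830), (23653, 24832), (23654, 22314), (23655, 22330), (23656, 22331), (23657, 24837), (23658, 24839), (23659, 22318), (23660, 24707), (23661, 24841), (23662, 22322), (23663, 24842), (23664, 22324), (23665, 24822), (23666, 24844), (23667, 24845), (23668, 22327), (23669, 24846), (23670, 24834), (23671, 22332), (23672, 22333),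 (23673, 22339), (23674, 22341), (23675, 23675), (23676, 24806), (23677, 24852), (23678, 22345), (23679, 24814)]
    ⟨e3 q23616 L766601 q24791, e3 q23617 (flp_e L754675) q22273, e3 q23618 L754686 q22284, e3 q23619 L766634 q24795, e3 q23620 (flp_e L765403) q24691, e3 q23621 L766646 q24797, e3 q23622 (flp_e L754717) q22280, e3 q23623 L766672 q24799, e3 q23624 (flp_e L766614) q24792, e3 q23625 L766684 q24800, e3 q23626 L766695 q24801, e3 q23627 (flp_e L754771) q22285, e3 q23628 (flp_e L761576) q24411, e3 q23629 (flp_e L765479) q24696, e3 q23630 L754798 q23630, e3 q23631 L754815 q23631, e3 q23632 L754828 q22343, e3 q23633 L754840 q22344, e3 q23634 L754850 q22320, e3 q23635 L766784 q24810, e3 q23636 (flp_e L754862) q22296, e3 q23637 L766800 q24812, e3 q23638 (flp_e L765485) q24697, e3 q23639 L754896 q22347, e3 q23640 L754910 q22301, e3 q23641 L754930 q23641, e3 q23642 L754941 q22349, e3 q23643 L754953 q22350, e3 q23644 L754967 q22323, e3 q23645 L766901 q24821, e3 q23646 (flp_e L754983) q22307, e3 q23647 L754999 q23647, e3 q23648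 L755006 q23648, e3 q23649 L755013 q22353, e3 q23650 L766954 q24827, e3 q23651 L755029 q22326, e3 q23652 L766974 q24830, e3 q23653 L766984 q24832, e3 q23654 (flp_e L755045) q22314, e3 q23655 L755055 q22330, e3 q23656 L755059 q22331, e3 q23657 L767022 q24837, e3 q23658 L767040 q24839, e3 q23659 (flp_e L755079) q22318, e3 q23660 (flp_e L765585) q24707, e3 q23661 L767052 q24841, e3 q23662 (flp_e L755100) q22322, e3 q23663 L767059 q24842, e3 q23664 (flp_e L755123) q22324, e3 q23665 (flp_e L766921) q24822, e3 q23666 L767089 q24844, e3 q23667 L767100 q24845, e3 q23668 (flp_e L755170) q22327, e3 q23669 (flp_e L767108) q24846, e3 q23670 (flp_e L766998) q24834, e3 q23671 (flp_e L755186) q22332, e3 q23672 (flp_e L755196) q22333, e3 q23673 (flp_e L755202) q22339, e3 q23674 (flp_e L755215) q22341, e3 q23675 L755229 q23675, e3 q23676 (flp_e L766754) q24806, e3 q23677 L767157 q24852, e3 q23678 (flp_e L755254) q22345, e3 q23679 (flp_e L766824) q24814, trivial⟩ (by decide +kernel)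

theorem ce_e_370 : ∀ r, r < 64 → sm ge (Qf (23680 + r)) = Qf (tab Gen.e (23680 + r)) :=
  edges_tab (sm ge) Qf (tab Gen.e) 23680 [(23680, 24433), (23681, 24817), (23682, 24855), (23683, 22351), (23684, 24857), (23685, 24858), (23686, 22354), (23687, 22355), (23688, 23688), (23689, 22359), (23690, 22361), (23691, 24863), (23692, 22427), (23693, 22622), (23694, 22366), (23695, 22462), (23696, 24868), (23697, 22473), (23698, 22371), (23699, 23699), (23700, 22375), (23701, 22377), (23702, 24873), (23703, 23703), (23704, 22518), (23705, 23705), (23706, 22382), (23707, 22387), (23708, 22532), (23709, 24881), (23710, 22545), (23711, 24883), (23712, 22389), (23713, 22391), (23714, 23714), (23715, 22573), (23716, 23020), (23717, 24889), (23718, 22594), (23719, 22986), (23720, 23019), (23721, 22811), (23722, 23021), (23723, 22406), (23724, 24897), (23725, 24899), (23726, 22403), (23727, 22620), (23728, 22405), (23729, 24901), (23730, 22407), (23731, 22408), (23732, 22411), (23733, 22413), (23734, 23135), (23735, 22417), (23736, 23005),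 (23737, 22420), (23738, 22422), (23739, 24909), (23740, 24861), (23741, 23741), (23742, 24913), (23743, 22426)]
    ⟨e3 q23680 (flp_e L761919) q24433, e3 q23681 (flp_e L766863) q24817, e3 q23682 L767194 q24855, e3 q23683 (flp_e L755316) q22351, e3 q23684 L767220 q24857, e3 q23685 L767227 q24858, e3 q23686 (flp_e L755350) q22354, e3 q23687 (flp_e L755356) q22355, e3 q23688 L755374 q23688, e3 q23689 L755381 q22359, e3 q23690 L755395 q22361, e3 q23691 L767284 q24863, e3 q23692 L755428 q22427, e3 q23693 L755443 q22622, e3 q23694 L755452 q22366, e3 q23695 L755468 q22462, e3 q23696 L767343 q24868, e3 q23697 L755482 q22473, e3 q23698 (flp_e L755490) q22371, e3 q23699 L755508 q23699, e3 q23700 L755517 q22375, e3 q23701 L755527 q22377, e3 q23702 L767392 q24873, e3 q23703 L755546 q23703, e3 q23704 L755555 q22518, e3 q23705 L755569 q23705, e3 q23706 L755580 q22382, e3 q23707 L755594 q22387, e3 q23708 L755610 q22532, e3 q23709 L767479 q24881, e3 q23710 L755624 q22545, e3 q23711 L767499 q24883, e3 q23712 (flp_e L755645) q22389, e3 q23713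 L755664 q22391, e3 q23714 L755676 q23714, e3 q23715 L755687 q22573, e3 q23716 L755701 q23020, e3 q23717 L767570 q24889, e3 q23718 L755713 q22594, e3 q23719 L755731 q22986, e3 q23720 L755749 q23019, e3 q23721 L755765 q22811, e3 q23722 L755773 q23021, e3 q23723 L755787 q22406, e3 q23724 L767660 q24897, e3 q23725 L767672 q24899, e3 q23726 (flp_e L755805) q22403, e3 q23727 L755813 q22620, e3 q23728 (flp_e L755817) q22405, e3 q23729 L767684 q24901, e3 q23730 (flp_e L755839) q22407, e3 q23731 (flp_e L755847) q22408, e3 q23732 (flp_e L755859) q22411, e3 q23733 (flp_e L755870) q22413, e3 q23734 L755888 q23135, e3 q23735 L755896 q22417, e3 q23736 L755912 q23005, e3 q23737 L755918 q22420, e3 q23738 L755932 q22422, e3 q23739 L767764 q24909, e3 q23740 (flp_e L767268) q24861, e3 q23741 L755957 q23741, e3 q23742 L767793 q24913, e3 q23743 (flp_e L755968) q22426, trivial⟩ (by decide +kernel)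

theorem ce_e_371 : ∀ r, r < 64 → sm ge (Qf (23744 + r)) = Qf (tab Gen.e (23744 + r)) :=
  edges_tab (sm ge) Qf (tab Gen.e) 23744 [(23744, 24864), (23745, 23745), (23746, 22431), (23747, 23747), (23748, 22434), (23749, 24919), (23750, 23750), (23751, 23007), (23752, 23752), (23753, 22439), (23754, 22445), (23755, 22446), (23756, 22998), (23757, 24928), (23758, 23009), (23759, 24924), (23760, 24932), (23761, 22761), (23762, 24933), (23763, 22448), (23764, 23764), (23765, 22452), (23766, 23766), (23767, 24865), (23768, 23768), (23769, 22488), (23770, 22474), (23771, 22475), (23772, 23051), (23773, 22477), (23774, 24945), (23775, 24866), (23776, 22490), (23777, 22491), (23778, 23058), (23779, 23779), (23780, 23780), (23781, 22492), (23782, 23064), (23783, 24955), (23784, 23068), (23785, 24958), (23786, 22472), (23787, 24869), (23788, 24940), (23789, 24962), (23790, 22733), (23791, 24964), (23792, 24965), (23793, 22478), (23794, 24966), (23795, 22480), (23796, 22482), (23797, 24968), (23798, 22484), (23799, 22485), (23800, 23800),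 (23801, 24581), (23802, 24947), (23803, 22494), (23804, 22496), (23805, 24973), (23806, 23806), (23807, 22499)]
    ⟨e3 q23744 (flp_e L767303) q24864, e3 q23745 L755987 q23745, e3 q23746 L756000 q22431, e3 q23747 L756016 q23747, e3 q23748 L756029 q22434, e3 q23749 L767857 q24919, e3 q23750 L756054 q23750, e3 q23751 L756063 q23007, e3 q23752 L756077 q23752, e3 q23753 L756090 q22439, e3 q23754 L756104 q22445, e3 q23755 L756114 q22446, e3 q23756 L756130 q22998, e3 q23757 L767964 q24928, e3 q23758 L756144 q23009, e3 q23759 (flp_e L767926) q24924, e3 q23760 L768007 q24932, e3 q23761 L756178 q22761, e3 q23762 L768018 q24933, e3 q23763 (flp_e L756199) q22448, e3 q23764 L756218 q23764, e3 q23765 L756231 q22452, e3 q23766 L756243 q23766, e3 q23767 (flp_e L767319) q24865, e3 q23768 L756264 q23768, e3 q23769 L756275 q22488, e3 q23770 L756289 q22474, e3 q23771 L756301 q22475, e3 q23772 L756319 q23051, e3 q23773 L756325 q22477, e3 q23774 L768153 q24945, e3 q23775 (flp_e L767325) q24866, e3 q23776 L756351 q22490, e3 q23777 L756363 q22491,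 e3 q23778 L756381 q23058, e3 q23779 L756391 q23779, e3 q23780 L756400 q23780, e3 q23781 L756409 q22492, e3 q23782 L756423 q23064, e3 q23783 L768262 q24955, e3 q23784 L756439 q23068, e3 q23785 L768286 q24958, e3 q23786 (flp_e L756453) q22472, e3 q23787 (flp_e L767357) q24869, e3 q23788 (flp_e L768109) q24940, e3 q23789 L768323 q24962, e3 q23790 L756493 q22733, e3 q23791 L768345 q24964, e3 q23792 L768353 q24965, e3 q23793 (flp_e L756522) q22478, e3 q23794 L768365 q24966, e3 q23795 (flp_e L756541) q22480, e3 q23796 (flp_e L756550) q22482, e3 q23797 L768380 q24968, e3 q23798 (flp_e L756567) q22484, e3 q23799 (flp_e L756574) q22485, e3 q23800 L756590 q23800, e3 q23801 (flp_e L763981) q24581, e3 q23802 (flp_e L768171) q24947, e3 q23803 L756625 q22494, e3 q23804 L756641 q22496, e3 q23805 (flp_e L768438) q24973, e3 q23806 L756670 q23806, e3 q23807 L756683 q22499, trivial⟩ (by decide +kernel)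

theorem ce_e_372 : ∀ r, r < 64 → sm ge (Qf (23808 + r)) = Qf (tab Gen.e (23808 + r)) :=
  edges_tab (sm ge) Qf (tab Gen.e) 23808 [(23808, 24656), (23809, 23809), (23810, 23810), (23811, 24871), (23812, 22504), (23813, 24979), (23814, 22553), (23815, 23815), (23816, 22508), (23817, 24985), (23818, 22856), (23819, 22633), (23820, 22675), (23821, 23821), (23822, 23822), (23823, 24992), (23824, 22515), (23825, 23825), (23826, 24996), (23827, 24875), (23828, 22520), (23829, 23829), (23830, 23830), (23831, 24877), (23832, 22525), (23833, 22546), (23834, 22547), (23835, 23026), (23836, 22549), (23837, 22550), (23838, 25009), (23839, 24879), (23840, 22677), (23841, 23030), (23842, 22781), (23843, 23119), (23844, 22678), (23845, 23032), (23846, 22554), (23847, 25019), (23848, 23033), (23849, 22556), (23850, 25023), (23851, 25025), (23852, 22544), (23853, 24882), (23854, 25003), (23855, 24660), (23856, 25006), (23857, 25030), (23858, 25032), (23859, 22551), (23860, 22859), (23861, 24981), (23862, 22555), (23863, 25034), (23864, 25035),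 (23865, 22557), (23866, 25036), (23867, 22558), (23868, 22813), (23869, 22565), (23870, 22580), (23871, 23871)]
    ⟨e3 q23808 (flp_e L764904) q24656, e3 q23809 L756702 q23809, e3 q23810 L756709 q23810, e3 q23811 (flp_e L767380) q24871, e3 q23812 L756728 q22504, e3 q23813 (flp_e L768498) q24979, e3 q23814 L756755 q22553, e3 q23815 L756769 q23815, e3 q23816 L756778 q22508, e3 q23817 L768557 q24985, e3 q23818 L756801 q22856, e3 q23819 L756815 q22633, e3 q23820 L756829 q22675, e3 q23821 L756839 q23821, e3 q23822 L756848 q23822, e3 q23823 L768630 q24992, e3 q23824 (flp_e L756855) q22515, e3 q23825 L756865 q23825, e3 q23826 L768659 q24996, e3 q23827 (flp_e L767414) q24875, e3 q23828 L756890 q22520, e3 q23829 L756904 q23829, e3 q23830 L756911 q23830, e3 q23831 (flp_e L767445) q24877, e3 q23832 L756932 q22525, e3 q23833 L756948 q22546, e3 q23834 L756962 q22547, e3 q23835 L756978 q23026, e3 q23836 L756988 q22549, e3 q23837 L756996 q22550, e3 q23838 L768797 q25009, e3 q23839 (flp_e L767461) q24879, e3 q23840 L757022 q22677, e3 q23841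 L757036 q23030, e3 q23842 L757048 q22781, e3 q23843 L757058 q23119, e3 q23844 L757068 q22678, e3 q23845 L757084 q23032, e3 q23846 L757096 q22554, e3 q23847 L768907 q25019, e3 q23848 L757116 q23033, e3 q23849 L757126 q22556, e3 q23850 L768943 q25023, e3 q23851 L768957 q25025, e3 q23852 (flp_e L757148) q22544, e3 q23853 (flp_e L767493) q24882, e3 q23854 (flp_e L768733) q25003, e3 q23855 (flp_e L764964) q24660, e3 q23856 (flp_e L768775) q25006, e3 q23857 L769008 q25030, e3 q23858 L769028 q25032, e3 q23859 (flp_e L757221) q22551, e3 q23860 L757232 q22859, e3 q23861 (flp_e L768525) q24981, e3 q23862 (flp_e L757258) q22555, e3 q23863 L769052 q25034, e3 q23864 L769061 q25035, e3 q23865 (flp_e L757292) q22557, e3 q23866 L769074 q25036, e3 q23867 (flp_e L757312) q22558, e3 q23868 L757323 q22813, e3 q23869 L757341 q22565, e3 q23870 L757351 q22580, e3 q23871 L757367 q23871, trivial⟩ (by decide +kernel)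

theorem ce_e_373 : ∀ r, r < 64 → sm ge (Qf (23872 + r)) = Qf (tab Gen.e (23872 + r)) :=
  edges_tab (sm ge) Qf (tab Gen.e) 23872 [(23872, 23872), (23873, 25043), (23874, 22570), (23875, 23875), (23876, 25047), (23877, 24886), (23878, 22575), (23879, 23879), (23880, 22621), (23881, 25039), (23882, 23882), (23883, 23883), (23884, 23884), (23885, 22663), (23886, 25038), (23887, 22623), (23888, 22624), (23889, 25060), (23890, 25062), (23891, 22589), (23892, 22628), (23893, 25065), (23894, 25067), (23895, 22593), (23896, 24890), (23897, 24629), (23898, 23898), (23899, 23899), (23900, 23081), (23901, 22634), (23902, 25075), (23903, 25077), (23904, 22601), (23905, 23905), (23906, 23906), (23907, 23907), (23908, 23908), (23909, 25083), (23910, 25085), (23911, 25087), (23912, 22609), (23913, 22636), (23914, 25091), (23915, 25093), (23916, 22612), (23917, 25096), (23918, 22613), (23919, 25094), (23920, 25099), (23921, 25101), (23922, 22617), (23923, 25103), (23924, 22618), (23925, 24900), (23926, 25105), (23927, 25057), (23928, 25108),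 (23929, 25109), (23930, 22625), (23931, 25111), (23932, 25113), (23933, 22629), (23934, 25116), (23935, 22630)]
    ⟨e3 q23872 L757376 q23872, e3 q23873 L769150 q25043, e3 q23874 (flp_e L757387) q22570, e3 q23875 L757405 q23875, e3 q23876 L769195 q25047, e3 q23877 (flp_e L767540) q24886, e3 q23878 L757428 q22575, e3 q23879 L757446 q23879, e3 q23880 L757459 q22621, e3 q23881 (flp_e L769119) q25039, e3 q23882 L757477 q23882, e3 q23883 L757490 q23883, e3 q23884 L757499 q23884, e3 q23885 L757510 q22663, e3 q23886 (flp_e L769105) q25038, e3 q23887 L757530 q22623, e3 q23888 L757540 q22624, e3 q23889 L769312 q25060, e3 q23890 L769324 q25062, e3 q23891 (flp_e L757556) q22589, e3 q23892 L757568 q22628, e3 q23893 L769346 q25065, e3 q23894 L769358 q25067, e3 q23895 (flp_e L757584) q22593, e3 q23896 (flp_e L767580) q24890, e3 q23897 (flp_e L764593) q24629, e3 q23898 L757608 q23898, e3 q23899 L757617 q23899, e3 q23900 L757626 q23081, e3 q23901 L757638 q22634, e3 q23902 L769417 q25075, e3 q23903 L769429 q25077, e3 q23904 (flp_e L757656)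 q22601, e3 q23905 L757676 q23905, e3 q23906 L757683 q23906, e3 q23907 L757690 q23907, e3 q23908 L757697 q23908, e3 q23909 L769479 q25083, e3 q23910 L769490 q25085, e3 q23911 L769510 q25087, e3 q23912 (flp_e L757720) q22609, e3 q23913 L757736 q22636, e3 q23914 L769544 q25091, e3 q23915 L769556 q25093, e3 q23916 (flp_e L757754) q22612, e3 q23917 L769576 q25096, e3 q23918 (flp_e L757764) q22613, e3 q23919 (flp_e L769568) q25094, e3 q23920 L769602 q25099, e3 q23921 L769618 q25101, e3 q23922 (flp_e L757796) q22617, e3 q23923 L769628 q25103, e3 q23924 (flp_e L757806) q22618, e3 q23925 (flp_e L767680) q24900, e3 q23926 L769636 q25105, e3 q23927 (flp_e L769292) q25057, e3 q23928 L769665 q25108, e3 q23929 L769670 q25109, e3 q23930 (flp_e L757853) q22625, e3 q23931 L769692 q25111, e3 q23932 L769711 q25113, e3 q23933 (flp_e L757874) q22629, e3 q23934 L769736 q25116, e3 q23935 (flp_e L757888) q22630, trivial⟩ (by decide +kernel)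

theorem ce_e_374 : ∀ r, r < 64 → sm ge (Qf (23936 + r)) = Qf (tab Gen.e (23936 + r)) :=
  edges_tab (sm ge) Qf (tab Gen.e) 23936 [(23936, 23131), (23937, 24987), (23938, 22635), (23939, 25118), (23940, 22637), (23941, 22638), (23942, 22640), (23943, 25121), (23944, 22641), (23945, 22642), (23946, 25123), (23947, 22644), (23948, 25120), (23949, 22648), (23950, 25119), (23951, 25127), (23952, 22651), (23953, 25129), (23954, 22652), (23955, 23955), (23956, 25132), (23957, 22654), (23958, 23958), (23959, 22657), (23960, 23960), (23961, 22660), (23962, 23962), (23963, 23963), (23964, 25141), (23965, 22664), (23966, 22665), (23967, 23967), (23968, 23968), (23969, 22669), (23970, 25145), (23971, 25146), (23972, 22674), (23973, 23973), (23974, 22679), (23975, 22690), (23976, 22703), (23977, 22702), (23978, 22911), (23979, 22966), (23980, 25148), (23981, 22700), (23982, 24408), (23983, 24423), (23984, 22704), (23985, 22945), (23986, 23986), (23987, 22819), (23988, 22706), (23989, 25163), (23990, 25154), (23991, 24415), (23992, 25150),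 (23993, 25149), (23994, 25168), (23995, 25169), (23996, 22707), (23997, 22710), (23998, 25171), (23999, 22787)]
    ⟨e3 q23936 L757902 q23131, e3 q23937 (flp_e L768589) q24987, e3 q23938 (flp_e L757927) q22635, e3 q23939 L769752 q25118, e3 q23940 (flp_e L757939) q22637, e3 q23941 (flp_e L757944) q22638, e3 q23942 L757962 q22640, e3 q23943 L769772 q25121, e3 q23944 (flp_e L757974) q22641, e3 q23945 (flp_e L757982) q22642, e3 q23946 L769792 q25123, e3 q23947 (flp_e L758006) q22644, e3 q23948 (flp_e L769770) q25120, e3 q23949 (flp_e L758016) q22648, e3 q23950 (flp_e L769762) q25119, e3 q23951 L769827 q25127, e3 q23952 (flp_e L758046) q22651, e3 q23953 L769851 q25129, e3 q23954 (flp_e L758066) q22652, e3 q23955 L758076 q23955, e3 q23956 L769876 q25132, e3 q23957 (flp_e L758089) q22654, e3 q23958 L758105 q23958, e3 q23959 (flp_e L758106) q22657, e3 q23960 L758126 q23960, e3 q23961 (flp_e L758127) q22660, e3 q23962 L758147 q23962, e3 q23963 L758150 q23963, e3 q23964 L769960 q25141, e3 q23965 (flp_e L758164) q22664, e3 q23966 (flp_e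 L758176) q22665, e3 q23967 L758196 q23967, e3 q23968 L758211 q23968, e3 q23969 (flp_e L758212) q22669, e3 q23970 L770010 q25145, e3 q23971 L770023 q25146, e3 q23972 (flp_e L758246) q22674, e3 q23973 L758256 q23973, e3 q23974 (flp_e L758257) q22679, e3 q23975 L758281 q22690, e3 q23976 L758289 q22703, e3 q23977 L758307 q22702, e3 q23978 L758323 q22911, e3 q23979 L758331 q22966, e3 q23980 (flp_e L770042) q25148, e3 q23981 L758353 q22700, e3 q23982 (flp_e L761542) q24408, e3 q23983 (flp_e L761763) q24423, e3 q23984 L758381 q22704, e3 q23985 L758395 q22945, e3 q23986 L758407 q23986, e3 q23987 L758422 q22819, e3 q23988 L758432 q22706, e3 q23989 L770210 q25163, e3 q23990 (flp_e L770110) q25154, e3 q23991 (flp_e L761649) q24415, e3 q23992 (flp_e L770066) q25150, e3 q23993 (flp_e L770054) q25149, e3 q23994 L770248 q25168, e3 q23995 L770257 q25169, e3 q23996 (flp_e L758500) q22707, e3 q23997 L758513 q22710, e3 q23998 L770276 q25171, e3 q23999 L758546 q22787, trivial⟩ (by decide +kernel)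

theorem ce_e_375 : ∀ r, r < 64 → sm ge (Qf (24000 + r)) = Qf (tab Gen.e (24000 + r)) :=
  edges_tab (sm ge) Qf (tab Gen.e) 24000 [(24000, 22799), (24001, 22812), (24002, 22831), (24003, 22716), (24004, 25178), (24005, 22718), (24006, 25180), (24007, 22719), (24008, 22855), (24009, 24661), (24010, 22830), (24011, 22854), (24012, 24012), (24013, 25186), (24014, 22731), (24015, 23071), (24016, 22735), (24017, 25188), (24018, 22737), (24019, 25191), (24020, 24020), (24021, 23093), (24022, 22741), (24023, 25195), (24024, 24024), (24025, 22769), (24026, 22760), (24027, 25200), (24028, 22746), (24029, 23000), (24030, 23094), (24031, 22772), (24032, 25206), (24033, 22751), (24034, 24034), (24035, 25210), (24036, 25212), (24037, 25214), (24038, 22755), (24039, 22765), (24040, 23010), (24041, 23117), (24042, 22759), (24043, 25219), (24044, 25201), (24045, 25207), (24046, 22764), (24047, 25221), (24048, 22767), (24049, 22768), (24050, 25224), (24051, 22770), (24052, 22779), (24053, 25228), (24054, 25229), (24055, 22773), (24056, 22780),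 (24057, 22775), (24058, 24058), (24059, 25223), (24060, 25226), (24061, 25013), (24062, 22783), (24063, 25234)]
    ⟨e3 q24000 L758562 q22799, e3 q24001 L758570 q22812, e3 q24002 L758580 q22831, e3 q24003 L758594 q22716, e3 q24004 L770353 q25178, e3 q24005 (flp_e L758608) q22718, e3 q24006 L770365 q25180, e3 q24007 (flp_e L758622) q22719, e3 q24008 L758630 q22855, e3 q24009 (flp_e L764976) q24661, e3 q24010 L758662 q22830, e3 q24011 L758670 q22854, e3 q24012 L758678 q24012, e3 q24013 L770419 q25186, e3 q24014 (flp_e L758685) q22731, e3 q24015 L758698 q23071, e3 q24016 L758710 q22735, e3 q24017 (flp_e L770439) q25188, e3 q24018 L758733 q22737, e3 q24019 L770468 q25191, e3 q24020 L758756 q24020, e3 q24021 L758765 q23093, e3 q24022 L758771 q22741, e3 q24023 L770500 q25195, e3 q24024 L758793 q24024, e3 q24025 L758804 q22769, e3 q24026 L758816 q22760, e3 q24027 L770547 q25200, e3 q24028 (flp_e L758830) q22746, e3 q24029 L758852 q23000, e3 q24030 L758860 q23094, e3 q24031 L758868 q22772, e3 q24032 L770599 q25206, e3 q24033 (flp_e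 L758878) q22751, e3 q24034 L758892 q24034, e3 q24035 L770639 q25210, e3 q24036 L770657 q25212, e3 q24037 L770667 q25214, e3 q24038 (flp_e L758917) q22755, e3 q24039 L758931 q22765, e3 q24040 L758937 q23010, e3 q24041 L758943 q23117, e3 q24042 (flp_e L758945) q22759, e3 q24043 L770707 q25219, e3 q24044 (flp_e L770565) q25201, e3 q24045 (flp_e L770615) q25207, e3 q24046 (flp_e L758991) q22764, e3 q24047 L770727 q25221, e3 q24048 (flp_e L759010) q22767, e3 q24049 (flp_e L759023) q22768, e3 q24050 L770765 q25224, e3 q24051 (flp_e L759043) q22770, e3 q24052 L759065 q22779, e3 q24053 L770805 q25228, e3 q24054 L770813 q25229, e3 q24055 (flp_e L759083) q22773, e3 q24056 L759099 q22780, e3 q24057 (flp_e L759103) q22775, e3 q24058 L759118 q24058, e3 q24059 (flp_e L770763) q25223, e3 q24060 (flp_e L770795) q25226, e3 q24061 (flp_e L768841) q25013, e3 q24062 L759160 q22783, e3 q24063 L770858 q25234, trivial⟩ (by decide +kernel)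

theorem ce_e_376 : ∀ r, r < 64 → sm ge (Qf (24064 + r)) = Qf (tab Gen.e (24064 + r)) :=
  edges_tab (sm ge) Qf (tab Gen.e) 24064 [(24064, 24064), (24065, 25237), (24066, 22786), (24067, 25172), (24068, 24068), (24069, 22790), (24070, 25241), (24071, 24527), (24072, 24072), (24073, 22794), (24074, 25245), (24075, 24075), (24076, 24076), (24077, 25249), (24078, 22798), (24079, 25173), (24080, 24080), (24081, 22814), (24082, 25254), (24083, 22803), (24084, 23134), (24085, 24085), (24086, 25258), (24087, 24902), (24088, 25261), (24089, 22808), (24090, 24512), (24091, 24893), (24092, 25174), (24093, 24093), (24094, 25267), (24095, 22817), (24096, 25270), (24097, 25160), (24098, 22858), (24099, 25274), (24100, 22822), (24101, 24101), (24102, 24102), (24103, 22873), (24104, 25279), (24105, 25281), (24106, 25283), (24107, 22828), (24108, 22861), (24109, 25182), (24110, 25175), (24111, 22862), (24112, 24649), (24113, 24113), (24114, 22877), (24115, 25293), (24116, 22864), (24117, 25296), (24118, 25298), (24119, 22839), (24120, 24120),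 (24121, 24121), (24122, 25302), (24123, 25304), (24124, 25306), (24125, 22845), (24126, 22866), (24127, 25310)]
    ⟨e3 q24064 L759183 q24064, e3 q24065 L770887 q25237, e3 q24066 (flp_e L759196) q22786, e3 q24067 (flp_e L770291) q25172, e3 q24068 L759219 q24068, e3 q24069 L759226 q22790, e3 q24070 L770920 q25241, e3 q24071 (flp_e L763254) q24527, e3 q24072 L759258 q24072, e3 q24073 L759269 q22794, e3 q24074 L770956 q25245, e3 q24075 L759296 q24075, e3 q24076 L759305 q24076, e3 q24077 L770996 q25249, e3 q24078 (flp_e L759318) q22798, e3 q24079 (flp_e L770305) q25173, e3 q24080 L759339 q24080, e3 q24081 L759348 q22814, e3 q24082 L771042 q25254, e3 q24083 (flp_e L759364) q22803, e3 q24084 L759375 q23134, e3 q24085 L759383 q24085, e3 q24086 L771068 q25258, e3 q24087 (flp_e L767702) q24902, e3 q24088 L771089 q25261, e3 q24089 (flp_e L759404) q22808, e3 q24090 (flp_e L763028) q24512, e3 q24091 (flp_e L767620) q24893, e3 q24092 (flp_e L770317) q25174, e3 q24093 L759442 q24093, e3 q24094 L771133 q25267, e3 q24095 (flp_e L759449)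 q22817, e3 q24096 L771150 q25270, e3 q24097 (flp_e L770180) q25160, e3 q24098 L759473 q22858, e3 q24099 L771177 q25274, e3 q24100 (flp_e L759487) q22822, e3 q24101 L759503 q24101, e3 q24102 L759512 q24102, e3 q24103 L759519 q22873, e3 q24104 L771216 q25279, e3 q24105 L771234 q25281, e3 q24106 L771248 q25283, e3 q24107 (flp_e L759545) q22828, e3 q24108 L759557 q22861, e3 q24109 (flp_e L770387) q25182, e3 q24110 (flp_e L770327) q25175, e3 q24111 L759583 q22862, e3 q24112 (flp_e L764803) q24649, e3 q24113 L759599 q24113, e3 q24114 L759606 q22877, e3 q24115 L771320 q25293, e3 q24116 L759624 q22864, e3 q24117 L771346 q25296, e3 q24118 L771358 q25298, e3 q24119 (flp_e L759642) q22839, e3 q24120 L759654 q24120, e3 q24121 L759661 q24121, e3 q24122 L771384 q25302, e3 q24123 L771393 q25304, e3 q24124 L771403 q25306, e3 q24125 (flp_e L759680) q22845, e3 q24126 L759690 q22866, e3 q24127 L771425 q25310, trivial⟩ (by decide +kernel)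

theorem ce_e_377 : ∀ r, r < 64 → sm ge (Qf (24128 + r)) = Qf (tab Gen.e (24128 + r)) :=
  edges_tab (sm ge) Qf (tab Gen.e) 24128 [(24128, 25312), (24129, 22848), (24130, 25314), (24131, 22849), (24132, 25037), (24133, 24519), (24134, 24524), (24135, 25183), (24136, 25181), (24137, 24986), (24138, 24487), (24139, 25320), (24140, 22860), (24141, 25285), (24142, 25321), (24143, 22865), (24144, 25322), (24145, 22867), (24146, 24146), (24147, 25323), (24148, 22874), (24149, 24149), (24150, 22883), (24151, 25326), (24152, 22878), (24153, 22880), (24154, 24154), (24155, 22925), (24156, 22927), (24157, 25331), (24158, 22891), (24159, 22930), (24160, 25332), (24161, 22894), (24162, 22896), (24163, 24163), (24164, 24164), (24165, 25337), (24166, 22900), (24167, 22939), (24168, 25338), (24169, 22950), (24170, 24170), (24171, 24171), (24172, 22917), (24173, 25345), (24174, 25347), (24175, 25349), (24176, 22909), (24177, 22915), (24178, 25151), (24179, 22967), (24180, 22913), (24181, 25354), (24182, 25351), (24183, 25355), (24184, 22918),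 (24185, 24185), (24186, 22921), (24187, 24187), (24188, 25359), (24189, 22924), (24190, 25328), (24191, 24711)]
    ⟨e3 q24128 L771437 q25312, e3 q24129 (flp_e L759704) q22848, e3 q24130 L771445 q25314, e3 q24131 (flp_e L759712) q22849, e3 q24132 (flp_e L769093) q25037, e3 q24133 (flp_e L763137) q24519, e3 q24134 (flp_e L763205) q24524, e3 q24135 (flp_e L770399) q25183, e3 q24136 (flp_e L770377) q25181, e3 q24137 (flp_e L768573) q24986, e3 q24138 L762677 q24487, e3 q24139 L771482 q25320, e3 q24140 (flp_e L759777) q22860, e3 q24141 (flp_e L771262) q25285, e3 q24142 L771491 q25321, e3 q24143 (flp_e L759802) q22865, e3 q24144 L771502 q25322, e3 q24145 (flp_e L759814) q22867, e3 q24146 L759824 q24146, e3 q24147 L771507 q25323, e3 q24148 (flp_e L759833) q22874, e3 q24149 L759846 q24149, e3 q24150 L759849 q22883, e3 q24151 L771527 q25326, e3 q24152 (flp_e L759860) q22878, e3 q24153 (flp_e L759866) q22880, e3 q24154 L759875 q24154, e3 q24155 L759888 q22925, e3 q24156 L759904 q22927, e3 q24157 L771574 q25331, e3 q24158 (flp_e L759912)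 q22891, e3 q24159 L759924 q22930, e3 q24160 (flp_e L771588) q25332, e3 q24161 (flp_e L759936) q22894, e3 q24162 L759952 q22896, e3 q24163 L759958 q24163, e3 q24164 L759963 q24164, e3 q24165 L771613 q25337, e3 q24166 (flp_e L759968) q22900, e3 q24167 L759977 q22939, e3 q24168 (flp_e L771626) q25338, e3 q24169 L759990 q22950, e3 q24170 L760000 q24170, e3 q24171 L760009 q24171, e3 q24172 L760016 q22917, e3 q24173 L771671 q25345, e3 q24174 L771683 q25347, e3 q24175 L771691 q25349, e3 q24176 (flp_e L760034) q22909, e3 q24177 L760044 q22915, e3 q24178 (flp_e L770080) q25151, e3 q24179 L760054 q22967, e3 q24180 (flp_e L760058) q22913, e3 q24181 (flp_e L771726) q25354, e3 q24182 (flp_e L771705) q25351, e3 q24183 L771728 q25355, e3 q24184 (flp_e L760082) q22918, e3 q24185 L760091 q24185, e3 q24186 L760096 q22921, e3 q24187 L760103 q24187, e3 q24188 L771758 q25359, e3 q24189 (flp_e L760114) q22924, e3 q24190 (flp_e L771544) q25328, e3 q24191 (flp_e L765649) q24711, trivial⟩ (by decide +kernel)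

theorem ce_e_378 : ∀ r, r < 64 → sm ge (Qf (24192 + r)) = Qf (tab Gen.e (24192 + r)) :=
  edges_tab (sm ge) Qf (tab Gen.e) 24192 [(24192, 25329), (24193, 25364), (24194, 22928), (24195, 22931), (24196, 25333), (24197, 25368), (24198, 22934), (24199, 24199), (24200, 25372), (24201, 25374), (24202, 22937), (24203, 22941), (24204, 25339), (24205, 25369), (24206, 25378), (24207, 22943), (24208, 25380), (24209, 25158), (24210, 25383), (24211, 22947), (24212, 25385), (24213, 22948), (24214, 25340), (24215, 25388), (24216, 22952), (24217, 25390), (24218, 24777), (24219, 25393), (24220, 22955), (24221, 22968), (24222, 25396), (24223, 25398), (24224, 22958), (24225, 24417), (24226, 25401), (24227, 22960), (24228, 25403), (24229, 22961), (24230, 24835), (24231, 22969), (24232, 24416), (24233, 25152), (24234, 25353), (24235, 22973), (24236, 22976), (24237, 24237), (24238, 23024), (24239, 23027), (24240, 23034), (24241, 23044), (24242, 23048), (24243, 23052), (24244, 24891), (24245, 23072), (24246, 24246), (24247, 24923), (24248, 24248),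 (24249, 25421), (24250, 23084), (24251, 23012), (24252, 24905), (24253, 24253), (24254, 24916), (24255, 25428)]
    ⟨e3 q24192 (flp_e L771558) q25329, e3 q24193 L771788 q25364, e3 q24194 (flp_e L760149) q22928, e3 q24195 L760161 q22931, e3 q24196 (flp_e L771592) q25333, e3 q24197 L771810 q25368, e3 q24198 (flp_e L760173) q22934, e3 q24199 L760182 q24199, e3 q24200 L771837 q25372, e3 q24201 L771848 q25374, e3 q24202 (flp_e L760195) q22937, e3 q24203 L760206 q22941, e3 q24204 (flp_e L771630) q25339, e3 q24205 (flp_e L771825) q25369, e3 q24206 L771870 q25378, e3 q24207 (flp_e L760223) q22943, e3 q24208 L771882 q25380, e3 q24209 (flp_e L770154) q25158, e3 q24210 L771896 q25383, e3 q24211 (flp_e L760249) q22947, e3 q24212 L771910 q25385, e3 q24213 (flp_e L760263) q22948, e3 q24214 (flp_e L771636) q25340, e3 q24215 L771926 q25388, e3 q24216 (flp_e L760279) q22952, e3 q24217 L771936 q25390, e3 q24218 (flp_e L766461) q24777, e3 q24219 L771952 q25393, e3 q24220 (flp_e L760299) q22955, e3 q24221 L760311 q22968, e3 q24222 L771968 q25396,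 e3 q24223 L771980 q25398, e3 q24224 (flp_e L760323) q22958, e3 q24225 (flp_e L761685) q24417, e3 q24226 L771998 q25401, e3 q24227 (flp_e L760339) q22960, e3 q24228 L772010 q25403, e3 q24229 (flp_e L760351) q22961, e3 q24230 (flp_e L767010) q24835, e3 q24231 L760361 q22969, e3 q24232 (flp_e L761657) q24416, e3 q24233 (flp_e L770092) q25152, e3 q24234 (flp_e L771719) q25353, e3 q24235 (flp_e L760381) q22973, e3 q24236 (flp_e L760387) q22976, e3 q24237 L760396 q24237, e3 q24238 L760405 q23024, e3 q24239 L760411 q23027, e3 q24240 L760417 q23034, e3 q24241 L760421 q23044, e3 q24242 L760431 q23048, e3 q24243 L760435 q23052, e3 q24244 (flp_e L767588) q24891, e3 q24245 L760449 q23072, e3 q24246 L760457 q24246, e3 q24247 (flp_e L767916) q24923, e3 q24248 L760468 q24248, e3 q24249 L772120 q25421, e3 q24250 L760481 q23084, e3 q24251 L760491 q23012, e3 q24252 (flp_e L767734) q24905, e3 q24253 L760505 q24253, e3 q24254 (flp_e L767828) q24916, e3 q24255 L772165 q25428, trivial⟩ (by decide +kernel)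

theorem ce_e_379 : ∀ r, r < 64 → sm ge (Qf (24256 + r)) = Qf (tab Gen.e (24256 + r)) :=
  edges_tab (sm ge) Qf (tab Gen.e) 24256 [(24256, 24926), (24257, 24725), (24258, 25202), (24259, 23095), (24260, 24260), (24261, 24884), (24262, 25436), (24263, 24906), (24264, 25439), (24265, 24921), (24266, 25442), (24267, 23008), (24268, 24929), (24269, 25216), (24270, 23118), (24271, 25445), (24272, 23014), (24273, 23015), (24274, 25447), (24275, 23018), (24276, 24892), (24277, 24887), (24278, 24894), (24279, 24998), (24280, 25453), (24281, 25409), (24282, 25002), (24283, 25005), (24284, 25410), (24285, 24621), (24286, 25011), (24287, 25012), (24288, 25015), (24289, 25016), (24290, 25020), (24291, 25411), (24292, 23036), (24293, 25465), (24294, 23137), (24295, 25468), (24296, 25469), (24297, 23039), (24298, 23141), (24299, 25472), (24300, 25474), (24301, 23042), (24302, 25412), (24303, 24303), (24304, 24935), (24305, 25479), (24306, 25413), (24307, 23106), (24308, 24939), (24309, 24942), (24310, 25414), (24311, 24584), (24312, 23144),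 (24313, 24313), (24314, 24948), (24315, 25490), (24316, 24949), (24317, 24317), (24318, 24318), (24319, 24319)]
    ⟨e3 q24256 (flp_e L767946) q24926, e3 q24257 (flp_e L765843) q24725, e3 q24258 (flp_e L770571) q25202, e3 q24259 L760544 q23095, e3 q24260 L760554 q24260, e3 q24261 (flp_e L767524) q24884, e3 q24262 L772225 q25436, e3 q24263 (flp_e L767740) q24906, e3 q24264 L772241 q25439, e3 q24265 (flp_e L767883) q24921, e3 q24266 L772256 q25442, e3 q24267 (flp_e L760595) q23008, e3 q24268 (flp_e L767978) q24929, e3 q24269 (flp_e L770683) q25216, e3 q24270 L760611 q23118, e3 q24271 L772270 q25445, e3 q24272 (flp_e L760622) q23014, e3 q24273 (flp_e L760627) q23015, e3 q24274 L772283 q25447, e3 q24275 (flp_e L760636) q23018, e3 q24276 (flp_e L767604) q24892, e3 q24277 (flp_e L767550) q24887, e3 q24278 (flp_e L767636) q24894, e3 q24279 (flp_e L768680) q24998, e3 q24280 L772319 q25453, e3 q24281 (flp_e L772044) q25409, e3 q24282 (flp_e L768721) q25002, e3 q24283 (flp_e L768759) q25005, e3 q24284 (flp_e L772050) q25410, e3 q24285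 (flp_e L764491) q24621, e3 q24286 (flp_e L768821) q25011, e3 q24287 (flp_e L768827) q25012, e3 q24288 (flp_e L768869) q25015, e3 q24289 (flp_e L768877) q25016, e3 q24290 (flp_e L768921) q25020, e3 q24291 (flp_e L772056) q25411, e3 q24292 L760736 q23036, e3 q24293 L772380 q25465, e3 q24294 L760756 q23137, e3 q24295 L772398 q25468, e3 q24296 L772404 q25469, e3 q24297 (flp_e L760768) q23039, e3 q24298 L760778 q23141, e3 q24299 L772420 q25472, e3 q24300 L772430 q25474, e3 q24301 (flp_e L760790) q23042, e3 q24302 (flp_e L772062) q25412, e3 q24303 L760802 q24303, e3 q24304 (flp_e L768056) q24935, e3 q24305 L772458 q25479, e3 q24306 (flp_e L772068) q25413, e3 q24307 L760833 q23106, e3 q24308 (flp_e L768097) q24939, e3 q24309 (flp_e L768131) q24942, e3 q24310 (flp_e L772076) q25414, e3 q24311 (flp_e L764028) q24584, e3 q24312 L760865 q23144, e3 q24313 L760871 q24313, e3 q24314 (flp_e L768191) q24948, e3 q24315 L772523 q25490, e3 q24316 (flp_e L768197) q24949, e3 q24317 L760896 q24317, e3 q24318 L760901 q24318, e3 q24319 L760906 q24319,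 trivial⟩ (by decide +kernel)

theorem ce_e_380 : ∀ r, r < 64 → sm ge (Qf (24320 + r)) = Qf (tab Gen.e (24320 + r)) :=
  edges_tab (sm ge) Qf (tab Gen.e) 24320 [(24320, 25496), (24321, 24952), (24322, 24953), (24323, 23076), (24324, 25501), (24325, 25503), (24326, 23067), (24327, 24956), (24328, 24528), (24329, 24533), (24330, 25187), (24331, 25416), (24332, 23079), (24333, 25508), (24334, 23074), (24335, 25509), (24336, 23077), (24337, 25511), (24338, 25072), (24339, 25514), (24340, 25516), (24341, 23083), (24342, 25422), (24343, 25519), (24344, 23107), (24345, 23101), (24346, 25523), (24347, 23088), (24348, 25526), (24349, 23089), (24350, 25524), (24351, 23124), (24352, 24536), (24353, 25193), (24354, 25203), (24355, 25432), (24356, 24633), (24357, 24630), (24358, 25535), (24359, 25537), (24360, 23100), (24361, 25521), (24362, 23147), (24363, 25541), (24364, 25543), (24365, 25545), (24366, 23105), (24367, 25481), (24368, 25520), (24369, 25549), (24370, 25551), (24371, 23109), (24372, 25554), (24373, 23110), (24374, 23114),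 (24375, 25556), (24376, 23112), (24377, 25555), (24378, 24537), (24379, 24544), (24380, 25217), (24381, 25560), (24382, 23120), (24383, 23123)]
    ⟨e3 q24320 L772564 q25496, e3 q24321 (flp_e L768238) q24952, e3 q24322 (flp_e L768246) q24953, e3 q24323 L760931 q23076, e3 q24324 L772593 q25501, e3 q24325 L772609 q25503, e3 q24326 (flp_e L760951) q23067, e3 q24327 (flp_e L768276) q24956, e3 q24328 (flp_e L763268) q24528, e3 q24329 (flp_e L763336) q24533, e3 q24330 (flp_e L770429) q25187, e3 q24331 (flp_e L772092) q25416, e3 q24332 L760987 q23079, e3 q24333 L772639 q25508, e3 q24334 (flp_e L761004) q23074, e3 q24335 L772648 q25509, e3 q24336 (flp_e L761022) q23077, e3 q24337 L772663 q25511, e3 q24338 (flp_e L769395) q25072, e3 q24339 L772678 q25514, e3 q24340 L772687 q25516, e3 q24341 (flp_e L761049) q23083, e3 q24342 (flp_e L772127) q25422, e3 q24343 L772703 q25519, e3 q24344 L761068 q23107, e3 q24345 L761076 q23101, e3 q24346 L772743 q25523, e3 q24347 (flp_e L761090) q23088, e3 q24348 L772767 q25526, e3 q24349 (flp_e L761102)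 q23089, e3 q24350 (flp_e L772759) q25524, e3 q24351 L761124 q23124, e3 q24352 (flp_e L763380) q24536, e3 q24353 (flp_e L770490) q25193, e3 q24354 (flp_e L770583) q25203, e3 q24355 (flp_e L772193) q25432, e3 q24356 (flp_e L764629) q24633, e3 q24357 (flp_e L764601) q24630, e3 q24358 L772821 q25535, e3 q24359 L772835 q25537, e3 q24360 (flp_e L761168) q23100, e3 q24361 (flp_e L772727) q25521, e3 q24362 L761180 q23147, e3 q24363 L772855 q25541, e3 q24364 L772869 q25543, e3 q24365 L772881 q25545, e3 q24366 (flp_e L761204) q23105, e3 q24367 (flp_e L772471) q25481, e3 q24368 (flp_e L772717) q25520, e3 q24369 L772901 q25549, e3 q24370 L772913 q25551, e3 q24371 (flp_e L761228) q23109, e3 q24372 L772929 q25554, e3 q24373 (flp_e L761240) q23110, e3 q24374 L761248 q23114, e3 q24375 L772939 q25556, e3 q24376 (flp_e L761254) q23112, e3 q24377 (flp_e L772937) q25555, e3 q24378 (flp_e L763388) q24537, e3 q24379 (flp_e L763486) q24544, e3 q24380 (flp_e L770691) q25217, e3 q24381 L772955 q25560, e3 q24382 (flp_e L761282) q23120, e3 q24383 L761300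 q23123, trivial⟩ (by decide +kernel)

theorem ce_e_381 : ∀ r, r < 64 → sm ge (Qf (24384 + r)) = Qf (tab Gen.e (24384 + r)) :=
  edges_tab (sm ge) Qf (tab Gen.e) 24384 [(24384, 25561), (24385, 23125), (24386, 23126), (24387, 23128), (24388, 24904), (24389, 23136), (24390, 25562), (24391, 23138), (24392, 23139), (24393, 25563), (24394, 23142), (24395, 25564), (24396, 23145), (24397, 25565), (24398, 23148), (24399, 23149), (24400, 24400), (24401, 23154), (24402, 23163), (24403, 23184), (24404, 25569), (24405, 23171), (24406, 23188), (24407, 23175), (24408, 23982), (24409, 25575), (24410, 23193), (24411, 23628), (24412, 25577), (24413, 23176), (24414, 23178), (24415, 23991), (24416, 24232), (24417, 24225), (24418, 25583), (24419, 25568), (24420, 25585), (24421, 23186), (24422, 25571), (24423, 23983), (24424, 23194), (24425, 25590), (24426, 25592), (24427, 23192), (24428, 25576), (24429, 23195), (24430, 25594), (24431, 23196), (24432, 23200), (24433, 23680), (24434, 24434), (24435, 23204), (24436, 23206), (24437, 25599), (24438,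 24438), (24439, 24439), (24440, 23210), (24441, 25604), (24442, 24442), (24443, 23343), (24444, 23214), (24445, 24445), (24446, 23217), (24447, 25610)]
    ⟨e3 q24384 (flp_e L772969) q25561, e3 q24385 (flp_e L761311) q23125, e3 q24386 (flp_e L761319) q23126, e3 q24387 (flp_e L761327) q23128, e3 q24388 (flp_e L767718) q24904, e3 q24389 (flp_e L761342) q23136, e3 q24390 L772973 q25562, e3 q24391 (flp_e L761358) q23138, e3 q24392 (flp_e L761365) q23139, e3 q24393 L772979 q25563, e3 q24394 (flp_e L761376) q23142, e3 q24395 L772984 q25564, e3 q24396 (flp_e L761384) q23145, e3 q24397 L772987 q25565, e3 q24398 (flp_e L761401) q23148, e3 q24399 (flp_e L761407) q23149, e3 q24400 L761417 q24400, e3 q24401 L761425 q23154, e3 q24402 L761435 q23163, e3 q24403 L761457 q23184, e3 q24404 L773031 q25569, e3 q24405 L761486 q23171, e3 q24406 L761508 q23188, e3 q24407 L761520 q23175, e3 q24408 L761542 q23982, e3 q24409 L773126 q25575, e3 q24410 L761562 q23193, e3 q24411 L761576 q23628, e3 q24412 L773152 q25577, e3 q24413 (flp_e L761606) q23176,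 e3 q24414 (flp_e L761620) q23178, e3 q24415 L761649 q23991, e3 q24416 L761657 q24232, e3 q24417 L761685 q24225, e3 q24418 L773254 q25583, e3 q24419 (flp_e L773019) q25568, e3 q24420 L773282 q25585, e3 q24421 (flp_e L761734) q23186, e3 q24422 (flp_e L773070) q25571, e3 q24423 L761763 q23983, e3 q24424 L761785 q23194, e3 q24425 L773363 q25590, e3 q24426 L773393 q25592, e3 q24427 (flp_e L761821) q23192, e3 q24428 (flp_e L773144) q25576, e3 q24429 (flp_e L761841) q23195, e3 q24430 L773411 q25594, e3 q24431 (flp_e L761875) q23196, e3 q24432 (flp_e L761889) q23200, e3 q24433 L761919 q23680, e3 q24434 L761931 q24434, e3 q24435 L761946 q23204, e3 q24436 L761964 q23206, e3 q24437 (flp_e L773496) q25599, e3 q24438 L761997 q24438, e3 q24439 L762014 q24439, e3 q24440 L762027 q23210, e3 q24441 L773564 q25604, e3 q24442 L762055 q24442, e3 q24443 L762072 q23343, e3 q24444 L762084 q23214, e3 q24445 L762104 q24445, e3 q24446 L762119 q23217, e3 q24447 L773652 q25610, trivial⟩ (by decide +kernel)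

theorem ce_e_382 : ∀ r, r < 64 → sm ge (Qf (24448 + r)) = Qf (tab Gen.e (24448 + r)) :=
  edges_tab (sm ge) Qf (tab Gen.e) 24448 [(24448, 23228), (24449, 23229), (24450, 23354), (24451, 24451), (24452, 24452), (24453, 25617), (24454, 23224), (24455, 25620), (24456, 23367), (24457, 23227), (24458, 25611), (24459, 25625), (24460, 23372), (24461, 25618), (24462, 25626), (24463, 23232), (24464, 23382), (24465, 23254), (24466, 25630), (24467, 23237), (24468, 23257), (24469, 25634), (24470, 23392), (24471, 23273), (24472, 23274), (24473, 25639), (24474, 23244), (24475, 24475), (24476, 24476), (24477, 23277), (24478, 25644), (24479, 25646), (24480, 25648), (24481, 23250), (24482, 23263), (24483, 25652), (24484, 23252), (24485, 23413), (24486, 25655), (24487, 24138), (24488, 23255), (24489, 25631), (24490, 25659), (24491, 25660), (24492, 23258), (24493, 25661), (24494, 23260), (24495, 25662), (24496, 25650), (24497, 23264), (24498, 25664), (24499, 23267), (24500, 23268), (24501, 23270), (24502, 24502), (24503, 23281), (24504, 25636),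 (24505, 25670), (24506, 23275), (24507, 25671), (24508, 23278), (24509, 24509), (24510, 25668), (24511, 23283)]
    ⟨e3 q24448 L762156 q23228, e3 q24449 L762172 q23229, e3 q24450 L762190 q23354, e3 q24451 L762202 q24451, e3 q24452 L762215 q24452, e3 q24453 L773748 q25617, e3 q24454 (flp_e L762232) q23224, e3 q24455 L773787 q25620, e3 q24456 L762261 q23367, e3 q24457 (flp_e L762267) q23227, e3 q24458 (flp_e L773675) q25611, e3 q24459 L773855 q25625, e3 q24460 L762315 q23372, e3 q24461 (flp_e L773771) q25618, e3 q24462 L773868 q25626, e3 q24463 (flp_e L762357) q23232, e3 q24464 L762382 q23382, e3 q24465 L762394 q23254, e3 q24466 L773925 q25630, e3 q24467 (flp_e L762414) q23237, e3 q24468 L762434 q23257, e3 q24469 L773975 q25634, e3 q24470 L762456 q23392, e3 q24471 L762470 q23273, e3 q24472 L762486 q23274, e3 q24473 L774043 q25639, e3 q24474 (flp_e L762508) q23244, e3 q24475 L762536 q24475, e3 q24476 L762551 q24476, e3 q24477 L762564 q23277, e3 q24478 L774112 q25644, e3 q24479 L774136 q25646, e3 q24480 L774154 q25648, e3 q24481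 (flp_e L762602) q23250, e3 q24482 L762620 q23263, e3 q24483 L774198 q25652, e3 q24484 (flp_e L762630) q23252, e3 q24485 L762644 q23413, e3 q24486 L774233 q25655, e3 q24487 (flp_e L762677) q24138, e3 q24488 (flp_e L762679) q23255, e3 q24489 (flp_e L773951) q25631, e3 q24490 L774285 q25659, e3 q24491 L774297 q25660, e3 q24492 (flp_e L762732) q23258, e3 q24493 L774311 q25661, e3 q24494 (flp_e L762759) q23260, e3 q24495 (flp_e L774337) q25662, e3 q24496 (flp_e L774180) q25650, e3 q24497 (flp_e L762803) q23264, e3 q24498 L774349 q25664, e3 q24499 (flp_e L762828) q23267, e3 q24500 (flp_e L762841) q23268, e3 q24501 (flp_e L762856) q23270, e3 q24502 L762882 q24502, e3 q24503 L762896 q23281, e3 q24504 (flp_e L774005) q25636, e3 q24505 L774442 q25670, e3 q24506 (flp_e L762928) q23275, e3 q24507 L774458 q25671, e3 q24508 (flp_e L762959) q23278, e3 q24509 L762984 q24509, e3 q24510 (flp_e L774419) q25668, e3 q24511 L763006 q23283, trivial⟩ (by decide +kernel)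

theorem ce_e_383 : ∀ r, r < 64 → sm ge (Qf (24512 + r)) = Qf (tab Gen.e (24512 + r)) :=
  edges_tab (sm ge) Qf (tab Gen.e) 24512 [(24512, 24090), (24513, 23286), (24514, 25675), (24515, 24515), (24516, 23289), (24517, 23291), (24518, 25680), (24519, 24133), (24520, 24520), (24521, 25684), (24522, 23295), (24523, 25686), (24524, 24134), (24525, 23299), (24526, 24526), (24527, 24071), (24528, 24328), (24529, 24529), (24530, 25693), (24531, 23306), (24532, 25695), (24533, 24329), (24534, 23309), (24535, 24535), (24536, 24352), (24537, 24378), (24538, 25701), (24539, 23313), (24540, 23319), (24541, 25704), (24542, 25706), (24543, 23317), (24544, 24379), (24545, 25708), (24546, 23320), (24547, 23323), (24548, 23326), (24549, 25709), (24550, 24550), (24551, 24551), (24552, 23330), (24553, 25714), (24554, 24554), (24555, 24555), (24556, 25598), (24557, 23335), (24558, 25718), (24559, 23337), (24560, 25722), (24561, 24561), (24562, 24562), (24563, 25726), (24564, 23341), (24565, 25729), (24566, 25606), (24567, 24567), (24568, 24568),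 (24569, 25607), (24570, 23348), (24571, 25735), (24572, 24572), (24573, 25738), (24574, 23351), (24575, 23370)]
    ⟨e3 q24512 L763028 q24090, e3 q24513 L763042 q23286, e3 q24514 (flp_e L774526) q25675, e3 q24515 L763075 q24515, e3 q24516 L763088 q23289, e3 q24517 L763104 q23291, e3 q24518 L774599 q25680, e3 q24519 L763137 q24133, e3 q24520 L763149 q24520, e3 q24521 L774654 q25684, e3 q24522 (flp_e L763170) q23295, e3 q24523 L774684 q25686, e3 q24524 L763205 q24134, e3 q24525 (flp_e L763209) q23299, e3 q24526 L763235 q24526, e3 q24527 L763254 q24071, e3 q24528 L763268 q24328, e3 q24529 L763278 q24529, e3 q24530 L774784 q25693, e3 q24531 (flp_e L763301) q23306, e3 q24532 L774814 q25695, e3 q24533 L763336 q24329, e3 q24534 (flp_e L763342) q23309, e3 q24535 L763365 q24535, e3 q24536 L763380 q24352, e3 q24537 L763388 q24378, e3 q24538 L774890 q25701, e3 q24539 (flp_e L763412) q23313, e3 q24540 L763436 q23319, e3 q24541 L774936 q25704, e3 q24542 L774962 q25706, e3 q24543 (flp_e L763472) q23317, e3 q24544 L763486 q24379, e3 q24545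 L774984 q25708, e3 q24546 (flp_e L763508) q23320, e3 q24547 (flp_e L763524) q23323, e3 q24548 L763551 q23326, e3 q24549 (flp_e L775010) q25709, e3 q24550 L763584 q24550, e3 q24551 L763601 q24551, e3 q24552 L763614 q23330, e3 q24553 L775078 q25714, e3 q24554 L763646 q24554, e3 q24555 L763659 q24555, e3 q24556 (flp_e L773484) q25598, e3 q24557 L763688 q23335, e3 q24558 (flp_e L775140) q25718, e3 q24559 L763717 q23337, e3 q24560 L775182 q25722, e3 q24561 L763739 q24561, e3 q24562 L763750 q24562, e3 q24563 L775221 q25726, e3 q24564 (flp_e L763765) q23341, e3 q24565 L775249 q25729, e3 q24566 (flp_e L773595) q25606, e3 q24567 L763804 q24567, e3 q24568 L763815 q24568, e3 q24569 (flp_e L773617) q25607, e3 q24570 L763842 q23348, e3 q24571 L775323 q25735, e3 q24572 L763871 q24572, e3 q24573 L775364 q25738, e3 q24574 (flp_e L763888) q23351, e3 q24575 L763905 q23370, trivial⟩ (by decide +kernel)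

theorem ce_e_384 : ∀ r, r < 64 → sm ge (Qf (24576 + r)) = Qf (tab Gen.e (24576 + r)) :=
  edges_tab (sm ge) Qf (tab Gen.e) 24576 [(24576, 25742), (24577, 25613), (24578, 24578), (24579, 25746), (24580, 23357), (24581, 23801), (24582, 24582), (24583, 25750), (24584, 24311), (24585, 25753), (24586, 23362), (24587, 23373), (24588, 23374), (24589, 25757), (24590, 25759), (24591, 23366), (24592, 25621), (24593, 25739), (24594, 25761), (24595, 25762), (24596, 23371), (24597, 25763), (24598, 23375), (24599, 23376), (24600, 24600), (24601, 24601), (24602, 25768), (24603, 25627), (24604, 23384), (24605, 25771), (24606, 25773), (24607, 23386), (24608, 25776), (24609, 23387), (24610, 23416), (24611, 23417), (24612, 25781), (24613, 25783), (24614, 23391), (24615, 25635), (24616, 23440), (24617, 25787), (24618, 23395), (24619, 23442), (24620, 25790), (24621, 24285), (24622, 25793), (24623, 23399), (24624, 23422), (24625, 25796), (24626, 25798), (24627, 23402), (24628, 23423), (24629, 23897), (24630, 24357), (24631, 25804), (24632, 23406),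 (24633, 24356), (24634, 23424), (24635, 25808), (24636, 25810), (24637, 23410), (24638, 25812), (24639, 23411)]
    ⟨e3 q24576 L775411 q25742, e3 q24577 (flp_e L773701) q25613, e3 q24578 L763939 q24578, e3 q24579 L775459 q25746, e3 q24580 (flp_e L763960) q23357, e3 q24581 L763981 q23801, e3 q24582 L763999 q24582, e3 q24583 L775513 q25750, e3 q24584 L764028 q24311, e3 q24585 L775544 q25753, e3 q24586 (flp_e L764038) q23362, e3 q24587 L764055 q23373, e3 q24588 L764067 q23374, e3 q24589 L775596 q25757, e3 q24590 L775620 q25759, e3 q24591 (flp_e L764097) q23366, e3 q24592 (flp_e L773803) q25621, e3 q24593 (flp_e L775385) q25739, e3 q24594 L775634 q25761, e3 q24595 L775649 q25762, e3 q24596 (flp_e L764159) q23371, e3 q24597 L775664 q25763, e3 q24598 (flp_e L764187) q23375, e3 q24599 (flp_e L764202) q23376, e3 q24600 L764225 q24600, e3 q24601 L764240 q24601, e3 q24602 L775728 q25768, e3 q24603 (flp_e L773887) q25627, e3 q24604 L764267 q23384, e3 q24605 L775763 q25771, e3 q24606 L775791 q25773, e3 q24607 (flp_e L764305) q23386,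 e3 q24608 L775829 q25776, e3 q24609 (flp_e L764325) q23387, e3 q24610 L764343 q23416, e3 q24611 L764353 q23417, e3 q24612 L775887 q25781, e3 q24613 L775911 q25783, e3 q24614 (flp_e L764383) q23391, e3 q24615 (flp_e L773991) q25635, e3 q24616 L764409 q23440, e3 q24617 L775955 q25787, e3 q24618 (flp_e L764431) q23395, e3 q24619 L764455 q23442, e3 q24620 L775997 q25790, e3 q24621 L764491 q24285, e3 q24622 L776035 q25793, e3 q24623 (flp_e L764501) q23399, e3 q24624 L764521 q23422, e3 q24625 L776069 q25796, e3 q24626 L776095 q25798, e3 q24627 (flp_e L764551) q23402, e3 q24628 L764571 q23423, e3 q24629 L764593 q23897, e3 q24630 L764601 q24357, e3 q24631 L776175 q25804, e3 q24632 (flp_e L764617) q23406, e3 q24633 L764629 q24356, e3 q24634 L764637 q23424, e3 q24635 L776211 q25808, e3 q24636 L776231 q25810, e3 q24637 (flp_e L764661) q23410, e3 q24638 L776243 q25812, e3 q24639 (flp_e L764675) q23411, trivial⟩ (by decide +kernel)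

theorem ce_e_385 : ∀ r, r < 64 → sm ge (Qf (24640 + r)) = Qf (tab Gen.e (24640 + r)) :=
  edges_tab (sm ge) Qf (tab Gen.e) 24640 [(24640, 25653), (24641, 25774), (24642, 25778), (24643, 25814), (24644, 23418), (24645, 25816), (24646, 23419), (24647, 23425), (24648, 23427), (24649, 24112), (24650, 23429), (24651, 24651), (24652, 23431), (24653, 23433), (24654, 23441), (24655, 23450), (24656, 23808), (24657, 25821), (24658, 23443), (24659, 23446), (24660, 23855), (24661, 24009), (24662, 23467), (24663, 23537), (24664, 23470), (24665, 23472), (24666, 25827), (24667, 23476), (24668, 23556), (24669, 25830), (24670, 23479), (24671, 23566), (24672, 25834), (24673, 23482), (24674, 25836), (24675, 23574), (24676, 23485), (24677, 24677), (24678, 24678), (24679, 23491), (24680, 25841), (24681, 24681), (24682, 23602), (24683, 23609), (24684, 23496), (24685, 25846), (24686, 24686), (24687, 25849), (24688, 23499), (24689, 23505), (24690, 25853), (24691, 23620), (24692, 25850), (24693, 25855), (24694, 25856), (24695, 23506), (24696, 23629),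 (24697, 23638), (24698, 25860), (24699, 23512), (24700, 25862), (24701, 25864), (24702, 23514), (24703, 23519)]
    ⟨e3 q24640 (flp_e L774212) q25653, e3 q24641 (flp_e L775815) q25774, e3 q24642 (flp_e L775857) q25778, e3 q24643 L776257 q25814, e3 q24644 (flp_e L764733) q23418, e3 q24645 L776288 q25816, e3 q24646 (flp_e L764763) q23419, e3 q24647 (flp_e L764775) q23425, e3 q24648 (flp_e L764785) q23427, e3 q24649 L764803 q24112, e3 q24650 (flp_e L764805) q23429, e3 q24651 L764835 q24651, e3 q24652 (flp_e L764836) q23431, e3 q24653 (flp_e L764853) q23433, e3 q24654 L764885 q23441, e3 q24655 L764898 q23450, e3 q24656 L764904 q23808, e3 q24657 L776351 q25821, e3 q24658 (flp_e L764925) q23443, e3 q24659 (flp_e L764937) q23446, e3 q24660 L764964 q23855, e3 q24661 L764976 q24009, e3 q24662 L764991 q23467, e3 q24663 L765013 q23537, e3 q24664 L765025 q23470, e3 q24665 L765043 q23472, e3 q24666 L776452 q25827, e3 q24667 L765078 q23476, e3 q24668 L765098 q23556, e3 q24669 L776497 q25830, e3 q24670 L765127 q23479, e3 q24671 L765145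 q23566, e3 q24672 L776560 q25834, e3 q24673 (flp_e L765161) q23482, e3 q24674 L776590 q25836, e3 q24675 L765195 q23574, e3 q24676 (flp_e L765201) q23485, e3 q24677 L765227 q24677, e3 q24678 L765244 q24678, e3 q24679 L765257 q23491, e3 q24680 L776656 q25841, e3 q24681 L765281 q24681, e3 q24682 L765298 q23602, e3 q24683 L765312 q23609, e3 q24684 L765322 q23496, e3 q24685 L776719 q25846, e3 q24686 L765353 q24686, e3 q24687 L776758 q25849, e3 q24688 (flp_e L765368) q23499, e3 q24689 L765385 q23505, e3 q24690 L776805 q25853, e3 q24691 L765403 q23620, e3 q24692 (flp_e L776779) q25850, e3 q24693 L776821 q25855, e3 q24694 L776838 q25856, e3 q24695 (flp_e L765460) q23506, e3 q24696 L765479 q23629, e3 q24697 L765485 q23638, e3 q24698 L776887 q25860, e3 q24699 (flp_e L765499) q23512, e3 q24700 L776917 q25862, e3 q24701 L776939 q25864, e3 q24702 (flp_e L765535) q23514, e3 q24703 L765553 q23519, trivial⟩ (by decide +kernel)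

theorem ce_e_386 : ∀ r, r < 64 → sm ge (Qf (24704 + r)) = Qf (tab Gen.e (24704 + r)) :=
  edges_tab (sm ge) Qf (tab Gen.e) 24704 [(24704, 25867), (24705, 25869), (24706, 23517), (24707, 23660), (24708, 23520), (24709, 23521), (24710, 23526), (24711, 24191), (24712, 25823), (24713, 24713), (24714, 23533), (24715, 24715), (24716, 25878), (24717, 23536), (24718, 25824), (24719, 23539), (24720, 24720), (24721, 24721), (24722, 23543), (24723, 25884), (24724, 24724), (24725, 24257), (24726, 23547), (24727, 25825), (24728, 23550), (24729, 25890), (24730, 24730), (24731, 23558), (24732, 25894), (24733, 23554), (24734, 25897), (24735, 25829), (24736, 25895), (24737, 25899), (24738, 23560), (24739, 25831), (24740, 25871), (24741, 23567), (24742, 25865), (24743, 25832), (24744, 25906), (24745, 25907), (24746, 23569), (24747, 25910), (24748, 25912), (24749, 23571), (24750, 23580), (24751, 25915), (24752, 23573), (24753, 25837), (24754, 25908), (24755, 25917), (24756, 23577), (24757, 25918), (24758, 23581), (24759, 24759), (24760, 23584),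 (24761, 23587), (24762, 24762), (24763, 24763), (24764, 23591), (24765, 25820), (24766, 24766), (24767, 25678)]
    ⟨e3 q24704 L776973 q25867, e3 q24705 L776995 q25869, e3 q24706 (flp_e L765575) q23517, e3 q24707 L765585 q23660, e3 q24708 (flp_e L765591) q23520, e3 q24709 (flp_e L765607) q23521, e3 q24710 (flp_e L765623) q23526, e3 q24711 L765649 q24191, e3 q24712 (flp_e L776400) q25823, e3 q24713 L765675 q24713, e3 q24714 L765690 q23533, e3 q24715 L765706 q24715, e3 q24716 L777104 q25878, e3 q24717 (flp_e L765723) q23536, e3 q24718 (flp_e L776408) q25824, e3 q24719 L765746 q23539, e3 q24720 L765764 q24720, e3 q24721 L765781 q24721, e3 q24722 L765796 q23543, e3 q24723 L777184 q25884, e3 q24724 L765826 q24724, e3 q24725 L765843 q24257, e3 q24726 L765855 q23547, e3 q24727 (flp_e L776434) q25825, e3 q24728 L765881 q23550, e3 q24729 L777263 q25890, e3 q24730 L765912 q24730, e3 q24731 L765927 q23558, e3 q24732 L777320 q25894, e3 q24733 (flp_e L765945) q23554, e3 q24734 L777355 q25897, e3 q24735 (flp_e L776489) q25829, e3 q24736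 (flp_e L777343) q25895, e3 q24737 L777369 q25899, e3 q24738 (flp_e L766004) q23560, e3 q24739 (flp_e L776528) q25831, e3 q24740 (flp_e L777023) q25871, e3 q24741 L766035 q23567, e3 q24742 (flp_e L776959) q25865, e3 q24743 (flp_e L776536) q25832, e3 q24744 L777442 q25906, e3 q24745 L777454 q25907, e3 q24746 (flp_e L766091) q23569, e3 q24747 L777498 q25910, e3 q24748 L777514 q25912, e3 q24749 (flp_e L766115) q23571, e3 q24750 L766133 q23580, e3 q24751 L777536 q25915, e3 q24752 (flp_e L766143) q23573, e3 q24753 (flp_e L776608) q25837, e3 q24754 (flp_e L777486) q25908, e3 q24755 L777552 q25917, e3 q24756 (flp_e L766192) q23577, e3 q24757 (flp_e L777582) q25918, e3 q24758 (flp_e L766218) q23581, e3 q24759 L766245 q24759, e3 q24760 (flp_e L766246) q23584, e3 q24761 L766274 q23587, e3 q24762 L766288 q24762, e3 q24763 L766305 q24763, e3 q24764 L766318 q23591, e3 q24765 (flp_e L776344) q25820, e3 q24766 L766342 q24766, e3 q24767 (flp_e L774581) q25678, trivial⟩ (by decide +kernel)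

theorem ce_e_387 : ∀ r, r < 64 → sm ge (Qf (24768 + r)) = Qf (tab Gen.e (24768 + r)) :=
  edges_tab (sm ge) Qf (tab Gen.e) 24768 [(24768, 23595), (24769, 25928), (24770, 24770), (24771, 24771), (24772, 24772), (24773, 25933), (24774, 23600), (24775, 25936), (24776, 25843), (24777, 24218), (24778, 24778), (24779, 24779), (24780, 25942), (24781, 23607), (24782, 25944), (24783, 25844), (24784, 24784), (24785, 25948), (24786, 23612), (24787, 24787), (24788, 25952), (24789, 25954), (24790, 25956), (24791, 23616), (24792, 23624), (24793, 25959), (24794, 25961), (24795, 23619), (24796, 25854), (24797, 23621), (24798, 25949), (24799, 23623), (24800, 23625), (24801, 23626), (24802, 25965), (24803, 25857), (24804, 24804), (24805, 24805), (24806, 23676), (24807, 25971), (24808, 25973), (24809, 25975), (24810, 23635), (24811, 25977), (24812, 23637), (24813, 25858), (24814, 23679), (24815, 25595), (24816, 24816), (24817, 23681), (24818, 25984), (24819, 25986), (24820, 25988), (24821, 23645), (24822, 23665), (24823, 24823), (24824, 25992),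 (24825, 25994), (24826, 25996), (24827, 23650), (24828, 25999), (24829, 26001), (24830, 23652), (24831, 26004)]
    ⟨e3 q24768 L766367 q23595, e3 q24769 L777693 q25928, e3 q24770 L766393 q24770, e3 q24771 L766404 q24771, e3 q24772 L766411 q24772, e3 q24773 L777741 q25933, e3 q24774 (flp_e L766424) q23600, e3 q24775 L777765 q25936, e3 q24776 (flp_e L776685) q25843, e3 q24777 L766461 q24218, e3 q24778 L766475 q24778, e3 q24779 L766488 q24779, e3 q24780 L777837 q25942, e3 q24781 (flp_e L766503) q23607, e3 q24782 L777855 q25944, e3 q24783 (flp_e L776695) q25844, e3 q24784 L766536 q24784, e3 q24785 L777899 q25948, e3 q24786 (flp_e L766557) q23612, e3 q24787 L766574 q24787, e3 q24788 L777944 q25952, e3 q24789 L777959 q25954, e3 q24790 L777979 q25956, e3 q24791 (flp_e L766601) q23616, e3 q24792 L766614 q23624, e3 q24793 L778003 q25959, e3 q24794 L778025 q25961, e3 q24795 (flp_e L766634) q23619, e3 q24796 (flp_e L776815) q25854, e3 q24797 (flp_e L766646) q23621, e3 q24798 (flp_e L777926) q25949, e3 q24799 (flp_e L766672) q23623,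 e3 q24800 (flp_e L766684) q23625, e3 q24801 (flp_e L766695) q23626, e3 q24802 L778049 q25965, e3 q24803 (flp_e L776857) q25857, e3 q24804 L766728 q24804, e3 q24805 L766741 q24805, e3 q24806 L766754 q23676, e3 q24807 L778118 q25971, e3 q24808 L778136 q25973, e3 q24809 L778152 q25975, e3 q24810 (flp_e L766784) q23635, e3 q24811 L778168 q25977, e3 q24812 (flp_e L766800) q23637, e3 q24813 (flp_e L776873) q25858, e3 q24814 L766824 q23679, e3 q24815 (flp_e L773439) q25595, e3 q24816 L766852 q24816, e3 q24817 L766863 q23681, e3 q24818 L778242 q25984, e3 q24819 L778266 q25986, e3 q24820 L778288 q25988, e3 q24821 (flp_e L766901) q23645, e3 q24822 L766921 q23665, e3 q24823 L766929 q24823, e3 q24824 L778322 q25992, e3 q24825 L778335 q25994, e3 q24826 L778351 q25996, e3 q24827 (flp_e L766954) q23650, e3 q24828 L778373 q25999, e3 q24829 L778391 q26001, e3 q24830 (flp_e L766974) q23652, e3 q24831 L778407 q26004, trivial⟩ (by decide +kernel)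

theorem ce_e_388 : ∀ r, r < 64 → sm ge (Qf (24832 + r)) = Qf (tab Gen.e (24832 + r)) :=
  edges_tab (sm ge) Qf (tab Gen.e) 24832 [(24832, 23653), (24833, 26002), (24834, 23670), (24835, 24230), (24836, 26009), (24837, 23657), (24838, 26011), (24839, 23658), (24840, 25870), (24841, 23661), (24842, 23663), (24843, 26013), (24844, 23666), (24845, 23667), (24846, 23669), (24847, 26014), (24848, 24848), (24849, 24849), (24850, 24850), (24851, 26020), (24852, 23677), (24853, 25596), (24854, 26021), (24855, 23682), (24856, 26022), (24857, 23684), (24858, 23685), (24859, 24859), (24860, 24860), (24861, 23740), (24862, 26028), (24863, 23691), (24864, 23744), (24865, 23767), (24866, 23775), (24867, 26033), (24868, 23696), (24869, 23787), (24870, 24870), (24871, 23811), (24872, 26038), (24873, 23702), (24874, 26041), (24875, 23827), (24876, 24876), (24877, 23831), (24878, 26046), (24879, 23839), (24880, 26049), (24881, 23709), (24882, 23853), (24883, 23711), (24884, 24261), (24885, 26053), (24886, 23877), (24887, 24277), (24888, 26057),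 (24889, 23717), (24890, 23896), (24891, 24244), (24892, 24276), (24893, 24091), (24894, 24278), (24895, 26064)]
    ⟨e3 q24832 (flp_e L766984) q23653, e3 q24833 (flp_e L778399) q26002, e3 q24834 L766998 q23670, e3 q24835 L767010 q24230, e3 q24836 L778443 q26009, e3 q24837 (flp_e L767022) q23657, e3 q24838 L778461 q26011, e3 q24839 (flp_e L767040) q23658, e3 q24840 (flp_e L777005) q25870, e3 q24841 (flp_e L767052) q23661, e3 q24842 (flp_e L767059) q23663, e3 q24843 (flp_e L778484) q26013, e3 q24844 (flp_e L767089) q23666, e3 q24845 (flp_e L767100) q23667, e3 q24846 L767108 q23669, e3 q24847 (flp_e L778490) q26014, e3 q24848 L767125 q24848, e3 q24849 L767137 q24849, e3 q24850 L767142 q24850, e3 q24851 L778544 q26020, e3 q24852 (flp_e L767157) q23677, e3 q24853 (flp_e L773449) q25596, e3 q24854 L778557 q26021, e3 q24855 (flp_e L767194) q23682, e3 q24856 L778570 q26022, e3 q24857 (flp_e L767220) q23684, e3 q24858 (flp_e L767227) q23685, e3 q24859 L767243 q24859, e3 q24860 L767257 q24860, e3 q24861 L767268 q23740, e3 q24862 L778638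 q26028, e3 q24863 (flp_e L767284) q23691, e3 q24864 L767303 q23744, e3 q24865 L767319 q23767, e3 q24866 L767325 q23775, e3 q24867 L778696 q26033, e3 q24868 (flp_e L767343) q23696, e3 q24869 L767357 q23787, e3 q24870 L767369 q24870, e3 q24871 L767380 q23811, e3 q24872 L778748 q26038, e3 q24873 (flp_e L767392) q23702, e3 q24874 L778777 q26041, e3 q24875 L767414 q23827, e3 q24876 L767428 q24876, e3 q24877 L767445 q23831, e3 q24878 L778834 q26046, e3 q24879 L767461 q23839, e3 q24880 L778864 q26049, e3 q24881 (flp_e L767479) q23709, e3 q24882 L767493 q23853, e3 q24883 (flp_e L767499) q23711, e3 q24884 L767524 q24261, e3 q24885 L778912 q26053, e3 q24886 L767540 q23877, e3 q24887 L767550 q24277, e3 q24888 L778955 q26057, e3 q24889 (flp_e L767570) q23717, e3 q24890 L767580 q23896, e3 q24891 L767588 q24244, e3 q24892 L767604 q24276, e3 q24893 L767620 q24091, e3 q24894 L767636 q24278, e3 q24895 L779041 q26064, trivial⟩ (by decide +kernel)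

theorem ce_e_389 : ∀ r, r < 64 → sm ge (Qf (24896 + r)) = Qf (tab Gen.e (24896 + r)) :=
  edges_tab (sm ge) Qf (tab Gen.e) 24896 [(24896, 26066), (24897, 23724), (24898, 26068), (24899, 23725), (24900, 23925), (24901, 23729), (24902, 24087), (24903, 24903), (24904, 24388), (24905, 24252), (24906, 24263), (24907, 25880), (24908, 26076), (24909, 23739), (24910, 26026), (24911, 26079), (24912, 26081), (24913, 23742), (24914, 26029), (24915, 24915), (24916, 24254), (24917, 24917), (24918, 26087), (24919, 23749), (24920, 26090), (24921, 24265), (24922, 24922), (24923, 24247), (24924, 23759), (24925, 26096), (24926, 24256), (24927, 26099), (24928, 23757), (24929, 24268), (24930, 26102), (24931, 26103), (24932, 23760), (24933, 23762), (24934, 24934), (24935, 24304), (24936, 26108), (24937, 26030), (24938, 24938), (24939, 24308), (24940, 23788), (24941, 26114), (24942, 24309), (24943, 26117), (24944, 26119), (24945, 23774), (24946, 26031), (24947, 23802), (24948, 24314), (24949, 24316), (24950, 24950), (24951, 26126), (24952, 24321),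 (24953, 24322), (24954, 26130), (24955, 23783), (24956, 24327), (24957, 26133), (24958, 23785), (24959, 26034)]
    ⟨e3 q24896 L779061 q26066, e3 q24897 (flp_e L767660) q23724, e3 q24898 L779071 q26068, e3 q24899 (flp_e L767672) q23725, e3 q24900 L767680 q23925, e3 q24901 (flp_e L767684) q23729, e3 q24902 L767702 q24087, e3 q24903 L767713 q24903, e3 q24904 L767718 q24388, e3 q24905 L767734 q24252, e3 q24906 L767740 q24263, e3 q24907 (flp_e L777134) q25880, e3 q24908 L779154 q26076, e3 q24909 (flp_e L767764) q23739, e3 q24910 (flp_e L778618) q26026, e3 q24911 L779180 q26079, e3 q24912 L779197 q26081, e3 q24913 (flp_e L767793) q23742, e3 q24914 (flp_e L778656) q26029, e3 q24915 L767813 q24915, e3 q24916 L767828 q24254, e3 q24917 L767840 q24917, e3 q24918 L779259 q26087, e3 q24919 (flp_e L767857) q23749, e3 q24920 L779294 q26090, e3 q24921 L767883 q24265, e3 q24922 L767897 q24922, e3 q24923 L767916 q24247, e3 q24924 L767926 q23759, e3 q24925 L779361 q26096, e3 q24926 L767946 q24256, e3 q24927 L779391 q26099, e3 q24928 (flp_e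 L767964) q23757, e3 q24929 L767978 q24268, e3 q24930 L779425 q26102, e3 q24931 L779434 q26103, e3 q24932 (flp_e L768007) q23760, e3 q24933 (flp_e L768018) q23762, e3 q24934 L768037 q24934, e3 q24935 L768056 q24304, e3 q24936 L779493 q26108, e3 q24937 (flp_e L778668) q26030, e3 q24938 L768080 q24938, e3 q24939 L768097 q24308, e3 q24940 L768109 q23788, e3 q24941 L779554 q26114, e3 q24942 L768131 q24309, e3 q24943 L779586 q26117, e3 q24944 L779600 q26119, e3 q24945 (flp_e L768153) q23774, e3 q24946 (flp_e L778682) q26031, e3 q24947 L768171 q23802, e3 q24948 L768191 q24314, e3 q24949 L768197 q24316, e3 q24950 L768211 q24950, e3 q24951 L779674 q26126, e3 q24952 L768238 q24321, e3 q24953 L768246 q24322, e3 q24954 L779713 q26130, e3 q24955 (flp_e L768262) q23783, e3 q24956 L768276 q24327, e3 q24957 L779741 q26133, e3 q24958 (flp_e L768286) q23785, e3 q24959 (flp_e L778710) q26034, trivial⟩ (by decide +kernel)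

theorem ce_e_390 : ∀ r, r < 64 → sm ge (Qf (24960 + r)) = Qf (tab Gen.e (24960 + r)) :=
  edges_tab (sm ge) Qf (tab Gen.e) 24960 [(24960, 26136), (24961, 26137), (24962, 23789), (24963, 26138), (24964, 23791), (24965, 23792), (24966, 23794), (24967, 26141), (24968, 23797), (24969, 24969), (24970, 24970), (24971, 26071), (24972, 25673), (24973, 23805), (24974, 24974), (24975, 25819), (24976, 24976), (24977, 26151), (24978, 26036), (24979, 23813), (24980, 26155), (24981, 23861), (24982, 24982), (24983, 26159), (24984, 26160), (24985, 23817), (24986, 24137), (24987, 23937), (24988, 25817), (24989, 24989), (24990, 26167), (24991, 26169), (24992, 23823), (24993, 24993), (24994, 26173), (24995, 26175), (24996, 23826), (24997, 26042), (24998, 24279), (24999, 24999), (25000, 26180), (25001, 26044), (25002, 24282), (25003, 23854), (25004, 25799), (25005, 24283), (25006, 23856), (25007, 26188), (25008, 26190), (25009, 23838), (25010, 26047), (25011, 24286), (25012, 24287), (25013, 24061), (25014, 25777), (25015, 24288), (25016, 24289),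 (25017, 25818), (25018, 26200), (25019, 23847), (25020, 24290), (25021, 26203), (25022, 26205), (25023, 23850)]
    ⟨e3 q24960 L779763 q26136, e3 q24961 L779774 q26137, e3 q24962 (flp_e L768323) q23789, e3 q24963 L779787 q26138, e3 q24964 (flp_e L768345) q23791, e3 q24965 (flp_e L768353) q23792, e3 q24966 (flp_e L768365) q23794, e3 q24967 (flp_e L779822) q26141, e3 q24968 (flp_e L768380) q23797, e3 q24969 L768396 q24969, e3 q24970 L768403 q24970, e3 q24971 (flp_e L779105) q26071, e3 q24972 (flp_e L774498) q25673, e3 q24973 L768438 q23805, e3 q24974 L768454 q24974, e3 q24975 (flp_e L776334) q25819, e3 q24976 L768473 q24976, e3 q24977 L779918 q26151, e3 q24978 (flp_e L778732) q26036, e3 q24979 L768498 q23813, e3 q24980 L779956 q26155, e3 q24981 L768525 q23861, e3 q24982 L768539 q24982, e3 q24983 L779998 q26159, e3 q24984 L780006 q26160, e3 q24985 (flp_e L768557) q23817, e3 q24986 L768573 q24137, e3 q24987 L768589 q23937, e3 q24988 (flp_e L776314) q25817, e3 q24989 L768613 q24989, e3 q24990 L780075 q26167, e3 q24991 L780084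 q26169, e3 q24992 (flp_e L768630) q23823, e3 q24993 L768640 q24993, e3 q24994 L780113 q26173, e3 q24995 L780130 q26175, e3 q24996 (flp_e L768659) q23826, e3 q24997 (flp_e L778788) q26042, e3 q24998 L768680 q24279, e3 q24999 L768688 q24999, e3 q25000 L780176 q26180, e3 q25001 (flp_e L778812) q26044, e3 q25002 L768721 q24282, e3 q25003 L768733 q23854, e3 q25004 (flp_e L776121) q25799, e3 q25005 L768759 q24283, e3 q25006 L768775 q23856, e3 q25007 L780261 q26188, e3 q25008 L780277 q26190, e3 q25009 (flp_e L768797) q23838, e3 q25010 (flp_e L778850) q26047, e3 q25011 L768821 q24286, e3 q25012 L768827 q24287, e3 q25013 L768841 q24061, e3 q25014 (flp_e L775849) q25777, e3 q25015 L768869 q24288, e3 q25016 L768877 q24289, e3 q25017 (flp_e L776328) q25818, e3 q25018 L780381 q26200, e3 q25019 (flp_e L768907) q23847, e3 q25020 L768921 q24290, e3 q25021 L780413 q26203, e3 q25022 L780431 q26205, e3 q25023 (flp_e L768943) q23850, trivial⟩ (by decide +kernel)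

theorem ce_e_391 : ∀ r, r < 64 → sm ge (Qf (25024 + r)) = Qf (tab Gen.e (25024 + r)) :=
  edges_tab (sm ge) Qf (tab Gen.e) 25024 [(25024, 26207), (25025, 23851), (25026, 26050), (25027, 25822), (25028, 26210), (25029, 26212), (25030, 23857), (25031, 26214), (25032, 23858), (25033, 26216), (25034, 23863), (25035, 23864), (25036, 23866), (25037, 24132), (25038, 23886), (25039, 23881), (25040, 25040), (25041, 26224), (25042, 26226), (25043, 23873), (25044, 25044), (25045, 26229), (25046, 26231), (25047, 23876), (25048, 26054), (25049, 25800), (25050, 26235), (25051, 26221), (25052, 25052), (25053, 25053), (25054, 26240), (25055, 25747), (25056, 26220), (25057, 23927), (25058, 26245), (25059, 26247), (25060, 23889), (25061, 26249), (25062, 23890), (25063, 26251), (25064, 26253), (25065, 23893), (25066, 26256), (25067, 23894), (25068, 26058), (25069, 25801), (25070, 25070), (25071, 26261), (25072, 24338), (25073, 25764), (25074, 26265), (25075, 23902), (25076, 26267), (25077, 23903), (25078, 25078), (25079, 25079), (25080, 26271),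 (25081, 26273), (25082, 26275), (25083, 23909), (25084, 26278), (25085, 23910), (25086, 26280), (25087, 23911)]
    ⟨e3 q25024 L780445 q26207, e3 q25025 (flp_e L768957) q23851, e3 q25026 (flp_e L778880) q26050, e3 q25027 (flp_e L776376) q25822, e3 q25028 L780475 q26210, e3 q25029 L780500 q26212, e3 q25030 (flp_e L769008) q23857, e3 q25031 L780515 q26214, e3 q25032 (flp_e L769028) q23858, e3 q25033 L780538 q26216, e3 q25034 (flp_e L769052) q23863, e3 q25035 (flp_e L769061) q23864, e3 q25036 (flp_e L769074) q23866, e3 q25037 L769093 q24132, e3 q25038 L769105 q23886, e3 q25039 L769119 q23881, e3 q25040 L769129 q25040, e3 q25041 L780626 q26224, e3 q25042 L780639 q26226, e3 q25043 (flp_e L769150) q23873, e3 q25044 L769180 q25044, e3 q25045 L780677 q26229, e3 q25046 L780688 q26231, e3 q25047 (flp_e L769195) q23876, e3 q25048 (flp_e L778925) q26054, e3 q25049 (flp_e L776137) q25800, e3 q25050 L780720 q26235, e3 q25051 (flp_e L780596) q26221, e3 q25052 L769236 q25052, e3 q25053 L769249 q25053, e3 q25054 L780770 q26240, e3 q25055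 (flp_e L775487) q25747, e3 q25056 (flp_e L780586) q26220, e3 q25057 L769292 q23927, e3 q25058 L780811 q26245, e3 q25059 L780825 q26247, e3 q25060 (flp_e L769312) q23889, e3 q25061 L780837 q26249, e3 q25062 (flp_e L769324) q23890, e3 q25063 L780853 q26251, e3 q25064 L780867 q26253, e3 q25065 (flp_e L769346) q23893, e3 q25066 L780883 q26256, e3 q25067 (flp_e L769358) q23894, e3 q25068 (flp_e L778967) q26058, e3 q25069 (flp_e L776145) q25801, e3 q25070 L769380 q25070, e3 q25071 L780919 q26261, e3 q25072 L769395 q24338, e3 q25073 (flp_e L775691) q25764, e3 q25074 L780956 q26265, e3 q25075 (flp_e L769417) q23902, e3 q25076 L780966 q26267, e3 q25077 (flp_e L769429) q23903, e3 q25078 L769445 q25078, e3 q25079 L769452 q25079, e3 q25080 L781004 q26271, e3 q25081 L781017 q26273, e3 q25082 L781028 q26275, e3 q25083 (flp_e L769479) q23909, e3 q25084 L781051 q26278, e3 q25085 (flp_e L769490) q23910, e3 q25086 L781069 q26280, e3 q25087 (flp_e L769510) q23911, trivial⟩ (by decide +kernel)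

theorem ce_e_392 : ∀ r, r < 64 → sm ge (Qf (25088 + r)) = Qf (tab Gen.e (25088 + r)) :=
  edges_tab (sm ge) Qf (tab Gen.e) 25088 [(25088, 26276), (25089, 26284), (25090, 26286), (25091, 23914), (25092, 26289), (25093, 23915), (25094, 23919), (25095, 26292), (25096, 23917), (25097, 26291), (25098, 26295), (25099, 23920), (25100, 26297), (25101, 23921), (25102, 26299), (25103, 23923), (25104, 26290), (25105, 23926), (25106, 26302), (25107, 26303), (25108, 23928), (25109, 23929), (25110, 26306), (25111, 23931), (25112, 26308), (25113, 23932), (25114, 25114), (25115, 26310), (25116, 23934), (25117, 26305), (25118, 23939), (25119, 23950), (25120, 23948), (25121, 23943), (25122, 26218), (25123, 23946), (25124, 26217), (25125, 26314), (25126, 26313), (25127, 23951), (25128, 26321), (25129, 23953), (25130, 25130), (25131, 25131), (25132, 23956), (25133, 25133), (25134, 25134), (25135, 25135), (25136, 25136), (25137, 25137), (25138, 25138), (25139, 25139), (25140, 25140), (25141, 23964), (25142, 26024), (25143, 25143), (25144, 26334),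 (25145, 23970), (25146, 23971), (25147, 25147), (25148, 23980), (25149, 23993), (25150, 23992), (25151, 24178)]
    ⟨e3 q25088 (flp_e L781043) q26276, e3 q25089 L781105 q26284, e3 q25090 L781119 q26286, e3 q25091 (flp_e L769544) q23914, e3 q25092 L781137 q26289, e3 q25093 (flp_e L769556) q23915, e3 q25094 L769568 q23919, e3 q25095 L781163 q26292, e3 q25096 (flp_e L769576) q23917, e3 q25097 (flp_e L781161) q26291, e3 q25098 L781189 q26295, e3 q25099 (flp_e L769602) q23920, e3 q25100 L781205 q26297, e3 q25101 (flp_e L769618) q23921, e3 q25102 L781219 q26299, e3 q25103 (flp_e L769628) q23923, e3 q25104 (flp_e L781147) q26290, e3 q25105 (flp_e L769636) q23926, e3 q25106 L781231 q26302, e3 q25107 L781242 q26303, e3 q25108 (flp_e L769665) q23928, e3 q25109 (flp_e L769670) q23929, e3 q25110 L781271 q26306, e3 q25111 (flp_e L769692) q23931, e3 q25112 L781296 q26308, e3 q25113 (flp_e L769711) q23932, e3 q25114 L769723 q25114, e3 q25115 L781312 q26310, e3 q25116 (flp_e L769736) q23934, e3 q25117 (flp_e L781269) q26305, e3 q25118 (flp_e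 L769752) q23939, e3 q25119 L769762 q23950, e3 q25120 L769770 q23948, e3 q25121 (flp_e L769772) q23943, e3 q25122 (flp_e L780573) q26218, e3 q25123 (flp_e L769792) q23946, e3 q25124 (flp_e L780561) q26217, e3 q25125 (flp_e L781355) q26314, e3 q25126 (flp_e L781351) q26313, e3 q25127 (flp_e L769827) q23951, e3 q25128 L781404 q26321, e3 q25129 (flp_e L769851) q23953, e3 q25130 L769867 q25130, e3 q25131 L769873 q25131, e3 q25132 (flp_e L769876) q23956, e3 q25133 L769898 q25133, e3 q25134 L769901 q25134, e3 q25135 L769919 q25135, e3 q25136 L769924 q25136, e3 q25137 L769940 q25137, e3 q25138 L769943 q25138, e3 q25139 L769953 q25139, e3 q25140 L769958 q25140, e3 q25141 (flp_e L769960) q23964, e3 q25142 (flp_e L778597) q26024, e3 q25143 L769996 q25143, e3 q25144 L781543 q26334, e3 q25145 (flp_e L770010) q23970, e3 q25146 (flp_e L770023) q23971, e3 q25147 L770037 q25147, e3 q25148 L770042 q23980, e3 q25149 L770054 q23993, e3 q25150 L770066 q23992, e3 q25151 L770080 q24178, trivial⟩ (by decide +kernel)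

theorem ce_e_393 : ∀ r, r < 64 → sm ge (Qf (25152 + r)) = Qf (tab Gen.e (25152 + r)) :=
  edges_tab (sm ge) Qf (tab Gen.e) 25152 [(25152, 24233), (25153, 26336), (25154, 23990), (25155, 25573), (25156, 25587), (25157, 26346), (25158, 24209), (25159, 26349), (25160, 24097), (25161, 26352), (25162, 26354), (25163, 23989), (25164, 26342), (25165, 25579), (25166, 26338), (25167, 26337), (25168, 23994), (25169, 23995), (25170, 26359), (25171, 23998), (25172, 24067), (25173, 24079), (25174, 24092), (25175, 24110), (25176, 25794), (25177, 26366), (25178, 24004), (25179, 26368), (25180, 24006), (25181, 24136), (25182, 24109), (25183, 24135), (25184, 26372), (25185, 26374), (25186, 24013), (25187, 24330), (25188, 24017), (25189, 26377), (25190, 26379), (25191, 24019), (25192, 26382), (25193, 24353), (25194, 26385), (25195, 24023), (25196, 25196), (25197, 26389), (25198, 26391), (25199, 26393), (25200, 24027), (25201, 24044), (25202, 24258), (25203, 24354), (25204, 26399), (25205, 26401), (25206, 24032), (25207, 24045), (25208, 26404),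 (25209, 26406), (25210, 24035), (25211, 26409), (25212, 24036), (25213, 26411), (25214, 24037), (25215, 26104)]
    ⟨e3 q25152 L770092 q24233, e3 q25153 (flp_e L781570) q26336, e3 q25154 L770110 q23990, e3 q25155 (flp_e L773104) q25573, e3 q25156 (flp_e L773317) q25587, e3 q25157 L781688 q26346, e3 q25158 L770154 q24209, e3 q25159 L781728 q26349, e3 q25160 L770180 q24097, e3 q25161 L781769 q26352, e3 q25162 L781791 q26354, e3 q25163 (flp_e L770210) q23989, e3 q25164 (flp_e L781644) q26342, e3 q25165 (flp_e L773190) q25579, e3 q25166 (flp_e L781596) q26338, e3 q25167 (flp_e L781586) q26337, e3 q25168 (flp_e L770248) q23994, e3 q25169 (flp_e L770257) q23995, e3 q25170 L781837 q26359, e3 q25171 (flp_e L770276) q23998, e3 q25172 L770291 q24067, e3 q25173 L770305 q24079, e3 q25174 L770317 q24092, e3 q25175 L770327 q24110, e3 q25176 (flp_e L776051) q25794, e3 q25177 L781919 q26366, e3 q25178 (flp_e L770353) q24004, e3 q25179 L781931 q26368, e3 q25180 (flp_e L770365) q24006, e3 q25181 L770377 q24136, e3 q25182 L770387 q24109, e3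 q25183 L770399 q24135, e3 q25184 L781967 q26372, e3 q25185 L781980 q26374, e3 q25186 (flp_e L770419) q24013, e3 q25187 L770429 q24330, e3 q25188 L770439 q24017, e3 q25189 L782010 q26377, e3 q25190 L782034 q26379, e3 q25191 (flp_e L770468) q24019, e3 q25192 L782063 q26382, e3 q25193 L770490 q24353, e3 q25194 L782080 q26385, e3 q25195 (flp_e L770500) q24023, e3 q25196 L770514 q25196, e3 q25197 L782124 q26389, e3 q25198 L782148 q26391, e3 q25199 L782164 q26393, e3 q25200 (flp_e L770547) q24027, e3 q25201 L770565 q24044, e3 q25202 L770571 q24258, e3 q25203 L770583 q24354, e3 q25204 L782220 q26399, e3 q25205 L782236 q26401, e3 q25206 (flp_e L770599) q24032, e3 q25207 L770615 q24045, e3 q25208 L782262 q26404, e3 q25209 L782279 q26406, e3 q25210 (flp_e L770639) q24035, e3 q25211 L782303 q26409, e3 q25212 (flp_e L770657) q24036, e3 q25213 L782317 q26411, e3 q25214 (flp_e L770667) q24037, e3 q25215 (flp_e L779455) q26104, trivial⟩ (by decide +kernel)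

theorem ce_e_394 : ∀ r, r < 64 → sm ge (Qf (25216 + r)) = Qf (tab Gen.e (25216 + r)) :=
  edges_tab (sm ge) Qf (tab Gen.e) 25216 [(25216, 24269), (25217, 24380), (25218, 26386), (25219, 24043), (25220, 26395), (25221, 24047), (25222, 25222), (25223, 24059), (25224, 24050), (25225, 25225), (25226, 24060), (25227, 26416), (25228, 24053), (25229, 24054), (25230, 25230), (25231, 25231), (25232, 26419), (25233, 26420), (25234, 24063), (25235, 26422), (25236, 26424), (25237, 24065), (25238, 26360), (25239, 25239), (25240, 26428), (25241, 24070), (25242, 25689), (25243, 25243), (25244, 26433), (25245, 24074), (25246, 25246), (25247, 26436), (25248, 26438), (25249, 24077), (25250, 26361), (25251, 26441), (25252, 25806), (25253, 26444), (25254, 24082), (25255, 26070), (25256, 26447), (25257, 26449), (25258, 24086), (25259, 26069), (25260, 26452), (25261, 24088), (25262, 25674), (25263, 26061), (25264, 26362), (25265, 26456), (25266, 26458), (25267, 24094), (25268, 25268), (25269, 26461), (25270, 24096), (25271, 26350), (25272, 26464),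 (25273, 26466), (25274, 24099), (25275, 25275), (25276, 26469), (25277, 26471), (25278, 26473), (25279, 24104)]
    ⟨e3 q25216 L770683 q24269, e3 q25217 L770691 q24380, e3 q25218 (flp_e L782100) q26386, e3 q25219 (flp_e L770707) q24043, e3 q25220 (flp_e L782188) q26395, e3 q25221 (flp_e L770727) q24047, e3 q25222 L770751 q25222, e3 q25223 L770763 q24059, e3 q25224 (flp_e L770765) q24050, e3 q25225 L770788 q25225, e3 q25226 L770795 q24060, e3 q25227 L782364 q26416, e3 q25228 (flp_e L770805) q24053, e3 q25229 (flp_e L770813) q24054, e3 q25230 L770827 q25230, e3 q25231 L770836 q25231, e3 q25232 L782391 q26419, e3 q25233 L782403 q26420, e3 q25234 (flp_e L770858) q24063, e3 q25235 L782424 q26422, e3 q25236 L782441 q26424, e3 q25237 (flp_e L770887) q24065, e3 q25238 (flp_e L781849) q26360, e3 q25239 L770911 q25239, e3 q25240 L782475 q26428, e3 q25241 (flp_e L770920) q24070, e3 q25242 (flp_e L774730) q25689, e3 q25243 L770941 q25243, e3 q25244 L782521 q26433, e3 q25245 (flp_e L770956) q24074, e3 q25246 L770971 q25246, e3 q25247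 L782551 q26436, e3 q25248 L782568 q26438, e3 q25249 (flp_e L770996) q24077, e3 q25250 (flp_e L781863) q26361, e3 q25251 L782592 q26441, e3 q25252 (flp_e L776197) q25806, e3 q25253 L782621 q26444, e3 q25254 (flp_e L771042) q24082, e3 q25255 (flp_e L779091) q26070, e3 q25256 L782643 q26447, e3 q25257 L782654 q26449, e3 q25258 (flp_e L771068) q24086, e3 q25259 (flp_e L779087) q26069, e3 q25260 L782676 q26452, e3 q25261 (flp_e L771089) q24088, e3 q25262 (flp_e L774506) q25674, e3 q25263 (flp_e L779007) q26061, e3 q25264 (flp_e L781879) q26362, e3 q25265 L782710 q26456, e3 q25266 L782719 q26458, e3 q25267 (flp_e L771133) q24094, e3 q25268 L771145 q25268, e3 q25269 L782737 q26461, e3 q25270 (flp_e L771150) q24096, e3 q25271 (flp_e L781747) q26350, e3 q25272 L782757 q26464, e3 q25273 L782775 q26466, e3 q25274 (flp_e L771177) q24099, e3 q25275 L771189 q25275, e3 q25276 L782803 q26469, e3 q25277 L782816 q26471, e3 q25278 L782830 q26473, e3 q25279 (flp_e L771216) q24104, trivial⟩ (by decide +kernel)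

theorem ce_e_395 : ∀ r, r < 64 → sm ge (Qf (25280 + r)) = Qf (tab Gen.e (25280 + r)) :=
  edges_tab (sm ge) Qf (tab Gen.e) 25280 [(25280, 26476), (25281, 24105), (25282, 26478), (25283, 24106), (25284, 26215), (25285, 24141), (25286, 26369), (25287, 26363), (25288, 26483), (25289, 25813), (25290, 26486), (25291, 26488), (25292, 26490), (25293, 24115), (25294, 25754), (25295, 26493), (25296, 24117), (25297, 26495), (25298, 24118), (25299, 26497), (25300, 26499), (25301, 26501), (25302, 24122), (25303, 26503), (25304, 24123), (25305, 26506), (25306, 24124), (25307, 26219), (25308, 26509), (25309, 26511), (25310, 24127), (25311, 26513), (25312, 24128), (25313, 26514), (25314, 24130), (25315, 26208), (25316, 25681), (25317, 25687), (25318, 26370), (25319, 26518), (25320, 24139), (25321, 24142), (25322, 24144), (25323, 24147), (25324, 25324), (25325, 25325), (25326, 24151), (25327, 25327), (25328, 24190), (25329, 24192), (25330, 26524), (25331, 24157), (25332, 24160), (25333, 24196), (25334, 25334), (25335, 26529), (25336, 26531),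 (25337, 24165), (25338, 24168), (25339, 24204), (25340, 24214), (25341, 25341), (25342, 26537), (25343, 26539)]
    ⟨e3 q25280 L782856 q26476, e3 q25281 (flp_e L771234) q24105, e3 q25282 L782870 q26478, e3 q25283 (flp_e L771248) q24106, e3 q25284 (flp_e L780536) q26215, e3 q25285 L771262 q24141, e3 q25286 (flp_e L781939) q26369, e3 q25287 (flp_e L781891) q26363, e3 q25288 L782910 q26483, e3 q25289 (flp_e L776255) q25813, e3 q25290 L782932 q26486, e3 q25291 L782943 q26488, e3 q25292 L782957 q26490, e3 q25293 (flp_e L771320) q24115, e3 q25294 (flp_e L775562) q25754, e3 q25295 L782983 q26493, e3 q25296 (flp_e L771346) q24117, e3 q25297 L782993 q26495, e3 q25298 (flp_e L771358) q24118, e3 q25299 L783011 q26497, e3 q25300 L783026 q26499, e3 q25301 L783037 q26501, e3 q25302 (flp_e L771384) q24122, e3 q25303 L783047 q26503, e3 q25304 (flp_e L771393) q24123, e3 q25305 L783063 q26506, e3 q25306 (flp_e L771403) q24124, e3 q25307 (flp_e L780577) q26219, e3 q25308 L783081 q26509, e3 q25309 L783093 q26511, e3 q25310 (flp_e L771425) q24127,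 e3 q25311 L783105 q26513, e3 q25312 (flp_e L771437) q24128, e3 q25313 L783109 q26514, e3 q25314 (flp_e L771445) q24130, e3 q25315 (flp_e L780459) q26208, e3 q25316 (flp_e L774618) q25681, e3 q25317 (flp_e L774704) q25687, e3 q25318 (flp_e L781955) q26370, e3 q25319 L783129 q26518, e3 q25320 (flp_e L771482) q24139, e3 q25321 (flp_e L771491) q24142, e3 q25322 (flp_e L771502) q24144, e3 q25323 (flp_e L771507) q24147, e3 q25324 L771520 q25324, e3 q25325 L771525 q25325, e3 q25326 (flp_e L771527) q24151, e3 q25327 L771539 q25327, e3 q25328 L771544 q24190, e3 q25329 L771558 q24192, e3 q25330 L783185 q26524, e3 q25331 (flp_e L771574) q24157, e3 q25332 L771588 q24160, e3 q25333 L771592 q24196, e3 q25334 L771598 q25334, e3 q25335 L783219 q26529, e3 q25336 L783230 q26531, e3 q25337 (flp_e L771613) q24165, e3 q25338 L771626 q24168, e3 q25339 L771630 q24204, e3 q25340 L771636 q24214, e3 q25341 L771646 q25341, e3 q25342 L783274 q26537, e3 q25343 L783287 q26539, trivial⟩ (by decide +kernel)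

theorem ce_e_396 : ∀ r, r < 64 → sm ge (Qf (25344 + r)) = Qf (tab Gen.e (25344 + r)) :=
  edges_tab (sm ge) Qf (tab Gen.e) 25344 [(25344, 26541), (25345, 24173), (25346, 26544), (25347, 24174), (25348, 26547), (25349, 24175), (25350, 26545), (25351, 24182), (25352, 26339), (25353, 24234), (25354, 24181), (25355, 24183), (25356, 25356), (25357, 26553), (25358, 26555), (25359, 24188), (25360, 26521), (25361, 25872), (25362, 26522), (25363, 26560), (25364, 24193), (25365, 25570), (25366, 26526), (25367, 26563), (25368, 24197), (25369, 24205), (25370, 26565), (25371, 26567), (25372, 24200), (25373, 26569), (25374, 24201), (25375, 25572), (25376, 26533), (25377, 26572), (25378, 24206), (25379, 26574), (25380, 24208), (25381, 26347), (25382, 26577), (25383, 24210), (25384, 26579), (25385, 24212), (25386, 26534), (25387, 26581), (25388, 24215), (25389, 26583), (25390, 24217), (25391, 25938), (25392, 26586), (25393, 24219), (25394, 25588), (25395, 26589), (25396, 24222), (25397, 26591), (25398, 24223), (25399, 25581), (25400, 26594),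 (25401, 24226), (25402, 26595), (25403, 24228), (25404, 26007), (25405, 25892), (25406, 25580), (25407, 26340)]
    ⟨e3 q25344 L783301 q26541, e3 q25345 (flp_e L771671) q24173, e3 q25346 L783319 q26544, e3 q25347 (flp_e L771683) q24174, e3 q25348 L783333 q26547, e3 q25349 (flp_e L771691) q24175, e3 q25350 (flp_e L783327) q26545, e3 q25351 L771705 q24182, e3 q25352 (flp_e L781610) q26339, e3 q25353 L771719 q24234, e3 q25354 L771726 q24181, e3 q25355 (flp_e L771728) q24183, e3 q25356 L771739 q25356, e3 q25357 L783373 q26553, e3 q25358 L783388 q26555, e3 q25359 (flp_e L771758) q24188, e3 q25360 (flp_e L783155) q26521, e3 q25361 (flp_e L777029) q25872, e3 q25362 (flp_e L783169) q26522, e3 q25363 L783422 q26560, e3 q25364 (flp_e L771788) q24193, e3 q25365 (flp_e L773062) q25570, e3 q25366 (flp_e L783201) q26526, e3 q25367 L783438 q26563, e3 q25368 (flp_e L771810) q24197, e3 q25369 L771825 q24205, e3 q25370 L783450 q26565, e3 q25371 L783461 q26567, e3 q25372 (flp_e L771837) q24200, e3 q25373 L783473 q26569, e3 q25374 (flp_e L771848)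 q24201, e3 q25375 (flp_e L773096) q25572, e3 q25376 (flp_e L783246) q26533, e3 q25377 L783491 q26572, e3 q25378 (flp_e L771870) q24206, e3 q25379 L783505 q26574, e3 q25380 (flp_e L771882) q24208, e3 q25381 (flp_e L781706) q26347, e3 q25382 L783523 q26577, e3 q25383 (flp_e L771896) q24210, e3 q25384 L783535 q26579, e3 q25385 (flp_e L771910) q24212, e3 q25386 (flp_e L783252) q26534, e3 q25387 L783543 q26581, e3 q25388 (flp_e L771926) q24215, e3 q25389 L783555 q26583, e3 q25390 (flp_e L771936) q24217, e3 q25391 (flp_e L777788) q25938, e3 q25392 L783571 q26586, e3 q25393 (flp_e L771952) q24219, e3 q25394 (flp_e L773345) q25588, e3 q25395 L783587 q26589, e3 q25396 (flp_e L771968) q24222, e3 q25397 L783599 q26591, e3 q25398 (flp_e L771980) q24223, e3 q25399 (flp_e L773224) q25581, e3 q25400 L783617 q26594, e3 q25401 (flp_e L771998) q24226, e3 q25402 L783625 q26595, e3 q25403 (flp_e L772010) q24228, e3 q25404 (flp_e L778427) q26007, e3 q25405 (flp_e L777306) q25892, e3 q25406 (flp_e L773208) q25580, e3 q25407 (flp_e L781624) q26340,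 trivial⟩ (by decide +kernel)

theorem ce_e_397 : ∀ r, r < 64 → sm ge (Qf (25408 + r)) = Qf (tab Gen.e (25408 + r)) :=
  edges_tab (sm ge) Qf (tab Gen.e) 25408 [(25408, 26600), (25409, 24281), (25410, 24284), (25411, 24291), (25412, 24302), (25413, 24306), (25414, 24310), (25415, 26059), (25416, 24331), (25417, 26608), (25418, 26093), (25419, 26611), (25420, 26613), (25421, 24249), (25422, 24342), (25423, 26616), (25424, 26072), (25425, 26619), (25426, 26084), (25427, 26622), (25428, 24255), (25429, 26097), (25430, 25886), (25431, 26396), (25432, 24355), (25433, 26627), (25434, 26051), (25435, 26630), (25436, 24262), (25437, 26073), (25438, 26633), (25439, 24264), (25440, 26091), (25441, 26636), (25442, 24266), (25443, 26100), (25444, 26413), (25445, 24271), (25446, 26638), (25447, 24274), (25448, 26060), (25449, 26055), (25450, 26062), (25451, 26177), (25452, 26643), (25453, 24280), (25454, 26601), (25455, 26182), (25456, 26185), (25457, 26602), (25458, 25791), (25459, 26192), (25460, 26193), (25461, 26196), (25462, 26197),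 (25463, 26201), (25464, 26653), (25465, 24293), (25466, 26655), (25467, 26657), (25468, 24295), (25469, 24296), (25470, 26660), (25471, 26662)]
    ⟨e3 q25408 L783649 q26600, e3 q25409 L772044 q24281, e3 q25410 L772050 q24284, e3 q25411 L772056 q24291, e3 q25412 L772062 q24302, e3 q25413 L772068 q24306, e3 q25414 L772076 q24310, e3 q25415 (flp_e L778973) q26059, e3 q25416 L772092 q24331, e3 q25417 L783706 q26608, e3 q25418 (flp_e L779329) q26093, e3 q25419 L783723 q26611, e3 q25420 L783736 q26613, e3 q25421 (flp_e L772120) q24249, e3 q25422 L772127 q24342, e3 q25423 L783756 q26616, e3 q25424 (flp_e L779116) q26072, e3 q25425 L783778 q26619, e3 q25426 (flp_e L779225) q26084, e3 q25427 L783799 q26622, e3 q25428 (flp_e L772165) q24255, e3 q25429 (flp_e L779377) q26097, e3 q25430 (flp_e L777217) q25886, e3 q25431 (flp_e L782194) q26396, e3 q25432 L772193 q24355, e3 q25433 L783837 q26627, e3 q25434 (flp_e L778892) q26051, e3 q25435 L783866 q26630, e3 q25436 (flp_e L772225) q24262, e3 q25437 (flp_e L779130) q26073, e3 q25438 L783880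 q26633, e3 q25439 (flp_e L772241) q24264, e3 q25440 (flp_e L779305) q26091, e3 q25441 L783896 q26636, e3 q25442 (flp_e L772256) q24266, e3 q25443 (flp_e L779405) q26100, e3 q25444 (flp_e L782335) q26413, e3 q25445 (flp_e L772270) q24271, e3 q25446 L783904 q26638, e3 q25447 (flp_e L772283) q24274, e3 q25448 (flp_e L778989) q26060, e3 q25449 (flp_e L778935) q26055, e3 q25450 (flp_e L779023) q26062, e3 q25451 (flp_e L780146) q26177, e3 q25452 L783934 q26643, e3 q25453 (flp_e L772319) q24280, e3 q25454 (flp_e L783658) q26601, e3 q25455 (flp_e L780195) q26182, e3 q25456 (flp_e L780237) q26185, e3 q25457 (flp_e L783664) q26602, e3 q25458 (flp_e L776013) q25791, e3 q25459 (flp_e L780295) q26192, e3 q25460 (flp_e L780305) q26193, e3 q25461 (flp_e L780341) q26196, e3 q25462 (flp_e L780353) q26197, e3 q25463 (flp_e L780397) q26201, e3 q25464 L783990 q26653, e3 q25465 (flp_e L772380) q24293, e3 q25466 L784004 q26655, e3 q25467 L784016 q26657, e3 q25468 (flp_e L772398) q24295, e3 q25469 (flp_e L772404) q24296, e3 q25470 L784028 q26660,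 e3 q25471 L784040 q26662, trivial⟩ (by decide +kernel)

theorem ce_e_398 : ∀ r, r < 64 → sm ge (Qf (25472 + r)) = Qf (tab Gen.e (25472 + r)) :=
  edges_tab (sm ge) Qf (tab Gen.e) 25472 [(25472, 24299), (25473, 26664), (25474, 24300), (25475, 26603), (25476, 26666), (25477, 26106), (25478, 26669), (25479, 24305), (25480, 26604), (25481, 24367), (25482, 26111), (25483, 26115), (25484, 26605), (25485, 25751), (25486, 26676), (25487, 26678), (25488, 26122), (25489, 26681), (25490, 24315), (25491, 26123), (25492, 25492), (25493, 26685), (25494, 26687), (25495, 26689), (25496, 24320), (25497, 26127), (25498, 26128), (25499, 26693), (25500, 26695), (25501, 24324), (25502, 26698), (25503, 24325), (25504, 26131), (25505, 25690), (25506, 25696), (25507, 26375), (25508, 24333), (25509, 24335), (25510, 26702), (25511, 24337), (25512, 26262), (25513, 26705), (25514, 24339), (25515, 26707), (25516, 24340), (25517, 26614), (25518, 26710), (25519, 24343), (25520, 24368), (25521, 24361), (25522, 26714), (25523, 24346), (25524, 24350), (25525,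 26717), (25526, 24348), (25527, 26715), (25528, 26716), (25529, 25698), (25530, 26383), (25531, 26397), (25532, 25805), (25533, 25802), (25534, 26725), (25535, 24358)]
    ⟨e3 q25472 (flp_e L772420) q24299, e3 q25473 L784050 q26664, e3 q25474 (flp_e L772430) q24300, e3 q25475 (flp_e L783672) q26603, e3 q25476 L784062 q26666, e3 q25477 (flp_e L779475) q26106, e3 q25478 L784081 q26669, e3 q25479 (flp_e L772458) q24305, e3 q25480 (flp_e L783678) q26604, e3 q25481 L772471 q24367, e3 q25482 (flp_e L779524) q26111, e3 q25483 (flp_e L779572) q26115, e3 q25484 (flp_e L783686) q26605, e3 q25485 (flp_e L775524) q25751, e3 q25486 L784125 q26676, e3 q25487 L784135 q26678, e3 q25488 (flp_e L779630) q26122, e3 q25489 L784156 q26681, e3 q25490 (flp_e L772523) q24315, e3 q25491 (flp_e L779642) q26123, e3 q25492 L772539 q25492, e3 q25493 L784182 q26685, e3 q25494 L784197 q26687, e3 q25495 L784210 q26689, e3 q25496 (flp_e L772564) q24320, e3 q25497 (flp_e L779687) q26127, e3 q25498 (flp_e L779699) q26128, e3 q25499 L784234 q26693, e3 q25500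 L784250 q26695, e3 q25501 (flp_e L772593) q24324, e3 q25502 L784272 q26698, e3 q25503 (flp_e L772609) q24325, e3 q25504 (flp_e L779727) q26131, e3 q25505 (flp_e L774744) q25690, e3 q25506 (flp_e L774832) q25696, e3 q25507 (flp_e L781992) q26375, e3 q25508 (flp_e L772639) q24333, e3 q25509 (flp_e L772648) q24335, e3 q25510 L784296 q26702, e3 q25511 (flp_e L772663) q24337, e3 q25512 (flp_e L780930) q26262, e3 q25513 L784312 q26705, e3 q25514 (flp_e L772678) q24339, e3 q25515 L784322 q26707, e3 q25516 (flp_e L772687) q24340, e3 q25517 (flp_e L783744) q26614, e3 q25518 L784339 q26710, e3 q25519 (flp_e L772703) q24343, e3 q25520 L772717 q24368, e3 q25521 L772727 q24361, e3 q25522 L784377 q26714, e3 q25523 (flp_e L772743) q24346, e3 q25524 L772759 q24350, e3 q25525 L784403 q26717, e3 q25526 (flp_e L772767) q24348, e3 q25527 (flp_e L784391) q26715, e3 q25528 (flp_e L784399) q26716, e3 q25529 (flp_e L774854) q25698, e3 q25530 (flp_e L782072) q26383, e3 q25531 (flp_e L782208) q26397, e3 q25532 (flp_e L776187) q25805, e3 q25533 (flp_e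 L776161) q25802, e3 q25534 L784453 q26725, e3 q25535 (flp_e L772821) q24358, trivial⟩ (by decide +kernel)

theorem ce_e_399 : ∀ r, r < 64 → sm ge (Qf (25536 + r)) = Qf (tab Gen.e (25536 + r)) :=
  edges_tab (sm ge) Qf (tab Gen.e) 25536 [(25536, 26727), (25537, 24359), (25538, 26712), (25539, 26730), (25540, 26732), (25541, 24363), (25542, 26735), (25543, 24364), (25544, 26737), (25545, 24365), (25546, 26671), (25547, 26711), (25548, 26738), (25549, 24369), (25550, 26743), (25551, 24370), (25552, 26287), (25553, 26744), (25554, 24372), (25555, 24377), (25556, 24375), (25557, 26745), (25558, 25699), (25559, 25707), (25560, 24381), (25561, 24384), (25562, 24390), (25563, 24393), (25564, 24395), (25565, 24397), (25566, 25566), (25567, 26750), (25568, 24419), (25569, 24404), (25570, 25365), (25571, 24422), (25572, 25375), (25573, 25155), (25574, 26757), (25575, 24409), (25576, 24428), (25577, 24412), (25578, 25578), (25579, 25165), (25580, 25406), (25581, 25399), (25582, 26765), (25583, 24418), (25584, 26751), (25585, 24420),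 (25586, 26753), (25587, 25156), (25588, 25394), (25589, 26771), (25590, 24425), (25591, 26773), (25592, 24426), (25593, 26758), (25594, 24430), (25595, 24815), (25596, 24853), (25597, 25597), (25598, 24556), (25599, 24437)]
    ⟨e3 q25536 L784465 q26727, e3 q25537 (flp_e L772835) q24359, e3 q25538 (flp_e L784363) q26712, e3 q25539 L784483 q26730, e3 q25540 L784497 q26732, e3 q25541 (flp_e L772855) q24363, e3 q25542 L784517 q26735, e3 q25543 (flp_e L772869) q24364, e3 q25544 L784529 q26737, e3 q25545 (flp_e L772881) q24365, e3 q25546 (flp_e L784095) q26671, e3 q25547 (flp_e L784353) q26711, e3 q25548 (flp_e L784541) q26738, e3 q25549 (flp_e L772901) q24369, e3 q25550 L784565 q26743, e3 q25551 (flp_e L772913) q24370, e3 q25552 (flp_e L781129) q26287, e3 q25553 L784571 q26744, e3 q25554 (flp_e L772929) q24372, e3 q25555 L772937 q24377, e3 q25556 (flp_e L772939) q24375, e3 q25557 (flp_e L784579) q26745, e3 q25558 (flp_e L774868) q25699, e3 q25559 (flp_e L774978) q25707, e3 q25560 (flp_e L772955) q24381, e3 q25561 L772969 q24384,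 e3 q25562 (flp_e L772973) q24390, e3 q25563 (flp_e L772979) q24393, e3 q25564 (flp_e L772984) q24395, e3 q25565 (flp_e L772987) q24397, e3 q25566 L772998 q25566, e3 q25567 L784611 q26750, e3 q25568 L773019 q24419, e3 q25569 (flp_e L773031) q24404, e3 q25570 L773062 q25365, e3 q25571 L773070 q24422, e3 q25572 L773096 q25375, e3 q25573 L773104 q25155, e3 q25574 L784723 q26757, e3 q25575 (flp_e L773126) q24409, e3 q25576 L773144 q24428, e3 q25577 (flp_e L773152) q24412, e3 q25578 L773185 q25578, e3 q25579 L773190 q25165, e3 q25580 L773208 q25406, e3 q25581 L773224 q25399, e3 q25582 L784850 q26765, e3 q25583 (flp_e L773254) q24418, e3 q25584 (flp_e L784633) q26751, e3 q25585 (flp_e L773282) q24420, e3 q25586 (flp_e L784667) q26753, e3 q25587 L773317 q25156, e3 q25588 L773345 q25394, e3 q25589 L784946 q26771, e3 q25590 (flp_e L773363) q24425, e3 q25591 L784978 q26773, e3 q25592 (flp_e L773393) q24426, e3 q25593 (flp_e L784741) q26758, e3 q25594 (flp_e L773411) q24430, e3 q25595 L773439 q24815, e3 q25596 L773449 q24853, e3 q25597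 L773463 q25597, e3 q25598 L773484 q24556, e3 q25599 L773496 q24437, trivial⟩ (by decide +kernel)

theorem ce_e_400 : ∀ r, r < 64 → sm ge (Qf (25600 + r)) = Qf (tab Gen.e (25600 + r)) :=
  edges_tab (sm ge) Qf (tab Gen.e) 25600 [(25600, 26782), (25601, 25601), (25602, 25602), (25603, 26786), (25604, 24441), (25605, 26789), (25606, 24566), (25607, 24569), (25608, 25608), (25609, 26794), (25610, 24447), (25611, 24458), (25612, 26798), (25613, 24577), (25614, 25614), (25615, 26802), (25616, 26804), (25617, 24453), (25618, 24461), (25619, 26807), (25620, 24455), (25621, 24592), (25622, 26795), (25623, 26811), (25624, 26812), (25625, 24459), (25626, 24462), (25627, 24603), (25628, 26816), (25629, 26818), (25630, 24466), (25631, 24489), (25632, 26822), (25633, 26824), (25634, 24469), (25635, 24615), (25636, 24504), (25637, 26828), (25638, 26830), (25639, 24473), (25640, 25640), (25641, 26833), (25642, 26835), (25643, 26837), (25644, 24478), (25645, 26840), (25646, 24479), (25647, 26843), (25648, 24480), (25649, 26841), (25650, 24496),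 (25651, 26847), (25652, 24483), (25653, 24640), (25654, 26849), (25655, 24486), (25656, 26850), (25657, 26820), (25658, 26852), (25659, 24490), (25660, 24491), (25661, 24493), (25662, 24495), (25663, 26855)]
    ⟨e3 q25600 L785113 q26782, e3 q25601 L773528 q25601, e3 q25602 L773545 q25602, e3 q25603 L785170 q26786, e3 q25604 (flp_e L773564) q24441, e3 q25605 L785206 q26789, e3 q25606 L773595 q24566, e3 q25607 L773617 q24569, e3 q25608 L773629 q25608, e3 q25609 L785281 q26794, e3 q25610 (flp_e L773652) q24447, e3 q25611 L773675 q24458, e3 q25612 L785338 q26798, e3 q25613 L773701 q24577, e3 q25614 L773715 q25614, e3 q25615 L785388 q26802, e3 q25616 L785411 q26804, e3 q25617 (flp_e L773748) q24453, e3 q25618 L773771 q24461, e3 q25619 L785449 q26807, e3 q25620 (flp_e L773787) q24455, e3 q25621 L773803 q24592, e3 q25622 (flp_e L785308) q26795, e3 q25623 L785505 q26811, e3 q25624 L785518 q26812, e3 q25625 (flp_e L773855) q24459, e3 q25626 (flp_e L773868) q24462, e3 q25627 L773887 q24603, e3 q25628 L785577 q26816, e3 q25629 L785603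 q26818, e3 q25630 (flp_e L773925) q24466, e3 q25631 L773951 q24489, e3 q25632 L785657 q26822, e3 q25633 L785679 q26824, e3 q25634 (flp_e L773975) q24469, e3 q25635 L773991 q24615, e3 q25636 L774005 q24504, e3 q25637 L785731 q26828, e3 q25638 L785761 q26830, e3 q25639 (flp_e L774043) q24473, e3 q25640 L774067 q25640, e3 q25641 L785807 q26833, e3 q25642 L785832 q26835, e3 q25643 L785854 q26837, e3 q25644 (flp_e L774112) q24478, e3 q25645 L785892 q26840, e3 q25646 (flp_e L774136) q24479, e3 q25647 L785924 q26843, e3 q25648 (flp_e L774154) q24480, e3 q25649 (flp_e L785912) q26841, e3 q25650 L774180 q24496, e3 q25651 L785966 q26847, e3 q25652 (flp_e L774198) q24483, e3 q25653 L774212 q24640, e3 q25654 L785986 q26849, e3 q25655 (flp_e L774233) q24486, e3 q25656 (flp_e L786014) q26850, e3 q25657 (flp_e L785637) q26820, e3 q25658 L786032 q26852, e3 q25659 (flp_e L774285) q24490, e3 q25660 (flp_e L774297) q24491, e3 q25661 (flp_e L774311) q24493, e3 q25662 L774337 q24495, e3 q25663 (flp_e L786087) q26855, trivial⟩ (by decide +kernel)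

theorem ce_e_401 : ∀ r, r < 64 → sm ge (Qf (25664 + r)) = Qf (tab Gen.e (25664 + r)) :=
  edges_tab (sm ge) Qf (tab Gen.e) 25664 [(25664, 24498), (25665, 25665), (25666, 25666), (25667, 25667), (25668, 24510), (25669, 26859), (25670, 24505), (25671, 24507), (25672, 25672), (25673, 24972), (25674, 25262), (25675, 24514), (25676, 26777), (25677, 25677), (25678, 24767), (25679, 26867), (25680, 24518), (25681, 25316), (25682, 26870), (25683, 26872), (25684, 24521), (25685, 26874), (25686, 24523), (25687, 25317), (25688, 26877), (25689, 25242), (25690, 25505), (25691, 26881), (25692, 26883), (25693, 24530), (25694, 26885), (25695, 24532), (25696, 25506), (25697, 26888), (25698, 25529), (25699, 25558), (25700, 26892), (25701, 24538), (25702, 26894), (25703, 26896), (25704, 24541), (25705, 26898), (25706, 24542), (25707, 25559), (25708, 24545), (25709, 24549), (25710, 26900), (25711, 25711), (25712, 25712), (25713, 26904), (25714, 24553), (25715, 25715), (25716, 26908), (25717, 26779), (25718, 24558), (25719, 26911), (25720, 26913),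 (25721, 26914), (25722, 24560), (25723, 26917), (25724, 26919), (25725, 26921), (25726, 24563), (25727, 25727)]
    ⟨e3 q25664 (flp_e L774349) q24498, e3 q25665 L774379 q25665, e3 q25666 L774397 q25666, e3 q25667 L774402 q25667, e3 q25668 L774419 q24510, e3 q25669 L786128 q26859, e3 q25670 (flp_e L774442) q24505, e3 q25671 (flp_e L774458) q24507, e3 q25672 L774483 q25672, e3 q25673 L774498 q24972, e3 q25674 L774506 q25262, e3 q25675 L774526 q24514, e3 q25676 (flp_e L785042) q26777, e3 q25677 L774560 q25677, e3 q25678 L774581 q24767, e3 q25679 L786253 q26867, e3 q25680 (flp_e L774599) q24518, e3 q25681 L774618 q25316, e3 q25682 L786297 q26870, e3 q25683 L786326 q26872, e3 q25684 (flp_e L774654) q24521, e3 q25685 L786356 q26874, e3 q25686 (flp_e L774684) q24523, e3 q25687 L774704 q25317, e3 q25688 L786400 q26877, e3 q25689 L774730 q25242, e3 q25690 L774744 q25505, e3 q25691 L786459 q26881, e3 q25692 L786490 q26883, e3 q25693 (flp_e L774784) q24530, e3 q25694 L786520 q26885, e3 q25695 (flp_e L774814) q24532, e3 q25696 L774832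 q25506, e3 q25697 L786560 q26888, e3 q25698 L774854 q25529, e3 q25699 L774868 q25558, e3 q25700 L786615 q26892, e3 q25701 (flp_e L774890) q24538, e3 q25702 L786647 q26894, e3 q25703 L786679 q26896, e3 q25704 (flp_e L774936) q24541, e3 q25705 L786707 q26898, e3 q25706 (flp_e L774962) q24542, e3 q25707 L774978 q25559, e3 q25708 (flp_e L774984) q24545, e3 q25709 L775010 q24549, e3 q25710 L786735 q26900, e3 q25711 L775042 q25711, e3 q25712 L775059 q25712, e3 q25713 L786792 q26904, e3 q25714 (flp_e L775078) q24553, e3 q25715 L775099 q25715, e3 q25716 L786844 q26908, e3 q25717 (flp_e L785069) q26779, e3 q25718 L775140 q24558, e3 q25719 L786885 q26911, e3 q25720 L786906 q26913, e3 q25721 L786916 q26914, e3 q25722 (flp_e L775182) q24560, e3 q25723 L786947 q26917, e3 q25724 L786970 q26919, e3 q25725 L786987 q26921, e3 q25726 (flp_e L775221) q24563, e3 q25727 L775238 q25727, trivial⟩ (by decide +kernel)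

theorem ce_e_402 : ∀ r, r < 64 → sm ge (Qf (25728 + r)) = Qf (tab Gen.e (25728 + r)) :=
  edges_tab (sm ge) Qf (tab Gen.e) 25728 [(25728, 26925), (25729, 24565), (25730, 26790), (25731, 25731), (25732, 26929), (25733, 26791), (25734, 26932), (25735, 24571), (25736, 26934), (25737, 26936), (25738, 24573), (25739, 24593), (25740, 26939), (25741, 26941), (25742, 24576), (25743, 26799), (25744, 26944), (25745, 26946), (25746, 24579), (25747, 25055), (25748, 26949), (25749, 26951), (25750, 24583), (25751, 25485), (25752, 26955), (25753, 24585), (25754, 25294), (25755, 26958), (25756, 26960), (25757, 24589), (25758, 26962), (25759, 24590), (25760, 26808), (25761, 24594), (25762, 24595), (25763, 24597), (25764, 25073), (25765, 25765), (25766, 26969), (25767, 26971), (25768, 24602), (25769, 26814), (25770, 26974), (25771, 24605), (25772, 26976), (25773, 24606), (25774, 24641), (25775, 26979), (25776, 24608), (25777, 25014), (25778, 24642), (25779, 26983), (25780, 26985), (25781, 24612), (25782, 26988), (25783, 24613), (25784, 26825),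 (25785, 26977), (25786, 26992), (25787, 24617), (25788, 26994), (25789, 26996), (25790, 24620), (25791, 25458)]
    ⟨e3 q25728 L787029 q26925, e3 q25729 (flp_e L775249) q24565, e3 q25730 (flp_e L785223) q26790, e3 q25731 L775278 q25731, e3 q25732 L787075 q26929, e3 q25733 (flp_e L785237) q26791, e3 q25734 L787114 q26932, e3 q25735 (flp_e L775323) q24571, e3 q25736 L787142 q26934, e3 q25737 L787167 q26936, e3 q25738 (flp_e L775364) q24573, e3 q25739 L775385 q24593, e3 q25740 L787205 q26939, e3 q25741 L787231 q26941, e3 q25742 (flp_e L775411) q24576, e3 q25743 (flp_e L785354) q26799, e3 q25744 L787265 q26944, e3 q25745 L787294 q26946, e3 q25746 (flp_e L775459) q24579, e3 q25747 L775487 q25055, e3 q25748 L787340 q26949, e3 q25749 L787363 q26951, e3 q25750 (flp_e L775513) q24583, e3 q25751 L775524 q25485, e3 q25752 L787412 q26955, e3 q25753 (flp_e L775544) q24585, e3 q25754 L775562 q25294, e3 q25755 L787448 q26958, e3 q25756 L787480 q26960, e3 q25757 (flp_e L775596) q24589, e3 q25758 L787504 q26962, e3 q25759 (flp_e L775620)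 q24590, e3 q25760 (flp_e L785465) q26808, e3 q25761 (flp_e L775634) q24594, e3 q25762 (flp_e L775649) q24595, e3 q25763 (flp_e L775664) q24597, e3 q25764 L775691 q25073, e3 q25765 L775701 q25765, e3 q25766 L787591 q26969, e3 q25767 L787610 q26971, e3 q25768 (flp_e L775728) q24602, e3 q25769 (flp_e L785551) q26814, e3 q25770 L787644 q26974, e3 q25771 (flp_e L775763) q24605, e3 q25772 L787674 q26976, e3 q25773 (flp_e L775791) q24606, e3 q25774 L775815 q24641, e3 q25775 L787712 q26979, e3 q25776 (flp_e L775829) q24608, e3 q25777 L775849 q25014, e3 q25778 L775857 q24642, e3 q25779 L787760 q26983, e3 q25780 L787788 q26985, e3 q25781 (flp_e L775887) q24612, e3 q25782 L787826 q26988, e3 q25783 (flp_e L775911) q24613, e3 q25784 (flp_e L785695) q26825, e3 q25785 (flp_e L787696) q26977, e3 q25786 L787878 q26992, e3 q25787 (flp_e L775955) q24617, e3 q25788 L787908 q26994, e3 q25789 L787940 q26996, e3 q25790 (flp_e L775997) q24620, e3 q25791 L776013 q25458, trivial⟩ (by decide +kernel)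

theorem ce_e_403 : ∀ r, r < 64 → sm ge (Qf (25792 + r)) = Qf (tab Gen.e (25792 + r)) :=
  edges_tab (sm ge) Qf (tab Gen.e) 25792 [(25792, 26999), (25793, 24622), (25794, 25176), (25795, 27002), (25796, 24625), (25797, 27004), (25798, 24626), (25799, 25004), (25800, 25049), (25801, 25069), (25802, 25533), (25803, 27010), (25804, 24631), (25805, 25532), (25806, 25252), (25807, 27014), (25808, 24635), (25809, 27016), (25810, 24636), (25811, 27017), (25812, 24638), (25813, 25289), (25814, 24643), (25815, 25815), (25816, 24645), (25817, 24988), (25818, 25017), (25819, 24975), (25820, 24765), (25821, 24657), (25822, 25027), (25823, 24712), (25824, 24718), (25825, 24727), (25826, 27027), (25827, 24666), (25828, 27029), (25829, 24735), (25830, 24669), (25831, 24739), (25832, 24743), (25833, 27034), (25834, 24672), (25835, 27036), (25836, 24674), (25837, 24753), (25838, 25838), (25839, 25839), (25840, 27041), (25841, 24680), (25842, 27044), (25843, 24776), (25844, 24783), (25845, 27048), (25846, 24685), (25847, 27050), (25848, 27052),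 (25849, 24687), (25850, 24692), (25851, 27055), (25852, 27057), (25853, 24690), (25854, 24796), (25855, 24693)]
    ⟨e3 q25792 L787978 q26999, e3 q25793 (flp_e L776035) q24622, e3 q25794 L776051 q25176, e3 q25795 L788012 q27002, e3 q25796 (flp_e L776069) q24625, e3 q25797 L788042 q27004, e3 q25798 (flp_e L776095) q24626, e3 q25799 L776121 q25004, e3 q25800 L776137 q25049, e3 q25801 L776145 q25069, e3 q25802 L776161 q25533, e3 q25803 L788136 q27010, e3 q25804 (flp_e L776175) q24631, e3 q25805 L776187 q25532, e3 q25806 L776197 q25252, e3 q25807 L788170 q27014, e3 q25808 (flp_e L776211) q24635, e3 q25809 L788188 q27016, e3 q25810 (flp_e L776231) q24636, e3 q25811 L788196 q27017, e3 q25812 (flp_e L776243) q24638, e3 q25813 L776255 q25289, e3 q25814 (flp_e L776257) q24643, e3 q25815 L776287 q25815, e3 q25816 (flp_e L776288) q24645, e3 q25817 L776314 q24988, e3 q25818 L776328 q25017, e3 q25819 L776334 q24975, e3 q25820 L776344 q24765, e3 q25821 (flp_e L776351) q24657, e3 q25822 L776376 q25027, e3 q25823 L776400 q24712, e3 q25824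 L776408 q24718, e3 q25825 L776434 q24727, e3 q25826 L788326 q27027, e3 q25827 (flp_e L776452) q24666, e3 q25828 L788358 q27029, e3 q25829 L776489 q24735, e3 q25830 (flp_e L776497) q24669, e3 q25831 L776528 q24739, e3 q25832 L776536 q24743, e3 q25833 L788430 q27034, e3 q25834 (flp_e L776560) q24672, e3 q25835 L788460 q27036, e3 q25836 (flp_e L776590) q24674, e3 q25837 L776608 q24753, e3 q25838 L776622 q25838, e3 q25839 L776639 q25839, e3 q25840 L788528 q27041, e3 q25841 (flp_e L776656) q24680, e3 q25842 L788562 q27044, e3 q25843 L776685 q24776, e3 q25844 L776695 q24783, e3 q25845 L788617 q27048, e3 q25846 (flp_e L776719) q24685, e3 q25847 L788647 q27050, e3 q25848 L788668 q27052, e3 q25849 (flp_e L776758) q24687, e3 q25850 L776779 q24692, e3 q25851 L788710 q27055, e3 q25852 L788734 q27057, e3 q25853 (flp_e L776805) q24690, e3 q25854 L776815 q24796, e3 q25855 (flp_e L776821) q24693, trivial⟩ (by decide +kernel)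

theorem ce_e_404 : ∀ r, r < 64 → sm ge (Qf (25856 + r)) = Qf (tab Gen.e (25856 + r)) :=
  edges_tab (sm ge) Qf (tab Gen.e) 25856 [(25856, 24694), (25857, 24803), (25858, 24813), (25859, 27063), (25860, 24698), (25861, 27065), (25862, 24700), (25863, 27067), (25864, 24701), (25865, 24742), (25866, 27070), (25867, 24704), (25868, 27072), (25869, 24705), (25870, 24840), (25871, 24740), (25872, 25361), (25873, 27023), (25874, 25874), (25875, 27053), (25876, 27079), (25877, 27081), (25878, 24716), (25879, 27024), (25880, 24907), (25881, 25881), (25882, 25882), (25883, 27087), (25884, 24723), (25885, 27090), (25886, 25430), (25887, 27059), (25888, 27025), (25889, 27095), (25890, 24729), (25891, 27097), (25892, 25405), (25893, 27100), (25894, 24732), (25895, 24736), (25896, 27103), (25897, 24734), (25898, 27030), (25899, 24737), (25900, 27031), (25901, 27073), (25902, 26775), (25903, 27068), (25904, 27032), (25905, 27112), (25906, 24744), (25907, 24745), (25908, 24754), (25909, 27116), (25910, 24747), (25911, 27119), (25912, 24748),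 (25913, 27117), (25914, 27122), (25915, 24751), (25916, 27037), (25917, 24755), (25918, 24757), (25919, 27124)]
    ⟨e3 q25856 (flp_e L776838) q24694, e3 q25857 L776857 q24803, e3 q25858 L776873 q24813, e3 q25859 L788804 q27063, e3 q25860 (flp_e L776887) q24698, e3 q25861 L788832 q27065, e3 q25862 (flp_e L776917) q24700, e3 q25863 L788856 q27067, e3 q25864 (flp_e L776939) q24701, e3 q25865 L776959 q24742, e3 q25866 L788890 q27070, e3 q25867 (flp_e L776973) q24704, e3 q25868 L788912 q27072, e3 q25869 (flp_e L776995) q24705, e3 q25870 L777005 q24840, e3 q25871 L777023 q24740, e3 q25872 L777029 q25361, e3 q25873 (flp_e L788264) q27023, e3 q25874 L777057 q25874, e3 q25875 (flp_e L788690) q27053, e3 q25876 L789004 q27079, e3 q25877 L789027 q27081, e3 q25878 (flp_e L777104) q24716, e3 q25879 (flp_e L788282) q27024, e3 q25880 L777134 q24907, e3 q25881 L777146 q25881, e3 q25882 L777163 q25882, e3 q25883 L789107 q27087, e3 q25884 (flp_e L777184) q24723, e3 q25885 L789147 q27090, e3 q25886 L777217 q25430, e3 q25887 (flp_e L788764)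 q27059, e3 q25888 (flp_e L788298) q27025, e3 q25889 L789210 q27095, e3 q25890 (flp_e L777263) q24729, e3 q25891 L789238 q27097, e3 q25892 L777306 q25405, e3 q25893 L789275 q27100, e3 q25894 (flp_e L777320) q24732, e3 q25895 L777343 q24736, e3 q25896 L789307 q27103, e3 q25897 (flp_e L777355) q24734, e3 q25898 (flp_e L788378) q27030, e3 q25899 (flp_e L777369) q24737, e3 q25900 (flp_e L788392) q27031, e3 q25901 (flp_e L788932) q27073, e3 q25902 (flp_e L785016) q26775, e3 q25903 (flp_e L788876) q27068, e3 q25904 (flp_e L788410) q27032, e3 q25905 L789395 q27112, e3 q25906 (flp_e L777442) q24744, e3 q25907 (flp_e L777454) q24745, e3 q25908 L777486 q24754, e3 q25909 L789445 q27116, e3 q25910 (flp_e L777498) q24747, e3 q25911 L789479 q27119, e3 q25912 (flp_e L777514) q24748, e3 q25913 (flp_e L789467) q27117, e3 q25914 L789503 q27122, e3 q25915 (flp_e L777536) q24751, e3 q25916 (flp_e L788478) q27037, e3 q25917 (flp_e L777552) q24755, e3 q25918 L777582 q24757, e3 q25919 (flp_e L789533) q27124, trivial⟩ (by decide +kernel)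

theorem ce_e_405 : ∀ r, r < 64 → sm ge (Qf (25920 + r)) = Qf (tab Gen.e (25920 + r)) :=
  edges_tab (sm ge) Qf (tab Gen.e) 25920 [(25920, 25920), (25921, 25921), (25922, 25922), (25923, 27022), (25924, 27131), (25925, 26865), (25926, 27134), (25927, 27135), (25928, 24769), (25929, 25929), (25930, 27139), (25931, 27141), (25932, 27143), (25933, 24773), (25934, 25934), (25935, 27147), (25936, 24775), (25937, 27045), (25938, 25391), (25939, 25939), (25940, 27152), (25941, 27154), (25942, 24780), (25943, 27156), (25944, 24782), (25945, 27046), (25946, 27159), (25947, 27161), (25948, 24785), (25949, 24798), (25950, 27164), (25951, 27166), (25952, 24788), (25953, 27169), (25954, 24789), (25955, 27171), (25956, 24790), (25957, 27114), (25958, 27174), (25959, 24793), (25960, 27176), (25961, 24794), (25962, 27058), (25963, 27113), (25964, 27180), (25965, 24802), (25966, 27060), (25967, 25967), (25968, 27184), (25969, 27186), (25970, 27188), (25971, 24807), (25972, 27190), (25973, 24808), (25974, 27192), (25975, 24809), (25976, 27194),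 (25977, 24811), (25978, 27061), (25979, 26776), (25980, 26774), (25981, 27198), (25982, 27200), (25983, 27202)]
    ⟨e3 q25920 L777604 q25920, e3 q25921 L777617 q25921, e3 q25922 L777634 q25922, e3 q25923 (flp_e L788254) q27022, e3 q25924 L789615 q27131, e3 q25925 (flp_e L786229) q26865, e3 q25926 L789646 q27134, e3 q25927 L789656 q27135, e3 q25928 (flp_e L777693) q24769, e3 q25929 L777710 q25929, e3 q25930 L789697 q27139, e3 q25931 L789714 q27141, e3 q25932 L789729 q27143, e3 q25933 (flp_e L777741) q24773, e3 q25934 L777754 q25934, e3 q25935 L789765 q27147, e3 q25936 (flp_e L777765) q24775, e3 q25937 (flp_e L788579) q27045, e3 q25938 L777788 q25391, e3 q25939 L777806 q25939, e3 q25940 L789827 q27152, e3 q25941 L789850 q27154, e3 q25942 (flp_e L777837) q24780, e3 q25943 L789868 q27156, e3 q25944 (flp_e L777855) q24782, e3 q25945 (flp_e L788591) q27046, e3 q25946 L789896 q27159, e3 q25947 L789923 q27161, e3 q25948 (flp_e L777899) q24785, e3 q25949 L777926 q24798, e3 q25950 L789961 q27164, e3 q25951 L789976 q27166, e3 q25952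 (flp_e L777944) q24788, e3 q25953 L789999 q27169, e3 q25954 (flp_e L777959) q24789, e3 q25955 L790017 q27171, e3 q25956 (flp_e L777979) q24790, e3 q25957 (flp_e L789437) q27114, e3 q25958 L790043 q27174, e3 q25959 (flp_e L778003) q24793, e3 q25960 L790063 q27176, e3 q25961 (flp_e L778025) q24794, e3 q25962 (flp_e L788744) q27058, e3 q25963 (flp_e L789419) q27113, e3 q25964 L790090 q27180, e3 q25965 (flp_e L778049) q24802, e3 q25966 (flp_e L788772) q27060, e3 q25967 L778079 q25967, e3 q25968 L790136 q27184, e3 q25969 L790157 q27186, e3 q25970 L790181 q27188, e3 q25971 (flp_e L778118) q24807, e3 q25972 L790199 q27190, e3 q25973 (flp_e L778136) q24808, e3 q25974 L790213 q27192, e3 q25975 (flp_e L778152) q24809, e3 q25976 L790231 q27194, e3 q25977 (flp_e L778168) q24811, e3 q25978 (flp_e L788788) q27061, e3 q25979 (flp_e L785026) q26776, e3 q25980 (flp_e L785000) q26774, e3 q25981 L790279 q27198, e3 q25982 L790300 q27200, e3 q25983 L790324 q27202, trivial⟩ (by decide +kernel)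

theorem ce_e_406 : ∀ r, r < 64 → sm ge (Qf (25984 + r)) = Qf (tab Gen.e (25984 + r)) :=
  edges_tab (sm ge) Qf (tab Gen.e) 25984 [(25984, 24818), (25985, 27205), (25986, 24819), (25987, 27208), (25988, 24820), (25989, 27206), (25990, 27211), (25991, 27213), (25992, 24824), (25993, 27216), (25994, 24825), (25995, 27219), (25996, 24826), (25997, 27214), (25998, 27224), (25999, 24828), (26000, 27226), (26001, 24829), (26002, 24833), (26003, 27229), (26004, 24831), (26005, 27228), (26006, 27101), (26007, 25404), (26008, 27234), (26009, 24836), (26010, 27235), (26011, 24838), (26012, 27227), (26013, 24843), (26014, 24847), (26015, 27238), (26016, 26016), (26017, 26017), (26018, 26018), (26019, 26019), (26020, 24851), (26021, 24854), (26022, 24856), (26023, 26023), (26024, 25142), (26025, 26025), (26026, 24910), (26027, 27248), (26028, 24862), (26029, 24914), (26030, 24937), (26031, 24946), (26032, 27253), (26033, 24867), (26034, 24959), (26035, 27255), (26036, 24978), (26037, 27258), (26038, 24872), (26039, 26039), (26040, 27261),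 (26041, 24874), (26042, 24997), (26043, 27264), (26044, 25001), (26045, 27267), (26046, 24878), (26047, 25010)]
    ⟨e3 q25984 (flp_e L778242) q24818, e3 q25985 L790360 q27205, e3 q25986 (flp_e L778266) q24819, e3 q25987 L790398 q27208, e3 q25988 (flp_e L778288) q24820, e3 q25989 (flp_e L790384) q27206, e3 q25990 L790428 q27211, e3 q25991 L790441 q27213, e3 q25992 (flp_e L778322) q24824, e3 q25993 L790462 q27216, e3 q25994 (flp_e L778335) q24825, e3 q25995 L790484 q27219, e3 q25996 (flp_e L778351) q24826, e3 q25997 (flp_e L790452) q27214, e3 q25998 L790530 q27224, e3 q25999 (flp_e L778373) q24828, e3 q26000 L790548 q27226, e3 q26001 (flp_e L778391) q24829, e3 q26002 L778399 q24833, e3 q26003 L790564 q27229, e3 q26004 (flp_e L778407) q24831, e3 q26005 (flp_e L790562) q27228, e3 q26006 (flp_e L789297) q27101, e3 q26007 L778427 q25404, e3 q26008 L790598 q27234, e3 q26009 (flp_e L778443) q24836, e3 q26010 L790610 q27235, e3 q26011 (flp_e L778461) q24838, e3 q26012 (flp_e L790556) q27227, e3 q26013 L778484 q24843, e3 q26014 L778490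 q24847, e3 q26015 (flp_e L790628) q27238, e3 q26016 L778502 q26016, e3 q26017 L778513 q26017, e3 q26018 L778529 q26018, e3 q26019 L778540 q26019, e3 q26020 (flp_e L778544) q24851, e3 q26021 (flp_e L778557) q24854, e3 q26022 (flp_e L778570) q24856, e3 q26023 L778588 q26023, e3 q26024 L778597 q25142, e3 q26025 L778613 q26025, e3 q26026 L778618 q24910, e3 q26027 L790740 q27248, e3 q26028 (flp_e L778638) q24862, e3 q26029 L778656 q24914, e3 q26030 L778668 q24937, e3 q26031 L778682 q24946, e3 q26032 L790802 q27253, e3 q26033 (flp_e L778696) q24867, e3 q26034 L778710 q24959, e3 q26035 L790822 q27255, e3 q26036 L778732 q24978, e3 q26037 L790849 q27258, e3 q26038 (flp_e L778748) q24872, e3 q26039 L778766 q26039, e3 q26040 L790877 q27261, e3 q26041 (flp_e L778777) q24874, e3 q26042 L778788 q24997, e3 q26043 L790911 q27264, e3 q26044 L778812 q25001, e3 q26045 L790948 q27267, e3 q26046 (flp_e L778834) q24878, e3 q26047 L778850 q25010, trivial⟩ (by decide +kernel)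

theorem ce_e_407 : ∀ r, r < 64 → sm ge (Qf (26048 + r)) = Qf (tab Gen.e (26048 + r)) :=
  edges_tab (sm ge) Qf (tab Gen.e) 26048 [(26048, 27270), (26049, 24880), (26050, 25026), (26051, 25434), (26052, 27273), (26053, 24885), (26054, 25048), (26055, 25449), (26056, 27277), (26057, 24888), (26058, 25068), (26059, 25415), (26060, 25448), (26061, 25263), (26062, 25450), (26063, 27282), (26064, 24895), (26065, 27284), (26066, 24896), (26067, 27285), (26068, 24898), (26069, 25259), (26070, 25255), (26071, 24971), (26072, 25424), (26073, 25437), (26074, 27083), (26075, 27293), (26076, 24908), (26077, 27246), (26078, 27296), (26079, 24911), (26080, 27298), (26081, 24912), (26082, 27249), (26083, 27300), (26084, 25426), (26085, 27303), (26086, 27305), (26087, 24918), (26088, 26088), (26089, 27309), (26090, 24920), (26091, 25440), (26092, 27312), (26093, 25418), (26094, 27315), (26095, 27317), (26096, 24925), (26097, 25429), (26098, 27320), (26099, 24927), (26100, 25443), (26101, 27322), (26102, 24930), (26103, 24931), (26104, 25215),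 (26105, 27327), (26106, 25477), (26107, 27330), (26108, 24936), (26109, 27250), (26110, 27333), (26111, 25482)]
    ⟨e3 q26048 L790984 q27270, e3 q26049 (flp_e L778864) q24880, e3 q26050 L778880 q25026, e3 q26051 L778892 q25434, e3 q26052 L791020 q27273, e3 q26053 (flp_e L778912) q24885, e3 q26054 L778925 q25048, e3 q26055 L778935 q25449, e3 q26056 L791064 q27277, e3 q26057 (flp_e L778955) q24888, e3 q26058 L778967 q25068, e3 q26059 L778973 q25415, e3 q26060 L778989 q25448, e3 q26061 L779007 q25263, e3 q26062 L779023 q25450, e3 q26063 L791138 q27282, e3 q26064 (flp_e L779041) q24895, e3 q26065 L791156 q27284, e3 q26066 (flp_e L779061) q24896, e3 q26067 L791164 q27285, e3 q26068 (flp_e L779071) q24898, e3 q26069 L779087 q25259, e3 q26070 L779091 q25255, e3 q26071 L779105 q24971, e3 q26072 L779116 q25424, e3 q26073 L779130 q25437, e3 q26074 (flp_e L789051) q27083, e3 q26075 L791254 q27293, e3 q26076 (flp_e L779154) q24908, e3 q26077 (flp_e L790718) q27246, e3 q26078 L791278 q27296, e3 q26079 (flp_e L779180) q24911, e3 q26080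 L791296 q27298, e3 q26081 (flp_e L779197) q24912, e3 q26082 (flp_e L790760) q27249, e3 q26083 L791314 q27300, e3 q26084 L779225 q25426, e3 q26085 L791353 q27303, e3 q26086 L791376 q27305, e3 q26087 (flp_e L779259) q24918, e3 q26088 L779285 q26088, e3 q26089 L791423 q27309, e3 q26090 (flp_e L779294) q24920, e3 q26091 L779305 q25440, e3 q26092 L791457 q27312, e3 q26093 L779329 q25418, e3 q26094 L791498 q27315, e3 q26095 L791518 q27317, e3 q26096 (flp_e L779361) q24925, e3 q26097 L779377 q25429, e3 q26098 L791552 q27320, e3 q26099 (flp_e L779391) q24927, e3 q26100 L779405 q25443, e3 q26101 L791572 q27322, e3 q26102 (flp_e L779425) q24930, e3 q26103 (flp_e L779434) q24931, e3 q26104 L779455 q25215, e3 q26105 L791628 q27327, e3 q26106 L779475 q25477, e3 q26107 L791663 q27330, e3 q26108 (flp_e L779493) q24936, e3 q26109 (flp_e L790772) q27250, e3 q26110 L791691 q27333, e3 q26111 L779524 q25482, trivial⟩ (by decide +kernel)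

theorem ce_e_408 : ∀ r, r < 64 → sm ge (Qf (26112 + r)) = Qf (tab Gen.e (26112 + r)) :=
  edges_tab (sm ge) Qf (tab Gen.e) 26112 [(26112, 27336), (26113, 27338), (26114, 24941), (26115, 25483), (26116, 27341), (26117, 24943), (26118, 27344), (26119, 24944), (26120, 27251), (26121, 27288), (26122, 25488), (26123, 25491), (26124, 27350), (26125, 27352), (26126, 24951), (26127, 25497), (26128, 25498), (26129, 27356), (26130, 24954), (26131, 25504), (26132, 27358), (26133, 24957), (26134, 27357), (26135, 27361), (26136, 24960), (26137, 24961), (26138, 24963), (26139, 26139), (26140, 27362), (26141, 24967), (26142, 27364), (26143, 26143), (26144, 26144), (26145, 26861), (26146, 26981), (26147, 27369), (26148, 27019), (26149, 27372), (26150, 27374), (26151, 24977), (26152, 27256), (26153, 27377), (26154, 27378), (26155, 24980), (26156, 27020), (26157, 27382), (26158, 27384), (26159, 24983), (26160, 24984), (26161, 26161), (26162, 27390), (26163, 26965), (26164, 26989), (26165, 27394), (26166, 27396), (26167, 24990), (26168, 27399),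 (26169, 24991), (26170, 27397), (26171, 26171), (26172, 27403), (26173, 24994), (26174, 27405), (26175, 24995)]
    ⟨e3 q26112 L791728 q27336, e3 q26113 L791752 q27338, e3 q26114 (flp_e L779554) q24941, e3 q26115 L779572 q25483, e3 q26116 L791782 q27341, e3 q26117 (flp_e L779586) q24943, e3 q26118 L791808 q27344, e3 q26119 (flp_e L779600) q24944, e3 q26120 (flp_e L790784) q27251, e3 q26121 (flp_e L791198) q27288, e3 q26122 L779630 q25488, e3 q26123 L779642 q25491, e3 q26124 L791876 q27350, e3 q26125 L791897 q27352, e3 q26126 (flp_e L779674) q24951, e3 q26127 L779687 q25497, e3 q26128 L779699 q25498, e3 q26129 L791941 q27356, e3 q26130 (flp_e L779713) q24954, e3 q26131 L779727 q25504, e3 q26132 L791961 q27358, e3 q26133 (flp_e L779741) q24957, e3 q26134 (flp_e L791959) q27357, e3 q26135 L791977 q27361, e3 q26136 (flp_e L779763) q24960, e3 q26137 (flp_e L779774) q24961, e3 q26138 (flp_e L779787) q24963, e3 q26139 L779803 q26139, e3 q26140 (flp_e L791998) q27362, e3 q26141 L779822 q24967, e3 q26142 (flp_e L792010) q27364, e3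 q26143 L779843 q26143, e3 q26144 L779850 q26144, e3 q26145 (flp_e L786163) q26861, e3 q26146 (flp_e L787740) q26981, e3 q26147 L792059 q27369, e3 q26148 (flp_e L788214) q27019, e3 q26149 L792090 q27372, e3 q26150 L792105 q27374, e3 q26151 (flp_e L779918) q24977, e3 q26152 (flp_e L790835) q27256, e3 q26153 L792129 q27377, e3 q26154 L792143 q27378, e3 q26155 (flp_e L779956) q24980, e3 q26156 (flp_e L788232) q27020, e3 q26157 L792192 q27382, e3 q26158 L792207 q27384, e3 q26159 (flp_e L779998) q24983, e3 q26160 (flp_e L780006) q24984, e3 q26161 L780020 q26161, e3 q26162 L792265 q27390, e3 q26163 (flp_e L787550) q26965, e3 q26164 (flp_e L787846) q26989, e3 q26165 L792313 q27394, e3 q26166 L792326 q27396, e3 q26167 (flp_e L780075) q24990, e3 q26168 L792341 q27399, e3 q26169 (flp_e L780084) q24991, e3 q26170 (flp_e L792333) q27397, e3 q26171 L780098 q26171, e3 q26172 L792369 q27403, e3 q26173 (flp_e L780113) q24994, e3 q26174 L792385 q27405, e3 q26175 (flp_e L780130) q24995, trivial⟩ (by decide +kernel)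

theorem ce_e_409 : ∀ r, r < 64 → sm ge (Qf (26176 + r)) = Qf (tab Gen.e (26176 + r)) :=
  edges_tab (sm ge) Qf (tab Gen.e) 26176 [(26176, 27262), (26177, 25451), (26178, 27409), (26179, 27411), (26180, 25000), (26181, 27265), (26182, 25455), (26183, 27006), (26184, 27005), (26185, 25456), (26186, 27418), (26187, 27420), (26188, 25007), (26189, 27423), (26190, 25008), (26191, 27268), (26192, 25459), (26193, 25460), (26194, 26937), (26195, 26980), (26196, 25461), (26197, 25462), (26198, 27021), (26199, 27433), (26200, 25018), (26201, 25463), (26202, 27435), (26203, 25021), (26204, 27437), (26205, 25022), (26206, 27439), (26207, 25024), (26208, 25315), (26209, 27442), (26210, 25028), (26211, 27443), (26212, 25029), (26213, 26213), (26214, 25031), (26215, 25284), (26216, 25033), (26217, 25124), (26218, 25122), (26219, 25307), (26220, 25056), (26221, 25051), (26222, 27455), (26223, 27457), (26224, 25041), (26225, 27460), (26226, 25042), (26227, 27458), (26228, 27463), (26229, 25045), (26230, 27465), (26231, 25046), (26232, 27274),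 (26233, 27007), (26234, 27469), (26235, 25050), (26236, 27453), (26237, 27472), (26238, 26952), (26239, 27475)]
    ⟨e3 q26176 (flp_e L790889) q27262, e3 q26177 L780146 q25451, e3 q26178 L792420 q27409, e3 q26179 L792437 q27411, e3 q26180 (flp_e L780176) q25000, e3 q26181 (flp_e L790930) q27265, e3 q26182 L780195 q25455, e3 q26183 (flp_e L788078) q27006, e3 q26184 (flp_e L788068) q27005, e3 q26185 L780237 q25456, e3 q26186 L792517 q27418, e3 q26187 L792535 q27420, e3 q26188 (flp_e L780261) q25007, e3 q26189 L792557 q27423, e3 q26190 (flp_e L780277) q25008, e3 q26191 (flp_e L790966) q27268, e3 q26192 L780295 q25459, e3 q26193 L780305 q25460, e3 q26194 (flp_e L787191) q26937, e3 q26195 (flp_e L787730) q26980, e3 q26196 L780341 q25461, e3 q26197 L780353 q25462, e3 q26198 (flp_e L788240) q27021, e3 q26199 L792667 q27433, e3 q26200 (flp_e L780381) q25018, e3 q26201 L780397 q25463, e3 q26202 L792685 q27435, e3 q26203 (flp_e L780413) q25021, e3 q26204 L792703 q27437, e3 q26205 (flp_e L780431) q25022, e3 q26206 L792723 q27439, e3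 q26207 (flp_e L780445) q25024, e3 q26208 L780459 q25315, e3 q26209 L792747 q27442, e3 q26210 (flp_e L780475) q25028, e3 q26211 L792760 q27443, e3 q26212 (flp_e L780500) q25029, e3 q26213 L780514 q26213, e3 q26214 (flp_e L780515) q25031, e3 q26215 L780536 q25284, e3 q26216 (flp_e L780538) q25033, e3 q26217 L780561 q25124, e3 q26218 L780573 q25122, e3 q26219 L780577 q25307, e3 q26220 L780586 q25056, e3 q26221 L780596 q25051, e3 q26222 L792895 q27455, e3 q26223 L792914 q27457, e3 q26224 (flp_e L780626) q25041, e3 q26225 L792945 q27460, e3 q26226 (flp_e L780639) q25042, e3 q26227 (flp_e L792933) q27458, e3 q26228 L792983 q27463, e3 q26229 (flp_e L780677) q25045, e3 q26230 L792995 q27465, e3 q26231 (flp_e L780688) q25046, e3 q26232 (flp_e L791032) q27274, e3 q26233 (flp_e L788092) q27007, e3 q26234 L793028 q27469, e3 q26235 (flp_e L780720) q25050, e3 q26236 (flp_e L792871) q27453, e3 q26237 L793050 q27472, e3 q26238 (flp_e L787384) q26952, e3 q26239 L793083 q27475, trivial⟩ (by decide +kernel)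

theorem ce_e_410 : ∀ r, r < 64 → sm ge (Qf (26240 + r)) = Qf (tab Gen.e (26240 + r)) :=
  edges_tab (sm ge) Qf (tab Gen.e) 26240 [(26240, 25054), (26241, 26947), (26242, 27452), (26243, 27479), (26244, 27481), (26245, 25058), (26246, 27484), (26247, 25059), (26248, 27486), (26249, 25061), (26250, 27488), (26251, 25063), (26252, 27490), (26253, 25064), (26254, 27178), (26255, 27493), (26256, 25066), (26257, 27485), (26258, 27008), (26259, 26966), (26260, 27499), (26261, 25071), (26262, 25512), (26263, 26963), (26264, 27503), (26265, 25074), (26266, 27504), (26267, 25076), (26268, 27506), (26269, 27508), (26270, 27510), (26271, 25080), (26272, 27513), (26273, 25081), (26274, 27515), (26275, 25082), (26276, 25088), (26277, 27519), (26278, 25084), (26279, 27521), (26280, 25086), (26281, 27220), (26282, 27517), (26283, 27526), (26284, 25089), (26285, 27529), (26286, 25090), (26287, 25552), (26288, 27531), (26289, 25092), (26290, 25104), (26291, 25097), (26292, 25095), (26293, 27533), (26294, 27537), (26295, 25098), (26296, 27539),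 (26297, 25100), (26298, 27449), (26299, 25102), (26300, 27532), (26301, 27534), (26302, 25106), (26303, 25107)]
    ⟨e3 q26240 (flp_e L780770) q25054, e3 q26241 (flp_e L787312) q26947, e3 q26242 (flp_e L792859) q27452, e3 q26243 L793119 q27479, e3 q26244 L793137 q27481, e3 q26245 (flp_e L780811) q25058, e3 q26246 L793161 q27484, e3 q26247 (flp_e L780825) q25059, e3 q26248 L793179 q27486, e3 q26249 (flp_e L780837) q25061, e3 q26250 L793197 q27488, e3 q26251 (flp_e L780853) q25063, e3 q26252 L793211 q27490, e3 q26253 (flp_e L780867) q25064, e3 q26254 (flp_e L790077) q27178, e3 q26255 L793227 q27493, e3 q26256 (flp_e L780883) q25066, e3 q26257 (flp_e L793177) q27485, e3 q26258 (flp_e L788110) q27008, e3 q26259 (flp_e L787558) q26966, e3 q26260 L793273 q27499, e3 q26261 (flp_e L780919) q25071, e3 q26262 L780930 q25512, e3 q26263 (flp_e L787522) q26963, e3 q26264 L793309 q27503, e3 q26265 (flp_e L780956) q25074, e3 q26266 L793315 q27504, e3 q26267 (flp_e L780966) q25076, e3 q26268 L793339 q27506, e3 q26269 L793356 q27508, e3 q26270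 L793371 q27510, e3 q26271 (flp_e L781004) q25080, e3 q26272 L793392 q27513, e3 q26273 (flp_e L781017) q25081, e3 q26274 L793404 q27515, e3 q26275 (flp_e L781028) q25082, e3 q26276 L781043 q25088, e3 q26277 L793429 q27519, e3 q26278 (flp_e L781051) q25084, e3 q26279 L793451 q27521, e3 q26280 (flp_e L781069) q25086, e3 q26281 (flp_e L790500) q27220, e3 q26282 (flp_e L793421) q27517, e3 q26283 L793501 q27526, e3 q26284 (flp_e L781105) q25089, e3 q26285 L793525 q27529, e3 q26286 (flp_e L781119) q25090, e3 q26287 L781129 q25552, e3 q26288 L793539 q27531, e3 q26289 (flp_e L781137) q25092, e3 q26290 L781147 q25104, e3 q26291 L781161 q25097, e3 q26292 (flp_e L781163) q25095, e3 q26293 (flp_e L793561) q27533, e3 q26294 L793587 q27537, e3 q26295 (flp_e L781189) q25098, e3 q26296 L793605 q27539, e3 q26297 (flp_e L781205) q25100, e3 q26298 (flp_e L792827) q27449, e3 q26299 (flp_e L781219) q25102, e3 q26300 (flp_e L793549) q27532, e3 q26301 (flp_e L793567) q27534, e3 q26302 (flp_e L781231) q25106, e3 q26303 (flp_e L781242) q25107, trivial⟩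 (by decide +kernel)

theorem ce_e_411 : ∀ r, r < 64 → sm ge (Qf (26304 + r)) = Qf (tab Gen.e (26304 + r)) :=
  edges_tab (sm ge) Qf (tab Gen.e) 26304 [(26304, 26304), (26305, 25117), (26306, 25110), (26307, 27551), (26308, 25112), (26309, 27547), (26310, 25115), (26311, 27447), (26312, 27549), (26313, 25126), (26314, 25125), (26315, 27445), (26316, 27450), (26317, 26813), (26318, 27438), (26319, 27448), (26320, 27558), (26321, 25128), (26322, 26322), (26323, 26323), (26324, 26324), (26325, 26325), (26326, 26326), (26327, 26327), (26328, 26328), (26329, 26329), (26330, 26330), (26331, 26331), (26332, 27243), (26333, 27569), (26334, 25144), (26335, 26335), (26336, 25153), (26337, 25167), (26338, 25166), (26339, 25352), (26340, 25407), (26341, 27570), (26342, 25164), (26343, 26755), (26344, 26768), (26345, 27576), (26346, 25157), (26347, 25381), (26348, 27579), (26349, 25159), (26350, 25271), (26351, 27582), (26352, 25161), (26353, 27584), (26354, 25162), (26355, 27573), (26356, 26761), (26357, 27571), (26358, 27587), (26359,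 25170), (26360, 25238), (26361, 25250), (26362, 25264), (26363, 25287), (26364, 27000), (26365, 27592), (26366, 25177), (26367, 27593)]
    ⟨e3 q26304 L781258 q26304, e3 q26305 L781269 q25117, e3 q26306 (flp_e L781271) q25110, e3 q26307 L793692 q27551, e3 q26308 (flp_e L781296) q25112, e3 q26309 (flp_e L793663) q27547, e3 q26310 (flp_e L781312) q25115, e3 q26311 (flp_e L792812) q27447, e3 q26312 (flp_e L793677) q27549, e3 q26313 L781351 q25126, e3 q26314 L781355 q25125, e3 q26315 (flp_e L792791) q27445, e3 q26316 (flp_e L792841) q27450, e3 q26317 (flp_e L785545) q26813, e3 q26318 (flp_e L792721) q27438, e3 q26319 (flp_e L792818) q27448, e3 q26320 (flp_e L793757) q27558, e3 q26321 (flp_e L781404) q25128, e3 q26322 L781428 q26322, e3 q26323 L781442 q26323, e3 q26324 L781447 q26324, e3 q26325 L781461 q26325, e3 q26326 L781466 q26326, e3 q26327 L781473 q26327, e3 q26328 L781483 q26328, e3 q26329 L781493 q26329, e3 q26330 L781507 q26330, e3 q26331 L781516 q26331, e3 q26332 (flp_e L790688) q27243, e3 q26333 L793867 q27569, e3 q26334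 (flp_e L781543) q25144, e3 q26335 L781567 q26335, e3 q26336 L781570 q25153, e3 q26337 L781586 q25167, e3 q26338 L781596 q25166, e3 q26339 L781610 q25352, e3 q26340 L781624 q25407, e3 q26341 (flp_e L793882) q27570, e3 q26342 L781644 q25164, e3 q26343 (flp_e L784701) q26755, e3 q26344 (flp_e L784900) q26768, e3 q26345 L793962 q27576, e3 q26346 (flp_e L781688) q25157, e3 q26347 L781706 q25381, e3 q26348 L794000 q27579, e3 q26349 (flp_e L781728) q25159, e3 q26350 L781747 q25271, e3 q26351 L794040 q27582, e3 q26352 (flp_e L781769) q25161, e3 q26353 L794064 q27584, e3 q26354 (flp_e L781791) q25162, e3 q26355 (flp_e L793930) q27573, e3 q26356 (flp_e L784784) q26761, e3 q26357 (flp_e L793898) q27571, e3 q26358 L794092 q27587, e3 q26359 (flp_e L781837) q25170, e3 q26360 L781849 q25238, e3 q26361 L781863 q25250, e3 q26362 L781879 q25264, e3 q26363 L781891 q25287, e3 q26364 (flp_e L787996) q27000, e3 q26365 L794156 q27592, e3 q26366 (flp_e L781919) q25177, e3 q26367 L794162 q27593, trivial⟩ (by decide +kernel)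

theorem ce_e_412 : ∀ r, r < 64 → sm ge (Qf (26368 + r)) = Qf (tab Gen.e (26368 + r)) :=
  edges_tab (sm ge) Qf (tab Gen.e) 26368 [(26368, 25179), (26369, 25286), (26370, 25318), (26371, 27596), (26372, 25184), (26373, 27598), (26374, 25185), (26375, 25507), (26376, 27600), (26377, 25189), (26378, 27602), (26379, 25190), (26380, 26380), (26381, 27605), (26382, 25192), (26383, 25530), (26384, 27608), (26385, 25194), (26386, 25218), (26387, 27611), (26388, 27613), (26389, 25197), (26390, 27616), (26391, 25198), (26392, 27618), (26393, 25199), (26394, 27324), (26395, 25220), (26396, 25431), (26397, 25531), (26398, 27623), (26399, 25204), (26400, 27626), (26401, 25205), (26402, 26805), (26403, 27629), (26404, 25208), (26405, 27631), (26406, 25209), (26407, 27325), (26408, 27634), (26409, 25211), (26410, 27635), (26411, 25213), (26412, 27321), (26413, 25444), (26414, 26414), (26415, 26415), (26416, 25227), (26417, 26417), (26418, 27640), (26419, 25232), (26420, 25233), (26421, 27643), (26422, 25235), (26423, 27645), (26424, 25236),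 (26425, 27588), (26426, 27647), (26427, 27649), (26428, 25240), (26429, 26429), (26430, 26878), (26431, 27653)]
    ⟨e3 q26368 (flp_e L781931) q25179, e3 q26369 L781939 q25286, e3 q26370 L781955 q25318, e3 q26371 L794190 q27596, e3 q26372 (flp_e L781967) q25184, e3 q26373 L794206 q27598, e3 q26374 (flp_e L781980) q25185, e3 q26375 L781992 q25507, e3 q26376 L794224 q27600, e3 q26377 (flp_e L782010) q25189, e3 q26378 L794248 q27602, e3 q26379 (flp_e L782034) q25190, e3 q26380 L782056 q26380, e3 q26381 L794276 q27605, e3 q26382 (flp_e L782063) q25192, e3 q26383 L782072 q25530, e3 q26384 L794298 q27608, e3 q26385 (flp_e L782080) q25194, e3 q26386 L782100 q25218, e3 q26387 L794326 q27611, e3 q26388 L794345 q27613, e3 q26389 (flp_e L782124) q25197, e3 q26390 L794379 q27616, e3 q26391 (flp_e L782148) q25198, e3 q26392 L794399 q27618, e3 q26393 (flp_e L782164) q25199, e3 q26394 (flp_e L791603) q27324, e3 q26395 L782188 q25220, e3 q26396 L782194 q25431, e3 q26397 L782208 q25531, e3 q26398 L794447 q27623, e3 q26399 (flp_e L782220)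 q25204, e3 q26400 L794471 q27626, e3 q26401 (flp_e L782236) q25205, e3 q26402 (flp_e L785433) q26805, e3 q26403 L794497 q27629, e3 q26404 (flp_e L782262) q25208, e3 q26405 L794517 q27631, e3 q26406 (flp_e L782279) q25209, e3 q26407 (flp_e L791609) q27325, e3 q26408 L794541 q27634, e3 q26409 (flp_e L782303) q25211, e3 q26410 L794547 q27635, e3 q26411 (flp_e L782317) q25213, e3 q26412 (flp_e L791570) q27321, e3 q26413 L782335 q25444, e3 q26414 L782351 q26414, e3 q26415 L782360 q26415, e3 q26416 (flp_e L782364) q25227, e3 q26417 L782378 q26417, e3 q26418 L794588 q27640, e3 q26419 (flp_e L782391) q25232, e3 q26420 (flp_e L782403) q25233, e3 q26421 L794618 q27643, e3 q26422 (flp_e L782424) q25235, e3 q26423 L794636 q27645, e3 q26424 (flp_e L782441) q25236, e3 q26425 (flp_e L794108) q27588, e3 q26426 L794652 q27647, e3 q26427 L794667 q27649, e3 q26428 (flp_e L782475) q25240, e3 q26429 L782490 q26429, e3 q26430 (flp_e L786421) q26878, e3 q26431 L794701 q27653, trivial⟩ (by decide +kernel)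

theorem ce_e_413 : ∀ r, r < 64 → sm ge (Qf (26432 + r)) = Qf (tab Gen.e (26432 + r)) :=
  edges_tab (sm ge) Qf (tab Gen.e) 26432 [(26432, 27655), (26433, 25244), (26434, 27657), (26435, 27659), (26436, 25247), (26437, 27661), (26438, 25248), (26439, 27589), (26440, 27663), (26441, 25251), (26442, 27012), (26443, 27666), (26444, 25253), (26445, 27287), (26446, 27669), (26447, 25256), (26448, 27671), (26449, 25257), (26450, 27286), (26451, 27674), (26452, 25260), (26453, 26862), (26454, 27280), (26455, 27677), (26456, 25265), (26457, 27680), (26458, 25266), (26459, 27678), (26460, 27683), (26461, 25269), (26462, 27580), (26463, 27686), (26464, 25272), (26465, 27688), (26466, 25273), (26467, 27690), (26468, 27692), (26469, 25276), (26470, 27694), (26471, 25277), (26472, 27697), (26473, 25278), (26474, 27446), (26475, 27701), (26476, 25280), (26477, 27702), (26478, 25282), (26479, 27424), (26480, 27444), (26481, 27594), (26482, 27706), (26483, 25288), (26484, 27018), (26485, 27709), (26486, 25290), (26487, 27711), (26488, 25291),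 (26489, 27713), (26490, 25292), (26491, 26956), (26492, 27716), (26493, 25295), (26494, 27717), (26495, 25297)]
    ⟨e3 q26432 L794722 q27655, e3 q26433 (flp_e L782521) q25244, e3 q26434 L794744 q27657, e3 q26435 L794763 q27659, e3 q26436 (flp_e L782551) q25247, e3 q26437 L794781 q27661, e3 q26438 (flp_e L782568) q25248, e3 q26439 (flp_e L794124) q27589, e3 q26440 L794795 q27663, e3 q26441 (flp_e L782592) q25251, e3 q26442 (flp_e L788154) q27012, e3 q26443 L794823 q27666, e3 q26444 (flp_e L782621) q25253, e3 q26445 (flp_e L791186) q27287, e3 q26446 L794847 q27669, e3 q26447 (flp_e L782643) q25256, e3 q26448 L794859 q27671, e3 q26449 (flp_e L782654) q25257, e3 q26450 (flp_e L791180) q27286, e3 q26451 L794878 q27674, e3 q26452 (flp_e L782676) q25260, e3 q26453 (flp_e L786181) q26862, e3 q26454 (flp_e L791116) q27280, e3 q26455 L794902 q27677, e3 q26456 (flp_e L782710) q25265, e3 q26457 L794917 q27680, e3 q26458 (flp_e L782719) q25266, e3 q26459 (flp_e L794909) q27678, e3 q26460 L794937 q27683, e3 q26461 (flp_e L782737) q25269,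 e3 q26462 (flp_e L794020) q27580, e3 q26463 L794958 q27686, e3 q26464 (flp_e L782757) q25272, e3 q26465 L794974 q27688, e3 q26466 (flp_e L782775) q25273, e3 q26467 L794996 q27690, e3 q26468 L795015 q27692, e3 q26469 (flp_e L782803) q25276, e3 q26470 L795029 q27694, e3 q26471 (flp_e L782816) q25277, e3 q26472 L795051 q27697, e3 q26473 (flp_e L782830) q25278, e3 q26474 (flp_e L792795) q27446, e3 q26475 L795083 q27701, e3 q26476 (flp_e L782856) q25280, e3 q26477 L795091 q27702, e3 q26478 (flp_e L782870) q25282, e3 q26479 (flp_e L792575) q27424, e3 q26480 (flp_e L792779) q27444, e3 q26481 (flp_e L794174) q27594, e3 q26482 L795119 q27706, e3 q26483 (flp_e L782910) q25288, e3 q26484 (flp_e L788206) q27018, e3 q26485 L795143 q27709, e3 q26486 (flp_e L782932) q25290, e3 q26487 L795155 q27711, e3 q26488 (flp_e L782943) q25291, e3 q26489 L795167 q27713, e3 q26490 (flp_e L782957) q25292, e3 q26491 (flp_e L787428) q26956, e3 q26492 L795195 q27716, e3 q26493 (flp_e L782983) q25295, e3 q26494 L795201 q27717, e3 q26495 (flp_e L782993) q25297,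 trivial⟩ (by decide +kernel)

theorem ce_e_414 : ∀ r, r < 64 → sm ge (Qf (26496 + r)) = Qf (tab Gen.e (26496 + r)) :=
  edges_tab (sm ge) Qf (tab Gen.e) 26496 [(26496, 27719), (26497, 25299), (26498, 27721), (26499, 25300), (26500, 27723), (26501, 25301), (26502, 27726), (26503, 25303), (26504, 27451), (26505, 27728), (26506, 25305), (26507, 27441), (26508, 27731), (26509, 25308), (26510, 27733), (26511, 25309), (26512, 27734), (26513, 25311), (26514, 25313), (26515, 27440), (26516, 26868), (26517, 26875), (26518, 25319), (26519, 26519), (26520, 26520), (26521, 25360), (26522, 25362), (26523, 27741), (26524, 25330), (26525, 27162), (26526, 25366), (26527, 27744), (26528, 27746), (26529, 25335), (26530, 27749), (26531, 25336), (26532, 26759), (26533, 25376), (26534, 25386), (26535, 27752), (26536, 27754), (26537, 25342), (26538, 27757), (26539, 25343), (26540, 27760), (26541, 25344), (26542, 27755), (26543, 27763), (26544, 25346), (26545, 25350), (26546, 27765), (26547, 25348), (26548, 27764), (26549, 27105), (26550, 27572),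 (26551, 26551), (26552, 27769), (26553, 25357), (26554, 27771), (26555, 25358), (26556, 27738), (26557, 27074), (26558, 27739), (26559, 27773)]
    ⟨e3 q26496 L795217 q27719, e3 q26497 (flp_e L783011) q25299, e3 q26498 L795233 q27721, e3 q26499 (flp_e L783026) q25300, e3 q26500 L795245 q27723, e3 q26501 (flp_e L783037) q25301, e3 q26502 L795258 q27726, e3 q26503 (flp_e L783047) q25303, e3 q26504 (flp_e L792851) q27451, e3 q26505 L795270 q27728, e3 q26506 (flp_e L783063) q25305, e3 q26507 (flp_e L792743) q27441, e3 q26508 L795288 q27731, e3 q26509 (flp_e L783081) q25308, e3 q26510 L795300 q27733, e3 q26511 (flp_e L783093) q25309, e3 q26512 L795306 q27734, e3 q26513 (flp_e L783105) q25311, e3 q26514 (flp_e L783109) q25313, e3 q26515 (flp_e L792737) q27440, e3 q26516 (flp_e L786271) q26868, e3 q26517 (flp_e L786378) q26875, e3 q26518 (flp_e L783129) q25319, e3 q26519 L783147 q26519, e3 q26520 L783150 q26520, e3 q26521 L783155 q25360, e3 q26522 L783169 q25362, e3 q26523 L795364 q27741, e3 q26524 (flp_e L783185) q25330, e3 q26525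 (flp_e L789949) q27162, e3 q26526 L783201 q25366, e3 q26527 L795386 q27744, e3 q26528 L795399 q27746, e3 q26529 (flp_e L783219) q25335, e3 q26530 L795416 q27749, e3 q26531 (flp_e L783230) q25336, e3 q26532 (flp_e L784763) q26759, e3 q26533 L783246 q25376, e3 q26534 L783252 q25386, e3 q26535 L795442 q27752, e3 q26536 L795457 q27754, e3 q26537 (flp_e L783274) q25342, e3 q26538 L795478 q27757, e3 q26539 (flp_e L783287) q25343, e3 q26540 L795498 q27760, e3 q26541 (flp_e L783301) q25344, e3 q26542 (flp_e L795468) q27755, e3 q26543 L795516 q27763, e3 q26544 (flp_e L783319) q25346, e3 q26545 L783327 q25350, e3 q26546 L795526 q27765, e3 q26547 (flp_e L783333) q25348, e3 q26548 (flp_e L795524) q27764, e3 q26549 (flp_e L789337) q27105, e3 q26550 (flp_e L793914) q27572, e3 q26551 L783362 q26551, e3 q26552 L795552 q27769, e3 q26553 (flp_e L783373) q25357, e3 q26554 L795570 q27771, e3 q26555 (flp_e L783388) q25358, e3 q26556 (flp_e L795330) q27738, e3 q26557 (flp_e L788938) q27074, e3 q26558 (flp_e L795346) q27739, e3 q26559 L795584 q27773,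 trivial⟩ (by decide +kernel)

theorem ce_e_415 : ∀ r, r < 64 → sm ge (Qf (26560 + r)) = Qf (tab Gen.e (26560 + r)) :=
  edges_tab (sm ge) Qf (tab Gen.e) 26560 [(26560, 25363), (26561, 26752), (26562, 27776), (26563, 25367), (26564, 27778), (26565, 25370), (26566, 27780), (26567, 25371), (26568, 27782), (26569, 25373), (26570, 26754), (26571, 27785), (26572, 25377), (26573, 27787), (26574, 25379), (26575, 27577), (26576, 27789), (26577, 25382), (26578, 27790), (26579, 25384), (26580, 27792), (26581, 25387), (26582, 27794), (26583, 25389), (26584, 27149), (26585, 27796), (26586, 25392), (26587, 26769), (26588, 27799), (26589, 25395), (26590, 27800), (26591, 25397), (26592, 26763), (26593, 27802), (26594, 25400), (26595, 25402), (26596, 27232), (26597, 27098), (26598, 26762), (26599, 27806), (26600, 25408), (26601, 25454), (26602, 25457), (26603, 25475), (26604, 25480), (26605, 25484), (26606, 27278), (26607, 27810), (26608, 25417), (26609, 27313), (26610, 27813), (26611, 25419), (26612, 27815), (26613, 25420), (26614, 25517),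 (26615, 27818), (26616, 25423), (26617, 27289), (26618, 27821), (26619, 25425), (26620, 27301), (26621, 27824), (26622, 25427), (26623, 27318)]
    ⟨e3 q26560 (flp_e L783422) q25363, e3 q26561 (flp_e L784649) q26752, e3 q26562 L795600 q27776, e3 q26563 (flp_e L783438) q25367, e3 q26564 L795614 q27778, e3 q26565 (flp_e L783450) q25370, e3 q26566 L795626 q27780, e3 q26567 (flp_e L783461) q25371, e3 q26568 L795635 q27782, e3 q26569 (flp_e L783473) q25373, e3 q26570 (flp_e L784683) q26754, e3 q26571 L795653 q27785, e3 q26572 (flp_e L783491) q25377, e3 q26573 L795667 q27787, e3 q26574 (flp_e L783505) q25379, e3 q26575 (flp_e L793980) q27577, e3 q26576 L795679 q27789, e3 q26577 (flp_e L783523) q25382, e3 q26578 L795687 q27790, e3 q26579 (flp_e L783535) q25384, e3 q26580 L795697 q27792, e3 q26581 (flp_e L783543) q25387, e3 q26582 L795707 q27794, e3 q26583 (flp_e L783555) q25389, e3 q26584 (flp_e L789787) q27149, e3 q26585 L795721 q27796, e3 q26586 (flp_e L783571) q25392, e3 q26587 (flp_e L784918) q26769, e3 q26588 L795739 q27799,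 e3 q26589 (flp_e L783587) q25395, e3 q26590 L795745 q27800, e3 q26591 (flp_e L783599) q25397, e3 q26592 (flp_e L784820) q26763, e3 q26593 L795757 q27802, e3 q26594 (flp_e L783617) q25400, e3 q26595 (flp_e L783625) q25402, e3 q26596 (flp_e L790582) q27232, e3 q26597 (flp_e L789253) q27098, e3 q26598 (flp_e L784802) q26762, e3 q26599 L795777 q27806, e3 q26600 (flp_e L783649) q25408, e3 q26601 L783658 q25454, e3 q26602 L783664 q25457, e3 q26603 L783672 q25475, e3 q26604 L783678 q25480, e3 q26605 L783686 q25484, e3 q26606 (flp_e L791078) q27278, e3 q26607 L795807 q27810, e3 q26608 (flp_e L783706) q25417, e3 q26609 (flp_e L791476) q27313, e3 q26610 L795827 q27813, e3 q26611 (flp_e L783723) q25419, e3 q26612 L795839 q27815, e3 q26613 (flp_e L783736) q25420, e3 q26614 L783744 q25517, e3 q26615 L795860 q27818, e3 q26616 (flp_e L783756) q25423, e3 q26617 (flp_e L791212) q27289, e3 q26618 L795880 q27821, e3 q26619 (flp_e L783778) q25425, e3 q26620 (flp_e L791331) q27301, e3 q26621 L795902 q27824, e3 q26622 (flp_e L783799) q25427, e3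 q26623 (flp_e L791534) q27318, trivial⟩ (by decide +kernel)

theorem ce_e_416 : ∀ r, r < 64 → sm ge (Qf (26624 + r)) = Qf (tab Gen.e (26624 + r)) :=
  edges_tab (sm ge) Qf (tab Gen.e) 26624 [(26624, 27091), (26625, 27621), (26626, 27827), (26627, 25433), (26628, 27271), (26629, 27830), (26630, 25435), (26631, 27290), (26632, 27832), (26633, 25438), (26634, 27310), (26635, 27834), (26636, 25441), (26637, 27836), (26638, 25446), (26639, 27279), (26640, 27275), (26641, 27407), (26642, 27839), (26643, 25452), (26644, 27807), (26645, 27413), (26646, 27416), (26647, 26997), (26648, 27425), (26649, 27426), (26650, 27429), (26651, 27430), (26652, 27846), (26653, 25464), (26654, 27848), (26655, 25466), (26656, 27850), (26657, 25467), (26658, 27641), (26659, 27853), (26660, 25470), (26661, 27855), (26662, 25471), (26663, 27856), (26664, 25473), (26665, 27858), (26666, 25476), (26667, 27328), (26668, 27861), (26669, 25478), (26670, 27808), (26671, 25546), (26672, 27334), (26673, 27339), (26674, 26953), (26675, 27867), (26676, 25486),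 (26677, 27869), (26678, 25487), (26679, 27347), (26680, 27872), (26681, 25489), (26682, 27348), (26683, 27875), (26684, 27877), (26685, 25493), (26686, 27880), (26687, 25494)]
    ⟨e3 q26624 (flp_e L789164) q27091, e3 q26625 (flp_e L794427) q27621, e3 q26626 L795926 q27827, e3 q26627 (flp_e L783837) q25433, e3 q26628 (flp_e L790998) q27271, e3 q26629 L795956 q27830, e3 q26630 (flp_e L783866) q25435, e3 q26631 (flp_e L791228) q27290, e3 q26632 L795968 q27832, e3 q26633 (flp_e L783880) q25438, e3 q26634 (flp_e L791435) q27310, e3 q26635 L795977 q27834, e3 q26636 (flp_e L783896) q25441, e3 q26637 L795987 q27836, e3 q26638 (flp_e L783904) q25446, e3 q26639 (flp_e L791096) q27279, e3 q26640 (flp_e L791044) q27275, e3 q26641 (flp_e L792398) q27407, e3 q26642 L796005 q27839, e3 q26643 (flp_e L783934) q25452, e3 q26644 (flp_e L795787) q27807, e3 q26645 (flp_e L792455) q27413, e3 q26646 (flp_e L792497) q27416, e3 q26647 (flp_e L787956) q26997, e3 q26648 (flp_e L792579) q27425, e3 q26649 (flp_e L792593) q27426, e3 q26650 (flp_e L792623)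 q27429, e3 q26651 (flp_e L792635) q27430, e3 q26652 L796044 q27846, e3 q26653 (flp_e L783990) q25464, e3 q26654 L796058 q27848, e3 q26655 (flp_e L784004) q25466, e3 q26656 L796068 q27850, e3 q26657 (flp_e L784016) q25467, e3 q26658 (flp_e L794606) q27641, e3 q26659 L796084 q27853, e3 q26660 (flp_e L784028) q25470, e3 q26661 L796096 q27855, e3 q26662 (flp_e L784040) q25471, e3 q26663 L796102 q27856, e3 q26664 (flp_e L784050) q25473, e3 q26665 L796114 q27858, e3 q26666 (flp_e L784062) q25476, e3 q26667 (flp_e L791647) q27328, e3 q26668 L796134 q27861, e3 q26669 (flp_e L784081) q25478, e3 q26670 (flp_e L795795) q27808, e3 q26671 L784095 q25546, e3 q26672 (flp_e L791708) q27334, e3 q26673 (flp_e L791770) q27339, e3 q26674 (flp_e L787392) q26953, e3 q26675 L796171 q27867, e3 q26676 (flp_e L784125) q25486, e3 q26677 L796183 q27869, e3 q26678 (flp_e L784135) q25487, e3 q26679 (flp_e L791840) q27347, e3 q26680 L796203 q27872, e3 q26681 (flp_e L784156) q25489, e3 q26682 (flp_e L791856) q27348, e3 q26683 L796227 q27875, e3 q26684 L796242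 q27877, e3 q26685 (flp_e L784182) q25493, e3 q26686 L796263 q27880, e3 q26687 (flp_e L784197) q25494, trivial⟩ (by decide +kernel)

theorem ce_e_417 : ∀ r, r < 64 → sm ge (Qf (26688 + r)) = Qf (tab Gen.e (26688 + r)) :=
  edges_tab (sm ge) Qf (tab Gen.e) 26688 [(26688, 27882), (26689, 25495), (26690, 27353), (26691, 27354), (26692, 27886), (26693, 25499), (26694, 27888), (26695, 25500), (26696, 26845), (26697, 27889), (26698, 25502), (26699, 26879), (26700, 26886), (26701, 27892), (26702, 25510), (26703, 27500), (26704, 27895), (26705, 25513), (26706, 27897), (26707, 25515), (26708, 27893), (26709, 27901), (26710, 25518), (26711, 25547), (26712, 25538), (26713, 27903), (26714, 25522), (26715, 25527), (26716, 25528), (26717, 25525), (26718, 27904), (26719, 27905), (26720, 26889), (26721, 27606), (26722, 27011), (26723, 27009), (26724, 27911), (26725, 25534), (26726, 27912), (26727, 25536), (26728, 27530), (26729, 27916), (26730, 25539), (26731, 27919), (26732, 25540), (26733, 27511), (26734, 27921), (26735, 25542), (26736,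 27922), (26737, 25544), (26738, 25548), (26739, 27863), (26740, 27923), (26741, 27527), (26742, 27925), (26743, 25550), (26744, 25553), (26745, 25557), (26746, 27926), (26747, 26890), (26748, 26748), (26749, 27928), (26750, 25567), (26751, 25584)]
    ⟨e3 q26688 L796277 q27882, e3 q26689 (flp_e L784210) q25495, e3 q26690 (flp_e L791909) q27353, e3 q26691 (flp_e L791923) q27354, e3 q26692 L796300 q27886, e3 q26693 (flp_e L784234) q25499, e3 q26694 L796318 q27888, e3 q26695 (flp_e L784250) q25500, e3 q26696 (flp_e L785948) q26845, e3 q26697 L796326 q27889, e3 q26698 (flp_e L784272) q25502, e3 q26699 (flp_e L786435) q26879, e3 q26700 (flp_e L786538) q26886, e3 q26701 L796344 q27892, e3 q26702 (flp_e L784296) q25510, e3 q26703 (flp_e L793285) q27500, e3 q26704 L796359 q27895, e3 q26705 (flp_e L784312) q25513, e3 q26706 L796370 q27897, e3 q26707 (flp_e L784322) q25515, e3 q26708 (flp_e L796351) q27893, e3 q26709 L796391 q27901, e3 q26710 (flp_e L784339) q25518, e3 q26711 L784353 q25547, e3 q26712 L784363 q25538, e3 q26713 L796411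 q27903, e3 q26714 (flp_e L784377) q25522, e3 q26715 L784391 q25527, e3 q26716 L784399 q25528, e3 q26717 (flp_e L784403) q25525, e3 q26718 (flp_e L796427) q27904, e3 q26719 (flp_e L796433) q27905, e3 q26720 (flp_e L786577) q26889, e3 q26721 (flp_e L794286) q27606, e3 q26722 (flp_e L788146) q27011, e3 q26723 (flp_e L788126) q27009, e3 q26724 L796473 q27911, e3 q26725 (flp_e L784453) q25534, e3 q26726 L796481 q27912, e3 q26727 (flp_e L784465) q25536, e3 q26728 (flp_e L793537) q27530, e3 q26729 L796505 q27916, e3 q26730 (flp_e L784483) q25539, e3 q26731 L796525 q27919, e3 q26732 (flp_e L784497) q25540, e3 q26733 (flp_e L793384) q27511, e3 q26734 L796539 q27921, e3 q26735 (flp_e L784517) q25542, e3 q26736 L796545 q27922, e3 q26737 (flp_e L784529) q25544, e3 q26738 L784541 q25548, e3 q26739 (flp_e L796149) q27863, e3 q26740 (flp_e L796557) q27923, e3 q26741 (flp_e L793515) q27527, e3 q26742 L796565 q27925, e3 q26743 (flp_e L784565) q25550, e3 q26744 (flp_e L784571) q25553, e3 q26745 L784579 q25557, e3 q26746 (flp_e L796575) q27926,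 e3 q26747 (flp_e L786589) q26890, e3 q26748 L784594 q26748, e3 q26749 L796593 q27928, e3 q26750 (flp_e L784611) q25567, e3 q26751 L784633 q25584, trivial⟩ (by decide +kernel)

theorem ce_e_418 : ∀ r, r < 64 → sm ge (Qf (26752 + r)) = Qf (tab Gen.e (26752 + r)) :=
  edges_tab (sm ge) Qf (tab Gen.e) 26752 [(26752, 26561), (26753, 25586), (26754, 26570), (26755, 26343), (26756, 27935), (26757, 25574), (26758, 25593), (26759, 26532), (26760, 26760), (26761, 26356), (26762, 26598), (26763, 26592), (26764, 27942), (26765, 25582), (26766, 27929), (26767, 27931), (26768, 26344), (26769, 26587), (26770, 27945), (26771, 25589), (26772, 27946), (26773, 25591), (26774, 25980), (26775, 25902), (26776, 25979), (26777, 25676), (26778, 27952), (26779, 25717), (26780, 27955), (26781, 27956), (26782, 25600), (26783, 27959), (26784, 27961), (26785, 27963), (26786, 25603), (26787, 26787), (26788, 27967), (26789, 25605), (26790, 25730), (26791, 25733), (26792, 27971), (26793, 27973), (26794, 25609), (26795, 25622), (26796, 27977), (26797, 27979),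 (26798, 25612), (26799, 25743), (26800, 27982), (26801, 27984), (26802, 25615), (26803, 27987), (26804, 25616), (26805, 26402), (26806, 27990), (26807, 25619), (26808, 25760), (26809, 27975), (26810, 27992), (26811, 25623), (26812, 25624), (26813, 26317), (26814, 25769), (26815, 27998)]
    ⟨e3 q26752 L784649 q26561, e3 q26753 L784667 q25586, e3 q26754 L784683 q26570, e3 q26755 L784701 q26343, e3 q26756 L796713 q27935, e3 q26757 (flp_e L784723) q25574, e3 q26758 L784741 q25593, e3 q26759 L784763 q26532, e3 q26760 L784773 q26760, e3 q26761 L784784 q26356, e3 q26762 L784802 q26598, e3 q26763 L784820 q26592, e3 q26764 L796833 q27942, e3 q26765 (flp_e L784850) q25582, e3 q26766 (flp_e L796617) q27929, e3 q26767 (flp_e L796653) q27931, e3 q26768 L784900 q26344, e3 q26769 L784918 q26587, e3 q26770 L796883 q27945, e3 q26771 (flp_e L784946) q25589, e3 q26772 L796901 q27946, e3 q26773 (flp_e L784978) q25591, e3 q26774 L785000 q25980, e3 q26775 L785016 q25902, e3 q26776 L785026 q25979, e3 q26777 L785042 q25676, e3 q26778 L796989 q27952,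 e3 q26779 L785069 q25717, e3 q26780 L797038 q27955, e3 q26781 L797054 q27956, e3 q26782 (flp_e L785113) q25600, e3 q26783 L797097 q27959, e3 q26784 L797128 q27961, e3 q26785 L797153 q27963, e3 q26786 (flp_e L785170) q25603, e3 q26787 L785193 q26787, e3 q26788 L797201 q27967, e3 q26789 (flp_e L785206) q25605, e3 q26790 L785223 q25730, e3 q26791 L785237 q25733, e3 q26792 L797263 q27971, e3 q26793 L797292 q27973, e3 q26794 (flp_e L785281) q25609, e3 q26795 L785308 q25622, e3 q26796 L797353 q27977, e3 q26797 L797381 q27979, e3 q26798 (flp_e L785338) q25612, e3 q26799 L785354 q25743, e3 q26800 L797421 q27982, e3 q26801 L797446 q27984, e3 q26802 (flp_e L785388) q25615, e3 q26803 L797483 q27987, e3 q26804 (flp_e L785411) q25616, e3 q26805 L785433 q26402, e3 q26806 L797523 q27990, e3 q26807 (flp_e L785449) q25619, e3 q26808 L785465 q25760, e3 q26809 (flp_e L797328) q27975, e3 q26810 L797549 q27992, e3 q26811 (flp_e L785505) q25623, e3 q26812 (flp_e L785518) q25624, e3 q26813 L785545 q26317, e3 q26814 L785551 q25769, e3 q26815 L797641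 q27998, trivial⟩ (by decide +kernel)

theorem ce_e_419 : ∀ r, r < 64 → sm ge (Qf (26816 + r)) = Qf (tab Gen.e (26816 + r)) :=
  edges_tab (sm ge) Qf (tab Gen.e) 26816 [(26816, 25628), (26817, 28001), (26818, 25629), (26819, 27999), (26820, 25657), (26821, 28005), (26822, 25632), (26823, 28008), (26824, 25633), (26825, 25784), (26826, 28011), (26827, 28013), (26828, 25637), (26829, 28015), (26830, 25638), (26831, 28017), (26832, 28019), (26833, 25641), (26834, 28022), (26835, 25642), (26836, 28025), (26837, 25643), (26838, 28020), (26839, 28029), (26840, 25645), (26841, 25649), (26842, 28032), (26843, 25647), (26844, 28031), (26845, 26696), (26846, 28035), (26847, 25651), (26848, 28030), (26849, 25654), (26850, 25656), (26851, 28039), (26852, 25658), (26853, 26853), (26854, 28038), (26855, 25663), (26856, 28041), (26857, 26857), (26858, 26858), (26859, 25669), (26860, 26860), (26861, 26145), (26862, 26453), (26863, 27950), (26864, 28048), (26865, 25925), (26866, 28051), (26867, 25679), (26868, 26516), (26869, 28054), (26870,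 25682), (26871, 28056), (26872, 25683), (26873, 28058), (26874, 25685), (26875, 26517), (26876, 28060), (26877, 25688), (26878, 26430), (26879, 26699)]
    ⟨e3 q26816 (flp_e L785577) q25628, e3 q26817 L797683 q28001, e3 q26818 (flp_e L785603) q25629, e3 q26819 (flp_e L797667) q27999, e3 q26820 L785637 q25657, e3 q26821 L797735 q28005, e3 q26822 (flp_e L785657) q25632, e3 q26823 L797773 q28008, e3 q26824 (flp_e L785679) q25633, e3 q26825 L785695 q25784, e3 q26826 L797813 q28011, e3 q26827 L797845 q28013, e3 q26828 (flp_e L785731) q25637, e3 q26829 L797877 q28015, e3 q26830 (flp_e L785761) q25638, e3 q26831 L797909 q28017, e3 q26832 L797938 q28019, e3 q26833 (flp_e L785807) q25641, e3 q26834 L797975 q28022, e3 q26835 (flp_e L785832) q25642, e3 q26836 L798013 q28025, e3 q26837 (flp_e L785854) q25643, e3 q26838 (flp_e L797961) q28020, e3 q26839 L798067 q28029, e3 q26840 (flp_e L785892) q25645, e3 q26841 L785912 q25649, e3 q26842 L798105 q28032, e3 q26843 (flp_e L785924) q25647, e3 q26844 (flp_e L798101) q28031, e3 q26845 L785948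 q26696, e3 q26846 L798139 q28035, e3 q26847 (flp_e L785966) q25651, e3 q26848 (flp_e L798087) q28030, e3 q26849 (flp_e L785986) q25654, e3 q26850 L786014 q25656, e3 q26851 (flp_e L798195) q28039, e3 q26852 (flp_e L786032) q25658, e3 q26853 L786060 q26853, e3 q26854 (flp_e L798183) q28038, e3 q26855 L786087 q25663, e3 q26856 (flp_e L798222) q28041, e3 q26857 L786109 q26857, e3 q26858 L786120 q26858, e3 q26859 (flp_e L786128) q25669, e3 q26860 L786158 q26860, e3 q26861 L786163 q26145, e3 q26862 L786181 q26453, e3 q26863 (flp_e L796965) q27950, e3 q26864 L798327 q28048, e3 q26865 L786229 q25925, e3 q26866 L798372 q28051, e3 q26867 (flp_e L786253) q25679, e3 q26868 L786271 q26516, e3 q26869 L798418 q28054, e3 q26870 (flp_e L786297) q25682, e3 q26871 L798448 q28056, e3 q26872 (flp_e L786326) q25683, e3 q26873 L798480 q28058, e3 q26874 (flp_e L786356) q25685, e3 q26875 L786378 q26517, e3 q26876 L798514 q28060, e3 q26877 (flp_e L786400) q25688, e3 q26878 L786421 q26430, e3 q26879 L786435 q26699, trivial⟩ (by decide +kernel)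

theorem ce_e_420 : ∀ r, r < 64 → sm ge (Qf (26880 + r)) = Qf (tab Gen.e (26880 + r)) :=
  edges_tab (sm ge) Qf (tab Gen.e) 26880 [(26880, 28064), (26881, 25691), (26882, 28066), (26883, 25692), (26884, 28068), (26885, 25694), (26886, 26700), (26887, 28070), (26888, 25697), (26889, 26720), (26890, 26747), (26891, 28072), (26892, 25700), (26893, 28074), (26894, 25702), (26895, 28076), (26896, 25703), (26897, 28077), (26898, 25705), (26899, 28079), (26900, 25710), (26901, 28082), (26902, 28084), (26903, 28086), (26904, 25713), (26905, 26905), (26906, 28090), (26907, 28092), (26908, 25716), (26909, 27953), (26910, 28095), (26911, 25719), (26912, 28097), (26913, 25720), (26914, 25721), (26915, 26915), (26916, 28101), (26917, 25723), (26918, 28104), (26919, 25724), (26920, 28107), (26921, 25725), (26922, 28105), (26923, 26923), (26924, 28111), (26925, 25728), (26926, 27968), (26927, 28114), (26928, 28116), (26929, 25732), (26930, 27969), (26931, 28119), (26932, 25734), (26933, 28121), (26934, 25736), (26935, 28123), (26936, 25737),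 (26937, 26194), (26938, 28126), (26939, 25740), (26940, 28129), (26941, 25741), (26942, 27980), (26943, 28132)]
    ⟨e3 q26880 L798576 q28064, e3 q26881 (flp_e L786459) q25691, e3 q26882 L798608 q28066, e3 q26883 (flp_e L786490) q25692, e3 q26884 L798640 q28068, e3 q26885 (flp_e L786520) q25694, e3 q26886 L786538 q26700, e3 q26887 L798668 q28070, e3 q26888 (flp_e L786560) q25697, e3 q26889 L786577 q26720, e3 q26890 L786589 q26747, e3 q26891 L798696 q28072, e3 q26892 (flp_e L786615) q25700, e3 q26893 L798730 q28074, e3 q26894 (flp_e L786647) q25702, e3 q26895 L798764 q28076, e3 q26896 (flp_e L786679) q25703, e3 q26897 L798780 q28077, e3 q26898 (flp_e L786707) q25705, e3 q26899 L798810 q28079, e3 q26900 (flp_e L786735) q25710, e3 q26901 L798854 q28082, e3 q26902 L798885 q28084, e3 q26903 L798910 q28086, e3 q26904 (flp_e L786792) q25713, e3 q26905 L786815 q26905, e3 q26906 L798962 q28090, e3 q26907 L798989 q28092, e3 q26908 (flp_e L786844) q25716, e3 q26909 (flp_e L797010) q27953, e3 q26910 L799029 q28095, e3 q26911 (flp_e L786885)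 q25719, e3 q26912 L799055 q28097, e3 q26913 (flp_e L786906) q25720, e3 q26914 (flp_e L786916) q25721, e3 q26915 L786932 q26915, e3 q26916 L799091 q28101, e3 q26917 (flp_e L786947) q25723, e3 q26918 L799124 q28104, e3 q26919 (flp_e L786970) q25724, e3 q26920 L799155 q28107, e3 q26921 (flp_e L786987) q25725, e3 q26922 (flp_e L799143) q28105, e3 q26923 L787011 q26923, e3 q26924 L799195 q28111, e3 q26925 (flp_e L787029) q25728, e3 q26926 (flp_e L797219) q27968, e3 q26927 L799230 q28114, e3 q26928 L799257 q28116, e3 q26929 (flp_e L787075) q25732, e3 q26930 (flp_e L797233) q27969, e3 q26931 L799295 q28119, e3 q26932 (flp_e L787114) q25734, e3 q26933 L799323 q28121, e3 q26934 (flp_e L787142) q25736, e3 q26935 L799349 q28123, e3 q26936 (flp_e L787167) q25737, e3 q26937 L787191 q26194, e3 q26938 L799383 q28126, e3 q26939 (flp_e L787205) q25740, e3 q26940 L799423 q28129, e3 q26941 (flp_e L787231) q25741, e3 q26942 (flp_e L797397) q27980, e3 q26943 L799463 q28132, trivial⟩ (by decide +kernel)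

theorem ce_e_421 : ∀ r, r < 64 → sm ge (Qf (26944 + r)) = Qf (tab Gen.e (26944 + r)) :=
  edges_tab (sm ge) Qf (tab Gen.e) 26944 [(26944, 25744), (26945, 28134), (26946, 25745), (26947, 26241), (26948, 28137), (26949, 25748), (26950, 28139), (26951, 25749), (26952, 26238), (26953, 26674), (26954, 28143), (26955, 25752), (26956, 26491), (26957, 28146), (26958, 25755), (26959, 28148), (26960, 25756), (26961, 28149), (26962, 25758), (26963, 26263), (26964, 26964), (26965, 26163), (26966, 26259), (26967, 28155), (26968, 28157), (26969, 25766), (26970, 28160), (26971, 25767), (26972, 27996), (26973, 28163), (26974, 25770), (26975, 28165), (26976, 25772), (26977, 25785), (26978, 28167), (26979, 25775), (26980, 26195), (26981, 26146), (26982, 28171), (26983, 25779), (26984, 28173), (26985, 25780), (26986, 28158), (26987, 28175), (26988, 25782), (26989, 26164), (26990, 28166), (26991, 28179), (26992, 25786), (26993, 28181), (26994, 25788), (26995, 28183), (26996, 25789), (26997, 26647), (26998, 28185), (26999, 25792), (27000, 26364),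 (27001, 28188), (27002, 25795), (27003, 28189), (27004, 25797), (27005, 26184), (27006, 26183), (27007, 26233)]
    ⟨e3 q26944 (flp_e L787265) q25744, e3 q26945 L799493 q28134, e3 q26946 (flp_e L787294) q25745, e3 q26947 L787312 q26241, e3 q26948 L799539 q28137, e3 q26949 (flp_e L787340) q25748, e3 q26950 L799561 q28139, e3 q26951 (flp_e L787363) q25749, e3 q26952 L787384 q26238, e3 q26953 L787392 q26674, e3 q26954 L799608 q28143, e3 q26955 (flp_e L787412) q25752, e3 q26956 L787428 q26491, e3 q26957 L799644 q28146, e3 q26958 (flp_e L787448) q25755, e3 q26959 L799678 q28148, e3 q26960 (flp_e L787480) q25756, e3 q26961 L799694 q28149, e3 q26962 (flp_e L787504) q25758, e3 q26963 L787522 q26263, e3 q26964 L787537 q26964, e3 q26965 L787550 q26163, e3 q26966 L787558 q26259, e3 q26967 L799770 q28155, e3 q26968 L799799 q28157, e3 q26969 (flp_e L787591) q25766, e3 q26970 L799832 q28160, e3 q26971 (flp_e L787610) q25767, e3 q26972 (flp_e L797615) q27996, e3 q26973 L799867 q28163, e3 q26974 (flp_e L787644) q25770, e3 q26975 L799897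 q28165, e3 q26976 (flp_e L787674) q25772, e3 q26977 L787696 q25785, e3 q26978 L799925 q28167, e3 q26979 (flp_e L787712) q25775, e3 q26980 L787730 q26195, e3 q26981 L787740 q26146, e3 q26982 L799971 q28171, e3 q26983 (flp_e L787760) q25779, e3 q26984 L800001 q28173, e3 q26985 (flp_e L787788) q25780, e3 q26986 (flp_e L799820) q28158, e3 q26987 L800025 q28175, e3 q26988 (flp_e L787826) q25782, e3 q26989 L787846 q26164, e3 q26990 (flp_e L799921) q28166, e3 q26991 L800079 q28179, e3 q26992 (flp_e L787878) q25786, e3 q26993 L800109 q28181, e3 q26994 (flp_e L787908) q25788, e3 q26995 L800141 q28183, e3 q26996 (flp_e L787940) q25789, e3 q26997 L787956 q26647, e3 q26998 L800175 q28185, e3 q26999 (flp_e L787978) q25792, e3 q27000 L787996 q26364, e3 q27001 L800211 q28188, e3 q27002 (flp_e L788012) q25795, e3 q27003 L800225 q28189, e3 q27004 (flp_e L788042) q25797, e3 q27005 L788068 q26184, e3 q27006 L788078 q26183, e3 q27007 L788092 q26233, trivial⟩ (by decide +kernel)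

theorem ce_e_422 : ∀ r, r < 64 → sm ge (Qf (27008 + r)) = Qf (tab Gen.e (27008 + r)) :=
  edges_tab (sm ge) Qf (tab Gen.e) 27008 [(27008, 26258), (27009, 26723), (27010, 25803), (27011, 26722), (27012, 26442), (27013, 28197), (27014, 25807), (27015, 28198), (27016, 25809), (27017, 25811), (27018, 26484), (27019, 26148), (27020, 26156), (27021, 26198), (27022, 25923), (27023, 25873), (27024, 25879), (27025, 25888), (27026, 28208), (27027, 25826), (27028, 28210), (27029, 25828), (27030, 25898), (27031, 25900), (27032, 25904), (27033, 28215), (27034, 25833), (27035, 28217), (27036, 25835), (27037, 25916), (27038, 28219), (27039, 28221), (27040, 28223), (27041, 25840), (27042, 27042), (27043, 28226), (27044, 25842), (27045, 25937), (27046, 25945), (27047, 28230), (27048, 25845), (27049, 28232), (27050, 25847), (27051, 28235), (27052, 25848), (27053, 25875), (27054, 28238), (27055, 25851), (27056, 28240), (27057, 25852), (27058, 25962), (27059, 25887), (27060, 25966), (27061, 25978), (27062, 28244), (27063, 25859), (27064, 28246),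 (27065, 25861), (27066, 28247), (27067, 25863), (27068, 25903), (27069, 28250), (27070, 25866), (27071, 28251)]
    ⟨e3 q27008 L788110 q26258, e3 q27009 L788126 q26723, e3 q27010 (flp_e L788136) q25803, e3 q27011 L788146 q26722, e3 q27012 L788154 q26442, e3 q27013 L800337 q28197, e3 q27014 (flp_e L788170) q25807, e3 q27015 L800349 q28198, e3 q27016 (flp_e L788188) q25809, e3 q27017 (flp_e L788196) q25811, e3 q27018 L788206 q26484, e3 q27019 L788214 q26148, e3 q27020 L788232 q26156, e3 q27021 L788240 q26198, e3 q27022 L788254 q25923, e3 q27023 L788264 q25873, e3 q27024 L788282 q25879, e3 q27025 L788298 q25888, e3 q27026 L800483 q28208, e3 q27027 (flp_e L788326) q25826, e3 q27028 L800515 q28210, e3 q27029 (flp_e L788358) q25828, e3 q27030 L788378 q25898, e3 q27031 L788392 q25900, e3 q27032 L788410 q25904, e3 q27033 L800593 q28215, e3 q27034 (flp_e L788430) q25833, e3 q27035 L800625 q28217, e3 q27036 (flp_e L788460) q25835, e3 q27037 L788478 q25916, e3 q27038 L800657 q28219, e3 q27039 L800688 q28221, e3 q27040 L800711 q28223,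 e3 q27041 (flp_e L788528) q25840, e3 q27042 L788547 q27042, e3 q27043 L800745 q28226, e3 q27044 (flp_e L788562) q25842, e3 q27045 L788579 q25937, e3 q27046 L788591 q25945, e3 q27047 L800801 q28230, e3 q27048 (flp_e L788617) q25845, e3 q27049 L800833 q28232, e3 q27050 (flp_e L788647) q25847, e3 q27051 L800870 q28235, e3 q27052 (flp_e L788668) q25848, e3 q27053 L788690 q25875, e3 q27054 L800912 q28238, e3 q27055 (flp_e L788710) q25851, e3 q27056 L800936 q28240, e3 q27057 (flp_e L788734) q25852, e3 q27058 L788744 q25962, e3 q27059 L788764 q25887, e3 q27060 L788772 q25966, e3 q27061 L788788 q25978, e3 q27062 L800990 q28244, e3 q27063 (flp_e L788804) q25859, e3 q27064 L801020 q28246, e3 q27065 (flp_e L788832) q25861, e3 q27066 L801036 q28247, e3 q27067 (flp_e L788856) q25863, e3 q27068 L788876 q25903, e3 q27069 L801072 q28250, e3 q27070 (flp_e L788890) q25866, e3 q27071 L801088 q28251, trivial⟩ (by decide +kernel)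

theorem ce_e_423 : ∀ r, r < 64 → sm ge (Qf (27072 + r)) = Qf (tab Gen.e (27072 + r)) :=
  edges_tab (sm ge) Qf (tab Gen.e) 27072 [(27072, 25868), (27073, 25901), (27074, 26557), (27075, 28204), (27076, 28233), (27077, 28236), (27078, 28258), (27079, 25876), (27080, 28260), (27081, 25877), (27082, 28205), (27083, 26074), (27084, 28263), (27085, 28265), (27086, 28267), (27087, 25883), (27088, 27088), (27089, 28271), (27090, 25885), (27091, 26624), (27092, 28241), (27093, 28206), (27094, 28276), (27095, 25889), (27096, 28278), (27097, 25891), (27098, 26597), (27099, 28282), (27100, 25893), (27101, 26006), (27102, 28285), (27103, 25896), (27104, 28211), (27105, 26549), (27106, 28212), (27107, 28252), (27108, 27949), (27109, 28248), (27110, 28213), (27111, 28293), (27112, 25905), (27113, 25963), (27114, 25957), (27115, 28297), (27116, 25909), (27117, 25913), (27118, 28300), (27119, 25911), (27120, 28299), (27121, 28302), (27122, 25914), (27123, 28298), (27124, 25919), (27125, 28305), (27126, 27126), (27127, 28153), (27128, 28309),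 (27129, 28202), (27130, 28312), (27131, 25924), (27132, 28049), (27133, 28315), (27134, 25926), (27135, 25927)]
    ⟨e3 q27072 (flp_e L788912) q25868, e3 q27073 L788932 q25901, e3 q27074 L788938 q26557, e3 q27075 (flp_e L800419) q28204, e3 q27076 (flp_e L800858) q28233, e3 q27077 (flp_e L800892) q28236, e3 q27078 L801182 q28258, e3 q27079 (flp_e L789004) q25876, e3 q27080 L801210 q28260, e3 q27081 (flp_e L789027) q25877, e3 q27082 (flp_e L800439) q28205, e3 q27083 L789051 q26074, e3 q27084 L801252 q28263, e3 q27085 L801283 q28265, e3 q27086 L801310 q28267, e3 q27087 (flp_e L789107) q25883, e3 q27088 L789134 q27088, e3 q27089 L801364 q28271, e3 q27090 (flp_e L789147) q25885, e3 q27091 L789164 q26624, e3 q27092 (flp_e L800958) q28241, e3 q27093 (flp_e L800455) q28206, e3 q27094 L801430 q28276, e3 q27095 (flp_e L789210) q25889, e3 q27096 L801456 q28278, e3 q27097 (flp_e L789238) q25891, e3 q27098 L789253 q26597, e3 q27099 L801511 q28282, e3 q27100 (flp_e L789275) q25893, e3 q27101 L789297 q26006, e3 q27102 L801543 q28285, e3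 q27103 (flp_e L789307) q25896, e3 q27104 (flp_e L800537) q28211, e3 q27105 L789337 q26549, e3 q27106 (flp_e L800551) q28212, e3 q27107 (flp_e L801106) q28252, e3 q27108 (flp_e L796943) q27949, e3 q27109 (flp_e L801056) q28248, e3 q27110 (flp_e L800569) q28213, e3 q27111 L801634 q28293, e3 q27112 (flp_e L789395) q25905, e3 q27113 L789419 q25963, e3 q27114 L789437 q25957, e3 q27115 L801688 q28297, e3 q27116 (flp_e L789445) q25909, e3 q27117 L789467 q25913, e3 q27118 L801728 q28300, e3 q27119 (flp_e L789479) q25911, e3 q27120 (flp_e L801724) q28299, e3 q27121 L801744 q28302, e3 q27122 (flp_e L789503) q25914, e3 q27123 (flp_e L801708) q28298, e3 q27124 L789533 q25919, e3 q27125 (flp_e L801780) q28305, e3 q27126 L789555 q27126, e3 q27127 (flp_e L799746) q28153, e3 q27128 L801833 q28309, e3 q27129 (flp_e L800391) q28202, e3 q27130 L801870 q28312, e3 q27131 (flp_e L789615) q25924, e3 q27132 (flp_e L798346) q28049, e3 q27133 L801902 q28315, e3 q27134 (flp_e L789646) q25926, e3 q27135 (flp_e L789656) q25927, trivial⟩ (by decide +kernel)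

theorem ce_e_424 : ∀ r, r < 64 → sm ge (Qf (27136 + r)) = Qf (tab Gen.e (27136 + r)) :=
  edges_tab (sm ge) Qf (tab Gen.e) 27136 [(27136, 27136), (27137, 28152), (27138, 28322), (27139, 25930), (27140, 28325), (27141, 25931), (27142, 28328), (27143, 25932), (27144, 28326), (27145, 27145), (27146, 28333), (27147, 25935), (27148, 28227), (27149, 26584), (27150, 28337), (27151, 28339), (27152, 25940), (27153, 28341), (27154, 25941), (27155, 28343), (27156, 25943), (27157, 28228), (27158, 28345), (27159, 25946), (27160, 28348), (27161, 25947), (27162, 26525), (27163, 28351), (27164, 25950), (27165, 28354), (27166, 25951), (27167, 28006), (27168, 28358), (27169, 25953), (27170, 28359), (27171, 25955), (27172, 28294), (27173, 28362), (27174, 25958), (27175, 28363), (27176, 25960), (27177, 28295), (27178, 26254), (27179, 28368), (27180, 25964), (27181, 28242), (27182, 28370), (27183, 28372), (27184, 25968), (27185, 28374), (27186, 25969), (27187, 28376), (27188, 25970), (27189, 28378), (27190, 25972), (27191, 28379), (27192, 25974),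 (27193, 28380), (27194, 25976), (27195, 27948), (27196, 27947), (27197, 28384), (27198, 25981), (27199, 28387)]
    ⟨e3 q27136 L789672 q27136, e3 q27137 (flp_e L799730) q28152, e3 q27138 L801978 q28322, e3 q27139 (flp_e L789697) q25930, e3 q27140 L802001 q28325, e3 q27141 (flp_e L789714) q25931, e3 q27142 L802024 q28328, e3 q27143 (flp_e L789729) q25932, e3 q27144 (flp_e L802014) q28326, e3 q27145 L789747 q27145, e3 q27146 L802074 q28333, e3 q27147 (flp_e L789765) q25935, e3 q27148 (flp_e L800763) q28227, e3 q27149 L789787 q26584, e3 q27150 L802123 q28337, e3 q27151 L802150 q28339, e3 q27152 (flp_e L789827) q25940, e3 q27153 L802172 q28341, e3 q27154 (flp_e L789850) q25941, e3 q27155 L802192 q28343, e3 q27156 (flp_e L789868) q25943, e3 q27157 (flp_e L800777) q28228, e3 q27158 L802216 q28345, e3 q27159 (flp_e L789896) q25946, e3 q27160 L802259 q28348, e3 q27161 (flp_e L789923) q25947, e3 q27162 L789949 q26525, e3 q27163 L802297 q28351, e3 q27164 (flp_e L789961) q25950, e3 q27165 L802320 q28354, e3 q27166 (flp_e L789976) q25951,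 e3 q27167 (flp_e L797759) q28006, e3 q27168 L802349 q28358, e3 q27169 (flp_e L789999) q25953, e3 q27170 L802359 q28359, e3 q27171 (flp_e L790017) q25955, e3 q27172 (flp_e L801658) q28294, e3 q27173 L802385 q28362, e3 q27174 (flp_e L790043) q25958, e3 q27175 L802401 q28363, e3 q27176 (flp_e L790063) q25960, e3 q27177 (flp_e L801676) q28295, e3 q27178 L790077 q26254, e3 q27179 L802438 q28368, e3 q27180 (flp_e L790090) q25964, e3 q27181 (flp_e L800968) q28242, e3 q27182 L802468 q28370, e3 q27183 L802495 q28372, e3 q27184 (flp_e L790136) q25968, e3 q27185 L802515 q28374, e3 q27186 (flp_e L790157) q25969, e3 q27187 L802537 q28376, e3 q27188 (flp_e L790181) q25970, e3 q27189 L802557 q28378, e3 q27190 (flp_e L790199) q25972, e3 q27191 L802565 q28379, e3 q27192 (flp_e L790213) q25974, e3 q27193 L802573 q28380, e3 q27194 (flp_e L790231) q25976, e3 q27195 (flp_e L796931) q27948, e3 q27196 (flp_e L796923) q27947, e3 q27197 L802623 q28384, e3 q27198 (flp_e L790279) q25981, e3 q27199 L802660 q28387, trivial⟩ (by decide +kernel)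

theorem ce_e_425 : ∀ r, r < 64 → sm ge (Qf (27200 + r)) = Qf (tab Gen.e (27200 + r)) :=
  edges_tab (sm ge) Qf (tab Gen.e) 27200 [(27200, 25982), (27201, 28390), (27202, 25983), (27203, 28385), (27204, 28393), (27205, 25985), (27206, 25989), (27207, 28395), (27208, 25987), (27209, 28394), (27210, 28398), (27211, 25990), (27212, 28401), (27213, 25991), (27214, 25997), (27215, 28405), (27216, 25993), (27217, 28399), (27218, 28409), (27219, 25995), (27220, 26281), (27221, 28403), (27222, 28279), (27223, 28415), (27224, 25998), (27225, 28416), (27226, 26000), (27227, 26012), (27228, 26005), (27229, 26003), (27230, 28418), (27231, 28283), (27232, 26596), (27233, 28423), (27234, 26008), (27235, 26010), (27236, 28417), (27237, 28419), (27238, 26015), (27239, 28427), (27240, 27240), (27241, 27241), (27242, 27242), (27243, 26332), (27244, 27244), (27245, 28430), (27246, 26077), (27247, 28433), (27248, 26027), (27249, 26082), (27250, 26109), (27251, 26120), (27252, 28435), (27253, 26032), (27254, 28437), (27255, 26035), (27256, 26152),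 (27257, 28440), (27258, 26037), (27259, 28346), (27260, 28443), (27261, 26040), (27262, 26176), (27263, 28446)]
    ⟨e3 q27200 (flp_e L790300) q25982, e3 q27201 L802696 q28390, e3 q27202 (flp_e L790324) q25983, e3 q27203 (flp_e L802644) q28385, e3 q27204 L802736 q28393, e3 q27205 (flp_e L790360) q25985, e3 q27206 L790384 q25989, e3 q27207 L802764 q28395, e3 q27208 (flp_e L790398) q25987, e3 q27209 (flp_e L802760) q28394, e3 q27210 L802796 q28398, e3 q27211 (flp_e L790428) q25990, e3 q27212 L802817 q28401, e3 q27213 (flp_e L790441) q25991, e3 q27214 L790452 q25997, e3 q27215 L802844 q28405, e3 q27216 (flp_e L790462) q25993, e3 q27217 (flp_e L802807) q28399, e3 q27218 L802882 q28409, e3 q27219 (flp_e L790484) q25995, e3 q27220 L790500 q26281, e3 q27221 (flp_e L802834) q28403, e3 q27222 (flp_e L801479) q28279, e3 q27223 L802938 q28415, e3 q27224 (flp_e L790530) q25998, e3 q27225 L802948 q28416, e3 q27226 (flp_e L790548) q26000, e3 q27227 L790556 q26012, e3 q27228 L790562 q26005, e3 q27229 (flp_e L790564) q26003, e3 q27230 (flp_e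 L802962) q28418, e3 q27231 (flp_e L801531) q28283, e3 q27232 L790582 q26596, e3 q27233 L802992 q28423, e3 q27234 (flp_e L790598) q26008, e3 q27235 (flp_e L790610) q26010, e3 q27236 (flp_e L802956) q28417, e3 q27237 (flp_e L802968) q28419, e3 q27238 L790628 q26015, e3 q27239 (flp_e L803025) q28427, e3 q27240 L790643 q27240, e3 q27241 L790659 q27241, e3 q27242 L790670 q27242, e3 q27243 L790688 q26332, e3 q27244 L790703 q27244, e3 q27245 L803057 q28430, e3 q27246 L790718 q26077, e3 q27247 L803098 q28433, e3 q27248 (flp_e L790740) q26027, e3 q27249 L790760 q26082, e3 q27250 L790772 q26109, e3 q27251 L790784 q26120, e3 q27252 L803128 q28435, e3 q27253 (flp_e L790802) q26032, e3 q27254 L803148 q28437, e3 q27255 (flp_e L790822) q26035, e3 q27256 L790835 q26152, e3 q27257 L803180 q28440, e3 q27258 (flp_e L790849) q26037, e3 q27259 (flp_e L802239) q28346, e3 q27260 L803210 q28443, e3 q27261 (flp_e L790877) q26040, e3 q27262 L790889 q26176, e3 q27263 L803241 q28446, trivial⟩ (by decide +kernel)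

theorem ce_e_426 : ∀ r, r < 64 → sm ge (Qf (27264 + r)) = Qf (tab Gen.e (27264 + r)) :=
  edges_tab (sm ge) Qf (tab Gen.e) 27264 [(27264, 26043), (27265, 26181), (27266, 28449), (27267, 26045), (27268, 26191), (27269, 28450), (27270, 26048), (27271, 26628), (27272, 28453), (27273, 26052), (27274, 26232), (27275, 26640), (27276, 28455), (27277, 26056), (27278, 26606), (27279, 26639), (27280, 26454), (27281, 28457), (27282, 26063), (27283, 28458), (27284, 26065), (27285, 26067), (27286, 26450), (27287, 26445), (27288, 26121), (27289, 26617), (27290, 26631), (27291, 28261), (27292, 28465), (27293, 26075), (27294, 28431), (27295, 28467), (27296, 26078), (27297, 28469), (27298, 26080), (27299, 28471), (27300, 26083), (27301, 26620), (27302, 28474), (27303, 26085), (27304, 28477), (27305, 26086), (27306, 28475), (27307, 27307), (27308, 28481), (27309, 26089), (27310, 26634), (27311, 28484), (27312, 26092), (27313, 26609), (27314, 28487), (27315, 26094), (27316, 28490), (27317, 26095), (27318, 26623), (27319, 28492), (27320, 26098),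 (27321, 26412), (27322, 26101), (27323, 27323), (27324, 26394), (27325, 26407), (27326, 28498), (27327, 26105)]
    ⟨e3 q27264 (flp_e L790911) q26043, e3 q27265 L790930 q26181, e3 q27266 L803281 q28449, e3 q27267 (flp_e L790948) q26045, e3 q27268 L790966 q26191, e3 q27269 L803293 q28450, e3 q27270 (flp_e L790984) q26048, e3 q27271 L790998 q26628, e3 q27272 L803333 q28453, e3 q27273 (flp_e L791020) q26052, e3 q27274 L791032 q26232, e3 q27275 L791044 q26640, e3 q27276 L803356 q28455, e3 q27277 (flp_e L791064) q26056, e3 q27278 L791078 q26606, e3 q27279 L791096 q26639, e3 q27280 L791116 q26454, e3 q27281 L803378 q28457, e3 q27282 (flp_e L791138) q26063, e3 q27283 L803388 q28458, e3 q27284 (flp_e L791156) q26065, e3 q27285 (flp_e L791164) q26067, e3 q27286 L791180 q26450, e3 q27287 L791186 q26445, e3 q27288 L791198 q26121, e3 q27289 L791212 q26617, e3 q27290 L791228 q26631, e3 q27291 (flp_e L801224) q28261, e3 q27292 L803470 q28465, e3 q27293 (flp_e L791254) q26075, e3 q27294 (flp_e L803074) q28431, e3 q27295 L803490 q28467,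 e3 q27296 (flp_e L791278) q26078, e3 q27297 L803515 q28469, e3 q27298 (flp_e L791296) q26080, e3 q27299 L803533 q28471, e3 q27300 (flp_e L791314) q26083, e3 q27301 L791331 q26620, e3 q27302 L803573 q28474, e3 q27303 (flp_e L791353) q26085, e3 q27304 L803610 q28477, e3 q27305 (flp_e L791376) q26086, e3 q27306 (flp_e L803594) q28475, e3 q27307 L791410 q27307, e3 q27308 L803658 q28481, e3 q27309 (flp_e L791423) q26089, e3 q27310 L791435 q26634, e3 q27311 L803687 q28484, e3 q27312 (flp_e L791457) q26092, e3 q27313 L791476 q26609, e3 q27314 L803727 q28487, e3 q27315 (flp_e L791498) q26094, e3 q27316 L803759 q28490, e3 q27317 (flp_e L791518) q26095, e3 q27318 L791534 q26623, e3 q27319 L803783 q28492, e3 q27320 (flp_e L791552) q26098, e3 q27321 L791570 q26412, e3 q27322 (flp_e L791572) q26101, e3 q27323 L791590 q27323, e3 q27324 L791603 q26394, e3 q27325 L791609 q26407, e3 q27326 L803848 q28498, e3 q27327 (flp_e L791628) q26105, trivial⟩ (by decide +kernel)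

theorem ce_e_427 : ∀ r, r < 64 → sm ge (Qf (27328 + r)) = Qf (tab Gen.e (27328 + r)) :=
  edges_tab (sm ge) Qf (tab Gen.e) 27328 [(27328, 26667), (27329, 28501), (27330, 26107), (27331, 28434), (27332, 28504), (27333, 26110), (27334, 26672), (27335, 28507), (27336, 26112), (27337, 28509), (27338, 26113), (27339, 26673), (27340, 28512), (27341, 26116), (27342, 28287), (27343, 28515), (27344, 26118), (27345, 28510), (27346, 28461), (27347, 26679), (27348, 26682), (27349, 28520), (27350, 26124), (27351, 28522), (27352, 26125), (27353, 26690), (27354, 26691), (27355, 28525), (27356, 26129), (27357, 26134), (27358, 26132), (27359, 28526), (27360, 28527), (27361, 26135), (27362, 26140), (27363, 28531), (27364, 26142), (27365, 28102), (27366, 28044), (27367, 28169), (27368, 28535), (27369, 26147), (27370, 28201), (27371, 28538), (27372, 26149), (27373, 28540), (27374, 26150), (27375, 28438), (27376, 28543), (27377, 26153), (27378, 26154), (27379, 27379), (27380, 28203), (27381, 28550), (27382, 26157), (27383, 28553), (27384, 26158),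 (27385, 28551), (27386, 28099), (27387, 27387), (27388, 27388), (27389, 28559), (27390, 26162), (27391, 28130)]
    ⟨e3 q27328 L791647 q26667, e3 q27329 L803886 q28501, e3 q27330 (flp_e L791663) q26107, e3 q27331 (flp_e L803118) q28434, e3 q27332 L803915 q28504, e3 q27333 (flp_e L791691) q26110, e3 q27334 L791708 q26672, e3 q27335 L803953 q28507, e3 q27336 (flp_e L791728) q26112, e3 q27337 L803977 q28509, e3 q27338 (flp_e L791752) q26113, e3 q27339 L791770 q26673, e3 q27340 L804009 q28512, e3 q27341 (flp_e L791782) q26116, e3 q27342 (flp_e L801571) q28287, e3 q27343 L804033 q28515, e3 q27344 (flp_e L791808) q26118, e3 q27345 (flp_e L804001) q28510, e3 q27346 (flp_e L803424) q28461, e3 q27347 L791840 q26679, e3 q27348 L791856 q26682, e3 q27349 L804091 q28520, e3 q27350 (flp_e L791876) q26124, e3 q27351 L804113 q28522, e3 q27352 (flp_e L791897) q26125, e3 q27353 L791909 q26690, e3 q27354 L791923 q26691, e3 q27355 L804144 q28525, e3 q27356 (flp_e L791941) q26129, e3 q27357 L791959 q26134, e3 q27358 (flp_e L791961) q26132, e3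 q27359 (flp_e L804162) q28526, e3 q27360 (flp_e L804170) q28527, e3 q27361 (flp_e L791977) q26135, e3 q27362 L791998 q26140, e3 q27363 (flp_e L804198) q28531, e3 q27364 L792010 q26142, e3 q27365 (flp_e L799112) q28102, e3 q27366 (flp_e L798263) q28044, e3 q27367 (flp_e L799951) q28169, e3 q27368 L804240 q28535, e3 q27369 (flp_e L792059) q26147, e3 q27370 (flp_e L800381) q28201, e3 q27371 L804272 q28538, e3 q27372 (flp_e L792090) q26149, e3 q27373 L804288 q28540, e3 q27374 (flp_e L792105) q26150, e3 q27375 (flp_e L803162) q28438, e3 q27376 L804311 q28543, e3 q27377 (flp_e L792129) q26153, e3 q27378 (flp_e L792143) q26154, e3 q27379 L792167 q27379, e3 q27380 (flp_e L800401) q28203, e3 q27381 L804401 q28550, e3 q27382 (flp_e L792192) q26157, e3 q27383 L804426 q28553, e3 q27384 (flp_e L792207) q26158, e3 q27385 (flp_e L804418) q28551, e3 q27386 (flp_e L799079) q28099, e3 q27387 L792235 q27387, e3 q27388 L792244 q27388, e3 q27389 L804484 q28559, e3 q27390 (flp_e L792265) q26162, e3 q27391 (flp_e L799445) q28130, trivial⟩ (by decide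 +kernel)

theorem ce_e_428 : ∀ r, r < 64 → sm ge (Qf (27392 + r)) = Qf (tab Gen.e (27392 + r)) :=
  edges_tab (sm ge) Qf (tab Gen.e) 27392 [(27392, 28176), (27393, 28563), (27394, 26165), (27395, 28566), (27396, 26166), (27397, 26170), (27398, 28570), (27399, 26168), (27400, 28568), (27401, 28569), (27402, 28574), (27403, 26172), (27404, 28576), (27405, 26174), (27406, 28567), (27407, 26641), (27408, 28581), (27409, 26178), (27410, 28583), (27411, 26179), (27412, 28447), (27413, 26645), (27414, 28191), (27415, 28190), (27416, 26646), (27417, 28589), (27418, 26186), (27419, 28591), (27420, 26187), (27421, 28366), (27422, 28594), (27423, 26189), (27424, 26479), (27425, 26648), (27426, 26649), (27427, 28124), (27428, 28168), (27429, 26650), (27430, 26651), (27431, 28200), (27432, 28602), (27433, 26199), (27434, 28604), (27435, 26202), (27436, 28606), (27437, 26204), (27438, 26318), (27439, 26206), (27440, 26515), (27441, 26507), (27442, 26209), (27443, 26211), (27444, 26480), (27445, 26315), (27446, 26474), (27447, 26311), (27448,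 26319), (27449, 26298), (27450, 26316), (27451, 26504), (27452, 26242), (27453, 26236), (27454, 28625), (27455, 26222)]
    ⟨e3 q27392 (flp_e L800045) q28176, e3 q27393 L804532 q28563, e3 q27394 (flp_e L792313) q26165, e3 q27395 L804553 q28566, e3 q27396 (flp_e L792326) q26166, e3 q27397 L792333 q26170, e3 q27398 L804573 q28570, e3 q27399 (flp_e L792341) q26168, e3 q27400 (flp_e L804566) q28568, e3 q27401 (flp_e L804571) q28569, e3 q27402 L804603 q28574, e3 q27403 (flp_e L792369) q26172, e3 q27404 L804622 q28576, e3 q27405 (flp_e L792385) q26174, e3 q27406 (flp_e L804560) q28567, e3 q27407 L792398 q26641, e3 q27408 L804667 q28581, e3 q27409 (flp_e L792420) q26178, e3 q27410 L804685 q28583, e3 q27411 (flp_e L792437) q26179, e3 q27412 (flp_e L803259) q28447, e3 q27413 L792455 q26645, e3 q27414 (flp_e L800261) q28191, e3 q27415 (flp_e L800251) q28190, e3 q27416 L792497 q26646, e3 q27417 L804756 q28589, e3 q27418 (flp_e L792517) q26186, e3 q27419 L804772 q28591, e3 q27420 (flp_e L792535) q26187, e3 q27421 (flp_e L802424) q28366,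 e3 q27422 L804796 q28594, e3 q27423 (flp_e L792557) q26189, e3 q27424 L792575 q26479, e3 q27425 L792579 q26648, e3 q27426 L792593 q26649, e3 q27427 (flp_e L799369) q28124, e3 q27428 (flp_e L799943) q28168, e3 q27429 L792623 q26650, e3 q27430 L792635 q26651, e3 q27431 (flp_e L800367) q28200, e3 q27432 L804892 q28602, e3 q27433 (flp_e L792667) q26199, e3 q27434 L804912 q28604, e3 q27435 (flp_e L792685) q26202, e3 q27436 L804934 q28606, e3 q27437 (flp_e L792703) q26204, e3 q27438 L792721 q26318, e3 q27439 (flp_e L792723) q26206, e3 q27440 L792737 q26515, e3 q27441 L792743 q26507, e3 q27442 (flp_e L792747) q26209, e3 q27443 (flp_e L792760) q26211, e3 q27444 L792779 q26480, e3 q27445 L792791 q26315, e3 q27446 L792795 q26474, e3 q27447 L792812 q26311, e3 q27448 L792818 q26319, e3 q27449 L792827 q26298, e3 q27450 L792841 q26316, e3 q27451 L792851 q26504, e3 q27452 L792859 q26242, e3 q27453 L792871 q26236, e3 q27454 L805151 q28625, e3 q27455 (flp_e L792895) q26222, trivial⟩ (by decide +kernel)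

theorem ce_e_429 : ∀ r, r < 64 → sm ge (Qf (27456 + r)) = Qf (tab Gen.e (27456 + r)) :=
  edges_tab (sm ge) Qf (tab Gen.e) 27456 [(27456, 28627), (27457, 26223), (27458, 26227), (27459, 28630), (27460, 26225), (27461, 28629), (27462, 28633), (27463, 26228), (27464, 28635), (27465, 26230), (27466, 28628), (27467, 28192), (27468, 28640), (27469, 26234), (27470, 28623), (27471, 28642), (27472, 26237), (27473, 28141), (27474, 28645), (27475, 26239), (27476, 28135), (27477, 28622), (27478, 28649), (27479, 26243), (27480, 28652), (27481, 26244), (27482, 28619), (27483, 28655), (27484, 26246), (27485, 26257), (27486, 26248), (27487, 28659), (27488, 26250), (27489, 28661), (27490, 26252), (27491, 28653), (27492, 28365), (27493, 26255), (27494, 28656), (27495, 28657), (27496, 28193), (27497, 28151), (27498, 28671), (27499, 26260), (27500, 26703), (27501, 28150), (27502, 28674), (27503, 26264), (27504, 26266), (27505, 28676), (27506, 26268), (27507, 28679), (27508, 26269), (27509, 28682), (27510, 26270), (27511, 26733), (27512, 28686),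 (27513, 26272), (27514, 28688), (27515, 26274), (27516, 28402), (27517, 26282), (27518, 28693), (27519, 26277)]
    ⟨e3 q27456 L805169 q28627, e3 q27457 (flp_e L792914) q26223, e3 q27458 L792933 q26227, e3 q27459 L805198 q28630, e3 q27460 (flp_e L792945) q26225, e3 q27461 (flp_e L805194) q28629, e3 q27462 L805238 q28633, e3 q27463 (flp_e L792983) q26228, e3 q27464 L805249 q28635, e3 q27465 (flp_e L792995) q26230, e3 q27466 (flp_e L805180) q28628, e3 q27467 (flp_e L800275) q28192, e3 q27468 L805296 q28640, e3 q27469 (flp_e L793028) q26234, e3 q27470 (flp_e L805127) q28623, e3 q27471 L805316 q28642, e3 q27472 (flp_e L793050) q26237, e3 q27473 (flp_e L799586) q28141, e3 q27474 L805348 q28645, e3 q27475 (flp_e L793083) q26239, e3 q27476 (flp_e L799509) q28135, e3 q27477 (flp_e L805113) q28622, e3 q27478 L805387 q28649, e3 q27479 (flp_e L793119) q26243, e3 q27480 L805413 q28652, e3 q27481 (flp_e L793137) q26244, e3 q27482 (flp_e L805078) q28619, e3 q27483 L805437 q28655, e3 q27484 (flp_e L793161) q26246, e3 q27485 L793177 q26257,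 e3 q27486 (flp_e L793179) q26248, e3 q27487 L805471 q28659, e3 q27488 (flp_e L793197) q26250, e3 q27489 L805489 q28661, e3 q27490 (flp_e L793211) q26252, e3 q27491 (flp_e L805427) q28653, e3 q27492 (flp_e L802417) q28365, e3 q27493 (flp_e L793227) q26255, e3 q27494 (flp_e L805453) q28656, e3 q27495 (flp_e L805459) q28657, e3 q27496 (flp_e L800295) q28193, e3 q27497 (flp_e L799720) q28151, e3 q27498 L805561 q28671, e3 q27499 (flp_e L793273) q26260, e3 q27500 L793285 q26703, e3 q27501 (flp_e L799710) q28150, e3 q27502 L805592 q28674, e3 q27503 (flp_e L793309) q26264, e3 q27504 (flp_e L793315) q26266, e3 q27505 L805608 q28676, e3 q27506 (flp_e L793339) q26268, e3 q27507 L805637 q28679, e3 q27508 (flp_e L793356) q26269, e3 q27509 L805660 q28682, e3 q27510 (flp_e L793371) q26270, e3 q27511 L793384 q26733, e3 q27512 L805687 q28686, e3 q27513 (flp_e L793392) q26272, e3 q27514 L805698 q28688, e3 q27515 (flp_e L793404) q26274, e3 q27516 (flp_e L802826) q28402, e3 q27517 L793421 q26282, e3 q27518 L805734 q28693, e3 q27519 (flp_e L793429)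 q26277, trivial⟩ (by decide +kernel)

theorem ce_e_430 : ∀ r, r < 64 → sm ge (Qf (27520 + r)) = Qf (tab Gen.e (27520 + r)) :=
  edges_tab (sm ge) Qf (tab Gen.e) 27520 [(27520, 28406), (27521, 26279), (27522, 28410), (27523, 28690), (27524, 28698), (27525, 28700), (27526, 26283), (27527, 26741), (27528, 28702), (27529, 26285), (27530, 26728), (27531, 26288), (27532, 26300), (27533, 26293), (27534, 26301), (27535, 28705), (27536, 28708), (27537, 26294), (27538, 28616), (27539, 26296), (27540, 28610), (27541, 28620), (27542, 28704), (27543, 28607), (27544, 28706), (27545, 28707), (27546, 27546), (27547, 26309), (27548, 27548), (27549, 26312), (27550, 28614), (27551, 26307), (27552, 28613), (27553, 28718), (27554, 27994), (27555, 28605), (27556, 28618), (27557, 28719), (27558, 26320), (27559, 28621), (27560, 27991), (27561, 27995), (27562, 28608), (27563, 27563), (27564, 27564), (27565, 27565), (27566, 27566), (27567, 27567), (27568, 28730), (27569, 26333), (27570, 26341), (27571, 26357), (27572, 26550), (27573, 26355), (27574,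 27933), (27575, 28732), (27576, 26345), (27577, 26575), (27578, 28734), (27579, 26348), (27580, 26462), (27581, 28737), (27582, 26351), (27583, 28738)]
    ⟨e3 q27520 (flp_e L802862) q28406, e3 q27521 (flp_e L793451) q26279, e3 q27522 (flp_e L802898) q28410, e3 q27523 (flp_e L805716) q28690, e3 q27524 L805792 q28698, e3 q27525 L805810 q28700, e3 q27526 (flp_e L793501) q26283, e3 q27527 L793515 q26741, e3 q27528 L805828 q28702, e3 q27529 (flp_e L793525) q26285, e3 q27530 L793537 q26728, e3 q27531 (flp_e L793539) q26288, e3 q27532 L793549 q26300, e3 q27533 L793561 q26293, e3 q27534 L793567 q26301, e3 q27535 (flp_e L805862) q28705, e3 q27536 L805882 q28708, e3 q27537 (flp_e L793587) q26294, e3 q27538 (flp_e L805041) q28616, e3 q27539 (flp_e L793605) q26296, e3 q27540 (flp_e L804978) q28610, e3 q27541 (flp_e L805090) q28620, e3 q27542 (flp_e L805848) q28704, e3 q27543 (flp_e L804954) q28607, e3 q27544 (flp_e L805868) q28706, e3 q27545 (flp_e L805876) q28707, e3 q27546 L793656 q27546, e3 q27547 L793663 q26309, e3 q27548 L793672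 q27548, e3 q27549 L793677 q26312, e3 q27550 (flp_e L805030) q28614, e3 q27551 (flp_e L793692) q26307, e3 q27552 (flp_e L805018) q28613, e3 q27553 (flp_e L805962) q28718, e3 q27554 (flp_e L797594) q27994, e3 q27555 (flp_e L804932) q28605, e3 q27556 (flp_e L805066) q28618, e3 q27557 (flp_e L805970) q28719, e3 q27558 L793757 q26320, e3 q27559 (flp_e L805101) q28621, e3 q27560 (flp_e L797547) q27991, e3 q27561 (flp_e L797602) q27995, e3 q27562 (flp_e L804960) q28608, e3 q27563 L793814 q27563, e3 q27564 L793830 q27564, e3 q27565 L793835 q27565, e3 q27566 L793845 q27566, e3 q27567 L793856 q27567, e3 q27568 L806070 q28730, e3 q27569 (flp_e L793867) q26333, e3 q27570 L793882 q26341, e3 q27571 L793898 q26357, e3 q27572 L793914 q26550, e3 q27573 L793930 q26355, e3 q27574 (flp_e L796689) q27933, e3 q27575 L806089 q28732, e3 q27576 (flp_e L793962) q26345, e3 q27577 L793980 q26575, e3 q27578 L806119 q28734, e3 q27579 (flp_e L794000) q26348, e3 q27580 L794020 q26462, e3 q27581 L806160 q28737, e3 q27582 (flp_e L794040) q26351, e3 q27583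 L806172 q28738, trivial⟩ (by decide +kernel)

theorem ce_e_431 : ∀ r, r < 64 → sm ge (Qf (27584 + r)) = Qf (tab Gen.e (27584 + r)) :=
  edges_tab (sm ge) Qf (tab Gen.e) 27584 [(27584, 26353), (27585, 27939), (27586, 28740), (27587, 26358), (27588, 26425), (27589, 26439), (27590, 28186), (27591, 28742), (27592, 26365), (27593, 26367), (27594, 26481), (27595, 28744), (27596, 26371), (27597, 28746), (27598, 26373), (27599, 28748), (27600, 26376), (27601, 28750), (27602, 26378), (27603, 28677), (27604, 28753), (27605, 26381), (27606, 26721), (27607, 28756), (27608, 26384), (27609, 27974), (27610, 28759), (27611, 26387), (27612, 28761), (27613, 26388), (27614, 28496), (27615, 28765), (27616, 26390), (27617, 28766), (27618, 26392), (27619, 28491), (27620, 28495), (27621, 26625), (27622, 28770), (27623, 26398), (27624, 27985), (27625, 28773), (27626, 26400), (27627, 27988), (27628, 28776), (27629, 26403), (27630, 28778), (27631, 26405), (27632, 28494), (27633, 28780), (27634, 26408), (27635, 26410), (27636, 28493), (27637, 27637),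 (27638, 28317), (27639, 28783), (27640, 26418), (27641, 26658), (27642, 28786), (27643, 26421), (27644, 28788), (27645, 26423), (27646, 28790), (27647, 26426)]
    ⟨e3 q27584 (flp_e L794064) q26353, e3 q27585 (flp_e L796781) q27939, e3 q27586 L806192 q28740, e3 q27587 (flp_e L794092) q26358, e3 q27588 L794108 q26425, e3 q27589 L794124 q26439, e3 q27590 (flp_e L800193) q28186, e3 q27591 L806216 q28742, e3 q27592 (flp_e L794156) q26365, e3 q27593 (flp_e L794162) q26367, e3 q27594 L794174 q26481, e3 q27595 L806228 q28744, e3 q27596 (flp_e L794190) q26371, e3 q27597 L806241 q28746, e3 q27598 (flp_e L794206) q26373, e3 q27599 L806261 q28748, e3 q27600 (flp_e L794224) q26376, e3 q27601 L806285 q28750, e3 q27602 (flp_e L794248) q26378, e3 q27603 (flp_e L805627) q28677, e3 q27604 L806315 q28753, e3 q27605 (flp_e L794276) q26381, e3 q27606 L794286 q26721, e3 q27607 L806334 q28756, e3 q27608 (flp_e L794298) q26384, e3 q27609 (flp_e L797318) q27974, e3 q27610 L806362 q28759, e3 q27611 (flp_e L794326) q26387, e3 q27612 L806384 q28761,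 e3 q27613 (flp_e L794345) q26388, e3 q27614 (flp_e L803827) q28496, e3 q27615 L806430 q28765, e3 q27616 (flp_e L794379) q26390, e3 q27617 L806440 q28766, e3 q27618 (flp_e L794399) q26392, e3 q27619 (flp_e L803781) q28491, e3 q27620 (flp_e L803821) q28495, e3 q27621 L794427 q26625, e3 q27622 L806474 q28770, e3 q27623 (flp_e L794447) q26398, e3 q27624 (flp_e L797465) q27985, e3 q27625 L806498 q28773, e3 q27626 (flp_e L794471) q26400, e3 q27627 (flp_e L797505) q27988, e3 q27628 L806528 q28776, e3 q27629 (flp_e L794497) q26403, e3 q27630 L806547 q28778, e3 q27631 (flp_e L794517) q26405, e3 q27632 (flp_e L803809) q28494, e3 q27633 L806563 q28780, e3 q27634 (flp_e L794541) q26408, e3 q27635 (flp_e L794547) q26410, e3 q27636 (flp_e L803801) q28493, e3 q27637 L794567 q27637, e3 q27638 (flp_e L801924) q28317, e3 q27639 L806591 q28783, e3 q27640 (flp_e L794588) q26418, e3 q27641 L794606 q26658, e3 q27642 L806625 q28786, e3 q27643 (flp_e L794618) q26421, e3 q27644 L806640 q28788, e3 q27645 (flp_e L794636) q26423, e3 q27646 L806656 q28790,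 e3 q27647 (flp_e L794652) q26426, trivial⟩ (by decide +kernel)

theorem ce_e_432 : ∀ r, r < 64 → sm ge (Qf (27648 + r)) = Qf (tab Gen.e (27648 + r)) :=
  edges_tab (sm ge) Qf (tab Gen.e) 27648 [(27648, 28793), (27649, 26427), (27650, 28564), (27651, 28061), (27652, 28796), (27653, 26431), (27654, 28798), (27655, 26432), (27656, 28800), (27657, 26434), (27658, 28802), (27659, 26435), (27660, 28804), (27661, 26437), (27662, 28806), (27663, 26440), (27664, 28195), (27665, 28809), (27666, 26443), (27667, 28460), (27668, 28812), (27669, 26446), (27670, 28814), (27671, 26448), (27672, 28787), (27673, 28459), (27674, 26451), (27675, 28045), (27676, 28817), (27677, 26455), (27678, 26459), (27679, 28820), (27680, 26457), (27681, 28819), (27682, 28822), (27683, 26460), (27684, 28818), (27685, 28826), (27686, 26463), (27687, 28827), (27688, 26465), (27689, 28829), (27690, 26467), (27691, 28831), (27692, 26468), (27693, 28834), (27694, 26470), (27695, 28617), (27696, 28837), (27697, 26472), (27698, 28596), (27699, 28615), (27700, 28840),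 (27701, 26475), (27702, 26477), (27703, 28595), (27704, 28592), (27705, 28844), (27706, 26482), (27707, 28199), (27708, 28846), (27709, 26485), (27710, 28849), (27711, 26487)]
    ⟨e3 q27648 L806677 q28793, e3 q27649 (flp_e L794667) q26427, e3 q27650 (flp_e L804545) q28564, e3 q27651 (flp_e L798536) q28061, e3 q27652 L806705 q28796, e3 q27653 (flp_e L794701) q26431, e3 q27654 L806725 q28798, e3 q27655 (flp_e L794722) q26432, e3 q27656 L806749 q28800, e3 q27657 (flp_e L794744) q26434, e3 q27658 L806769 q28802, e3 q27659 (flp_e L794763) q26435, e3 q27660 L806784 q28804, e3 q27661 (flp_e L794781) q26437, e3 q27662 L806798 q28806, e3 q27663 (flp_e L794795) q26440, e3 q27664 (flp_e L800321) q28195, e3 q27665 L806825 q28809, e3 q27666 (flp_e L794823) q26443, e3 q27667 (flp_e L803412) q28460, e3 q27668 L806849 q28812, e3 q27669 (flp_e L794847) q26446, e3 q27670 L806862 q28814, e3 q27671 (flp_e L794859) q26448, e3 q27672 (flp_e L806638) q28787, e3 q27673 (flp_e L803406) q28459, e3 q27674 (flp_e L794878) q26451, e3 q27675 (flp_e L798283)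 q28045, e3 q27676 L806878 q28817, e3 q27677 (flp_e L794902) q26455, e3 q27678 L794909 q26459, e3 q27679 L806893 q28820, e3 q27680 (flp_e L794917) q26457, e3 q27681 (flp_e L806891) q28819, e3 q27682 L806907 q28822, e3 q27683 (flp_e L794937) q26460, e3 q27684 (flp_e L806885) q28818, e3 q27685 L806932 q28826, e3 q27686 (flp_e L794958) q26463, e3 q27687 L806942 q28827, e3 q27688 (flp_e L794974) q26465, e3 q27689 L806964 q28829, e3 q27690 (flp_e L794996) q26467, e3 q27691 L806984 q28831, e3 q27692 (flp_e L795015) q26468, e3 q27693 L807005 q28834, e3 q27694 (flp_e L795029) q26470, e3 q27695 (flp_e L805054) q28617, e3 q27696 L807027 q28837, e3 q27697 (flp_e L795051) q26472, e3 q27698 (flp_e L804820) q28596, e3 q27699 (flp_e L805034) q28615, e3 q27700 L807049 q28840, e3 q27701 (flp_e L795083) q26475, e3 q27702 (flp_e L795091) q26477, e3 q27703 (flp_e L804814) q28595, e3 q27704 (flp_e L804788) q28592, e3 q27705 L807081 q28844, e3 q27706 (flp_e L795119) q26482, e3 q27707 (flp_e L800363) q28199, e3 q27708 L807099 q28846, e3 q27709 (flp_e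 L795143) q26485, e3 q27710 L807116 q28849, e3 q27711 (flp_e L795155) q26487, trivial⟩ (by decide +kernel)

theorem ce_e_433 : ∀ r, r < 64 → sm ge (Qf (27712 + r)) = Qf (tab Gen.e (27712 + r)) :=
  edges_tab (sm ge) Qf (tab Gen.e) 27712 [(27712, 28850), (27713, 26489), (27714, 28144), (27715, 28852), (27716, 26492), (27717, 26494), (27718, 28854), (27719, 26496), (27720, 28857), (27721, 26498), (27722, 28859), (27723, 26500), (27724, 28735), (27725, 28861), (27726, 26502), (27727, 28612), (27728, 26505), (27729, 28611), (27730, 28865), (27731, 26508), (27732, 28866), (27733, 26510), (27734, 26512), (27735, 28609), (27736, 28052), (27737, 27737), (27738, 26556), (27739, 26558), (27740, 28867), (27741, 26523), (27742, 28349), (27743, 28870), (27744, 26527), (27745, 28873), (27746, 26528), (27747, 27937), (27748, 28876), (27749, 26530), (27750, 27936), (27751, 28879), (27752, 26535), (27753, 28882), (27754, 26536), (27755, 26542), (27756, 28886), (27757, 26538), (27758, 28880), (27759, 28888), (27760, 26540), (27761, 28884),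 (27762, 28890), (27763, 26543), (27764, 26548), (27765, 26546), (27766, 28891), (27767, 28286), (27768, 28895), (27769, 26552), (27770, 28897), (27771, 26554), (27772, 28253), (27773, 26559), (27774, 27930), (27775, 28899)]
    ⟨e3 q27712 L807124 q28850, e3 q27713 (flp_e L795167) q26489, e3 q27714 (flp_e L799624) q28144, e3 q27715 L807146 q28852, e3 q27716 (flp_e L795195) q26492, e3 q27717 (flp_e L795201) q26494, e3 q27718 L807164 q28854, e3 q27719 (flp_e L795217) q26496, e3 q27720 L807187 q28857, e3 q27721 (flp_e L795233) q26498, e3 q27722 L807198 q28859, e3 q27723 (flp_e L795245) q26500, e3 q27724 (flp_e L806144) q28735, e3 q27725 L807208 q28861, e3 q27726 (flp_e L795258) q26502, e3 q27727 (flp_e L805002) q28612, e3 q27728 (flp_e L795270) q26505, e3 q27729 (flp_e L804994) q28611, e3 q27730 L807232 q28865, e3 q27731 (flp_e L795288) q26508, e3 q27732 L807238 q28866, e3 q27733 (flp_e L795300) q26510, e3 q27734 (flp_e L795306) q26512, e3 q27735 (flp_e L804974) q28609, e3 q27736 (flp_e L798392) q28052, e3 q27737 L795322 q27737,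 e3 q27738 L795330 q26556, e3 q27739 L795346 q26558, e3 q27740 L807244 q28867, e3 q27741 (flp_e L795364) q26523, e3 q27742 (flp_e L802285) q28349, e3 q27743 L807266 q28870, e3 q27744 (flp_e L795386) q26527, e3 q27745 L807287 q28873, e3 q27746 (flp_e L795399) q26528, e3 q27747 (flp_e L796749) q27937, e3 q27748 L807304 q28876, e3 q27749 (flp_e L795416) q26530, e3 q27750 (flp_e L796741) q27936, e3 q27751 L807330 q28879, e3 q27752 (flp_e L795442) q26535, e3 q27753 L807353 q28882, e3 q27754 (flp_e L795457) q26536, e3 q27755 L795468 q26542, e3 q27756 L807384 q28886, e3 q27757 (flp_e L795478) q26538, e3 q27758 (flp_e L807343) q28880, e3 q27759 L807398 q28888, e3 q27760 (flp_e L795498) q26540, e3 q27761 (flp_e L807374) q28884, e3 q27762 L807410 q28890, e3 q27763 (flp_e L795516) q26543, e3 q27764 L795524 q26548, e3 q27765 (flp_e L795526) q26546, e3 q27766 (flp_e L807418) q28891, e3 q27767 (flp_e L801563) q28286, e3 q27768 L807442 q28895, e3 q27769 (flp_e L795552) q26552, e3 q27770 L807457 q28897, e3 q27771 (flp_e L795570) q26554, e3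 q27772 (flp_e L801116) q28253, e3 q27773 (flp_e L795584) q26559, e3 q27774 (flp_e L796633) q27930, e3 q27775 L807471 q28899, trivial⟩ (by decide +kernel)

theorem ce_e_434 : ∀ r, r < 64 → sm ge (Qf (27776 + r)) = Qf (tab Gen.e (27776 + r)) :=
  edges_tab (sm ge) Qf (tab Gen.e) 27776 [(27776, 26562), (27777, 28901), (27778, 26564), (27779, 28903), (27780, 26566), (27781, 28832), (27782, 26568), (27783, 27932), (27784, 28906), (27785, 26571), (27786, 28907), (27787, 26573), (27788, 28908), (27789, 26576), (27790, 26578), (27791, 28909), (27792, 26580), (27793, 28910), (27794, 26582), (27795, 28335), (27796, 26585), (27797, 27943), (27798, 28912), (27799, 26588), (27800, 26590), (27801, 27940), (27802, 26593), (27803, 28422), (27804, 28280), (27805, 28915), (27806, 26599), (27807, 26644), (27808, 26670), (27809, 28917), (27810, 26607), (27811, 28485), (27812, 28920), (27813, 26610), (27814, 28922), (27815, 26612), (27816, 28918), (27817, 28925), (27818, 26615), (27819, 28462), (27820, 28927), (27821, 26618), (27822, 28472),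 (27823, 28929), (27824, 26621), (27825, 28272), (27826, 28931), (27827, 26626), (27828, 28451), (27829, 28933), (27830, 26629), (27831, 28934), (27832, 26632), (27833, 28883), (27834, 26635), (27835, 28936), (27836, 26637), (27837, 28579), (27838, 28937), (27839, 26642)]
    ⟨e3 q27776 (flp_e L795600) q26562, e3 q27777 L807485 q28901, e3 q27778 (flp_e L795614) q26564, e3 q27779 L807498 q28903, e3 q27780 (flp_e L795626) q26566, e3 q27781 (flp_e L806997) q28832, e3 q27782 (flp_e L795635) q26568, e3 q27783 (flp_e L796669) q27932, e3 q27784 L807514 q28906, e3 q27785 (flp_e L795653) q26571, e3 q27786 L807522 q28907, e3 q27787 (flp_e L795667) q26573, e3 q27788 L807528 q28908, e3 q27789 (flp_e L795679) q26576, e3 q27790 (flp_e L795687) q26578, e3 q27791 L807536 q28909, e3 q27792 (flp_e L795697) q26580, e3 q27793 L807542 q28910, e3 q27794 (flp_e L795707) q26582, e3 q27795 (flp_e L802097) q28335, e3 q27796 (flp_e L795721) q26585, e3 q27797 (flp_e L796853) q27943, e3 q27798 L807556 q28912, e3 q27799 (flp_e L795739) q26588, e3 q27800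 (flp_e L795745) q26590, e3 q27801 (flp_e L796801) q27940, e3 q27802 (flp_e L795757) q26593, e3 q27803 (flp_e L802984) q28422, e3 q27804 (flp_e L801487) q28280, e3 q27805 L807572 q28915, e3 q27806 (flp_e L795777) q26599, e3 q27807 L795787 q26644, e3 q27808 L795795 q26670, e3 q27809 L807584 q28917, e3 q27810 (flp_e L795807) q26607, e3 q27811 (flp_e L803707) q28485, e3 q27812 L807605 q28920, e3 q27813 (flp_e L795827) q26610, e3 q27814 L807622 q28922, e3 q27815 (flp_e L795839) q26612, e3 q27816 (flp_e L807593) q28918, e3 q27817 L807644 q28925, e3 q27818 (flp_e L795860) q26615, e3 q27819 (flp_e L803440) q28462, e3 q27820 L807660 q28927, e3 q27821 (flp_e L795880) q26618, e3 q27822 (flp_e L803551) q28472, e3 q27823 L807673 q28929, e3 q27824 (flp_e L795902) q26621, e3 q27825 (flp_e L801382) q28272, e3 q27826 L807691 q28931, e3 q27827 (flp_e L795926) q26626, e3 q27828 (flp_e L803311) q28451, e3 q27829 L807708 q28933, e3 q27830 (flp_e L795956) q26629, e3 q27831 L807714 q28934, e3 q27832 (flp_e L795968) q26632, e3 q27833 (flp_e L807364)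 q28883, e3 q27834 (flp_e L795977) q26635, e3 q27835 L807724 q28936, e3 q27836 (flp_e L795987) q26637, e3 q27837 (flp_e L804643) q28579, e3 q27838 L807730 q28937, e3 q27839 (flp_e L796005) q26642, trivial⟩ (by decide +kernel)

theorem ce_e_435 : ∀ r, r < 64 → sm ge (Qf (27840 + r)) = Qf (tab Gen.e (27840 + r)) :=
  edges_tab (sm ge) Qf (tab Gen.e) 27840 [(27840, 28855), (27841, 28585), (27842, 28184), (27843, 28597), (27844, 28600), (27845, 28940), (27846, 26652), (27847, 28942), (27848, 26654), (27849, 28943), (27850, 26656), (27851, 28784), (27852, 28946), (27853, 26659), (27854, 28947), (27855, 26661), (27856, 26663), (27857, 28949), (27858, 26665), (27859, 28499), (27860, 28951), (27861, 26668), (27862, 28950), (27863, 26739), (27864, 28505), (27865, 28142), (27866, 28954), (27867, 26675), (27868, 28956), (27869, 26677), (27870, 28518), (27871, 28958), (27872, 26680), (27873, 28034), (27874, 28962), (27875, 26683), (27876, 28965), (27877, 26684), (27878, 28027), (27879, 28968), (27880, 26686), (27881, 28970), (27882, 26688),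 (27883, 28803), (27884, 28524), (27885, 28973), (27886, 26692), (27887, 28974), (27888, 26694), (27889, 26697), (27890, 28062), (27891, 28975), (27892, 26701), (27893, 26708), (27894, 28977), (27895, 26704), (27896, 28777), (27897, 26706), (27898, 28976), (27899, 28468), (27900, 28982), (27901, 26709), (27902, 28701), (27903, 26713)]
    ⟨e3 q27840 (flp_e L807179) q28855, e3 q27841 (flp_e L804704) q28585, e3 q27842 (flp_e L800161) q28184, e3 q27843 (flp_e L804830) q28597, e3 q27844 (flp_e L804866) q28600, e3 q27845 L807748 q28940, e3 q27846 (flp_e L796044) q26652, e3 q27847 L807762 q28942, e3 q27848 (flp_e L796058) q26654, e3 q27849 L807770 q28943, e3 q27850 (flp_e L796068) q26656, e3 q27851 (flp_e L806613) q28784, e3 q27852 L807786 q28946, e3 q27853 (flp_e L796084) q26659, e3 q27854 L807792 q28947, e3 q27855 (flp_e L796096) q26661, e3 q27856 (flp_e L796102) q26663, e3 q27857 L807806 q28949, e3 q27858 (flp_e L796114) q26665, e3 q27859 (flp_e L803868) q28499, e3 q27860 L807819 q28951, e3 q27861 (flp_e L796134) q26668, e3 q27862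 (flp_e L807817) q28950, e3 q27863 L796149 q26739, e3 q27864 (flp_e L803933) q28505, e3 q27865 (flp_e L799596) q28142, e3 q27866 L807835 q28954, e3 q27867 (flp_e L796171) q26675, e3 q27868 L807847 q28956, e3 q27869 (flp_e L796183) q26677, e3 q27870 (flp_e L804069) q28518, e3 q27871 L807858 q28958, e3 q27872 (flp_e L796203) q26680, e3 q27873 (flp_e L798131) q28034, e3 q27874 L807888 q28962, e3 q27875 (flp_e L796227) q26683, e3 q27876 L807911 q28965, e3 q27877 (flp_e L796242) q26684, e3 q27878 (flp_e L798045) q28027, e3 q27879 L807932 q28968, e3 q27880 (flp_e L796263) q26686, e3 q27881 L807945 q28970, e3 q27882 (flp_e L796277) q26688, e3 q27883 (flp_e L806782) q28803, e3 q27884 (flp_e L804132) q28524, e3 q27885 L807963 q28973, e3 q27886 (flp_e L796300) q26692, e3 q27887 L807973 q28974, e3 q27888 (flp_e L796318) q26694, e3 q27889 (flp_e L796326) q26697, e3 q27890 (flp_e L798550) q28062, e3 q27891 L807981 q28975, e3 q27892 (flp_e L796344) q26701, e3 q27893 L796351 q26708, e3 q27894 L807991 q28977, e3 q27895 (flp_e L796359) q26704,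 e3 q27896 (flp_e L806543) q28777, e3 q27897 (flp_e L796370) q26706, e3 q27898 (flp_e L807989) q28976, e3 q27899 (flp_e L803511) q28468, e3 q27900 L808014 q28982, e3 q27901 (flp_e L796391) q26709, e3 q27902 (flp_e L805826) q28701, e3 q27903 (flp_e L796411) q26713, trivial⟩ (by decide +kernel)

theorem ce_e_436 : ∀ r, r < 64 → sm ge (Qf (27904 + r)) = Qf (tab Gen.e (27904 + r)) :=
  edges_tab (sm ge) Qf (tab Gen.e) 27904 [(27904, 26718), (27905, 26719), (27906, 28984), (27907, 28985), (27908, 28071), (27909, 28194), (27910, 28987), (27911, 26724), (27912, 26726), (27913, 28703), (27914, 28684), (27915, 28992), (27916, 26729), (27917, 28680), (27918, 28993), (27919, 26731), (27920, 28994), (27921, 26734), (27922, 26736), (27923, 26740), (27924, 28995), (27925, 26742), (27926, 26746), (27927, 28997), (27928, 26749), (27929, 26766), (27930, 27774), (27931, 26767), (27932, 27783), (27933, 27574), (27934, 29000), (27935, 26756), (27936, 27750), (27937, 27747), (27938, 27938), (27939, 27585), (27940, 27801), (27941, 29004), (27942,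 26764), (27943, 27797), (27944, 29006), (27945, 26770), (27946, 26772), (27947, 27196), (27948, 27195), (27949, 27108), (27950, 26863), (27951, 29012), (27952, 26778), (27953, 26909), (27954, 29015), (27955, 26780), (27956, 26781), (27957, 27957), (27958, 29021), (27959, 26783), (27960, 29024), (27961, 26784), (27962, 29027), (27963, 26785), (27964, 29025), (27965, 27965), (27966, 29031), (27967, 26788)]
    ⟨e3 q27904 L796427 q26718, e3 q27905 L796433 q26719, e3 q27906 (flp_e L808044) q28984, e3 q27907 (flp_e L808052) q28985, e3 q27908 (flp_e L798686) q28071, e3 q27909 (flp_e L800313) q28194, e3 q27910 L808064 q28987, e3 q27911 (flp_e L796473) q26724, e3 q27912 (flp_e L796481) q26726, e3 q27913 (flp_e L805840) q28703, e3 q27914 (flp_e L805679) q28684, e3 q27915 L808096 q28992, e3 q27916 (flp_e L796505) q26729, e3 q27917 (flp_e L805650) q28680, e3 q27918 L808104 q28993, e3 q27919 (flp_e L796525) q26731, e3 q27920 L808112 q28994, e3 q27921 (flp_e L796539) q26734, e3 q27922 (flp_e L796545) q26736, e3 q27923 L796557 q26740,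 e3 q27924 (flp_e L808124) q28995, e3 q27925 (flp_e L796565) q26742, e3 q27926 L796575 q26746, e3 q27927 L808144 q28997, e3 q27928 (flp_e L796593) q26749, e3 q27929 L796617 q26766, e3 q27930 L796633 q27774, e3 q27931 L796653 q26767, e3 q27932 L796669 q27783, e3 q27933 L796689 q27574, e3 q27934 L808202 q29000, e3 q27935 (flp_e L796713) q26756, e3 q27936 L796741 q27750, e3 q27937 L796749 q27747, e3 q27938 L796767 q27938, e3 q27939 L796781 q27585, e3 q27940 L796801 q27801, e3 q27941 L808268 q29004, e3 q27942 (flp_e L796833) q26764, e3 q27943 L796853 q27797, e3 q27944 L808306 q29006, e3 q27945 (flp_e L796883) q26770, e3 q27946 (flp_e L796901) q26772, e3 q27947 L796923 q27196, e3 q27948 L796931 q27195, e3 q27949 L796943 q27108, e3 q27950 L796965 q26863, e3 q27951 L808404 q29012, e3 q27952 (flp_e L796989) q26778, e3 q27953 L797010 q26909, e3 q27954 L808454 q29015, e3 q27955 (flp_e L797038) q26780, e3 q27956 (flp_e L797054) q26781, e3 q27957 L797080 q27957, e3 q27958 L808548 q29021, e3 q27959 (flp_e L797097) q26783, e3 q27960 L808593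 q29024, e3 q27961 (flp_e L797128) q26784, e3 q27962 L808634 q29027, e3 q27963 (flp_e L797153) q26785, e3 q27964 (flp_e L808620) q29025, e3 q27965 L797183 q27965, e3 q27966 L808682 q29031, e3 q27967 (flp_e L797201) q26788, trivial⟩ (by decide +kernel)

theorem ce_e_437 : ∀ r, r < 64 → sm ge (Qf (27968 + r)) = Qf (tab Gen.e (27968 + r)) :=
  edges_tab (sm ge) Qf (tab Gen.e) 27968 [(27968, 26926), (27969, 26930), (27970, 29035), (27971, 26792), (27972, 29038), (27973, 26793), (27974, 27609), (27975, 26809), (27976, 29042), (27977, 26796), (27978, 29045), (27979, 26797), (27980, 26942), (27981, 29048), (27982, 26800), (27983, 29051), (27984, 26801), (27985, 27624), (27986, 29054), (27987, 26803), (27988, 27627), (27989, 29056), (27990, 26806), (27991, 27560), (27992, 26810), (27993, 27993), (27994, 27554), (27995, 27561), (27996, 26972), (27997, 29063), (27998, 26815), (27999, 26819), (28000, 29067), (28001, 26817), (28002, 29065), (28003, 29066), (28004, 29071), (28005, 26821), (28006, 27167), (28007, 29074), (28008, 26823),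 (28009, 29064), (28010, 29077), (28011, 26826), (28012, 29079), (28013, 26827), (28014, 29080), (28015, 26829), (28016, 29082), (28017, 26831), (28018, 29085), (28019, 26832), (28020, 26838), (28021, 29089), (28022, 26834), (28023, 29083), (28024, 29092), (28025, 26836), (28026, 29087), (28027, 27878), (28028, 29095), (28029, 26839), (28030, 26848), (28031, 26844)]
    ⟨e3 q27968 L797219 q26926, e3 q27969 L797233 q26930, e3 q27970 L808743 q29035, e3 q27971 (flp_e L797263) q26792, e3 q27972 L808788 q29038, e3 q27973 (flp_e L797292) q26793, e3 q27974 L797318 q27609, e3 q27975 L797328 q26809, e3 q27976 L808848 q29042, e3 q27977 (flp_e L797353) q26796, e3 q27978 L808894 q29045, e3 q27979 (flp_e L797381) q26797, e3 q27980 L797397 q26942, e3 q27981 L808936 q29048, e3 q27982 (flp_e L797421) q26800, e3 q27983 L808979 q29051, e3 q27984 (flp_e L797446) q26801, e3 q27985 L797465 q27624, e3 q27986 L809010 q29054, e3 q27987 (flp_e L797483) q26803, e3 q27988 L797505 q27627, e3 q27989 L809038 q29056, e3 q27990 (flp_e L797523) q26806, e3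 q27991 L797547 q27560, e3 q27992 (flp_e L797549) q26810, e3 q27993 L797579 q27993, e3 q27994 L797594 q27554, e3 q27995 L797602 q27561, e3 q27996 L797615 q26972, e3 q27997 L809142 q29063, e3 q27998 (flp_e L797641) q26815, e3 q27999 L797667 q26819, e3 q28000 L809202 q29067, e3 q28001 (flp_e L797683) q26817, e3 q28002 (flp_e L809184) q29065, e3 q28003 (flp_e L809194) q29066, e3 q28004 L809258 q29071, e3 q28005 (flp_e L797735) q26821, e3 q28006 L797759 q27167, e3 q28007 L809300 q29074, e3 q28008 (flp_e L797773) q26823, e3 q28009 (flp_e L809164) q29064, e3 q28010 L809342 q29077, e3 q28011 (flp_e L797813) q26826, e3 q28012 L809376 q29079, e3 q28013 (flp_e L797845) q26827, e3 q28014 L809392 q29080, e3 q28015 (flp_e L797877) q26829, e3 q28016 L809426 q29082, e3 q28017 (flp_e L797909) q26831, e3 q28018 L809473 q29085, e3 q28019 (flp_e L797938) q26832, e3 q28020 L797961 q26838, e3 q28021 L809522 q29089, e3 q28022 (flp_e L797975) q26834, e3 q28023 (flp_e L809453) q29083, e3 q28024 L809564 q29092, e3 q28025 (flp_e L798013) q26836, e3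 q28026 (flp_e L809506) q29087, e3 q28027 L798045 q27878, e3 q28028 L809606 q29095, e3 q28029 (flp_e L798067) q26839, e3 q28030 L798087 q26848, e3 q28031 L798101 q26844, trivial⟩ (by decide +kernel)

theorem ce_e_438 : ∀ r, r < 64 → sm ge (Qf (28032 + r)) = Qf (tab Gen.e (28032 + r)) :=
  edges_tab (sm ge) Qf (tab Gen.e) 28032 [(28032, 26842), (28033, 29097), (28034, 27873), (28035, 26846), (28036, 29096), (28037, 29098), (28038, 26854), (28039, 26851), (28040, 29017), (28041, 26856), (28042, 29104), (28043, 28043), (28044, 27366), (28045, 27675), (28046, 29010), (28047, 29108), (28048, 26864), (28049, 27132), (28050, 29111), (28051, 26866), (28052, 27736), (28053, 29113), (28054, 26869), (28055, 29115), (28056, 26871), (28057, 29116), (28058, 26873), (28059, 29118), (28060, 26876), (28061, 27651), (28062, 27890), (28063, 29121), (28064, 26880), (28065, 29123), (28066, 26882), (28067, 29124), (28068, 26884), (28069, 29126), (28070, 26887), (28071, 27908), (28072, 26891), (28073, 29129), (28074, 26893), (28075, 29130), (28076,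 26895), (28077, 26897), (28078, 29132), (28079, 26899), (28080, 28080), (28081, 29135), (28082, 26901), (28083, 29138), (28084, 26902), (28085, 29141), (28086, 26903), (28087, 29139), (28088, 28088), (28089, 29145), (28090, 26906), (28091, 29148), (28092, 26907), (28093, 29013), (28094, 29151), (28095, 26910)]
    ⟨e3 q28032 (flp_e L798105) q26842, e3 q28033 (flp_e L809642) q29097, e3 q28034 L798131 q27873, e3 q28035 (flp_e L798139) q26846, e3 q28036 (flp_e L809628) q29096, e3 q28037 (flp_e L809652) q29098, e3 q28038 L798183 q26854, e3 q28039 L798195 q26851, e3 q28040 (flp_e L808496) q29017, e3 q28041 L798222 q26856, e3 q28042 (flp_e L809725) q29104, e3 q28043 L798251 q28043, e3 q28044 L798263 q27366, e3 q28045 L798283 q27675, e3 q28046 (flp_e L808380) q29010, e3 q28047 L809787 q29108, e3 q28048 (flp_e L798327) q26864, e3 q28049 L798346 q27132, e3 q28050 L809835 q29111, e3 q28051 (flp_e L798372) q26866, e3 q28052 L798392 q27736, e3 q28053 L809869 q29113, e3 q28054 (flp_e L798418) q26869, e3 q28055 L809902 q29115, e3 q28056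 (flp_e L798448) q26871, e3 q28057 L809918 q29116, e3 q28058 (flp_e L798480) q26873, e3 q28059 L809956 q29118, e3 q28060 (flp_e L798514) q26876, e3 q28061 L798536 q27651, e3 q28062 L798550 q27890, e3 q28063 L810007 q29121, e3 q28064 (flp_e L798576) q26880, e3 q28065 L810040 q29123, e3 q28066 (flp_e L798608) q26882, e3 q28067 L810058 q29124, e3 q28068 (flp_e L798640) q26884, e3 q28069 L810090 q29126, e3 q28070 (flp_e L798668) q26887, e3 q28071 L798686 q27908, e3 q28072 (flp_e L798696) q26891, e3 q28073 L810133 q29129, e3 q28074 (flp_e L798730) q26893, e3 q28075 L810151 q29130, e3 q28076 (flp_e L798764) q26895, e3 q28077 (flp_e L798780) q26897, e3 q28078 L810185 q29132, e3 q28079 (flp_e L798810) q26899, e3 q28080 L798837 q28080, e3 q28081 L810231 q29135, e3 q28082 (flp_e L798854) q26901, e3 q28083 L810276 q29138, e3 q28084 (flp_e L798885) q26902, e3 q28085 L810317 q29141, e3 q28086 (flp_e L798910) q26903, e3 q28087 (flp_e L810303) q29139, e3 q28088 L798940 q28088, e3 q28089 L810367 q29145, e3 q28090 (flp_e L798962) q26906, e3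 q28091 L810412 q29148, e3 q28092 (flp_e L798989) q26907, e3 q28093 (flp_e L808426) q29013, e3 q28094 L810449 q29151, e3 q28095 (flp_e L799029) q26910, trivial⟩ (by decide +kernel)

theorem ce_e_439 : ∀ r, r < 64 → sm ge (Qf (28096 + r)) = Qf (tab Gen.e (28096 + r)) :=
  edges_tab (sm ge) Qf (tab Gen.e) 28096 [(28096, 29153), (28097, 26912), (28098, 29049), (28099, 27386), (28100, 29158), (28101, 26916), (28102, 27365), (28103, 29162), (28104, 26918), (28105, 26922), (28106, 29165), (28107, 26920), (28108, 29164), (28109, 29061), (28110, 29168), (28111, 26924), (28112, 29163), (28113, 29172), (28114, 26927), (28115, 29175), (28116, 26928), (28117, 29033), (28118, 29178), (28119, 26931), (28120, 29180), (28121, 26933), (28122, 29182), (28123, 26935), (28124, 27427), (28125, 29185), (28126, 26938), (28127, 29173), (28128, 29187), (28129, 26940), (28130, 27391), (28131, 29191), (28132, 26943), (28133, 29193), (28134, 26945), (28135, 27476), (28136, 29196), (28137, 26948), (28138, 29198), (28139, 26950), (28140, 29159), (28141,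 27473), (28142, 27865), (28143, 26954), (28144, 27714), (28145, 29204), (28146, 26957), (28147, 29205), (28148, 26959), (28149, 26961), (28150, 27501), (28151, 27497), (28152, 27137), (28153, 27127), (28154, 29210), (28155, 26967), (28156, 29212), (28157, 26968), (28158, 26986), (28159, 29215)]
    ⟨e3 q28096 L810473 q29153, e3 q28097 (flp_e L799055) q26912, e3 q28098 (flp_e L808963) q29049, e3 q28099 L799079 q27386, e3 q28100 L810524 q29158, e3 q28101 (flp_e L799091) q26916, e3 q28102 L799112 q27365, e3 q28103 L810569 q29162, e3 q28104 (flp_e L799124) q26918, e3 q28105 L799143 q26922, e3 q28106 L810600 q29165, e3 q28107 (flp_e L799155) q26920, e3 q28108 (flp_e L810598) q29164, e3 q28109 (flp_e L809116) q29061, e3 q28110 L810626 q29168, e3 q28111 (flp_e L799195) q26924, e3 q28112 (flp_e L810586) q29163, e3 q28113 L810671 q29172, e3 q28114 (flp_e L799230) q26927, e3 q28115 L810714 q29175, e3 q28116 (flp_e L799257) q26928, e3 q28117 (flp_e L808713) q29033, e3 q28118 L810753 q29178, e3 q28119 (flp_e L799295) q26931, e3 q28120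 L810783 q29180, e3 q28121 (flp_e L799323) q26933, e3 q28122 L810808 q29182, e3 q28123 (flp_e L799349) q26935, e3 q28124 L799369 q27427, e3 q28125 L810846 q29185, e3 q28126 (flp_e L799383) q26938, e3 q28127 (flp_e L810698) q29173, e3 q28128 L810872 q29187, e3 q28129 (flp_e L799423) q26940, e3 q28130 L799445 q27391, e3 q28131 L810930 q29191, e3 q28132 (flp_e L799463) q26943, e3 q28133 L810963 q29193, e3 q28134 (flp_e L799493) q26945, e3 q28135 L799509 q27476, e3 q28136 L811015 q29196, e3 q28137 (flp_e L799539) q26948, e3 q28138 L811048 q29198, e3 q28139 (flp_e L799561) q26950, e3 q28140 (flp_e L810543) q29159, e3 q28141 L799586 q27473, e3 q28142 L799596 q27865, e3 q28143 (flp_e L799608) q26954, e3 q28144 L799624 q27714, e3 q28145 L811123 q29204, e3 q28146 (flp_e L799644) q26957, e3 q28147 L811141 q29205, e3 q28148 (flp_e L799678) q26959, e3 q28149 (flp_e L799694) q26961, e3 q28150 L799710 q27501, e3 q28151 L799720 q27497, e3 q28152 L799730 q27137, e3 q28153 L799746 q27127, e3 q28154 L811213 q29210, e3 q28155 (flp_e L799770)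 q26967, e3 q28156 L811243 q29212, e3 q28157 (flp_e L799799) q26968, e3 q28158 L799820 q26986, e3 q28159 L811276 q29215, trivial⟩ (by decide +kernel)

theorem ce_e_440 : ∀ r, r < 64 → sm ge (Qf (28160 + r)) = Qf (tab Gen.e (28160 + r)) :=
  edges_tab (sm ge) Qf (tab Gen.e) 28160 [(28160, 26970), (28161, 29086), (28162, 29219), (28163, 26973), (28164, 29220), (28165, 26975), (28166, 26990), (28167, 26978), (28168, 27428), (28169, 27367), (28170, 29225), (28171, 26982), (28172, 29226), (28173, 26984), (28174, 29214), (28175, 26987), (28176, 27392), (28177, 29221), (28178, 29231), (28179, 26991), (28180, 29233), (28181, 26993), (28182, 29234), (28183, 26995), (28184, 27842), (28185, 26998), (28186, 27590), (28187, 29236), (28188, 27001), (28189, 27003), (28190, 27415), (28191, 27414), (28192, 27467), (28193, 27496), (28194, 27909), (28195, 27664), (28196, 29241), (28197, 27013), (28198, 27015), (28199, 27707), (28200, 27431), (28201, 27370), (28202, 27129), (28203, 27380), (28204, 27075), (28205, 27082), (28206, 27093), (28207,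 29248), (28208, 27026), (28209, 29250), (28210, 27028), (28211, 27104), (28212, 27106), (28213, 27110), (28214, 29252), (28215, 27033), (28216, 29253), (28217, 27035), (28218, 29255), (28219, 27038), (28220, 29258), (28221, 27039), (28222, 29261), (28223, 27040)]
    ⟨e3 q28160 (flp_e L799832) q26970, e3 q28161 (flp_e L809494) q29086, e3 q28162 L811323 q29219, e3 q28163 (flp_e L799867) q26973, e3 q28164 L811341 q29220, e3 q28165 (flp_e L799897) q26975, e3 q28166 L799921 q26990, e3 q28167 (flp_e L799925) q26978, e3 q28168 L799943 q27428, e3 q28169 L799951 q27367, e3 q28170 L811409 q29225, e3 q28171 (flp_e L799971) q26982, e3 q28172 L811427 q29226, e3 q28173 (flp_e L800001) q26984, e3 q28174 (flp_e L811272) q29214, e3 q28175 (flp_e L800025) q26987, e3 q28176 L800045 q27392, e3 q28177 (flp_e L811365) q29221, e3 q28178 L811503 q29231, e3 q28179 (flp_e L800079) q26991, e3 q28180 L811537 q29233, e3 q28181 (flp_e L800109) q26993, e3 q28182 L811555 q29234, e3 q28183 (flp_e L800141) q26995, e3 q28184 L800161 q27842, e3 q28185 (flp_e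 L800175) q26998, e3 q28186 L800193 q27590, e3 q28187 L811585 q29236, e3 q28188 (flp_e L800211) q27001, e3 q28189 (flp_e L800225) q27003, e3 q28190 L800251 q27415, e3 q28191 L800261 q27414, e3 q28192 L800275 q27467, e3 q28193 L800295 q27496, e3 q28194 L800313 q27909, e3 q28195 L800321 q27664, e3 q28196 L811671 q29241, e3 q28197 (flp_e L800337) q27013, e3 q28198 (flp_e L800349) q27015, e3 q28199 L800363 q27707, e3 q28200 L800367 q27431, e3 q28201 L800381 q27370, e3 q28202 L800391 q27129, e3 q28203 L800401 q27380, e3 q28204 L800419 q27075, e3 q28205 L800439 q27082, e3 q28206 L800455 q27093, e3 q28207 L811773 q29248, e3 q28208 (flp_e L800483) q27026, e3 q28209 L811807 q29250, e3 q28210 (flp_e L800515) q27028, e3 q28211 L800537 q27104, e3 q28212 L800551 q27106, e3 q28213 L800569 q27110, e3 q28214 L811845 q29252, e3 q28215 (flp_e L800593) q27033, e3 q28216 L811863 q29253, e3 q28217 (flp_e L800625) q27035, e3 q28218 L811897 q29255, e3 q28219 (flp_e L800657) q27038, e3 q28220 L811944 q29258, e3 q28221 (flp_e L800688) q27039, e3 q28222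 L811985 q29261, e3 q28223 (flp_e L800711) q27040, trivial⟩ (by decide +kernel)

theorem ce_e_441 : ∀ r, r < 64 → sm ge (Qf (28224 + r)) = Qf (tab Gen.e (28224 + r)) :=
  edges_tab (sm ge) Qf (tab Gen.e) 28224 [(28224, 29259), (28225, 29264), (28226, 27043), (28227, 27148), (28228, 27157), (28229, 29267), (28230, 27047), (28231, 29269), (28232, 27049), (28233, 27076), (28234, 29272), (28235, 27051), (28236, 27077), (28237, 29275), (28238, 27054), (28239, 29276), (28240, 27056), (28241, 27092), (28242, 27181), (28243, 29278), (28244, 27062), (28245, 29279), (28246, 27064), (28247, 27066), (28248, 27109), (28249, 29281), (28250, 27069), (28251, 27071), (28252, 27107), (28253, 27772), (28254, 29245), (28255, 29271), (28256, 29273), (28257, 29286), (28258, 27078), (28259, 29287), (28260, 27080), (28261, 27291), (28262, 29290), (28263, 27084), (28264, 29293), (28265, 27085), (28266, 29296), (28267, 27086), (28268, 29294), (28269, 28269), (28270, 29300), (28271, 27089), (28272, 27825), (28273, 29277), (28274, 29246), (28275, 29304),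 (28276, 27094), (28277, 29306), (28278, 27096), (28279, 27222), (28280, 27804), (28281, 29310), (28282, 27099), (28283, 27231), (28284, 29312), (28285, 27102), (28286, 27767), (28287, 27342)]
    ⟨e3 q28224 (flp_e L811971) q29259, e3 q28225 L812021 q29264, e3 q28226 (flp_e L800745) q27043, e3 q28227 L800763 q27148, e3 q28228 L800777 q27157, e3 q28229 L812066 q29267, e3 q28230 (flp_e L800801) q27047, e3 q28231 L812098 q29269, e3 q28232 (flp_e L800833) q27049, e3 q28233 L800858 q27076, e3 q28234 L812139 q29272, e3 q28235 (flp_e L800870) q27051, e3 q28236 L800892 q27077, e3 q28237 L812183 q29275, e3 q28238 (flp_e L800912) q27054, e3 q28239 L812201 q29276, e3 q28240 (flp_e L800936) q27056, e3 q28241 L800958 q27092, e3 q28242 L800968 q27181, e3 q28243 L812227 q29278, e3 q28244 (flp_e L800990) q27062, e3 q28245 L812243 q29279, e3 q28246 (flp_e L801020) q27064, e3 q28247 (flp_e L801036) q27066, e3 q28248 L801056 q27109, e3 q28249 L812277 q29281, e3 q28250 (flp_e L801072) q27069, e3 q28251 (flp_e L801088) q27071, e3 q28252 L801106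 q27107, e3 q28253 L801116 q27772, e3 q28254 (flp_e L811723) q29245, e3 q28255 (flp_e L812135) q29271, e3 q28256 (flp_e L812161) q29273, e3 q28257 L812359 q29286, e3 q28258 (flp_e L801182) q27078, e3 q28259 L812375 q29287, e3 q28260 (flp_e L801210) q27080, e3 q28261 L801224 q27291, e3 q28262 L812421 q29290, e3 q28263 (flp_e L801252) q27084, e3 q28264 L812466 q29293, e3 q28265 (flp_e L801283) q27085, e3 q28266 L812509 q29296, e3 q28267 (flp_e L801310) q27086, e3 q28268 (flp_e L812493) q29294, e3 q28269 L801344 q28269, e3 q28270 L812563 q29300, e3 q28271 (flp_e L801364) q27089, e3 q28272 L801382 q27825, e3 q28273 (flp_e L812221) q29277, e3 q28274 (flp_e L811743) q29246, e3 q28275 L812622 q29304, e3 q28276 (flp_e L801430) q27094, e3 q28277 L812650 q29306, e3 q28278 (flp_e L801456) q27096, e3 q28279 L801479 q27222, e3 q28280 L801487 q27804, e3 q28281 L812703 q29310, e3 q28282 (flp_e L801511) q27099, e3 q28283 L801531 q27231, e3 q28284 L812729 q29312, e3 q28285 (flp_e L801543) q27102, e3 q28286 L801563 q27767, e3 q28287 L801571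 q27342, trivial⟩ (by decide +kernel)

theorem ce_e_442 : ∀ r, r < 64 → sm ge (Qf (28288 + r)) = Qf (tab Gen.e (28288 + r)) :=
  edges_tab (sm ge) Qf (tab Gen.e) 28288 [(28288, 29251), (28289, 29282), (28290, 29008), (28291, 29280), (28292, 29317), (28293, 27111), (28294, 27172), (28295, 27177), (28296, 29320), (28297, 27115), (28298, 27123), (28299, 27120), (28300, 27118), (28301, 29322), (28302, 27121), (28303, 29321), (28304, 29323), (28305, 27125), (28306, 29328), (28307, 29208), (28308, 29331), (28309, 27128), (28310, 29244), (28311, 29334), (28312, 27130), (28313, 29109), (28314, 29337), (28315, 27133), (28316, 29022), (28317, 27638), (28318, 28318), (28319, 28319), (28320, 29189), (28321, 29345), (28322, 27138), (28323, 29016), (28324, 29350), (28325, 27140), (28326, 27144), (28327, 29354), (28328, 27142), (28329, 29352), (28330, 29353), (28331, 28331), (28332, 29358), (28333, 27146), (28334, 29351), (28335, 27795), (28336, 29362), (28337, 27150), (28338, 29364), (28339, 27151), (28340, 29366), (28341, 27153), (28342,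 29367), (28343, 27155), (28344, 29369), (28345, 27158), (28346, 27259), (28347, 29372), (28348, 27160), (28349, 27742), (28350, 29375), (28351, 27163)]
    ⟨e3 q28288 (flp_e L811831) q29251, e3 q28289 (flp_e L812307) q29282, e3 q28290 (flp_e L808342) q29008, e3 q28291 (flp_e L812275) q29280, e3 q28292 L812802 q29317, e3 q28293 (flp_e L801634) q27111, e3 q28294 L801658 q27172, e3 q28295 L801676 q27177, e3 q28296 L812848 q29320, e3 q28297 (flp_e L801688) q27115, e3 q28298 L801708 q27123, e3 q28299 L801724 q27120, e3 q28300 (flp_e L801728) q27118, e3 q28301 (flp_e L812886) q29322, e3 q28302 (flp_e L801744) q27121, e3 q28303 (flp_e L812870) q29321, e3 q28304 (flp_e L812896) q29323, e3 q28305 L801780 q27125, e3 q28306 (flp_e L812957) q29328, e3 q28307 (flp_e L811189) q29208, e3 q28308 L812999 q29331, e3 q28309 (flp_e L801833) q27128, e3 q28310 (flp_e L811711) q29244, e3 q28311 L813037 q29334, e3 q28312 (flp_e L801870) q27130, e3 q28313 (flp_e L809807) q29109, e3 q28314 L813066 q29337, e3 q28315 (flp_e L801902) q27133, e3 q28316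 (flp_e L808575) q29022, e3 q28317 L801924 q27638, e3 q28318 L801937 q28318, e3 q28319 L801946 q28319, e3 q28320 (flp_e L810904) q29189, e3 q28321 L813149 q29345, e3 q28322 (flp_e L801978) q27138, e3 q28323 (flp_e L808482) q29016, e3 q28324 L813187 q29350, e3 q28325 (flp_e L802001) q27140, e3 q28326 L802014 q27144, e3 q28327 L813221 q29354, e3 q28328 (flp_e L802024) q27142, e3 q28329 (flp_e L813210) q29352, e3 q28330 (flp_e L813215) q29353, e3 q28331 L802054 q28331, e3 q28332 L813259 q29358, e3 q28333 (flp_e L802074) q27146, e3 q28334 (flp_e L813202) q29351, e3 q28335 L802097 q27795, e3 q28336 L813304 q29362, e3 q28337 (flp_e L802123) q27150, e3 q28338 L813332 q29364, e3 q28339 (flp_e L802150) q27151, e3 q28340 L813355 q29366, e3 q28341 (flp_e L802172) q27153, e3 q28342 L813365 q29367, e3 q28343 (flp_e L802192) q27155, e3 q28344 L813391 q29369, e3 q28345 (flp_e L802216) q27158, e3 q28346 L802239 q27259, e3 q28347 L813434 q29372, e3 q28348 (flp_e L802259) q27160, e3 q28349 L802285 q27742, e3 q28350 L813474 q29375, e3 q28351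 (flp_e L802297) q27163, trivial⟩ (by decide +kernel)

theorem ce_e_443 : ∀ r, r < 64 → sm ge (Qf (28352 + r)) = Qf (tab Gen.e (28352 + r)) :=
  edges_tab (sm ge) Qf (tab Gen.e) 28352 [(28352, 29043), (28353, 29378), (28354, 27165), (28355, 29346), (28356, 29073), (28357, 29382), (28358, 27168), (28359, 27170), (28360, 29318), (28361, 29384), (28362, 27173), (28363, 27175), (28364, 29319), (28365, 27492), (28366, 27421), (28367, 29388), (28368, 27179), (28369, 29390), (28370, 27182), (28371, 29392), (28372, 27183), (28373, 29395), (28374, 27185), (28375, 29396), (28376, 27187), (28377, 29397), (28378, 27189), (28379, 27191), (28380, 27193), (28381, 29009), (28382, 29007), (28383, 29400), (28384, 27197), (28385, 27203), (28386, 29404), (28387, 27199), (28388, 29256), (28389, 29406), (28390, 27201), (28391, 29402), (28392, 29408), (28393, 27204), (28394, 27209), (28395, 27207), (28396, 29409), (28397, 29412), (28398, 27210), (28399, 27217), (28400, 29415), (28401, 27212), (28402, 27516), (28403, 27221), (28404, 29420), (28405,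 27215), (28406, 27520), (28407, 29414), (28408, 29146), (28409, 27218), (28410, 27522), (28411, 29417), (28412, 29429), (28413, 29308), (28414, 29431), (28415, 27223)]
    ⟨e3 q28352 (flp_e L808876) q29043, e3 q28353 L813499 q29378, e3 q28354 (flp_e L802320) q27165, e3 q28355 (flp_e L813162) q29346, e3 q28356 (flp_e L809296) q29073, e3 q28357 L813524 q29382, e3 q28358 (flp_e L802349) q27168, e3 q28359 (flp_e L802359) q27170, e3 q28360 (flp_e L812826) q29318, e3 q28361 L813542 q29384, e3 q28362 (flp_e L802385) q27173, e3 q28363 (flp_e L802401) q27175, e3 q28364 (flp_e L812844) q29319, e3 q28365 L802417 q27492, e3 q28366 L802424 q27421, e3 q28367 L813582 q29388, e3 q28368 (flp_e L802438) q27179, e3 q28369 L813612 q29390, e3 q28370 (flp_e L802468) q27182, e3 q28371 L813638 q29392, e3 q28372 (flp_e L802495) q27183, e3 q28373 L813669 q29395, e3 q28374 (flp_e L802515) q27185, e3 q28375 L813681 q29396, e3 q28376 (flp_e L802537) q27187, e3 q28377 L813691 q29397, e3 q28378 (flp_e L802557) q27189, e3 q28379 (flp_e L802565) q27191,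 e3 q28380 (flp_e L802573) q27193, e3 q28381 (flp_e L808364) q29009, e3 q28382 (flp_e L808338) q29007, e3 q28383 L813729 q29400, e3 q28384 (flp_e L802623) q27197, e3 q28385 L802644 q27203, e3 q28386 L813776 q29404, e3 q28387 (flp_e L802660) q27199, e3 q28388 (flp_e L811924) q29256, e3 q28389 L813802 q29406, e3 q28390 (flp_e L802696) q27201, e3 q28391 (flp_e L813760) q29402, e3 q28392 L813830 q29408, e3 q28393 (flp_e L802736) q27204, e3 q28394 L802760 q27209, e3 q28395 (flp_e L802764) q27207, e3 q28396 (flp_e L813856) q29409, e3 q28397 L813880 q29412, e3 q28398 (flp_e L802796) q27210, e3 q28399 L802807 q27217, e3 q28400 L813901 q29415, e3 q28401 (flp_e L802817) q27212, e3 q28402 L802826 q27516, e3 q28403 L802834 q27221, e3 q28404 L813933 q29420, e3 q28405 (flp_e L802844) q27215, e3 q28406 L802862 q27520, e3 q28407 (flp_e L813899) q29414, e3 q28408 (flp_e L810394) q29146, e3 q28409 (flp_e L802882) q27218, e3 q28410 L802898 q27522, e3 q28411 (flp_e L813919) q29417, e3 q28412 L814025 q29429, e3 q28413 (flp_e L812679) q29308, e3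 q28414 L814051 q29431, e3 q28415 (flp_e L802938) q27223, trivial⟩ (by decide +kernel)

theorem ce_e_444 : ∀ r, r < 64 → sm ge (Qf (28416 + r)) = Qf (tab Gen.e (28416 + r)) :=
  edges_tab (sm ge) Qf (tab Gen.e) 28416 [(28416, 27225), (28417, 27236), (28418, 27230), (28419, 27237), (28420, 29433), (28421, 29311), (28422, 27803), (28423, 27233), (28424, 29432), (28425, 29434), (28426, 29435), (28427, 27239), (28428, 29439), (28429, 29136), (28430, 27245), (28431, 27294), (28432, 29440), (28433, 27247), (28434, 27331), (28435, 27252), (28436, 29442), (28437, 27254), (28438, 27375), (28439, 29444), (28440, 27257), (28441, 29371), (28442, 29446), (28443, 27260), (28444, 29370), (28445, 29449), (28446, 27263), (28447, 27412), (28448, 29451), (28449, 27266), (28450, 27269), (28451, 27828), (28452, 29452), (28453, 27272), (28454, 29114), (28455, 27276), (28456, 29454), (28457, 27281), (28458, 27283), (28459, 27673), (28460, 27667), (28461, 27346), (28462, 27819), (28463, 29288), (28464, 29457), (28465, 27292), (28466, 29458), (28467,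 27295), (28468, 27899), (28469, 27297), (28470, 29461), (28471, 27299), (28472, 27822), (28473, 29464), (28474, 27302), (28475, 27306), (28476, 29468), (28477, 27304), (28478, 29466), (28479, 29467)]
    ⟨e3 q28416 (flp_e L802948) q27225, e3 q28417 L802956 q27236, e3 q28418 L802962 q27230, e3 q28419 L802968 q27237, e3 q28420 (flp_e L814073) q29433, e3 q28421 (flp_e L812725) q29311, e3 q28422 L802984 q27803, e3 q28423 (flp_e L802992) q27233, e3 q28424 (flp_e L814067) q29432, e3 q28425 (flp_e L814079) q29434, e3 q28426 (flp_e L814085) q29435, e3 q28427 L803025 q27239, e3 q28428 L814113 q29439, e3 q28429 (flp_e L810258) q29136, e3 q28430 (flp_e L803057) q27245, e3 q28431 L803074 q27294, e3 q28432 L814126 q29440, e3 q28433 (flp_e L803098) q27247, e3 q28434 L803118 q27331, e3 q28435 (flp_e L803128) q27252, e3 q28436 L814156 q29442, e3 q28437 (flp_e L803148) q27254, e3 q28438 L803162 q27375, e3 q28439 L814179 q29444, e3 q28440 (flp_e L803180) q27257, e3 q28441 (flp_e L813430) q29371, e3 q28442 L814201 q29446, e3 q28443 (flp_e L803210)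 q27260, e3 q28444 (flp_e L813412) q29370, e3 q28445 L814235 q29449, e3 q28446 (flp_e L803241) q27263, e3 q28447 L803259 q27412, e3 q28448 L814264 q29451, e3 q28449 (flp_e L803281) q27266, e3 q28450 (flp_e L803293) q27269, e3 q28451 L803311 q27828, e3 q28452 L814278 q29452, e3 q28453 (flp_e L803333) q27272, e3 q28454 (flp_e L809898) q29114, e3 q28455 (flp_e L803356) q27276, e3 q28456 L814300 q29454, e3 q28457 (flp_e L803378) q27281, e3 q28458 (flp_e L803388) q27283, e3 q28459 L803406 q27673, e3 q28460 L803412 q27667, e3 q28461 L803424 q27346, e3 q28462 L803440 q27819, e3 q28463 (flp_e L812393) q29288, e3 q28464 L814340 q29457, e3 q28465 (flp_e L803470) q27292, e3 q28466 L814350 q29458, e3 q28467 (flp_e L803490) q27295, e3 q28468 L803511 q27899, e3 q28469 (flp_e L803515) q27297, e3 q28470 L814390 q29461, e3 q28471 (flp_e L803533) q27299, e3 q28472 L803551 q27822, e3 q28473 L814427 q29464, e3 q28474 (flp_e L803573) q27302, e3 q28475 L803594 q27306, e3 q28476 L814471 q29468, e3 q28477 (flp_e L803610) q27304, e3 q28478 (flp_e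 L814456) q29466, e3 q28479 (flp_e L814465) q29467, trivial⟩ (by decide +kernel)

theorem ce_e_445 : ∀ r, r < 64 → sm ge (Qf (28480 + r)) = Qf (tab Gen.e (28480 + r)) :=
  edges_tab (sm ge) Qf (tab Gen.e) 28480 [(28480, 29471), (28481, 27308), (28482, 29465), (28483, 29475), (28484, 27311), (28485, 27811), (28486, 29478), (28487, 27314), (28488, 29315), (28489, 29481), (28490, 27316), (28491, 27619), (28492, 27319), (28493, 27636), (28494, 27632), (28495, 27620), (28496, 27614), (28497, 29488), (28498, 27326), (28499, 27859), (28500, 29490), (28501, 27329), (28502, 29489), (28503, 29493), (28504, 27332), (28505, 27864), (28506, 29496), (28507, 27335), (28508, 29498), (28509, 27337), (28510, 27345), (28511, 29500), (28512, 27340), (28513, 29497), (28514, 29314), (28515, 27343), (28516, 29499), (28517, 29456), (28518, 27870), (28519, 29506), (28520, 27349), (28521, 29508), (28522, 27351), (28523, 29213), (28524, 27884), (28525, 27355), (28526, 27359), (28527, 27360), (28528, 29511), (28529, 29512), (28530, 29160), (28531, 27363),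 (28532, 29105), (28533, 29223), (28534, 29517), (28535, 27368), (28536, 29243), (28537, 29520), (28538, 27371), (28539, 29522), (28540, 27373), (28541, 29518), (28542, 29526), (28543, 27376)]
    ⟨e3 q28480 L814513 q29471, e3 q28481 (flp_e L803658) q27308, e3 q28482 (flp_e L814444) q29465, e3 q28483 L814554 q29475, e3 q28484 (flp_e L803687) q27311, e3 q28485 L803707 q27811, e3 q28486 L814593 q29478, e3 q28487 (flp_e L803727) q27314, e3 q28488 (flp_e L812774) q29315, e3 q28489 L814623 q29481, e3 q28490 (flp_e L803759) q27316, e3 q28491 L803781 q27619, e3 q28492 (flp_e L803783) q27319, e3 q28493 L803801 q27636, e3 q28494 L803809 q27632, e3 q28495 L803821 q27620, e3 q28496 L803827 q27614, e3 q28497 L814704 q29488, e3 q28498 (flp_e L803848) q27326, e3 q28499 L803868 q27859, e3 q28500 L814733 q29490, e3 q28501 (flp_e L803886) q27329, e3 q28502 (flp_e L814729) q29489, e3 q28503 L814765 q29493, e3 q28504 (flp_e L803915) q27332, e3 q28505 L803933 q27864, e3 q28506 L814802 q29496, e3 q28507 (flp_e L803953) q27335, e3 q28508 L814824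 q29498, e3 q28509 (flp_e L803977) q27337, e3 q28510 L804001 q27345, e3 q28511 L814850 q29500, e3 q28512 (flp_e L804009) q27340, e3 q28513 (flp_e L814822) q29497, e3 q28514 (flp_e L812759) q29314, e3 q28515 (flp_e L804033) q27343, e3 q28516 (flp_e L814848) q29499, e3 q28517 (flp_e L814330) q29456, e3 q28518 L804069 q27870, e3 q28519 L814912 q29506, e3 q28520 (flp_e L804091) q27349, e3 q28521 L814937 q29508, e3 q28522 (flp_e L804113) q27351, e3 q28523 (flp_e L811260) q29213, e3 q28524 L804132 q27884, e3 q28525 (flp_e L804144) q27355, e3 q28526 L804162 q27359, e3 q28527 L804170 q27360, e3 q28528 (flp_e L814972) q29511, e3 q28529 (flp_e L814978) q29512, e3 q28530 (flp_e L810555) q29160, e3 q28531 L804198 q27363, e3 q28532 (flp_e L809741) q29105, e3 q28533 (flp_e L811387) q29223, e3 q28534 L815022 q29517, e3 q28535 (flp_e L804240) q27368, e3 q28536 (flp_e L811703) q29243, e3 q28537 L815055 q29520, e3 q28538 (flp_e L804272) q27371, e3 q28539 L815070 q29522, e3 q28540 (flp_e L804288) q27373, e3 q28541 (flp_e L815043) q29518, e3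 q28542 L815105 q29526, e3 q28543 (flp_e L804311) q27376, trivial⟩ (by decide +kernel)

theorem ce_e_446 : ∀ r, r < 64 → sm ge (Qf (28544 + r)) = Qf (tab Gen.e (28544 + r)) :=
  edges_tab (sm ge) Qf (tab Gen.e) 28544 [(28544, 29036), (28545, 29040), (28546, 28546), (28547, 28547), (28548, 29229), (28549, 29533), (28550, 27381), (28551, 27385), (28552, 29536), (28553, 27383), (28554, 29154), (28555, 29535), (28556, 29156), (28557, 29541), (28558, 29543), (28559, 27389), (28560, 29188), (28561, 29228), (28562, 29546), (28563, 27393), (28564, 27650), (28565, 29550), (28566, 27395), (28567, 27406), (28568, 27400), (28569, 27401), (28570, 27398), (28571, 29552), (28572, 29555), (28573, 29558), (28574, 27402), (28575, 29547), (28576, 27404), (28577, 29551), (28578, 29554), (28579, 27837), (28580, 29566), (28581, 27408), (28582, 29568), (28583, 27410), (28584, 29192), (28585, 27841), (28586, 29238), (28587, 29237), (28588, 29573), (28589, 27417), (28590, 29575), (28591, 27419), (28592, 27704), (28593, 29387), (28594, 27422), (28595,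 27703), (28596, 27698), (28597, 27843), (28598, 29183), (28599, 29222), (28600, 27844), (28601, 29242), (28602, 27432), (28603, 29584), (28604, 27434), (28605, 27555), (28606, 27436), (28607, 27543)]
    ⟨e3 q28544 (flp_e L808770) q29036, e3 q28545 (flp_e L808824) q29040, e3 q28546 L804357 q28546, e3 q28547 L804368 q28547, e3 q28548 (flp_e L811469) q29229, e3 q28549 L815193 q29533, e3 q28550 (flp_e L804401) q27381, e3 q28551 L804418 q27385, e3 q28552 L815220 q29536, e3 q28553 (flp_e L804426) q27383, e3 q28554 (flp_e L810491) q29154, e3 q28555 (flp_e L815218) q29535, e3 q28556 (flp_e L810505) q29156, e3 q28557 L815266 q29541, e3 q28558 L815293 q29543, e3 q28559 (flp_e L804484) q27389, e3 q28560 (flp_e L810894) q29188, e3 q28561 (flp_e L811463) q29228, e3 q28562 L815331 q29546, e3 q28563 (flp_e L804532) q27393, e3 q28564 L804545 q27650, e3 q28565 L815365 q29550, e3 q28566 (flp_e L804553) q27395, e3 q28567 L804560 q27406, e3 q28568 L804566 q27400, e3 q28569 L804571 q27401, e3 q28570 (flp_e L804573) q27398, e3 q28571 (flp_e L815379)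 q29552, e3 q28572 (flp_e L815403) q29555, e3 q28573 L815417 q29558, e3 q28574 (flp_e L804603) q27402, e3 q28575 (flp_e L815346) q29547, e3 q28576 (flp_e L804622) q27404, e3 q28577 (flp_e L815373) q29551, e3 q28578 (flp_e L815393) q29554, e3 q28579 L804643 q27837, e3 q28580 L815480 q29566, e3 q28581 (flp_e L804667) q27408, e3 q28582 L815501 q29568, e3 q28583 (flp_e L804685) q27410, e3 q28584 (flp_e L810959) q29192, e3 q28585 L804704 q27841, e3 q28586 (flp_e L811625) q29238, e3 q28587 (flp_e L811615) q29237, e3 q28588 L815564 q29573, e3 q28589 (flp_e L804756) q27417, e3 q28590 L815588 q29575, e3 q28591 (flp_e L804772) q27419, e3 q28592 L804788 q27704, e3 q28593 (flp_e L813576) q29387, e3 q28594 (flp_e L804796) q27422, e3 q28595 L804814 q27703, e3 q28596 L804820 q27698, e3 q28597 L804830 q27843, e3 q28598 (flp_e L810830) q29183, e3 q28599 (flp_e L811379) q29222, e3 q28600 L804866 q27844, e3 q28601 (flp_e L811687) q29242, e3 q28602 (flp_e L804892) q27432, e3 q28603 L815684 q29584, e3 q28604 (flp_e L804912) q27434, e3 q28605 L804932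 q27555, e3 q28606 (flp_e L804934) q27436, e3 q28607 L804954 q27543, trivial⟩ (by decide +kernel)

theorem ce_e_447 : ∀ r, r < 64 → sm ge (Qf (28608 + r)) = Qf (tab Gen.e (28608 + r)) :=
  edges_tab (sm ge) Qf (tab Gen.e) 28608 [(28608, 27562), (28609, 27735), (28610, 27540), (28611, 27729), (28612, 27727), (28613, 27552), (28614, 27550), (28615, 27699), (28616, 27538), (28617, 27695), (28618, 27556), (28619, 27482), (28620, 27541), (28621, 27559), (28622, 27477), (28623, 27470), (28624, 29599), (28625, 27454), (28626, 29601), (28627, 27456), (28628, 27466), (28629, 27461), (28630, 27459), (28631, 29603), (28632, 29605), (28633, 27462), (28634, 29600), (28635, 27464), (28636, 29602), (28637, 29450), (28638, 29239), (28639, 29610), (28640, 27468), (28641, 29612), (28642, 27471), (28643, 29200), (28644, 29615), (28645, 27474), (28646, 29393), (28647, 29194), (28648, 29619), (28649, 27478), (28650, 29291), (28651, 29621), (28652, 27480), (28653, 27491), (28654, 29589), (28655, 27483), (28656, 27494), (28657, 27495), (28658, 29629),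 (28659, 27487), (28660, 29594), (28661, 27489), (28662, 29622), (28663, 29386), (28664, 29625), (28665, 29626), (28666, 29585), (28667, 29627), (28668, 29628), (28669, 29207), (28670, 29641), (28671, 27498)]
    ⟨e3 q28608 L804960 q27562, e3 q28609 L804974 q27735, e3 q28610 L804978 q27540, e3 q28611 L804994 q27729, e3 q28612 L805002 q27727, e3 q28613 L805018 q27552, e3 q28614 L805030 q27550, e3 q28615 L805034 q27699, e3 q28616 L805041 q27538, e3 q28617 L805054 q27695, e3 q28618 L805066 q27556, e3 q28619 L805078 q27482, e3 q28620 L805090 q27541, e3 q28621 L805101 q27559, e3 q28622 L805113 q27477, e3 q28623 L805127 q27470, e3 q28624 L815856 q29599, e3 q28625 (flp_e L805151) q27454, e3 q28626 L815877 q29601, e3 q28627 (flp_e L805169) q27456, e3 q28628 L805180 q27466, e3 q28629 L805194 q27461, e3 q28630 (flp_e L805198) q27459, e3 q28631 (flp_e L815903) q29603, e3 q28632 L815925 q29605, e3 q28633 (flp_e L805238) q27462, e3 q28634 (flp_e L815875) q29600, e3 q28635 (flp_e L805249) q27464, e3 q28636 (flp_e L815889) q29602, e3 q28637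 (flp_e L814260) q29450, e3 q28638 (flp_e L811641) q29239, e3 q28639 L815958 q29610, e3 q28640 (flp_e L805296) q27468, e3 q28641 L815978 q29612, e3 q28642 (flp_e L805316) q27471, e3 q28643 (flp_e L811074) q29200, e3 q28644 L816013 q29615, e3 q28645 (flp_e L805348) q27474, e3 q28646 (flp_e L813653) q29393, e3 q28647 (flp_e L810983) q29194, e3 q28648 L816048 q29619, e3 q28649 (flp_e L805387) q27478, e3 q28650 (flp_e L812448) q29291, e3 q28651 L816068 q29621, e3 q28652 (flp_e L805413) q27480, e3 q28653 L805427 q27491, e3 q28654 (flp_e L815748) q29589, e3 q28655 (flp_e L805437) q27483, e3 q28656 L805453 q27494, e3 q28657 L805459 q27495, e3 q28658 L816146 q29629, e3 q28659 (flp_e L805471) q27487, e3 q28660 (flp_e L815802) q29594, e3 q28661 (flp_e L805489) q27489, e3 q28662 (flp_e L816082) q29622, e3 q28663 (flp_e L813568) q29386, e3 q28664 (flp_e L816108) q29625, e3 q28665 (flp_e L816122) q29626, e3 q28666 (flp_e L815706) q29585, e3 q28667 (flp_e L816128) q29627, e3 q28668 (flp_e L816138) q29628, e3 q28669 (flp_e L811179) q29207,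 e3 q28670 L816244 q29641, e3 q28671 (flp_e L805561) q27498, trivial⟩ (by decide +kernel)

theorem ce_e_448 : ∀ r, r < 64 → sm ge (Qf (28672 + r)) = Qf (tab Gen.e (28672 + r)) :=
  edges_tab (sm ge) Qf (tab Gen.e) 28672 [(28672, 29476), (28673, 29206), (28674, 27502), (28675, 29644), (28676, 27505), (28677, 27603), (28678, 29648), (28679, 27507), (28680, 27917), (28681, 29651), (28682, 27509), (28683, 29127), (28684, 27914), (28685, 29655), (28686, 27512), (28687, 29413), (28688, 27514), (28689, 29416), (28690, 27523), (28691, 29663), (28692, 29419), (28693, 27518), (28694, 29421), (28695, 29425), (28696, 29659), (28697, 29667), (28698, 27524), (28699, 29668), (28700, 27525), (28701, 27902), (28702, 27528), (28703, 27913), (28704, 27542), (28705, 27535), (28706, 27544), (28707, 27545), (28708, 27536), (28709, 29580), (28710, 29590), (28711, 29592), (28712, 29597), (28713, 29587), (28714, 29671), (28715, 29588), (28716, 29672), (28717, 29549), (28718, 27553), (28719, 27557), (28720, 29059), (28721, 29574), (28722, 29681), (28723,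 29046), (28724, 29060), (28725, 29586), (28726, 29057), (28727, 29058), (28728, 29687), (28729, 29342), (28730, 27568), (28731, 29688), (28732, 27575), (28733, 29689), (28734, 27578), (28735, 27724)]
    ⟨e3 q28672 (flp_e L814579) q29476, e3 q28673 (flp_e L811169) q29206, e3 q28674 (flp_e L805592) q27502, e3 q28675 L816274 q29644, e3 q28676 (flp_e L805608) q27505, e3 q28677 L805627 q27603, e3 q28678 L816311 q29648, e3 q28679 (flp_e L805637) q27507, e3 q28680 L805650 q27917, e3 q28681 L816334 q29651, e3 q28682 (flp_e L805660) q27509, e3 q28683 (flp_e L810113) q29127, e3 q28684 L805679 q27914, e3 q28685 L816363 q29655, e3 q28686 (flp_e L805687) q27512, e3 q28687 (flp_e L813891) q29413, e3 q28688 (flp_e L805698) q27514, e3 q28689 (flp_e L813911) q29416, e3 q28690 L805716 q27523, e3 q28691 L816413 q29663, e3 q28692 (flp_e L813929) q29419, e3 q28693 (flp_e L805734) q27518, e3 q28694 (flp_e L813951) q29421, e3 q28695 (flp_e L813991) q29425, e3 q28696 (flp_e L816392) q29659, e3 q28697 L816457 q29667, e3 q28698 (flp_e L805792) q27524,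 e3 q28699 L816467 q29668, e3 q28700 (flp_e L805810) q27525, e3 q28701 L805826 q27902, e3 q28702 (flp_e L805828) q27528, e3 q28703 L805840 q27913, e3 q28704 L805848 q27542, e3 q28705 L805862 q27535, e3 q28706 L805868 q27544, e3 q28707 L805876 q27545, e3 q28708 (flp_e L805882) q27536, e3 q28709 (flp_e L815634) q29580, e3 q28710 (flp_e L815760) q29590, e3 q28711 (flp_e L815784) q29592, e3 q28712 (flp_e L815834) q29597, e3 q28713 (flp_e L815730) q29587, e3 q28714 (flp_e L816497) q29671, e3 q28715 (flp_e L815738) q29588, e3 q28716 (flp_e L816505) q29672, e3 q28717 (flp_e L815359) q29549, e3 q28718 L805962 q27553, e3 q28719 L805970 q27557, e3 q28720 (flp_e L809092) q29059, e3 q28721 (flp_e L815586) q29574, e3 q28722 (flp_e L816583) q29681, e3 q28723 (flp_e L808918) q29046, e3 q28724 (flp_e L809100) q29060, e3 q28725 (flp_e L815712) q29586, e3 q28726 (flp_e L809064) q29057, e3 q28727 (flp_e L809072) q29058, e3 q28728 L816641 q29687, e3 q28729 (flp_e L813120) q29342, e3 q28730 (flp_e L806070) q27568, e3 q28731 L816647 q29688, e3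 q28732 (flp_e L806089) q27575, e3 q28733 L816661 q29689, e3 q28734 (flp_e L806119) q27578, e3 q28735 L806144 q27724, trivial⟩ (by decide +kernel)

theorem ce_e_449 : ∀ r, r < 64 → sm ge (Qf (28736 + r)) = Qf (tab Gen.e (28736 + r)) :=
  edges_tab (sm ge) Qf (tab Gen.e) 28736 [(28736, 29691), (28737, 27581), (28738, 27583), (28739, 29692), (28740, 27586), (28741, 29235), (28742, 27591), (28743, 29693), (28744, 27595), (28745, 29197), (28746, 27597), (28747, 29696), (28748, 27599), (28749, 29697), (28750, 27601), (28751, 29646), (28752, 29699), (28753, 27604), (28754, 29645), (28755, 29702), (28756, 27607), (28757, 29039), (28758, 29705), (28759, 27610), (28760, 29707), (28761, 27612), (28762, 29483), (28763, 29486), (28764, 29710), (28765, 27615), (28766, 27617), (28767, 29482), (28768, 29479), (28769, 29713), (28770, 27622), (28771, 29338), (28772, 29053), (28773, 27625), (28774, 29055), (28775, 29717), (28776, 27628), (28777, 27896), (28778, 27630), (28779, 29485), (28780, 27633), (28781, 29484), (28782, 29720), (28783,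 27639), (28784, 27851), (28785, 29722), (28786, 27642), (28787, 27672), (28788, 27644), (28789, 29725), (28790, 27646), (28791, 29133), (28792, 29728), (28793, 27648), (28794, 29548), (28795, 29731), (28796, 27652), (28797, 29733), (28798, 27654), (28799, 29735)]
    ⟨e3 q28736 L816689 q29691, e3 q28737 (flp_e L806160) q27581, e3 q28738 (flp_e L806172) q27583, e3 q28739 L816703 q29692, e3 q28740 (flp_e L806192) q27586, e3 q28741 (flp_e L811581) q29235, e3 q28742 (flp_e L806216) q27591, e3 q28743 L816715 q29693, e3 q28744 (flp_e L806228) q27595, e3 q28745 (flp_e L811044) q29197, e3 q28746 (flp_e L806241) q27597, e3 q28747 L816741 q29696, e3 q28748 (flp_e L806261) q27599, e3 q28749 L816753 q29697, e3 q28750 (flp_e L806285) q27601, e3 q28751 (flp_e L816301) q29646, e3 q28752 L816777 q29699, e3 q28753 (flp_e L806315) q27604, e3 q28754 (flp_e L816289) q29645, e3 q28755 L816800 q29702, e3 q28756 (flp_e L806334) q27607, e3 q28757 (flp_e L808814) q29039, e3 q28758 L816830 q29705, e3 q28759 (flp_e L806362) q27610, e3 q28760 L816849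 q29707, e3 q28761 (flp_e L806384) q27612, e3 q28762 (flp_e L814653) q29483, e3 q28763 (flp_e L814683) q29486, e3 q28764 L816885 q29710, e3 q28765 (flp_e L806430) q27615, e3 q28766 (flp_e L806440) q27617, e3 q28767 (flp_e L814645) q29482, e3 q28768 (flp_e L814611) q29479, e3 q28769 L816913 q29713, e3 q28770 (flp_e L806474) q27622, e3 q28771 (flp_e L813084) q29338, e3 q28772 (flp_e L809006) q29053, e3 q28773 (flp_e L806498) q27625, e3 q28774 (flp_e L809034) q29055, e3 q28775 L816949 q29717, e3 q28776 (flp_e L806528) q27628, e3 q28777 L806543 q27896, e3 q28778 (flp_e L806547) q27630, e3 q28779 (flp_e L814675) q29485, e3 q28780 (flp_e L806563) q27633, e3 q28781 (flp_e L814669) q29484, e3 q28782 L816977 q29720, e3 q28783 (flp_e L806591) q27639, e3 q28784 L806613 q27851, e3 q28785 L817001 q29722, e3 q28786 (flp_e L806625) q27642, e3 q28787 L806638 q27672, e3 q28788 (flp_e L806640) q27644, e3 q28789 L817025 q29725, e3 q28790 (flp_e L806656) q27646, e3 q28791 (flp_e L810213) q29133, e3 q28792 L817048 q29728, e3 q28793 (flp_e L806677)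 q27648, e3 q28794 (flp_e L815354) q29548, e3 q28795 L817076 q29731, e3 q28796 (flp_e L806705) q27652, e3 q28797 L817093 q29733, e3 q28798 (flp_e L806725) q27654, e3 q28799 L817117 q29735, trivial⟩ (by decide +kernel)

theorem ce_e_450 : ∀ r, r < 64 → sm ge (Qf (28800 + r)) = Qf (tab Gen.e (28800 + r)) :=
  edges_tab (sm ge) Qf (tab Gen.e) 28800 [(28800, 27656), (28801, 29737), (28802, 27658), (28803, 27883), (28804, 27660), (28805, 29739), (28806, 27662), (28807, 29567), (28808, 29240), (28809, 27665), (28810, 29455), (28811, 29741), (28812, 27668), (28813, 29122), (28814, 27670), (28815, 29723), (28816, 29745), (28817, 27676), (28818, 27684), (28819, 27681), (28820, 27679), (28821, 29747), (28822, 27682), (28823, 29746), (28824, 29553), (28825, 29753), (28826, 27685), (28827, 27687), (28828, 29755), (28829, 27689), (28830, 29757), (28831, 27691), (28832, 27781), (28833, 29759), (28834, 27693), (28835, 29582), (28836, 29595), (28837, 27696), (28838, 29581), (28839, 29578), (28840, 27700), (28841, 29579), (28842, 29576), (28843,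 29765), (28844, 27705), (28845, 29766), (28846, 27708), (28847, 29462), (28848, 29768), (28849, 27710), (28850, 27712), (28851, 29202), (28852, 27715), (28853, 29769), (28854, 27718), (28855, 27840), (28856, 29771), (28857, 27720), (28858, 29119), (28859, 27722), (28860, 29690), (28861, 27725), (28862, 29593), (28863, 29591)]
    ⟨e3 q28800 (flp_e L806749) q27656, e3 q28801 L817136 q29737, e3 q28802 (flp_e L806769) q27658, e3 q28803 L806782 q27883, e3 q28804 (flp_e L806784) q27660, e3 q28805 L817152 q29739, e3 q28806 (flp_e L806798) q27662, e3 q28807 (flp_e L815497) q29567, e3 q28808 (flp_e L811663) q29240, e3 q28809 (flp_e L806825) q27665, e3 q28810 (flp_e L814316) q29455, e3 q28811 L817164 q29741, e3 q28812 (flp_e L806849) q27668, e3 q28813 (flp_e L810036) q29122, e3 q28814 (flp_e L806862) q27670, e3 q28815 (flp_e L817015) q29723, e3 q28816 L817185 q29745, e3 q28817 (flp_e L806878) q27676, e3 q28818 L806885 q27684, e3 q28819 L806891 q27681, e3 q28820 (flp_e L806893) q27679, e3 q28821 (flp_e L817199) q29747, e3 q28822 (flp_e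 L806907) q27682, e3 q28823 (flp_e L817193) q29746, e3 q28824 (flp_e L815386) q29553, e3 q28825 L817223 q29753, e3 q28826 (flp_e L806932) q27685, e3 q28827 (flp_e L806942) q27687, e3 q28828 L817245 q29755, e3 q28829 (flp_e L806964) q27689, e3 q28830 L817264 q29757, e3 q28831 (flp_e L806984) q27691, e3 q28832 L806997 q27781, e3 q28833 L817280 q29759, e3 q28834 (flp_e L807005) q27693, e3 q28835 (flp_e L815660) q29582, e3 q28836 (flp_e L815815) q29595, e3 q28837 (flp_e L807027) q27696, e3 q28838 (flp_e L815650) q29581, e3 q28839 (flp_e L815616) q29578, e3 q28840 (flp_e L807049) q27700, e3 q28841 (flp_e L815630) q29579, e3 q28842 (flp_e L815604) q29576, e3 q28843 L817320 q29765, e3 q28844 (flp_e L807081) q27705, e3 q28845 L817332 q29766, e3 q28846 (flp_e L807099) q27708, e3 q28847 (flp_e L814411) q29462, e3 q28848 L817344 q29768, e3 q28849 (flp_e L807116) q27710, e3 q28850 (flp_e L807124) q27712, e3 q28851 (flp_e L811101) q29202, e3 q28852 (flp_e L807146) q27715, e3 q28853 L817352 q29769, e3 q28854 (flp_e L807164) q27718, e3 q28855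 L807179 q27840, e3 q28856 L817370 q29771, e3 q28857 (flp_e L807187) q27720, e3 q28858 (flp_e L809985) q29119, e3 q28859 (flp_e L807198) q27722, e3 q28860 (flp_e L816687) q29690, e3 q28861 (flp_e L807208) q27725, e3 q28862 (flp_e L815794) q29593, e3 q28863 (flp_e L815774) q29591, trivial⟩ (by decide +kernel)

theorem ce_e_451 : ∀ r, r < 64 → sm ge (Qf (28864 + r)) = Qf (tab Gen.e (28864 + r)) :=
  edges_tab (sm ge) Qf (tab Gen.e) 28864 [(28864, 29776), (28865, 27730), (28866, 27732), (28867, 27740), (28868, 29373), (28869, 29779), (28870, 27743), (28871, 29003), (28872, 29782), (28873, 27745), (28874, 29443), (28875, 29002), (28876, 27748), (28877, 29001), (28878, 29787), (28879, 27751), (28880, 27758), (28881, 29790), (28882, 27753), (28883, 27833), (28884, 27761), (28885, 29793), (28886, 27756), (28887, 29789), (28888, 27759), (28889, 29792), (28890, 27762), (28891, 27766), (28892, 29796), (28893, 29313), (28894, 29798), (28895, 27768), (28896, 29706), (28897, 27770), (28898, 28998), (28899, 27775), (28900, 29800), (28901,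 27777), (28902, 29756), (28903, 27779), (28904, 29758), (28905, 28999), (28906, 27784), (28907, 27786), (28908, 27788), (28909, 27791), (28910, 27793), (28911, 29005), (28912, 27798), (28913, 29309), (28914, 29804), (28915, 27805), (28916, 29805), (28917, 27809), (28918, 27816), (28919, 29807), (28920, 27812), (28921, 29788), (28922, 27814), (28923, 29806), (28924, 29811), (28925, 27817), (28926, 29812), (28927, 27820)]
    ⟨e3 q28864 L817395 q29776, e3 q28865 (flp_e L807232) q27730, e3 q28866 (flp_e L807238) q27732, e3 q28867 (flp_e L807244) q27740, e3 q28868 (flp_e L813462) q29373, e3 q28869 L817417 q29779, e3 q28870 (flp_e L807266) q27743, e3 q28871 (flp_e L808258) q29003, e3 q28872 L817442 q29782, e3 q28873 (flp_e L807287) q27745, e3 q28874 (flp_e L814175) q29443, e3 q28875 (flp_e L808240) q29002, e3 q28876 (flp_e L807304) q27748, e3 q28877 (flp_e L808232) q29001, e3 q28878 L817478 q29787, e3 q28879 (flp_e L807330) q27751, e3 q28880 L807343 q27758, e3 q28881 L817503 q29790, e3 q28882 (flp_e L807353) q27753, e3 q28883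 L807364 q27833, e3 q28884 L807374 q27761, e3 q28885 L817527 q29793, e3 q28886 (flp_e L807384) q27756, e3 q28887 (flp_e L817501) q29789, e3 q28888 (flp_e L807398) q27759, e3 q28889 (flp_e L817525) q29792, e3 q28890 (flp_e L807410) q27762, e3 q28891 L807418 q27766, e3 q28892 (flp_e L817551) q29796, e3 q28893 (flp_e L812751) q29313, e3 q28894 L817559 q29798, e3 q28895 (flp_e L807442) q27768, e3 q28896 (flp_e L816845) q29706, e3 q28897 (flp_e L807457) q27770, e3 q28898 (flp_e L808168) q28998, e3 q28899 (flp_e L807471) q27775, e3 q28900 L817575 q29800, e3 q28901 (flp_e L807485) q27777, e3 q28902 (flp_e L817262) q29756, e3 q28903 (flp_e L807498) q27779, e3 q28904 (flp_e L817278) q29758, e3 q28905 (flp_e L808188) q28999, e3 q28906 (flp_e L807514) q27784, e3 q28907 (flp_e L807522) q27786, e3 q28908 (flp_e L807528) q27788, e3 q28909 (flp_e L807536) q27791, e3 q28910 (flp_e L807542) q27793, e3 q28911 (flp_e L808292) q29005, e3 q28912 (flp_e L807556) q27798, e3 q28913 (flp_e L812689) q29309, e3 q28914 L817596 q29804, e3 q28915 (flp_e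 L807572) q27805, e3 q28916 L817604 q29805, e3 q28917 (flp_e L807584) q27809, e3 q28918 L807593 q27816, e3 q28919 L817616 q29807, e3 q28920 (flp_e L807605) q27812, e3 q28921 (flp_e L817493) q29788, e3 q28922 (flp_e L807622) q27814, e3 q28923 (flp_e L817614) q29806, e3 q28924 L817645 q29811, e3 q28925 (flp_e L807644) q27817, e3 q28926 L817653 q29812, e3 q28927 (flp_e L807660) q27820, trivial⟩ (by decide +kernel)

theorem ce_e_452 : ∀ r, r < 64 → sm ge (Qf (28928 + r)) = Qf (tab Gen.e (28928 + r)) :=
  edges_tab (sm ge) Qf (tab Gen.e) 28928 [(28928, 29401), (28929, 27823), (28930, 29814), (28931, 27826), (28932, 29570), (28933, 27829), (28934, 27831), (28935, 29791), (28936, 27835), (28937, 27838), (28938, 29770), (28939, 29820), (28940, 27845), (28941, 29821), (28942, 27847), (28943, 27849), (28944, 29721), (28945, 29823), (28946, 27852), (28947, 27854), (28948, 29824), (28949, 27857), (28950, 27862), (28951, 27860), (28952, 29825), (28953, 29828), (28954, 27866), (28955, 29829), (28956, 27868), (28957, 29521), (28958, 27871),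 (28959, 29100), (28960, 29094), (28961, 29836), (28962, 27874), (28963, 29091), (28964, 29838), (28965, 27876), (28966, 29726), (28967, 29840), (28968, 27879), (28969, 29736), (28970, 27881), (28971, 29738), (28972, 29844), (28973, 27885), (28974, 27887), (28975, 27891), (28976, 27898), (28977, 27894), (28978, 29718), (28979, 29845), (28980, 29846), (28981, 29459), (28982, 27900), (28983, 29669), (28984, 27906), (28985, 27907), (28986, 29853), (28987, 27910), (28988, 29670), (28989, 29653), (28990, 29650), (28991, 29856)]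
    ⟨e3 q28928 (flp_e L813746) q29401, e3 q28929 (flp_e L807673) q27823, e3 q28930 L817667 q29814, e3 q28931 (flp_e L807691) q27826, e3 q28932 (flp_e L815522) q29570, e3 q28933 (flp_e L807708) q27829, e3 q28934 (flp_e L807714) q27831, e3 q28935 (flp_e L817515) q29791, e3 q28936 (flp_e L807724) q27835, e3 q28937 (flp_e L807730) q27838, e3 q28938 (flp_e L817368) q29770, e3 q28939 L817701 q29820, e3 q28940 (flp_e L807748) q27845, e3 q28941 L817711 q29821, e3 q28942 (flp_e L807762) q27847, e3 q28943 (flp_e L807770) q27849, e3 q28944 (flp_e L816999) q29721, e3 q28945 L817723 q29823, e3 q28946 (flp_e L807786) q27852, e3 q28947 (flp_e L807792) q27854, e3 q28948 L817729 q29824, e3 q28949 (flp_e L807806) q27857, e3 q28950 L807817 q27862, e3 q28951 (flp_e L807819) q27860, e3 q28952 (flp_e L817741) q29825, e3 q28953 L817754 q29828, e3 q28954 (flp_e L807835) q27866, e3 q28955 L817758 q29829, e3 q28956 (flp_e L807847) q27868, e3 q28957 (flp_e L815068) q29521, e3 q28958 (flp_e L807858) q27871, e3 q28959 (flp_e L809678) q29100, e3 q28960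 (flp_e L809598) q29094, e3 q28961 L817807 q29836, e3 q28962 (flp_e L807888) q27874, e3 q28963 (flp_e L809554) q29091, e3 q28964 L817824 q29838, e3 q28965 (flp_e L807911) q27876, e3 q28966 (flp_e L817038) q29726, e3 q28967 L817838 q29840, e3 q28968 (flp_e L807932) q27879, e3 q28969 (flp_e L817134) q29736, e3 q28970 (flp_e L807945) q27881, e3 q28971 (flp_e L817150) q29738, e3 q28972 L817859 q29844, e3 q28973 (flp_e L807963) q27885, e3 q28974 (flp_e L807973) q27887, e3 q28975 (flp_e L807981) q27891, e3 q28976 L807989 q27898, e3 q28977 (flp_e L807991) q27894, e3 q28978 (flp_e L816965) q29718, e3 q28979 (flp_e L817873) q29845, e3 q28980 (flp_e L817877) q29846, e3 q28981 (flp_e L814372) q29459, e3 q28982 (flp_e L808014) q27900, e3 q28983 (flp_e L816483) q29669, e3 q28984 L808044 q27906, e3 q28985 L808052 q27907, e3 q28986 (flp_e L817918) q29853, e3 q28987 (flp_e L808064) q27910, e3 q28988 (flp_e L816491) q29670, e3 q28989 (flp_e L816354) q29653, e3 q28990 (flp_e L816332) q29650, e3 q28991 L817934 q29856, trivial⟩ (by decide +kernel)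

theorem ce_e_453 : ∀ r, r < 64 → sm ge (Qf (28992 + r)) = Qf (tab Gen.e (28992 + r)) :=
  edges_tab (sm ge) Qf (tab Gen.e) 28992 [(28992, 27915), (28993, 27918), (28994, 27920), (28995, 27924), (28996, 29857), (28997, 27927), (28998, 28898), (28999, 28905), (29000, 27934), (29001, 28877), (29002, 28875), (29003, 28871), (29004, 27941), (29005, 28911), (29006, 27944), (29007, 28382), (29008, 28290), (29009, 28381), (29010, 28046), (29011, 29865), (29012, 27951), (29013, 28093), (29014, 29868), (29015, 27954), (29016, 28323), (29017, 28040), (29018, 29018), (29019, 29019), (29020, 29874), (29021, 27958), (29022, 28316), (29023, 29879), (29024, 27960), (29025, 27964), (29026, 29883), (29027, 27962), (29028, 29881), (29029, 29882), (29030, 29886), (29031, 27966), (29032, 29880), (29033, 28117), (29034, 29890), (29035, 27970), (29036, 28544), (29037, 29894), (29038, 27972), (29039, 28757), (29040, 28545), (29041, 29898), (29042, 27976), (29043, 28352), (29044, 29901), (29045, 27978), (29046, 28723), (29047, 29905), (29048, 27981),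 (29049, 28098), (29050, 29908), (29051, 27983), (29052, 29875), (29053, 28772), (29054, 27986), (29055, 28774)]
    ⟨e3 q28992 (flp_e L808096) q27915, e3 q28993 (flp_e L808104) q27918, e3 q28994 (flp_e L808112) q27920, e3 q28995 L808124 q27924, e3 q28996 L817942 q29857, e3 q28997 (flp_e L808144) q27927, e3 q28998 L808168 q28898, e3 q28999 L808188 q28905, e3 q29000 (flp_e L808202) q27934, e3 q29001 L808232 q28877, e3 q29002 L808240 q28875, e3 q29003 L808258 q28871, e3 q29004 (flp_e L808268) q27941, e3 q29005 L808292 q28911, e3 q29006 (flp_e L808306) q27944, e3 q29007 L808338 q28382, e3 q29008 L808342 q28290, e3 q29009 L808364 q28381, e3 q29010 L808380 q28046, e3 q29011 L818084 q29865, e3 q29012 (flp_e L808404) q27951, e3 q29013 L808426 q28093, e3 q29014 L818133 q29868, e3 q29015 (flp_e L808454) q27954, e3 q29016 L808482 q28323, e3 q29017 L808496 q28040, e3 q29018 L808513 q29018, e3 q29019 L808524 q29019, e3 q29020 L818231 q29874, e3 q29021 (flp_e L808548) q27958, e3 q29022 L808575 q28316, e3 q29023 L818309 q29879, e3 q29024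 (flp_e L808593) q27960, e3 q29025 L808620 q27964, e3 q29026 L818367 q29883, e3 q29027 (flp_e L808634) q27962, e3 q29028 (flp_e L818348) q29881, e3 q29029 (flp_e L818357) q29882, e3 q29030 L818403 q29886, e3 q29031 (flp_e L808682) q27966, e3 q29032 (flp_e L818334) q29880, e3 q29033 L808713 q28117, e3 q29034 L818458 q29890, e3 q29035 (flp_e L808743) q27970, e3 q29036 L808770 q28544, e3 q29037 L818522 q29894, e3 q29038 (flp_e L808788) q27972, e3 q29039 L808814 q28757, e3 q29040 L808824 q28545, e3 q29041 L818586 q29898, e3 q29042 (flp_e L808848) q27976, e3 q29043 L808876 q28352, e3 q29044 L818634 q29901, e3 q29045 (flp_e L808894) q27978, e3 q29046 L808918 q28723, e3 q29047 L818694 q29905, e3 q29048 (flp_e L808936) q27981, e3 q29049 L808963 q28098, e3 q29050 L818739 q29908, e3 q29051 (flp_e L808979) q27983, e3 q29052 (flp_e L818256) q29875, e3 q29053 L809006 q28772, e3 q29054 (flp_e L809010) q27986, e3 q29055 L809034 q28774, trivial⟩ (by decide +kernel)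

theorem ce_e_454 : ∀ r, r < 64 → sm ge (Qf (29056 + r)) = Qf (tab Gen.e (29056 + r)) :=
  edges_tab (sm ge) Qf (tab Gen.e) 29056 [(29056, 27989), (29057, 28726), (29058, 28727), (29059, 28720), (29060, 28724), (29061, 28109), (29062, 29917), (29063, 27997), (29064, 28009), (29065, 28002), (29066, 28003), (29067, 28000), (29068, 29919), (29069, 29920), (29070, 29923), (29071, 28004), (29072, 29869), (29073, 28356), (29074, 28007), (29075, 29918), (29076, 29928), (29077, 28010), (29078, 29929), (29079, 28012), (29080, 28014), (29081, 29931), (29082, 28016), (29083, 28023), (29084, 29934), (29085, 28018), (29086, 28161), (29087, 28026), (29088, 29939), (29089, 28021), (29090, 29933), (29091, 28963), (29092, 28024), (29093, 29936), (29094, 28960), (29095, 28028), (29096, 28036), (29097, 28033), (29098, 28037), (29099, 29945), (29100, 28959), (29101, 29944), (29102, 29946), (29103, 29947), (29104, 28042), (29105, 28532), (29106, 29863), (29107, 29953), (29108, 28047), (29109, 28313), (29110, 29955), (29111, 28050), (29112, 29956),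 (29113, 28053), (29114, 28454), (29115, 28055), (29116, 28057), (29117, 29958), (29118, 28059), (29119, 28858)]
    ⟨e3 q29056 (flp_e L809038) q27989, e3 q29057 L809064 q28726, e3 q29058 L809072 q28727, e3 q29059 L809092 q28720, e3 q29060 L809100 q28724, e3 q29061 L809116 q28109, e3 q29062 L818861 q29917, e3 q29063 (flp_e L809142) q27997, e3 q29064 L809164 q28009, e3 q29065 L809184 q28002, e3 q29066 L809194 q28003, e3 q29067 (flp_e L809202) q28000, e3 q29068 (flp_e L818905) q29919, e3 q29069 (flp_e L818915) q29920, e3 q29070 L818951 q29923, e3 q29071 (flp_e L809258) q28004, e3 q29072 (flp_e L818159) q29869, e3 q29073 L809296 q28356, e3 q29074 (flp_e L809300) q28007, e3 q29075 (flp_e L818885) q29918, e3 q29076 L819027 q29928, e3 q29077 (flp_e L809342) q28010, e3 q29078 L819045 q29929, e3 q29079 (flp_e L809376) q28012, e3 q29080 (flp_e L809392) q28014, e3 q29081 L819081 q29931, e3 q29082 (flp_e L809426) q28016, e3 q29083 L809453 q28023, e3 q29084 L819124 q29934, e3 q29085 (flp_e L809473) q28018, e3 q29086 L809494 q28161, e3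 q29087 L809506 q28026, e3 q29088 L819192 q29939, e3 q29089 (flp_e L809522) q28021, e3 q29090 (flp_e L819120) q29933, e3 q29091 L809554 q28963, e3 q29092 (flp_e L809564) q28024, e3 q29093 (flp_e L819158) q29936, e3 q29094 L809598 q28960, e3 q29095 (flp_e L809606) q28028, e3 q29096 L809628 q28036, e3 q29097 L809642 q28033, e3 q29098 L809652 q28037, e3 q29099 (flp_e L819294) q29945, e3 q29100 L809678 q28959, e3 q29101 (flp_e L819278) q29944, e3 q29102 (flp_e L819304) q29946, e3 q29103 (flp_e L819318) q29947, e3 q29104 L809725 q28042, e3 q29105 L809741 q28532, e3 q29106 (flp_e L818058) q29863, e3 q29107 L819404 q29953, e3 q29108 (flp_e L809787) q28047, e3 q29109 L809807 q28313, e3 q29110 L819437 q29955, e3 q29111 (flp_e L809835) q28050, e3 q29112 L819455 q29956, e3 q29113 (flp_e L809869) q28053, e3 q29114 L809898 q28454, e3 q29115 (flp_e L809902) q28055, e3 q29116 (flp_e L809918) q28057, e3 q29117 L819489 q29958, e3 q29118 (flp_e L809956) q28059, e3 q29119 L809985 q28858, trivial⟩ (by decide +kernel)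

theorem ce_e_455 : ∀ r, r < 64 → sm ge (Qf (29120 + r)) = Qf (tab Gen.e (29120 + r)) :=
  edges_tab (sm ge) Qf (tab Gen.e) 29120 [(29120, 29960), (29121, 28063), (29122, 28813), (29123, 28065), (29124, 28067), (29125, 29962), (29126, 28069), (29127, 28683), (29128, 29965), (29129, 28073), (29130, 28075), (29131, 29967), (29132, 28078), (29133, 28791), (29134, 29970), (29135, 28081), (29136, 28429), (29137, 29975), (29138, 28083), (29139, 28087), (29140, 29979), (29141, 28085), (29142, 29977), (29143, 29978), (29144, 29983), (29145, 28089), (29146, 28408), (29147, 29986), (29148, 28091), (29149, 29976), (29150, 29990), (29151, 28094), (29152, 29991), (29153, 28096), (29154, 28554), (29155, 29907), (29156, 28556), (29157, 29995), (29158, 28100), (29159, 28140), (29160, 28530), (29161, 29999), (29162, 28103), (29163, 28112), (29164, 28108), (29165, 28106), (29166, 30001), (29167, 29915), (29168, 28110), (29169, 30000), (29170, 30003), (29171, 30011), (29172, 28113), (29173, 28127), (29174, 30014), (29175, 28115), (29176, 29932),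 (29177, 30017), (29178, 28118), (29179, 30018), (29180, 28120), (29181, 29971), (29182, 28122), (29183, 28598)]
    ⟨e3 q29120 L819523 q29960, e3 q29121 (flp_e L810007) q28063, e3 q29122 L810036 q28813, e3 q29123 (flp_e L810040) q28065, e3 q29124 (flp_e L810058) q28067, e3 q29125 L819557 q29962, e3 q29126 (flp_e L810090) q28069, e3 q29127 L810113 q28683, e3 q29128 L819598 q29965, e3 q29129 (flp_e L810133) q28073, e3 q29130 (flp_e L810151) q28075, e3 q29131 L819636 q29967, e3 q29132 (flp_e L810185) q28078, e3 q29133 L810213 q28791, e3 q29134 L819682 q29970, e3 q29135 (flp_e L810231) q28081, e3 q29136 L810258 q28429, e3 q29137 L819760 q29975, e3 q29138 (flp_e L810276) q28083, e3 q29139 L810303 q28087, e3 q29140 L819820 q29979, e3 q29141 (flp_e L810317) q28085, e3 q29142 (flp_e L819801) q29977, e3 q29143 (flp_e L819810) q29978, e3 q29144 L819874 q29983, e3 q29145 (flp_e L810367) q28089, e3 q29146 L810394 q28408, e3 q29147 L819919 q29986, e3 q29148 (flp_e L810412) q28091, e3 q29149 (flp_e L819785) q29976, e3 q29150 L819974 q29990,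 e3 q29151 (flp_e L810449) q28094, e3 q29152 L819988 q29991, e3 q29153 (flp_e L810473) q28096, e3 q29154 L810491 q28554, e3 q29155 (flp_e L818735) q29907, e3 q29156 L810505 q28556, e3 q29157 L820028 q29995, e3 q29158 (flp_e L810524) q28100, e3 q29159 L810543 q28140, e3 q29160 L810555 q28530, e3 q29161 L820069 q29999, e3 q29162 (flp_e L810569) q28103, e3 q29163 L810586 q28112, e3 q29164 L810598 q28108, e3 q29165 (flp_e L810600) q28106, e3 q29166 (flp_e L820097) q30001, e3 q29167 (flp_e L818834) q29915, e3 q29168 (flp_e L810626) q28110, e3 q29169 (flp_e L820087) q30000, e3 q29170 (flp_e L820113) q30003, e3 q29171 L820199 q30011, e3 q29172 (flp_e L810671) q28113, e3 q29173 L810698 q28127, e3 q29174 L820242 q30014, e3 q29175 (flp_e L810714) q28115, e3 q29176 (flp_e L819106) q29932, e3 q29177 L820275 q30017, e3 q29178 (flp_e L810753) q28118, e3 q29179 L820293 q30018, e3 q29180 (flp_e L810783) q28120, e3 q29181 (flp_e L819707) q29971, e3 q29182 (flp_e L810808) q28122, e3 q29183 L810830 q28598, trivial⟩ (by decide +kernel)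

theorem ce_e_456 : ∀ r, r < 64 → sm ge (Qf (29184 + r)) = Qf (tab Gen.e (29184 + r)) :=
  edges_tab (sm ge) Qf (tab Gen.e) 29184 [(29184, 30021), (29185, 28125), (29186, 30013), (29187, 28128), (29188, 28560), (29189, 28320), (29190, 30025), (29191, 28131), (29192, 28584), (29193, 28133), (29194, 28647), (29195, 30027), (29196, 28136), (29197, 28745), (29198, 28138), (29199, 29996), (29200, 28643), (29201, 30033), (29202, 28851), (29203, 30034), (29204, 28145), (29205, 28147), (29206, 28673), (29207, 28669), (29208, 28307), (29209, 30038), (29210, 28154), (29211, 30040), (29212, 28156), (29213, 28523), (29214, 28174), (29215, 28159), (29216, 29935), (29217, 29938), (29218, 30049), (29219, 28162), (29220, 28164), (29221, 28177), (29222, 28599), (29223, 28533), (29224, 30052), (29225, 28170), (29226, 28172), (29227, 30042), (29228, 28561), (29229, 28548), (29230, 30050), (29231, 28178), (29232, 30055), (29233, 28180), (29234, 28182), (29235, 28741), (29236, 28187), (29237, 28587), (29238, 28586), (29239, 28638), (29240, 28808),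 (29241, 28196), (29242, 28601), (29243, 28536), (29244, 28310), (29245, 28254), (29246, 28274), (29247, 30058)]
    ⟨e3 q29184 L820335 q30021, e3 q29185 (flp_e L810846) q28125, e3 q29186 (flp_e L820238) q30013, e3 q29187 (flp_e L810872) q28128, e3 q29188 L810894 q28560, e3 q29189 L810904 q28320, e3 q29190 L820393 q30025, e3 q29191 (flp_e L810930) q28131, e3 q29192 L810959 q28584, e3 q29193 (flp_e L810963) q28133, e3 q29194 L810983 q28647, e3 q29195 L820427 q30027, e3 q29196 (flp_e L811015) q28136, e3 q29197 L811044 q28745, e3 q29198 (flp_e L811048) q28138, e3 q29199 (flp_e L820048) q29996, e3 q29200 L811074 q28643, e3 q29201 L820502 q30033, e3 q29202 L811101 q28851, e3 q29203 L820515 q30034, e3 q29204 (flp_e L811123) q28145, e3 q29205 (flp_e L811141) q28147, e3 q29206 L811169 q28673, e3 q29207 L811179 q28669, e3 q29208 L811189 q28307, e3 q29209 L820579 q30038, e3 q29210 (flp_e L811213) q28154, e3 q29211 L820612 q30040, e3 q29212 (flp_e L811243) q28156, e3 q29213 L811260 q28523, e3 q29214 L811272 q28174, e3 q29215 (flp_e L811276)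 q28159, e3 q29216 (flp_e L819146) q29935, e3 q29217 (flp_e L819182) q29938, e3 q29218 L820712 q30049, e3 q29219 (flp_e L811323) q28162, e3 q29220 (flp_e L811341) q28164, e3 q29221 L811365 q28177, e3 q29222 L811379 q28599, e3 q29223 L811387 q28533, e3 q29224 L820766 q30052, e3 q29225 (flp_e L811409) q28170, e3 q29226 (flp_e L811427) q28172, e3 q29227 (flp_e L820642) q30042, e3 q29228 L811463 q28561, e3 q29229 L811469 q28548, e3 q29230 (flp_e L820748) q30050, e3 q29231 (flp_e L811503) q28178, e3 q29232 L820820 q30055, e3 q29233 (flp_e L811537) q28180, e3 q29234 (flp_e L811555) q28182, e3 q29235 L811581 q28741, e3 q29236 (flp_e L811585) q28187, e3 q29237 L811615 q28587, e3 q29238 L811625 q28586, e3 q29239 L811641 q28638, e3 q29240 L811663 q28808, e3 q29241 (flp_e L811671) q28196, e3 q29242 L811687 q28601, e3 q29243 L811703 q28536, e3 q29244 L811711 q28310, e3 q29245 L811723 q28254, e3 q29246 L811743 q28274, e3 q29247 L820872 q30058, trivial⟩ (by decide +kernel)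

theorem ce_e_457 : ∀ r, r < 64 → sm ge (Qf (29248 + r)) = Qf (tab Gen.e (29248 + r)) :=
  edges_tab (sm ge) Qf (tab Gen.e) 29248 [(29248, 28207), (29249, 30059), (29250, 28209), (29251, 28288), (29252, 28214), (29253, 28216), (29254, 30061), (29255, 28218), (29256, 28388), (29257, 30065), (29258, 28220), (29259, 28224), (29260, 30068), (29261, 28222), (29262, 30067), (29263, 30070), (29264, 28225), (29265, 30066), (29266, 30072), (29267, 28229), (29268, 30073), (29269, 28231), (29270, 30062), (29271, 28255), (29272, 28234), (29273, 28256), (29274, 30078), (29275, 28237), (29276, 28239), (29277, 28273), (29278, 28243), (29279, 28245), (29280, 28291), (29281, 28249), (29282, 28289), (29283, 30075), (29284, 30077), (29285, 30081), (29286, 28257), (29287, 28259), (29288, 28463), (29289, 30083), (29290, 28262), (29291, 28650), (29292, 30088), (29293, 28264), (29294, 28268), (29295, 30092), (29296, 28266), (29297, 30090), (29298, 30091), (29299, 30095), (29300, 28270), (29301, 30089), (29302, 30079), (29303, 30098), (29304, 28275),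 (29305, 30099), (29306, 28277), (29307, 30084), (29308, 28413), (29309, 28913), (29310, 28281), (29311, 28421)]
    ⟨e3 q29248 (flp_e L811773) q28207, e3 q29249 L820890 q30059, e3 q29250 (flp_e L811807) q28209, e3 q29251 L811831 q28288, e3 q29252 (flp_e L811845) q28214, e3 q29253 (flp_e L811863) q28216, e3 q29254 L820928 q30061, e3 q29255 (flp_e L811897) q28218, e3 q29256 L811924 q28388, e3 q29257 L820991 q30065, e3 q29258 (flp_e L811944) q28220, e3 q29259 L811971 q28224, e3 q29260 L821040 q30068, e3 q29261 (flp_e L811985) q28222, e3 q29262 (flp_e L821036) q30067, e3 q29263 L821062 q30070, e3 q29264 (flp_e L812021) q28225, e3 q29265 (flp_e L821016) q30066, e3 q29266 L821090 q30072, e3 q29267 (flp_e L812066) q28229, e3 q29268 L821110 q30073, e3 q29269 (flp_e L812098) q28231, e3 q29270 (flp_e L820953) q30062, e3 q29271 L812135 q28255, e3 q29272 (flp_e L812139) q28234, e3 q29273 L812161 q28256, e3 q29274 L821187 q30078, e3 q29275 (flp_e L812183) q28237, e3 q29276 (flp_e L812201) q28239, e3 q29277 L812221 q28273, e3 q29278 (flp_e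 L812227) q28243, e3 q29279 (flp_e L812243) q28245, e3 q29280 L812275 q28291, e3 q29281 (flp_e L812277) q28249, e3 q29282 L812307 q28289, e3 q29283 (flp_e L821148) q30075, e3 q29284 (flp_e L821183) q30077, e3 q29285 L821245 q30081, e3 q29286 (flp_e L812359) q28257, e3 q29287 (flp_e L812375) q28259, e3 q29288 L812393 q28463, e3 q29289 L821281 q30083, e3 q29290 (flp_e L812421) q28262, e3 q29291 L812448 q28650, e3 q29292 L821359 q30088, e3 q29293 (flp_e L812466) q28264, e3 q29294 L812493 q28268, e3 q29295 L821417 q30092, e3 q29296 (flp_e L812509) q28266, e3 q29297 (flp_e L821398) q30090, e3 q29298 (flp_e L821407) q30091, e3 q29299 L821459 q30095, e3 q29300 (flp_e L812563) q28270, e3 q29301 (flp_e L821384) q30089, e3 q29302 (flp_e L821221) q30079, e3 q29303 L821498 q30098, e3 q29304 (flp_e L812622) q28275, e3 q29305 L821516 q30099, e3 q29306 (flp_e L812650) q28277, e3 q29307 (flp_e L821306) q30084, e3 q29308 L812679 q28413, e3 q29309 L812689 q28913, e3 q29310 (flp_e L812703) q28281, e3 q29311 L812725 q28421, trivial⟩ (by decide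 +kernel)

theorem ce_e_458 : ∀ r, r < 64 → sm ge (Qf (29312 + r)) = Qf (tab Gen.e (29312 + r)) :=
  edges_tab (sm ge) Qf (tab Gen.e) 29312 [(29312, 28284), (29313, 28893), (29314, 28514), (29315, 28488), (29316, 29861), (29317, 28292), (29318, 28360), (29319, 28364), (29320, 28296), (29321, 28303), (29322, 28301), (29323, 28304), (29324, 30110), (29325, 30109), (29326, 30111), (29327, 30112), (29328, 28306), (29329, 30036), (29330, 30117), (29331, 28308), (29332, 30057), (29333, 30119), (29334, 28311), (29335, 30118), (29336, 30121), (29337, 28314), (29338, 28771), (29339, 29876), (29340, 29877), (29341, 30086), (29342, 28729), (29343, 30024), (29344, 30128), (29345, 28321), (29346, 28355), (29347, 29870), (29348, 29871), (29349, 30133), (29350, 28324), (29351, 28334), (29352, 28329), (29353, 28330), (29354, 28327), (29355, 30135), (29356, 30138), (29357, 29973), (29358, 28332), (29359, 30134), (29360, 30137), (29361, 30147), (29362, 28336), (29363, 30148), (29364, 28338), (29365, 30009), (29366, 28340), (29367, 28342), (29368,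 30150), (29369, 28344), (29370, 28444), (29371, 28441), (29372, 28347), (29373, 28868), (29374, 30154), (29375, 28350)]
    ⟨e3 q29312 (flp_e L812729) q28284, e3 q29313 L812751 q28893, e3 q29314 L812759 q28514, e3 q29315 L812774 q28488, e3 q29316 (flp_e L818018) q29861, e3 q29317 (flp_e L812802) q28292, e3 q29318 L812826 q28360, e3 q29319 L812844 q28364, e3 q29320 (flp_e L812848) q28296, e3 q29321 L812870 q28303, e3 q29322 L812886 q28301, e3 q29323 L812896 q28304, e3 q29324 (flp_e L821699) q30110, e3 q29325 (flp_e L821681) q30109, e3 q29326 (flp_e L821709) q30111, e3 q29327 (flp_e L821723) q30112, e3 q29328 L812957 q28306, e3 q29329 (flp_e L820553) q30036, e3 q29330 L821795 q30117, e3 q29331 (flp_e L812999) q28308, e3 q29332 (flp_e L820866) q30057, e3 q29333 L821822 q30119, e3 q29334 (flp_e L813037) q28311, e3 q29335 (flp_e L821820) q30118, e3 q29336 L821842 q30121, e3 q29337 (flp_e L813066) q28314, e3 q29338 L813084 q28771, e3 q29339 (flp_e L818272) q29876, e3 q29340 (flp_e L818281) q29877, e3 q29341 (flp_e L821331) q30086,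 e3 q29342 L813120 q28729, e3 q29343 (flp_e L820385) q30024, e3 q29344 L821922 q30128, e3 q29345 (flp_e L813149) q28321, e3 q29346 L813162 q28355, e3 q29347 (flp_e L818175) q29870, e3 q29348 (flp_e L818185) q29871, e3 q29349 L821957 q30133, e3 q29350 (flp_e L813187) q28324, e3 q29351 L813202 q28334, e3 q29352 L813210 q28329, e3 q29353 L813215 q28330, e3 q29354 (flp_e L813221) q28327, e3 q29355 (flp_e L821981) q30135, e3 q29356 (flp_e L822005) q30138, e3 q29357 (flp_e L819732) q29973, e3 q29358 (flp_e L813259) q28332, e3 q29359 (flp_e L821973) q30134, e3 q29360 (flp_e L821995) q30137, e3 q29361 L822097 q30147, e3 q29362 (flp_e L813304) q28336, e3 q29363 L822111 q30148, e3 q29364 (flp_e L813332) q28338, e3 q29365 (flp_e L820173) q30009, e3 q29366 (flp_e L813355) q28340, e3 q29367 (flp_e L813365) q28342, e3 q29368 L822135 q30150, e3 q29369 (flp_e L813391) q28344, e3 q29370 L813412 q28444, e3 q29371 L813430 q28441, e3 q29372 (flp_e L813434) q28347, e3 q29373 L813462 q28868, e3 q29374 L822197 q30154, e3 q29375 (flp_e L813474) q28350,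 trivial⟩ (by decide +kernel)

theorem ce_e_459 : ∀ r, r < 64 → sm ge (Qf (29376 + r)) = Qf (tab Gen.e (29376 + r)) :=
  edges_tab (sm ge) Qf (tab Gen.e) 29376 [(29376, 29988), (29377, 29900), (29378, 28353), (29379, 30129), (29380, 29925), (29381, 30162), (29382, 28357), (29383, 30107), (29384, 28361), (29385, 30108), (29386, 28663), (29387, 28593), (29388, 28367), (29389, 30166), (29390, 28369), (29391, 30167), (29392, 28371), (29393, 28646), (29394, 30169), (29395, 28373), (29396, 28375), (29397, 28377), (29398, 29862), (29399, 30170), (29400, 28383), (29401, 28928), (29402, 28391), (29403, 30173), (29404, 28386), (29405, 30063), (29406, 28389), (29407, 30172), (29408, 28392), (29409, 28396), (29410, 30176), (29411, 30177), (29412, 28397), (29413, 28687), (29414, 28407), (29415, 28400), (29416, 28689), (29417, 28411), (29418, 30187), (29419, 28692), (29420, 28404), (29421, 28694), (29422, 30179), (29423, 29972), (29424, 29985), (29425, 28695), (29426, 30183), (29427, 30195), (29428, 30101), (29429, 28412), (29430, 30197),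 (29431, 28414), (29432, 28424), (29433, 28420), (29434, 28425), (29435, 28426), (29436, 30103), (29437, 30198), (29438, 30199), (29439, 28428)]
    ⟨e3 q29376 (flp_e L819946) q29988, e3 q29377 (flp_e L818630) q29900, e3 q29378 (flp_e L813499) q28353, e3 q29379 (flp_e L821936) q30129, e3 q29380 (flp_e L818991) q29925, e3 q29381 L822253 q30162, e3 q29382 (flp_e L813524) q28357, e3 q29383 (flp_e L821643) q30107, e3 q29384 (flp_e L813542) q28361, e3 q29385 (flp_e L821663) q30108, e3 q29386 L813568 q28663, e3 q29387 L813576 q28593, e3 q29388 (flp_e L813582) q28367, e3 q29389 L822298 q30166, e3 q29390 (flp_e L813612) q28369, e3 q29391 L822312 q30167, e3 q29392 (flp_e L813638) q28371, e3 q29393 L813653 q28646, e3 q29394 L822330 q30169, e3 q29395 (flp_e L813669) q28373, e3 q29396 (flp_e L813681) q28375, e3 q29397 (flp_e L813691) q28377, e3 q29398 (flp_e L818042) q29862, e3 q29399 L822344 q30170, e3 q29400 (flp_e L813729) q28383, e3 q29401 L813746 q28928, e3 q29402 L813760 q28391, e3 q29403 L822380 q30173, e3 q29404 (flp_e L813776)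 q28386, e3 q29405 (flp_e L820969) q30063, e3 q29406 (flp_e L813802) q28389, e3 q29407 (flp_e L822376) q30172, e3 q29408 (flp_e L813830) q28392, e3 q29409 L813856 q28396, e3 q29410 (flp_e L822436) q30176, e3 q29411 L822440 q30177, e3 q29412 (flp_e L813880) q28397, e3 q29413 L813891 q28687, e3 q29414 L813899 q28407, e3 q29415 (flp_e L813901) q28400, e3 q29416 L813911 q28689, e3 q29417 L813919 q28411, e3 q29418 L822507 q30187, e3 q29419 L813929 q28692, e3 q29420 (flp_e L813933) q28404, e3 q29421 L813951 q28694, e3 q29422 (flp_e L822460) q30179, e3 q29423 (flp_e L819723) q29972, e3 q29424 (flp_e L819915) q29985, e3 q29425 L813991 q28695, e3 q29426 (flp_e L822486) q30183, e3 q29427 L822599 q30195, e3 q29428 (flp_e L821546) q30101, e3 q29429 (flp_e L814025) q28412, e3 q29430 (flp_e L822631) q30197, e3 q29431 (flp_e L814051) q28414, e3 q29432 L814067 q28424, e3 q29433 L814073 q28420, e3 q29434 L814079 q28425, e3 q29435 L814085 q28426, e3 q29436 (flp_e L821577) q30103, e3 q29437 (flp_e L822641) q30198, e3 q29438 (flp_e L822647) q30199,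 e3 q29439 (flp_e L814113) q28428, trivial⟩ (by decide +kernel)

theorem ce_e_460 : ∀ r, r < 64 → sm ge (Qf (29440 + r)) = Qf (tab Gen.e (29440 + r)) :=
  edges_tab (sm ge) Qf (tab Gen.e) 29440 [(29440, 28432), (29441, 30201), (29442, 28436), (29443, 28874), (29444, 28439), (29445, 30152), (29446, 28442), (29447, 30151), (29448, 30206), (29449, 28445), (29450, 28637), (29451, 28448), (29452, 28452), (29453, 29957), (29454, 28456), (29455, 28810), (29456, 28517), (29457, 28464), (29458, 28466), (29459, 28981), (29460, 30213), (29461, 28470), (29462, 28847), (29463, 30216), (29464, 28473), (29465, 28482), (29466, 28478), (29467, 28479), (29468, 28476), (29469, 30218), (29470, 30221), (29471, 28480), (29472, 30217), (29473, 30220), (29474, 30227), (29475, 28483), (29476, 28672), (29477, 30229), (29478, 28486), (29479, 28768), (29480, 30106), (29481, 28489), (29482, 28767), (29483, 28762), (29484, 28781), (29485, 28779), (29486, 28763), (29487, 30236), (29488, 28497), (29489, 28502), (29490, 28500), (29491, 30237), (29492, 30240),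 (29493, 28503), (29494, 30039), (29495, 30242), (29496, 28506), (29497, 28513), (29498, 28508), (29499, 28516), (29500, 28511), (29501, 30243), (29502, 30105), (29503, 30244)]
    ⟨e3 q29440 (flp_e L814126) q28432, e3 q29441 L822661 q30201, e3 q29442 (flp_e L814156) q28436, e3 q29443 L814175 q28874, e3 q29444 (flp_e L814179) q28439, e3 q29445 (flp_e L822175) q30152, e3 q29446 (flp_e L814201) q28442, e3 q29447 (flp_e L822157) q30151, e3 q29448 L822714 q30206, e3 q29449 (flp_e L814235) q28445, e3 q29450 L814260 q28637, e3 q29451 (flp_e L814264) q28448, e3 q29452 (flp_e L814278) q28452, e3 q29453 (flp_e L819485) q29957, e3 q29454 (flp_e L814300) q28456, e3 q29455 L814316 q28810, e3 q29456 L814330 q28517, e3 q29457 (flp_e L814340) q28464, e3 q29458 (flp_e L814350) q28466, e3 q29459 L814372 q28981, e3 q29460 L822812 q30213, e3 q29461 (flp_e L814390) q28470, e3 q29462 L814411 q28847, e3 q29463 L822849 q30216, e3 q29464 (flp_e L814427) q28473, e3 q29465 L814444 q28482, e3 q29466 L814456 q28478, e3 q29467 L814465 q28479, e3 q29468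 (flp_e L814471) q28476, e3 q29469 (flp_e L822879) q30218, e3 q29470 (flp_e L822913) q30221, e3 q29471 (flp_e L814513) q28480, e3 q29472 (flp_e L822867) q30217, e3 q29473 (flp_e L822899) q30220, e3 q29474 L822968 q30227, e3 q29475 (flp_e L814554) q28483, e3 q29476 L814579 q28672, e3 q29477 L822998 q30229, e3 q29478 (flp_e L814593) q28486, e3 q29479 L814611 q28768, e3 q29480 (flp_e L821619) q30106, e3 q29481 (flp_e L814623) q28489, e3 q29482 L814645 q28767, e3 q29483 L814653 q28762, e3 q29484 L814669 q28781, e3 q29485 L814675 q28779, e3 q29486 L814683 q28763, e3 q29487 L823070 q30236, e3 q29488 (flp_e L814704) q28497, e3 q29489 L814729 q28502, e3 q29490 (flp_e L814733) q28500, e3 q29491 (flp_e L823096) q30237, e3 q29492 L823121 q30240, e3 q29493 (flp_e L814765) q28503, e3 q29494 (flp_e L820608) q30039, e3 q29495 L823147 q30242, e3 q29496 (flp_e L814802) q28506, e3 q29497 L814822 q28513, e3 q29498 (flp_e L814824) q28508, e3 q29499 L814848 q28516, e3 q29500 (flp_e L814850) q28511, e3 q29501 (flp_e L823167) q30243, e3 q29502 (flp_e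 L821605) q30105, e3 q29503 (flp_e L823181) q30244, trivial⟩ (by decide +kernel)

theorem ce_e_461 : ∀ r, r < 64 → sm ge (Qf (29504 + r)) = Qf (tab Gen.e (29504 + r)) :=
  edges_tab (sm ge) Qf (tab Gen.e) 29504 [(29504, 30210), (29505, 30247), (29506, 28519), (29507, 30012), (29508, 28521), (29509, 30041), (29510, 30044), (29511, 28528), (29512, 28529), (29513, 30253), (29514, 29997), (29515, 30051), (29516, 30255), (29517, 28534), (29518, 28541), (29519, 30257), (29520, 28537), (29521, 28957), (29522, 28539), (29523, 30256), (29524, 29937), (29525, 30264), (29526, 28542), (29527, 29896), (29528, 29892), (29529, 29893), (29530, 29916), (29531, 30054), (29532, 30269), (29533, 28549), (29534, 29906), (29535, 28555), (29536, 28552), (29537, 29992), (29538, 30271), (29539, 30276), (29540, 29994), (29541, 28557), (29542, 30277), (29543, 28558), (29544, 30023), (29545, 30278), (29546, 28562), (29547, 28575), (29548, 28794), (29549, 28717), (29550, 28565), (29551, 28577), (29552, 28571), (29553, 28824), (29554, 28578), (29555, 28572),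 (29556, 30285), (29557, 30289), (29558, 28573), (29559, 30279), (29560, 30282), (29561, 30284), (29562, 30286), (29563, 30288), (29564, 30281), (29565, 30299), (29566, 28580), (29567, 28807)]
    ⟨e3 q29504 (flp_e L822775) q30210, e3 q29505 L823201 q30247, e3 q29506 (flp_e L814912) q28519, e3 q29507 (flp_e L820224) q30012, e3 q29508 (flp_e L814937) q28521, e3 q29509 (flp_e L820630) q30041, e3 q29510 (flp_e L820666) q30044, e3 q29511 L814972 q28528, e3 q29512 L814978 q28529, e3 q29513 (flp_e L823265) q30253, e3 q29514 (flp_e L820058) q29997, e3 q29515 (flp_e L820760) q30051, e3 q29516 L823275 q30255, e3 q29517 (flp_e L815022) q28534, e3 q29518 L815043 q28541, e3 q29519 L823299 q30257, e3 q29520 (flp_e L815055) q28537, e3 q29521 L815068 q28957, e3 q29522 (flp_e L815070) q28539, e3 q29523 (flp_e L823297) q30256, e3 q29524 (flp_e L819171) q29937, e3 q29525 L823354 q30264, e3 q29526 (flp_e L815105) q28542, e3 q29527 (flp_e L818560) q29896, e3 q29528 (flp_e L818503) q29892, e3 q29529 (flp_e L818512) q29893, e3 q29530 (flp_e L818850)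 q29916, e3 q29531 (flp_e L820804) q30054, e3 q29532 L823416 q30269, e3 q29533 (flp_e L815193) q28549, e3 q29534 (flp_e L818719) q29906, e3 q29535 L815218 q28555, e3 q29536 (flp_e L815220) q28552, e3 q29537 (flp_e L820006) q29992, e3 q29538 (flp_e L823444) q30271, e3 q29539 L823488 q30276, e3 q29540 (flp_e L820022) q29994, e3 q29541 (flp_e L815266) q28557, e3 q29542 L823498 q30277, e3 q29543 (flp_e L815293) q28558, e3 q29544 (flp_e L820375) q30023, e3 q29545 L823512 q30278, e3 q29546 (flp_e L815331) q28562, e3 q29547 L815346 q28575, e3 q29548 L815354 q28794, e3 q29549 L815359 q28717, e3 q29550 (flp_e L815365) q28565, e3 q29551 L815373 q28577, e3 q29552 L815379 q28571, e3 q29553 L815386 q28824, e3 q29554 L815393 q28578, e3 q29555 L815403 q28572, e3 q29556 (flp_e L823576) q30285, e3 q29557 (flp_e L823607) q30289, e3 q29558 (flp_e L815417) q28573, e3 q29559 (flp_e L823528) q30279, e3 q29560 (flp_e L823550) q30282, e3 q29561 (flp_e L823570) q30284, e3 q29562 (flp_e L823580) q30286, e3 q29563 (flp_e L823597) q30288, e3 q29564 (flp_e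 L823545) q30281, e3 q29565 L823682 q30299, e3 q29566 (flp_e L815480) q28580, e3 q29567 L815497 q28807, trivial⟩ (by decide +kernel)

theorem ce_e_462 : ∀ r, r < 64 → sm ge (Qf (29568 + r)) = Qf (tab Gen.e (29568 + r)) :=
  edges_tab (sm ge) Qf (tab Gen.e) 29568 [(29568, 28582), (29569, 30026), (29570, 28932), (29571, 30056), (29572, 30304), (29573, 28588), (29574, 28721), (29575, 28590), (29576, 28842), (29577, 30164), (29578, 28839), (29579, 28841), (29580, 28709), (29581, 28838), (29582, 28835), (29583, 30020), (29584, 28603), (29585, 28666), (29586, 28725), (29587, 28713), (29588, 28715), (29589, 28654), (29590, 28710), (29591, 28863), (29592, 28711), (29593, 28862), (29594, 28660), (29595, 28836), (29596, 29964), (29597, 28712), (29598, 30323), (29599, 28624), (29600, 28634), (29601, 28626), (29602, 28636), (29603, 28631), (29604, 30326), (29605, 28632), (29606, 30324), (29607, 30325), (29608, 30327), (29609, 30207), (29610, 28639), (29611, 30333), (29612, 28641), (29613, 30076), (29614, 30030), (29615, 28644), (29616,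 30168), (29617, 30043), (29618, 30339), (29619, 28648), (29620, 30085), (29621, 28651), (29622, 28662), (29623, 30317), (29624, 30283), (29625, 28664), (29626, 28665), (29627, 28667), (29628, 28668), (29629, 28658), (29630, 30308), (29631, 30341)]
    ⟨e3 q29568 (flp_e L815501) q28582, e3 q29569 (flp_e L820423) q30026, e3 q29570 L815522 q28932, e3 q29571 (flp_e L820850) q30056, e3 q29572 L823735 q30304, e3 q29573 (flp_e L815564) q28588, e3 q29574 L815586 q28721, e3 q29575 (flp_e L815588) q28590, e3 q29576 L815604 q28842, e3 q29577 (flp_e L822274) q30164, e3 q29578 L815616 q28839, e3 q29579 L815630 q28841, e3 q29580 L815634 q28709, e3 q29581 L815650 q28838, e3 q29582 L815660 q28835, e3 q29583 (flp_e L820333) q30020, e3 q29584 (flp_e L815684) q28603, e3 q29585 L815706 q28666, e3 q29586 L815712 q28725, e3 q29587 L815730 q28713, e3 q29588 L815738 q28715, e3 q29589 L815748 q28654, e3 q29590 L815760 q28710, e3 q29591 L815774 q28863, e3 q29592 L815784 q28711, e3 q29593 L815794 q28862, e3 q29594 L815802 q28660, e3 q29595 L815815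 q28836, e3 q29596 (flp_e L819588) q29964, e3 q29597 L815834 q28712, e3 q29598 L823952 q30323, e3 q29599 (flp_e L815856) q28624, e3 q29600 L815875 q28634, e3 q29601 (flp_e L815877) q28626, e3 q29602 L815889 q28636, e3 q29603 L815903 q28631, e3 q29604 (flp_e L823996) q30326, e3 q29605 (flp_e L815925) q28632, e3 q29606 (flp_e L823972) q30324, e3 q29607 (flp_e L823980) q30325, e3 q29608 (flp_e L824002) q30327, e3 q29609 (flp_e L822740) q30207, e3 q29610 (flp_e L815958) q28639, e3 q29611 L824045 q30333, e3 q29612 (flp_e L815978) q28641, e3 q29613 (flp_e L821167) q30076, e3 q29614 (flp_e L820481) q30030, e3 q29615 (flp_e L816013) q28644, e3 q29616 (flp_e L822328) q30168, e3 q29617 (flp_e L820655) q30043, e3 q29618 L824095 q30339, e3 q29619 (flp_e L816048) q28648, e3 q29620 (flp_e L821322) q30085, e3 q29621 (flp_e L816068) q28651, e3 q29622 L816082 q28662, e3 q29623 (flp_e L823889) q30317, e3 q29624 (flp_e L823560) q30283, e3 q29625 L816108 q28664, e3 q29626 L816122 q28665, e3 q29627 L816128 q28667, e3 q29628 L816138 q28668, e3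 q29629 (flp_e L816146) q28658, e3 q29630 (flp_e L823779) q30308, e3 q29631 (flp_e L824125) q30341, trivial⟩ (by decide +kernel)

theorem ce_e_463 : ∀ r, r < 64 → sm ge (Qf (29632 + r)) = Qf (tab Gen.e (29632 + r)) :=
  edges_tab (sm ge) Qf (tab Gen.e) 29632 [(29632, 30163), (29633, 30305), (29634, 30344), (29635, 30346), (29636, 30314), (29637, 30347), (29638, 30315), (29639, 30348), (29640, 30035), (29641, 28670), (29642, 30228), (29643, 30358), (29644, 28675), (29645, 28754), (29646, 28751), (29647, 30361), (29648, 28678), (29649, 29866), (29650, 28990), (29651, 28681), (29652, 29963), (29653, 28989), (29654, 30215), (29655, 28685), (29656, 30178), (29657, 30181), (29658, 30182), (29659, 28696), (29660, 30184), (29661, 30379), (29662, 30186), (29663, 28691), (29664, 30188), (29665, 30189), (29666, 30381), (29667, 28697), (29668, 28699), (29669, 28983), (29670, 28988), (29671, 28714), (29672, 28716), (29673, 30311), (29674, 30318), (29675, 30321), (29676, 29913), (29677, 30316), (29678, 30383), (29679, 30387), (29680, 29872),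 (29681, 28722), (29682, 29899), (29683, 29902), (29684, 29903), (29685, 29914), (29686, 30125), (29687, 28728), (29688, 28731), (29689, 28733), (29690, 28860), (29691, 28736), (29692, 28739), (29693, 28743), (29694, 30028), (29695, 30395)]
    ⟨e3 q29632 (flp_e L822266) q30163, e3 q29633 (flp_e L823759) q30305, e3 q29634 (flp_e L824151) q30344, e3 q29635 (flp_e L824167) q30346, e3 q29636 (flp_e L823857) q30314, e3 q29637 (flp_e L824177) q30347, e3 q29638 (flp_e L823865) q30315, e3 q29639 (flp_e L824187) q30348, e3 q29640 (flp_e L820543) q30035, e3 q29641 (flp_e L816244) q28670, e3 q29642 (flp_e L822994) q30228, e3 q29643 L824274 q30358, e3 q29644 (flp_e L816274) q28675, e3 q29645 L816289 q28754, e3 q29646 L816301 q28751, e3 q29647 L824302 q30361, e3 q29648 (flp_e L816311) q28678, e3 q29649 (flp_e L818113) q29866, e3 q29650 L816332 q28990, e3 q29651 (flp_e L816334) q28681, e3 q29652 (flp_e L819581) q29963, e3 q29653 L816354 q28989, e3 q29654 (flp_e L822841) q30215, e3 q29655 (flp_e L816363) q28685, e3 q29656 (flp_e L822452)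 q30178, e3 q29657 (flp_e L822472) q30181, e3 q29658 (flp_e L822478) q30182, e3 q29659 L816392 q28696, e3 q29660 (flp_e L822490) q30184, e3 q29661 L824427 q30379, e3 q29662 (flp_e L822503) q30186, e3 q29663 (flp_e L816413) q28691, e3 q29664 (flp_e L822525) q30188, e3 q29665 (flp_e L822541) q30189, e3 q29666 L824445 q30381, e3 q29667 (flp_e L816457) q28697, e3 q29668 (flp_e L816467) q28699, e3 q29669 L816483 q28983, e3 q29670 L816491 q28988, e3 q29671 L816497 q28714, e3 q29672 L816505 q28716, e3 q29673 (flp_e L823813) q30311, e3 q29674 (flp_e L823903) q30318, e3 q29675 (flp_e L823935) q30321, e3 q29676 (flp_e L818814) q29913, e3 q29677 (flp_e L823877) q30316, e3 q29678 (flp_e L824473) q30383, e3 q29679 L824509 q30387, e3 q29680 (flp_e L818209) q29872, e3 q29681 L816583 q28722, e3 q29682 (flp_e L818612) q29899, e3 q29683 (flp_e L818660) q29902, e3 q29684 (flp_e L818668) q29903, e3 q29685 (flp_e L818822) q29914, e3 q29686 (flp_e L821888) q30125, e3 q29687 (flp_e L816641) q28728, e3 q29688 (flp_e L816647) q28731, e3 q29689 (flp_e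 L816661) q28733, e3 q29690 L816687 q28860, e3 q29691 (flp_e L816689) q28736, e3 q29692 (flp_e L816703) q28739, e3 q29693 (flp_e L816715) q28743, e3 q29694 (flp_e L820457) q30028, e3 q29695 L824585 q30395, trivial⟩ (by decide +kernel)

theorem ce_e_464 : ∀ r, r < 64 → sm ge (Qf (29696 + r)) = Qf (tab Gen.e (29696 + r)) :=
  edges_tab (sm ge) Qf (tab Gen.e) 29696 [(29696, 28747), (29697, 28749), (29698, 30360), (29699, 28752), (29700, 30359), (29701, 30219), (29702, 28755), (29703, 29895), (29704, 30402), (29705, 28758), (29706, 28896), (29707, 28760), (29708, 30234), (29709, 30232), (29710, 28764), (29711, 30233), (29712, 30230), (29713, 28769), (29714, 30122), (29715, 29910), (29716, 29912), (29717, 28775), (29718, 28978), (29719, 30235), (29720, 28782), (29721, 28944), (29722, 28785), (29723, 28815), (29724, 30414), (29725, 28789), (29726, 28966), (29727, 29968), (29728, 28792), (29729, 30280), (29730, 30418), (29731, 28795), (29732, 29984), (29733, 28797), (29734, 30420), (29735, 28799), (29736, 28969), (29737, 28801),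 (29738, 28971), (29739, 28805), (29740, 30300), (29741, 28811), (29742, 29961), (29743, 30412), (29744, 30413), (29745, 28816), (29746, 28823), (29747, 28821), (29748, 30430), (29749, 30429), (29750, 30431), (29751, 30287), (29752, 30136), (29753, 28825), (29754, 30436), (29755, 28828), (29756, 28902), (29757, 28830), (29758, 28904), (29759, 28833)]
    ⟨e3 q29696 (flp_e L816741) q28747, e3 q29697 (flp_e L816753) q28749, e3 q29698 (flp_e L824300) q30360, e3 q29699 (flp_e L816777) q28752, e3 q29700 (flp_e L824290) q30359, e3 q29701 (flp_e L822890) q30219, e3 q29702 (flp_e L816800) q28755, e3 q29703 (flp_e L818550) q29895, e3 q29704 L824653 q30402, e3 q29705 (flp_e L816830) q28758, e3 q29706 L816845 q28896, e3 q29707 (flp_e L816849) q28760, e3 q29708 (flp_e L823054) q30234, e3 q29709 (flp_e L823032) q30232, e3 q29710 (flp_e L816885) q28764, e3 q29711 (flp_e L823048) q30233, e3 q29712 (flp_e L823016) q30230, e3 q29713 (flp_e L816913) q28769, e3 q29714 (flp_e L821860) q30122, e3 q29715 (flp_e L818767) q29910, e3 q29716 (flp_e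 L818796) q29912, e3 q29717 (flp_e L816949) q28775, e3 q29718 L816965 q28978, e3 q29719 (flp_e L823066) q30235, e3 q29720 (flp_e L816977) q28782, e3 q29721 L816999 q28944, e3 q29722 (flp_e L817001) q28785, e3 q29723 L817015 q28815, e3 q29724 L824767 q30414, e3 q29725 (flp_e L817025) q28789, e3 q29726 L817038 q28966, e3 q29727 (flp_e L819662) q29968, e3 q29728 (flp_e L817048) q28792, e3 q29729 (flp_e L823536) q30280, e3 q29730 L824799 q30418, e3 q29731 (flp_e L817076) q28795, e3 q29732 (flp_e L819899) q29984, e3 q29733 (flp_e L817093) q28797, e3 q29734 L824817 q30420, e3 q29735 (flp_e L817117) q28799, e3 q29736 L817134 q28969, e3 q29737 (flp_e L817136) q28801, e3 q29738 L817150 q28971, e3 q29739 (flp_e L817152) q28805, e3 q29740 (flp_e L823700) q30300, e3 q29741 (flp_e L817164) q28811, e3 q29742 (flp_e L819553) q29961, e3 q29743 (flp_e L824758) q30412, e3 q29744 (flp_e L824762) q30413, e3 q29745 (flp_e L817185) q28816, e3 q29746 L817193 q28823, e3 q29747 L817199 q28821, e3 q29748 (flp_e L824886) q30430, e3 q29749 (flp_e L824880)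 q30429, e3 q29750 (flp_e L824890) q30431, e3 q29751 (flp_e L823589) q30287, e3 q29752 (flp_e L821990) q30136, e3 q29753 (flp_e L817223) q28825, e3 q29754 L824912 q30436, e3 q29755 (flp_e L817245) q28828, e3 q29756 L817262 q28902, e3 q29757 (flp_e L817264) q28830, e3 q29758 L817278 q28904, e3 q29759 (flp_e L817280) q28833, trivial⟩ (by decide +kernel)

theorem ce_e_465 : ∀ r, r < 64 → sm ge (Qf (29760 + r)) = Qf (tab Gen.e (29760 + r)) :=
  edges_tab (sm ge) Qf (tab Gen.e) 29760 [(29760, 30313), (29761, 30310), (29762, 30312), (29763, 30309), (29764, 30306), (29765, 28843), (29766, 28845), (29767, 30214), (29768, 28848), (29769, 28853), (29770, 28938), (29771, 28856), (29772, 29959), (29773, 30391), (29774, 30392), (29775, 30319), (29776, 28864), (29777, 30153), (29778, 30450), (29779, 28869), (29780, 29954), (29781, 29860), (29782, 28872), (29783, 30202), (29784, 29859), (29785, 29858), (29786, 30456), (29787, 28878), (29788, 28921), (29789, 28887), (29790, 28881), (29791, 28935), (29792, 28889), (29793, 28885), (29794, 30458),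 (29795, 30460), (29796, 28892), (29797, 30104), (29798, 28894), (29799, 30403), (29800, 28900), (29801, 30437), (29802, 30438), (29803, 30439), (29804, 28914), (29805, 28916), (29806, 28923), (29807, 28919), (29808, 30457), (29809, 30468), (29810, 30469), (29811, 28924), (29812, 28926), (29813, 30171), (29814, 28930), (29815, 30303), (29816, 30459), (29817, 30461), (29818, 30445), (29819, 30446), (29820, 28939), (29821, 28941), (29822, 30411), (29823, 28945)]
    ⟨e3 q29760 (flp_e L823837) q30313, e3 q29761 (flp_e L823803) q30310, e3 q29762 (flp_e L823827) q30312, e3 q29763 (flp_e L823795) q30309, e3 q29764 (flp_e L823769) q30306, e3 q29765 (flp_e L817320) q28843, e3 q29766 (flp_e L817332) q28845, e3 q29767 (flp_e L822834) q30214, e3 q29768 (flp_e L817344) q28848, e3 q29769 (flp_e L817352) q28853, e3 q29770 L817368 q28938, e3 q29771 (flp_e L817370) q28856, e3 q29772 (flp_e L819519) q29959, e3 q29773 (flp_e L824557) q30391, e3 q29774 (flp_e L824561) q30392, e3 q29775 (flp_e L823913) q30319, e3 q29776 (flp_e L817395) q28864,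 e3 q29777 (flp_e L822193) q30153, e3 q29778 L825008 q30450, e3 q29779 (flp_e L817417) q28869, e3 q29780 (flp_e L819433) q29954, e3 q29781 (flp_e L818004) q29860, e3 q29782 (flp_e L817442) q28872, e3 q29783 (flp_e L822681) q30202, e3 q29784 (flp_e L817986) q29859, e3 q29785 (flp_e L817978) q29858, e3 q29786 L825051 q30456, e3 q29787 (flp_e L817478) q28878, e3 q29788 L817493 q28921, e3 q29789 L817501 q28887, e3 q29790 (flp_e L817503) q28881, e3 q29791 L817515 q28935, e3 q29792 L817525 q28889, e3 q29793 (flp_e L817527) q28885, e3 q29794 (flp_e L825075) q30458, e3 q29795 (flp_e L825093) q30460, e3 q29796 L817551 q28892, e3 q29797 (flp_e L821597) q30104, e3 q29798 (flp_e L817559) q28894, e3 q29799 (flp_e L824669) q30403, e3 q29800 (flp_e L817575) q28900, e3 q29801 (flp_e L824930) q30437, e3 q29802 (flp_e L824938) q30438, e3 q29803 (flp_e L824942) q30439, e3 q29804 (flp_e L817596) q28914, e3 q29805 (flp_e L817604) q28916, e3 q29806 L817614 q28923, e3 q29807 (flp_e L817616) q28919, e3 q29808 (flp_e L825067) q30457, e3 q29809 (flp_e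 L825144) q30468, e3 q29810 (flp_e L825148) q30469, e3 q29811 (flp_e L817645) q28924, e3 q29812 (flp_e L817653) q28926, e3 q29813 (flp_e L822362) q30171, e3 q29814 (flp_e L817667) q28930, e3 q29815 (flp_e L823723) q30303, e3 q29816 (flp_e L825083) q30459, e3 q29817 (flp_e L825097) q30461, e3 q29818 (flp_e L824984) q30445, e3 q29819 (flp_e L824988) q30446, e3 q29820 (flp_e L817701) q28939, e3 q29821 (flp_e L817711) q28941, e3 q29822 (flp_e L824750) q30411, e3 q29823 (flp_e L817723) q28945, trivial⟩ (by decide +kernel)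

theorem ce_e_466 : ∀ r, r < 64 → sm ge (Qf (29824 + r)) = Qf (tab Gen.e (29824 + r)) :=
  edges_tab (sm ge) Qf (tab Gen.e) 29824 [(29824, 28948), (29825, 28952), (29826, 30479), (29827, 30480), (29828, 28953), (29829, 28955), (29830, 30258), (29831, 30259), (29832, 29948), (29833, 29943), (29834, 29941), (29835, 30488), (29836, 28961), (29837, 29891), (29838, 28964), (29839, 30415), (29840, 28967), (29841, 30421), (29842, 30422), (29843, 30423), (29844, 28972), (29845, 28979), (29846, 28980), (29847, 30409), (29848, 30410), (29849, 30495), (29850, 30211), (29851, 30212), (29852, 30382), (29853, 28986), (29854, 30367), (29855, 30363), (29856, 28991), (29857, 28996), (29858, 29785), (29859, 29784), (29860, 29781), (29861, 29316), (29862, 29398), (29863, 29106), (29864, 30504), (29865, 29011), (29866, 29649), (29867, 30507), (29868, 29014), (29869, 29072), (29870, 29347), (29871, 29348), (29872, 29680), (29873, 30512), (29874, 29020), (29875, 29052), (29876, 29339), (29877, 29340), (29878, 30517), (29879, 29023), (29880, 29032),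 (29881, 29028), (29882, 29029), (29883, 29026), (29884, 30519), (29885, 30522), (29886, 29030), (29887, 30518)]
    ⟨e3 q29824 (flp_e L817729) q28948, e3 q29825 L817741 q28952, e3 q29826 (flp_e L825216) q30479, e3 q29827 (flp_e L825220) q30480, e3 q29828 (flp_e L817754) q28953, e3 q29829 (flp_e L817758) q28955, e3 q29830 (flp_e L823313) q30258, e3 q29831 (flp_e L823318) q30259, e3 q29832 (flp_e L819338) q29948, e3 q29833 (flp_e L819258) q29943, e3 q29834 (flp_e L819226) q29941, e3 q29835 L825269 q30488, e3 q29836 (flp_e L817807) q28961, e3 q29837 (flp_e L818483) q29891, e3 q29838 (flp_e L817824) q28964, e3 q29839 (flp_e L824781) q30415, e3 q29840 (flp_e L817838) q28967, e3 q29841 (flp_e L824835) q30421, e3 q29842 (flp_e L824843) q30422, e3 q29843 (flp_e L824847) q30423, e3 q29844 (flp_e L817859) q28972, e3 q29845 L817873 q28979, e3 q29846 L817877 q28980, e3 q29847 (flp_e L824727) q30409, e3 q29848 (flp_e L824733) q30410, e3 q29849 (flp_e L825317) q30495, e3 q29850 (flp_e L822795) q30211, e3 q29851 (flp_e L822801) q30212,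 e3 q29852 (flp_e L824467) q30382, e3 q29853 L817918 q28986, e3 q29854 (flp_e L824350) q30367, e3 q29855 (flp_e L824324) q30363, e3 q29856 (flp_e L817934) q28991, e3 q29857 (flp_e L817942) q28996, e3 q29858 L817978 q29785, e3 q29859 L817986 q29784, e3 q29860 L818004 q29781, e3 q29861 L818018 q29316, e3 q29862 L818042 q29398, e3 q29863 L818058 q29106, e3 q29864 L825397 q30504, e3 q29865 (flp_e L818084) q29011, e3 q29866 L818113 q29649, e3 q29867 L825446 q30507, e3 q29868 (flp_e L818133) q29014, e3 q29869 L818159 q29072, e3 q29870 L818175 q29347, e3 q29871 L818185 q29348, e3 q29872 L818209 q29680, e3 q29873 L825528 q30512, e3 q29874 (flp_e L818231) q29020, e3 q29875 L818256 q29052, e3 q29876 L818272 q29339, e3 q29877 L818281 q29340, e3 q29878 L825601 q30517, e3 q29879 (flp_e L818309) q29023, e3 q29880 L818334 q29032, e3 q29881 L818348 q29028, e3 q29882 L818357 q29029, e3 q29883 (flp_e L818367) q29026, e3 q29884 (flp_e L825641) q30519, e3 q29885 (flp_e L825675) q30522, e3 q29886 (flp_e L818403) q29030, e3 q29887 (flp_e L825627)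 q30518, trivial⟩ (by decide +kernel)

theorem ce_e_467 : ∀ r, r < 64 → sm ge (Qf (29888 + r)) = Qf (tab Gen.e (29888 + r)) :=
  edges_tab (sm ge) Qf (tab Gen.e) 29888 [(29888, 30521), (29889, 30529), (29890, 29034), (29891, 29837), (29892, 29528), (29893, 29529), (29894, 29037), (29895, 29703), (29896, 29527), (29897, 30535), (29898, 29041), (29899, 29682), (29900, 29377), (29901, 29044), (29902, 29683), (29903, 29684), (29904, 30541), (29905, 29047), (29906, 29534), (29907, 29155), (29908, 29050), (29909, 30513), (29910, 29715), (29911, 30549), (29912, 29716), (29913, 29676), (29914, 29685), (29915, 29167), (29916, 29530), (29917, 29062), (29918, 29075), (29919, 29068), (29920, 29069), (29921, 30553), (29922, 30554), (29923, 29070), (29924, 30508), (29925, 29380), (29926, 30552), (29927, 30558), (29928, 29076), (29929, 29078), (29930, 30559), (29931, 29081), (29932, 29176), (29933, 29090), (29934, 29084), (29935, 29216), (29936, 29093), (29937, 29524), (29938, 29217), (29939, 29088), (29940, 30561), (29941, 29834), (29942,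 30565), (29943, 29833), (29944, 29101), (29945, 29099), (29946, 29102), (29947, 29103), (29948, 29832), (29949, 30573), (29950, 30574), (29951, 30503)]
    ⟨e3 q29888 (flp_e L825661) q30521, e3 q29889 L825755 q30529, e3 q29890 (flp_e L818458) q29034, e3 q29891 L818483 q29837, e3 q29892 L818503 q29528, e3 q29893 L818512 q29529, e3 q29894 (flp_e L818522) q29037, e3 q29895 L818550 q29703, e3 q29896 L818560 q29527, e3 q29897 L825853 q30535, e3 q29898 (flp_e L818586) q29041, e3 q29899 L818612 q29682, e3 q29900 L818630 q29377, e3 q29901 (flp_e L818634) q29044, e3 q29902 L818660 q29683, e3 q29903 L818668 q29684, e3 q29904 L825951 q30541, e3 q29905 (flp_e L818694) q29047, e3 q29906 L818719 q29534, e3 q29907 L818735 q29155, e3 q29908 (flp_e L818739) q29050, e3 q29909 (flp_e L825554) q30513, e3 q29910 L818767 q29715, e3 q29911 L826057 q30549, e3 q29912 L818796 q29716, e3 q29913 L818814 q29676, e3 q29914 L818822 q29685, e3 q29915 L818834 q29167, e3 q29916 L818850 q29530, e3 q29917 (flp_e L818861) q29062, e3 q29918 L818885 q29075, e3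 q29919 L818905 q29068, e3 q29920 L818915 q29069, e3 q29921 (flp_e L826134) q30553, e3 q29922 (flp_e L826144) q30554, e3 q29923 (flp_e L818951) q29070, e3 q29924 (flp_e L825474) q30508, e3 q29925 L818991 q29380, e3 q29926 (flp_e L826112) q30552, e3 q29927 L826202 q30558, e3 q29928 (flp_e L819027) q29076, e3 q29929 (flp_e L819045) q29078, e3 q29930 L826222 q30559, e3 q29931 (flp_e L819081) q29081, e3 q29932 L819106 q29176, e3 q29933 L819120 q29090, e3 q29934 (flp_e L819124) q29084, e3 q29935 L819146 q29216, e3 q29936 L819158 q29093, e3 q29937 L819171 q29524, e3 q29938 L819182 q29217, e3 q29939 (flp_e L819192) q29088, e3 q29940 (flp_e L826262) q30561, e3 q29941 L819226 q29834, e3 q29942 (flp_e L826318) q30565, e3 q29943 L819258 q29833, e3 q29944 L819278 q29101, e3 q29945 L819294 q29099, e3 q29946 L819304 q29102, e3 q29947 L819318 q29103, e3 q29948 L819338 q29832, e3 q29949 (flp_e L826434) q30573, e3 q29950 (flp_e L826448) q30574, e3 q29951 (flp_e L825389) q30503, trivial⟩ (by decide +kernel)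

theorem ce_e_468 : ∀ r, r < 64 → sm ge (Qf (29952 + r)) = Qf (tab Gen.e (29952 + r)) :=
  edges_tab (sm ge) Qf (tab Gen.e) 29952 [(29952, 30576), (29953, 29107), (29954, 29780), (29955, 29110), (29956, 29112), (29957, 29453), (29958, 29117), (29959, 29772), (29960, 29120), (29961, 29742), (29962, 29125), (29963, 29652), (29964, 29596), (29965, 29128), (29966, 30588), (29967, 29131), (29968, 29727), (29969, 30590), (29970, 29134), (29971, 29181), (29972, 29423), (29973, 29357), (29974, 30595), (29975, 29137), (29976, 29149), (29977, 29142), (29978, 29143), (29979, 29140), (29980, 30597), (29981, 30599), (29982, 30602), (29983, 29144), (29984, 29732), (29985, 29424), (29986, 29147), (29987, 30596), (29988, 29376), (29989, 30609), (29990, 29150), (29991, 29152), (29992, 29537), (29993, 30543), (29994, 29540), (29995, 29157), (29996, 29199), (29997, 29514), (29998, 30617), (29999, 29161), (30000, 29169), (30001, 29166), (30002, 30520), (30003, 29170), (30004, 30619), (30005, 30551), (30006, 30618), (30007, 30620), (30008, 30622),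 (30009, 29365), (30010, 30629), (30011, 29171), (30012, 29507), (30013, 29186), (30014, 29174), (30015, 30560)]
    ⟨e3 q29952 L826470 q30576, e3 q29953 (flp_e L819404) q29107, e3 q29954 L819433 q29780, e3 q29955 (flp_e L819437) q29110, e3 q29956 (flp_e L819455) q29112, e3 q29957 L819485 q29453, e3 q29958 (flp_e L819489) q29117, e3 q29959 L819519 q29772, e3 q29960 (flp_e L819523) q29120, e3 q29961 L819553 q29742, e3 q29962 (flp_e L819557) q29125, e3 q29963 L819581 q29652, e3 q29964 L819588 q29596, e3 q29965 (flp_e L819598) q29128, e3 q29966 L826665 q30588, e3 q29967 (flp_e L819636) q29131, e3 q29968 L819662 q29727, e3 q29969 L826695 q30590, e3 q29970 (flp_e L819682) q29134, e3 q29971 L819707 q29181, e3 q29972 L819723 q29423, e3 q29973 L819732 q29357, e3 q29974 L826770 q30595, e3 q29975 (flp_e L819760) q29137, e3 q29976 L819785 q29149, e3 q29977 L819801 q29142, e3 q29978 L819810 q29143, e3 q29979 (flp_e L819820) q29140, e3 q29980 (flp_e L826812) q30597, e3 q29981 (flp_e L826835) q30599, e3 q29982 L826867 q30602, e3 q29983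 (flp_e L819874) q29144, e3 q29984 L819899 q29732, e3 q29985 L819915 q29424, e3 q29986 (flp_e L819919) q29147, e3 q29987 (flp_e L826796) q30596, e3 q29988 L819946 q29376, e3 q29989 L826961 q30609, e3 q29990 (flp_e L819974) q29150, e3 q29991 (flp_e L819988) q29152, e3 q29992 L820006 q29537, e3 q29993 (flp_e L825993) q30543, e3 q29994 L820022 q29540, e3 q29995 (flp_e L820028) q29157, e3 q29996 L820048 q29199, e3 q29997 L820058 q29514, e3 q29998 L827050 q30617, e3 q29999 (flp_e L820069) q29161, e3 q30000 L820087 q29169, e3 q30001 L820097 q29166, e3 q30002 (flp_e L825654) q30520, e3 q30003 L820113 q29170, e3 q30004 (flp_e L827087) q30619, e3 q30005 (flp_e L826090) q30551, e3 q30006 (flp_e L827075) q30618, e3 q30007 (flp_e L827091) q30620, e3 q30008 (flp_e L827110) q30622, e3 q30009 L820173 q29365, e3 q30010 L827190 q30629, e3 q30011 (flp_e L820199) q29171, e3 q30012 L820224 q29507, e3 q30013 L820238 q29186, e3 q30014 (flp_e L820242) q29174, e3 q30015 (flp_e L826248) q30560, trivial⟩ (by decide +kernel)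

theorem ce_e_469 : ∀ r, r < 64 → sm ge (Qf (30016 + r)) = Qf (tab Gen.e (30016 + r)) :=
  edges_tab (sm ge) Qf (tab Gen.e) 30016 [(30016, 30563), (30017, 29177), (30018, 29179), (30019, 30591), (30020, 29583), (30021, 29184), (30022, 30631), (30023, 29544), (30024, 29343), (30025, 29190), (30026, 29569), (30027, 29195), (30028, 29694), (30029, 30613), (30030, 29614), (30031, 30615), (30032, 30649), (30033, 29201), (30034, 29203), (30035, 29640), (30036, 29329), (30037, 30651), (30038, 29209), (30039, 29494), (30040, 29211), (30041, 29509), (30042, 29227), (30043, 29617), (30044, 29510), (30045, 30564), (30046, 30566), (30047, 30568), (30048, 30569), (30049, 29218), (30050, 29230), (30051, 29515), (30052, 29224), (30053, 30654), (30054, 29531), (30055, 29232), (30056, 29571), (30057, 29332), (30058, 29247), (30059, 29249), (30060, 30662), (30061, 29254), (30062, 29270), (30063, 29405), (30064, 30665), (30065, 29257), (30066, 29265), (30067, 29262), (30068, 29260), (30069, 30667), (30070, 29263), (30071, 30666), (30072, 29266),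 (30073, 29268), (30074, 30663), (30075, 29283), (30076, 29613), (30077, 29284), (30078, 29274), (30079, 29302)]
    ⟨e3 q30016 (flp_e L826286) q30563, e3 q30017 (flp_e L820275) q29177, e3 q30018 (flp_e L820293) q29179, e3 q30019 (flp_e L826721) q30591, e3 q30020 L820333 q29583, e3 q30021 (flp_e L820335) q29184, e3 q30022 (flp_e L827230) q30631, e3 q30023 L820375 q29544, e3 q30024 L820385 q29343, e3 q30025 (flp_e L820393) q29190, e3 q30026 L820423 q29569, e3 q30027 (flp_e L820427) q29195, e3 q30028 L820457 q29694, e3 q30029 (flp_e L827019) q30613, e3 q30030 L820481 q29614, e3 q30031 (flp_e L827035) q30615, e3 q30032 L827462 q30649, e3 q30033 (flp_e L820502) q29201, e3 q30034 (flp_e L820515) q29203, e3 q30035 L820543 q29640, e3 q30036 L820553 q29329, e3 q30037 L827490 q30651, e3 q30038 (flp_e L820579) q29209, e3 q30039 L820608 q29494, e3 q30040 (flp_e L820612) q29211, e3 q30041 L820630 q29509, e3 q30042 L820642 q29227, e3 q30043 L820655 q29617, e3 q30044 L820666 q29510, e3 q30045 (flp_e L826304) q30564, e3 q30046 (flp_e L826324)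 q30566, e3 q30047 (flp_e L826351) q30568, e3 q30048 (flp_e L826368) q30569, e3 q30049 (flp_e L820712) q29218, e3 q30050 L820748 q29230, e3 q30051 L820760 q29515, e3 q30052 (flp_e L820766) q29224, e3 q30053 (flp_e L827546) q30654, e3 q30054 L820804 q29531, e3 q30055 (flp_e L820820) q29232, e3 q30056 L820850 q29571, e3 q30057 L820866 q29332, e3 q30058 (flp_e L820872) q29247, e3 q30059 (flp_e L820890) q29249, e3 q30060 L827626 q30662, e3 q30061 (flp_e L820928) q29254, e3 q30062 L820953 q29270, e3 q30063 L820969 q29405, e3 q30064 L827672 q30665, e3 q30065 (flp_e L820991) q29257, e3 q30066 L821016 q29265, e3 q30067 L821036 q29262, e3 q30068 (flp_e L821040) q29260, e3 q30069 (flp_e L827718) q30667, e3 q30070 (flp_e L821062) q29263, e3 q30071 (flp_e L827698) q30666, e3 q30072 (flp_e L821090) q29266, e3 q30073 (flp_e L821110) q29268, e3 q30074 (flp_e L827652) q30663, e3 q30075 L821148 q29283, e3 q30076 L821167 q29613, e3 q30077 L821183 q29284, e3 q30078 (flp_e L821187) q29274, e3 q30079 L821221 q29302, trivial⟩ (by decide +kernel)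

theorem ce_e_470 : ∀ r, r < 64 → sm ge (Qf (30080 + r)) = Qf (tab Gen.e (30080 + r)) :=
  edges_tab (sm ge) Qf (tab Gen.e) 30080 [(30080, 30672), (30081, 29285), (30082, 30675), (30083, 29289), (30084, 29307), (30085, 29620), (30086, 29341), (30087, 30679), (30088, 29292), (30089, 29301), (30090, 29297), (30091, 29298), (30092, 29295), (30093, 30681), (30094, 30684), (30095, 29299), (30096, 30680), (30097, 30683), (30098, 29303), (30099, 29305), (30100, 30676), (30101, 29428), (30102, 30694), (30103, 29436), (30104, 29797), (30105, 29502), (30106, 29480), (30107, 29383), (30108, 29385), (30109, 29325), (30110, 29324), (30111, 29326), (30112, 29327), (30113, 30697), (30114, 30698), (30115, 30650), (30116, 30700), (30117, 29330), (30118, 29335), (30119, 29333), (30120, 30701), (30121, 29336), (30122, 29714), (30123, 30514), (30124, 30678), (30125, 29686), (30126, 30516), (30127, 30641), (30128, 29344), (30129, 29379), (30130, 30509), (30131, 30714), (30132, 30511), (30133, 29349), (30134, 29359), (30135, 29355), (30136, 29752),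 (30137, 29360), (30138, 29356), (30139, 30717), (30140, 30721), (30141, 30594), (30142, 30716), (30143, 30718)]
    ⟨e3 q30080 (flp_e L827787) q30672, e3 q30081 (flp_e L821245) q29285, e3 q30082 L827824 q30675, e3 q30083 (flp_e L821281) q29289, e3 q30084 L821306 q29307, e3 q30085 L821322 q29620, e3 q30086 L821331 q29341, e3 q30087 L827884 q30679, e3 q30088 (flp_e L821359) q29292, e3 q30089 L821384 q29301, e3 q30090 L821398 q29297, e3 q30091 L821407 q29298, e3 q30092 (flp_e L821417) q29295, e3 q30093 (flp_e L827924) q30681, e3 q30094 (flp_e L827958) q30684, e3 q30095 (flp_e L821459) q29299, e3 q30096 (flp_e L827910) q30680, e3 q30097 (flp_e L827944) q30683, e3 q30098 (flp_e L821498) q29303, e3 q30099 (flp_e L821516) q29305, e3 q30100 (flp_e L827850) q30676, e3 q30101 L821546 q29428, e3 q30102 L828078 q30694, e3 q30103 L821577 q29436, e3 q30104 L821597 q29797, e3 q30105 L821605 q29502, e3 q30106 L821619 q29480, e3 q30107 L821643 q29383, e3 q30108 L821663 q29385, e3 q30109 L821681 q29325, e3 q30110 L821699 q29324, e3 q30111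 L821709 q29326, e3 q30112 L821723 q29327, e3 q30113 (flp_e L828131) q30697, e3 q30114 (flp_e L828145) q30698, e3 q30115 (flp_e L827482) q30650, e3 q30116 L828169 q30700, e3 q30117 (flp_e L821795) q29330, e3 q30118 L821820 q29335, e3 q30119 (flp_e L821822) q29333, e3 q30120 (flp_e L828195) q30701, e3 q30121 (flp_e L821842) q29336, e3 q30122 L821860 q29714, e3 q30123 (flp_e L825570) q30514, e3 q30124 (flp_e L827874) q30678, e3 q30125 L821888 q29686, e3 q30126 (flp_e L825591) q30516, e3 q30127 (flp_e L827351) q30641, e3 q30128 (flp_e L821922) q29344, e3 q30129 L821936 q29379, e3 q30130 (flp_e L825490) q30509, e3 q30131 L828303 q30714, e3 q30132 (flp_e L825518) q30511, e3 q30133 (flp_e L821957) q29349, e3 q30134 L821973 q29359, e3 q30135 L821981 q29355, e3 q30136 L821990 q29752, e3 q30137 L821995 q29360, e3 q30138 L822005 q29356, e3 q30139 (flp_e L828345) q30717, e3 q30140 (flp_e L828380) q30721, e3 q30141 (flp_e L826760) q30594, e3 q30142 (flp_e L828337) q30716, e3 q30143 (flp_e L828349) q30718, trivial⟩ (by decide +kernel)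

theorem ce_e_471 : ∀ r, r < 64 → sm ge (Qf (30144 + r)) = Qf (tab Gen.e (30144 + r)) :=
  edges_tab (sm ge) Qf (tab Gen.e) 30144 [(30144, 30720), (30145, 30722), (30146, 30730), (30147, 29361), (30148, 29363), (30149, 30628), (30150, 29368), (30151, 29447), (30152, 29445), (30153, 29777), (30154, 29374), (30155, 30608), (30156, 30537), (30157, 30740), (30158, 30709), (30159, 30557), (30160, 30711), (30161, 30744), (30162, 29381), (30163, 29632), (30164, 29577), (30165, 30746), (30166, 29389), (30167, 29391), (30168, 29616), (30169, 29394), (30170, 29399), (30171, 29813), (30172, 29407), (30173, 29403), (30174, 30664), (30175, 30750), (30176, 29410), (30177, 29411), (30178, 29656), (30179, 29422), (30180, 30593), (30181, 29657), (30182, 29658), (30183, 29426), (30184, 29660), (30185, 30764), (30186, 29662), (30187, 29418), (30188, 29664), (30189, 29665), (30190, 30754), (30191, 30592), (30192, 30604), (30193, 30768), (30194, 30691), (30195, 29427), (30196, 30770), (30197, 29430), (30198, 29437), (30199, 29438), (30200, 30771),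 (30201, 29441), (30202, 29783), (30203, 30734), (30204, 30733), (30205, 30735), (30206, 29448), (30207, 29609)]
    ⟨e3 q30144 (flp_e L828370) q30720, e3 q30145 (flp_e L828391) q30722, e3 q30146 L828477 q30730, e3 q30147 (flp_e L822097) q29361, e3 q30148 (flp_e L822111) q29363, e3 q30149 (flp_e L827182) q30628, e3 q30150 (flp_e L822135) q29368, e3 q30151 L822157 q29447, e3 q30152 L822175 q29445, e3 q30153 L822193 q29777, e3 q30154 (flp_e L822197) q29374, e3 q30155 (flp_e L826951) q30608, e3 q30156 (flp_e L825899) q30537, e3 q30157 L828596 q30740, e3 q30158 (flp_e L828274) q30709, e3 q30159 (flp_e L826198) q30557, e3 q30160 (flp_e L828284) q30711, e3 q30161 L828630 q30744, e3 q30162 (flp_e L822253) q29381, e3 q30163 L822266 q29632, e3 q30164 L822274 q29577, e3 q30165 L828650 q30746, e3 q30166 (flp_e L822298) q29389, e3 q30167 (flp_e L822312) q29391, e3 q30168 L822328 q29616, e3 q30169 (flp_e L822330) q29394, e3 q30170 (flp_e L822344) q29399, e3 q30171 L822362 q29813, e3 q30172 L822376 q29407, e3 q30173 (flp_e L822380) q29403,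 e3 q30174 (flp_e L827668) q30664, e3 q30175 (flp_e L828709) q30750, e3 q30176 L822436 q29410, e3 q30177 (flp_e L822440) q29411, e3 q30178 L822452 q29656, e3 q30179 L822460 q29422, e3 q30180 (flp_e L826752) q30593, e3 q30181 L822472 q29657, e3 q30182 L822478 q29658, e3 q30183 L822486 q29426, e3 q30184 L822490 q29660, e3 q30185 L828820 q30764, e3 q30186 L822503 q29662, e3 q30187 (flp_e L822507) q29418, e3 q30188 L822525 q29664, e3 q30189 L822541 q29665, e3 q30190 (flp_e L828752) q30754, e3 q30191 (flp_e L826737) q30592, e3 q30192 (flp_e L826909) q30604, e3 q30193 L828868 q30768, e3 q30194 (flp_e L828055) q30691, e3 q30195 (flp_e L822599) q29427, e3 q30196 (flp_e L828904) q30770, e3 q30197 L822631 q29430, e3 q30198 L822641 q29437, e3 q30199 L822647 q29438, e3 q30200 (flp_e L828914) q30771, e3 q30201 (flp_e L822661) q29441, e3 q30202 L822681 q29783, e3 q30203 (flp_e L828546) q30734, e3 q30204 (flp_e L828526) q30733, e3 q30205 (flp_e L828552) q30735, e3 q30206 (flp_e L822714) q29448, e3 q30207 L822740 q29609, trivial⟩ (by decide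 +kernel)

theorem ce_e_472 : ∀ r, r < 64 → sm ge (Qf (30208 + r)) = Qf (tab Gen.e (30208 + r)) :=
  edges_tab (sm ge) Qf (tab Gen.e) 30208 [(30208, 30578), (30209, 30579), (30210, 29504), (30211, 29850), (30212, 29851), (30213, 29460), (30214, 29767), (30215, 29654), (30216, 29463), (30217, 29472), (30218, 29469), (30219, 29701), (30220, 29473), (30221, 29470), (30222, 30783), (30223, 30787), (30224, 30782), (30225, 30784), (30226, 30786), (30227, 29474), (30228, 29642), (30229, 29477), (30230, 29712), (30231, 30696), (30232, 29709), (30233, 29711), (30234, 29708), (30235, 29719), (30236, 29487), (30237, 29491), (30238, 30798), (30239, 30799), (30240, 29492), (30241, 30652), (30242, 29495), (30243, 29501), (30244, 29503), (30245, 30803), (30246, 30695), (30247, 29505), (30248, 30630), (30249, 30633), (30250, 30653), (30251, 30655), (30252, 30657), (30253, 29513), (30254, 30614), (30255, 29516), (30256, 29523), (30257, 29519), (30258, 29830), (30259, 29831), (30260, 30810), (30261, 30811), (30262, 30567), (30263, 30562), (30264,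 29525), (30265, 30534), (30266, 30531), (30267, 30538), (30268, 30532), (30269, 29532), (30270, 30542), (30271, 29538)]
    ⟨e3 q30208 (flp_e L826518) q30578, e3 q30209 (flp_e L826524) q30579, e3 q30210 L822775 q29504, e3 q30211 L822795 q29850, e3 q30212 L822801 q29851, e3 q30213 (flp_e L822812) q29460, e3 q30214 L822834 q29767, e3 q30215 L822841 q29654, e3 q30216 (flp_e L822849) q29463, e3 q30217 L822867 q29472, e3 q30218 L822879 q29469, e3 q30219 L822890 q29701, e3 q30220 L822899 q29473, e3 q30221 L822913 q29470, e3 q30222 (flp_e L829069) q30783, e3 q30223 (flp_e L829110) q30787, e3 q30224 (flp_e L829055) q30782, e3 q30225 (flp_e L829073) q30784, e3 q30226 (flp_e L829096) q30786, e3 q30227 (flp_e L822968) q29474, e3 q30228 L822994 q29642, e3 q30229 (flp_e L822998) q29477, e3 q30230 L823016 q29712, e3 q30231 (flp_e L828113) q30696, e3 q30232 L823032 q29709, e3 q30233 L823048 q29711, e3 q30234 L823054 q29708, e3 q30235 L823066 q29719, e3 q30236 (flp_e L823070) q29487, e3 q30237 L823096 q29491, e3 q30238 (flp_e L829240) q30798,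 e3 q30239 (flp_e L829246) q30799, e3 q30240 (flp_e L823121) q29492, e3 q30241 (flp_e L827520) q30652, e3 q30242 (flp_e L823147) q29495, e3 q30243 L823167 q29501, e3 q30244 L823181 q29503, e3 q30245 (flp_e L829302) q30803, e3 q30246 (flp_e L828099) q30695, e3 q30247 (flp_e L823201) q29505, e3 q30248 (flp_e L827216) q30630, e3 q30249 (flp_e L827254) q30633, e3 q30250 (flp_e L827532) q30653, e3 q30251 (flp_e L827552) q30655, e3 q30252 (flp_e L827577) q30657, e3 q30253 L823265 q29513, e3 q30254 (flp_e L827031) q30614, e3 q30255 (flp_e L823275) q29516, e3 q30256 L823297 q29523, e3 q30257 (flp_e L823299) q29519, e3 q30258 L823313 q29830, e3 q30259 L823318 q29831, e3 q30260 (flp_e L829370) q30810, e3 q30261 (flp_e L829374) q30811, e3 q30262 (flp_e L826341) q30567, e3 q30263 (flp_e L826277) q30562, e3 q30264 (flp_e L823354) q29525, e3 q30265 (flp_e L825845) q30534, e3 q30266 (flp_e L825801) q30531, e3 q30267 (flp_e L825909) q30538, e3 q30268 (flp_e L825811) q30532, e3 q30269 (flp_e L823416) q29532, e3 q30270 (flp_e L825977) q30542,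 e3 q30271 L823444 q29538, trivial⟩ (by decide +kernel)

theorem ce_e_473 : ∀ r, r < 64 → sm ge (Qf (30272 + r)) = Qf (tab Gen.e (30272 + r)) :=
  edges_tab (sm ge) Qf (tab Gen.e) 30272 [(30272, 30610), (30273, 30824), (30274, 30828), (30275, 30612), (30276, 29539), (30277, 29542), (30278, 29545), (30279, 29559), (30280, 29729), (30281, 29564), (30282, 29560), (30283, 29624), (30284, 29561), (30285, 29556), (30286, 29562), (30287, 29751), (30288, 29563), (30289, 29557), (30290, 30838), (30291, 30829), (30292, 30831), (30293, 30833), (30294, 30723), (30295, 30835), (30296, 30837), (30297, 30840), (30298, 30832), (30299, 29565), (30300, 29740), (30301, 30642), (30302, 30643), (30303, 29815), (30304, 29572), (30305, 29633), (30306, 29764), (30307, 30745), (30308, 29630), (30309, 29763), (30310, 29761), (30311, 29673), (30312, 29762), (30313, 29760), (30314, 29636), (30315, 29638), (30316, 29677), (30317, 29623), (30318, 29674), (30319, 29775), (30320, 30586), (30321, 29675), (30322, 30587), (30323, 29598), (30324, 29606), (30325,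 29607), (30326, 29604), (30327, 29608), (30328, 30865), (30329, 30866), (30330, 30867), (30331, 30775), (30332, 30776), (30333, 29611), (30334, 30674), (30335, 30747)]
    ⟨e3 q30272 (flp_e L826985) q30610, e3 q30273 (flp_e L829513) q30824, e3 q30274 L829552 q30828, e3 q30275 (flp_e L827003) q30612, e3 q30276 (flp_e L823488) q29539, e3 q30277 (flp_e L823498) q29542, e3 q30278 (flp_e L823512) q29545, e3 q30279 L823528 q29559, e3 q30280 L823536 q29729, e3 q30281 L823545 q29564, e3 q30282 L823550 q29560, e3 q30283 L823560 q29624, e3 q30284 L823570 q29561, e3 q30285 L823576 q29556, e3 q30286 L823580 q29562, e3 q30287 L823589 q29751, e3 q30288 L823597 q29563, e3 q30289 L823607 q29557, e3 q30290 (flp_e L829651) q30838, e3 q30291 (flp_e L829572) q30829, e3 q30292 (flp_e L829584) q30831, e3 q30293 (flp_e L829605) q30833, e3 q30294 (flp_e L828402) q30723, e3 q30295 (flp_e L829625) q30835, e3 q30296 (flp_e L829641) q30837, e3 q30297 (flp_e L829667) q30840, e3 q30298 (flp_e L829599) q30832, e3 q30299 (flp_e L823682) q29565, e3 q30300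 L823700 q29740, e3 q30301 (flp_e L827373) q30642, e3 q30302 (flp_e L827379) q30643, e3 q30303 L823723 q29815, e3 q30304 (flp_e L823735) q29572, e3 q30305 L823759 q29633, e3 q30306 L823769 q29764, e3 q30307 (flp_e L828644) q30745, e3 q30308 L823779 q29630, e3 q30309 L823795 q29763, e3 q30310 L823803 q29761, e3 q30311 L823813 q29673, e3 q30312 L823827 q29762, e3 q30313 L823837 q29760, e3 q30314 L823857 q29636, e3 q30315 L823865 q29638, e3 q30316 L823877 q29677, e3 q30317 L823889 q29623, e3 q30318 L823903 q29674, e3 q30319 L823913 q29775, e3 q30320 (flp_e L826638) q30586, e3 q30321 L823935 q29675, e3 q30322 (flp_e L826655) q30587, e3 q30323 (flp_e L823952) q29598, e3 q30324 L823972 q29606, e3 q30325 L823980 q29607, e3 q30326 L823996 q29604, e3 q30327 L824002 q29608, e3 q30328 (flp_e L829943) q30865, e3 q30329 (flp_e L829947) q30866, e3 q30330 (flp_e L829960) q30867, e3 q30331 (flp_e L828965) q30775, e3 q30332 (flp_e L828971) q30776, e3 q30333 (flp_e L824045) q29611, e3 q30334 (flp_e L827822) q30674, e3 q30335 (flp_e L828672)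 q30747, trivial⟩ (by decide +kernel)

theorem ce_e_474 : ∀ r, r < 64 → sm ge (Qf (30336 + r)) = Qf (tab Gen.e (30336 + r)) :=
  edges_tab (sm ge) Qf (tab Gen.e) 30336 [(30336, 30748), (30337, 30656), (30338, 30632), (30339, 29618), (30340, 30677), (30341, 29631), (30342, 30861), (30343, 30834), (30344, 29634), (30345, 30510), (30346, 29635), (30347, 29637), (30348, 29639), (30349, 30856), (30350, 30855), (30351, 30879), (30352, 30881), (30353, 30539), (30354, 30860), (30355, 30882), (30356, 30792), (30357, 30793), (30358, 29643), (30359, 29700), (30360, 29698), (30361, 29647), (30362, 30505), (30363, 29855), (30364, 30598), (30365, 30506), (30366, 30584), (30367, 29854), (30368, 30585), (30369, 30781), (30370, 30753), (30371, 30755), (30372, 30757), (30373, 30715), (30374, 30759), (30375, 30905), (30376, 30761), (30377, 30907), (30378, 30763), (30379, 29661), (30380, 30765), (30381, 29666), (30382, 29852), (30383, 29678), (30384, 30863), (30385, 30550), (30386, 30910), (30387, 29679), (30388, 30536), (30389, 30540), (30390,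 30707), (30391, 29773), (30392, 29774), (30393, 30644), (30394, 30645), (30395, 29695), (30396, 30888), (30397, 30887), (30398, 30889), (30399, 30785)]
    ⟨e3 q30336 (flp_e L828676) q30748, e3 q30337 (flp_e L827567) q30656, e3 q30338 (flp_e L827245) q30632, e3 q30339 (flp_e L824095) q29618, e3 q30340 (flp_e L827866) q30677, e3 q30341 L824125 q29631, e3 q30342 (flp_e L829893) q30861, e3 q30343 (flp_e L829615) q30834, e3 q30344 L824151 q29634, e3 q30345 (flp_e L825506) q30510, e3 q30346 L824167 q29635, e3 q30347 L824177 q29637, e3 q30348 L824187 q29639, e3 q30349 (flp_e L829835) q30856, e3 q30350 (flp_e L829829) q30855, e3 q30351 (flp_e L830063) q30879, e3 q30352 (flp_e L830079) q30881, e3 q30353 (flp_e L825935) q30539, e3 q30354 (flp_e L829881) q30860, e3 q30355 (flp_e L830089) q30882, e3 q30356 (flp_e L829167) q30792, e3 q30357 (flp_e L829173) q30793, e3 q30358 (flp_e L824274) q29643, e3 q30359 L824290 q29700, e3 q30360 L824300 q29698, e3 q30361 (flp_e L824302) q29647, e3 q30362 (flp_e L825427) q30505, e3 q30363 L824324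 q29855, e3 q30364 (flp_e L826827) q30598, e3 q30365 (flp_e L825434) q30506, e3 q30366 (flp_e L826621) q30584, e3 q30367 L824350 q29854, e3 q30368 (flp_e L826625) q30585, e3 q30369 (flp_e L829039) q30781, e3 q30370 (flp_e L828744) q30753, e3 q30371 (flp_e L828756) q30755, e3 q30372 (flp_e L828773) q30757, e3 q30373 (flp_e L828321) q30715, e3 q30374 (flp_e L828792) q30759, e3 q30375 L830270 q30905, e3 q30376 (flp_e L828804) q30761, e3 q30377 L830290 q30907, e3 q30378 (flp_e L828818) q30763, e3 q30379 (flp_e L824427) q29661, e3 q30380 (flp_e L828838) q30765, e3 q30381 (flp_e L824445) q29666, e3 q30382 L824467 q29852, e3 q30383 L824473 q29678, e3 q30384 (flp_e L829917) q30863, e3 q30385 (flp_e L826078) q30550, e3 q30386 L830320 q30910, e3 q30387 (flp_e L824509) q29679, e3 q30388 (flp_e L825881) q30536, e3 q30389 (flp_e L825943) q30540, e3 q30390 (flp_e L828250) q30707, e3 q30391 L824557 q29773, e3 q30392 L824561 q29774, e3 q30393 (flp_e L827408) q30644, e3 q30394 (flp_e L827414) q30645, e3 q30395 (flp_e L824585) q29695, e3 q30396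 (flp_e L830157) q30888, e3 q30397 (flp_e L830145) q30887, e3 q30398 (flp_e L830161) q30889, e3 q30399 (flp_e L829088) q30785, trivial⟩ (by decide +kernel)

theorem ce_e_475 : ∀ r, r < 64 → sm ge (Qf (30400 + r)) = Qf (tab Gen.e (30400 + r)) :=
  edges_tab (sm ge) Qf (tab Gen.e) 30400 [(30400, 30682), (30401, 30533), (30402, 29704), (30403, 29799), (30404, 30797), (30405, 30796), (30406, 30794), (30407, 30704), (30408, 30546), (30409, 29847), (30410, 29848), (30411, 29822), (30412, 29743), (30413, 29744), (30414, 29724), (30415, 29839), (30416, 30589), (30417, 30830), (30418, 29730), (30419, 30603), (30420, 29734), (30421, 29841), (30422, 29842), (30423, 29843), (30424, 30850), (30425, 30851), (30426, 30582), (30427, 30583), (30428, 30921), (30429, 29749), (30430, 29748), (30431, 29750), (30432, 30933), (30433, 30836), (30434, 30839), (30435, 30719), (30436, 29754), (30437, 29801), (30438, 29802), (30439, 29803), (30440, 30859), (30441, 30858), (30442, 30857), (30443, 30779), (30444, 30780), (30445, 29818), (30446, 29819),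 (30447, 30580), (30448, 30581), (30449, 30911), (30450, 29778), (30451, 30577), (30452, 30502), (30453, 30772), (30454, 30501), (30455, 30773), (30456, 29786), (30457, 29808), (30458, 29794), (30459, 29816), (30460, 29795), (30461, 29817), (30462, 30951), (30463, 30917)]
    ⟨e3 q30400 (flp_e L827937) q30682, e3 q30401 (flp_e L825835) q30533, e3 q30402 (flp_e L824653) q29704, e3 q30403 L824669 q29799, e3 q30404 (flp_e L829222) q30797, e3 q30405 (flp_e L829212) q30796, e3 q30406 (flp_e L829196) q30794, e3 q30407 (flp_e L828222) q30704, e3 q30408 (flp_e L826032) q30546, e3 q30409 L824727 q29847, e3 q30410 L824733 q29848, e3 q30411 L824750 q29822, e3 q30412 L824758 q29743, e3 q30413 L824762 q29744, e3 q30414 (flp_e L824767) q29724, e3 q30415 L824781 q29839, e3 q30416 (flp_e L826693) q30589, e3 q30417 (flp_e L829580) q30830, e3 q30418 (flp_e L824799) q29730, e3 q30419 (flp_e L826893) q30603, e3 q30420 (flp_e L824817) q29734, e3 q30421 L824835 q29841, e3 q30422 L824843 q29842, e3 q30423 L824847 q29843, e3 q30424 (flp_e L829759)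 q30850, e3 q30425 (flp_e L829765) q30851, e3 q30426 (flp_e L826588) q30582, e3 q30427 (flp_e L826594) q30583, e3 q30428 (flp_e L830424) q30921, e3 q30429 L824880 q29749, e3 q30430 L824886 q29748, e3 q30431 L824890 q29750, e3 q30432 (flp_e L830516) q30933, e3 q30433 (flp_e L829633) q30836, e3 q30434 (flp_e L829658) q30839, e3 q30435 (flp_e L828364) q30719, e3 q30436 (flp_e L824912) q29754, e3 q30437 L824930 q29801, e3 q30438 L824938 q29802, e3 q30439 L824942 q29803, e3 q30440 (flp_e L829867) q30859, e3 q30441 (flp_e L829857) q30858, e3 q30442 (flp_e L829849) q30857, e3 q30443 (flp_e L829020) q30779, e3 q30444 (flp_e L829024) q30780, e3 q30445 L824984 q29818, e3 q30446 L824988 q29819, e3 q30447 (flp_e L826553) q30580, e3 q30448 (flp_e L826559) q30581, e3 q30449 (flp_e L830330) q30911, e3 q30450 (flp_e L825008) q29778, e3 q30451 (flp_e L826500) q30577, e3 q30452 (flp_e L825369) q30502, e3 q30453 (flp_e L828930) q30772, e3 q30454 (flp_e L825351) q30501, e3 q30455 (flp_e L828936) q30773, e3 q30456 (flp_e L825051) q29786, e3 q30457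 L825067 q29808, e3 q30458 L825075 q29794, e3 q30459 L825083 q29816, e3 q30460 L825093 q29795, e3 q30461 L825097 q29817, e3 q30462 (flp_e L830639) q30951, e3 q30463 (flp_e L830385) q30917, trivial⟩ (by decide +kernel)

theorem ce_e_476 : ∀ r, r < 64 → sm ge (Qf (30464 + r)) = Qf (tab Gen.e (30464 + r)) :=
  edges_tab (sm ge) Qf (tab Gen.e) 30464 [(30464, 30918), (30465, 30938), (30466, 30939), (30467, 30940), (30468, 29809), (30469, 29810), (30470, 30950), (30471, 30952), (30472, 30957), (30473, 30749), (30474, 30751), (30475, 30853), (30476, 30854), (30477, 30953), (30478, 30943), (30479, 29826), (30480, 29827), (30481, 30964), (30482, 30812), (30483, 30813), (30484, 30814), (30485, 30758), (30486, 30572), (30487, 30571), (30488, 29835), (30489, 30530), (30490, 30922), (30491, 30924), (30492, 30927), (30493, 30928), (30494, 30929), (30495, 29849), (30496, 30920), (30497, 30976), (30498, 30778), (30499, 30872), (30500, 30891), (30501, 30454), (30502, 30452), (30503, 29951), (30504, 29864), (30505, 30362), (30506, 30365), (30507,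 29867), (30508, 29924), (30509, 30130), (30510, 30345), (30511, 30132), (30512, 29873), (30513, 29909), (30514, 30123), (30515, 30993), (30516, 30126), (30517, 29878), (30518, 29887), (30519, 29884), (30520, 30002), (30521, 29888), (30522, 29885), (30523, 30996), (30524, 31000), (30525, 30995), (30526, 30997), (30527, 30999)]
    ⟨e3 q30464 (flp_e L830391) q30918, e3 q30465 (flp_e L830546) q30938, e3 q30466 (flp_e L830550) q30939, e3 q30467 (flp_e L830561) q30940, e3 q30468 L825144 q29809, e3 q30469 L825148 q29810, e3 q30470 (flp_e L830631) q30950, e3 q30471 (flp_e L830643) q30952, e3 q30472 (flp_e L830679) q30957, e3 q30473 (flp_e L828693) q30749, e3 q30474 (flp_e L828715) q30751, e3 q30475 (flp_e L829788) q30853, e3 q30476 (flp_e L829805) q30854, e3 q30477 (flp_e L830654) q30953, e3 q30478 (flp_e L830581) q30943, e3 q30479 L825216 q29826, e3 q30480 L825220 q29827, e3 q30481 (flp_e L830724) q30964, e3 q30482 (flp_e L829389) q30812, e3 q30483 (flp_e L829393) q30813, e3 q30484 (flp_e L829402) q30814, e3 q30485 (flp_e L828778)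 q30758, e3 q30486 (flp_e L826418) q30572, e3 q30487 (flp_e L826398) q30571, e3 q30488 (flp_e L825269) q29835, e3 q30489 (flp_e L825781) q30530, e3 q30490 (flp_e L830434) q30922, e3 q30491 (flp_e L830446) q30924, e3 q30492 (flp_e L830478) q30927, e3 q30493 (flp_e L830482) q30928, e3 q30494 (flp_e L830493) q30929, e3 q30495 L825317 q29849, e3 q30496 (flp_e L830414) q30920, e3 q30497 (flp_e L830802) q30976, e3 q30498 (flp_e L829000) q30778, e3 q30499 (flp_e L829995) q30872, e3 q30500 (flp_e L830180) q30891, e3 q30501 L825351 q30454, e3 q30502 L825369 q30452, e3 q30503 L825389 q29951, e3 q30504 (flp_e L825397) q29864, e3 q30505 L825427 q30362, e3 q30506 L825434 q30365, e3 q30507 (flp_e L825446) q29867, e3 q30508 L825474 q29924, e3 q30509 L825490 q30130, e3 q30510 L825506 q30345, e3 q30511 L825518 q30132, e3 q30512 (flp_e L825528) q29873, e3 q30513 L825554 q29909, e3 q30514 L825570 q30123, e3 q30515 L831031 q30993, e3 q30516 L825591 q30126, e3 q30517 (flp_e L825601) q29878, e3 q30518 L825627 q29887, e3 q30519 L825641 q29884, e3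 q30520 L825654 q30002, e3 q30521 L825661 q29888, e3 q30522 L825675 q29885, e3 q30523 (flp_e L831093) q30996, e3 q30524 (flp_e L831138) q31000, e3 q30525 (flp_e L831077) q30995, e3 q30526 (flp_e L831097) q30997, e3 q30527 (flp_e L831124) q30999, trivial⟩ (by decide +kernel)

theorem ce_e_477 : ∀ r, r < 64 → sm ge (Qf (30528 + r)) = Qf (tab Gen.e (30528 + r)) :=
  edges_tab (sm ge) Qf (tab Gen.e) 30528 [(30528, 31001), (30529, 29889), (30530, 30489), (30531, 30266), (30532, 30268), (30533, 30401), (30534, 30265), (30535, 29897), (30536, 30388), (30537, 30156), (30538, 30267), (30539, 30353), (30540, 30389), (30541, 29904), (30542, 30270), (30543, 29993), (30544, 31021), (30545, 30988), (30546, 30408), (30547, 30990), (30548, 31025), (30549, 29911), (30550, 30385), (30551, 30005), (30552, 29926), (30553, 29921), (30554, 29922), (30555, 31027), (30556, 30984), (30557, 30159), (30558, 29927), (30559, 29930), (30560, 30015), (30561, 29940), (30562, 30263), (30563, 30016), (30564, 30045), (30565, 29942), (30566, 30046), (30567,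 30262), (30568, 30047), (30569, 30048), (30570, 31029), (30571, 30487), (30572, 30486), (30573, 29949), (30574, 29950), (30575, 31041), (30576, 29952), (30577, 30451), (30578, 30208), (30579, 30209), (30580, 30447), (30581, 30448), (30582, 30426), (30583, 30427), (30584, 30366), (30585, 30368), (30586, 30320), (30587, 30322), (30588, 29966), (30589, 30416), (30590, 29969), (30591, 30019)]
    ⟨e3 q30528 (flp_e L831155) q31001, e3 q30529 (flp_e L825755) q29889, e3 q30530 L825781 q30489, e3 q30531 L825801 q30266, e3 q30532 L825811 q30268, e3 q30533 L825835 q30401, e3 q30534 L825845 q30265, e3 q30535 (flp_e L825853) q29897, e3 q30536 L825881 q30388, e3 q30537 L825899 q30156, e3 q30538 L825909 q30267, e3 q30539 L825935 q30353, e3 q30540 L825943 q30389, e3 q30541 (flp_e L825951) q29904, e3 q30542 L825977 q30270, e3 q30543 L825993 q29993, e3 q30544 L831467 q31021, e3 q30545 (flp_e L830968) q30988, e3 q30546 L826032 q30408, e3 q30547 (flp_e L830990) q30990, e3 q30548 L831521 q31025, e3 q30549 (flp_e L826057) q29911, e3 q30550 L826078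 q30385, e3 q30551 L826090 q30005, e3 q30552 L826112 q29926, e3 q30553 L826134 q29921, e3 q30554 L826144 q29922, e3 q30555 (flp_e L831561) q31027, e3 q30556 (flp_e L830900) q30984, e3 q30557 L826198 q30159, e3 q30558 (flp_e L826202) q29927, e3 q30559 (flp_e L826222) q29930, e3 q30560 L826248 q30015, e3 q30561 L826262 q29940, e3 q30562 L826277 q30263, e3 q30563 L826286 q30016, e3 q30564 L826304 q30045, e3 q30565 L826318 q29942, e3 q30566 L826324 q30046, e3 q30567 L826341 q30262, e3 q30568 L826351 q30047, e3 q30569 L826368 q30048, e3 q30570 (flp_e L831597) q31029, e3 q30571 L826398 q30487, e3 q30572 L826418 q30486, e3 q30573 L826434 q29949, e3 q30574 L826448 q29950, e3 q30575 (flp_e L831773) q31041, e3 q30576 (flp_e L826470) q29952, e3 q30577 L826500 q30451, e3 q30578 L826518 q30208, e3 q30579 L826524 q30209, e3 q30580 L826553 q30447, e3 q30581 L826559 q30448, e3 q30582 L826588 q30426, e3 q30583 L826594 q30427, e3 q30584 L826621 q30366, e3 q30585 L826625 q30368, e3 q30586 L826638 q30320, e3 q30587 L826655 q30322, e3 q30588 (flp_e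 L826665) q29966, e3 q30589 L826693 q30416, e3 q30590 (flp_e L826695) q29969, e3 q30591 L826721 q30019, trivial⟩ (by decide +kernel)

theorem ce_e_478 : ∀ r, r < 64 → sm ge (Qf (30592 + r)) = Qf (tab Gen.e (30592 + r)) :=
  edges_tab (sm ge) Qf (tab Gen.e) 30592 [(30592, 30191), (30593, 30180), (30594, 30141), (30595, 29974), (30596, 29987), (30597, 29980), (30598, 30364), (30599, 29981), (30600, 31058), (30601, 31061), (30602, 29982), (30603, 30419), (30604, 30192), (30605, 31033), (30606, 31057), (30607, 31059), (30608, 30155), (30609, 29989), (30610, 30272), (30611, 31018), (30612, 30275), (30613, 30029), (30614, 30254), (30615, 30031), (30616, 31074), (30617, 29998), (30618, 30006), (30619, 30004), (30620, 30007), (30621, 30998), (30622, 30008), (30623, 31002), (30624, 31026), (30625, 31075), (30626, 31077), (30627, 31079), (30628, 30149), (30629, 30010), (30630, 30248), (30631, 30022), (30632, 30338), (30633, 30249), (30634, 31028), (30635, 31030), (30636, 31032), (30637, 30994), (30638, 31052), (30639, 31054), (30640,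 31086), (30641, 30127), (30642, 30301), (30643, 30302), (30644, 30393), (30645, 30394), (30646, 31071), (30647, 31099), (30648, 31100), (30649, 30032), (30650, 30115), (30651, 30037), (30652, 30241), (30653, 30250), (30654, 30053), (30655, 30251)]
    ⟨e3 q30592 L826737 q30191, e3 q30593 L826752 q30180, e3 q30594 L826760 q30141, e3 q30595 (flp_e L826770) q29974, e3 q30596 L826796 q29987, e3 q30597 L826812 q29980, e3 q30598 L826827 q30364, e3 q30599 L826835 q29981, e3 q30600 (flp_e L832054) q31058, e3 q30601 (flp_e L832091) q31061, e3 q30602 (flp_e L826867) q29982, e3 q30603 L826893 q30419, e3 q30604 L826909 q30192, e3 q30605 (flp_e L831645) q31033, e3 q30606 (flp_e L832036) q31057, e3 q30607 (flp_e L832058) q31059, e3 q30608 L826951 q30155, e3 q30609 (flp_e L826961) q29989, e3 q30610 L826985 q30272, e3 q30611 (flp_e L831434) q31018, e3 q30612 L827003 q30275, e3 q30613 L827019 q30029, e3 q30614 L827031 q30254, e3 q30615 L827035 q30031, e3 q30616 L832256 q31074, e3 q30617 (flp_e L827050) q29998, e3 q30618 L827075 q30006, e3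 q30619 L827087 q30004, e3 q30620 L827091 q30007, e3 q30621 (flp_e L831118) q30998, e3 q30622 L827110 q30008, e3 q30623 (flp_e L831170) q31002, e3 q30624 (flp_e L831541) q31026, e3 q30625 (flp_e L832274) q31075, e3 q30626 (flp_e L832296) q31077, e3 q30627 (flp_e L832318) q31079, e3 q30628 L827182 q30149, e3 q30629 (flp_e L827190) q30010, e3 q30630 L827216 q30248, e3 q30631 L827230 q30022, e3 q30632 L827245 q30338, e3 q30633 L827254 q30249, e3 q30634 (flp_e L831581) q31028, e3 q30635 (flp_e L831603) q31030, e3 q30636 (flp_e L831632) q31032, e3 q30637 (flp_e L831055) q30994, e3 q30638 (flp_e L831959) q31052, e3 q30639 (flp_e L831981) q31054, e3 q30640 (flp_e L832420) q31086, e3 q30641 L827351 q30127, e3 q30642 L827373 q30301, e3 q30643 L827379 q30302, e3 q30644 L827408 q30393, e3 q30645 L827414 q30394, e3 q30646 (flp_e L832233) q31071, e3 q30647 L832575 q31099, e3 q30648 L832589 q31100, e3 q30649 (flp_e L827462) q30032, e3 q30650 L827482 q30115, e3 q30651 (flp_e L827490) q30037, e3 q30652 L827520 q30241, e3 q30653 L827532 q30250,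 e3 q30654 L827546 q30053, e3 q30655 L827552 q30251, trivial⟩ (by decide +kernel)

theorem ce_e_479 : ∀ r, r < 64 → sm ge (Qf (30656 + r)) = Qf (tab Gen.e (30656 + r)) :=
  edges_tab (sm ge) Qf (tab Gen.e) 30656 [(30656, 30337), (30657, 30252), (30658, 31034), (30659, 31036), (30660, 31038), (30661, 31039), (30662, 30060), (30663, 30074), (30664, 30174), (30665, 30064), (30666, 30071), (30667, 30069), (30668, 31117), (30669, 31116), (30670, 31118), (30671, 31113), (30672, 30080), (30673, 31115), (30674, 30334), (30675, 30082), (30676, 30100), (30677, 30340), (30678, 30124), (30679, 30087), (30680, 30096), (30681, 30093), (30682, 30400), (30683, 30097), (30684, 30094), (30685, 31127), (30686, 31131), (30687, 31126), (30688, 31128), (30689, 31130), (30690, 31122), (30691, 30194), (30692, 31124), (30693, 31138), (30694, 30102), (30695, 30246), (30696, 30231), (30697, 30113), (30698, 30114), (30699, 31140), (30700, 30116), (30701, 30120), (30702, 31141), (30703, 31142), (30704, 30407), (30705, 30989), (30706, 31125), (30707, 30390),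 (30708, 30992), (30709, 30158), (30710, 30985), (30711, 30160), (30712, 31151), (30713, 30987), (30714, 30131), (30715, 30373), (30716, 30142), (30717, 30139), (30718, 30143), (30719, 30435)]
    ⟨e3 q30656 L827567 q30337, e3 q30657 L827577 q30252, e3 q30658 (flp_e L831661) q31034, e3 q30659 (flp_e L831691) q31036, e3 q30660 (flp_e L831721) q31038, e3 q30661 (flp_e L831737) q31039, e3 q30662 (flp_e L827626) q30060, e3 q30663 L827652 q30074, e3 q30664 L827668 q30174, e3 q30665 (flp_e L827672) q30064, e3 q30666 L827698 q30071, e3 q30667 L827718 q30069, e3 q30668 (flp_e L832843) q31117, e3 q30669 (flp_e L832821) q31116, e3 q30670 (flp_e L832849) q31118, e3 q30671 (flp_e L832772) q31113, e3 q30672 L827787 q30080, e3 q30673 (flp_e L832796) q31115, e3 q30674 L827822 q30334, e3 q30675 (flp_e L827824) q30082, e3 q30676 L827850 q30100, e3 q30677 L827866 q30340, e3 q30678 L827874 q30124, e3 q30679 (flp_e L827884) q30087, e3 q30680 L827910 q30096, e3 q30681 L827924 q30093, e3 q30682 L827937 q30400, e3 q30683 L827944 q30097, e3 q30684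 L827958 q30094, e3 q30685 (flp_e L833005) q31127, e3 q30686 (flp_e L833050) q31131, e3 q30687 (flp_e L832989) q31126, e3 q30688 (flp_e L833009) q31128, e3 q30689 (flp_e L833036) q31130, e3 q30690 (flp_e L832926) q31122, e3 q30691 L828055 q30194, e3 q30692 (flp_e L832948) q31124, e3 q30693 L833139 q31138, e3 q30694 (flp_e L828078) q30102, e3 q30695 L828099 q30246, e3 q30696 L828113 q30231, e3 q30697 L828131 q30113, e3 q30698 L828145 q30114, e3 q30699 (flp_e L833177) q31140, e3 q30700 (flp_e L828169) q30116, e3 q30701 L828195 q30120, e3 q30702 (flp_e L833199) q31141, e3 q30703 (flp_e L833203) q31142, e3 q30704 L828222 q30407, e3 q30705 (flp_e L830986) q30989, e3 q30706 (flp_e L832967) q31125, e3 q30707 L828250 q30390, e3 q30708 (flp_e L831021) q30992, e3 q30709 L828274 q30158, e3 q30710 (flp_e L830918) q30985, e3 q30711 L828284 q30160, e3 q30712 L833289 q31151, e3 q30713 (flp_e L830946) q30987, e3 q30714 (flp_e L828303) q30131, e3 q30715 L828321 q30373, e3 q30716 L828337 q30142, e3 q30717 L828345 q30139, e3 q30718 L828349 q30143,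 e3 q30719 L828364 q30435, trivial⟩ (by decide +kernel)

theorem ce_e_480 : ∀ r, r < 64 → sm ge (Qf (30720 + r)) = Qf (tab Gen.e (30720 + r)) :=
  edges_tab (sm ge) Qf (tab Gen.e) 30720 [(30720, 30144), (30721, 30140), (30722, 30145), (30723, 30294), (30724, 31156), (30725, 31056), (30726, 31153), (30727, 31155), (30728, 31158), (30729, 31159), (30730, 30146), (30731, 31083), (30732, 31084), (30733, 30204), (30734, 30203), (30735, 30205), (30736, 31068), (30737, 31014), (30738, 31069), (30739, 31171), (30740, 30157), (30741, 31147), (30742, 31174), (30743, 31175), (30744, 30161), (30745, 30307), (30746, 30165), (30747, 30335), (30748, 30336), (30749, 30473), (30750, 30175), (30751, 30474), (30752, 31114), (30753, 30370), (30754, 30190), (30755, 30371), (30756, 31055), (30757, 30372), (30758, 30485), (30759, 30374), (30760, 31187), (30761, 30376), (30762, 31189), (30763, 30378), (30764, 30185), (30765, 30380), (30766, 31053), (30767, 31064), (30768, 30193), (30769, 31191), (30770, 30196), (30771, 30200), (30772, 30453), (30773,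 30455), (30774, 31167), (30775, 30331), (30776, 30332), (30777, 31044), (30778, 30498), (30779, 30443), (30780, 30444), (30781, 30369), (30782, 30224), (30783, 30222)]
    ⟨e3 q30720 L828370 q30144, e3 q30721 L828380 q30140, e3 q30722 L828391 q30145, e3 q30723 L828402 q30294, e3 q30724 (flp_e L833351) q31156, e3 q30725 (flp_e L832014) q31056, e3 q30726 (flp_e L833321) q31153, e3 q30727 (flp_e L833341) q31155, e3 q30728 (flp_e L833371) q31158, e3 q30729 (flp_e L833381) q31159, e3 q30730 (flp_e L828477) q30146, e3 q30731 (flp_e L832369) q31083, e3 q30732 (flp_e L832384) q31084, e3 q30733 L828526 q30204, e3 q30734 L828546 q30203, e3 q30735 L828552 q30205, e3 q30736 (flp_e L832192) q31068, e3 q30737 (flp_e L831366) q31014, e3 q30738 (flp_e L832207) q31069, e3 q30739 L833514 q31171, e3 q30740 (flp_e L828596) q30157, e3 q30741 (flp_e L833266) q31147, e3 q30742 L833543 q31174, e3 q30743 L833553 q31175, e3 q30744 (flp_e L828630) q30161, e3 q30745 L828644 q30307, e3 q30746 (flp_e L828650) q30165, e3 q30747 L828672 q30335, e3 q30748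 L828676 q30336, e3 q30749 L828693 q30473, e3 q30750 L828709 q30175, e3 q30751 L828715 q30474, e3 q30752 (flp_e L832790) q31114, e3 q30753 L828744 q30370, e3 q30754 L828752 q30190, e3 q30755 L828756 q30371, e3 q30756 (flp_e L832006) q31055, e3 q30757 L828773 q30372, e3 q30758 L828778 q30485, e3 q30759 L828792 q30374, e3 q30760 L833655 q31187, e3 q30761 L828804 q30376, e3 q30762 L833679 q31189, e3 q30763 L828818 q30378, e3 q30764 (flp_e L828820) q30185, e3 q30765 L828838 q30380, e3 q30766 (flp_e L831977) q31053, e3 q30767 (flp_e L832143) q31064, e3 q30768 (flp_e L828868) q30193, e3 q30769 (flp_e L833709) q31191, e3 q30770 L828904 q30196, e3 q30771 L828914 q30200, e3 q30772 L828930 q30453, e3 q30773 L828936 q30455, e3 q30774 (flp_e L833477) q31167, e3 q30775 L828965 q30331, e3 q30776 L828971 q30332, e3 q30777 (flp_e L831822) q31044, e3 q30778 L829000 q30498, e3 q30779 L829020 q30443, e3 q30780 L829024 q30444, e3 q30781 L829039 q30369, e3 q30782 L829055 q30224, e3 q30783 L829069 q30222, trivial⟩ (by decide +kernel)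

theorem ce_e_481 : ∀ r, r < 64 → sm ge (Qf (30784 + r)) = Qf (tab Gen.e (30784 + r)) :=
  edges_tab (sm ge) Qf (tab Gen.e) 30784 [(30784, 30225), (30785, 30399), (30786, 30226), (30787, 30223), (30788, 31203), (30789, 31200), (30790, 31202), (30791, 31205), (30792, 30356), (30793, 30357), (30794, 30406), (30795, 31139), (30796, 30405), (30797, 30404), (30798, 30238), (30799, 30239), (30800, 31210), (30801, 31101), (30802, 31102), (30803, 30245), (30804, 31085), (30805, 31087), (30806, 31089), (30807, 31103), (30808, 31105), (30809, 31107), (30810, 30260), (30811, 30261), (30812, 30482), (30813, 30483), (30814, 30484), (30815, 31218), (30816, 31035), (30817, 31037), (30818, 31031), (30819, 31012), (30820, 31009), (30821, 31015), (30822, 31011), (30823, 31017), (30824, 30273), (30825, 31019), (30826, 31229), (30827, 31070), (30828, 30274), (30829, 30291), (30830, 30417), (30831, 30292), (30832, 30298), (30833, 30293), (30834, 30343), (30835, 30295), (30836, 30433), (30837, 30296), (30838, 30290), (30839, 30434), (30840, 30297),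 (30841, 31230), (30842, 31232), (30843, 31235), (30844, 31160), (30845, 31236), (30846, 31238), (30847, 31231)]
    ⟨e3 q30784 L829073 q30225, e3 q30785 L829088 q30399, e3 q30786 L829096 q30226, e3 q30787 L829110 q30223, e3 q30788 (flp_e L833865) q31203, e3 q30789 (flp_e L833823) q31200, e3 q30790 (flp_e L833849) q31202, e3 q30791 (flp_e L833889) q31205, e3 q30792 L829167 q30356, e3 q30793 L829173 q30357, e3 q30794 L829196 q30406, e3 q30795 (flp_e L833159) q31139, e3 q30796 L829212 q30405, e3 q30797 L829222 q30404, e3 q30798 L829240 q30238, e3 q30799 L829246 q30239, e3 q30800 (flp_e L833940) q31210, e3 q30801 (flp_e L832616) q31101, e3 q30802 (flp_e L832622) q31102, e3 q30803 L829302 q30245, e3 q30804 (flp_e L832404) q31085, e3 q30805 (flp_e L832426) q31087, e3 q30806 (flp_e L832455) q31089, e3 q30807 (flp_e L832641) q31103, e3 q30808 (flp_e L832669) q31105, e3 q30809 (flp_e L832699) q31107, e3 q30810 L829370 q30260, e3 q30811 L829374 q30261, e3 q30812 L829389 q30482, e3 q30813 L829393 q30483, e3 q30814 L829402 q30484, e3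 q30815 (flp_e L834029) q31218, e3 q30816 (flp_e L831679) q31035, e3 q30817 (flp_e L831710) q31037, e3 q30818 (flp_e L831624) q31031, e3 q30819 (flp_e L831324) q31012, e3 q30820 (flp_e L831277) q31009, e3 q30821 (flp_e L831376) q31015, e3 q30822 (flp_e L831304) q31011, e3 q30823 (flp_e L831416) q31017, e3 q30824 L829513 q30273, e3 q30825 (flp_e L831440) q31019, e3 q30826 L834140 q31229, e3 q30827 (flp_e L832223) q31070, e3 q30828 (flp_e L829552) q30274, e3 q30829 L829572 q30291, e3 q30830 L829580 q30417, e3 q30831 L829584 q30292, e3 q30832 L829599 q30298, e3 q30833 L829605 q30293, e3 q30834 L829615 q30343, e3 q30835 L829625 q30295, e3 q30836 L829633 q30433, e3 q30837 L829641 q30296, e3 q30838 L829651 q30290, e3 q30839 L829658 q30434, e3 q30840 L829667 q30297, e3 q30841 (flp_e L834156) q31230, e3 q30842 (flp_e L834176) q31232, e3 q30843 (flp_e L834206) q31235, e3 q30844 (flp_e L833393) q31160, e3 q30845 (flp_e L834212) q31236, e3 q30846 (flp_e L834231) q31238, e3 q30847 (flp_e L834170) q31231, trivial⟩ (by decide +kernel)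

theorem ce_e_482 : ∀ r, r < 64 → sm ge (Qf (30848 + r)) = Qf (tab Gen.e (30848 + r)) :=
  edges_tab (sm ge) Qf (tab Gen.e) 30848 [(30848, 31049), (30849, 31234), (30850, 30424), (30851, 30425), (30852, 31095), (30853, 30475), (30854, 30476), (30855, 30350), (30856, 30349), (30857, 30442), (30858, 30441), (30859, 30440), (30860, 30354), (30861, 30342), (30862, 31048), (30863, 30384), (30864, 31050), (30865, 30328), (30866, 30329), (30867, 30330), (30868, 31252), (30869, 31253), (30870, 31194), (30871, 31121), (30872, 30499), (30873, 31176), (30874, 31104), (30875, 31106), (30876, 31088), (30877, 31123), (30878, 31233), (30879, 30351), (30880, 30986), (30881, 30352), (30882, 30355), (30883, 31013), (30884, 31262), (30885, 31016), (30886, 31208), (30887, 30397), (30888, 30396), (30889, 30398), (30890, 30981), (30891, 30500), (30892, 30982), (30893, 31060), (30894, 30983), (30895, 31047), (30896, 31198), (30897, 31199), (30898, 31178), (30899, 31180), (30900, 31182), (30901, 31152), (30902, 31184), (30903, 31278), (30904, 31186),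 (30905, 30375), (30906, 31188), (30907, 30377), (30908, 31190), (30909, 31145), (30910, 30386), (30911, 30449)]
    ⟨e3 q30848 (flp_e L831905) q31049, e3 q30849 (flp_e L834199) q31234, e3 q30850 L829759 q30424, e3 q30851 L829765 q30425, e3 q30852 (flp_e L832524) q31095, e3 q30853 L829788 q30475, e3 q30854 L829805 q30476, e3 q30855 L829829 q30350, e3 q30856 L829835 q30349, e3 q30857 L829849 q30442, e3 q30858 L829857 q30441, e3 q30859 L829867 q30440, e3 q30860 L829881 q30354, e3 q30861 L829893 q30342, e3 q30862 (flp_e L831890) q31048, e3 q30863 L829917 q30384, e3 q30864 (flp_e L831921) q31050, e3 q30865 L829943 q30328, e3 q30866 L829947 q30329, e3 q30867 L829960 q30330, e3 q30868 (flp_e L834380) q31252, e3 q30869 (flp_e L834390) q31253, e3 q30870 (flp_e L833740) q31194, e3 q30871 L832912 q31121, e3 q30872 L829995 q30499, e3 q30873 (flp_e L833566) q31176, e3 q30874 (flp_e L832657) q31104, e3 q30875 (flp_e L832688) q31106, e3 q30876 (flp_e L832447) q31088, e3 q30877 (flp_e L832944) q31123, e3 q30878 (flp_e L834186) q31233, e3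 q30879 L830063 q30351, e3 q30880 (flp_e L830934) q30986, e3 q30881 L830079 q30352, e3 q30882 L830089 q30355, e3 q30883 (flp_e L831346) q31013, e3 q30884 (flp_e L834469) q31262, e3 q30885 (flp_e L831396) q31016, e3 q30886 (flp_e L833914) q31208, e3 q30887 L830145 q30397, e3 q30888 L830157 q30396, e3 q30889 L830161 q30398, e3 q30890 (flp_e L830853) q30981, e3 q30891 L830180 q30500, e3 q30892 (flp_e L830857) q30982, e3 q30893 (flp_e L832083) q31060, e3 q30894 (flp_e L830874) q30983, e3 q30895 (flp_e L831876) q31047, e3 q30896 (flp_e L833798) q31198, e3 q30897 (flp_e L833811) q31199, e3 q30898 (flp_e L833590) q31178, e3 q30899 (flp_e L833606) q31180, e3 q30900 (flp_e L833620) q31182, e3 q30901 (flp_e L833309) q31152, e3 q30902 (flp_e L833638) q31184, e3 q30903 L834589 q31278, e3 q30904 (flp_e L833653) q31186, e3 q30905 (flp_e L830270) q30375, e3 q30906 (flp_e L833675) q31188, e3 q30907 (flp_e L830290) q30377, e3 q30908 (flp_e L833697) q31190, e3 q30909 (flp_e L833244) q31145, e3 q30910 (flp_e L830320) q30386, e3 q30911 L830330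 q30449, trivial⟩ (by decide +kernel)

theorem ce_e_483 : ∀ r, r < 64 → sm ge (Qf (30912 + r)) = Qf (tab Gen.e (30912 + r)) :=
  edges_tab (sm ge) Qf (tab Gen.e) 30912 [(30912, 31096), (30913, 31264), (30914, 31201), (30915, 31204), (30916, 31129), (30917, 30463), (30918, 30464), (30919, 31209), (30920, 30496), (30921, 30428), (30922, 30490), (30923, 31051), (30924, 30491), (30925, 31063), (30926, 31065), (30927, 30492), (30928, 30493), (30929, 30494), (30930, 31247), (30931, 31046), (30932, 31288), (30933, 30432), (30934, 31295), (30935, 31237), (30936, 31154), (30937, 31157), (30938, 30465), (30939, 30466), (30940, 30467), (30941, 31250), (30942, 31197), (30943, 30478), (30944, 31045), (30945, 31280), (30946, 31042), (30947, 30980), (30948, 31043), (30949, 31192), (30950, 30470), (30951, 30462), (30952, 30471), (30953, 30477), (30954, 31286), (30955, 31298), (30956, 31299), (30957, 30472), (30958, 31305), (30959, 31309), (30960, 31177), (30961, 31249), (30962, 31306), (30963, 31301), (30964, 30481), (30965, 31313), (30966,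 31219), (30967, 31220), (30968, 31221), (30969, 31183), (30970, 31040), (30971, 31008), (30972, 31010), (30973, 31289), (30974, 31291), (30975, 31292)]
    ⟨e3 q30912 (flp_e L832542) q31096, e3 q30913 (flp_e L834488) q31264, e3 q30914 (flp_e L833839) q31201, e3 q30915 (flp_e L833880) q31204, e3 q30916 (flp_e L833030) q31129, e3 q30917 L830385 q30463, e3 q30918 L830391 q30464, e3 q30919 (flp_e L833932) q31209, e3 q30920 L830414 q30496, e3 q30921 L830424 q30428, e3 q30922 L830434 q30490, e3 q30923 (flp_e L831945) q31051, e3 q30924 L830446 q30491, e3 q30925 (flp_e L832125) q31063, e3 q30926 (flp_e L832149) q31065, e3 q30927 L830478 q30492, e3 q30928 L830482 q30493, e3 q30929 L830493 q30494, e3 q30930 (flp_e L834323) q31247, e3 q30931 (flp_e L831858) q31046, e3 q30932 (flp_e L834686) q31288, e3 q30933 L830516 q30432, e3 q30934 (flp_e L834740) q31295, e3 q30935 (flp_e L834221) q31237, e3 q30936 (flp_e L833335) q31154, e3 q30937 (flp_e L833364) q31157, e3 q30938 L830546 q30465, e3 q30939 L830550 q30466, e3 q30940 L830561 q30467,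 e3 q30941 (flp_e L834360) q31250, e3 q30942 (flp_e L833782) q31197, e3 q30943 L830581 q30478, e3 q30944 (flp_e L831840) q31045, e3 q30945 (flp_e L834613) q31280, e3 q30946 (flp_e L831797) q31042, e3 q30947 (flp_e L830829) q30980, e3 q30948 (flp_e L831803) q31043, e3 q30949 (flp_e L833719) q31192, e3 q30950 L830631 q30470, e3 q30951 L830639 q30462, e3 q30952 L830643 q30471, e3 q30953 L830654 q30477, e3 q30954 (flp_e L834667) q31286, e3 q30955 (flp_e L834758) q31298, e3 q30956 (flp_e L834766) q31299, e3 q30957 L830679 q30472, e3 q30958 (flp_e L834807) q31305, e3 q30959 (flp_e L834836) q31309, e3 q30960 (flp_e L833578) q31177, e3 q30961 (flp_e L834344) q31249, e3 q30962 (flp_e L834815) q31306, e3 q30963 (flp_e L834778) q31301, e3 q30964 L830724 q30481, e3 q30965 (flp_e L834866) q31313, e3 q30966 (flp_e L834041) q31219, e3 q30967 (flp_e L834049) q31220, e3 q30968 (flp_e L834060) q31221, e3 q30969 (flp_e L833626) q31183, e3 q30970 (flp_e L831755) q31040, e3 q30971 (flp_e L831255) q31008, e3 q30972 (flp_e L831281) q31010, e3 q30973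 (flp_e L834695) q31289, e3 q30974 (flp_e L834715) q31291, e3 q30975 (flp_e L834723) q31292, trivial⟩ (by decide +kernel)

theorem ce_e_484 : ∀ r, r < 64 → sm ge (Qf (30976 + r)) = Qf (tab Gen.e (30976 + r)) :=
  edges_tab (sm ge) Qf (tab Gen.e) 30976 [(30976, 30497), (30977, 31287), (30978, 31196), (30979, 31256), (30980, 30947), (30981, 30890), (30982, 30892), (30983, 30894), (30984, 30556), (30985, 30710), (30986, 30880), (30987, 30713), (30988, 30545), (30989, 30705), (30990, 30547), (30991, 31331), (30992, 30708), (30993, 30515), (30994, 30637), (30995, 30525), (30996, 30523), (30997, 30526), (30998, 30621), (30999, 30527), (31000, 30524), (31001, 30528), (31002, 30623), (31003, 31336), (31004, 31333), (31005, 31335), (31006, 31338), (31007, 31339), (31008, 30971), (31009, 30820), (31010, 30972), (31011, 30822), (31012, 30819), (31013, 30883), (31014, 30737), (31015, 30821), (31016, 30885), (31017, 30823), (31018, 30611), (31019, 30825), (31020, 31351), (31021, 30544), (31022, 31327), (31023, 31354), (31024, 31355), (31025,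 30548), (31026, 30624), (31027, 30555), (31028, 30634), (31029, 30570), (31030, 30635), (31031, 30818), (31032, 30636), (31033, 30605), (31034, 30658), (31035, 30816), (31036, 30659), (31037, 30817), (31038, 30660), (31039, 30661)]
    ⟨e3 q30976 L830802 q30497, e3 q30977 (flp_e L834675) q31287, e3 q30978 (flp_e L833767) q31196, e3 q30979 (flp_e L834415) q31256, e3 q30980 L830829 q30947, e3 q30981 L830853 q30890, e3 q30982 L830857 q30892, e3 q30983 L830874 q30894, e3 q30984 L830900 q30556, e3 q30985 L830918 q30710, e3 q30986 L830934 q30880, e3 q30987 L830946 q30713, e3 q30988 L830968 q30545, e3 q30989 L830986 q30705, e3 q30990 L830990 q30547, e3 q30991 L835074 q31331, e3 q30992 L831021 q30708, e3 q30993 (flp_e L831031) q30515, e3 q30994 L831055 q30637, e3 q30995 L831077 q30525, e3 q30996 L831093 q30523, e3 q30997 L831097 q30526, e3 q30998 L831118 q30621, e3 q30999 L831124 q30527, e3 q31000 L831138 q30524, e3 q31001 L831155 q30528, e3 q31002 L831170 q30623, e3 q31003 (flp_e L835156) q31336, e3 q31004 (flp_e L835110) q31333,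 e3 q31005 (flp_e L835140) q31335, e3 q31006 (flp_e L835184) q31338, e3 q31007 (flp_e L835198) q31339, e3 q31008 L831255 q30971, e3 q31009 L831277 q30820, e3 q31010 L831281 q30972, e3 q31011 L831304 q30822, e3 q31012 L831324 q30819, e3 q31013 L831346 q30883, e3 q31014 L831366 q30737, e3 q31015 L831376 q30821, e3 q31016 L831396 q30885, e3 q31017 L831416 q30823, e3 q31018 L831434 q30611, e3 q31019 L831440 q30825, e3 q31020 L835385 q31351, e3 q31021 (flp_e L831467) q30544, e3 q31022 (flp_e L835017) q31327, e3 q31023 L835426 q31354, e3 q31024 L835440 q31355, e3 q31025 (flp_e L831521) q30548, e3 q31026 L831541 q30624, e3 q31027 L831561 q30555, e3 q31028 L831581 q30634, e3 q31029 L831597 q30570, e3 q31030 L831603 q30635, e3 q31031 L831624 q30818, e3 q31032 L831632 q30636, e3 q31033 L831645 q30605, e3 q31034 L831661 q30658, e3 q31035 L831679 q30816, e3 q31036 L831691 q30659, e3 q31037 L831710 q30817, e3 q31038 L831721 q30660, e3 q31039 L831737 q30661, trivial⟩ (by decide +kernel)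

theorem ce_e_485 : ∀ r, r < 64 → sm ge (Qf (31040 + r)) = Qf (tab Gen.e (31040 + r)) :=
  edges_tab (sm ge) Qf (tab Gen.e) 31040 [(31040, 30970), (31041, 30575), (31042, 30946), (31043, 30948), (31044, 30777), (31045, 30944), (31046, 30931), (31047, 30895), (31048, 30862), (31049, 30848), (31050, 30864), (31051, 30923), (31052, 30638), (31053, 30766), (31054, 30639), (31055, 30756), (31056, 30725), (31057, 30606), (31058, 30600), (31059, 30607), (31060, 30893), (31061, 30601), (31062, 31381), (31063, 30925), (31064, 30767), (31065, 30926), (31066, 31361), (31067, 31379), (31068, 30736), (31069, 30738), (31070, 30827), (31071, 30646), (31072, 31390), (31073, 31391), (31074, 30616), (31075, 30625), (31076, 31334), (31077, 30626), (31078, 31337), (31079, 30627), (31080, 31340), (31081, 31392), (31082, 31394), (31083, 30731), (31084, 30732), (31085, 30804), (31086, 30640), (31087, 30805), (31088, 30876), (31089, 30806), (31090, 31356), (31091, 31358), (31092, 31360), (31093, 31332), (31094, 31375), (31095, 30852), (31096, 30912),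 (31097, 31388), (31098, 31412), (31099, 30647), (31100, 30648), (31101, 30801), (31102, 30802), (31103, 30807)]
    ⟨e3 q31040 L831755 q30970, e3 q31041 L831773 q30575, e3 q31042 L831797 q30946, e3 q31043 L831803 q30948, e3 q31044 L831822 q30777, e3 q31045 L831840 q30944, e3 q31046 L831858 q30931, e3 q31047 L831876 q30895, e3 q31048 L831890 q30862, e3 q31049 L831905 q30848, e3 q31050 L831921 q30864, e3 q31051 L831945 q30923, e3 q31052 L831959 q30638, e3 q31053 L831977 q30766, e3 q31054 L831981 q30639, e3 q31055 L832006 q30756, e3 q31056 L832014 q30725, e3 q31057 L832036 q30606, e3 q31058 L832054 q30600, e3 q31059 L832058 q30607, e3 q31060 L832083 q30893, e3 q31061 L832091 q30601, e3 q31062 (flp_e L835861) q31381, e3 q31063 L832125 q30925, e3 q31064 L832143 q30767, e3 q31065 L832149 q30926, e3 q31066 (flp_e L835529) q31361, e3 q31067 (flp_e L835825) q31379, e3 q31068 L832192 q30736, e3 q31069 L832207 q30738, e3 q31070 L832223 q30827, e3 q31071 L832233 q30646, e3 q31072 L835979 q31390, e3 q31073 L835995 q31391, e3 q31074 (flp_e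 L832256) q30616, e3 q31075 L832274 q30625, e3 q31076 (flp_e L835132) q31334, e3 q31077 L832296 q30626, e3 q31078 (flp_e L835177) q31337, e3 q31079 L832318 q30627, e3 q31080 (flp_e L835212) q31340, e3 q31081 (flp_e L836012) q31392, e3 q31082 (flp_e L836035) q31394, e3 q31083 L832369 q30731, e3 q31084 L832384 q30732, e3 q31085 L832404 q30804, e3 q31086 L832420 q30640, e3 q31087 L832426 q30805, e3 q31088 L832447 q30876, e3 q31089 L832455 q30806, e3 q31090 (flp_e L835457) q31356, e3 q31091 (flp_e L835489) q31358, e3 q31092 (flp_e L835517) q31360, e3 q31093 (flp_e L835096) q31332, e3 q31094 (flp_e L835760) q31375, e3 q31095 L832524 q30852, e3 q31096 L832542 q30912, e3 q31097 (flp_e L835962) q31388, e3 q31098 L836291 q31412, e3 q31099 (flp_e L832575) q30647, e3 q31100 (flp_e L832589) q30648, e3 q31101 L832616 q30801, e3 q31102 L832622 q30802, e3 q31103 L832641 q30807, trivial⟩ (by decide +kernel)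

theorem ce_e_486 : ∀ r, r < 64 → sm ge (Qf (31104 + r)) = Qf (tab Gen.e (31104 + r)) :=
  edges_tab (sm ge) Qf (tab Gen.e) 31104 [(31104, 30874), (31105, 30808), (31106, 30875), (31107, 30809), (31108, 31362), (31109, 31364), (31110, 31365), (31111, 31420), (31112, 31366), (31113, 30671), (31114, 30752), (31115, 30673), (31116, 30669), (31117, 30668), (31118, 30670), (31119, 31422), (31120, 31421), (31121, 30871), (31122, 30690), (31123, 30877), (31124, 30692), (31125, 30706), (31126, 30687), (31127, 30685), (31128, 30688), (31129, 30916), (31130, 30689), (31131, 30686), (31132, 31430), (31133, 31427), (31134, 31429), (31135, 31425), (31136, 31435), (31137, 31436), (31138, 30693), (31139, 30795), (31140, 30699), (31141, 30702), (31142, 30703), (31143, 31437), (31144, 31426), (31145, 30909), (31146, 31329), (31147, 30741), (31148, 31441), (31149, 31326), (31150, 31443), (31151, 30712), (31152, 30901), (31153, 30726), (31154, 30936), (31155, 30727), (31156, 30724), (31157, 30937), (31158, 30728), (31159, 30729), (31160, 30844),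 (31161, 31377), (31162, 31445), (31163, 31447), (31164, 31448), (31165, 31450), (31166, 31398), (31167, 30774)]
    ⟨e3 q31104 L832657 q30874, e3 q31105 L832669 q30808, e3 q31106 L832688 q30875, e3 q31107 L832699 q30809, e3 q31108 (flp_e L835545) q31362, e3 q31109 (flp_e L835576) q31364, e3 q31110 (flp_e L835594) q31365, e3 q31111 L836399 q31420, e3 q31112 (flp_e L835609) q31366, e3 q31113 L832772 q30671, e3 q31114 L832790 q30752, e3 q31115 L832796 q30673, e3 q31116 L832821 q30669, e3 q31117 L832843 q30668, e3 q31118 L832849 q30670, e3 q31119 (flp_e L836432) q31422, e3 q31120 (flp_e L836416) q31421, e3 q31121 (flp_e L832912) q30871, e3 q31122 L832926 q30690, e3 q31123 L832944 q30877, e3 q31124 L832948 q30692, e3 q31125 L832967 q30706, e3 q31126 L832989 q30687, e3 q31127 L833005 q30685, e3 q31128 L833009 q30688, e3 q31129 L833030 q30916, e3 q31130 L833036 q30689, e3 q31131 L833050 q30686, e3 q31132 (flp_e L836560) q31430, e3 q31133 (flp_e L836514) q31427, e3 q31134 (flp_e L836544) q31429, e3 q31135 (flp_e L836480) q31425,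 e3 q31136 L836621 q31435, e3 q31137 L836635 q31436, e3 q31138 (flp_e L833139) q30693, e3 q31139 L833159 q30795, e3 q31140 L833177 q30699, e3 q31141 L833199 q30702, e3 q31142 L833203 q30703, e3 q31143 (flp_e L836652) q31437, e3 q31144 (flp_e L836500) q31426, e3 q31145 L833244 q30909, e3 q31146 (flp_e L835051) q31329, e3 q31147 L833266 q30741, e3 q31148 L836686 q31441, e3 q31149 (flp_e L835003) q31326, e3 q31150 L836714 q31443, e3 q31151 (flp_e L833289) q30712, e3 q31152 L833309 q30901, e3 q31153 L833321 q30726, e3 q31154 L833335 q30936, e3 q31155 L833341 q30727, e3 q31156 L833351 q30724, e3 q31157 L833364 q30937, e3 q31158 L833371 q30728, e3 q31159 L833381 q30729, e3 q31160 L833393 q30844, e3 q31161 (flp_e L835796) q31377, e3 q31162 (flp_e L836742) q31445, e3 q31163 (flp_e L836765) q31447, e3 q31164 (flp_e L836775) q31448, e3 q31165 (flp_e L836802) q31450, e3 q31166 (flp_e L836095) q31398, e3 q31167 L833477 q30774, trivial⟩ (by decide +kernel)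

theorem ce_e_487 : ∀ r, r < 64 → sm ge (Qf (31168 + r)) = Qf (tab Gen.e (31168 + r)) :=
  edges_tab (sm ge) Qf (tab Gen.e) 31168 [(31168, 31387), (31169, 31458), (31170, 31459), (31171, 30739), (31172, 31439), (31173, 31461), (31174, 30742), (31175, 30743), (31176, 30873), (31177, 30960), (31178, 30898), (31179, 31376), (31180, 30899), (31181, 31378), (31182, 30900), (31183, 30969), (31184, 30902), (31185, 31471), (31186, 30904), (31187, 30760), (31188, 30906), (31189, 30762), (31190, 30908), (31191, 30769), (31192, 30949), (31193, 31455), (31194, 30870), (31195, 31368), (31196, 30978), (31197, 30942), (31198, 30896), (31199, 30897), (31200, 30789), (31201, 30914), (31202, 30790), (31203, 30788), (31204, 30915), (31205, 30791), (31206, 31477), (31207, 31479), (31208, 30886), (31209, 30919), (31210, 30800), (31211, 31482), (31212, 31413), (31213, 31399), (31214, 31401), (31215, 31403), (31216, 31414), (31217, 31416), (31218, 30815), (31219, 30966), (31220, 30967), (31221, 30968), (31222, 31487), (31223, 31363), (31224, 31357),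 (31225, 31359), (31226, 31347), (31227, 31346), (31228, 31348), (31229, 30826), (31230, 30841), (31231, 30847)]
    ⟨e3 q31168 (flp_e L835950) q31387, e3 q31169 L836891 q31458, e3 q31170 L836905 q31459, e3 q31171 (flp_e L833514) q30739, e3 q31172 (flp_e L836675) q31439, e3 q31173 L836927 q31461, e3 q31174 (flp_e L833543) q30742, e3 q31175 (flp_e L833553) q30743, e3 q31176 L833566 q30873, e3 q31177 L833578 q30960, e3 q31178 L833590 q30898, e3 q31179 (flp_e L835786) q31376, e3 q31180 L833606 q30899, e3 q31181 (flp_e L835819) q31378, e3 q31182 L833620 q30900, e3 q31183 L833626 q30969, e3 q31184 L833638 q30902, e3 q31185 L837023 q31471, e3 q31186 L833653 q30904, e3 q31187 (flp_e L833655) q30760, e3 q31188 L833675 q30906, e3 q31189 (flp_e L833679) q30762, e3 q31190 L833697 q30908, e3 q31191 L833709 q30769, e3 q31192 L833719 q30949, e3 q31193 (flp_e L836861) q31455, e3 q31194 L833740 q30870, e3 q31195 (flp_e L835639) q31368, e3 q31196 L833767 q30978, e3 q31197 L833782 q30942, e3 q31198 L833798 q30896, e3 q31199 L833811 q30897,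 e3 q31200 L833823 q30789, e3 q31201 L833839 q30914, e3 q31202 L833849 q30790, e3 q31203 L833865 q30788, e3 q31204 L833880 q30915, e3 q31205 L833889 q30791, e3 q31206 (flp_e L837110) q31477, e3 q31207 (flp_e L837137) q31479, e3 q31208 L833914 q30886, e3 q31209 L833932 q30919, e3 q31210 L833940 q30800, e3 q31211 (flp_e L837173) q31482, e3 q31212 (flp_e L836309) q31413, e3 q31213 (flp_e L836107) q31399, e3 q31214 (flp_e L836139) q31401, e3 q31215 (flp_e L836167) q31403, e3 q31216 (flp_e L836327) q31414, e3 q31217 (flp_e L836356) q31416, e3 q31218 L834029 q30815, e3 q31219 L834041 q30966, e3 q31220 L834049 q30967, e3 q31221 L834060 q30968, e3 q31222 (flp_e L837237) q31487, e3 q31223 (flp_e L835564) q31363, e3 q31224 (flp_e L835479) q31357, e3 q31225 (flp_e L835508) q31359, e3 q31226 (flp_e L835326) q31347, e3 q31227 (flp_e L835308) q31346, e3 q31228 (flp_e L835342) q31348, e3 q31229 (flp_e L834140) q30826, e3 q31230 L834156 q30841, e3 q31231 L834170 q30847, trivial⟩ (by decide +kernel)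

theorem ce_e_488 : ∀ r, r < 64 → sm ge (Qf (31232 + r)) = Qf (tab Gen.e (31232 + r)) :=
  edges_tab (sm ge) Qf (tab Gen.e) 31232 [(31232, 30842), (31233, 30878), (31234, 30849), (31235, 30843), (31236, 30845), (31237, 30935), (31238, 30846), (31239, 31493), (31240, 31495), (31241, 31449), (31242, 31451), (31243, 31497), (31244, 31372), (31245, 31494), (31246, 31374), (31247, 30930), (31248, 31409), (31249, 30961), (31250, 30941), (31251, 31373), (31252, 30868), (31253, 30869), (31254, 31505), (31255, 31474), (31256, 30979), (31257, 31462), (31258, 31415), (31259, 31400), (31260, 31402), (31261, 31325), (31262, 30884), (31263, 31481), (31264, 30913), (31265, 31322), (31266, 31380), (31267, 31323), (31268, 31382), (31269, 31324), (31270, 31371), (31271, 31476), (31272, 31464), (31273, 31466), (31274, 31442), (31275, 31444), (31276, 31516), (31277, 31470), (31278, 30903), (31279, 31472), (31280, 30945), (31281, 31410), (31282, 31509), (31283, 31478), (31284, 31428), (31285, 31431), (31286, 30954), (31287, 30977), (31288, 30932),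 (31289, 30973), (31290, 31383), (31291, 30974), (31292, 30975), (31293, 31503), (31294, 31370), (31295, 30934)]
    ⟨e3 q31232 L834176 q30842, e3 q31233 L834186 q30878, e3 q31234 L834199 q30849, e3 q31235 L834206 q30843, e3 q31236 L834212 q30845, e3 q31237 L834221 q30935, e3 q31238 L834231 q30846, e3 q31239 (flp_e L837293) q31493, e3 q31240 (flp_e L837316) q31495, e3 q31241 (flp_e L836787) q31449, e3 q31242 (flp_e L836815) q31451, e3 q31243 (flp_e L837334) q31497, e3 q31244 (flp_e L835711) q31372, e3 q31245 (flp_e L837308) q31494, e3 q31246 (flp_e L835746) q31374, e3 q31247 L834323 q30930, e3 q31248 (flp_e L836242) q31409, e3 q31249 L834344 q30961, e3 q31250 L834360 q30941, e3 q31251 (flp_e L835729) q31373, e3 q31252 L834380 q30868, e3 q31253 L834390 q30869, e3 q31254 (flp_e L837427) q31505, e3 q31255 (flp_e L837064) q31474, e3 q31256 L834415 q30979, e3 q31257 (flp_e L836941) q31462, e3 q31258 (flp_e L836344) q31415, e3 q31259 (flp_e L836129) q31400, e3 q31260 (flp_e L836158) q31402, e3 q31261 (flp_e L834989) q31325, e3 q31262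 L834469 q30884, e3 q31263 (flp_e L837156) q31481, e3 q31264 L834488 q30913, e3 q31265 (flp_e L834926) q31322, e3 q31266 (flp_e L835851) q31380, e3 q31267 (flp_e L834944) q31323, e3 q31268 (flp_e L835884) q31382, e3 q31269 (flp_e L834961) q31324, e3 q31270 (flp_e L835694) q31371, e3 q31271 (flp_e L837098) q31476, e3 q31272 (flp_e L836963) q31464, e3 q31273 (flp_e L836982) q31466, e3 q31274 (flp_e L836706) q31442, e3 q31275 (flp_e L836732) q31444, e3 q31276 L837518 q31516, e3 q31277 (flp_e L837021) q31470, e3 q31278 (flp_e L834589) q30903, e3 q31279 (flp_e L837043) q31472, e3 q31280 L834613 q30945, e3 q31281 (flp_e L836261) q31410, e3 q31282 (flp_e L837466) q31509, e3 q31283 (flp_e L837127) q31478, e3 q31284 (flp_e L836536) q31428, e3 q31285 (flp_e L836581) q31431, e3 q31286 L834667 q30954, e3 q31287 L834675 q30977, e3 q31288 L834686 q30932, e3 q31289 L834695 q30973, e3 q31290 (flp_e L835890) q31383, e3 q31291 L834715 q30974, e3 q31292 L834723 q30975, e3 q31293 (flp_e L837395) q31503, e3 q31294 (flp_e L835677) q31370, e3 q31295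 L834740 q30934, trivial⟩ (by decide +kernel)

theorem ce_e_489 : ∀ r, r < 64 → sm ge (Qf (31296 + r)) = Qf (tab Gen.e (31296 + r)) :=
  edges_tab (sm ge) Qf (tab Gen.e) 31296 [(31296, 31496), (31297, 31446), (31298, 30955), (31299, 30956), (31300, 31475), (31301, 30963), (31302, 31369), (31303, 31367), (31304, 31473), (31305, 30958), (31306, 30962), (31307, 31520), (31308, 31525), (31309, 30959), (31310, 31527), (31311, 31463), (31312, 31504), (31313, 30965), (31314, 31488), (31315, 31489), (31316, 31467), (31317, 31468), (31318, 31345), (31319, 31521), (31320, 31523), (31321, 31506), (31322, 31265), (31323, 31267), (31324, 31269), (31325, 31261), (31326, 31149), (31327, 31022), (31328, 31535), (31329, 31146), (31330, 31537), (31331, 30991), (31332, 31093), (31333, 31004), (31334, 31076), (31335, 31005), (31336, 31003), (31337, 31078), (31338, 31006), (31339, 31007), (31340, 31080), (31341, 31539), (31342, 31541), (31343, 31542), (31344, 31544), (31345, 31318), (31346, 31227), (31347, 31226), (31348, 31228), (31349, 31551),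 (31350, 31552), (31351, 31020), (31352, 31533), (31353, 31554), (31354, 31023), (31355, 31024), (31356, 31090), (31357, 31224), (31358, 31091), (31359, 31225)]
    ⟨e3 q31296 (flp_e L837325) q31496, e3 q31297 (flp_e L836757) q31446, e3 q31298 L834758 q30955, e3 q31299 L834766 q30956, e3 q31300 (flp_e L837081) q31475, e3 q31301 L834778 q30963, e3 q31302 (flp_e L835658) q31369, e3 q31303 (flp_e L835621) q31367, e3 q31304 (flp_e L837049) q31473, e3 q31305 L834807 q30958, e3 q31306 L834815 q30962, e3 q31307 (flp_e L837557) q31520, e3 q31308 (flp_e L837600) q31525, e3 q31309 L834836 q30959, e3 q31310 (flp_e L837616) q31527, e3 q31311 (flp_e L836952) q31463, e3 q31312 (flp_e L837411) q31504, e3 q31313 L834866 q30965, e3 q31314 (flp_e L837248) q31488, e3 q31315 (flp_e L837259) q31489, e3 q31316 (flp_e L836988) q31467, e3 q31317 (flp_e L837003) q31468, e3 q31318 (flp_e L835284) q31345, e3 q31319 (flp_e L837568) q31521, e3 q31320 (flp_e L837586) q31523, e3 q31321 (flp_e L837438) q31506, e3 q31322 L834926 q31265, e3 q31323 L834944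 q31267, e3 q31324 L834961 q31269, e3 q31325 L834989 q31261, e3 q31326 L835003 q31149, e3 q31327 L835017 q31022, e3 q31328 L837711 q31535, e3 q31329 L835051 q31146, e3 q31330 L837747 q31537, e3 q31331 (flp_e L835074) q30991, e3 q31332 L835096 q31093, e3 q31333 L835110 q31004, e3 q31334 L835132 q31076, e3 q31335 L835140 q31005, e3 q31336 L835156 q31003, e3 q31337 L835177 q31078, e3 q31338 L835184 q31006, e3 q31339 L835198 q31007, e3 q31340 L835212 q31080, e3 q31341 (flp_e L837785) q31539, e3 q31342 (flp_e L837816) q31541, e3 q31343 (flp_e L837832) q31542, e3 q31344 (flp_e L837867) q31544, e3 q31345 L835284 q31318, e3 q31346 L835308 q31227, e3 q31347 L835326 q31226, e3 q31348 L835342 q31228, e3 q31349 L837975 q31551, e3 q31350 L837993 q31552, e3 q31351 (flp_e L835385) q31020, e3 q31352 (flp_e L837684) q31533, e3 q31353 L838025 q31554, e3 q31354 (flp_e L835426) q31023, e3 q31355 (flp_e L835440) q31024, e3 q31356 L835457 q31090, e3 q31357 L835479 q31224, e3 q31358 L835489 q31091, e3 q31359 L835508 q31225, trivial⟩ (by decide +kernel)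

theorem ce_e_490 : ∀ r, r < 64 → sm ge (Qf (31360 + r)) = Qf (tab Gen.e (31360 + r)) :=
  edges_tab (sm ge) Qf (tab Gen.e) 31360 [(31360, 31092), (31361, 31066), (31362, 31108), (31363, 31223), (31364, 31109), (31365, 31110), (31366, 31112), (31367, 31303), (31368, 31195), (31369, 31302), (31370, 31294), (31371, 31270), (31372, 31244), (31373, 31251), (31374, 31246), (31375, 31094), (31376, 31179), (31377, 31161), (31378, 31181), (31379, 31067), (31380, 31266), (31381, 31062), (31382, 31268), (31383, 31290), (31384, 31558), (31385, 31559), (31386, 31568), (31387, 31168), (31388, 31097), (31389, 31574), (31390, 31072), (31391, 31073), (31392, 31081), (31393, 31540), (31394, 31082), (31395, 31543), (31396, 31545), (31397, 31576), (31398, 31166), (31399, 31213), (31400, 31259), (31401, 31214), (31402, 31260), (31403, 31215), (31404, 31555), (31405, 31557), (31406, 31536), (31407, 31538), (31408, 31566), (31409, 31248), (31410, 31281), (31411, 31584), (31412, 31098), (31413, 31212), (31414, 31216), (31415, 31258), (31416, 31217),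 (31417, 31561), (31418, 31590), (31419, 31562), (31420, 31111), (31421, 31120), (31422, 31119), (31423, 31592)]
    ⟨e3 q31360 L835517 q31092, e3 q31361 L835529 q31066, e3 q31362 L835545 q31108, e3 q31363 L835564 q31223, e3 q31364 L835576 q31109, e3 q31365 L835594 q31110, e3 q31366 L835609 q31112, e3 q31367 L835621 q31303, e3 q31368 L835639 q31195, e3 q31369 L835658 q31302, e3 q31370 L835677 q31294, e3 q31371 L835694 q31270, e3 q31372 L835711 q31244, e3 q31373 L835729 q31251, e3 q31374 L835746 q31246, e3 q31375 L835760 q31094, e3 q31376 L835786 q31179, e3 q31377 L835796 q31161, e3 q31378 L835819 q31181, e3 q31379 L835825 q31067, e3 q31380 L835851 q31266, e3 q31381 L835861 q31062, e3 q31382 L835884 q31268, e3 q31383 L835890 q31290, e3 q31384 (flp_e L838090) q31558, e3 q31385 (flp_e L838107) q31559, e3 q31386 (flp_e L838260) q31568, e3 q31387 L835950 q31168, e3 q31388 L835962 q31097, e3 q31389 L838348 q31574, e3 q31390 (flp_e L835979) q31072, e3 q31391 (flp_e L835995) q31073, e3 q31392 L836012 q31081, e3 q31393 (flp_e L837808)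 q31540, e3 q31394 L836035 q31082, e3 q31395 (flp_e L837848) q31543, e3 q31396 (flp_e L837882) q31545, e3 q31397 (flp_e L838380) q31576, e3 q31398 L836095 q31166, e3 q31399 L836107 q31213, e3 q31400 L836129 q31259, e3 q31401 L836139 q31214, e3 q31402 L836158 q31260, e3 q31403 L836167 q31215, e3 q31404 (flp_e L838043) q31555, e3 q31405 (flp_e L838076) q31557, e3 q31406 (flp_e L837737) q31536, e3 q31407 (flp_e L837771) q31538, e3 q31408 (flp_e L838227) q31566, e3 q31409 L836242 q31248, e3 q31410 L836261 q31281, e3 q31411 L838493 q31584, e3 q31412 (flp_e L836291) q31098, e3 q31413 L836309 q31212, e3 q31414 L836327 q31216, e3 q31415 L836344 q31258, e3 q31416 L836356 q31217, e3 q31417 (flp_e L838143) q31561, e3 q31418 L838585 q31590, e3 q31419 (flp_e L838161) q31562, e3 q31420 (flp_e L836399) q31111, e3 q31421 L836416 q31120, e3 q31422 L836432 q31119, e3 q31423 (flp_e L838620) q31592, trivial⟩ (by decide +kernel)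

theorem ce_e_491 : ∀ r, r < 64 → sm ge (Qf (31424 + r)) = Qf (tab Gen.e (31424 + r)) :=
  edges_tab (sm ge) Qf (tab Gen.e) 31424 [(31424, 31591), (31425, 31135), (31426, 31144), (31427, 31133), (31428, 31284), (31429, 31134), (31430, 31132), (31431, 31285), (31432, 31594), (31433, 31593), (31434, 31597), (31435, 31136), (31436, 31137), (31437, 31143), (31438, 31598), (31439, 31172), (31440, 31600), (31441, 31148), (31442, 31274), (31443, 31150), (31444, 31275), (31445, 31162), (31446, 31297), (31447, 31163), (31448, 31164), (31449, 31241), (31450, 31165), (31451, 31242), (31452, 31603), (31453, 31604), (31454, 31578), (31455, 31193), (31456, 31572), (31457, 31608), (31458, 31169), (31459, 31170), (31460, 31609), (31461, 31173), (31462, 31257), (31463, 31311), (31464, 31272), (31465, 31567), (31466, 31273), (31467, 31316), (31468, 31317), (31469, 31613), (31470, 31277), (31471, 31185), (31472, 31279), (31473, 31304), (31474, 31255), (31475, 31300), (31476, 31271), (31477, 31206), (31478, 31283), (31479, 31207), (31480, 31617),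 (31481, 31263), (31482, 31211), (31483, 31585), (31484, 31579), (31485, 31581), (31486, 31587), (31487, 31222)]
    ⟨e3 q31424 (flp_e L838603) q31591, e3 q31425 L836480 q31135, e3 q31426 L836500 q31144, e3 q31427 L836514 q31133, e3 q31428 L836536 q31284, e3 q31429 L836544 q31134, e3 q31430 L836560 q31132, e3 q31431 L836581 q31285, e3 q31432 (flp_e L838656) q31594, e3 q31433 (flp_e L838639) q31593, e3 q31434 L838696 q31597, e3 q31435 (flp_e L836621) q31136, e3 q31436 (flp_e L836635) q31137, e3 q31437 L836652 q31143, e3 q31438 (flp_e L838714) q31598, e3 q31439 L836675 q31172, e3 q31440 L838730 q31600, e3 q31441 (flp_e L836686) q31148, e3 q31442 L836706 q31274, e3 q31443 (flp_e L836714) q31150, e3 q31444 L836732 q31275, e3 q31445 L836742 q31162, e3 q31446 L836757 q31297, e3 q31447 L836765 q31163, e3 q31448 L836775 q31164, e3 q31449 L836787 q31241, e3 q31450 L836802 q31165, e3 q31451 L836815 q31242, e3 q31452 (flp_e L838772) q31603, e3 q31453 (flp_e L838782) q31604, e3 q31454 (flp_e L838415) q31578, e3 q31455 L836861 q31193,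 e3 q31456 (flp_e L838329) q31572, e3 q31457 L838824 q31608, e3 q31458 (flp_e L836891) q31169, e3 q31459 (flp_e L836905) q31170, e3 q31460 L838838 q31609, e3 q31461 (flp_e L836927) q31173, e3 q31462 L836941 q31257, e3 q31463 L836952 q31311, e3 q31464 L836963 q31272, e3 q31465 (flp_e L838254) q31567, e3 q31466 L836982 q31273, e3 q31467 L836988 q31316, e3 q31468 L837003 q31317, e3 q31469 L838875 q31613, e3 q31470 L837021 q31277, e3 q31471 (flp_e L837023) q31185, e3 q31472 L837043 q31279, e3 q31473 L837049 q31304, e3 q31474 L837064 q31255, e3 q31475 L837081 q31300, e3 q31476 L837098 q31271, e3 q31477 L837110 q31206, e3 q31478 L837127 q31283, e3 q31479 L837137 q31207, e3 q31480 (flp_e L838936) q31617, e3 q31481 L837156 q31263, e3 q31482 L837173 q31211, e3 q31483 (flp_e L838512) q31585, e3 q31484 (flp_e L838427) q31579, e3 q31485 (flp_e L838460) q31581, e3 q31486 (flp_e L838551) q31587, e3 q31487 L837237 q31222, trivial⟩ (by decide +kernel)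

theorem ce_e_492 : ∀ r, r < 64 → sm ge (Qf (31488 + r)) = Qf (tab Gen.e (31488 + r)) :=
  edges_tab (sm ge) Qf (tab Gen.e) 31488 [(31488, 31314), (31489, 31315), (31490, 31560), (31491, 31556), (31492, 31549), (31493, 31239), (31494, 31245), (31495, 31240), (31496, 31296), (31497, 31243), (31498, 31622), (31499, 31605), (31500, 31564), (31501, 31621), (31502, 31565), (31503, 31293), (31504, 31312), (31505, 31254), (31506, 31321), (31507, 31586), (31508, 31580), (31509, 31282), (31510, 31531), (31511, 31569), (31512, 31532), (31513, 31615), (31514, 31611), (31515, 31601), (31516, 31276), (31517, 31614), (31518, 31616), (31519, 31595), (31520, 31307), (31521, 31319), (31522, 31570), (31523, 31320), (31524, 31602), (31525, 31308), (31526, 31563), (31527, 31310), (31528, 31619), (31529, 31612), (31530, 31548), (31531, 31510), (31532, 31512), (31533, 31352), (31534, 31633), (31535, 31328), (31536, 31406), (31537, 31330), (31538, 31407), (31539, 31341), (31540, 31393), (31541, 31342), (31542, 31343), (31543, 31395), (31544, 31344),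 (31545, 31396), (31546, 31636), (31547, 31637), (31548, 31530), (31549, 31492), (31550, 31641), (31551, 31349)]
    ⟨e3 q31488 L837248 q31314, e3 q31489 L837259 q31315, e3 q31490 (flp_e L838130) q31560, e3 q31491 (flp_e L838066) q31556, e3 q31492 (flp_e L837946) q31549, e3 q31493 L837293 q31239, e3 q31494 L837308 q31245, e3 q31495 L837316 q31240, e3 q31496 L837325 q31296, e3 q31497 L837334 q31243, e3 q31498 (flp_e L838987) q31622, e3 q31499 (flp_e L838796) q31605, e3 q31500 (flp_e L838195) q31564, e3 q31501 (flp_e L838980) q31621, e3 q31502 (flp_e L838213) q31565, e3 q31503 L837395 q31293, e3 q31504 L837411 q31312, e3 q31505 L837427 q31254, e3 q31506 L837438 q31321, e3 q31507 (flp_e L838538) q31586, e3 q31508 (flp_e L838450) q31580, e3 q31509 L837466 q31282, e3 q31510 (flp_e L837649) q31531, e3 q31511 (flp_e L838287) q31569, e3 q31512 (flp_e L837668) q31532, e3 q31513 (flp_e L838906) q31615, e3 q31514 (flp_e L838859) q31611, e3 q31515 (flp_e L838750) q31601, e3 q31516 (flp_e L837518) q31276, e3 q31517 (flp_e L838895) q31614,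 e3 q31518 (flp_e L838925) q31616, e3 q31519 (flp_e L838679) q31595, e3 q31520 L837557 q31307, e3 q31521 L837568 q31319, e3 q31522 (flp_e L838293) q31570, e3 q31523 L837586 q31320, e3 q31524 (flp_e L838765) q31602, e3 q31525 L837600 q31308, e3 q31526 (flp_e L838173) q31563, e3 q31527 L837616 q31310, e3 q31528 (flp_e L838960) q31619, e3 q31529 (flp_e L838867) q31612, e3 q31530 (flp_e L837927) q31548, e3 q31531 L837649 q31510, e3 q31532 L837668 q31512, e3 q31533 L837684 q31352, e3 q31534 L839097 q31633, e3 q31535 (flp_e L837711) q31328, e3 q31536 L837737 q31406, e3 q31537 (flp_e L837747) q31330, e3 q31538 L837771 q31407, e3 q31539 L837785 q31341, e3 q31540 L837808 q31393, e3 q31541 L837816 q31342, e3 q31542 L837832 q31343, e3 q31543 L837848 q31395, e3 q31544 L837867 q31344, e3 q31545 L837882 q31396, e3 q31546 (flp_e L839155) q31636, e3 q31547 (flp_e L839171) q31637, e3 q31548 L837927 q31530, e3 q31549 L837946 q31492, e3 q31550 L839233 q31641, e3 q31551 (flp_e L837975) q31349, trivial⟩ (by decide +kernel)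

theorem ce_e_493 : ∀ r, r < 64 → sm ge (Qf (31552 + r)) = Qf (tab Gen.e (31552 + r)) :=
  edges_tab (sm ge) Qf (tab Gen.e) 31552 [(31552, 31350), (31553, 31642), (31554, 31353), (31555, 31404), (31556, 31491), (31557, 31405), (31558, 31384), (31559, 31385), (31560, 31490), (31561, 31417), (31562, 31419), (31563, 31526), (31564, 31500), (31565, 31502), (31566, 31408), (31567, 31465), (31568, 31386), (31569, 31511), (31570, 31522), (31571, 31645), (31572, 31456), (31573, 31651), (31574, 31389), (31575, 31635), (31576, 31397), (31577, 31638), (31578, 31454), (31579, 31484), (31580, 31508), (31581, 31485), (31582, 31644), (31583, 31634), (31584, 31411), (31585, 31483), (31586, 31507), (31587, 31486), (31588, 31656), (31589, 31646), (31590, 31418), (31591, 31424), (31592, 31423), (31593, 31433), (31594, 31432), (31595, 31519), (31596, 31658), (31597, 31434), (31598, 31438), (31599, 31659), (31600, 31440), (31601, 31515), (31602, 31524), (31603, 31452), (31604, 31453), (31605, 31499), (31606, 31661), (31607, 31663), (31608, 31457),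 (31609, 31460), (31610, 31648), (31611, 31514), (31612, 31529), (31613, 31469), (31614, 31517), (31615, 31513)]
    ⟨e3 q31552 (flp_e L837993) q31350, e3 q31553 L839251 q31642, e3 q31554 (flp_e L838025) q31353, e3 q31555 L838043 q31404, e3 q31556 L838066 q31491, e3 q31557 L838076 q31405, e3 q31558 L838090 q31384, e3 q31559 L838107 q31385, e3 q31560 L838130 q31490, e3 q31561 L838143 q31417, e3 q31562 L838161 q31419, e3 q31563 L838173 q31526, e3 q31564 L838195 q31500, e3 q31565 L838213 q31502, e3 q31566 L838227 q31408, e3 q31567 L838254 q31465, e3 q31568 L838260 q31386, e3 q31569 L838287 q31511, e3 q31570 L838293 q31522, e3 q31571 (flp_e L839304) q31645, e3 q31572 L838329 q31456, e3 q31573 L839403 q31651, e3 q31574 (flp_e L838348) q31389, e3 q31575 (flp_e L839146) q31635, e3 q31576 L838380 q31397, e3 q31577 (flp_e L839187) q31638, e3 q31578 L838415 q31454, e3 q31579 L838427 q31484, e3 q31580 L838450 q31508, e3 q31581 L838460 q31485, e3 q31582 (flp_e L839290) q31644, e3 q31583 (flp_e L839123) q31634, e3 q31584 (flp_e L838493)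 q31411, e3 q31585 L838512 q31483, e3 q31586 L838538 q31507, e3 q31587 L838551 q31486, e3 q31588 L839484 q31656, e3 q31589 (flp_e L839325) q31646, e3 q31590 (flp_e L838585) q31418, e3 q31591 L838603 q31424, e3 q31592 L838620 q31423, e3 q31593 L838639 q31433, e3 q31594 L838656 q31432, e3 q31595 L838679 q31519, e3 q31596 L839514 q31658, e3 q31597 (flp_e L838696) q31434, e3 q31598 L838714 q31438, e3 q31599 L839529 q31659, e3 q31600 (flp_e L838730) q31440, e3 q31601 L838750 q31515, e3 q31602 L838765 q31524, e3 q31603 L838772 q31452, e3 q31604 L838782 q31453, e3 q31605 L838796 q31499, e3 q31606 (flp_e L839560) q31661, e3 q31607 L839581 q31663, e3 q31608 (flp_e L838824) q31457, e3 q31609 (flp_e L838838) q31460, e3 q31610 (flp_e L839367) q31648, e3 q31611 L838859 q31514, e3 q31612 L838867 q31529, e3 q31613 (flp_e L838875) q31469, e3 q31614 L838895 q31517, e3 q31615 L838906 q31513, trivial⟩ (by decide +kernel)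

theorem ce_e_494 : ∀ r, r < 55 → sm ge (Qf (31616 + r)) = Qf (tab Gen.e (31616 + r)) :=
  edges_tab (sm ge) Qf (tab Gen.e) 31616 [(31616, 31518), (31617, 31480), (31618, 31654), (31619, 31528), (31620, 31643), (31621, 31501), (31622, 31498), (31623, 31662), (31624, 31647), (31625, 31653), (31626, 31649), (31627, 31631), (31628, 31660), (31629, 31657), (31630, 31664), (31631, 31627), (31632, 31665), (31633, 31534), (31634, 31583), (31635, 31575), (31636, 31546), (31637, 31547), (31638, 31577), (31639, 31667), (31640, 31669), (31641, 31550), (31642, 31553), (31643, 31620), (31644, 31582), (31645, 31571), (31646, 31589), (31647, 31624), (31648, 31610), (31649, 31626), (31650, 31670), (31651, 31573), (31652, 31668), (31653, 31625), (31654, 31618), (31655, 31666), (31656, 31588), (31657, 31629), (31658, 31596), (31659, 31599), (31660, 31628), (31661, 31606), (31662, 31623), (31663, 31607), (31664, 31630), (31665, 31632), (31666, 31655), (31667, 31639), (31668, 31652), (31669, 31640), (31670, 31650)]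
    ⟨e3 q31616 L838925 q31518, e3 q31617 L838936 q31480, e3 q31618 (flp_e L839461) q31654, e3 q31619 L838960 q31528, e3 q31620 (flp_e L839279) q31643, e3 q31621 L838980 q31501, e3 q31622 L838987 q31498, e3 q31623 (flp_e L839573) q31662, e3 q31624 (flp_e L839342) q31647, e3 q31625 (flp_e L839450) q31653, e3 q31626 (flp_e L839384) q31649, e3 q31627 (flp_e L839070) q31631, e3 q31628 (flp_e L839547) q31660, e3 q31629 (flp_e L839512) q31657, e3 q31630 (flp_e L839599) q31664, e3 q31631 L839070 q31627, e3 q31632 L839607 q31665, e3 q31633 (flp_e L839097) q31534, e3 q31634 L839123 q31583, e3 q31635 L839146 q31575, e3 q31636 L839155 q31546, e3 q31637 L839171 q31547, e3 q31638 L839187 q31577, e3 q31639 (flp_e L839654) q31667, e3 q31640 L839683 q31669, e3 q31641 (flp_e L839233) q31550, e3 q31642 (flp_e L839251) q31553, e3 q31643 L839279 q31620, e3 q31644 L839290 q31582, e3 q31645 L839304 q31571, e3 q31646 L839325 q31589, e3 q31647 L839342 q31624, e3 q31648 L839367 q31610, e3 q31649 L839384 q31626, e3 q31650 (flp_e L839709) q31670, e3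 q31651 (flp_e L839403) q31573, e3 q31652 (flp_e L839671) q31668, e3 q31653 L839450 q31625, e3 q31654 L839461 q31618, e3 q31655 (flp_e L839635) q31666, e3 q31656 (flp_e L839484) q31588, e3 q31657 L839512 q31629, e3 q31658 (flp_e L839514) q31596, e3 q31659 (flp_e L839529) q31599, e3 q31660 L839547 q31628, e3 q31661 L839560 q31606, e3 q31662 L839573 q31623, e3 q31663 (flp_e L839581) q31607, e3 q31664 L839599 q31630, e3 q31665 (flp_e L839607) q31632, e3 q31666 L839635 q31655, e3 q31667 L839654 q31639, e3 q31668 L839671 q31652, e3 q31669 (flp_e L839683) q31640, e3 q31670 L839709 q31650, trivial⟩ (by decide +kernel)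

theorem cl_e : ∀ i, i < 31671 → sm ge (Qf i) = Qf (tab Gen.e i) :=
  all_of_chunks (fun i => sm ge (Qf i) = Qf (tab Gen.e i)) 494 55
    ⟨ce_e_0, ce_e_1, ce_e_2, ce_e_3, ce_e_4, ce_e_5, ce_e_6, ce_e_7, ce_e_8, ce_e_9, ce_e_10, ce_e_11, ce_e_12, ce_e_13, ce_e_14, ce_e_15, ce_e_16, ce_e_17, ce_e_18, ce_e_19, ce_e_20, ce_e_21, ce_e_22, ce_e_23, ce_e_24, ce_e_25, ce_e_26, ce_e_27, ce_e_28, ce_e_29, ce_e_30, ce_e_31, ce_e_32, ce_e_33, ce_e_34, ce_e_35, ce_e_36, ce_e_37, ce_e_38, ce_e_39, ce_e_40, ce_e_41, ce_e_42, ce_e_43, ce_e_44, ce_e_45, ce_e_46, ce_e_47, ce_e_48, ce_e_49, ce_e_50, ce_e_51, ce_e_52, ce_e_53, ce_e_54, ce_e_55, ce_e_56, ce_e_57, ce_e_58, ce_e_59, ce_e_60, ce_e_61, ce_e_62, ce_e_63, ce_e_64, ce_e_65, ce_e_66, ce_e_67, ce_e_68, ce_e_69, ce_e_70, ce_e_71, ce_e_72, ce_e_73, ce_e_74, ce_e_75, ce_e_76, ce_e_77, ce_e_78, ce_e_79, ce_e_80, ce_e_81, ce_e_82, ce_e_83, ce_e_84, ce_e_85, ce_e_86, ce_e_87, ce_e_88, ce_e_89, ce_e_90, ce_e_91, ce_e_92, ce_e_93, ce_e_94, ce_e_95, ce_e_96, ce_e_97, ce_e_98, ce_e_99, ce_e_100,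 ce_e_101, ce_e_102, ce_e_103, ce_e_104, ce_e_105, ce_e_106, ce_e_107, ce_e_108, ce_e_109, ce_e_110, ce_e_111, ce_e_112, ce_e_113, ce_e_114, ce_e_115, ce_e_116, ce_e_117, ce_e_118, ce_e_119, ce_e_120, ce_e_121, ce_e_122, ce_e_123, ce_e_124, ce_e_125, ce_e_126, ce_e_127, ce_e_128, ce_e_129, ce_e_130, ce_e_131, ce_e_132, ce_e_133, ce_e_134, ce_e_135, ce_e_136, ce_e_137, ce_e_138, ce_e_139, ce_e_140, ce_e_141, ce_e_142, ce_e_143, ce_e_144, ce_e_145, ce_e_146, ce_e_147, ce_e_148, ce_e_149, ce_e_150, ce_e_151, ce_e_152, ce_e_153, ce_e_154, ce_e_155, ce_e_156, ce_e_157, ce_e_158, ce_e_159, ce_e_160, ce_e_161, ce_e_162, ce_e_163, ce_e_164, ce_e_165, ce_e_166, ce_e_167, ce_e_168, ce_e_169, ce_e_170, ce_e_171, ce_e_172, ce_e_173, ce_e_174, ce_e_175, ce_e_176, ce_e_177, ce_e_178, ce_e_179, ce_e_180, ce_e_181, ce_e_182, ce_e_183, ce_e_184, ce_e_185, ce_e_186, ce_e_187, ce_e_188, ce_e_189, ce_e_190, ce_e_191, ce_e_192, ce_e_193, ce_e_194, ce_e_195, ce_e_196, ce_e_197, ce_e_198, ce_e_199, ce_e_200, ce_e_201, ce_e_202, ce_e_203, ce_e_204,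 ce_e_205, ce_e_206, ce_e_207, ce_e_208, ce_e_209, ce_e_210, ce_e_211, ce_e_212, ce_e_213, ce_e_214, ce_e_215, ce_e_216, ce_e_217, ce_e_218, ce_e_219, ce_e_220, ce_e_221, ce_e_222, ce_e_223, ce_e_224, ce_e_225, ce_e_226, ce_e_227, ce_e_228, ce_e_229, ce_e_230, ce_e_231, ce_e_232, ce_e_233, ce_e_234, ce_e_235, ce_e_236, ce_e_237, ce_e_238, ce_e_239, ce_e_240, ce_e_241, ce_e_242, ce_e_243, ce_e_244, ce_e_245, ce_e_246, ce_e_247, ce_e_248, ce_e_249, ce_e_250, ce_e_251, ce_e_252, ce_e_253, ce_e_254, ce_e_255, ce_e_256, ce_e_257, ce_e_258, ce_e_259, ce_e_260, ce_e_261, ce_e_262, ce_e_263, ce_e_264, ce_e_265, ce_e_266, ce_e_267, ce_e_268, ce_e_269, ce_e_270, ce_e_271, ce_e_272, ce_e_273, ce_e_274, ce_e_275, ce_e_276, ce_e_277, ce_e_278, ce_e_279, ce_e_280, ce_e_281, ce_e_282, ce_e_283, ce_e_284, ce_e_285, ce_e_286, ce_e_287, ce_e_288, ce_e_289, ce_e_290, ce_e_291, ce_e_292, ce_e_293, ce_e_294, ce_e_295, ce_e_296, ce_e_297, ce_e_298, ce_e_299, ce_e_300, ce_e_301, ce_e_302, ce_e_303, ce_e_304, ce_e_305, ce_e_306, ce_e_307, ce_e_308,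 ce_e_309, ce_e_310, ce_e_311, ce_e_312, ce_e_313, ce_e_314, ce_e_315, ce_e_316, ce_e_317, ce_e_318, ce_e_319, ce_e_320, ce_e_321, ce_e_322, ce_e_323, ce_e_324, ce_e_325, ce_e_326, ce_e_327, ce_e_328, ce_e_329, ce_e_330, ce_e_331, ce_e_332, ce_e_333, ce_e_334, ce_e_335, ce_e_336, ce_e_337, ce_e_338, ce_e_339, ce_e_340, ce_e_341, ce_e_342, ce_e_343, ce_e_344, ce_e_345, ce_e_346, ce_e_347, ce_e_348, ce_e_349, ce_e_350, ce_e_351, ce_e_352, ce_e_353, ce_e_354, ce_e_355, ce_e_356, ce_e_357, ce_e_358, ce_e_359, ce_e_360, ce_e_361, ce_e_362, ce_e_363, ce_e_364, ce_e_365, ce_e_366, ce_e_367, ce_e_368, ce_e_369, ce_e_370, ce_e_371, ce_e_372, ce_e_373, ce_e_374, ce_e_375, ce_e_376, ce_e_377, ce_e_378, ce_e_379, ce_e_380, ce_e_381, ce_e_382, ce_e_383, ce_e_384, ce_e_385, ce_e_386, ce_e_387, ce_e_388, ce_e_389, ce_e_390, ce_e_391, ce_e_392, ce_e_393, ce_e_394, ce_e_395, ce_e_396, ce_e_397, ce_e_398, ce_e_399, ce_e_400, ce_e_401, ce_e_402, ce_e_403, ce_e_404, ce_e_405, ce_e_406, ce_e_407, ce_e_408, ce_e_409, ce_e_410, ce_e_411, ce_e_412,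 ce_e_413, ce_e_414, ce_e_415, ce_e_416, ce_e_417, ce_e_418, ce_e_419, ce_e_420, ce_e_421, ce_e_422, ce_e_423, ce_e_424, ce_e_425, ce_e_426, ce_e_427, ce_e_428, ce_e_429, ce_e_430, ce_e_431, ce_e_432, ce_e_433, ce_e_434, ce_e_435, ce_e_436, ce_e_437, ce_e_438, ce_e_439, ce_e_440, ce_e_441, ce_e_442, ce_e_443, ce_e_444, ce_e_445, ce_e_446, ce_e_447, ce_e_448, ce_e_449, ce_e_450, ce_e_451, ce_e_452, ce_e_453, ce_e_454, ce_e_455, ce_e_456, ce_e_457, ce_e_458, ce_e_459, ce_e_460, ce_e_461, ce_e_462, ce_e_463, ce_e_464, ce_e_465, ce_e_466, ce_e_467, ce_e_468, ce_e_469, ce_e_470, ce_e_471, ce_e_472, ce_e_473, ce_e_474, ce_e_475, ce_e_476, ce_e_477, ce_e_478, ce_e_479, ce_e_480, ce_e_481, ce_e_482, ce_e_483, ce_e_484, ce_e_485, ce_e_486, ce_e_487, ce_e_488, ce_e_489, ce_e_490, ce_e_491, ce_e_492, ce_e_493, trivial⟩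
    ce_e_494


end Cfsg.Agent.Helper28.FicA
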